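/-
S5630 / module M7 (helper25), part a: basic facts on scalars, and step 1 (a prime `r` with `x ^ r` scalar
for every `x` in the minimal normal subgroup).
-/
import Cfsg.Agent.Lib.Lead.AschDefs

set_option autoImplicit false

namespace Cfsg.Agent.Lib.H25.Asch

open Cfsg Cfsg.Geo Cfsg.Agent.Lib.Lead.Asch
open scoped MatrixGroups Matrix

section anyfield

variable {F : Type*} [Field F] {n : ℕ}

/-- Scalars are central in `GL`. -/
theorem scalars_comm {z : GL (Fin n) F} (hz : z ∈ scalars (Fin n) F) (g : GL (Fin n) F) :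
    z * g = g * z := by
  obtain ⟨c, hc⟩ := (mem_scalars_iff z).1 hz
  apply Units.ext
  rw [Units.val_mul, Units.val_mul, hc, Matrix.mul_smul, Matrix.smul_mul, mul_one, one_mul]

/-- Conjugates of scalars are the same scalars. -/
theorem conj_scalar {z : GL (Fin n) F} (hz : z ∈ scalars (Fin n) F) (g : GL (Fin n) F) :
    g * z * g⁻¹ = z := by
  rw [← scalars_comm hz g, mul_inv_cancel_right]

theorem conj_mem_scalars_iff (x g : GL (Fin n) F) :
    g * x * g⁻¹ ∈ scalars (Fin n) F ↔ x ∈ scalars (Fin n) F := by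
  constructor
  · intro h
    have := (scalars_normal (ι := Fin n) (F := F)).conj_mem _ h g⁻¹
    simpa [mul_assoc] using this
  · intro h
    exact (scalars_normal (ι := Fin n) (F := F)).conj_mem _ h g

/-- The matrix of a scalar element: `c • 1` with `c` its `(i, i)` entry. -/
theorem scalar_eq_entry {z : GL (Fin n) F} (hz : z ∈ scalars (Fin n) F) (i : Fin n) :
    (z : Matrix (Fin n) (Fin n) F) = ((z : Matrix (Fin n) (Fin n) F) i i) • (1 : Matrix (Fin n) (Fin n) F) := by
  obtain ⟨c, hc⟩ := (mem_scalars_iff z).1 hz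
  rw [hc]
  simp

end anyfield

section finite

variable {F : Type*} [Field F] [Fintype F] {n : ℕ}

/-- **Step 1** of M7: a prime `r` such that `x ^ r` is scalar for every `x ∈ N`. -/
theorem exists_prime_pow_mem_scalars (H N : Subgroup (GL (Fin n) F))
    (hmin : MinimalModScalars H N)
    (hab : ∀ x ∈ N, ∀ y ∈ N, x * y * x⁻¹ * y⁻¹ ∈ scalars (Fin n) F) :
    ∃ r : ℕ, r.Prime ∧ ∀ x ∈ N, x ^ r ∈ scalars (Fin n) F := by
  classical
  set Z := scalars (Fin n) F with hZ
  let π : GL (Fin n) F →* GL (Fin n) F ⧸ Z := QuotientGroup.mk' Z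
  have hπ : ∀ g, π g = 1 ↔ g ∈ Z := fun g => QuotientGroup.eq_one_iff g
  -- images of elements of `N` commute
  have hcomm : ∀ x ∈ N, ∀ y ∈ N, Commute (π x) (π y) := by
    intro x hx y hy
    have h := (hπ _).2 (hab x hx y hy)
    rw [map_mul, map_mul, map_mul, map_inv, map_inv] at h
    have h2 : π x * π y = π y * π x := by
      have := congrArg (fun t => t * π y * π x) h
      simpa [mul_assoc] using this
    exact h2
  -- a non-scalar element
  obtain ⟨x, hxN, hxZ⟩ := SetLike.not_le_iff_exists.1 hmin.not_scal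
  set m := orderOf (π x) with hm
  have hm0 : 0 < m := orderOf_pos (π x)
  have hm1 : m ≠ 1 := by
    intro h
    exact hxZ ((hπ x).1 (orderOf_eq_one_iff.1 h))
  set r := m.minFac with hr
  have hrp : r.Prime := Nat.minFac_prime hm1
  have hrm : r ∣ m := Nat.minFac_dvd m
  refine ⟨r, hrp, ?_⟩
  -- the subgroup of elements of `N` whose `r`-th power is scalar
  let Nr : Subgroup (GL (Fin n) F) :=
    { carrier := {y | y ∈ N ∧ y ^ r ∈ Z}
      mul_mem' := by
        rintro a b ⟨ha, ha'⟩ ⟨hb, hb'⟩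
        refine ⟨N.mul_mem ha hb, ?_⟩
        rw [← hπ, map_pow, map_mul, (hcomm a ha b hb).mul_pow, ← map_pow, ← map_pow,
          (hπ _).2 ha', (hπ _).2 hb', one_mul]
      one_mem' := ⟨N.one_mem, by rw [one_pow]; exact Z.one_mem⟩
      inv_mem' := by
        rintro a ⟨ha, ha'⟩
        refine ⟨N.inv_mem ha, ?_⟩
        rw [inv_pow]
        exact Z.inv_mem ha' }
  have hNr_le : Nr ≤ N := fun y hy => hy.1
  have hNr_norm : NormalizedBy H Nr := by
    intro h hh y hy
    refine ⟨hmin.norm h hh y hy.1, ?_⟩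
    rw [conj_pow]
    exact (conj_mem_scalars_iff _ h).2 hy.2
  have hNr_scal : H ⊓ Z ≤ Nr := by
    intro y hy
    exact ⟨hmin.scal_le hy, Z.pow_mem hy.2 r⟩
  -- `x ^ (m / r)` lies in `Nr` and is not scalar
  have hx' : x ^ (m / r) ∈ Nr := by
    refine ⟨N.pow_mem hxN _, ?_⟩
    rw [← pow_mul, Nat.div_mul_cancel hrm, ← hπ, map_pow]
    exact pow_orderOf_eq_one (π x)
  have hx'' : x ^ (m / r) ∉ Z := by
    intro h
    have h1 : (π x) ^ (m / r) = 1 := by rw [← map_pow]; exact (hπ _).2 h
    have h2 : m ∣ m / r := orderOf_dvd_of_pow_eq_one h1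
    have h3 : m / r < m := Nat.div_lt_self hm0 hrp.one_lt
    have h4 : 0 < m / r := Nat.div_pos (Nat.le_of_dvd hm0 hrm) hrp.pos
    exact absurd (Nat.le_of_dvd h4 h2) (not_le.2 h3)
  rcases hmin.min Nr hNr_le hNr_norm hNr_scal with h | h
  · exact absurd (h hx') hx''
  · intro y hy
    have : y ∈ Nr := by rw [h]; exact hy
    exact this.2

end finite

end Cfsg.Agent.Lib.H25.Asch
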