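/-
S5630 / module M7 (helper25), part C-a: a maximal abelian subgroup, and a common eigenvector of an abelian
group of exponent dividing `z` over a field containing the `z`-th roots of unity.
-/
import Cfsg.Agent.Lib.H25.AschM7a

set_option autoImplicit false

namespace Cfsg.Agent.Lib.H25.Asch

open Cfsg Cfsg.Geo Cfsg.Agent.Lib.Lead.Asch
open scoped MatrixGroups Matrix

/-- In a finite group, every subgroup `R` has a maximal abelian subgroup `A`: abelian, and containing every
element of `R` that centralises it. -/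
theorem exists_maximal_abelian {G : Type*} [Group G] [Finite G] (R : Subgroup G) :
    ∃ A : Subgroup G, A ≤ R ∧ (∀ x ∈ A, ∀ y ∈ A, x * y = y * x) ∧
      ∀ g ∈ R, (∀ a ∈ A, g * a = a * g) → g ∈ A := by
  classical
  let S : Set (Subgroup G) := {A | A ≤ R ∧ ∀ x ∈ A, ∀ y ∈ A, x * y = y * x}
  have hfin : S.Finite := Set.toFinite S
  have hbot : (⊥ : Subgroup G) ∈ S := ⟨bot_le, by
    intro x hx y hy
    rw [Subgroup.mem_bot] at hx hy
    rw [hx, hy]⟩
  obtain ⟨A, -, hA⟩ := hfin.exists_le_maximal hbot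
  refine ⟨A, hA.prop.1, hA.prop.2, ?_⟩
  intro g hg hcomm
  have hk : ∀ x ∈ ((A : Set G) ∪ {g}), ∀ y ∈ ((A : Set G) ∪ {g}), x * y = y * x := by
    rintro x (hx | hx) y (hy | hy)
    · exact hA.prop.2 x hx y hy
    · rw [Set.mem_singleton_iff] at hy
      rw [hy]
      exact (hcomm x hx).symm
    · rw [Set.mem_singleton_iff] at hx
      rw [hx]
      exact hcomm y hy
    · rw [Set.mem_singleton_iff] at hx hy
      rw [hx, hy]
  have hA'S : Subgroup.closure ((A : Set G) ∪ {g}) ∈ S := by
    refine ⟨?_, ?_⟩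
    · rw [Subgroup.closure_le]
      rintro x (hx | hx)
      · exact hA.prop.1 hx
      · rw [Set.mem_singleton_iff] at hx
        rw [hx]
        exact hg
    · intro x hx y hy
      have := isMulCommutative_iff.1 (Subgroup.isMulCommutative_closure hk)
        (⟨x, hx⟩ : Subgroup.closure ((A : Set G) ∪ {g})) ⟨y, hy⟩
      exact congrArg Subtype.val this
  have hle : A ≤ Subgroup.closure ((A : Set G) ∪ {g}) :=
    fun x hx => Subgroup.subset_closure (Or.inl hx)
  exact hA.le_of_ge hA'S hle (Subgroup.subset_closure (Or.inr rfl))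

section eig

variable {K : Type*} [Field K] {n : ℕ}

/-- An abelian subgroup of `GL_n(K)`, `n > 0`, all of whose elements have `z`-th power `1`, over a field with a
primitive `z`-th root of unity, has a common eigenvector. -/
theorem exists_common_eigenvector (hn : 0 < n) (A : Subgroup (GL (Fin n) K))
    (hcomm : ∀ x ∈ A, ∀ y ∈ A, x * y = y * x) (z : ℕ) (hz0 : 0 < z) (hz : ∀ x ∈ A, x ^ z = 1)
    (ζ : K) (hζ : IsPrimitiveRoot ζ z) :
    ∃ v0 : Fin n → K, v0 ≠ 0 ∧
      ∀ a ∈ A, ∃ c : K, (a : Matrix (Fin n) (Fin n) K) *ᵥ v0 = c • v0 := by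
  classical
  have : Nonempty (Fin n) := ⟨⟨0, hn⟩⟩
  let S : Set (Submodule K (Fin n → K)) :=
    {W | W ≠ ⊥ ∧ ∀ a ∈ A, ∀ w ∈ W, (a : Matrix (Fin n) (Fin n) K) *ᵥ w ∈ W}
  have htop : (⊤ : Submodule K (Fin n → K)) ∈ S := ⟨top_ne_bot, fun _ _ _ _ => Submodule.mem_top⟩
  obtain ⟨W, hWS, hWmin⟩ := (wellFounded_lt (α := Submodule K (Fin n → K))).has_min S ⟨⊤, htop⟩
  have key : ∀ a ∈ A, ∃ c : K, ∀ w ∈ W, (a : Matrix (Fin n) (Fin n) K) *ᵥ w = c • w := by
    intro a ha
    set T : Module.End K (Fin n → K) := Matrix.toLin' (a : Matrix (Fin n) (Fin n) K) with hT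
    have hTW : ∀ w ∈ W, T w ∈ W := fun w hw => by
      rw [hT, Matrix.toLin'_apply]; exact hWS.2 a ha w hw
    set T' : Module.End K W := T.restrict hTW with hT'
    have hTz : T ^ z = 1 := by
      rw [hT, ← Matrix.toLin'_pow, ← Units.val_pow_eq_pow_val, hz a ha, Units.val_one,
        Matrix.toLin'_one]
      rfl
    have hT'z : T' ^ z = 1 := by
      ext x
      rw [hT', Module.End.pow_restrict z hTW, LinearMap.restrict_apply]
      simp [hTz]
    have haeval : Polynomial.aeval T' (Polynomial.X ^ z - Polynomial.C (1 : K)) = 0 := by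
      simp [hT'z]
    have hdvd : minpoly K T' ∣ Polynomial.X ^ z - Polynomial.C (1 : K) := minpoly.dvd K T' haeval
    have hsplit : (minpoly K T').Splits :=
      (Polynomial.X_pow_sub_one_splits hζ).of_dvd (Polynomial.X_pow_sub_C_ne_zero hz0 1) hdvd
    have hWnt : Nontrivial W := Submodule.nontrivial_iff_ne_bot.2 hWS.1
    have hdeg : (minpoly K T').degree ≠ 0 :=
      ne_of_gt (minpoly.degree_pos (Algebra.IsIntegral.isIntegral T'))
    obtain ⟨c, hc⟩ := hsplit.exists_eval_eq_zero hdeg
    have hev : T'.HasEigenvalue c := Module.End.hasEigenvalue_of_isRoot hc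
    obtain ⟨w', hw'⟩ := hev.exists_hasEigenvector
    have hw'1 : T' w' = c • w' := Module.End.mem_eigenspace_iff.1 hw'.1
    have hw'2 : T (w' : Fin n → K) = c • (w' : Fin n → K) := by
      have := congrArg Subtype.val hw'1
      simpa [hT'] using this
    refine ⟨c, ?_⟩
    set E : Submodule K (Fin n → K) := W ⊓ Module.End.eigenspace T c with hE
    have hES : E ∈ S := by
      refine ⟨?_, ?_⟩
      · intro hbot
        have hmem : (w' : Fin n → K) ∈ E := ⟨w'.2, Module.End.mem_eigenspace_iff.2 hw'2⟩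
        rw [hbot, Submodule.mem_bot] at hmem
        exact hw'.2 (Subtype.ext hmem)
      · intro b hb w hw
        refine ⟨hWS.2 b hb w hw.1, ?_⟩
        rw [SetLike.mem_coe, Module.End.mem_eigenspace_iff]
        have h1 : T w = c • w := Module.End.mem_eigenspace_iff.1 hw.2
        rw [hT, Matrix.toLin'_apply] at h1 ⊢
        rw [Matrix.mulVec_mulVec, ← Units.val_mul, hcomm a ha b hb, Units.val_mul,
          ← Matrix.mulVec_mulVec, h1, Matrix.mulVec_smul]
    have hEW : E = W := by
      by_contra hne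
      exact hWmin E hES (lt_of_le_of_ne inf_le_left hne)
    intro w hw
    have : w ∈ E := by rw [hEW]; exact hw
    have h1 : T w = c • w := Module.End.mem_eigenspace_iff.1 this.2
    rwa [hT, Matrix.toLin'_apply] at h1
  obtain ⟨v0, hv0W, hv0⟩ := Submodule.exists_mem_ne_zero_of_ne_bot hWS.1
  exact ⟨v0, hv0, fun a ha => (key a ha).imp fun c hc => hc v0 hv0W⟩

end eig

end Cfsg.Agent.Lib.H25.Asch
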