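/-
S5630 / module M7 (helper25), part C: an irreducible group of class 2 modulo scalars and exponent dividing `z`
over a field containing the `z`-th roots of unity is monomial in a suitable basis, with `z`-th roots of unity as
entries; hence it is realisable over every subfield containing the `z`-th roots of unity.
-/
import Cfsg.Agent.Lib.H25.AschM7Ca

set_option autoImplicit false

namespace Cfsg.Agent.Lib.H25.Asch

open Cfsg Cfsg.Geo Cfsg.Agent.Lib.Lead.Asch
open scoped MatrixGroups Matrix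

variable {F : Type*} [Field F] [Fintype F] {n : ℕ}

/-- **M7-C** / **L7a**. -/
theorem realisable_of_pow_eq_one (R : Subgroup (GL (Fin n) F))
    (hirr : ActsIrreducibly (matrixSet R))
    (hcl2 : ∀ x ∈ R, ∀ y ∈ R, x * y * x⁻¹ * y⁻¹ ∈ scalars (Fin n) F)
    (z : ℕ) (hz0 : 0 < z) (hz : ∀ x ∈ R, x ^ z = 1) (ζ : F) (hζ : IsPrimitiveRoot ζ z)
    (F₁ : Subfield F) (hroots : ∀ a : F, a ^ z = 1 → a ∈ F₁) :
    RealisableOver F₁ (matrixSet R) := by
  classical
  rcases Nat.eq_zero_or_pos n with rfl | hn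
  · exact ⟨1, fun s _ i => i.elim0⟩
  have hne : Nonempty (Fin n) := ⟨⟨0, hn⟩⟩
  obtain ⟨A, hAR, hAcomm, hAmax⟩ := exists_maximal_abelian R
  obtain ⟨v0, hv0, hev⟩ :=
    exists_common_eigenvector hn A hAcomm z hz0 (fun x hx => hz x (hAR hx)) ζ hζ
  choose! μ0 hμ0 using hev
  -- (f1) scalars of `R` lie in `A`
  have hAscal : ∀ c ∈ R, c ∈ scalars (Fin n) F → c ∈ A := fun c hc hcs =>
    hAmax c hc (fun a _ => scalars_comm hcs a)
  -- (f2) `A` is normal in `R`
  have hAnorm : ∀ g ∈ R, ∀ a ∈ A, g⁻¹ * a * g ∈ A := by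
    intro g hg a ha
    have h1 : a⁻¹ * g⁻¹ * a⁻¹⁻¹ * g⁻¹⁻¹ ∈ A :=
      hAscal _ (R.mul_mem (R.mul_mem (R.mul_mem (R.inv_mem (hAR ha)) (R.inv_mem hg))
        (R.inv_mem (R.inv_mem (hAR ha)))) (R.inv_mem (R.inv_mem hg)))
        (hcl2 _ (R.inv_mem (hAR ha)) _ (R.inv_mem hg))
    have h2 : g⁻¹ * a * g = a * (a⁻¹ * g⁻¹ * a⁻¹⁻¹ * g⁻¹⁻¹) := by group
    rw [h2]
    exact A.mul_mem ha h1
  -- (f3) `μ0` is multiplicative on `A`
  have hμ0_one : μ0 1 = 1 := by
    have h := hμ0 1 A.one_mem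
    rw [Units.val_one, Matrix.one_mulVec] at h
    have h' : (1 : F) • v0 = μ0 1 • v0 := by rw [one_smul]; exact h
    exact (smul_left_injective F hv0 h').symm
  have hμ0_mul : ∀ a ∈ A, ∀ b ∈ A, μ0 (a * b) = μ0 a * μ0 b := by
    intro a ha b hb
    have h := hμ0 (a * b) (A.mul_mem ha hb)
    rw [Units.val_mul, ← Matrix.mulVec_mulVec, hμ0 b hb, Matrix.mulVec_smul, hμ0 a ha, smul_smul] at h
    have := smul_left_injective F hv0 h
    rw [← this, mul_comm]
  have hμ0_pow : ∀ a ∈ A, ∀ k : ℕ, μ0 (a ^ k) = μ0 a ^ k := by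
    intro a ha k
    induction k with
    | zero => rw [pow_zero, pow_zero, hμ0_one]
    | succ k ih => rw [pow_succ, pow_succ, hμ0_mul _ (A.pow_mem ha k) _ ha, ih]
  -- (f4)
  have hμ0_z : ∀ a ∈ A, μ0 a ^ z = 1 := by
    intro a ha
    rw [← hμ0_pow a ha, hz a (hAR ha), hμ0_one]
  -- (f5) a scalar of `A` is `μ0 c • 1`
  have hμ0_scal : ∀ c ∈ A, c ∈ scalars (Fin n) F →
      (c : Matrix (Fin n) (Fin n) F) = μ0 c • (1 : Matrix (Fin n) (Fin n) F) := by
    intro c hc hcs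
    obtain ⟨l, hl⟩ := (mem_scalars_iff c).1 hcs
    have h := hμ0 c hc
    rw [hl, Matrix.smul_mulVec, Matrix.one_mulVec] at h
    rw [hl, smul_left_injective F hv0 h]
  -- (f6)
  have hchar : ∀ g ∈ R, ∀ a ∈ A, (a : Matrix (Fin n) (Fin n) F) *ᵥ ((g : Matrix (Fin n) (Fin n) F) *ᵥ v0) =
      μ0 (g⁻¹ * a * g) • ((g : Matrix (Fin n) (Fin n) F) *ᵥ v0) := by
    intro g hg a ha
    have h1 : a * g = g * (g⁻¹ * a * g) := by group
    rw [Matrix.mulVec_mulVec, ← Units.val_mul, h1, Units.val_mul, ← Matrix.mulVec_mulVec,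
      hμ0 _ (hAnorm g hg a ha), Matrix.mulVec_smul]
  -- (f7)
  have hmulA : ∀ (g : GL (Fin n) F), ∀ a ∈ A, ((g * a : GL (Fin n) F) : Matrix (Fin n) (Fin n) F) *ᵥ v0 =
      μ0 a • ((g : Matrix (Fin n) (Fin n) F) *ᵥ v0) := by
    intro g a ha
    rw [Units.val_mul, ← Matrix.mulVec_mulVec, hμ0 a ha, Matrix.mulVec_smul]
  -- (f8)
  have hinj : ∀ g ∈ R, ∀ g' ∈ R, (∀ a ∈ A, μ0 (g⁻¹ * a * g) = μ0 (g'⁻¹ * a * g')) → g⁻¹ * g' ∈ A := by
    intro g hg g' hg' h
    have hcomm : ∀ a ∈ A, (g' * g⁻¹) * a = a * (g' * g⁻¹) := by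
      intro a ha
      -- commutators
      have hc : ∀ x ∈ R, a⁻¹ * (x⁻¹ * a * x) ∈ A ∧ a⁻¹ * (x⁻¹ * a * x) ∈ scalars (Fin n) F := by
        intro x hx
        have e : a⁻¹ * (x⁻¹ * a * x) = a⁻¹ * x⁻¹ * a⁻¹⁻¹ * x⁻¹⁻¹ := by group
        have hs : a⁻¹ * x⁻¹ * a⁻¹⁻¹ * x⁻¹⁻¹ ∈ scalars (Fin n) F :=
          hcl2 _ (R.inv_mem (hAR ha)) _ (R.inv_mem hx)
        rw [e]
        refine ⟨hAscal _ ?_ hs, hs⟩
        exact R.mul_mem (R.mul_mem (R.mul_mem (R.inv_mem (hAR ha)) (R.inv_mem hx))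
          (R.inv_mem (R.inv_mem (hAR ha)))) (R.inv_mem (R.inv_mem hx))
      have hval : ∀ x ∈ R, μ0 (x⁻¹ * a * x) = μ0 a * μ0 (a⁻¹ * (x⁻¹ * a * x)) := by
        intro x hx
        rw [← hμ0_mul a ha _ (hc x hx).1]
        congr 1
        group
      have h1 := h a ha
      rw [hval g hg, hval g' hg'] at h1
      have ha0 : μ0 a ≠ 0 := by
        intro h0
        have := hμ0_z a ha
        rw [h0, zero_pow hz0.ne'] at this
        exact zero_ne_one this
      have h2 : μ0 (a⁻¹ * (g⁻¹ * a * g)) = μ0 (a⁻¹ * (g'⁻¹ * a * g')) := mul_left_cancel₀ ha0 h1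
      have h3 : a⁻¹ * (g⁻¹ * a * g) = a⁻¹ * (g'⁻¹ * a * g') := by
        apply Units.ext
        rw [hμ0_scal _ (hc g hg).1 (hc g hg).2, hμ0_scal _ (hc g' hg').1 (hc g' hg').2, h2]
      have h4 : g⁻¹ * a * g = g'⁻¹ * a * g' := mul_left_cancel h3
      have h5 : (g' * g⁻¹) * a = g' * (g⁻¹ * a * g) * g⁻¹ := by group
      rw [h5, h4]
      group
    have h6 : g' * g⁻¹ ∈ A := hAmax _ (R.mul_mem hg' (R.inv_mem hg)) hcomm
    have h7 := hAnorm g hg _ h6
    have h8 : g⁻¹ * (g' * g⁻¹) * g = g⁻¹ * g' := by group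
    rwa [h8] at h7
  -- the quotient `R ⧸ A` and the vectors `w q`
  let A' : Subgroup R := A.subgroupOf R
  let Q := R ⧸ A'
  let rep : Q → GL (Fin n) F := fun q => ((Quotient.out q : R) : GL (Fin n) F)
  have hrep : ∀ q, rep q ∈ R := fun q => (Quotient.out q : R).2
  let w : Q → (Fin n → F) := fun q => (rep q : Matrix (Fin n) (Fin n) F) *ᵥ v0
  have hGLne : ∀ g : GL (Fin n) F, (g : Matrix (Fin n) (Fin n) F) *ᵥ v0 ≠ 0 := by
    intro g h0
    have := congrArg (fun v => ((g⁻¹ : GL (Fin n) F) : Matrix (Fin n) (Fin n) F) *ᵥ v) h0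
    simp only [Matrix.mulVec_mulVec, ← Units.val_mul, inv_mul_cancel, Units.val_one,
      Matrix.one_mulVec, Matrix.mulVec_zero] at this
    exact hv0 this
  -- (f9)
  have hrepr : ∀ g ∈ R, ∃ q : Q, ∃ c : F, c ∈ F₁ ∧
      (g : Matrix (Fin n) (Fin n) F) *ᵥ v0 = c • w q := by
    intro g hg
    obtain ⟨h, hh⟩ := QuotientGroup.mk_out_eq_mul A' (⟨g, hg⟩ : R)
    have hhA : ((h : R) : GL (Fin n) F) ∈ A := Subgroup.mem_subgroupOf.1 h.2
    refine ⟨(QuotientGroup.mk (⟨g, hg⟩ : R) : Q), μ0 (((h : R) : GL (Fin n) F)⁻¹), ?_, ?_⟩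
    · exact hroots _ (hμ0_z _ (A.inv_mem hhA))
    · have h1 : rep (QuotientGroup.mk (⟨g, hg⟩ : R) : Q) = g * ((h : R) : GL (Fin n) F) := by
        show ((Quotient.out (QuotientGroup.mk (⟨g, hg⟩ : R) : Q) : R) : GL (Fin n) F) = _
        rw [hh]
        rfl
      have h2 : g = rep (QuotientGroup.mk (⟨g, hg⟩ : R) : Q) * (((h : R) : GL (Fin n) F))⁻¹ := by
        rw [h1, mul_inv_cancel_right]
      conv_lhs => rw [h2]
      exact hmulA _ _ (A.inv_mem hhA)
  -- spanning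
  have hspan : ⊤ ≤ Submodule.span F (Set.range w) := by
    let U' : Submodule F (Fin n → F) :=
      Submodule.span F ((fun g : GL (Fin n) F => (g : Matrix (Fin n) (Fin n) F) *ᵥ v0) '' (R : Set (GL (Fin n) F)))
    have hU'inv : ∀ s ∈ matrixSet R, U'.map (Matrix.toLin' s) ≤ U' := by
      rintro s ⟨x, hx, rfl⟩
      rw [Submodule.map_span_le]
      rintro _ ⟨g, hg, rfl⟩
      rw [Matrix.toLin'_apply, Matrix.mulVec_mulVec, ← Units.val_mul]
      exact Submodule.subset_span ⟨x * g, R.mul_mem hx hg, rfl⟩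
    have hU'ne : U' ≠ ⊥ := by
      intro hbot
      have : v0 ∈ U' := Submodule.subset_span ⟨1, R.one_mem, by simp⟩
      rw [hbot, Submodule.mem_bot] at this
      exact hv0 this
    have hU'top : U' = ⊤ := (hirr U' hU'inv).resolve_left hU'ne
    rw [← hU'top]
    apply Submodule.span_le.2
    rintro _ ⟨g, hg, rfl⟩
    obtain ⟨q, c, -, hc⟩ := hrepr g hg
    show (g : Matrix (Fin n) (Fin n) F) *ᵥ v0 ∈ Submodule.span F (Set.range w)
    rw [hc]
    exact Submodule.smul_mem _ _ (Submodule.subset_span ⟨q, rfl⟩)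
  -- linear independence
  let f : A → Module.End F (Fin n → F) := fun a => Matrix.toLin' ((a : GL (Fin n) F) : Matrix (Fin n) (Fin n) F)
  have hfcomm : ∀ i j : A, Commute (f i) (f j) := by
    intro i j
    show f i * f j = f j * f i
    simp only [f]
    rw [Module.End.mul_eq_comp, Module.End.mul_eq_comp, ← Matrix.toLin'_mul, ← Matrix.toLin'_mul,
      ← Units.val_mul, ← Units.val_mul, hAcomm _ i.2 _ j.2]
  have hind := Module.End.independent_iInf_maxGenEigenspace_of_forall_mapsTo f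
    (fun i j φ => Module.End.mapsTo_maxGenEigenspace_of_comm (hfcomm j i) φ)
  let χ : Q → (A → F) := fun q a => μ0 ((rep q)⁻¹ * (a : GL (Fin n) F) * rep q)
  have hχinj : Function.Injective χ := by
    intro q q' h
    have h1 : (rep q)⁻¹ * rep q' ∈ A :=
      hinj _ (hrep q) _ (hrep q') (fun a ha => congrFun h ⟨a, ha⟩)
    have h2 : (QuotientGroup.mk (Quotient.out q) : Q) = QuotientGroup.mk (Quotient.out q') := by
      rw [QuotientGroup.eq]
      exact Subgroup.mem_subgroupOf.2 h1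
    rwa [QuotientGroup.out_eq', QuotientGroup.out_eq'] at h2
  have hli : LinearIndependent F w := by
    refine (hind.comp hχinj).linearIndependent _ (fun q => ?_) (fun q => hGLne _)
    simp only [Function.comp_apply]
    rw [Submodule.mem_iInf]
    intro a
    apply Module.End.eigenspace_le_maxGenEigenspace
    rw [Module.End.mem_eigenspace_iff]
    show Matrix.toLin' ((a : GL (Fin n) F) : Matrix (Fin n) (Fin n) F) (w q) = _
    rw [Matrix.toLin'_apply]
    exact hchar _ (hrep q) _ a.2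
  -- the basis
  have : Fintype Q := Fintype.ofFinite Q
  let b : Module.Basis Q F (Fin n → F) := Module.Basis.mk hli hspan
  have hb : ∀ q, b q = w q := fun q => by simp [b]
  have hcard : Fintype.card Q = Fintype.card (Fin n) := by
    rw [← Module.finrank_eq_card_basis b, Module.finrank_fin_fun, Fintype.card_fin]
  let e : Q ≃ Fin n := Fintype.equivOfCardEq hcard
  let b' : Module.Basis (Fin n) F (Fin n → F) := b.reindex e
  have hb' : ∀ j, b' j = w (e.symm j) := fun j => by simp [b', hb]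
  let std : Module.Basis (Fin n) F (Fin n → F) := Pi.basisFun F (Fin n)
  let P : GL (Fin n) F :=
    ⟨b'.toMatrix std, std.toMatrix b', Module.Basis.toMatrix_mul_toMatrix_flip _ _,
      Module.Basis.toMatrix_mul_toMatrix_flip _ _⟩
  refine ⟨P, ?_⟩
  rintro s ⟨g, hg, rfl⟩ i j
  have hconj : (P : Matrix (Fin n) (Fin n) F) * (g : Matrix (Fin n) (Fin n) F) *
      ((P⁻¹ : GL (Fin n) F) : Matrix (Fin n) (Fin n) F) =
      LinearMap.toMatrix b' b' (Matrix.toLin' (g : Matrix (Fin n) (Fin n) F)) := by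
    have h := basis_toMatrix_mul_linearMap_toMatrix_mul_basis_toMatrix b' std b' std
      (Matrix.toLin' (g : Matrix (Fin n) (Fin n) F))
    rw [← h]
    congr 2
    simp [std]
  rw [hconj, LinearMap.toMatrix_apply, hb', Matrix.toLin'_apply]
  -- `g * rep q` is `c • w q'`
  have hgq : (g : Matrix (Fin n) (Fin n) F) *ᵥ w (e.symm j) =
      ((g * rep (e.symm j) : GL (Fin n) F) : Matrix (Fin n) (Fin n) F) *ᵥ v0 := by
    simp only [w]
    rw [Matrix.mulVec_mulVec, Units.val_mul]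
  obtain ⟨q', c, hc, hq'⟩ := hrepr (g * rep (e.symm j)) (R.mul_mem hg (hrep _))
  rw [hgq, hq', ← hb q']
  have h3 : b q' = b' (e q') := by simp [b']
  rw [h3, map_smul, Module.Basis.repr_self, Finsupp.smul_apply, Finsupp.single_apply, smul_eq_mul]
  split_ifs
  · rw [mul_one]; exact hc
  · rw [mul_zero]; exact F₁.zero_mem

end Cfsg.Agent.Lib.H25.Asch
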