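/-
S5630 / module M7 (helper25), end-game lemmas L6 and L7c, form part: if traces vanish off the scalars of an
absolutely irreducible group `R`, a non-zero invariant bilinear (resp. sesquilinear) form exists as soon as the
scalars of `R` have square one (resp. are inverted by the involutory field automorphism `σ`).
-/
import Cfsg.Agent.Lib.Lead.AschDefs2
import Cfsg.Agent.Lib.H3.AschU4

set_option autoImplicit false

namespace Cfsg.Agent.Lib.H25.Asch

open Cfsg Cfsg.Geo Cfsg.Agent.Lib.Lead.Asch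
open scoped MatrixGroups Matrix

variable {F : Type*} [Field F] [Fintype F] {n : ℕ}

omit [Fintype F] in
/-- Summing over `R` a function vanishing off the scalars and constant on them. -/
theorem sum_eq_card_mul (R : Subgroup (GL (Fin n) F)) [Fintype R] (t : GL (Fin n) F → F) (v : F)
    (h0 : ∀ x ∈ R, x ∉ scalars (Fin n) F → t x = 0)
    (h1 : ∀ x ∈ R, x ∈ scalars (Fin n) F → t x = v) :
    ∑ g : R, t (g : GL (Fin n) F) = (Nat.card ↥(R ⊓ scalars (Fin n) F) : F) * v := by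
  classical
  have hf : ∀ g : R, t (g : GL (Fin n) F) =
      if (g : GL (Fin n) F) ∈ scalars (Fin n) F then v else 0 := by
    intro g
    split_ifs with h
    · exact h1 g g.2 h
    · exact h0 g g.2 h
  rw [Finset.sum_congr rfl (fun g _ => hf g), Finset.sum_ite, Finset.sum_const_zero, add_zero,
    Finset.sum_const, nsmul_eq_mul]
  congr 2
  rw [← Fintype.card_subtype, ← Nat.card_eq_fintype_card]
  apply Nat.card_congr
  exact
    { toFun := fun g => ⟨(g.1 : GL (Fin n) F), ⟨g.1.2, g.2⟩⟩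
      invFun := fun g => ⟨⟨g.1, g.2.1⟩, g.2.2⟩
      left_inv := fun g => rfl
      right_inv := fun g => rfl }

omit [Fintype F] in
/-- The trace of a scalar matrix. -/
theorem trace_of_scalar (c : F) :
    Matrix.trace (c • (1 : Matrix (Fin n) (Fin n) F)) = (n : F) * c := by
  rw [Matrix.trace_smul, Matrix.trace_one, Fintype.card_fin, smul_eq_mul, mul_comm]

/-- **L6**, form part. -/
theorem exists_bilin_of_scalars_sq (R : Subgroup (GL (Fin n) F))
    (htr : ∀ x ∈ R, x ∉ scalars (Fin n) F → Matrix.trace (x : Matrix (Fin n) (Fin n) F) = 0)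
    (hsq : ∀ x ∈ R, x ∈ scalars (Fin n) F → x ^ 2 = 1)
    (hn0 : (n : F) ≠ 0) (hz0 : (Nat.card ↥(R ⊓ scalars (Fin n) F) : F) ≠ 0) :
    ∃ B : Matrix (Fin n) (Fin n) F, B ≠ 0 ∧ ∀ g ∈ matrixSet R, gᵀ * B * g = B := by
  classical
  have : Fintype R := Fintype.ofFinite R
  let ρ₁ : R → Matrix (Fin n) (Fin n) F := fun g => ((g : GL (Fin n) F) : Matrix (Fin n) (Fin n) F)
  let ρ₂ : R → Matrix (Fin n) (Fin n) F :=
    fun g => (((g : GL (Fin n) F)⁻¹ : GL (Fin n) F) : Matrix (Fin n) (Fin n) F)ᵀ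
  have h₁ : ∀ g h, ρ₁ (g * h) = ρ₁ g * ρ₁ h := fun g h => by simp [ρ₁]
  have h₂ : ∀ g h, ρ₂ (g * h) = ρ₂ g * ρ₂ h := fun g h => by
    simp only [ρ₂, Subgroup.coe_mul, mul_inv_rev, Units.val_mul, Matrix.transpose_mul]
  have h₁' : ρ₁ 1 = 1 := by simp [ρ₁]
  have hsum : ∑ g : R, Matrix.trace (ρ₂ g) * Matrix.trace (ρ₁ g⁻¹) ≠ 0 := by
    let t : GL (Fin n) F → F := fun x => Matrix.trace (x : Matrix (Fin n) (Fin n) F) ^ 2
    have e1 : ∀ g : R, Matrix.trace (ρ₂ g) * Matrix.trace (ρ₁ g⁻¹) =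
        t ((g⁻¹ : R) : GL (Fin n) F) := by
      intro g
      simp only [t, ρ₁, ρ₂, Matrix.trace_transpose, Subgroup.coe_inv]
      ring
    have hre : ∀ t : GL (Fin n) F → F, ∑ g : R, t ((g⁻¹ : R) : GL (Fin n) F) =
        ∑ g : R, t (g : GL (Fin n) F) := fun t =>
      Equiv.sum_comp (Equiv.inv R) (fun g : R => t (g : GL (Fin n) F))
    rw [Finset.sum_congr rfl (fun g _ => e1 g), hre t, sum_eq_card_mul R t ((n : F) ^ 2)]
    · exact mul_ne_zero hz0 (pow_ne_zero 2 hn0)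
    · intro x hx hxs
      simp only [t]
      rw [htr x hx hxs]
      ring
    · intro x hx hxs
      obtain ⟨c, hc⟩ := (mem_scalars_iff x).1 hxs
      simp only [t]
      rw [hc, trace_of_scalar]
      have h2 := hsq x hx hxs
      have h3 : ((x ^ 2 : GL (Fin n) F) : Matrix (Fin n) (Fin n) F) = 1 := by rw [h2]; rfl
      rw [Units.val_pow_eq_pow_val, hc, smul_pow, one_pow] at h3
      have h4 : ((c : F) ^ 2) = 1 := by
        have hnn : 0 < n := Nat.pos_of_ne_zero (by rintro rfl; simp at hn0)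
        have := congrFun (congrFun h3 ⟨0, hnn⟩) ⟨0, hnn⟩
        simpa using this
      rw [mul_pow, h4, mul_one]
  obtain ⟨T, hT0, hT⟩ := Cfsg.Agent.Lib.H3.Asch.exists_intertwiner ρ₁ ρ₂ h₁ h₂ h₁' hsum
  refine ⟨T, hT0, ?_⟩
  rintro s ⟨g, hg, rfl⟩
  have h := hT ⟨g, hg⟩
  simp only [ρ₁, ρ₂] at h
  rw [Matrix.mul_assoc, h, ← Matrix.mul_assoc, ← Matrix.transpose_mul, ← Units.val_mul,
    inv_mul_cancel, Units.val_one, Matrix.transpose_one, Matrix.one_mul]

/-- **L7c**, form part. -/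
theorem exists_sesq_of_scalars_unitary (R : Subgroup (GL (Fin n) F))
    (htr : ∀ x ∈ R, x ∉ scalars (Fin n) F → Matrix.trace (x : Matrix (Fin n) (Fin n) F) = 0)
    (σ : F ≃+* F)
    (hsc : ∀ x ∈ R, ∀ c : F, (x : Matrix (Fin n) (Fin n) F) = c • (1 : Matrix (Fin n) (Fin n) F) → σ c * c = 1)
    (hn0 : (n : F) ≠ 0) (hz0 : (Nat.card ↥(R ⊓ scalars (Fin n) F) : F) ≠ 0) :
    ∃ B : Matrix (Fin n) (Fin n) F, B ≠ 0 ∧ ∀ g ∈ matrixSet R, gᵀ * B * g.map σ = B := by
  classical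
  have : Fintype R := Fintype.ofFinite R
  let ρ₁ : R → Matrix (Fin n) (Fin n) F :=
    fun g => ((g : GL (Fin n) F) : Matrix (Fin n) (Fin n) F).map σ
  let ρ₂ : R → Matrix (Fin n) (Fin n) F :=
    fun g => (((g : GL (Fin n) F)⁻¹ : GL (Fin n) F) : Matrix (Fin n) (Fin n) F)ᵀ
  have h₁ : ∀ g h, ρ₁ (g * h) = ρ₁ g * ρ₁ h := fun g h => by
    simp only [ρ₁, Subgroup.coe_mul, Units.val_mul]
    exact Matrix.map_mul (f := (σ : F →+* F))
  have h₂ : ∀ g h, ρ₂ (g * h) = ρ₂ g * ρ₂ h := fun g h => by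
    simp only [ρ₂, Subgroup.coe_mul, mul_inv_rev, Units.val_mul, Matrix.transpose_mul]
  have h₁' : ρ₁ 1 = 1 := by
    simp only [ρ₁, Subgroup.coe_one, Units.val_one]
    exact Matrix.map_one (σ : F →+* F) (map_zero _) (map_one _)
  have htrmap : ∀ M : Matrix (Fin n) (Fin n) F, Matrix.trace (M.map σ) = σ (Matrix.trace M) := by
    intro M
    simp only [Matrix.trace, Matrix.diag, Matrix.map_apply, map_sum]
  have hsum : ∑ g : R, Matrix.trace (ρ₂ g) * Matrix.trace (ρ₁ g⁻¹) ≠ 0 := by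
    let t : GL (Fin n) F → F := fun x => Matrix.trace (x : Matrix (Fin n) (Fin n) F) *
            σ (Matrix.trace (x : Matrix (Fin n) (Fin n) F))
    have e1 : ∀ g : R, Matrix.trace (ρ₂ g) * Matrix.trace (ρ₁ g⁻¹) =
        t ((g⁻¹ : R) : GL (Fin n) F) := by
      intro g
      simp only [t, ρ₁, ρ₂, Matrix.trace_transpose, Subgroup.coe_inv, htrmap]
    have hre : ∀ t : GL (Fin n) F → F, ∑ g : R, t ((g⁻¹ : R) : GL (Fin n) F) =
        ∑ g : R, t (g : GL (Fin n) F) := fun t =>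
      Equiv.sum_comp (Equiv.inv R) (fun g : R => t (g : GL (Fin n) F))
    rw [Finset.sum_congr rfl (fun g _ => e1 g), hre t, sum_eq_card_mul R t ((n : F) ^ 2)]
    · exact mul_ne_zero hz0 (pow_ne_zero 2 hn0)
    · intro x hx hxs
      simp only [t]
      rw [htr x hx hxs, zero_mul]
    · intro x hx hxs
      obtain ⟨c, hc⟩ := (mem_scalars_iff x).1 hxs
      simp only [t]
      rw [hc, trace_of_scalar, map_mul, map_natCast]
      have := hsc x hx c hc
      calc (n : F) * (c : F) * ((n : F) * σ (c : F)) = (n : F) ^ 2 * (σ (c : F) * (c : F)) := by ring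
        _ = (n : F) ^ 2 := by rw [this, mul_one]
  obtain ⟨T, hT0, hT⟩ := Cfsg.Agent.Lib.H3.Asch.exists_intertwiner ρ₁ ρ₂ h₁ h₂ h₁' hsum
  refine ⟨T, hT0, ?_⟩
  rintro s ⟨g, hg, rfl⟩
  have h := hT ⟨g, hg⟩
  simp only [ρ₁, ρ₂] at h
  rw [Matrix.mul_assoc, h, ← Matrix.mul_assoc, ← Matrix.transpose_mul, ← Units.val_mul,
    inv_mul_cancel, Units.val_one, Matrix.transpose_one, Matrix.one_mul]

end Cfsg.Agent.Lib.H25.Asch
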