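/-
S5630 / module M7 (helper25), end-game lemmas L6 and L7c (exact signatures of
tools/blueprints/S5630_M7b_sigs.lean): form parts of `AschM7L` + helper6's U3b / U3c.
-/
import Cfsg.Agent.Lib.H25.AschM7L
import Cfsg.Agent.Lib.H6.AschU3c

set_option autoImplicit false

namespace Cfsg.Agent.Lib.H25.Asch

open Cfsg Cfsg.Geo Cfsg.Agent.Lib.Lead.Asch
open scoped MatrixGroups Matrix Kronecker

variable {F : Type*} [Field F] [Fintype F] {n : ℕ}

/-- **M7-L6**: traces vanish off the scalars and the scalars of `R` have square one: `R` fixes a non-zero bilinear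
form. -/
theorem tame_of_scalars_sq (hn : 3 ≤ n) (H R : Subgroup (GL (Fin n) F)) (hnorm : NormalizedBy H R)
    (habs : ActsAbsolutelyIrreducibly (matrixSet R))
    (htr : ∀ x ∈ R, x ∉ scalars (Fin n) F → Matrix.trace (x : Matrix (Fin n) (Fin n) F) = 0)
    (hsq : ∀ x ∈ R, x ∈ scalars (Fin n) F → x ^ 2 = 1)
    (hn0 : (n : F) ≠ 0) (hz0 : (Nat.card ↥(R ⊓ scalars (Fin n) F) : F) ≠ 0) : TameC8 H := by
  obtain ⟨B, hB, hfix⟩ := exists_bilin_of_scalars_sq R htr hsq hn0 hz0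
  exact Cfsg.Agent.Lib.H6.Asch.tame_of_fixes_bilin_matrix hn H R hnorm habs B hB hfix

/-- **M7-L7c**: traces vanish off the scalars and the involutory field automorphism `σ` inverts the scalars of
`R`: `R` fixes a non-zero `σ`-sesquilinear form. -/
theorem tame_of_scalars_unitary (hn : 3 ≤ n) (H R : Subgroup (GL (Fin n) F)) (hnorm : NormalizedBy H R)
    (habs : ActsAbsolutelyIrreducibly (matrixSet R))
    (htr : ∀ x ∈ R, x ∉ scalars (Fin n) F → Matrix.trace (x : Matrix (Fin n) (Fin n) F) = 0)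
    (σ : F ≃+* F) (hσ : σ ≠ RingEquiv.refl F) (hσ2 : ∀ a, σ (σ a) = a)
    (hsc : ∀ x ∈ R, ∀ c : F, (x : Matrix (Fin n) (Fin n) F) = c • (1 : Matrix (Fin n) (Fin n) F) → σ c * c = 1)
    (hn0 : (n : F) ≠ 0) (hz0 : (Nat.card ↥(R ⊓ scalars (Fin n) F) : F) ≠ 0) : TameC8 H := by
  obtain ⟨B, hB, hfix⟩ := exists_sesq_of_scalars_unitary R htr σ hsc hn0 hz0
  exact Cfsg.Agent.Lib.H6.Asch.tame_of_fixes_sesq_matrix hn H R hnorm habs σ hσ hσ2 B hB hfix

end Cfsg.Agent.Lib.H25.Asch
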