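/-
S5663 (unitary Aschbacher) tools UT5 / UT5' (helper25), part a: the hermitian form in new coordinates, and the
rationality of its Gram matrix up to a scalar when an absolutely irreducible group over a subfield preserves it.
-/
import Cfsg.Agent.Lib.Lead.AschUDefs
import Cfsg.Agent.Lib.H4.Herm
import Cfsg.Agent.Lib.H6.AschU3c
import Cfsg.Agent.Lib.H17.AschU2

set_option autoImplicit false

namespace Cfsg.Agent.Lib.H25.Asch

open Cfsg Cfsg.Geo Cfsg.Agent.Lib.Lead.Asch Cfsg.Agent.Lib.H6.Asch Cfsg.Agent.Lib.H17.Asch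
open scoped MatrixGroups Matrix

variable {F : Type*} [Field F] {n q : ℕ}

/-- `hermForm` is represented by the identity matrix and the twist `σ = (· ^ q)`. -/
theorem rep_hermForm (σ : F →+* F) (hσ : ∀ x, σ x = x ^ q) : Rep σ 1 (hermForm n F q) := by
  intro u v
  rw [Matrix.one_mulVec]
  simp only [hermForm, dotProduct, hσ]

/-- The Gram matrix of `hermForm` in the coordinates given by the columns of `P`. -/
def gramP (σ : F →+* F) (P : Matrix (Fin n) (Fin n) F) : Matrix (Fin n) (Fin n) F :=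
  Pᵀ * P.map σ

theorem hermForm_mulVec (σ : F →+* F) (hσ : ∀ x, σ x = x ^ q) (P : Matrix (Fin n) (Fin n) F)
    (u v : Fin n → F) :
    hermForm n F q (P *ᵥ u) (P *ᵥ v) = u ⬝ᵥ (gramP σ P *ᵥ (fun i => σ (v i))) := by
  rw [rep_hermForm σ hσ, Matrix.one_mulVec, map_mulVec_fun, gramP, ← Matrix.mulVec_mulVec,
    Matrix.dotProduct_mulVec u, Matrix.vecMul_transpose]

theorem gramP_hermitian (σ : F →+* F) (hσ2 : ∀ x, σ (σ x) = x) (P : Matrix (Fin n) (Fin n) F) :
    ((gramP σ P).map σ)ᵀ = gramP σ P := by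
  unfold gramP
  rw [Matrix.map_mul, Matrix.transpose_mul, Matrix.transpose_map, Matrix.transpose_transpose]
  congr 1
  · ext i j
    simp [hσ2]

theorem gramP_isUnit_det (σ : F →+* F) (P : GL (Fin n) F) :
    IsUnit (gramP σ (P : Matrix (Fin n) (Fin n) F)).det := by
  unfold gramP
  rw [Matrix.det_mul, Matrix.det_transpose]
  have h1 : IsUnit (P : Matrix (Fin n) (Fin n) F).det :=
    (Matrix.isUnit_iff_isUnit_det _).1 P.isUnit
  have h2 : ((P : Matrix (Fin n) (Fin n) F).map σ).det = σ (P : Matrix (Fin n) (Fin n) F).det :=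
    (RingHom.map_det σ _).symm
  rw [h2]
  exact h1.mul (h1.map σ)

/-- Members of `GU`: `gᵀ σ(g) = 1`. -/
theorem GU_matrix_eq (σ : F →+* F) (hσ : ∀ x, σ x = x ^ q) {g : GL (Fin n) F} (hg : g ∈ GU n F q) :
    (g : Matrix (Fin n) (Fin n) F)ᵀ * (g : Matrix (Fin n) (Fin n) F).map σ = 1 := by
  have h := (rep_hermForm (n := n) σ hσ).matrix_eq (g : Matrix (Fin n) (Fin n) F) 1
    (fun u v => by rw [one_mul]; exact hg u v)
  rwa [Matrix.mul_one, one_smul] at h

/-- Conjugates `P⁻¹ x P` of members of `GU` preserve the Gram matrix in the coordinates of `P`. -/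
theorem cj_fix_gramP (σ : F →+* F) (hσ : ∀ x, σ x = x ^ q) (B : GL (Fin n) F) {x : GL (Fin n) F}
    (hx : x ∈ GU n F q) :
    (cj B x)ᵀ * gramP σ ((B⁻¹ : GL (Fin n) F) : Matrix (Fin n) (Fin n) F) * (cj B x).map σ =
      gramP σ ((B⁻¹ : GL (Fin n) F) : Matrix (Fin n) (Fin n) F) := by
  set P : Matrix (Fin n) (Fin n) F := ((B⁻¹ : GL (Fin n) F) : Matrix (Fin n) (Fin n) F) with hP
  have h1 : P * cj B x = (x : Matrix (Fin n) (Fin n) F) * P := by
    rw [cj_eq, hP, ← Matrix.mul_assoc, ← Matrix.mul_assoc, ← Units.val_mul, inv_mul_cancel,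
      Units.val_one, Matrix.one_mul]
  have h2 := GU_matrix_eq σ hσ hx
  calc (cj B x)ᵀ * gramP σ P * (cj B x).map σ
      = (P * cj B x)ᵀ * (P * cj B x).map σ := by
        unfold gramP
        rw [Matrix.transpose_mul, Matrix.map_mul]
        simp only [Matrix.mul_assoc]
    _ = Pᵀ * ((x : Matrix (Fin n) (Fin n) F)ᵀ * (x : Matrix (Fin n) (Fin n) F).map σ) * P.map σ := by
        rw [h1, Matrix.transpose_mul, Matrix.map_mul]
        simp only [Matrix.mul_assoc]
    _ = gramP σ P := by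
        rw [h2, Matrix.mul_one]
        rfl

/-- **Rationality of the Gram matrix up to a scalar.** If `N` has scalar commutant and its conjugate by `B` has
entries in the `σ`-stable subfield `F₀` and preserves the invertible `σ`-sesquilinear form matrix `G`, then a non-zero
multiple of `G` has entries in `F₀`. -/
theorem exists_smul_mem_of_fix (σ : F →+* F) (N : Subgroup (GL (Fin n) F))
    (hcomm : ∀ M : Matrix (Fin n) (Fin n) F, (∀ s ∈ matrixSet N, M * s = s * M) →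
      ∃ c : F, M = c • (1 : Matrix (Fin n) (Fin n) F))
    (F₀ : Subfield F) (hσF₀ : ∀ x ∈ F₀, σ x ∈ F₀) (B : GL (Fin n) F)
    (hB : ∀ x ∈ N, ∀ i j, cj B x i j ∈ F₀)
    (G : Matrix (Fin n) (Fin n) F) (hGdet : IsUnit G.det)
    (hfix : ∀ x ∈ N, (cj B x)ᵀ * G * (cj B x).map σ = G) :
    ∃ c : F, c ≠ 0 ∧ ∀ i j, (c • G) i j ∈ F₀ := by
  classical
  rcases Nat.eq_zero_or_pos n with rfl | hn
  · exact ⟨1, one_ne_zero, fun i => i.elim0⟩
  obtain ⟨a, b, hab⟩ : ∃ a b, G a b ≠ 0 := by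
    by_contra hcon
    push Not at hcon
    have : G = 0 := Matrix.ext hcon
    have hne : Nonempty (Fin n) := ⟨⟨0, hn⟩⟩
    rw [this, Matrix.det_zero] at hGdet
    exact not_isUnit_zero hGdet
  obtain ⟨l, hl⟩ : ∃ l : Module.Dual F₀ F, l (G a b) ≠ 0 := by
    by_contra hcon
    push Not at hcon
    exact hab ((Module.forall_dual_apply_eq_zero_iff F₀ _).mp hcon)
  set Gl : Matrix (Fin n) (Fin n) F := Matrix.of fun i j => ((l (G i j) : F₀) : F) with hGl
  -- the set of conjugated matrices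
  set S : Set (Matrix (Fin n) (Fin n) F) := {s | ∃ x ∈ N, s = cj B x} with hS
  have hScomm : ∀ M : Matrix (Fin n) (Fin n) F, (∀ s ∈ S, M * s = s * M) →
      ∃ c : F, M = c • (1 : Matrix (Fin n) (Fin n) F) := by
    intro M hM
    exact commutant_cj N hcomm B M (fun x hx => hM _ ⟨x, hx, rfl⟩)
  have hSinv : ∀ s ∈ S, IsUnit s.det := by
    rintro _ ⟨x, hx, rfl⟩
    exact (Matrix.isUnit_iff_isUnit_det _).1 (B * x * B⁻¹).isUnit
  have hfixG : ∀ s ∈ S, sᵀ * G * s.map σ = G := by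
    rintro _ ⟨x, hx, rfl⟩
    exact hfix x hx
  have hfixGl : ∀ s ∈ S, sᵀ * Gl * s.map σ = Gl := by
    rintro _ ⟨x, hx, rfl⟩
    -- `G σ(y) = (y⁻¹)ᵀ G`
    have hyy : (cj B x⁻¹)ᵀ * (cj B x)ᵀ = 1 := by
      rw [← Matrix.transpose_mul, ← cj_mul, mul_inv_cancel, cj_one, Matrix.transpose_one]
    have hyy' : (cj B x)ᵀ * (cj B x⁻¹)ᵀ = 1 := by
      rw [← Matrix.transpose_mul, ← cj_mul, inv_mul_cancel, cj_one, Matrix.transpose_one]
    have h1 : G * (cj B x).map σ = (cj B x⁻¹)ᵀ * G := by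
      have := hfix x hx
      calc G * (cj B x).map σ = (cj B x⁻¹)ᵀ * ((cj B x)ᵀ * G * (cj B x).map σ) := by
            rw [Matrix.mul_assoc (cj B x)ᵀ, ← Matrix.mul_assoc (cj B x⁻¹)ᵀ, hyy, Matrix.one_mul]
        _ = (cj B x⁻¹)ᵀ * G := by rw [this]
    have h2 := functional_intertwiner F₀ l G ((cj B x).map σ) ((cj B x⁻¹)ᵀ)
      (fun i j => by rw [Matrix.map_apply]; exact hσF₀ _ (hB x hx i j))
      (fun i j => by rw [Matrix.transpose_apply]; exact hB x⁻¹ (N.inv_mem hx) j i) h1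
    calc (cj B x)ᵀ * Gl * (cj B x).map σ = (cj B x)ᵀ * (Gl * (cj B x).map σ) := Matrix.mul_assoc _ _ _
      _ = (cj B x)ᵀ * ((cj B x⁻¹)ᵀ * Gl) := by rw [hGl, h2]
      _ = Gl := by rw [← Matrix.mul_assoc, hyy', Matrix.one_mul]
  obtain ⟨c, hc⟩ := core σ S hScomm hSinv G Gl hGdet hfixG hfixGl
  refine ⟨c, ?_, ?_⟩
  · rintro rfl
    rw [zero_smul] at hc
    have := congrFun (congrFun hc a) b
    simp only [hGl, Matrix.of_apply, Matrix.zero_apply] at this
    apply hl
    exact_mod_cast this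
  · intro i j
    rw [← hc]
    simp only [hGl, Matrix.of_apply]
    exact (l (G i j)).2

end Cfsg.Agent.Lib.H25.Asch
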