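/-
S5663 (unitary Aschbacher) tools UT5 / UT5' (helper25), part b: field-theoretic and linear-algebra lemmas
(norm surjectivity, Hilbert 90 inside a subfield, fixed field, symmetric invariant forms in characteristic two).
-/
import Cfsg.Agent.Lib.H25.AschUT5a

set_option autoImplicit false

namespace Cfsg.Agent.Lib.H25.Asch

open Cfsg Cfsg.Geo Cfsg.Agent.Lib.Lead.Asch Cfsg.Agent.Lib.H6.Asch Cfsg.Agent.Lib.H17.Asch
open scoped MatrixGroups Matrix

variable {F : Type*} [Field F] {n q : ℕ}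

/-- Surjectivity of the norm `λ ↦ λ ^ (q + 1)` of `F_{q²}` onto the non-zero elements fixed by `(· ^ q)`. -/
theorem exists_norm_eq [Fintype F] (hF : Fintype.card F = q ^ 2) (c : F) (hc0 : c ≠ 0)
    (hc : c ^ q = c) : ∃ l : F, l ≠ 0 ∧ l * l ^ q = c := by
  classical
  have hq1 : 1 < q := by
    by_contra h
    have h1 : 1 < Fintype.card F := Fintype.one_lt_card
    have : q ≤ 1 := by omega
    interval_cases q <;> simp at hF <;> omega
  obtain ⟨g, hg⟩ := IsCyclic.exists_monoid_generator (α := Fˣ)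
  have hgz : ∀ y : Fˣ, y ∈ Subgroup.zpowers g := fun y => by
    obtain ⟨k, hk⟩ := hg y
    exact ⟨k, by simpa using hk⟩
  have hord : orderOf g = q ^ 2 - 1 := by
    rw [orderOf_eq_card_of_forall_mem_zpowers hgz, Nat.card_eq_fintype_card, Fintype.card_units, hF]
  obtain ⟨j, hj⟩ := hg (Units.mk0 c hc0)
  have hj' : g ^ j = Units.mk0 c hc0 := hj
  have h1 : (Units.mk0 c hc0) ^ (q - 1) = 1 := by
    apply Units.ext
    rw [Units.val_pow_eq_pow_val, Units.val_mk0, Units.val_one]
    have : c ^ (q - 1) * c = 1 * c := by rw [← pow_succ, Nat.sub_add_cancel hq1.le, hc, one_mul]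
    exact mul_right_cancel₀ hc0 this
  rw [← hj', ← pow_mul] at h1
  have h2 : q ^ 2 - 1 ∣ j * (q - 1) := by rw [← hord]; exact orderOf_dvd_of_pow_eq_one h1
  have h3 : q ^ 2 - 1 = (q + 1) * (q - 1) := by
    have : q ^ 2 = (q + 1) * (q - 1) + 1 := by
      obtain ⟨k, rfl⟩ : ∃ k, q = k + 1 := ⟨q - 1, by omega⟩
      simp only [Nat.add_sub_cancel]
      ring
    omega
  rw [h3] at h2
  have h4 : q + 1 ∣ j := Nat.dvd_of_mul_dvd_mul_right (by omega) h2
  obtain ⟨k, hk⟩ := h4
  refine ⟨((g ^ k : Fˣ) : F), Units.ne_zero _, ?_⟩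
  have : ((g ^ k : Fˣ) : F) * ((g ^ k : Fˣ) : F) ^ q = (((g ^ k) ^ (q + 1) : Fˣ) : F) := by
    rw [Units.val_pow_eq_pow_val ((g ^ k)) (q + 1), pow_succ']
  rw [this, ← pow_mul, mul_comm k, ← hk, hj', Units.val_mk0]

/-- Hilbert 90 for the involution `σ` inside a `σ`-stable subfield on which `σ` is not the identity. -/
theorem hilbert90_subfield (σ : F →+* F) (hσ2 : ∀ a, σ (σ a) = a) (F₀ : Subfield F)
    (hst : ∀ x ∈ F₀, σ x ∈ F₀) (hne : ∃ t ∈ F₀, σ t ≠ t) (ε : F) (hε0 : ε ∈ F₀) (hε : ε * σ ε = 1) :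
    ∃ a ∈ F₀, a ≠ 0 ∧ ε * σ a = a := by
  by_cases h1 : (1 : F) + ε = 0
  · have hεm : ε = -1 := eq_neg_of_add_eq_zero_right h1
    obtain ⟨t, ht0, ht⟩ := hne
    refine ⟨t - σ t, F₀.sub_mem ht0 (hst t ht0), fun h => ht (sub_eq_zero.1 h).symm, ?_⟩
    rw [hεm, map_sub, hσ2]; ring
  · refine ⟨1 + ε, F₀.add_mem F₀.one_mem hε0, h1, ?_⟩
    rw [map_add, map_one, mul_add, mul_one, hε, add_comm]

/-- If `|F| = |F₀|²` and `|F| = q²`, the subfield `F₀` is exactly the set of fixed points of `(· ^ q)`. -/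
theorem mem_subfield_iff_pow_eq [Fintype F] (hF : Fintype.card F = q ^ 2) (F₀ : Subfield F)
    (hcard : Fintype.card F = Nat.card F₀ ^ 2) (x : F) : x ∈ F₀ ↔ x ^ q = x := by
  classical
  have hq : Nat.card F₀ = q := by
    have : Nat.card F₀ ^ 2 = q ^ 2 := by rw [← hcard, hF]
    exact Nat.pow_left_injective (by norm_num : 2 ≠ 0) this
  have : Fintype F₀ := Fintype.ofFinite F₀
  have hq' : Fintype.card F₀ = q := by rw [← Nat.card_eq_fintype_card]; exact hq
  constructor
  · intro hx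
    have := FiniteField.pow_card (⟨x, hx⟩ : F₀)
    rw [hq'] at this
    exact congrArg Subtype.val this
  · intro hx
    have hq1 : 1 < q := by
      rw [← hq']
      exact Fintype.one_lt_card
    -- the roots of `X ^ q - X`
    set p : Polynomial F := Polynomial.X ^ q - Polynomial.X with hp
    have hp0 : p ≠ 0 := FiniteField.X_pow_card_sub_X_ne_zero F hq1
    have hdeg : p.natDegree = q := FiniteField.X_pow_card_sub_X_natDegree_eq F hq1
    set A : Finset F := Finset.univ.filter (· ∈ F₀) with hA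
    have hAcard : A.card = q := by
      rw [hA, ← hq', Fintype.card_subtype]
    have hsub : A ⊆ p.roots.toFinset := by
      intro y hy
      rw [hA, Finset.mem_filter] at hy
      rw [Multiset.mem_toFinset, Polynomial.mem_roots hp0, Polynomial.IsRoot, hp]
      have := FiniteField.pow_card (⟨y, hy.2⟩ : F₀)
      rw [hq'] at this
      have h2 : y ^ q = y := congrArg Subtype.val this
      simp [h2]
    have hle : p.roots.toFinset.card ≤ A.card := by
      rw [hAcard, ← hdeg]
      exact (Multiset.toFinset_card_le _).trans (Polynomial.card_roots' p)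
    have heq := Finset.eq_of_subset_of_card_le hsub hle
    have hxr : x ∈ p.roots.toFinset := by
      rw [Multiset.mem_toFinset, Polynomial.mem_roots hp0, Polynomial.IsRoot, hp]
      simp [hx]
    rw [← heq, hA, Finset.mem_filter] at hxr
    exact hxr.2

/-- Entries in a subfield: the value of a form. -/
theorem dotProduct_mulVec_mem (F₀ : Subfield F) (M : Matrix (Fin n) (Fin n) F)
    (hM : ∀ i j, M i j ∈ F₀) (u w : Fin n → F) (hu : ∀ i, u i ∈ F₀) (hw : ∀ i, w i ∈ F₀) :
    u ⬝ᵥ (M *ᵥ w) ∈ F₀ := by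
  simp only [dotProduct, Matrix.mulVec]
  exact F₀.sum_mem fun i _ => F₀.mul_mem (hu i) (F₀.sum_mem fun j _ => F₀.mul_mem (hM i j) (hw j))

/-- In characteristic two, a symmetric bilinear form matrix fixed by an irreducible set of matrices is alternating
(`n ≥ 2`, finite field). -/
theorem alternating_of_fix_char_two [Fintype F] (hn : 2 ≤ n) (h2 : (2 : F) = 0)
    (S : Set (Matrix (Fin n) (Fin n) F)) (hirr : ActsIrreducibly S)
    (M : Matrix (Fin n) (Fin n) F) (hsymm : Mᵀ = M) (hfix : ∀ s ∈ S, sᵀ * M * s = M) :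
    ∀ v : Fin n → F, v ⬝ᵥ (M *ᵥ v) = 0 := by
  classical
  have hsw : ∀ u v : Fin n → F, u ⬝ᵥ (M *ᵥ v) = v ⬝ᵥ (M *ᵥ u) := by
    intro u v
    rw [Matrix.dotProduct_mulVec, dotProduct_comm, ← Matrix.mulVec_transpose, hsymm]
  have hadd : ∀ u v : Fin n → F, (u + v) ⬝ᵥ (M *ᵥ (u + v)) = u ⬝ᵥ (M *ᵥ u) + v ⬝ᵥ (M *ᵥ v) := by
    intro u v
    rw [Matrix.mulVec_add, add_dotProduct, dotProduct_add, dotProduct_add, hsw v u]
    have : u ⬝ᵥ (M *ᵥ v) + u ⬝ᵥ (M *ᵥ v) = 0 := by rw [← two_mul, h2, zero_mul]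
    linear_combination this
  let W : Submodule F (Fin n → F) :=
    { carrier := {v | v ⬝ᵥ (M *ᵥ v) = 0}
      add_mem' := by
        intro u v hu hv
        show (u + v) ⬝ᵥ (M *ᵥ (u + v)) = 0
        rw [hadd, show u ⬝ᵥ (M *ᵥ u) = 0 from hu, show v ⬝ᵥ (M *ᵥ v) = 0 from hv, add_zero]
      zero_mem' := by
        show (0 : Fin n → F) ⬝ᵥ (M *ᵥ 0) = 0
        rw [zero_dotProduct]
      smul_mem' := by
        intro c v hv
        show (c • v) ⬝ᵥ (M *ᵥ (c • v)) = 0
        rw [Matrix.mulVec_smul, smul_dotProduct, dotProduct_smul,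
          show v ⬝ᵥ (M *ᵥ v) = 0 from hv, smul_zero, smul_zero] }
  have hWinv : ∀ s ∈ S, W.map (Matrix.toLin' s) ≤ W := by
    intro s hs
    rintro _ ⟨v, hv, rfl⟩
    show (Matrix.toLin' s v) ⬝ᵥ (M *ᵥ (Matrix.toLin' s v)) = 0
    rw [Matrix.toLin'_apply, Matrix.mulVec_mulVec, ← Matrix.vecMul_transpose s v,
      ← Matrix.dotProduct_mulVec, Matrix.mulVec_mulVec, ← Matrix.mul_assoc, hfix s hs]
    exact hv
  intro v
  rcases hirr W hWinv with hW | hW
  · -- impossible: an injective additive map `F^n → F`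
    exfalso
    let qf : (Fin n → F) →+ F :=
      { toFun := fun v => v ⬝ᵥ (M *ᵥ v)
        map_zero' := by rw [zero_dotProduct]
        map_add' := hadd }
    have hinj : Function.Injective qf := by
      rw [injective_iff_map_eq_zero]
      intro v hv
      have : v ∈ W := hv
      rw [hW] at this
      exact (Submodule.mem_bot F).1 this
    have hcard := Fintype.card_le_of_injective qf hinj
    rw [Fintype.card_fun, Fintype.card_fin] at hcard
    have h1 : 1 < Fintype.card F := Fintype.one_lt_card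
    have h3 : Fintype.card F ^ 1 < Fintype.card F ^ n := Nat.pow_lt_pow_right h1 (by omega)
    rw [pow_one] at h3
    omega
  · have : v ∈ W := by rw [hW]; trivial
    exact this

end Cfsg.Agent.Lib.H25.Asch
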