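/-
S5663 (unitary Aschbacher) tools UT5 / UT5' (helper25), part c: from a realisation of an absolutely irreducible normal
subgroup over a subfield `F₀` of prime index to the class-5 data (kinds a, b, c).
-/
import Cfsg.Agent.Lib.H25.AschUT5b
import Cfsg.Agent.Lib.H25.AschM7a

set_option autoImplicit false

namespace Cfsg.Agent.Lib.H25.Asch

open Cfsg Cfsg.Geo Cfsg.Agent.Lib.Lead.Asch Cfsg.Agent.Lib.H6.Asch Cfsg.Agent.Lib.H17.Asch
open scoped MatrixGroups Matrix

variable {F : Type*} [Field F] {n q : ℕ}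

theorem gramP_smul (σ : F →+* F) (l : F) (P : Matrix (Fin n) (Fin n) F) :
    gramP σ (l • P) = (l * σ l) • gramP σ P := by
  unfold gramP
  have : (l • P).map σ = σ l • P.map σ := by
    ext i j
    simp
  rw [this, Matrix.transpose_smul, Matrix.smul_mul, Matrix.mul_smul, smul_smul, mul_comm]

/-- The scalar element `l • 1` of `GL`. -/
noncomputable def scGL (l : F) (hl : l ≠ 0) : GL (Fin n) F :=
  Units.map (Matrix.scalar (Fin n) : F →+* Matrix (Fin n) (Fin n) F).toMonoidHom (Units.mk0 l hl)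

theorem scGL_mem (l : F) (hl : l ≠ 0) : (scGL l hl : GL (Fin n) F) ∈ scalars (Fin n) F := ⟨_, rfl⟩

theorem scGL_val (l : F) (hl : l ≠ 0) :
    ((scGL l hl : GL (Fin n) F) : Matrix (Fin n) (Fin n) F) = l • (1 : Matrix (Fin n) (Fin n) F) := by
  simp [scGL, Matrix.smul_one_eq_diagonal]

/-- `H` lies in the subfield group of `F₀` in the coordinates `B⁻¹ · (scalar)`. -/
theorem le_subfieldSubgroup_of_normalizes (H N : Subgroup (GL (Fin n) F)) (hnorm : NormalizedBy H N)
    (hcomm : ∀ M : Matrix (Fin n) (Fin n) F, (∀ s ∈ matrixSet N, M * s = s * M) →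
      ∃ c : F, M = c • (1 : Matrix (Fin n) (Fin n) F))
    (F₀ : Subfield F) (B : GL (Fin n) F) (hB : ∀ x ∈ N, ∀ i j, cj B x i j ∈ F₀)
    (z : GL (Fin n) F) (hz : z ∈ scalars (Fin n) F) : H ≤ subfieldSubgroup F₀ (B⁻¹ * z) := by
  intro h hh
  have hB' : ∀ x ∈ N, ∀ i j, cj (z⁻¹ * B) x i j ∈ F₀ := by
    intro x hx i j
    have : cj (z⁻¹ * B) x = cj B x := by
      unfold cj
      congr 1
      have hz' := scalars_comm ((scalars (Fin n) F).inv_mem hz)
      rw [mul_inv_rev, inv_inv]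
      calc z⁻¹ * B * x * (B⁻¹ * z) = z⁻¹ * (B * x * B⁻¹ * z) := by group
        _ = (B * x * B⁻¹ * z) * z⁻¹ := hz' _
        _ = B * x * B⁻¹ := by group
    rw [this]
    exact hB x hx i j
  have := mem_subfieldSubgroup_of_normalizes N hcomm F₀ (z⁻¹ * B) hB' h (fun x hx => hnorm h hh x hx)
  rwa [mul_inv_rev, inv_inv] at this

/-- Rationality of the form in new coordinates from the rationality of a multiple of the Gram matrix. -/
theorem isFormRationalStructure_of_gram (σ : F →+* F) (hσ : ∀ x, σ x = x ^ q) (F₀ : Subfield F)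
    (P : GL (Fin n) F) (ζ : F)
    (hM : ∀ i j, (ζ • gramP σ (P : Matrix (Fin n) (Fin n) F)) i j ∈ F₀) :
    IsFormRationalStructure (hermForm n F q) F₀ ζ P := by
  intro u v hu hv
  rw [hermForm_mulVec σ hσ, ← smul_eq_mul, ← dotProduct_smul, ← Matrix.smul_mulVec]
  exact dotProduct_mulVec_mem F₀ _ hM u _ hu (fun i => by rw [hσ]; exact F₀.pow_mem (hv i) q)

/-- `q` is odd when `2 ≠ 0` in `F`, `|F| = q²`. -/
theorem odd_of_two_ne_zero [Fintype F] (hF : Fintype.card F = q ^ 2) (h2 : (2 : F) ≠ 0) : Odd q := by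
  by_contra hodd
  rw [Nat.not_odd_iff_even] at hodd
  obtain ⟨m, hm⟩ := hodd
  have h0 : ((Fintype.card F : ℕ) : F) = 0 := Nat.cast_card_eq_zero F
  rw [hF, hm] at h0
  have h1 : ((m + m : ℕ) : F) = 2 * (m : F) := by push_cast; ring
  rw [Nat.cast_pow, h1] at h0
  have h3 : (2 : F) * (m : F) = 0 := pow_eq_zero_iff (two_ne_zero) |>.1 h0
  rcases mul_eq_zero.1 h3 with h4 | h4
  · exact h2 h4
  · -- `m = 0` in `F`, so the characteristic divides `m`; then `|F| = q²` with `q = 2m`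
    obtain ⟨p, hp⟩ := CharP.exists F
    obtain ⟨⟨k, hk⟩, hpprime, hcard⟩ := FiniteField.card F p
    have hcard' : Fintype.card F = p ^ k := hcard
    have hdvd : 2 ∣ p ^ k := by
      rw [← hcard', hF, hm]
      exact Dvd.dvd.pow ⟨m, by ring⟩ (by norm_num)
    have hp2 : p = 2 := ((Nat.prime_dvd_prime_iff_eq Nat.prime_two hpprime).1
      (Nat.Prime.dvd_of_dvd_pow Nat.prime_two hdvd)).symm
    subst hp2
    exact h2 (by exact_mod_cast CharP.cast_eq_zero F 2)

end Cfsg.Agent.Lib.H25.Asch
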