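/-
S5662 (symplectic Aschbacher), tool **ST5** (helper25): class 5 from realisability over a proper subfield.
Exact signature of `tools/blueprints/S5662_sigs.lean`.
-/
import Cfsg.Agent.Lib.H11.AschSDefs
import Cfsg.Agent.Lib.H25.AschUT5c

set_option autoImplicit false

namespace Cfsg.Agent.Lib.H25.AschS

open Cfsg Cfsg.Geo Cfsg.Agent.Lib.Lead.Asch Cfsg.Agent.Lib.H6.Asch Cfsg.Agent.Lib.H17.Asch
  Cfsg.Agent.Lib.H11.AschS Cfsg.Agent.Lib.H25.Asch
open scoped MatrixGroups Matrix Kronecker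

variable {F : Type*} [Field F] [Fintype F] {n : ℕ} {f : (Fin n → F) → (Fin n → F) → F}

/-- Class 5 for any non-degenerate bilinear form fixed by `H`, from a normal subgroup with scalar commutant
whose conjugate by `B` has entries in a subfield `F₀` of prime index. -/
theorem sc5_of_realised (hfb : IsBilinearForm f) (hfn : IsNondegenerateForm f)
    (H N : Subgroup (GL (Fin n) F)) (hH : FixesForm (matrixSet H) f) (hNH : N ≤ H)
    (hnorm : NormalizedBy H N)
    (hcomm : ∀ M : Matrix (Fin n) (Fin n) F, (∀ s ∈ matrixSet N, M * s = s * M) →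
      ∃ c : F, M = c • (1 : Matrix (Fin n) (Fin n) F))
    (F₀ : Subfield F) (r : ℕ) (hr : r.Prime) (hcard : Fintype.card F = Nat.card F₀ ^ r)
    (B : GL (Fin n) F) (hB : ∀ x ∈ N, ∀ i j, cj B x i j ∈ F₀) : SC5 f H := by
  classical
  obtain ⟨J, hJ⟩ := exists_rep_of_bilinear f hfb
  have hJdet : IsUnit J.det := hJ.isUnit_det hfn
  set P : Matrix (Fin n) (Fin n) F := ((B⁻¹ : GL (Fin n) F) : Matrix (Fin n) (Fin n) F) with hP
  have hPdet : IsUnit P.det := (Matrix.isUnit_iff_isUnit_det _).1 (B⁻¹).isUnit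
  set G : Matrix (Fin n) (Fin n) F := Pᵀ * J * P with hG
  have hGdet : IsUnit G.det := by
    rw [hG, Matrix.det_mul, Matrix.det_mul, Matrix.det_transpose]
    exact (hPdet.mul hJdet).mul hPdet
  have hfixJ : ∀ x ∈ H, (x : Matrix (Fin n) (Fin n) F)ᵀ * J * (x : Matrix (Fin n) (Fin n) F) = J := by
    intro x hx
    have h := hJ.matrix_eq (x : Matrix (Fin n) (Fin n) F) 1
      (fun u v => by rw [one_mul]; exact hH _ ⟨x, hx, rfl⟩ u v)
    rwa [map_id_eq, one_smul] at h
  have hfix : ∀ x ∈ N, (cj B x)ᵀ * G * (cj B x).map (RingHom.id F) = G := by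
    intro x hx
    rw [map_id_eq]
    have h1 : P * cj B x = (x : Matrix (Fin n) (Fin n) F) * P := by
      rw [cj_eq, hP, ← Matrix.mul_assoc, ← Matrix.mul_assoc, ← Units.val_mul, inv_mul_cancel,
        Units.val_one, Matrix.one_mul]
    calc (cj B x)ᵀ * G * cj B x = (P * cj B x)ᵀ * J * (P * cj B x) := by
          rw [hG, Matrix.transpose_mul]
          simp only [Matrix.mul_assoc]
      _ = Pᵀ * ((x : Matrix (Fin n) (Fin n) F)ᵀ * J * (x : Matrix (Fin n) (Fin n) F)) * P := by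
          rw [h1, Matrix.transpose_mul]
          simp only [Matrix.mul_assoc]
      _ = G := by rw [hfixJ x (hNH hx)]
  obtain ⟨c, hc0, hc⟩ := exists_smul_mem_of_fix (RingHom.id F) N hcomm F₀ (fun x hx => hx) B hB G hGdet hfix
  refine ⟨F₀, r, B⁻¹, c, hr, hcard, hc0, ?_, ?_⟩
  · intro u v hu hv
    have h1 : f (P *ᵥ u) (P *ᵥ v) = u ⬝ᵥ (G *ᵥ v) := by
      rw [hJ]
      have : (fun i => (RingHom.id F) ((P *ᵥ v) i)) = P *ᵥ v := rfl
      rw [this, hG, Matrix.mulVec_mulVec, Matrix.dotProduct_mulVec, Matrix.vecMul_mulVec,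
        ← Matrix.dotProduct_mulVec, ← Matrix.mul_assoc]
    rw [h1, ← smul_eq_mul, ← dotProduct_smul, ← Matrix.smul_mulVec]
    exact dotProduct_mulVec_mem F₀ _ hc u v hu hv
  · have := le_subfieldSubgroup_of_normalizes H N hnorm hcomm F₀ B hB 1 (scalars (Fin n) F).one_mem
    rwa [mul_one] at this

/-- **ST5** (class 5 from realisability). -/
theorem sc5_of_realisable (hf : IsSymplecticForm f) (hn : 2 ≤ n)
    (H N : Subgroup (GL (Fin n) F)) (hH : FixesForm (matrixSet H) f) (hNH : N ≤ H)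
    (hnorm : NormalizedBy H N) (habs : ActsAbsolutelyIrreducibly (matrixSet N))
    (F₁ : Subfield F) (hne : F₁ ≠ ⊤) (hreal : RealisableOver F₁ (matrixSet N)) : SC5 f H := by
  obtain ⟨F₀, r, hle, hr, hcard⟩ := exists_prime_degree_subfield F₁ hne
  obtain ⟨B, hB⟩ := hreal
  exact sc5_of_realised hf.bilinear hf.nondegenerate H N hH hNH hnorm habs.2 F₀ r hr hcard B
    (fun x hx i j => hle (hB _ ⟨x, hx, rfl⟩ i j))

end Cfsg.Agent.Lib.H25.AschS
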