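/-
S5663 (unitary Aschbacher) tools UT5 / UT5' (helper25), part d: the two cores.
(A) `F₀` of odd prime index on which `σ` is not trivial: class 5, kind a.
(B) `F₀` of index two (the fixed field of `σ`): class 5, kind b or c.
-/
import Cfsg.Agent.Lib.H25.AschUT5c

set_option autoImplicit false

namespace Cfsg.Agent.Lib.H25.Asch

open Cfsg Cfsg.Geo Cfsg.Agent.Lib.Lead.Asch Cfsg.Agent.Lib.H6.Asch Cfsg.Agent.Lib.H17.Asch
open scoped MatrixGroups Matrix

variable {F : Type*} [Field F] [Fintype F] {n q : ℕ}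

omit [Fintype F] in
theorem mul_eq_cj_mul (B x : GL (Fin n) F) :
    (B : Matrix (Fin n) (Fin n) F) * (x : Matrix (Fin n) (Fin n) F) =
      cj B x * (B : Matrix (Fin n) (Fin n) F) := by
  rw [cj_eq, Matrix.mul_assoc ((B : Matrix (Fin n) (Fin n) F) * (x : Matrix (Fin n) (Fin n) F)),
    ← Units.val_mul B⁻¹ B, inv_mul_cancel, Units.val_one, Matrix.mul_one]

/-- **Core (A)**. -/
theorem uc5a_of_realised (hF : Fintype.card F = q ^ 2) (hn : 0 < n) (H N : Subgroup (GL (Fin n) F))
    (hH : H ≤ GU n F q) (hNH : N ≤ H) (hnorm : NormalizedBy H N)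
    (hcomm : ∀ M : Matrix (Fin n) (Fin n) F, (∀ s ∈ matrixSet N, M * s = s * M) →
      ∃ c : F, M = c • (1 : Matrix (Fin n) (Fin n) F))
    (F₀ : Subfield F) (r : ℕ) (hr : r.Prime) (hodd : Odd r) (hcard : Fintype.card F = Nat.card F₀ ^ r)
    (hne : ∃ t ∈ F₀, t ^ q ≠ t) (B : GL (Fin n) F) (hB : ∀ x ∈ N, ∀ i j, cj B x i j ∈ F₀) :
    UC5a q H := by
  classical
  obtain ⟨σ, hσ, hσ2⟩ := Cfsg.Agent.Lib.H4.exists_frob hF
  have hst : ∀ x ∈ F₀, σ x ∈ F₀ := fun x hx => by rw [hσ]; exact F₀.pow_mem hx q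
  set G : Matrix (Fin n) (Fin n) F := gramP σ ((B⁻¹ : GL (Fin n) F) : Matrix (Fin n) (Fin n) F) with hG
  have hGdet : IsUnit G.det := gramP_isUnit_det σ B⁻¹
  have hGherm : (G.map σ)ᵀ = G := gramP_hermitian σ hσ2 _
  have hfix : ∀ x ∈ N, (cj B x)ᵀ * G * (cj B x).map σ = G :=
    fun x hx => cj_fix_gramP σ hσ B (hH (hNH hx))
  obtain ⟨c, hc0, hc⟩ := exists_smul_mem_of_fix σ N hcomm F₀ hst B hB G hGdet hfix
  -- a non-zero entry
  obtain ⟨a, b, hab⟩ : ∃ a b, G a b ≠ 0 := by
    by_contra hcon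
    push Not at hcon
    have : G = 0 := Matrix.ext hcon
    have hne' : Nonempty (Fin n) := ⟨⟨0, hn⟩⟩
    rw [this, Matrix.det_zero] at hGdet
    exact not_isUnit_zero hGdet
  have hherm_ab : σ (G b a) = G a b := by
    have := congrFun (congrFun hGherm a) b
    simpa using this
  have hσc0 : σ c ≠ 0 := (map_ne_zero σ).2 hc0
  set ε : F := σ c / c with hε
  have hεmem : ε ∈ F₀ := by
    have h1 : σ ((c • G) b a) ∈ F₀ := hst _ (hc b a)
    have h2 : (c • G) a b ∈ F₀ := hc a b
    have h3 : ε = σ ((c • G) b a) / (c • G) a b := by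
      rw [Matrix.smul_apply, Matrix.smul_apply, smul_eq_mul, smul_eq_mul, map_mul, hherm_ab, hε]
      field_simp
    rw [h3]
    exact F₀.div_mem h1 h2
  have hεσ : ε * σ ε = 1 := by
    rw [hε, map_div₀, hσ2]
    field_simp
  obtain ⟨a', ha'mem, ha'0, ha'⟩ := hilbert90_subfield σ hσ2 F₀ hst
    (by obtain ⟨t, ht, htq⟩ := hne; exact ⟨t, ht, by rw [hσ]; exact htq⟩) ε hεmem hεσ
  set c' : F := c * a' with hc'
  have hc'0 : c' ≠ 0 := mul_ne_zero hc0 ha'0
  have hc'σ : σ c' = c' := by
    rw [hc', map_mul]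
    have : σ c = ε * c := by rw [hε]; field_simp
    rw [this, mul_assoc, mul_comm c, ← mul_assoc, ha', mul_comm]
  obtain ⟨l, hl0, hl⟩ := exists_norm_eq hF c' hc'0 (by rw [← hσ]; exact hc'σ)
  refine ⟨F₀, r, B⁻¹ * scGL l hl0, hr, hodd, hcard, ?_, ?_⟩
  · apply isFormRationalStructure_of_gram σ hσ
    intro i j
    have hPval : ((B⁻¹ * scGL l hl0 : GL (Fin n) F) : Matrix (Fin n) (Fin n) F) =
        l • ((B⁻¹ : GL (Fin n) F) : Matrix (Fin n) (Fin n) F) := by
      rw [Units.val_mul, scGL_val, Matrix.mul_smul, Matrix.mul_one]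
    rw [hPval, gramP_smul, one_smul, hσ, hl, ← hG, hc', mul_comm, ← smul_smul, Matrix.smul_apply,
      smul_eq_mul]
    exact F₀.mul_mem ha'mem (hc i j)
  · exact le_subfieldSubgroup_of_normalizes H N hnorm hcomm F₀ B hB _ (scGL_mem l hl0)

/-- **Core (B)**. -/
theorem uc5bc_of_realised (hF : Fintype.card F = q ^ 2) (hn : 2 ≤ n) (H N : Subgroup (GL (Fin n) F))
    (hH : H ≤ GU n F q) (hNH : N ≤ H) (hnorm : NormalizedBy H N)
    (habs : ActsAbsolutelyIrreducibly (matrixSet N))
    (F₀ : Subfield F) (hcard : Fintype.card F = Nat.card F₀ ^ 2)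
    (B : GL (Fin n) F) (hB : ∀ x ∈ N, ∀ i j, cj B x i j ∈ F₀) :
    UC5b q H ∨ UC5c q H := by
  classical
  obtain ⟨σ, hσ, hσ2⟩ := Cfsg.Agent.Lib.H4.exists_frob hF
  have hfixF₀ : ∀ x ∈ F₀, σ x = x := fun x hx => by
    rw [hσ]; exact (mem_subfield_iff_pow_eq hF F₀ hcard x).1 hx
  have hst : ∀ x ∈ F₀, σ x ∈ F₀ := fun x hx => by rw [hfixF₀ x hx]; exact hx
  set G : Matrix (Fin n) (Fin n) F := gramP σ ((B⁻¹ : GL (Fin n) F) : Matrix (Fin n) (Fin n) F) with hG
  have hGdet : IsUnit G.det := gramP_isUnit_det σ B⁻¹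
  have hGherm : (G.map σ)ᵀ = G := gramP_hermitian σ hσ2 _
  have hfix : ∀ x ∈ N, (cj B x)ᵀ * G * (cj B x).map σ = G :=
    fun x hx => cj_fix_gramP σ hσ B (hH (hNH hx))
  obtain ⟨c, hc0, hc⟩ := exists_smul_mem_of_fix σ N habs.2 F₀ hst B hB G hGdet hfix
  have hHle : H ≤ subfieldSubgroup F₀ B⁻¹ := by
    have := le_subfieldSubgroup_of_normalizes H N hnorm habs.2 F₀ B hB 1 (scalars (Fin n) F).one_mem
    rwa [mul_one] at this
  have hn0 : 0 < n := by omega
  have hne' : Nonempty (Fin n) := ⟨⟨0, hn0⟩⟩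
  set M : Matrix (Fin n) (Fin n) F := c • G with hM
  have hMdet : IsUnit M.det := by
    rw [hM, Matrix.det_smul]
    exact (IsUnit.pow _ (isUnit_iff_ne_zero.2 hc0)).mul hGdet
  have hM0 : M ≠ 0 := by
    intro h0
    rw [h0, Matrix.det_zero] at hMdet
    exact not_isUnit_zero hMdet
  have hσc0 : σ c ≠ 0 := (map_ne_zero σ).2 hc0
  set ε : F := σ c / c with hε
  -- `Mᵀ = ε • M`
  have hMσ : M.map σ = M := by
    ext i j
    rw [Matrix.map_apply]
    exact hfixF₀ _ (hc i j)
  have hMT : Mᵀ = ε • M := by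
    have h1 : (M.map σ)ᵀ = σ c • G := by
      rw [hM]
      have : (c • G).map σ = σ c • G.map σ := by
        ext i j
        simp
      rw [this, Matrix.transpose_smul, hGherm]
    rw [hMσ] at h1
    rw [h1, hM, smul_smul, hε, div_mul_cancel₀ _ hc0]
  have hε2 : ε * ε = 1 := by
    have h1 : M = (ε * ε) • M := by
      have := congrArg Matrix.transpose hMT
      rw [Matrix.transpose_transpose, Matrix.transpose_smul, hMT, smul_smul] at this
      exact this
    obtain ⟨i, j, hij⟩ : ∃ i j, M i j ≠ 0 := by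
      by_contra hcon
      push Not at hcon
      exact hM0 (Matrix.ext hcon)
    have := congrFun (congrFun h1 i) j
    rw [Matrix.smul_apply, smul_eq_mul] at this
    have h3 : (ε * ε - 1) * M i j = 0 := by rw [sub_mul, one_mul, ← this, sub_self]
    rcases mul_eq_zero.1 h3 with h4 | h4
    · exact sub_eq_zero.1 h4
    · exact absurd h4 hij
  have hcases : ε = 1 ∨ ε = -1 := by
    have : (ε - 1) * (ε + 1) = 0 := by
      have : (ε - 1) * (ε + 1) = ε * ε - 1 := by ring
      rw [this, hε2, sub_self]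
    rcases mul_eq_zero.1 this with h | h
    · exact Or.inl (sub_eq_zero.1 h)
    · exact Or.inr (eq_neg_of_add_eq_zero_left h)
  -- members of the conjugated group preserve `G` as a bilinear form
  have hfixbil : ∀ x ∈ N, (cj B x)ᵀ * G * cj B x = G := by
    intro x hx
    have h1 : (cj B x).map σ = cj B x := by
      ext i j
      rw [Matrix.map_apply]
      exact hfixF₀ _ (hB x hx i j)
    have := hfix x hx
    rwa [h1] at this
  -- values of the form on rational vectors
  have hval : ∀ u : Fin n → F, (∀ i, u i ∈ F₀) →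
      hermForm n F q (((B⁻¹ : GL (Fin n) F) : Matrix (Fin n) (Fin n) F) *ᵥ u)
        (((B⁻¹ : GL (Fin n) F) : Matrix (Fin n) (Fin n) F) *ᵥ u) = u ⬝ᵥ (G *ᵥ u) := by
    intro u hu
    rw [hermForm_mulVec σ hσ]
    congr 2
    funext i
    exact hfixF₀ _ (hu i)
  -- an alternating multiple of `G` forces `n` even
  have heven : (∀ v : Fin n → F, v ⬝ᵥ (M *ᵥ v) = 0) → Even n := by
    intro halt
    have h1 := Cfsg.Agent.Lib.H11.even_rank_of_alternating M halt
    have hMunit : IsUnit M := (Matrix.isUnit_iff_isUnit_det _).2 hMdet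
    rwa [Matrix.rank_of_isUnit M hMunit, Fintype.card_fin] at h1
  rcases hcases with h1 | h1
  · -- `σ c = c`
    have hcσ : σ c = c := by
      have : σ c = ε * c := by rw [hε]; field_simp
      rw [this, h1, one_mul]
    have hcmem : c ∈ F₀ := (mem_subfield_iff_pow_eq hF F₀ hcard c).2 (by rw [← hσ]; exact hcσ)
    have hGmem : ∀ i j, G i j ∈ F₀ := by
      intro i j
      have h2 : G i j = c⁻¹ * (c • G) i j := by
        rw [Matrix.smul_apply, smul_eq_mul, ← mul_assoc, inv_mul_cancel₀ hc0, one_mul]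
      rw [h2]
      exact F₀.mul_mem (F₀.inv_mem hcmem) (hc i j)
    have hrat : IsFormRationalStructure (hermForm n F q) F₀ 1 B⁻¹ := by
      apply isFormRationalStructure_of_gram σ hσ
      intro i j
      rw [one_smul]
      exact hGmem i j
    by_cases h2 : (2 : F) = 0
    · -- characteristic two: `G` is alternating
      right
      have hGT : Gᵀ = G := by
        have h3 : Mᵀ = M := by rw [hMT, h1, one_smul]
        rw [hM, Matrix.transpose_smul] at h3
        exact smul_right_injective _ hc0 h3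
      -- the `N`-invariant form in the original coordinates
      set M₀ : Matrix (Fin n) (Fin n) F :=
        (B : Matrix (Fin n) (Fin n) F)ᵀ * G * (B : Matrix (Fin n) (Fin n) F) with hM₀
      have hM₀symm : M₀ᵀ = M₀ := by
        rw [hM₀, Matrix.transpose_mul, Matrix.transpose_mul, Matrix.transpose_transpose, hGT,
          Matrix.mul_assoc]
      have hM₀fix : ∀ s ∈ matrixSet N, sᵀ * M₀ * s = M₀ := by
        rintro _ ⟨x, hx, rfl⟩
        have h4 : (B : Matrix (Fin n) (Fin n) F) * (x : Matrix (Fin n) (Fin n) F) =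
            cj B x * (B : Matrix (Fin n) (Fin n) F) := mul_eq_cj_mul B x
        calc (x : Matrix (Fin n) (Fin n) F)ᵀ * M₀ * (x : Matrix (Fin n) (Fin n) F)
            = ((B : Matrix (Fin n) (Fin n) F) * (x : Matrix (Fin n) (Fin n) F))ᵀ * G *
                ((B : Matrix (Fin n) (Fin n) F) * (x : Matrix (Fin n) (Fin n) F)) := by
              rw [hM₀, Matrix.transpose_mul]
              simp only [Matrix.mul_assoc]
          _ = (B : Matrix (Fin n) (Fin n) F)ᵀ * ((cj B x)ᵀ * G * cj B x) *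
                (B : Matrix (Fin n) (Fin n) F) := by
              rw [h4, Matrix.transpose_mul]
              simp only [Matrix.mul_assoc]
          _ = M₀ := by rw [hfixbil x hx]
      have halt₀ := alternating_of_fix_char_two hn h2 (matrixSet N) habs.1 M₀ hM₀symm hM₀fix
      have haltG : ∀ v : Fin n → F, v ⬝ᵥ (G *ᵥ v) = 0 := by
        intro v
        have h5 := halt₀ (((B⁻¹ : GL (Fin n) F) : Matrix (Fin n) (Fin n) F) *ᵥ v)
        have h6 : (B : Matrix (Fin n) (Fin n) F) *ᵥ
            (((B⁻¹ : GL (Fin n) F) : Matrix (Fin n) (Fin n) F) *ᵥ v) = v := by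
          rw [Matrix.mulVec_mulVec, ← Units.val_mul, mul_inv_cancel, Units.val_one, Matrix.one_mulVec]
        rw [hM₀, ← Matrix.mulVec_mulVec, ← Matrix.mulVec_mulVec, h6, Matrix.dotProduct_mulVec,
          Matrix.vecMul_transpose, h6] at h5
        exact h5
      have haltM : ∀ v : Fin n → F, v ⬝ᵥ (M *ᵥ v) = 0 := by
        intro v
        rw [hM, Matrix.smul_mulVec, dotProduct_smul, haltG v, smul_zero]
      refine ⟨F₀, B⁻¹, 1, heven haltM, hcard, one_ne_zero, ?_, hrat, ?_, hHle⟩
      · rw [one_pow, one_add_one_eq_two, h2]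
      · intro u hu
        rw [hval u hu, haltG u]
    · -- odd characteristic, symmetric: kind b
      left
      exact ⟨F₀, B⁻¹, odd_of_two_ne_zero hF h2, hcard, hrat, hHle⟩
  · -- `σ c = -c`: kind c with `ζ = c`
    right
    have hcσ : σ c = -c := by
      have : σ c = ε * c := by rw [hε]; field_simp
      rw [this, h1, neg_one_mul]
    by_cases h2 : (2 : F) = 0
    · -- characteristic two: `-1 = 1`, reduce to the previous argument is not needed: `M` is symmetric
      -- and alternating by the same invariant-subspace argument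
      have hMT' : Mᵀ = M := by
        rw [hMT, h1]
        have : (-1 : F) = 1 := by
          have : (1 : F) + 1 = 0 := by rw [one_add_one_eq_two]; exact h2
          exact (eq_neg_of_add_eq_zero_left this).symm
        rw [this, one_smul]
      set M₀ : Matrix (Fin n) (Fin n) F :=
        (B : Matrix (Fin n) (Fin n) F)ᵀ * M * (B : Matrix (Fin n) (Fin n) F) with hM₀
      have hM₀symm : M₀ᵀ = M₀ := by
        rw [hM₀, Matrix.transpose_mul, Matrix.transpose_mul, Matrix.transpose_transpose, hMT',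
          Matrix.mul_assoc]
      have hfixbilM : ∀ x ∈ N, (cj B x)ᵀ * M * cj B x = M := by
        intro x hx
        rw [hM, Matrix.mul_smul, Matrix.smul_mul, hfixbil x hx]
      have hM₀fix : ∀ s ∈ matrixSet N, sᵀ * M₀ * s = M₀ := by
        rintro _ ⟨x, hx, rfl⟩
        have h4 : (B : Matrix (Fin n) (Fin n) F) * (x : Matrix (Fin n) (Fin n) F) =
            cj B x * (B : Matrix (Fin n) (Fin n) F) := mul_eq_cj_mul B x
        calc (x : Matrix (Fin n) (Fin n) F)ᵀ * M₀ * (x : Matrix (Fin n) (Fin n) F)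
            = ((B : Matrix (Fin n) (Fin n) F) * (x : Matrix (Fin n) (Fin n) F))ᵀ * M *
                ((B : Matrix (Fin n) (Fin n) F) * (x : Matrix (Fin n) (Fin n) F)) := by
              rw [hM₀, Matrix.transpose_mul]
              simp only [Matrix.mul_assoc]
          _ = (B : Matrix (Fin n) (Fin n) F)ᵀ * ((cj B x)ᵀ * M * cj B x) *
                (B : Matrix (Fin n) (Fin n) F) := by
              rw [h4, Matrix.transpose_mul]
              simp only [Matrix.mul_assoc]
          _ = M₀ := by rw [hfixbilM x hx]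
      have halt₀ := alternating_of_fix_char_two hn h2 (matrixSet N) habs.1 M₀ hM₀symm hM₀fix
      have haltM : ∀ v : Fin n → F, v ⬝ᵥ (M *ᵥ v) = 0 := by
        intro v
        have h5 := halt₀ (((B⁻¹ : GL (Fin n) F) : Matrix (Fin n) (Fin n) F) *ᵥ v)
        have h6 : (B : Matrix (Fin n) (Fin n) F) *ᵥ
            (((B⁻¹ : GL (Fin n) F) : Matrix (Fin n) (Fin n) F) *ᵥ v) = v := by
          rw [Matrix.mulVec_mulVec, ← Units.val_mul, mul_inv_cancel, Units.val_one, Matrix.one_mulVec]
        rw [hM₀, ← Matrix.mulVec_mulVec, ← Matrix.mulVec_mulVec, h6, Matrix.dotProduct_mulVec,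
          Matrix.vecMul_transpose, h6] at h5
        exact h5
      refine ⟨F₀, B⁻¹, c, heven haltM, hcard, hc0, ?_, ?_, ?_, hHle⟩
      · rw [← hσ, hcσ, add_neg_cancel]
      · exact isFormRationalStructure_of_gram σ hσ F₀ B⁻¹ c hc
      · intro u hu
        rw [hval u hu]
        have h7 := haltM u
        rw [hM, Matrix.smul_mulVec, dotProduct_smul, smul_eq_mul] at h7
        exact (mul_eq_zero.1 h7).resolve_left hc0
    · -- odd characteristic, skew-symmetric
      have haltM : ∀ v : Fin n → F, v ⬝ᵥ (M *ᵥ v) = 0 := by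
        intro v
        have h3 : v ⬝ᵥ (M *ᵥ v) = -(v ⬝ᵥ (M *ᵥ v)) := by
          conv_lhs => rw [Matrix.dotProduct_mulVec, dotProduct_comm, ← Matrix.mulVec_transpose, hMT, h1]
          rw [Matrix.smul_mulVec, dotProduct_smul, smul_eq_mul, neg_one_mul]
        have h4 : (2 : F) * (v ⬝ᵥ (M *ᵥ v)) = 0 := by linear_combination h3
        exact (mul_eq_zero.1 h4).resolve_left h2
      refine ⟨F₀, B⁻¹, c, heven haltM, hcard, hc0, ?_, ?_, ?_, hHle⟩
      · rw [← hσ, hcσ, add_neg_cancel]
      · exact isFormRationalStructure_of_gram σ hσ F₀ B⁻¹ c hc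
      · intro u hu
        rw [hval u hu]
        have h7 := haltM u
        rw [hM, Matrix.smul_mulVec, dotProduct_smul, smul_eq_mul] at h7
        exact (mul_eq_zero.1 h7).resolve_left hc0

end Cfsg.Agent.Lib.H25.Asch
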