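/-
S5663 (unitary Aschbacher) tools UT5 / UT5' (helper25), part e: subfields of a finite field `F` with `|F| = q²`
relative to the involution `σ = (· ^ q)`.
-/
import Cfsg.Agent.Lib.H25.AschUT5d

set_option autoImplicit false

namespace Cfsg.Agent.Lib.H25.Asch

open Cfsg Cfsg.Geo Cfsg.Agent.Lib.Lead.Asch
open scoped MatrixGroups Matrix

variable {F : Type*} [Field F] [Fintype F] {q : ℕ}

/-- `(· ^ q)` is not the identity on `F`, `|F| = q²`. -/
theorem exists_pow_ne (hF : Fintype.card F = q ^ 2) : ∃ x : F, x ^ q ≠ x := by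
  classical
  by_contra hcon
  push Not at hcon
  have hq1 : 1 < q := by
    by_contra h
    have h1 : 1 < Fintype.card F := Fintype.one_lt_card
    have : q ≤ 1 := by omega
    interval_cases q <;> simp at hF <;> omega
  set p : Polynomial F := Polynomial.X ^ q - Polynomial.X with hp
  have hp0 : p ≠ 0 := FiniteField.X_pow_card_sub_X_ne_zero F hq1
  have hdeg : p.natDegree = q := FiniteField.X_pow_card_sub_X_natDegree_eq F hq1
  have hsub : (Finset.univ : Finset F) ⊆ p.roots.toFinset := by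
    intro y _
    rw [Multiset.mem_toFinset, Polynomial.mem_roots hp0, Polynomial.IsRoot, hp]
    simp [hcon y]
  have h1 := Finset.card_le_card hsub
  have h2 : p.roots.toFinset.card ≤ q := by
    rw [← hdeg]
    exact (Multiset.toFinset_card_le _).trans (Polynomial.card_roots' p)
  rw [Finset.card_univ, hF] at h1
  nlinarith

/-- A subfield of prime index `r` above `F₁`, for a prime `r` dividing `[F : F₁]`. -/
theorem exists_subfield_of_prime_dvd (F₁ : Subfield F) (r : ℕ) (hr : r.Prime)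
    (hdvd : r ∣ Module.finrank F₁ F) :
    ∃ F₀ : Subfield F, F₁ ≤ F₀ ∧ Fintype.card F = Nat.card F₀ ^ r := by
  classical
  have hcard : Nat.card (F ≃ₐ[F₁] F) = Module.finrank F₁ F := IsGalois.card_aut_eq_finrank F₁ F
  have : Fact r.Prime := ⟨hr⟩
  obtain ⟨g, hg⟩ := exists_prime_orderOf_dvd_card' (G := F ≃ₐ[F₁] F) r (by rw [hcard]; exact hdvd)
  let E : IntermediateField F₁ F := IntermediateField.fixedField (Subgroup.zpowers g)
  have hfr : Module.finrank E F = r := by
    rw [IntermediateField.finrank_fixedField_eq_card, Nat.card_zpowers, hg]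
  refine ⟨E.toSubfield, ?_, ?_⟩
  · intro x hx
    exact E.algebraMap_mem ⟨x, hx⟩
  · have h := Module.card_eq_pow_finrank (K := E) (V := F)
    rw [hfr] at h
    rw [h, Nat.card_eq_fintype_card]
    rfl

/-- The index of a subfield, from the cardinalities. -/
theorem finrank_eq_of_card (F₀ : Subfield F) (r : ℕ) (hcard : Fintype.card F = Nat.card F₀ ^ r) :
    Module.finrank F₀ F = r := by
  classical
  have : Fintype F₀ := Fintype.ofFinite F₀
  have h := Module.card_eq_pow_finrank (K := F₀) (V := F)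
  rw [hcard, Nat.card_eq_fintype_card] at h
  have h1 : 1 < Fintype.card F₀ := Fintype.one_lt_card
  exact (Nat.pow_right_injective h1 h).symm

/-- If `σ = (· ^ q)` fixes the subfield `F₀` pointwise then `[F : F₀]` is even. -/
theorem even_finrank_of_fixed (hF : Fintype.card F = q ^ 2) (F₀ : Subfield F)
    (hfix : ∀ t ∈ F₀, t ^ q = t) : 2 ∣ Module.finrank F₀ F := by
  classical
  obtain ⟨σ, hσ, hσ2⟩ := Cfsg.Agent.Lib.H4.exists_frob hF
  have hcm : ∀ t : F₀, σ (algebraMap F₀ F t) = algebraMap F₀ F t := fun t => by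
    show σ (t : F) = (t : F)
    rw [hσ]; exact hfix _ t.2
  let σa : F →ₐ[F₀] F := { σ with commutes' := hcm }
  have hbij : Function.Bijective σa := by
    refine ⟨fun x y h => ?_, fun y => ⟨σ y, hσ2 y⟩⟩
    have h' : σ x = σ y := h
    rw [← hσ2 x, ← hσ2 y, h']
  let σe : F ≃ₐ[F₀] F := AlgEquiv.ofBijective σa hbij
  have hσe : ∀ x, σe x = σ x := fun x => rfl
  have h2 : σe ^ 2 = 1 := by
    ext x
    rw [pow_two, AlgEquiv.mul_apply, hσe, hσe, hσ2, AlgEquiv.one_apply]
  have h1 : σe ≠ 1 := by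
    intro h
    obtain ⟨x, hx⟩ := exists_pow_ne hF
    apply hx
    have := congrArg (fun f : F ≃ₐ[F₀] F => f x) h
    simp only [AlgEquiv.one_apply, hσe, hσ] at this
    exact this
  have hord : orderOf σe = 2 := orderOf_eq_prime h2 h1
  have hcard : Nat.card (F ≃ₐ[F₀] F) = Module.finrank F₀ F := IsGalois.card_aut_eq_finrank F₀ F
  rw [← hcard, ← hord]
  exact orderOf_dvd_natCard σe

/-- The dichotomy for a proper subfield `F₁`: it lies in a subfield of odd prime index not fixed pointwise by `σ`, or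
in a subfield of index two. -/
theorem exists_subfield_cases (hF : Fintype.card F = q ^ 2) (F₁ : Subfield F) (hne : F₁ ≠ ⊤) :
    (∃ (F₀ : Subfield F) (r : ℕ), F₁ ≤ F₀ ∧ r.Prime ∧ Odd r ∧ Fintype.card F = Nat.card F₀ ^ r ∧
        ∃ t ∈ F₀, t ^ q ≠ t) ∨
    (∃ F₀ : Subfield F, F₁ ≤ F₀ ∧ Fintype.card F = Nat.card F₀ ^ 2) := by
  classical
  have hm : Module.finrank F₁ F ≠ 1 := by
    intro h1
    apply hne
    have hbt : (⊥ : Subalgebra F₁ F) = ⊤ := Subalgebra.bot_eq_top_of_finrank_eq_one h1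
    rw [eq_top_iff]
    intro x _
    have hx : x ∈ (⊥ : Subalgebra F₁ F) := by rw [hbt]; exact Algebra.mem_top
    obtain ⟨y, hy⟩ := Algebra.mem_bot.mp hx
    rw [← hy]
    exact y.2
  by_cases h : ∃ r, r.Prime ∧ Odd r ∧ r ∣ Module.finrank F₁ F
  · left
    obtain ⟨r, hr, hodd, hdvd⟩ := h
    obtain ⟨F₀, hle, hcard⟩ := exists_subfield_of_prime_dvd F₁ r hr hdvd
    refine ⟨F₀, r, hle, hr, hodd, hcard, ?_⟩
    by_contra hcon
    push Not at hcon
    have h2 := even_finrank_of_fixed hF F₀ hcon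
    rw [finrank_eq_of_card F₀ r hcard] at h2
    exact (Nat.not_even_iff_odd.2 hodd) (even_iff_two_dvd.2 h2)
  · right
    obtain ⟨r, hr, hdvd⟩ := Nat.exists_prime_and_dvd hm
    have hr2 : r = 2 := by
      rcases hr.eq_two_or_odd' with h2 | h2
      · exact h2
      · exact absurd ⟨r, hr, h2, hdvd⟩ h
    subst hr2
    exact exists_subfield_of_prime_dvd F₁ 2 hr hdvd

/-- The fixed field of the involution `σ`, of index two. -/
theorem exists_fixed_subfield (hF : Fintype.card F = q ^ 2) :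
    ∃ F₀ : Subfield F, (∀ x, x ∈ F₀ ↔ x ^ q = x) ∧ Fintype.card F = Nat.card F₀ ^ 2 := by
  classical
  obtain ⟨σ, hσ, hσ2⟩ := Cfsg.Agent.Lib.H4.exists_frob hF
  let F₁ : Subfield F := RingHom.eqLocusField σ (RingHom.id F)
  have hF₁ : ∀ x, x ∈ F₁ ↔ x ^ q = x := by
    intro x
    show σ x = RingHom.id F x ↔ _
    rw [hσ]; rfl
  have h2 := even_finrank_of_fixed hF F₁ (fun t ht => (hF₁ t).1 ht)
  obtain ⟨F₀, -, hcard⟩ := exists_subfield_of_prime_dvd F₁ 2 Nat.prime_two h2
  exact ⟨F₀, fun x => mem_subfield_iff_pow_eq hF F₀ hcard x, hcard⟩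

end Cfsg.Agent.Lib.H25.Asch
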