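/-
S5663 (unitary Aschbacher), tool **UT5** (helper25): class 5 from realisability over a proper subfield.
Exact signature of `tools/blueprints/S5663_sigs.lean`.
-/
import Cfsg.Agent.Lib.H25.AschUT5e

set_option autoImplicit false

namespace Cfsg.Agent.Lib.H25.Asch

open Cfsg Cfsg.Geo Cfsg.Agent.Lib.Lead.Asch Cfsg.Agent.Lib.H17.Asch
open scoped MatrixGroups Matrix Kronecker

variable {F : Type*} [Field F] [Fintype F] {n q : ℕ}

/-- **UT5** (class 5 from realisability). -/
theorem uc5_of_realisable (hF : Fintype.card F = q ^ 2) (hn : 2 ≤ n)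
    (H N : Subgroup (GL (Fin n) F)) (hH : H ≤ GU n F q) (hNH : N ≤ H)
    (hnorm : NormalizedBy H N) (habs : ActsAbsolutelyIrreducibly (matrixSet N))
    (F₁ : Subfield F) (hne : F₁ ≠ ⊤) (hreal : RealisableOver F₁ (matrixSet N)) : UC5 q H := by
  obtain ⟨B, hB⟩ := hreal
  have hB' : ∀ x ∈ N, ∀ i j, cj B x i j ∈ F₁ := fun x hx i j => hB _ ⟨x, hx, rfl⟩ i j
  rcases exists_subfield_cases hF F₁ hne with ⟨F₀, r, hle, hr, hodd, hcard, hne'⟩ | ⟨F₀, hle, hcard⟩
  · exact Or.inl (uc5a_of_realised hF (by omega) H N hH hNH hnorm habs.2 F₀ r hr hodd hcard hne' B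
      (fun x hx i j => hle (hB' x hx i j)))
  · exact (uc5bc_of_realised hF hn H N hH hNH hnorm habs F₀ hcard B
      (fun x hx i j => hle (hB' x hx i j))).elim (fun h => Or.inr (Or.inl h)) (fun h => Or.inr (Or.inr h))

end Cfsg.Agent.Lib.H25.Asch
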