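/-
S5663 (unitary Aschbacher) tool UT5' (helper25), part f: Galois descent for a semilinear involution
(`T σ(T) = 1` implies `T = P σ(P)⁻¹` for some invertible `P`), for an involution `σ` of a finite field.
-/
import Cfsg.Agent.Lib.H25.AschUT5e

set_option autoImplicit false

namespace Cfsg.Agent.Lib.H25.Asch

open Cfsg Cfsg.Geo Cfsg.Agent.Lib.Lead.Asch Cfsg.Agent.Lib.H6.Asch
open scoped MatrixGroups Matrix

variable {F : Type*} [Field F] [Fintype F] {n : ℕ}

/-- **Descent**: a `σ`-semilinear involution `v ↦ T σ(v)` has a basis of fixed vectors. -/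
theorem exists_GL_of_semilinear_involution (σ : F →+* F) (hσ2 : ∀ a, σ (σ a) = a) (hne : ∃ ω, σ ω ≠ ω)
    (T : Matrix (Fin n) (Fin n) F) (hT : T * T.map σ = 1) :
    ∃ P : GL (Fin n) F, T * (P : Matrix (Fin n) (Fin n) F).map σ = (P : Matrix (Fin n) (Fin n) F) := by
  classical
  obtain ⟨ω, hω⟩ := hne
  -- the semilinear map
  let τ : (Fin n → F) → (Fin n → F) := fun v => T *ᵥ (fun i => σ (v i))
  have hτadd : ∀ u v, τ (u + v) = τ u + τ v := by
    intro u v
    simp only [τ]
    rw [← Matrix.mulVec_add]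
    congr 1
    funext i
    simp
  have hτsmul : ∀ (a : F) v, τ (a • v) = σ a • τ v := by
    intro a v
    simp only [τ]
    rw [← Matrix.mulVec_smul]
    congr 1
    funext i
    simp
  have hττ : ∀ v, τ (τ v) = v := by
    intro v
    simp only [τ]
    rw [map_mulVec_fun, Matrix.mulVec_mulVec, hT, Matrix.one_mulVec]
    funext i
    exact hσ2 (v i)
  -- fixed vectors span
  let V₀ : Set (Fin n → F) := {v | τ v = v}
  have hfix1 : ∀ v, v + τ v ∈ V₀ := by
    intro v
    show τ (v + τ v) = v + τ v
    rw [hτadd, hττ, add_comm]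
  have hspan : ⊤ ≤ Submodule.span F V₀ := by
    intro v _
    have h1 : v + τ v ∈ Submodule.span F V₀ := Submodule.subset_span (hfix1 v)
    have h2 : ω • v + τ (ω • v) ∈ Submodule.span F V₀ := Submodule.subset_span (hfix1 (ω • v))
    rw [hτsmul] at h2
    have hne0 : ω - σ ω ≠ 0 := fun h => hω (sub_eq_zero.1 h).symm
    have h3 : v = (ω - σ ω)⁻¹ • ((ω • v + σ ω • τ v) - σ ω • (v + τ v)) := by
      have : (ω • v + σ ω • τ v) - σ ω • (v + τ v) = (ω - σ ω) • v := by
        rw [smul_add, sub_smul]; abel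
      rw [this, smul_smul, inv_mul_cancel₀ hne0, one_smul]
    rw [h3]
    exact Submodule.smul_mem _ _ (Submodule.sub_mem _ h2 (Submodule.smul_mem _ _ h1))
  -- a basis of fixed vectors
  let b := Module.Basis.ofSpan hspan
  have hbmem : ∀ i, τ (b i) = b i := fun i =>
    Module.Basis.ofSpan_subset hspan ⟨i, rfl⟩
  have : Fintype ((linearIndepOn_empty F id).extend (Set.empty_subset V₀)) := Fintype.ofFinite _
  have hcard : Fintype.card ((linearIndepOn_empty F id).extend (Set.empty_subset V₀)) =
      Fintype.card (Fin n) := by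
    rw [← Module.finrank_eq_card_basis b, Module.finrank_fin_fun, Fintype.card_fin]
  let e := Fintype.equivOfCardEq hcard
  let b' : Module.Basis (Fin n) F (Fin n → F) := b.reindex e
  have hb'mem : ∀ j, τ (b' j) = b' j := fun j => by
    have : b' j = b (e.symm j) := by simp [b']
    rw [this]; exact hbmem _
  let std : Module.Basis (Fin n) F (Fin n → F) := Pi.basisFun F (Fin n)
  let P : GL (Fin n) F :=
    ⟨std.toMatrix b', b'.toMatrix std, Module.Basis.toMatrix_mul_toMatrix_flip _ _,
      Module.Basis.toMatrix_mul_toMatrix_flip _ _⟩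
  refine ⟨P, ?_⟩
  ext i j
  have hP : ∀ i j, (P : Matrix (Fin n) (Fin n) F) i j = b' j i := by
    intro i j
    show std.toMatrix b' i j = _
    rw [Module.Basis.toMatrix_apply]
    simp [std]
  rw [hP, ← hb'mem j]
  simp only [τ, Matrix.mul_apply, Matrix.mulVec, dotProduct, Matrix.map_apply, hP]

end Cfsg.Agent.Lib.H25.Asch
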