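/-
S5663 (unitary Aschbacher), tool **UT5'** (helper25): an absolutely irreducible normal subgroup of a unitary group
fixing a non-zero bilinear form is realisable over `F_q`; class 5, kind b or c.
Exact signature of `tools/blueprints/S5663_sigs.lean`.
-/
import Cfsg.Agent.Lib.H25.AschUT5f

set_option autoImplicit false

namespace Cfsg.Agent.Lib.H25.Asch

open Cfsg Cfsg.Geo Cfsg.Agent.Lib.Lead.Asch Cfsg.Agent.Lib.H6.Asch Cfsg.Agent.Lib.H17.Asch
open scoped MatrixGroups Matrix Kronecker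

variable {F : Type*} [Field F] [Fintype F] {n q : ℕ}

/-- **UT5'**. -/
theorem uc5_of_fixes_bilin (hF : Fintype.card F = q ^ 2) (hn : 2 ≤ n)
    (H N : Subgroup (GL (Fin n) F)) (hH : H ≤ GU n F q) (hNH : N ≤ H)
    (hnorm : NormalizedBy H N) (habs : ActsAbsolutelyIrreducibly (matrixSet N))
    (B : Matrix (Fin n) (Fin n) F) (hB : B ≠ 0)
    (hfix : ∀ g ∈ matrixSet N, gᵀ * B * g = B) : UC5b q H ∨ UC5c q H := by
  classical
  have hn0 : 0 < n := by omega
  have hne' : Nonempty (Fin n) := ⟨⟨0, hn0⟩⟩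
  obtain ⟨σ, hσ, hσ2⟩ := Cfsg.Agent.Lib.H4.exists_frob hF
  have hσσ : ∀ X : Matrix (Fin n) (Fin n) F, (X.map σ).map σ = X := by
    intro X
    ext i j
    exact hσ2 (X i j)
  have hfix' : ∀ g ∈ matrixSet N, gᵀ * B * g.map (RingHom.id F) = B := by
    intro g hg; rw [map_id_eq]; exact hfix g hg
  have hBdet : IsUnit B.det :=
    isUnit_det_of_fix (RingHom.id F) (matrixSet N) habs.1 (isUnit_det_of_mem_matrixSet N) B hB hfix'
  set T : Matrix (Fin n) (Fin n) F := B.map σ with hT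
  have hTdet : IsUnit T.det := by
    have : T.det = σ B.det := (RingHom.map_det σ B).symm
    rw [this]
    exact hBdet.map σ
  -- key1 : `B g = σ(g) B`
  have key1 : ∀ x ∈ N, B * (x : Matrix (Fin n) (Fin n) F) = (x : Matrix (Fin n) (Fin n) F).map σ * B := by
    intro x hx
    have h1 := GU_matrix_eq σ hσ (hH (hNH hx))
    have h2 : (x : Matrix (Fin n) (Fin n) F).map σ * (x : Matrix (Fin n) (Fin n) F)ᵀ = 1 :=
      mul_eq_one_comm.1 h1
    have h3 := hfix _ ⟨x, hx, rfl⟩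
    calc B * (x : Matrix (Fin n) (Fin n) F)
        = ((x : Matrix (Fin n) (Fin n) F).map σ * (x : Matrix (Fin n) (Fin n) F)ᵀ) * B *
            (x : Matrix (Fin n) (Fin n) F) := by rw [h2, Matrix.one_mul]
      _ = (x : Matrix (Fin n) (Fin n) F).map σ *
            ((x : Matrix (Fin n) (Fin n) F)ᵀ * B * (x : Matrix (Fin n) (Fin n) F)) := by
          simp only [Matrix.mul_assoc]
      _ = (x : Matrix (Fin n) (Fin n) F).map σ * B := by rw [h3]
  -- key2 : `T σ(g) = g T`
  have key2 : ∀ x ∈ N, T * (x : Matrix (Fin n) (Fin n) F).map σ = (x : Matrix (Fin n) (Fin n) F) * T := by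
    intro x hx
    have := congrArg (fun X : Matrix (Fin n) (Fin n) F => X.map σ) (key1 x hx)
    simp only [Matrix.map_mul, hσσ] at this
    exact this
  -- `C = T B` is a scalar
  obtain ⟨κ, hκ⟩ := habs.2 (T * B) (by
    rintro _ ⟨x, hx, rfl⟩
    rw [Matrix.mul_assoc, key1 x hx, ← Matrix.mul_assoc, key2 x hx, Matrix.mul_assoc])
  have hκ0 : κ ≠ 0 := by
    rintro rfl
    have h1 : (T * B).det = 0 := by rw [hκ, zero_smul, Matrix.det_zero]
    rw [Matrix.det_mul] at h1
    rcases mul_eq_zero.1 h1 with h | h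
    · exact hTdet.ne_zero h
    · exact hBdet.ne_zero h
  have hκσ : σ κ = κ := by
    -- `B T = κ` as well
    have h1 : B * T = κ • (1 : Matrix (Fin n) (Fin n) F) := by
      have hBB : B * B⁻¹ = 1 := Matrix.mul_nonsing_inv B hBdet
      calc B * T = B * (T * B) * B⁻¹ := by
            rw [Matrix.mul_assoc, Matrix.mul_assoc, hBB, Matrix.mul_one]
        _ = κ • (1 : Matrix (Fin n) (Fin n) F) := by
            rw [hκ, Matrix.mul_smul, Matrix.mul_one, Matrix.smul_mul, hBB]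
    have h2 := congrArg (fun X : Matrix (Fin n) (Fin n) F => X.map σ) hκ
    simp only [Matrix.map_mul, hσσ] at h2
    rw [hT, hσσ] at h2
    rw [← hT, h1] at h2
    have h3 := congrFun (congrFun h2 ⟨0, hn0⟩) ⟨0, hn0⟩
    simp at h3
    exact h3.symm
  -- normalisation
  obtain ⟨μ, hμ0, hμ⟩ := exists_norm_eq hF κ⁻¹ (inv_ne_zero hκ0) (by
    rw [← hσ, map_inv₀, hκσ])
  set T₁ : Matrix (Fin n) (Fin n) F := σ μ • T with hT₁
  have hT₁σ : T₁.map σ = μ • B := by
    rw [hT₁]
    ext i j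
    simp [hT, hσ2]
  have hT₁inv : T₁ * T₁.map σ = 1 := by
    rw [hT₁σ, hT₁, Matrix.smul_mul, Matrix.mul_smul, hκ, smul_smul, smul_smul, hσ,
      mul_comm (μ ^ q), hμ, inv_mul_cancel₀ hκ0, one_smul]
  have key3 : ∀ x ∈ N, T₁ * (x : Matrix (Fin n) (Fin n) F).map σ = (x : Matrix (Fin n) (Fin n) F) * T₁ := by
    intro x hx
    rw [hT₁, Matrix.smul_mul, key2 x hx, Matrix.mul_smul]
  -- descent
  obtain ⟨P, hP⟩ := exists_GL_of_semilinear_involution σ hσ2
    (by obtain ⟨x, hx⟩ := exists_pow_ne hF; exact ⟨x, by rw [hσ]; exact hx⟩) T₁ hT₁inv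
  obtain ⟨F₀, hF₀, hcard⟩ := exists_fixed_subfield hF
  refine uc5bc_of_realised hF hn H N hH hNH hnorm habs F₀ hcard P⁻¹ ?_
  intro x hx i j
  rw [hF₀, ← hσ]
  -- `σ(y) = y` for `y = P⁻¹ x P`
  set y : Matrix (Fin n) (Fin n) F := cj P⁻¹ x with hy
  have hPy : (P : Matrix (Fin n) (Fin n) F) * y = (x : Matrix (Fin n) (Fin n) F) * (P : Matrix (Fin n) (Fin n) F) := by
    rw [hy, cj_eq, inv_inv, ← Matrix.mul_assoc, ← Matrix.mul_assoc, ← Units.val_mul, mul_inv_cancel,
      Units.val_one, Matrix.one_mul]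
  have h1 : (P : Matrix (Fin n) (Fin n) F) * y.map σ = (P : Matrix (Fin n) (Fin n) F) * y := by
    calc (P : Matrix (Fin n) (Fin n) F) * y.map σ
        = T₁ * ((P : Matrix (Fin n) (Fin n) F) * y).map σ := by
          rw [Matrix.map_mul, ← Matrix.mul_assoc, hP]
      _ = T₁ * (x : Matrix (Fin n) (Fin n) F).map σ * (P : Matrix (Fin n) (Fin n) F).map σ := by
          rw [hPy, Matrix.map_mul, Matrix.mul_assoc]
      _ = (x : Matrix (Fin n) (Fin n) F) * (T₁ * (P : Matrix (Fin n) (Fin n) F).map σ) := by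
          rw [key3 x hx, Matrix.mul_assoc]
      _ = (P : Matrix (Fin n) (Fin n) F) * y := by rw [hP, hPy]
  have h2 : y.map σ = y := by
    have := congrArg (fun X => ((P⁻¹ : GL (Fin n) F) : Matrix (Fin n) (Fin n) F) * X) h1
    simp only [← Matrix.mul_assoc, ← Units.val_mul, inv_mul_cancel, Units.val_one, Matrix.one_mul] at this
    exact this
  have := congrFun (congrFun h2 i) j
  rwa [Matrix.map_apply] at this

end Cfsg.Agent.Lib.H25.Asch
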