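/-
Copyright (c) helper25.

Exponent of the terms of the upper central series in terms of the exponent of the centre.
-/
import Mathlib

set_option autoImplicit false

namespace Cfsg.Agent.Lib.H25

open scoped commutatorElement

universe u

/-- If `⁅z, y⁆` commutes with `z` then `⁅z^j, y⁆ = ⁅z, y⁆^j`. -/
theorem comm_pow_of_commute {G : Type*} [Group G] (z y : G) (h : Commute z ⁅z, y⁆) (j : ℕ) :
    ⁅z ^ j, y⁆ = ⁅z, y⁆ ^ j := by
  induction j with
  | zero => simp
  | succ j ih =>
    have e1 : ⁅z ^ (j + 1), y⁆ = z * ⁅z ^ j, y⁆ * z⁻¹ * ⁅z, y⁆ := by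
      simp only [commutatorElement_def, pow_succ']
      group
    rw [e1, ih]
    have h2 : Commute z (⁅z, y⁆ ^ j) := h.pow_right j
    have e2 : z * ⁅z, y⁆ ^ j * z⁻¹ = ⁅z, y⁆ ^ j := by
      rw [h2.eq]
      group
    rw [e2, pow_succ]

/-- Elements of the second centre have `e`-th power in the centre when the centre has exponent
dividing `e`. -/
theorem pow_mem_center_of_ucs2 {G : Type*} [Group G] (e : ℕ) (he : ∀ z ∈ Subgroup.center G, z ^ e = 1)
    {z : G} (hz : z ∈ Subgroup.upperCentralSeries G 2) : z ^ e ∈ Subgroup.center G := by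
  rw [Subgroup.mem_upperCentralSeries_succ_iff] at hz
  rw [Subgroup.mem_center_iff]
  intro y
  have hc : ⁅z, y⁆ ∈ Subgroup.center G := by
    have := hz y
    rwa [Subgroup.upperCentralSeries_one] at this
  have hcomm : Commute z ⁅z, y⁆ := ((Subgroup.mem_center_iff.1 hc) z)
  have h1 := comm_pow_of_commute z y hcomm e
  rw [he _ hc] at h1
  -- ⁅z^e, y⁆ = 1 means they commute
  have h2 : z ^ e * y * (z ^ e)⁻¹ * y⁻¹ = 1 := h1
  calc y * z ^ e = (z ^ e * y * (z ^ e)⁻¹ * y⁻¹)⁻¹ * (z ^ e * y) := by group
    _ = z ^ e * y := by rw [h2]; group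

/-- If the centre has exponent dividing `e`, the `k`-th term of the upper central series has
exponent dividing `e^k`. -/
theorem pow_eq_one_of_mem_ucs (e : ℕ) : ∀ k : ℕ, ∀ (G : Type u) [Group G],
    (∀ z ∈ Subgroup.center G, z ^ e = 1) → ∀ x ∈ Subgroup.upperCentralSeries G k, x ^ (e ^ k) = 1 := by
  intro k
  induction k with
  | zero =>
    intro G _ _ x hx
    rw [Subgroup.upperCentralSeries_zero, Subgroup.mem_bot] at hx
    rw [hx, one_pow]
  | succ k ih =>
    intro G _ he x hx
    have he' : ∀ z' ∈ Subgroup.center (G ⧸ Subgroup.center G), z' ^ e = 1 := by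
      intro z' hz'
      obtain ⟨z, rfl⟩ := QuotientGroup.mk'_surjective (Subgroup.center G) z'
      have hz2 : z ∈ Subgroup.upperCentralSeries G 2 := by
        have := Subgroup.comap_upperCentralSeries_quotient_center (G := G) 1
        rw [← this, Subgroup.mem_comap, Subgroup.upperCentralSeries_one]
        exact hz'
      have := pow_mem_center_of_ucs2 e he hz2
      rw [← map_pow]
      exact (QuotientGroup.eq_one_iff _).2 this
    have hx' : (QuotientGroup.mk' (Subgroup.center G) x) ∈ Subgroup.upperCentralSeries (G ⧸ Subgroup.center G) k := by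
      have := Subgroup.comap_upperCentralSeries_quotient_center (G := G) k
      rw [← this, Subgroup.mem_comap] at hx
      exact hx
    have h1 := ih (G ⧸ Subgroup.center G) he' _ hx'
    rw [← map_pow] at h1
    have h2 : x ^ (e ^ k) ∈ Subgroup.center G := (QuotientGroup.eq_one_iff _).1 h1
    have h3 := he _ h2
    rw [← pow_mul, ← pow_succ] at h3
    exact h3

end Cfsg.Agent.Lib.H25
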