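import Cfsg.Agent.Lib.H5.Glaub.Defs

set_option autoImplicit false

/-!
# S4359 (Glauberman 1969, Theorem 1), piece (TQ): `2t ≤ 3q` when `q < t` (helper25)

Blueprint: `tools/blueprints/S4359.md`; exact signature from `tools/blueprints/S4359_sigs.lean`.
-/

open scoped Pointwise

namespace Cfsg.Agent.Lib.H25.Glaub

open Cfsg.Agent.Lib.H5.Glaub Cfsg.Agent.Lib.H5.Glaub.Setup

variable {G : Type*} [Group G]

/-- a subgroup of index `p` in a group of order `p ^ (k+1)` is normalised by that group -/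
theorem conj_mem_of_card [Finite G] {p : ℕ} (hp : p.Prime) {A B : Subgroup G} (hAB : A ≤ B) {k : ℕ}
    (hB : Nat.card B = p ^ (k + 1)) (hA : Nat.card A = p ^ k) {b a : G} (hb : b ∈ B) (ha : a ∈ A) :
    b * a * b⁻¹ ∈ A := by
  have hidx : (A.subgroupOf B).index = p := by
    have h1 : Nat.card A * A.relIndex B = Nat.card B := by
      have := Subgroup.relIndex_mul_relIndex (H := (⊥ : Subgroup G)) (K := A) (L := B) bot_le hAB
      rwa [Subgroup.relIndex_bot_left, Subgroup.relIndex_bot_left] at this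
    rw [hA, hB, pow_succ] at h1
    have hpos : 0 < p ^ k := pow_pos hp.pos k
    exact Nat.eq_of_mul_eq_mul_left hpos h1
  have hmin : (Nat.card B).minFac = p := by
    rw [hB, Nat.pow_minFac (Nat.succ_ne_zero k), hp.minFac_eq]
  have hn : (A.subgroupOf B).Normal := Subgroup.normal_of_index_eq_minFac_card (by rw [hidx, hmin])
  have := hn.conj_mem ⟨a, hAB ha⟩ (Subgroup.mem_subgroupOf.mpr ha) ⟨b, hb⟩
  exact Subgroup.mem_subgroupOf.mp this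

/-- an element normalising `A` normalises its centre -/
theorem conj_mem_zc {A : Subgroup G} {v : G} (hv : ∀ a ∈ A, v * a * v⁻¹ ∈ A)
    (hv' : ∀ a ∈ A, v⁻¹ * a * v ∈ A) {x : G} (hx : x ∈ zc A) : v * x * v⁻¹ ∈ zc A := by
  rw [mem_zc] at hx ⊢
  refine ⟨hv x hx.1, fun y hy => ?_⟩
  have h := hx.2 _ (hv' y hy)
  calc y * (v * x * v⁻¹) = v * ((v⁻¹ * y * v) * x) * v⁻¹ := by group
    _ = v * (x * (v⁻¹ * y * v)) * v⁻¹ := by rw [h]
    _ = v * x * v⁻¹ * y := by group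

variable [Finite G]

set_option linter.unusedVariables false in
/-- (TQ) Step 7: `2t ≤ 3q` when `q < t`. -/
theorem two_t_le (S : Setup G) (t q : ℕ) (hU : S.Uni t) (hI : S.Ivl t) (hD : S.Dist t q)
    (hC : S.Cen t q) (hq : q + 1 ≤ t) : 2 * t ≤ 3 * q := by
  have hq1 := hD.pos
  have hp := S.hp
  -- non-commuting elements
  have hnc := hD.ncomm ((t : ℤ) - q - 1)
  have e1 : (t : ℤ) - q - 1 + q = t - 1 := by ring
  rw [e1] at hnc
  unfold Comm at hnc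
  push Not at hnc
  obtain ⟨u, hu, v, hv, huv⟩ := hnc
  -- the two centres
  obtain ⟨hN, hN'⟩ := hC 0 ((t : ℤ) - 2) (by omega) (by omega)
  obtain ⟨hN2, -⟩ := hC ((t : ℤ) - q) (2 * (t : ℤ) - q - 2) (by omega) (by omega)
  have ht2q : (t : ℤ) ≤ 2 * q := by omega
  -- cardinalities
  have card_Iv : ∀ a b : ℤ, a ≤ b → b < a + t → ∀ k : ℕ, (k : ℤ) = b - a + 1 →
      Nat.card (S.Iv t a b) = S.p ^ k := by
    intro a b h1 h2 k hk
    rw [hI.card a b h1 h2]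
    congr 1
    omega
  -- `c`
  set c := v * u * v⁻¹ * u⁻¹ with hc
  have hc1 : c ≠ 1 := by
    intro h
    apply huv
    have : v * u = u * v := by
      calc v * u = (v * u * v⁻¹ * u⁻¹) * (u * v) := by group
        _ = u * v := by rw [← hc, h, one_mul]
    exact this.symm
  -- (1) `c ∈ N = Z(I[0,t-2])`
  have hvB : v ∈ S.Iv t 0 ((t : ℤ) - 1) := S.X_le_Iv t (by omega) le_rfl hv
  have hnorm1 : ∀ x ∈ S.Iv t 0 ((t : ℤ) - 1), ∀ a ∈ S.Iv t 0 ((t : ℤ) - 2),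
      x * a * x⁻¹ ∈ S.Iv t 0 ((t : ℤ) - 2) := by
    intro x hx a ha
    exact conj_mem_of_card hp (S.Iv_mono t le_rfl (by omega)) (k := t - 1)
      (card_Iv 0 ((t : ℤ) - 1) (by omega) (by omega) (t - 1 + 1) (by omega))
      (card_Iv 0 ((t : ℤ) - 2) (by omega) (by omega) (t - 1) (by omega)) hx ha
  have huN : u ∈ zc (S.Iv t 0 ((t : ℤ) - 2)) := by
    rw [hN]
    exact S.X_le_Iv t (by omega) (by omega) hu
  have hcN : c ∈ zc (S.Iv t 0 ((t : ℤ) - 2)) := by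
    have h1 : v * u * v⁻¹ ∈ zc (S.Iv t 0 ((t : ℤ) - 2)) := by
      apply conj_mem_zc (fun a ha => hnorm1 v hvB a ha) _ huN
      intro a ha
      have := hnorm1 v⁻¹ ((S.Iv t 0 ((t : ℤ) - 1)).inv_mem hvB) a ha
      rwa [inv_inv] at this
    exact (zc _).mul_mem h1 ((zc _).inv_mem huN)
  rw [hN] at hcN
  -- (2) `c ∈ I[t-q,t-2]`
  have huB1 : u ∈ S.Iv t ((t : ℤ) - q - 1) ((t : ℤ) - 1) := S.X_le_Iv t le_rfl (by omega) hu
  have hvB1 : v ∈ S.Iv t ((t : ℤ) - q - 1) ((t : ℤ) - 1) := S.X_le_Iv t (by omega) le_rfl hv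
  have huA1 : u ∈ S.Iv t ((t : ℤ) - q - 1) ((t : ℤ) - 2) := S.X_le_Iv t le_rfl (by omega) hu
  have hvA2 : v ∈ S.Iv t ((t : ℤ) - q) ((t : ℤ) - 1) := S.X_le_Iv t (by omega) le_rfl hv
  have cardB1 := card_Iv ((t : ℤ) - q - 1) ((t : ℤ) - 1) (by omega) (by omega) (q + 1) (by push_cast; omega)
  have cardA1 := card_Iv ((t : ℤ) - q - 1) ((t : ℤ) - 2) (by omega) (by omega) q (by omega)
  have cardA2 := card_Iv ((t : ℤ) - q) ((t : ℤ) - 1) (by omega) (by omega) q (by omega)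
  have hcA1 : c ∈ S.Iv t ((t : ℤ) - q - 1) ((t : ℤ) - 2) := by
    have h1 : v * u * v⁻¹ ∈ S.Iv t ((t : ℤ) - q - 1) ((t : ℤ) - 2) :=
      conj_mem_of_card hp (S.Iv_mono t le_rfl (by omega)) cardB1 cardA1 hvB1 huA1
    exact Subgroup.mul_mem _ h1 (Subgroup.inv_mem _ huA1)
  have hcA2 : c ∈ S.Iv t ((t : ℤ) - q) ((t : ℤ) - 1) := by
    have h1 : u * v⁻¹ * u⁻¹ ∈ S.Iv t ((t : ℤ) - q) ((t : ℤ) - 1) :=
      conj_mem_of_card hp (S.Iv_mono t (by omega) le_rfl) cardB1 cardA2 huB1 (Subgroup.inv_mem _ hvA2)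
    have h2 : c = v * (u * v⁻¹ * u⁻¹) := by rw [hc]; group
    rw [h2]
    exact Subgroup.mul_mem _ hvA2 h1
  have hcA : c ∈ S.Iv t (max ((t : ℤ) - q - 1) ((t : ℤ) - q)) (min ((t : ℤ) - 2) ((t : ℤ) - 1)) := by
    rw [← hI.inf ((t : ℤ) - q - 1) ((t : ℤ) - 1) _ _ _ _ (by omega) le_rfl (by omega) (by omega) le_rfl]
    exact ⟨hcA1, hcA2⟩
  -- (3) `c ∈ N₂ = Z(I[t-q,2t-q-2])`
  have huB3 : u ∈ S.Iv t ((t : ℤ) - q - 1) (2 * (t : ℤ) - q - 2) := S.X_le_Iv t le_rfl (by omega) hu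
  have hnorm3 : ∀ x ∈ S.Iv t ((t : ℤ) - q - 1) (2 * (t : ℤ) - q - 2),
      ∀ a ∈ S.Iv t ((t : ℤ) - q) (2 * (t : ℤ) - q - 2),
      x * a * x⁻¹ ∈ S.Iv t ((t : ℤ) - q) (2 * (t : ℤ) - q - 2) := by
    intro x hx a ha
    exact conj_mem_of_card hp (S.Iv_mono t (by omega) le_rfl) (k := t - 1)
      (card_Iv ((t : ℤ) - q - 1) (2 * (t : ℤ) - q - 2) (by omega) (by omega) (t - 1 + 1) (by omega))
      (card_Iv ((t : ℤ) - q) (2 * (t : ℤ) - q - 2) (by omega) (by omega) (t - 1) (by omega)) hx ha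
  have hvN2 : v ∈ zc (S.Iv t ((t : ℤ) - q) (2 * (t : ℤ) - q - 2)) := by
    rw [hN2]
    exact S.X_le_Iv t (by omega) (by omega) hv
  have hcN2 : c ∈ zc (S.Iv t ((t : ℤ) - q) (2 * (t : ℤ) - q - 2)) := by
    have h1 : u * v⁻¹ * u⁻¹ ∈ zc (S.Iv t ((t : ℤ) - q) (2 * (t : ℤ) - q - 2)) := by
      apply conj_mem_zc (fun a ha => hnorm3 u huB3 a ha) _ ((zc _).inv_mem hvN2)
      intro a ha
      have := hnorm3 u⁻¹ (Subgroup.inv_mem _ huB3) a ha
      rwa [inv_inv] at this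
    have h2 : c = v * (u * v⁻¹ * u⁻¹) := by rw [hc]; group
    rw [h2]
    exact (zc _).mul_mem hvN2 h1
  rw [hN2] at hcN2
  -- (4) intersect
  have h4 : c ∈ S.Iv t (max ((t : ℤ) - 2 - q + 1) (max ((t : ℤ) - q - 1) ((t : ℤ) - q)))
      (min ((0 : ℤ) + q - 1) (min ((t : ℤ) - 2) ((t : ℤ) - 1))) := by
    rw [← hI.inf ((t : ℤ) - q - 1) ((t : ℤ) - 1) _ _ _ _ (by omega) (by omega) (by omega) (by omega)
      (by omega)]
    exact ⟨hcN, hcA⟩
  have h5 : c ∈ S.Iv t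
      (max (max ((t : ℤ) - 2 - q + 1) (max ((t : ℤ) - q - 1) ((t : ℤ) - q)))
        (2 * (t : ℤ) - q - 2 - q + 1))
      (min (min ((0 : ℤ) + q - 1) (min ((t : ℤ) - 2) ((t : ℤ) - 1))) ((t : ℤ) - q + q - 1)) := by
    rw [← hI.inf ((t : ℤ) - q - 1) ((t : ℤ) - 1) _ _ _ _ (by omega) (by omega) (by omega) (by omega)
      (by omega)]
    exact ⟨h4, hcN2⟩
  by_contra hcon
  rw [S.Iv_eq_bot t (by omega)] at h5
  exact hc1 (Subgroup.mem_bot.mp h5)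

end Cfsg.Agent.Lib.H25.Glaub
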