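import Mathlib

set_option autoImplicit false

/-!
# S4385 (Glauberman 1969, dihedral case), piece (IDX6) (helper25)

A normal four-group `W = {1, u, v, uv}` of a finite group `K` on which two elements act as the two
"transvections" has a centralizer of index 6.  Exact signature from helper1's farm-out (board #7105).
-/

namespace Cfsg.Agent.Lib.H25.G85

open MulAction in
/-- the index of the centralizer of an element is the size of its conjugacy class -/
theorem index_centralizer_singleton {K : Type*} [Group K] (u : K) :
    (Subgroup.centralizer ({u} : Set K)).index = {w : K | IsConj w u}.ncard := by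
  have key : (Subgroup.centralizer ({u} : Set K)).index =
      (MulAction.stabilizer (ConjAct K) u).index := by
    rw [Subgroup.centralizer_eq_comap_stabilizer]
    exact Subgroup.index_comap_of_surjective _ (ConjAct.toConjAct (G := K)).surjective
  rw [key, MulAction.index_stabilizer]
  congr 1
  ext w
  rw [ConjAct.mem_orbit_conjAct]
  rfl

set_option linter.unusedVariables false in
theorem index_centralizer_eq_six {K : Type*} [Group K] [Finite K] (W : Subgroup K) [W.Normal] (u v a b : K)
    (hW : ∀ g : K, g ∈ W ↔ g = 1 ∨ g = u ∨ g = v ∨ g = u * v) (hu : u ≠ 1) (hv : v ≠ 1) (huv : u ≠ v)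
    (hu2 : u * u = 1) (hv2 : v * v = 1) (hc : u * v = v * u)
    (hav : a * v * a⁻¹ = v) (hau : a * u * a⁻¹ = u * v) (hbu : b * u * b⁻¹ = u)
    (hbv : b * v * b⁻¹ = v * u) :
    (Subgroup.centralizer (W : Set K)).index = 6 := by
  have huW : u ∈ W := (hW u).mpr (Or.inr (Or.inl rfl))
  have hvW : v ∈ W := (hW v).mpr (Or.inr (Or.inr (Or.inl rfl)))
  have huv1 : u * v ≠ u := fun h => hv (by simpa using h)
  have huv2 : u * v ≠ v := fun h => hu (by simpa using h)
  have huv0 : u * v ≠ 1 := by
    intro h
    apply huv
    calc u = u * (v * v) := by rw [hv2, mul_one]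
      _ = (u * v) * v := by rw [mul_assoc]
      _ = v := by rw [h, one_mul]
  -- conjugates of nonidentity elements of `W`
  have conjW : ∀ g w : K, w ∈ W → w ≠ 1 → g * w * g⁻¹ = u ∨ g * w * g⁻¹ = v ∨ g * w * g⁻¹ = u * v := by
    intro g w hw hw1
    have h1 : g * w * g⁻¹ ∈ W := ‹W.Normal›.conj_mem w hw g
    rcases (hW _).mp h1 with h | h | h | h
    · exfalso
      apply hw1
      have : w = g⁻¹ * (g * w * g⁻¹) * g := by group
      rw [this, h]; group
    · exact Or.inl h
    · exact Or.inr (Or.inl h)
    · exact Or.inr (Or.inr h)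
  set C : Subgroup K := Subgroup.centralizer (W : Set K) with hC
  set Cu : Subgroup K := Subgroup.centralizer ({u} : Set K) with hCu
  have memCu : ∀ g : K, g ∈ Cu ↔ g * u * g⁻¹ = u := by
    intro g
    rw [hCu, Subgroup.mem_centralizer_iff]
    constructor
    · intro h
      have := h u rfl
      rw [← this]; group
    · intro h x hx
      rw [Set.mem_singleton_iff] at hx
      subst hx
      calc x * g = (g * x * g⁻¹) * g := by rw [h]
        _ = g * x := by group
  have memC : ∀ g : K, g ∈ C ↔ g * u * g⁻¹ = u ∧ g * v * g⁻¹ = v := by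
    intro g
    rw [hC, Subgroup.mem_centralizer_iff]
    constructor
    · intro h
      constructor
      · rw [← h u huW]; group
      · rw [← h v hvW]; group
    · rintro ⟨h1, h2⟩ x hx
      have e1 : u * g = g * u := by
        calc u * g = (g * u * g⁻¹) * g := by rw [h1]
          _ = g * u := by group
      have e2 : v * g = g * v := by
        calc v * g = (g * v * g⁻¹) * g := by rw [h2]
          _ = g * v := by group
      rcases (hW x).mp hx with h | h | h | h
      · rw [h]; simp
      · rw [h]; exact e1
      · rw [h]; exact e2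
      · rw [h, mul_assoc, e2, ← mul_assoc, e1, mul_assoc]
  have hle : C ≤ Cu := fun g hg => (memCu g).mpr ((memC g).mp hg).1
  -- index 3
  have h3 : Cu.index = 3 := by
    rw [hCu, index_centralizer_singleton, Set.ncard_eq_three]
    refine ⟨u, v, u * v, huv, fun h => huv1 h.symm, fun h => huv2 h.symm, ?_⟩
    ext w
    simp only [Set.mem_ofPred_eq, Set.mem_insert_iff, Set.mem_singleton_iff]
    constructor
    · intro h
      rw [isConj_iff] at h
      obtain ⟨c, hc'⟩ := h
      have hw : w = c⁻¹ * u * c⁻¹⁻¹ := by rw [← hc']; group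
      rw [hw]
      exact conjW c⁻¹ u huW hu
    · rintro (h | h | h)
      · rw [h]
      · rw [h, isConj_iff]
        refine ⟨(b * a)⁻¹, ?_⟩
        have : b * a * u * (b * a)⁻¹ = v := by
          calc b * a * u * (b * a)⁻¹ = b * (a * u * a⁻¹) * b⁻¹ := by group
            _ = b * (u * v) * b⁻¹ := by rw [hau]
            _ = (b * u * b⁻¹) * (b * v * b⁻¹) := by group
            _ = u * (v * u) := by rw [hbu, hbv]
            _ = v := by rw [← hc, ← mul_assoc, hu2, one_mul]
        rw [← this]; group
      · rw [h, isConj_iff]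
        refine ⟨a⁻¹, ?_⟩
        rw [← hau]; group
  -- index 2
  have h2 : C.relIndex Cu = 2 := by
    rw [Subgroup.relIndex_eq_two_iff]
    refine ⟨b, (memCu b).mpr hbu, fun g hg => ?_⟩
    have hgu := (memCu g).mp hg
    have hgb : g * b * v * (g * b)⁻¹ = (g * v * g⁻¹) * u := by
      calc g * b * v * (g * b)⁻¹ = g * (b * v * b⁻¹) * g⁻¹ := by group
        _ = g * (v * u) * g⁻¹ := by rw [hbv]
        _ = (g * v * g⁻¹) * (g * u * g⁻¹) := by group
        _ = (g * v * g⁻¹) * u := by rw [hgu]
    have hgbu : g * b * u * (g * b)⁻¹ = u := by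
      calc g * b * u * (g * b)⁻¹ = g * (b * u * b⁻¹) * g⁻¹ := by group
        _ = u := by rw [hbu, hgu]
    rcases conjW g v hvW hv with h | h | h
    · exfalso
      apply huv
      have : g * u * g⁻¹ = g * v * g⁻¹ := by rw [hgu, h]
      have h' : u = g⁻¹ * (g * u * g⁻¹) * g := by group
      rw [h', this]; group
    · -- `g ∈ C`, `g * b ∉ C`
      refine Or.inr ⟨(memC g).mpr ⟨hgu, h⟩, ?_⟩
      intro hgbC
      have := ((memC (g * b)).mp hgbC).2
      rw [hgb, h] at this
      exact hu (by simpa using this)
    · -- `g ∉ C`, `g * b ∈ C`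
      refine Or.inl ⟨(memC (g * b)).mpr ⟨hgbu, ?_⟩, ?_⟩
      · rw [hgb, h, hc, mul_assoc, hu2, mul_one]
      · intro hgC
        have := ((memC g).mp hgC).2
        rw [h] at this
        exact huv2 this
  rw [← Subgroup.relIndex_mul_index hle, h2, h3]

end Cfsg.Agent.Lib.H25.G85
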