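import Mathlib
import Cfsg.Agent.Lib.H10.M7920F0
import Cfsg.Agent.Lib.H18.M11Mult

/-!
# S3413 (commuting graph of `M₁₁`): the `M₁₁` side (helper25)

A simple group of order 7920 has an element `x ≠ 1` whose centralizer has order 11 (landed
`H10.M7920.sylow11_data`); `Spor.M11` is simple of order 7920 (landed `H18.M11Mult`, `H28.M11Simple`).
-/

set_option autoImplicit false

universe u

namespace Cfsg.Agent.Lib.H25.CG11

/-- a simple group of order 7920 has an element `x ≠ 1` with `|C(x)| = 11` -/
theorem exists_card_centralizer_eq_eleven {G : Type u} [Group G] [Finite G] [IsSimpleGroup G]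
    (hG : Nat.card G = 7920) :
    ∃ x : G, x ≠ 1 ∧ Nat.card (Subgroup.centralizer ({x} : Set G)) = 11 := by
  obtain ⟨K, hK11, hKC, -⟩ := Cfsg.Agent.Lib.H10.M7920.sylow11_data hG
  have hp : Fact (Nat.Prime 11) := ⟨by norm_num⟩
  have hcyc : IsCyclic K := isCyclic_of_prime_card (p := 11) hK11
  obtain ⟨g, hg⟩ := hcyc.exists_generator
  refine ⟨(g : G), ?_, ?_⟩
  · intro h1
    have hg1 : g = 1 := Subtype.ext h1
    -- then `K` is trivial
    have : ∀ k : K, k = 1 := by
      intro k
      obtain ⟨n, hn⟩ := Subgroup.mem_zpowers_iff.1 (hg k)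
      rw [← hn, hg1, one_zpow]
    have hsub : Subsingleton K := ⟨fun a b => by rw [this a, this b]⟩
    have : Nat.card K = 1 := Nat.card_unique
    rw [hK11] at this
    norm_num at this
  · have hcent : Subgroup.centralizer ({(g : G)} : Set G) = Subgroup.centralizer (K : Set G) := by
      ext h
      rw [Subgroup.mem_centralizer_singleton_iff, Subgroup.mem_centralizer_iff]
      constructor
      · intro hc k hk
        obtain ⟨n, hn⟩ := Subgroup.mem_zpowers_iff.1 (hg ⟨k, hk⟩)
        have hk' : k = (g : G) ^ n := by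
          have := congrArg (fun z : K => (z : G)) hn
          simpa using this.symm
        rw [hk']
        have hcomm : Commute h (g : G) := hc
        exact ((Commute.zpow_right hcomm n).eq).symm
      · intro hc
        exact (hc (g : G) g.2).symm
    rw [hcent, hKC, hK11]

theorem card_M11 : Nat.card ↥Cfsg.Spor.M11 = 7920 := by
  rw [Cfsg.Agent.Lib.H18.M11Mult.M11_eq]
  exact Cfsg.Agent.Lib.H18.M11Mult.card_G11

theorem isSimpleGroup_M11 : IsSimpleGroup ↥Cfsg.Spor.M11 := by
  rw [Cfsg.Agent.Lib.H18.M11Mult.M11_eq]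
  exact Cfsg.Agent.Lib.H28.isSimpleGroup_G11

theorem isM11_M11 : Cfsg.IsM11 ↥Cfsg.Spor.M11 := ⟨isSimpleGroup_M11, card_M11⟩

theorem exists_card_centralizer_eq_eleven_M11 :
    ∃ x : ↥Cfsg.Spor.M11, x ≠ 1 ∧
      Nat.card (Subgroup.centralizer ({x} : Set ↥Cfsg.Spor.M11)) = 11 := by
  haveI := isSimpleGroup_M11
  exact exists_card_centralizer_eq_eleven card_M11

end Cfsg.Agent.Lib.H25.CG11

#print axioms Cfsg.Agent.Lib.H25.CG11.exists_card_centralizer_eq_eleven_M11
#print axioms Cfsg.Agent.Lib.H25.CG11.isM11_M11
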