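import Mathlib
import Cfsg.Agent.Lib.H1.M11U.Base

/-!
# S0420 small helper MU (helper25): the number of common neighbours of two distinct non-adjacent
Sylow 3-subgroups is a constant `μ`

`mu_const_core` takes the piece `nonadj_trans` (SUB) as an explicit hypothesis in its sig shape;
the exact-form wrapper lives in `M11MUsig.lean`.
-/

set_option autoImplicit false
open scoped Pointwise

universe u

namespace Cfsg.Agent.Lib.H25.M11U

open Cfsg.Agent.Lib.H1.M11U

variable {G : Type u} [Group G] [Finite G]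

/-- an element of `G` carries the common neighbours of `x, y` bijectively onto those of `k • x, k • y` -/
theorem card_common_smul (k : G) (x y : Sylow 3 G) :
    Nat.card {w : Sylow 3 G // Adj x w ∧ Adj y w} =
      Nat.card {w : Sylow 3 G // Adj (k • x) w ∧ Adj (k • y) w} := by
  refine Nat.card_congr ((MulAction.toPerm k).subtypeEquiv ?_)
  intro w
  simp only [MulAction.toPerm_apply]
  rw [adj_smul, adj_smul]

/-- (MU core) with `nonadj_trans` as a hypothesis -/
theorem mu_const_core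
    (hna : ∀ {P P₁ P₂ : Sylow 3 G}, P₁ ≠ P → ¬ Adj P P₁ → P₂ ≠ P → ¬ Adj P P₂ →
      ∃ n ∈ Nrm P, n • P₁ = P₂) :
    ∃ μ : ℕ, ∀ x y : Sylow 3 G, x ≠ y → ¬ Adj x y →
      Nat.card {w : Sylow 3 G // Adj x w ∧ Adj y w} = μ := by
  by_cases hex : ∃ x₀ y₀ : Sylow 3 G, x₀ ≠ y₀ ∧ ¬ Adj x₀ y₀
  · obtain ⟨x₀, y₀, hne₀, hna₀⟩ := hex
    refine ⟨Nat.card {w : Sylow 3 G // Adj x₀ w ∧ Adj y₀ w}, ?_⟩
    intro x y hne hnadj
    obtain ⟨g, hg⟩ := MulAction.exists_smul_eq G x x₀
    have h1 : g • y ≠ x₀ := by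
      intro hcon
      apply hne
      have : g • y = g • x := by rw [hcon, hg]
      exact (smul_left_cancel g this).symm
    have h1' : ¬ Adj x₀ (g • y) := by
      rw [← hg, adj_smul]
      exact hnadj
    obtain ⟨n, hn, hny⟩ := hna h1 h1' (Ne.symm hne₀) hna₀
    have hnx : n • x₀ = x₀ := (smul_eq_iff n x₀).2 hn
    have hkx : (n * g) • x = x₀ := by rw [mul_smul, hg, hnx]
    have hky : (n * g) • y = y₀ := by rw [mul_smul, hny]
    rw [card_common_smul (n * g) x y, hkx, hky]
  · refine ⟨0, ?_⟩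
    intro x y hne hnadj
    exact absurd ⟨x, y, hne, hnadj⟩ hex

end Cfsg.Agent.Lib.H25.M11U

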