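import Cfsg.Agent.Lib.H25.SatCriteria

set_option autoImplicit false

/-!
The fusion system over `T ≤ S'` whose maps are the restrictions of the elements of a group `A` of
automorphisms of `S'` leaving `T` invariant and containing the conjugations by elements of `T`.
It is saturated as soon as every `p`-element of `A` acts on `T` as conjugation by an element of
`T` (helper25).
-/

namespace Cfsg.Agent.Lib.H25

open Cfsg Cfsg.FusionSystem

variable {Ω : Type*} [Group Ω]

/-- The restriction system of a group `A` of automorphisms of `S'` on the `A`-invariant subgroup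
`T`. -/
def autSystem (S' T : Subgroup Ω) (hT : T ≤ S') (A : Subgroup (MulAut S'))
    (hinv : ∀ α ∈ A, ∀ x : S', (x : Ω) ∈ T → ((α x : S') : Ω) ∈ T)
    (hconj : ∀ t : S', (t : Ω) ∈ T → MulAut.conj t ∈ A) : FusionSystem T where
  Hom R := {φ | ∃ hR : R ≤ T, ∃ α ∈ A, ∀ x : R, φ x = ((α ⟨x, hT (hR x.2)⟩ : S') : Ω)}
  le_of_mem := by
    rintro R φ ⟨hR, α, hα, h⟩
    exact ⟨hR, fun x => by rw [h]; exact hinv α hα _ (hR x.2)⟩
  injective_of_mem := by
    rintro R φ ⟨hR, α, hα, h⟩ a b hab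
    rw [h, h] at hab
    have h1 := α.injective (Subtype.ext hab)
    exact Subtype.ext (congrArg (fun z : S' => (z : Ω)) h1)
  conj_mem := by
    intro R g hR hg
    exact ⟨hR, MulAut.conj ⟨g, hT hg⟩, hconj _ hg, fun x => rfl⟩
  comp_mem := by
    rintro R Q φ ψ ⟨hR, α, hα, h1⟩ ⟨hQ, β, hβ, h2⟩ h
    refine ⟨hR, β * α, A.mul_mem hβ hα, fun x => ?_⟩
    show ψ (φ.codRestrict Q h x) = _
    rw [h2, MulAut.mul_apply]
    congr 2
    exact Subtype.ext (h1 x)
  inv_mem := by
    rintro R φ ⟨hR, α, hα, h1⟩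
    have hrange : φ.range ≤ T := by
      rintro _ ⟨x, rfl⟩
      rw [h1]
      exact hinv α hα _ (hR x.2)
    refine ⟨(S'.subtype.comp (α⁻¹ : MulAut S').toMonoidHom).comp
      (Subgroup.inclusion (hrange.trans hT)), ⟨hrange, α⁻¹, A.inv_mem hα, fun y => rfl⟩, ?_⟩
    intro x
    show (((α⁻¹ : MulAut S') ⟨φ x, _⟩ : S') : Ω) = x
    have : (⟨φ x, (hrange.trans hT) ⟨x, rfl⟩⟩ : S') = α ⟨x, hT (hR x.2)⟩ := Subtype.ext (h1 x)
    rw [this, MulAut.inv_apply_self]

variable {S' T : Subgroup Ω} {hT : T ≤ S'} {A : Subgroup (MulAut S')}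
  {hinv : ∀ α ∈ A, ∀ x : S', (x : Ω) ∈ T → ((α x : S') : Ω) ∈ T}
  {hconj : ∀ t : S', (t : Ω) ∈ T → MulAut.conj t ∈ A}

theorem mem_autSystem_hom_iff {R : Subgroup Ω} {φ : R →* Ω} :
    φ ∈ (autSystem S' T hT A hinv hconj).Hom R ↔
      ∃ hR : R ≤ T, ∃ α ∈ A, ∀ x : R, φ x = ((α ⟨x, hT (hR x.2)⟩ : S') : Ω) := Iff.rfl

/-- The restriction system is contained in any fusion system (over a group containing `S'`) which
contains the elements of `A` as maps. -/
theorem autSystem_isSubsystemOf {S : Subgroup Ω} (F : FusionSystem S)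
    (hA : ∀ α ∈ A, S'.subtype.comp (α : MulAut S').toMonoidHom ∈ F.Hom S') :
    (autSystem S' T hT A hinv hconj).IsSubsystemOf F := by
  rintro R φ ⟨hR, α, hα, h⟩
  have h1 := restrict_mem F (hA α hα) (hR.trans hT)
  have e : (S'.subtype.comp (α : MulAut S').toMonoidHom).comp (Subgroup.inclusion (hR.trans hT))
      = φ := by
    ext x
    exact (h x).symm
  rwa [e] at h1

/-- Every subgroup is receptive in the restriction system. -/
theorem autSystem_isReceptive {Q : Subgroup Ω} (hQ : Q ≤ T) :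
    (autSystem S' T hT A hinv hconj).IsReceptive Q := by
  refine ⟨hQ, ?_⟩
  rintro P φ ⟨hP, α, hα, h⟩ -
  have hN : extender T P φ ≤ T := by
    intro g hg
    exact ((mem_extender_iff T P φ g).1 hg).1
  refine ⟨(S'.subtype.comp (α : MulAut S').toMonoidHom).comp (Subgroup.inclusion (hN.trans hT)),
    ⟨hN, α, hα, fun y => rfl⟩, ?_⟩
  intro x hxP hxN
  exact (h ⟨x, hxP⟩).symm

/-- Automorphisms of the restriction system are restrictions of elements of `A`. -/
theorem exists_of_mem_autGroup_autSystem {R : Subgroup Ω} (hR : R ≤ T) {γ : MulAut R}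
    (hγ : γ ∈ (autSystem S' T hT A hinv hconj).autGroup R) :
    ∃ α ∈ A, ∀ x : R, ((γ x : R) : Ω) = ((α ⟨x, hT (hR x.2)⟩ : S') : Ω) := by
  rw [mem_autGroup_iff _ hR] at hγ
  obtain ⟨_, α, hα, h⟩ := hγ
  exact ⟨α, hα, fun x => h x⟩

/-- Saturation of the restriction system: every `p`-element of `A` acts on `T` as an element of
`T`. -/
theorem autSystem_isSaturated [Finite S'] {p : ℕ} [Fact p.Prime] (hTp : IsPGroup p T)
    (hp : ∀ α ∈ A, (∃ k : ℕ, α ^ (p ^ k) = 1) →
      ∃ t ∈ T, ∀ x : S', (x : Ω) ∈ T → ((α x : S') : Ω) = t * x * t⁻¹) :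
    (autSystem S' T hT A hinv hconj).IsSaturated p := by
  classical
  intro R hR
  have hfinT : Finite T := finite_of_le S' hT
  have hfinR : Finite R := finite_of_le S' (hR.trans hT)
  refine ⟨R, isConj_refl _ hR, ⟨hR, ?_⟩, autSystem_isReceptive hR⟩
  set E := autSystem S' T hT A hinv hconj with hE
  -- `Aut_T(R)` is a `p`-subgroup of `Aut_E(R)`
  have hle : autInducedBy T R ≤ E.autGroup R := autInducedBy_le_autGroup E hR
  have hpg : IsPGroup p ((autInducedBy T R).subgroupOf (E.autGroup R)) := by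
    intro γ
    obtain ⟨g, hg, hγ⟩ := (mem_autInducedBy_iff T R γ.1.1).1 γ.2
    obtain ⟨k, hk⟩ := hTp ⟨g, hg⟩
    have hk' : g ^ p ^ k = 1 := by
      have := congrArg (fun z : T => (z : Ω)) hk
      simpa using this
    refine ⟨k, ?_⟩
    apply Subtype.ext
    apply Subtype.ext
    show ((γ.1.1) ^ p ^ k : MulAut R) = 1
    have hpow : ∀ n : ℕ, ∀ x : R, ((((γ.1.1) ^ n : MulAut R) x : R) : Ω) = g ^ n * x * (g ^ n)⁻¹ := by
      intro n
      induction n with
      | zero => intro x; simp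
      | succ n ih =>
        intro x
        rw [pow_succ', MulAut.mul_apply, hγ, ih, pow_succ']
        group
    ext x
    rw [hpow, hk']
    simp
  obtain ⟨Sy, hSy⟩ := hpg.exists_le_sylow
  refine ⟨Sy, le_antisymm ?_ hSy⟩
  -- every element of the Sylow subgroup is a `p`-element of `Aut_E(R)`, hence induced by `T`
  intro γ hγ
  obtain ⟨k, hk⟩ := Sy.2 ⟨γ, hγ⟩
  have hk' : (γ.1 : MulAut R) ^ p ^ k = 1 := by
    have := congrArg (fun z : Sy => ((z : E.autGroup R) : MulAut R)) hk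
    simpa using this
  obtain ⟨α, hα, hαγ⟩ := exists_of_mem_autGroup_autSystem hR γ.2
  have hfinA : Finite (MulAut S') := inferInstance
  obtain ⟨j, c, hjc, hj⟩ := exists_pow_pPower_and_fix (p := p) α (isOfFinOrder_of_finite α)
    (γ.1 : MulAut R) hk'
  obtain ⟨t, ht, htα⟩ := hp (α ^ j) (A.pow_mem hα j) ⟨c, hjc⟩
  have hres := restrict_pow (hR.trans hT) α γ.1 (fun x => (hαγ x).symm) j
  show γ.1 ∈ autInducedBy T R
  rw [mem_autInducedBy_iff]
  refine ⟨t, ht, fun x => ?_⟩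
  have h1 := hres x
  rw [hj] at h1
  rw [← h1]
  exact htα _ (hR x.2)

/-- Elements of a subgroup `N ⊔ ⟨β⟩` (with `β` normalizing `N` and of order prime to `p`) of
`p`-power order lie in `N`. -/
theorem mem_of_pPower_of_mem_sup_zpowers {G : Type*} [Group G] {p q : ℕ} (hpq : Nat.Coprime q p)
    {N : Subgroup G} {β : G} (hβN : β ∈ Subgroup.normalizer (N : Set G))
    (hβq : β ^ q = 1) {α : G}
    (hα : α ∈ N ⊔ Subgroup.zpowers β) {k : ℕ} (hk : α ^ (p ^ k) = 1) : α ∈ N := by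
  set M := Subgroup.normalizer (N : Set G) with hM
  have hnorm : (N.subgroupOf M).Normal := Subgroup.normal_in_normalizer
  set π := QuotientGroup.mk' (N.subgroupOf M) with hπ
  set K : Subgroup G := ((Subgroup.zpowers (π ⟨β, hβN⟩)).comap π).map M.subtype with hK
  have hNK : N ≤ K := by
    intro n hn
    refine ⟨⟨n, Subgroup.le_normalizer hn⟩, ?_, rfl⟩
    show π ⟨n, _⟩ ∈ Subgroup.zpowers (π ⟨β, hβN⟩)
    have : π ⟨n, Subgroup.le_normalizer hn⟩ = 1 := by
      rw [hπ, QuotientGroup.mk'_apply, QuotientGroup.eq_one_iff]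
      exact hn
    rw [this]
    exact Subgroup.one_mem _
  have hβK : Subgroup.zpowers β ≤ K := by
    rw [Subgroup.zpowers_le]
    exact ⟨⟨β, hβN⟩, Subgroup.mem_zpowers _, rfl⟩
  obtain ⟨a, ha, rfl⟩ := (sup_le hNK hβK) hα
  obtain ⟨j, hj⟩ := Subgroup.mem_zpowers_iff.1 ha
  have h1 : (π a) ^ q = 1 := by
    rw [← hj, ← zpow_natCast, ← zpow_mul, mul_comm, zpow_mul, zpow_natCast, ← map_pow]
    have : (⟨β, hβN⟩ : M) ^ q = 1 := Subtype.ext (by simpa using hβq)
    rw [this, map_one, one_zpow]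
  have h2 : (π a) ^ (p ^ k) = 1 := by
    rw [← map_pow]
    have : a ^ (p ^ k) = 1 := Subtype.ext (by simpa using hk)
    rw [this, map_one]
  have h3 : orderOf (π a) ∣ Nat.gcd q (p ^ k) :=
    Nat.dvd_gcd (orderOf_dvd_of_pow_eq_one h1) (orderOf_dvd_of_pow_eq_one h2)
  have h4 : Nat.gcd q (p ^ k) = 1 := Nat.Coprime.pow_right k hpq
  rw [h4, Nat.dvd_one, orderOf_eq_one_iff] at h3
  rw [hπ, QuotientGroup.mk'_apply, QuotientGroup.eq_one_iff] at h3
  exact h3

end Cfsg.Agent.Lib.H25
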