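import Mathlib
import Cfsg.Prelude.Def_FusionSystem

set_option autoImplicit false

/-!
Basic API for `Cfsg.FusionSystem` (helper25).  Maps of the system are handled at the level of
functions `Ω → Ω`: `IsIso F P Q f` says that `f`, restricted to `P`, is an isomorphism of the system
from `P` onto `Q`.
-/

namespace Cfsg.Agent.Lib.H25

open Cfsg Cfsg.FusionSystem

variable {Ω : Type*} [Group Ω] {S : Subgroup Ω}

theorem conjHom_apply (P : Subgroup Ω) (g : Ω) (x : P) : conjHom P g x = g * (x : Ω) * g⁻¹ := rfl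

theorem hom_le (F : FusionSystem S) {P : Subgroup Ω} {φ : P →* Ω} (h : φ ∈ F.Hom P) : P ≤ S :=
  (F.le_of_mem h).1

theorem hom_mem_S (F : FusionSystem S) {P : Subgroup Ω} {φ : P →* Ω} (h : φ ∈ F.Hom P) (x : P) :
    φ x ∈ S := (F.le_of_mem h).2 x

theorem range_le_S (F : FusionSystem S) {P : Subgroup Ω} {φ : P →* Ω} (h : φ ∈ F.Hom P) :
    φ.range ≤ S := by
  rintro _ ⟨x, rfl⟩
  exact hom_mem_S F h x

/-- The inclusion of a subgroup of `S` is a map of the system. -/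
theorem subtype_mem (F : FusionSystem S) {P : Subgroup Ω} (hP : P ≤ S) : P.subtype ∈ F.Hom P := by
  have h := F.conj_mem (g := 1) hP S.one_mem
  have e : conjHom P (1 : Ω) = P.subtype := by
    ext x
    simp [conjHom_apply]
  rwa [e] at h

/-- Restriction of a map of the system to a smaller subgroup. -/
theorem restrict_mem (F : FusionSystem S) {P Q : Subgroup Ω} {φ : Q →* Ω} (hφ : φ ∈ F.Hom Q)
    (h : P ≤ Q) : φ.comp (Subgroup.inclusion h) ∈ F.Hom P := by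
  have hP : P ≤ S := h.trans (hom_le F hφ)
  have h1 := F.comp_mem (subtype_mem F hP) hφ (fun x => h x.2)
  have e : φ.comp ((P.subtype).codRestrict Q fun x => h x.2) = φ.comp (Subgroup.inclusion h) := by
    ext x
    rfl
  rwa [e] at h1

/-- Transport of a map of the system along an equality of subgroups. -/
theorem hom_cast (F : FusionSystem S) {P Q : Subgroup Ω} (h : P = Q) {φ : P →* Ω}
    (hφ : φ ∈ F.Hom P) : φ.comp (MulEquiv.subgroupCongr h.symm).toMonoidHom ∈ F.Hom Q := by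
  subst h
  have : φ.comp (MulEquiv.subgroupCongr (rfl : P = P).symm).toMonoidHom = φ := by
    ext x
    rfl
  rwa [this]

/-! ### Function-level isomorphisms of the system -/

/-- `f`, restricted to `P`, is an isomorphism of the system from `P` onto `Q`. -/
def IsIso (F : FusionSystem S) (P Q : Subgroup Ω) (f : Ω → Ω) : Prop :=
  ∃ φ ∈ F.Hom P, (∀ x : P, φ x = f x) ∧ φ.range = Q

/-- `f`, restricted to `P`, is a map of the system from `P` into `Q`. -/
def IsHom (F : FusionSystem S) (P Q : Subgroup Ω) (f : Ω → Ω) : Prop :=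
  ∃ φ ∈ F.Hom P, (∀ x : P, φ x = f x) ∧ φ.range ≤ Q

/-- Extension of a homomorphism defined on a subgroup by the constant `1` elsewhere. -/
noncomputable def ext1 {P : Subgroup Ω} (φ : P →* Ω) : Ω → Ω := by
  classical
  exact fun x => if h : x ∈ P then φ ⟨x, h⟩ else 1

theorem ext1_apply {P : Subgroup Ω} (φ : P →* Ω) (x : P) : ext1 φ x = φ x := by
  classical
  simp [ext1]

theorem ext1_apply_mem {P : Subgroup Ω} (φ : P →* Ω) {x : Ω} (hx : x ∈ P) :
    ext1 φ x = φ ⟨x, hx⟩ := ext1_apply φ ⟨x, hx⟩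

theorem isIso_of_mem (F : FusionSystem S) {P : Subgroup Ω} {φ : P →* Ω} (hφ : φ ∈ F.Hom P) :
    IsIso F P φ.range (ext1 φ) :=
  ⟨φ, hφ, fun x => (ext1_apply φ x).symm, rfl⟩

theorem isHom_of_mem (F : FusionSystem S) {P : Subgroup Ω} {φ : P →* Ω} (hφ : φ ∈ F.Hom P) :
    IsHom F P S (ext1 φ) :=
  ⟨φ, hφ, fun x => (ext1_apply φ x).symm, range_le_S F hφ⟩

namespace IsIso

variable {F : FusionSystem S} {P Q R : Subgroup Ω} {f g : Ω → Ω}

theorem le_left (h : IsIso F P Q f) : P ≤ S := by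
  obtain ⟨φ, hφ, -, -⟩ := h
  exact hom_le F hφ

theorem le_right (h : IsIso F P Q f) : Q ≤ S := by
  obtain ⟨φ, hφ, -, rfl⟩ := h
  exact range_le_S F hφ

theorem map_mem (h : IsIso F P Q f) {x : Ω} (hx : x ∈ P) : f x ∈ Q := by
  obtain ⟨φ, hφ, hf, rfl⟩ := h
  exact ⟨⟨x, hx⟩, hf ⟨x, hx⟩⟩

theorem map_mul (h : IsIso F P Q f) {x y : Ω} (hx : x ∈ P) (hy : y ∈ P) :
    f (x * y) = f x * f y := by
  obtain ⟨φ, hφ, hf, -⟩ := h
  have := φ.map_mul ⟨x, hx⟩ ⟨y, hy⟩
  rw [hf, hf, hf] at this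
  exact this

theorem map_one (h : IsIso F P Q f) : f 1 = 1 := by
  obtain ⟨φ, hφ, hf, -⟩ := h
  have := φ.map_one
  rw [hf] at this
  exact this

theorem map_inv (h : IsIso F P Q f) {x : Ω} (hx : x ∈ P) : f x⁻¹ = (f x)⁻¹ := by
  obtain ⟨φ, hφ, hf, -⟩ := h
  have := φ.map_inv ⟨x, hx⟩
  rw [hf, hf] at this
  exact this

theorem injOn (h : IsIso F P Q f) {x y : Ω} (hx : x ∈ P) (hy : y ∈ P) (hxy : f x = f y) :
    x = y := by
  obtain ⟨φ, hφ, hf, -⟩ := h
  have h1 : φ ⟨x, hx⟩ = φ ⟨y, hy⟩ := by rw [hf, hf]; exact hxy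
  exact congrArg Subtype.val (F.injective_of_mem hφ h1)

theorem surjOn (h : IsIso F P Q f) {y : Ω} (hy : y ∈ Q) : ∃ x ∈ P, f x = y := by
  obtain ⟨φ, hφ, hf, rfl⟩ := h
  obtain ⟨x, rfl⟩ := hy
  exact ⟨x, x.2, (hf x).symm⟩

theorem congr (h : IsIso F P Q f) (hfg : ∀ x ∈ P, f x = g x) : IsIso F P Q g := by
  obtain ⟨φ, hφ, hf, hr⟩ := h
  exact ⟨φ, hφ, fun x => (hf x).trans (hfg x x.2), hr⟩

theorem refl (hP : P ≤ S) : IsIso F P P id := by
  refine ⟨P.subtype, subtype_mem F hP, fun x => rfl, ?_⟩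
  exact Subgroup.range_subtype P

theorem conj (hP : P ≤ S) {s : Ω} (hs : s ∈ S) :
    IsIso F P (P.map (MulAut.conj s).toMonoidHom) (fun x => s * x * s⁻¹) := by
  refine ⟨conjHom P s, F.conj_mem hP hs, fun x => rfl, ?_⟩
  ext y
  constructor
  · rintro ⟨x, rfl⟩
    exact ⟨x, x.2, rfl⟩
  · rintro ⟨x, hx, rfl⟩
    exact ⟨⟨x, hx⟩, rfl⟩

theorem trans (h1 : IsIso F P Q f) (h2 : IsIso F Q R g) : IsIso F P R (g ∘ f) := by
  obtain ⟨φ, hφ, hf, rfl⟩ := h1
  obtain ⟨ψ, hψ, hg, rfl⟩ := h2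
  refine ⟨ψ.comp (φ.codRestrict φ.range fun x => ⟨x, rfl⟩), F.comp_mem hφ hψ _, fun x => ?_, ?_⟩
  · show ψ ⟨φ x, _⟩ = g (f x)
    rw [hg]
    show g (φ x) = g (f x)
    rw [hf]
  · ext y
    constructor
    · rintro ⟨x, rfl⟩
      exact ⟨_, rfl⟩
    · rintro ⟨⟨_, x, rfl⟩, rfl⟩
      exact ⟨x, rfl⟩

/-- The inverse isomorphism. -/
theorem symm (h : IsIso F P Q f) :
    ∃ g : Ω → Ω, IsIso F Q P g ∧ (∀ x ∈ P, g (f x) = x) ∧ ∀ y ∈ Q, f (g y) = y := by
  obtain ⟨φ, hφ, hf, rfl⟩ := h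
  obtain ⟨ψ, hψ, hψφ⟩ := F.inv_mem hφ
  have h1 : ∀ x ∈ P, ext1 ψ (f x) = x := by
    intro x hx
    have : f x = φ ⟨x, hx⟩ := (hf ⟨x, hx⟩).symm
    rw [this, ext1_apply_mem ψ ⟨⟨x, hx⟩, rfl⟩]
    exact hψφ ⟨x, hx⟩
  refine ⟨ext1 ψ, ⟨ψ, hψ, fun y => (ext1_apply ψ y).symm, ?_⟩, h1, ?_⟩
  · ext y
    constructor
    · rintro ⟨⟨_, x, rfl⟩, rfl⟩
      rw [hψφ]
      exact x.2
    · intro hy
      exact ⟨⟨φ ⟨y, hy⟩, ⟨y, hy⟩, rfl⟩, hψφ ⟨y, hy⟩⟩
  · rintro _ ⟨x, rfl⟩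
    rw [hf x, h1 x x.2]

/-- Restriction to a subgroup of the source; the target is the image subgroup. -/
theorem restrict (h : IsIso F P Q f) {P' : Subgroup Ω} (hP' : P' ≤ P) :
    ∃ Q' : Subgroup Ω, Q' ≤ Q ∧ IsIso F P' Q' f ∧ ∀ y, y ∈ Q' ↔ ∃ x ∈ P', f x = y := by
  obtain ⟨φ, hφ, hf, rfl⟩ := h
  refine ⟨(φ.comp (Subgroup.inclusion hP')).range, ?_, ⟨_, restrict_mem F hφ hP', fun x => ?_, rfl⟩, ?_⟩
  · rintro _ ⟨x, rfl⟩
    exact ⟨_, rfl⟩
  · exact hf (Subgroup.inclusion hP' x)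
  · intro y
    constructor
    · rintro ⟨x, rfl⟩
      exact ⟨x, x.2, (hf (Subgroup.inclusion hP' x)).symm⟩
    · rintro ⟨x, hx, rfl⟩
      exact ⟨⟨x, hx⟩, hf ⟨x, hP' hx⟩⟩

theorem isConj (h : IsIso F P Q f) : F.IsConj P Q := by
  obtain ⟨φ, hφ, -, hr⟩ := h
  exact ⟨φ, hφ, hr⟩

end IsIso

theorem isConj_iff (F : FusionSystem S) {P Q : Subgroup Ω} :
    F.IsConj P Q ↔ ∃ f, IsIso F P Q f := by
  constructor
  · rintro ⟨φ, hφ, hr⟩
    exact ⟨ext1 φ, φ, hφ, fun x => (ext1_apply φ x).symm, hr⟩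
  · rintro ⟨f, hf⟩
    exact hf.isConj

theorem isConj_refl (F : FusionSystem S) {P : Subgroup Ω} (hP : P ≤ S) : F.IsConj P P :=
  (IsIso.refl (F := F) hP).isConj

theorem isConj_symm (F : FusionSystem S) {P Q : Subgroup Ω} (h : F.IsConj P Q) : F.IsConj Q P := by
  obtain ⟨f, hf⟩ := (isConj_iff F).1 h
  obtain ⟨g, hg, -, -⟩ := hf.symm
  exact hg.isConj

theorem isConj_trans (F : FusionSystem S) {P Q R : Subgroup Ω} (h1 : F.IsConj P Q)
    (h2 : F.IsConj Q R) : F.IsConj P R := by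
  obtain ⟨f, hf⟩ := (isConj_iff F).1 h1
  obtain ⟨g, hg⟩ := (isConj_iff F).1 h2
  exact (hf.trans hg).isConj

theorem isConj_le_left (F : FusionSystem S) {P Q : Subgroup Ω} (h : F.IsConj P Q) : P ≤ S := by
  obtain ⟨φ, hφ, -⟩ := h
  exact hom_le F hφ

theorem isConj_le_right (F : FusionSystem S) {P Q : Subgroup Ω} (h : F.IsConj P Q) : Q ≤ S := by
  obtain ⟨φ, hφ, rfl⟩ := h
  exact range_le_S F hφ


/-! ### The automorphism group `Aut_F(P)` -/

/-- The automorphisms of `P` that are maps of the system form a subgroup (for `P ≤ S`). -/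
def autSub (F : FusionSystem S) (P : Subgroup Ω) (hP : P ≤ S) : Subgroup (MulAut P) where
  carrier := {α | P.subtype.comp α.toMonoidHom ∈ F.Hom P}
  one_mem' := by
    have : P.subtype.comp (1 : MulAut P).toMonoidHom = P.subtype := by
      ext x; rfl
    show P.subtype.comp (1 : MulAut P).toMonoidHom ∈ F.Hom P
    rw [this]
    exact subtype_mem F hP
  mul_mem' := by
    intro α β hα hβ
    have h := F.comp_mem hβ hα (fun x => (β x).2)
    have e : (P.subtype.comp α.toMonoidHom).comp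
        ((P.subtype.comp β.toMonoidHom).codRestrict P fun x => (β x).2) =
        P.subtype.comp (α * β).toMonoidHom := by
      ext x; rfl
    show P.subtype.comp (α * β).toMonoidHom ∈ F.Hom P
    rw [← e]
    exact h
  inv_mem' := by
    intro α hα
    obtain ⟨ψ, hψ, hψφ⟩ := F.inv_mem hα
    have hr : (P.subtype.comp α.toMonoidHom).range = P := by
      ext y
      constructor
      · rintro ⟨x, rfl⟩
        exact (α x).2
      · intro hy
        exact ⟨α⁻¹ ⟨y, hy⟩, by simp⟩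
    have h2 := hom_cast F hr hψ
    have e : ψ.comp (MulEquiv.subgroupCongr hr.symm).toMonoidHom = P.subtype.comp (α⁻¹).toMonoidHom := by
      ext y
      have h3 := hψφ (α⁻¹ y)
      have h4 : (MulEquiv.subgroupCongr hr.symm) y =
          ⟨(P.subtype.comp α.toMonoidHom) (α⁻¹ y), ⟨α⁻¹ y, rfl⟩⟩ := by
        apply Subtype.ext
        show (y : Ω) = ((α (α⁻¹ y) : P) : Ω)
        simp
      show ψ ((MulEquiv.subgroupCongr hr.symm) y) = ((α⁻¹ y : P) : Ω)
      rw [h4, h3]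
    show P.subtype.comp (α⁻¹).toMonoidHom ∈ F.Hom P
    rw [← e]
    exact h2

theorem autGroup_eq_autSub (F : FusionSystem S) {P : Subgroup Ω} (hP : P ≤ S) :
    F.autGroup P = autSub F P hP := by
  apply le_antisymm
  · exact (Subgroup.closure_le _).2 (fun α hα => hα)
  · exact fun α hα => Subgroup.subset_closure hα

theorem mem_autGroup_iff (F : FusionSystem S) {P : Subgroup Ω} (hP : P ≤ S) (α : MulAut P) :
    α ∈ F.autGroup P ↔ P.subtype.comp α.toMonoidHom ∈ F.Hom P := by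
  rw [autGroup_eq_autSub F hP]
  rfl

/-- An automorphism in `Aut_F(P)` gives a function-level isomorphism `P → P`. -/
theorem isIso_of_mem_autGroup (F : FusionSystem S) {P : Subgroup Ω} (hP : P ≤ S) {α : MulAut P}
    (hα : α ∈ F.autGroup P) : IsIso F P P (ext1 (P.subtype.comp α.toMonoidHom)) := by
  refine ⟨_, (mem_autGroup_iff F hP α).1 hα, fun x => (ext1_apply _ x).symm, ?_⟩
  ext y
  constructor
  · rintro ⟨x, rfl⟩
    exact (α x).2
  · intro hy
    exact ⟨α⁻¹ ⟨y, hy⟩, by simp⟩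

/-- A function-level isomorphism `P → P` of the system comes from an element of `Aut_F(P)`. -/
theorem exists_mem_autGroup_of_isIso (F : FusionSystem S) {P : Subgroup Ω} {f : Ω → Ω}
    (h : IsIso F P P f) : ∃ α ∈ F.autGroup P, ∀ x : P, ((α x : P) : Ω) = f x := by
  have hP := h.le_left
  obtain ⟨φ, hφ, hf, hr⟩ := h
  have hmem : ∀ x : P, φ x ∈ P := fun x => by
    have : φ x ∈ φ.range := ⟨x, rfl⟩
    rwa [hr] at this
  let φ' : P →* P := φ.codRestrict P hmem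
  have hinj : Function.Injective φ' := by
    intro a b hab
    apply F.injective_of_mem hφ
    exact congrArg Subtype.val hab
  have hsurj : Function.Surjective φ' := by
    intro y
    have hy : (y : Ω) ∈ φ.range := by rw [hr]; exact y.2
    obtain ⟨x, hx⟩ := hy
    exact ⟨x, Subtype.ext hx⟩
  let α : MulAut P := MulEquiv.ofBijective φ' ⟨hinj, hsurj⟩
  refine ⟨α, ?_, fun x => hf x⟩
  rw [mem_autGroup_iff F hP]
  have : P.subtype.comp α.toMonoidHom = φ := by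
    ext x; rfl
  rw [this]
  exact hφ

/-! ### `Aut_K(P)` -/

/-- The automorphisms of `P` induced by conjugation by elements of `K` form a subgroup. -/
def autIndSub (K P : Subgroup Ω) : Subgroup (MulAut P) where
  carrier := {α | ∃ g ∈ K, ∀ x : P, ((α x : P) : Ω) = g * (x : Ω) * g⁻¹}
  one_mem' := ⟨1, K.one_mem, fun x => by simp⟩
  mul_mem' := by
    rintro α β ⟨g, hg, hα⟩ ⟨k, hk, hβ⟩
    refine ⟨g * k, K.mul_mem hg hk, fun x => ?_⟩
    show ((α (β x) : P) : Ω) = _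
    rw [hα, hβ]
    group
  inv_mem' := by
    rintro α ⟨g, hg, hα⟩
    refine ⟨g⁻¹, K.inv_mem hg, fun x => ?_⟩
    have h := hα (α⁻¹ x)
    have h2 : α (α⁻¹ x) = x := by simp
    rw [h2] at h
    rw [h]
    group

theorem autInducedBy_eq (K P : Subgroup Ω) : autInducedBy K P = autIndSub K P := by
  apply le_antisymm
  · exact (Subgroup.closure_le _).2 (fun α hα => hα)
  · exact fun α hα => Subgroup.subset_closure hα

theorem mem_autInducedBy_iff (K P : Subgroup Ω) (α : MulAut P) :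
    α ∈ autInducedBy K P ↔ ∃ g ∈ K, ∀ x : P, ((α x : P) : Ω) = g * (x : Ω) * g⁻¹ := by
  rw [autInducedBy_eq]
  rfl

/-- `Aut_S(P) ≤ Aut_F(P)`. -/
theorem autInducedBy_le_autGroup (F : FusionSystem S) {P : Subgroup Ω} (hP : P ≤ S) :
    autInducedBy S P ≤ F.autGroup P := by
  intro α hα
  obtain ⟨g, hg, hα⟩ := (mem_autInducedBy_iff S P α).1 hα
  rw [mem_autGroup_iff F hP]
  have : P.subtype.comp α.toMonoidHom = conjHom P g := by
    ext x
    exact hα x
  rw [this]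
  exact F.conj_mem hP hg

/-! ### The extender `N_φ` -/

/-- The defining set of `N_φ` is already a subgroup. -/
def extenderSub (S P : Subgroup Ω) (φ : P →* Ω) : Subgroup Ω where
  carrier := {g : Ω | g ∈ S ∧ g ∈ Subgroup.normalizer (P : Set Ω) ∧
    ∃ h ∈ S, ∀ (x : P) (hx : g * (x : Ω) * g⁻¹ ∈ P), φ ⟨g * x * g⁻¹, hx⟩ = h * φ x * h⁻¹}
  one_mem' := by
    refine ⟨S.one_mem, Subgroup.one_mem _, 1, S.one_mem, fun x hx => ?_⟩
    have : (⟨1 * (x : Ω) * 1⁻¹, hx⟩ : P) = x := Subtype.ext (by simp)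
    rw [this]; simp
  mul_mem' := by
    rintro a b ⟨haS, haN, h, hh, ha⟩ ⟨hbS, hbN, k, hk, hb⟩
    refine ⟨S.mul_mem haS hbS, Subgroup.mul_mem _ haN hbN, h * k, S.mul_mem hh hk, fun x hx => ?_⟩
    have hbx : b * (x : Ω) * b⁻¹ ∈ P := (Subgroup.mem_normalizer_iff.1 hbN x).1 x.2
    have hax : a * (b * (x : Ω) * b⁻¹) * a⁻¹ ∈ P :=
      (Subgroup.mem_normalizer_iff.1 haN _).1 hbx
    have e : (⟨a * b * (x : Ω) * (a * b)⁻¹, hx⟩ : P) = ⟨a * (b * (x : Ω) * b⁻¹) * a⁻¹, hax⟩ :=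
      Subtype.ext (by group)
    rw [e, ha ⟨b * (x : Ω) * b⁻¹, hbx⟩ hax, hb x hbx]
    group
  inv_mem' := by
    rintro a ⟨haS, haN, h, hh, ha⟩
    refine ⟨S.inv_mem haS, Subgroup.inv_mem _ haN, h⁻¹, S.inv_mem hh, fun x hx => ?_⟩
    have h1 : a * (a⁻¹ * (x : Ω) * a⁻¹⁻¹) * a⁻¹ ∈ P := by
      have : a * (a⁻¹ * (x : Ω) * a⁻¹⁻¹) * a⁻¹ = x := by group
      rw [this]; exact x.2
    have h2 := ha ⟨a⁻¹ * (x : Ω) * a⁻¹⁻¹, hx⟩ h1
    have e : (⟨a * (a⁻¹ * (x : Ω) * a⁻¹⁻¹) * a⁻¹, h1⟩ : P) = x := Subtype.ext (by group)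
    rw [e] at h2
    rw [h2]
    group

theorem extender_eq (S P : Subgroup Ω) (φ : P →* Ω) : extender S P φ = extenderSub S P φ := by
  apply le_antisymm
  · exact (Subgroup.closure_le _).2 (fun g hg => hg)
  · exact fun g hg => Subgroup.subset_closure hg

theorem mem_extender_iff (S P : Subgroup Ω) (φ : P →* Ω) (g : Ω) :
    g ∈ extender S P φ ↔ g ∈ S ∧ g ∈ Subgroup.normalizer (P : Set Ω) ∧
      ∃ h ∈ S, ∀ (x : P) (hx : g * (x : Ω) * g⁻¹ ∈ P), φ ⟨g * x * g⁻¹, hx⟩ = h * φ x * h⁻¹ := by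
  rw [extender_eq]
  rfl

theorem extender_le_normalizerIn (S P : Subgroup Ω) (φ : P →* Ω) :
    extender S P φ ≤ normalizerIn S P := by
  intro g hg
  rw [mem_extender_iff] at hg
  exact ⟨hg.1, hg.2.1⟩

theorem le_extender (F : FusionSystem S) {P : Subgroup Ω} {φ : P →* Ω} (hφ : φ ∈ F.Hom P) :
    P ≤ extender S P φ := by
  intro x hx
  rw [mem_extender_iff]
  refine ⟨hom_le F hφ hx, Subgroup.le_normalizer hx, φ ⟨x, hx⟩, hom_mem_S F hφ _, fun y hy => ?_⟩
  have : (⟨x * (y : Ω) * x⁻¹, hy⟩ : P) = ⟨x, hx⟩ * y * ⟨x, hx⟩⁻¹ := Subtype.ext (by simp)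
  rw [this, map_mul, map_mul, map_inv]

theorem centralizerIn_le_extender (S P : Subgroup Ω) (φ : P →* Ω) :
    centralizerIn S P ≤ extender S P φ := by
  intro c hc
  rw [mem_extender_iff]
  have hcc : c ∈ Subgroup.centralizer (P : Set Ω) := hc.2
  refine ⟨hc.1, Subgroup.centralizer_le_normalizer _ hcc, 1, S.one_mem, fun y hy => ?_⟩
  have hy' : c * (y : Ω) * c⁻¹ = y := by
    have := hcc y y.2
    rw [← this]; group
  have : (⟨c * y * c⁻¹, hy⟩ : P) = y := Subtype.ext hy'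
  rw [this]; simp


/-! ### More on function-level isomorphisms -/

namespace IsIso

variable {F : FusionSystem S} {P Q R : Subgroup Ω} {f g : Ω → Ω}

/-- The part of the source mapped into a given subgroup `X`, as a subgroup. -/
def pre (h : IsIso F P Q f) (X : Subgroup Ω) : Subgroup Ω where
  carrier := {x | x ∈ P ∧ f x ∈ X}
  one_mem' := ⟨P.one_mem, by rw [h.map_one]; exact X.one_mem⟩
  mul_mem' := by
    rintro a b ⟨ha, ha'⟩ ⟨hb, hb'⟩
    exact ⟨P.mul_mem ha hb, by rw [h.map_mul ha hb]; exact X.mul_mem ha' hb'⟩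
  inv_mem' := by
    rintro a ⟨ha, ha'⟩
    exact ⟨P.inv_mem ha, by rw [h.map_inv ha]; exact X.inv_mem ha'⟩

theorem mem_pre (h : IsIso F P Q f) (X : Subgroup Ω) (x : Ω) :
    x ∈ h.pre X ↔ x ∈ P ∧ f x ∈ X := Iff.rfl

/-- The part of the source fixed elementwise, as a subgroup. -/
def fixedPts (h : IsIso F P Q f) : Subgroup Ω where
  carrier := {x | x ∈ P ∧ f x = x}
  one_mem' := ⟨P.one_mem, h.map_one⟩
  mul_mem' := by
    rintro a b ⟨ha, ha'⟩ ⟨hb, hb'⟩
    exact ⟨P.mul_mem ha hb, by rw [h.map_mul ha hb, ha', hb']⟩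
  inv_mem' := by
    rintro a ⟨ha, ha'⟩
    exact ⟨P.inv_mem ha, by rw [h.map_inv ha, ha']⟩

/-- Restriction of an isomorphism to a subgroup with prescribed image. -/
theorem restrict' (h : IsIso F P Q f) {P' Q' : Subgroup Ω} (hP' : P' ≤ P)
    (h1 : ∀ x ∈ P', f x ∈ Q') (h2 : ∀ y ∈ Q', ∃ x ∈ P', f x = y) : IsIso F P' Q' f := by
  obtain ⟨Q'', -, hiso, hmem⟩ := h.restrict hP'
  have : Q'' = Q' := by
    ext y
    rw [hmem]
    constructor
    · rintro ⟨x, hx, rfl⟩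
      exact h1 x hx
    · exact h2 y
  rwa [this] at hiso

/-- The image of a join is the join of the images. -/
theorem image_sup {A B A' B' C : Subgroup Ω} (h : IsIso F (A ⊔ B) C f) (hA : IsIso F A A' f)
    (hB : IsIso F B B' f) : C = A' ⊔ B' := by
  apply le_antisymm
  · intro y hy
    obtain ⟨x, hx, rfl⟩ := h.surjOn hy
    have : A ⊔ B ≤ h.pre (A' ⊔ B') := by
      apply sup_le
      · intro a ha
        exact ⟨(le_sup_left : A ≤ A ⊔ B) ha, (le_sup_left : A' ≤ A' ⊔ B') (hA.map_mem ha)⟩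
      · intro b hb
        exact ⟨(le_sup_right : B ≤ A ⊔ B) hb, (le_sup_right : B' ≤ A' ⊔ B') (hB.map_mem hb)⟩
    exact (this hx).2
  · apply sup_le
    · intro y hy
      obtain ⟨x, hx, rfl⟩ := hA.surjOn hy
      exact h.map_mem ((le_sup_left : A ≤ A ⊔ B) hx)
    · intro y hy
      obtain ⟨x, hx, rfl⟩ := hB.surjOn hy
      exact h.map_mem ((le_sup_right : B ≤ A ⊔ B) hx)

/-- From a function-level isomorphism, a map of the system with the same values. -/
theorem exists_hom (h : IsIso F P Q f) : ∃ φ ∈ F.Hom P, (∀ x : P, φ x = f x) ∧ φ.range = Q := h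

end IsIso

/-- Two maps of the system with the same source and the same values are equal. -/
theorem hom_ext_of_apply {P : Subgroup Ω} {φ ψ : P →* Ω} (h : ∀ x : P, φ x = ψ x) : φ = ψ :=
  MonoidHom.ext h

/-- Membership in `F.Hom P` only depends on the values. -/
theorem mem_hom_of_isIso (F : FusionSystem S) {P Q : Subgroup Ω} {f : Ω → Ω} (h : IsIso F P Q f)
    {φ : P →* Ω} (hφ : ∀ x : P, φ x = f x) : φ ∈ F.Hom P := by
  obtain ⟨ψ, hψ, hf, -⟩ := h
  have : φ = ψ := MonoidHom.ext fun x => (hφ x).trans (hf x).symm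
  rwa [this]


/-! ### Isomorphisms of the system as `MulEquiv`s -/

/-- The group isomorphism `P ≃* Q` underlying a function-level isomorphism of the system. -/
noncomputable def IsIso.toMulEquiv {F : FusionSystem S} {P Q : Subgroup Ω} {f : Ω → Ω}
    (h : IsIso F P Q f) : P ≃* Q :=
  MulEquiv.ofBijective
    (MonoidHom.mk' (fun x : P => (⟨f x, h.map_mem x.2⟩ : Q))
      (fun a b => Subtype.ext (h.map_mul a.2 b.2)))
    ⟨fun a b hab => Subtype.ext (h.injOn a.2 b.2 (congrArg Subtype.val hab)),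
      fun y => by
        obtain ⟨x, hx, hxy⟩ := h.surjOn y.2
        exact ⟨⟨x, hx⟩, Subtype.ext hxy⟩⟩

theorem IsIso.toMulEquiv_apply {F : FusionSystem S} {P Q : Subgroup Ω} {f : Ω → Ω}
    (h : IsIso F P Q f) (x : P) : ((h.toMulEquiv x : Q) : Ω) = f x := rfl

theorem IsIso.toMulEquiv_symm_apply {F : FusionSystem S} {P Q : Subgroup Ω} {f : Ω → Ω}
    (h : IsIso F P Q f) (y : Q) : f ((h.toMulEquiv.symm y : P) : Ω) = y := by
  have := h.toMulEquiv_apply (h.toMulEquiv.symm y)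
  rw [← this]
  simp

end Cfsg.Agent.Lib.H25
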