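import Mathlib
import Cfsg.Prelude.Def_FusionSystem

set_option autoImplicit false

/-!
General group-theoretic helpers (helper25): the `p`-core, strongly `p`-embedded subgroups.
-/

namespace Cfsg.Agent.Lib.H25

open Cfsg

theorem pCore_isPGroup (p : ℕ) (G : Type*) [Group G] : IsPGroup p (pCore p G) :=
  Sylow.sSup_of_normal _ (fun _ h => h.2) (fun _ h => h.1)

theorem le_pCore {p : ℕ} {G : Type*} [Group G] {N : Subgroup G} (hN : N.Normal)
    (hp : IsPGroup p N) : N ≤ pCore p G :=
  le_sSup ⟨hN, hp⟩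

/-- A nontrivial finite `p`-group has `p`-rank at least one. -/
theorem not_pRankLE_zero {p : ℕ} [Fact p.Prime] {X : Type*} [Group X] [Finite X]
    (hX : IsPGroup p X) (hnt : Nontrivial X) : ¬ PRankLE p 0 X := by
  intro h
  have hcard : p ∣ Nat.card X := by
    obtain ⟨n, hn⟩ := hX.exists_card_eq
    have hn0 : n ≠ 0 := by
      rintro rfl
      have : Nat.card X = 1 := by simpa using hn
      have h1 : 1 < Nat.card X := Finite.one_lt_card
      omega
    rw [hn]
    exact dvd_pow_self p hn0
  obtain ⟨x, hx⟩ := exists_prime_orderOf_dvd_card' p hcard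
  have h1 := h (Subgroup.zpowers x) inferInstance (fun a ha => by
    obtain ⟨k, rfl⟩ := Subgroup.mem_zpowers_iff.1 ha
    rw [← zpow_natCast, ← zpow_mul, mul_comm, zpow_mul, zpow_natCast, ← hx, pow_orderOf_eq_one,
      one_zpow])
  rw [Nat.card_zpowers, hx, pow_zero] at h1
  have := (Fact.out : p.Prime).one_lt
  omega

/-- A finite group with a strongly `p`-embedded subgroup has trivial `p`-core. -/
theorem pCore_eq_bot_of_stronglyPEmbedded {p : ℕ} [Fact p.Prime] {X : Type*} [Group X] [Finite X]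
    {E : Subgroup X} (hE : IsStronglyPEmbedded p E) : pCore p X = ⊥ := by
  by_contra hne
  obtain ⟨-, hEtop, T, hT⟩ := hE
  have hR : IsPGroup p (pCore p X) := pCore_isPGroup p X
  have hRT : pCore p X ≤ (T : Subgroup X) := hR.le_sylow_of_normal T
  have hnt : Nontrivial (pCore p X) := (Subgroup.nontrivial_iff_ne_bot _).2 hne
  have hrank : ¬ PRankLE p (1 - 1) (pCore p X) := not_pRankLE_zero hR hnt
  have h1 : Subgroup.normalizer ((pCore p X : Subgroup X) : Set X) ≤ kGeneratedCore p 1 (T : Subgroup X) :=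
    le_iSup (fun Q : {Q : Subgroup X // Q ≤ (T : Subgroup X) ∧ ¬ PRankLE p (1 - 1) Q} =>
      Subgroup.normalizer ((Q : Subgroup X) : Set X)) ⟨pCore p X, hRT, hrank⟩
  rw [Subgroup.normalizer_eq_top] at h1
  exact hEtop (top_le_iff.1 (h1.trans hT))

end Cfsg.Agent.Lib.H25
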