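import Mathlib
import Cfsg.Prelude.Def_FusionSystem
import Cfsg.Agent.Lib.H25.Fusion
import Cfsg.Agent.Lib.H25.Basic

set_option autoImplicit false

/-!
Fully automized / receptive subgroups at the level of functions (helper25), and the basic
lemmas on saturated fusion systems (AKO, Lemma I.2.6).
-/

namespace Cfsg.Agent.Lib.H25

open Cfsg Cfsg.FusionSystem

variable {Ω : Type*} [Group Ω] {S : Subgroup Ω}

theorem finite_of_le (S : Subgroup Ω) [Finite S] {P : Subgroup Ω} (hP : P ≤ S) : Finite P :=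
  Finite.of_injective (Subgroup.inclusion hP) (Subgroup.inclusion_injective hP)

theorem mem_extender_iff' {P : Subgroup Ω} {φ : P →* Ω} {f : Ω → Ω} (hf : ∀ x : P, φ x = f x)
    (g : Ω) : g ∈ extender S P φ ↔ g ∈ S ∧ g ∈ Subgroup.normalizer (P : Set Ω) ∧
      ∃ h ∈ S, ∀ x ∈ P, f (g * x * g⁻¹) = h * f x * h⁻¹ := by
  rw [mem_extender_iff]
  constructor
  · rintro ⟨h1, h2, h, hh, h3⟩
    refine ⟨h1, h2, h, hh, fun x hx => ?_⟩
    have hx' : g * x * g⁻¹ ∈ P := (Subgroup.mem_normalizer_iff.1 h2 x).1 hx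
    have := h3 ⟨x, hx⟩ hx'
    rw [hf, hf] at this
    exact this
  · rintro ⟨h1, h2, h, hh, h3⟩
    refine ⟨h1, h2, h, hh, fun x hx => ?_⟩
    rw [hf, hf]
    exact h3 x x.2

/-- Extension of an isomorphism onto a receptive subgroup. -/
theorem IsReceptive_extend {F : FusionSystem S} {P Q : Subgroup Ω} {f : Ω → Ω}
    (hQ : F.IsReceptive Q) (hf : IsIso F P Q f) (N : Subgroup Ω)
    (hN : ∀ g ∈ N, g ∈ S ∧ g ∈ Subgroup.normalizer (P : Set Ω) ∧
      ∃ h ∈ S, ∀ x ∈ P, f (g * x * g⁻¹) = h * f x * h⁻¹) :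
    ∃ (f' : Ω → Ω) (N' : Subgroup Ω), IsIso F N N' f' ∧ ∀ x ∈ P, x ∈ N → f' x = f x := by
  obtain ⟨φ, hφ, hφf, hr⟩ := hf
  obtain ⟨ψ, hψ, hψφ⟩ := hQ.2 P φ hφ hr
  have hle : N ≤ extender S P φ := fun g hg => (mem_extender_iff' hφf g).2 (hN g hg)
  obtain ⟨N', -, hiso, -⟩ := (isIso_of_mem F hψ).restrict hle
  refine ⟨ext1 ψ, N', hiso, fun x hxP hxN => ?_⟩
  rw [ext1_apply_mem ψ (hle hxN), hψφ x hxP (hle hxN), hφf]

/-- `Aut_S(P)` is a `p`-group when `S` is. -/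
theorem autInducedBy_isPGroup {p : ℕ} (hS : IsPGroup p S) (P : Subgroup Ω) :
    IsPGroup p (autInducedBy S P) := by
  rintro ⟨α, hα⟩
  obtain ⟨g, hg, hαg⟩ := (mem_autInducedBy_iff S P α).1 hα
  obtain ⟨k, hk⟩ := hS ⟨g, hg⟩
  refine ⟨k, Subtype.ext ?_⟩
  have hpow : ∀ n : ℕ, ∀ x : P, (((α ^ n) x : P) : Ω) = g ^ n * (x : Ω) * (g ^ n)⁻¹ := by
    intro n
    induction n with
    | zero => intro x; simp
    | succ n ih =>
      intro x
      rw [pow_succ, MulAut.mul_apply, ih, hαg]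
      rw [pow_succ]
      group
  have hg1 : g ^ p ^ k = 1 := by
    have := congrArg Subtype.val hk
    simpa using this
  show α ^ p ^ k = 1
  ext x
  rw [hpow, hg1]
  simp

/-- Sylow conjugation inside `Aut_F(P)` for a fully automized `P`. -/
theorem IsFullyAutomized_exists_conj [Finite S] {p : ℕ} [Fact p.Prime] {F : FusionSystem S}
    {P : Subgroup Ω} (hP : F.IsFullyAutomized p P) (K : Subgroup (MulAut P)) (hK : IsPGroup p K)
    (hKA : K ≤ F.autGroup P) :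
    ∃ a ∈ F.autGroup P, ∀ k ∈ K, a * k * a⁻¹ ∈ autInducedBy S P := by
  obtain ⟨hPS, R, hR⟩ := hP
  have : Finite P := finite_of_le S hPS
  have hK' : IsPGroup p (K.subgroupOf (F.autGroup P)) := hK.comap_subtype
  obtain ⟨R', hR'⟩ := hK'.exists_le_sylow
  obtain ⟨a, ha⟩ := MulAction.exists_smul_eq (F.autGroup P) R' R
  refine ⟨a, a.2, fun k hk => ?_⟩
  have hk' : (⟨k, hKA hk⟩ : F.autGroup P) ∈ (R' : Subgroup (F.autGroup P)) :=
    hR' (Subgroup.mem_subgroupOf.2 hk)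
  have h2 : a * ⟨k, hKA hk⟩ * a⁻¹ ∈ (R : Subgroup (F.autGroup P)) := by
    rw [← ha]
    show a * ⟨k, hKA hk⟩ * a⁻¹ ∈ ((a • R' : Sylow p (F.autGroup P)) : Subgroup (F.autGroup P))
    rw [Sylow.smul_def, Sylow.pointwise_smul_def]
    exact ⟨⟨k, hKA hk⟩, hk', rfl⟩
  rw [hR] at h2
  exact Subgroup.mem_subgroupOf.1 h2


/-- Conjugation by `n ∈ N_S(Q)` as an isomorphism `Q → Q` of the system. -/
theorem isIso_conj_normalizer (F : FusionSystem S) {Q : Subgroup Ω} (hQ : Q ≤ S) {n : Ω}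
    (hn : n ∈ normalizerIn S Q) : IsIso F Q Q (fun x => n * x * n⁻¹) := by
  have h := IsIso.conj (F := F) hQ hn.1
  have e : Q.map (MulAut.conj n).toMonoidHom = Q := by
    ext y
    constructor
    · rintro ⟨x, hx, rfl⟩
      exact (Subgroup.mem_normalizer_iff.1 hn.2 x).1 hx
    · intro hy
      refine ⟨n⁻¹ * y * n, ?_, ?_⟩
      · have := (Subgroup.mem_normalizer_iff.1 (Subgroup.inv_mem _ hn.2) y).1 hy
        simpa using this
      · show n * (n⁻¹ * y * n) * n⁻¹ = y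
        group
  rwa [e] at h

/-- Key step of AKO Lemma I.2.6(c): if `P` is fully automized and `Q` is conjugate to `P`, some
isomorphism `χ : Q → P` of the system carries conjugation by every element of `N_S(Q)` to
conjugation by an element of `S`. -/
theorem exists_iso_conj_into [Finite S] {p : ℕ} [Fact p.Prime] (hS : IsPGroup p S)
    {F : FusionSystem S} {P Q : Subgroup Ω} (hP : F.IsFullyAutomized p P) {f₀ : Ω → Ω}
    (hf₀ : IsIso F Q P f₀) :
    ∃ χ : Ω → Ω, IsIso F Q P χ ∧ ∀ n ∈ normalizerIn S Q, ∃ h ∈ S, ∀ y ∈ Q,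
      χ (n * y * n⁻¹) = h * χ y * h⁻¹ := by
  have hQS : Q ≤ S := hf₀.le_left
  have hPS : P ≤ S := hf₀.le_right
  obtain ⟨g₀, hg₀, hg₀f₀, hf₀g₀⟩ := hf₀.symm
  have hnorm : ∀ n ∈ normalizerIn S Q, ∀ y ∈ Q, n * y * n⁻¹ ∈ Q := fun n hn y hy =>
    (Subgroup.mem_normalizer_iff.1 hn.2 y).1 hy
  -- the isomorphisms `f₀ ∘ c_n ∘ g₀` of `P`
  have hkiso : ∀ n ∈ normalizerIn S Q, IsIso F P P (fun x => f₀ (n * g₀ x * n⁻¹)) := fun n hn =>
    (hg₀.trans (isIso_conj_normalizer F hQS hn)).trans hf₀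
  let K : Subgroup (MulAut P) :=
    { carrier := {α | ∃ n ∈ normalizerIn S Q, ∀ x : P, ((α x : P) : Ω) = f₀ (n * g₀ x * n⁻¹)}
      one_mem' := ⟨1, Subgroup.one_mem _, fun x => by
        show (x : Ω) = f₀ (1 * g₀ x * 1⁻¹)
        rw [one_mul, inv_one, mul_one, hf₀g₀ x x.2]⟩
      mul_mem' := by
        rintro α β ⟨n, hn, hα⟩ ⟨m, hm, hβ⟩
        refine ⟨n * m, Subgroup.mul_mem _ hn hm, fun x => ?_⟩
        show ((α (β x) : P) : Ω) = _
        rw [hα, hβ, hg₀f₀ _ (hnorm m hm _ (hg₀.map_mem x.2))]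
        congr 1
        group
      inv_mem' := by
        rintro α ⟨n, hn, hα⟩
        refine ⟨n⁻¹, Subgroup.inv_mem _ hn, fun x => ?_⟩
        have h1 := hα (α⁻¹ x)
        have h2 : α (α⁻¹ x) = x := by simp
        rw [h2] at h1
        -- apply g₀
        have hy : g₀ ((α⁻¹ x : P) : Ω) ∈ Q := hg₀.map_mem (α⁻¹ x).2
        have h3 : g₀ (x : Ω) = n * g₀ ((α⁻¹ x : P) : Ω) * n⁻¹ := by
          rw [h1, hg₀f₀ _ (hnorm n hn _ hy)]
        have h4 : g₀ ((α⁻¹ x : P) : Ω) = n⁻¹ * g₀ (x : Ω) * n⁻¹⁻¹ := by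
          rw [h3]; group
        rw [← h4, hf₀g₀ _ (α⁻¹ x).2] }
  have hKA : K ≤ F.autGroup P := by
    rintro α ⟨n, hn, hα⟩
    obtain ⟨α', hα', hα'v⟩ := exists_mem_autGroup_of_isIso F (hkiso n hn)
    have : α = α' := by
      ext x
      rw [hα, hα'v]
    rwa [this]
  have hKp : IsPGroup p K := by
    rintro ⟨α, n, hn, hα⟩
    obtain ⟨k, hk⟩ := hS ⟨n, hn.1⟩
    refine ⟨k, Subtype.ext ?_⟩
    have hpow : ∀ j : ℕ, ∀ x : P, (((α ^ j) x : P) : Ω) = f₀ (n ^ j * g₀ x * (n ^ j)⁻¹) := by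
      intro j
      induction j with
      | zero =>
        intro x
        show (x : Ω) = _
        rw [pow_zero, one_mul, inv_one, mul_one, hf₀g₀ x x.2]
      | succ j ih =>
        intro x
        rw [pow_succ, MulAut.mul_apply, ih, hα,
          hg₀f₀ _ (hnorm n hn _ (hg₀.map_mem x.2)), pow_succ]
        congr 1
        group
    have hn1 : n ^ p ^ k = 1 := by
      have := congrArg Subtype.val hk
      simpa using this
    show α ^ p ^ k = 1
    ext x
    rw [hpow, hn1]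
    show f₀ (1 * g₀ x * 1⁻¹) = x
    rw [one_mul, inv_one, mul_one, hf₀g₀ x x.2]
  obtain ⟨a, haA, ha⟩ := IsFullyAutomized_exists_conj hP K hKp hKA
  have hfa := isIso_of_mem_autGroup F hPS haA
  set fa := ext1 (P.subtype.comp a.toMonoidHom) with hfa_def
  have hfa_apply : ∀ x : P, fa x = ((a x : P) : Ω) := fun x => ext1_apply _ x
  refine ⟨fa ∘ f₀, hf₀.trans hfa, fun n hn => ?_⟩
  obtain ⟨αn, -, hαn⟩ := exists_mem_autGroup_of_isIso F (hkiso n hn)
  have hαnK : αn ∈ K := ⟨n, hn, hαn⟩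
  obtain ⟨h, hh, hconj⟩ := (mem_autInducedBy_iff S P _).1 (ha αn hαnK)
  refine ⟨h, hh, fun y hy => ?_⟩
  have hy' : f₀ y ∈ P := hf₀.map_mem hy
  have h1 := hconj (a ⟨f₀ y, hy'⟩)
  rw [MulAut.mul_apply, MulAut.mul_apply] at h1
  have h2 : a⁻¹ (a ⟨f₀ y, hy'⟩) = ⟨f₀ y, hy'⟩ := by simp
  rw [h2] at h1
  have h3 : ((αn ⟨f₀ y, hy'⟩ : P) : Ω) = f₀ (n * y * n⁻¹) := by
    rw [hαn]
    show f₀ (n * g₀ (f₀ y) * n⁻¹) = _
    rw [hg₀f₀ y hy]
  show fa (f₀ (n * y * n⁻¹)) = h * fa (f₀ y) * h⁻¹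
  have h4 : fa (f₀ y) = ((a ⟨f₀ y, hy'⟩ : P) : Ω) := hfa_apply ⟨f₀ y, hy'⟩
  rw [h4, ← h1]
  have h5 : αn ⟨f₀ y, hy'⟩ = ⟨f₀ (n * y * n⁻¹), hf₀.map_mem (hnorm n hn y hy)⟩ := Subtype.ext h3
  rw [h5]
  exact hfa_apply ⟨f₀ (n * y * n⁻¹), hf₀.map_mem (hnorm n hn y hy)⟩

/-- AKO Lemma I.2.6(c), function-level: if `P` is fully automized and receptive and `Q` is
conjugate to `P`, some map of the system defined on `N_S(Q)` carries `Q` onto `P` and `N_S(Q)`
into `N_S(P)`. -/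
theorem exists_normalizer_map [Finite S] {p : ℕ} [Fact p.Prime] (hS : IsPGroup p S)
    {F : FusionSystem S} {P Q : Subgroup Ω} (h₁ : F.IsFullyAutomized p P) (h₂ : F.IsReceptive P)
    (hQ : F.IsConj Q P) :
    ∃ (f : Ω → Ω) (N' : Subgroup Ω), IsIso F (normalizerIn S Q) N' f ∧ N' ≤ normalizerIn S P ∧
      IsIso F Q P f := by
  obtain ⟨f₀, hf₀⟩ := (isConj_iff F).1 hQ
  have hQS : Q ≤ S := hf₀.le_left
  obtain ⟨χ, hχ, hχn⟩ := exists_iso_conj_into hS h₁ hf₀
  obtain ⟨f, N', hf, hfχ⟩ := IsReceptive_extend h₂ hχ (normalizerIn S Q)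
    (fun n hn => ⟨hn.1, hn.2, hχn n hn⟩)
  have hQN : Q ≤ normalizerIn S Q := fun x hx => ⟨hQS hx, Subgroup.le_normalizer hx⟩
  have hfQ : IsIso F Q P f := by
    refine hf.restrict' hQN (fun x hx => ?_) (fun y hy => ?_)
    · rw [hfχ x hx (hQN hx)]
      exact hχ.map_mem hx
    · obtain ⟨x, hx, rfl⟩ := hχ.surjOn hy
      exact ⟨x, hx, hfχ x hx (hQN hx)⟩
  refine ⟨f, N', hf, ?_, hfQ⟩
  intro y hy
  obtain ⟨n, hn, rfl⟩ := hf.surjOn hy
  refine ⟨hf.le_right (hf.map_mem hn), ?_⟩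
  show f n ∈ Subgroup.normalizer (P : Set Ω)
  rw [Subgroup.mem_normalizer_iff]
  -- f n normalizes P = f(Q)
  have hconj : ∀ m ∈ normalizerIn S Q, ∀ z ∈ P, f m * z * (f m)⁻¹ ∈ P := by
    intro m hm z hz
    obtain ⟨x, hx, rfl⟩ := hfQ.surjOn hz
    have hx' : m * x * m⁻¹ ∈ Q := (Subgroup.mem_normalizer_iff.1 hm.2 x).1 hx
    have : f (m * x * m⁻¹) = f m * f x * (f m)⁻¹ := by
      rw [hf.map_mul (Subgroup.mul_mem _ hm (hQN hx)) (Subgroup.inv_mem _ hm),
        hf.map_mul hm (hQN hx), hf.map_inv hm]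
    rw [← this]
    exact hfQ.map_mem hx'
  intro z
  constructor
  · exact hconj n hn z
  · intro hz
    have h1 := hconj n⁻¹ (Subgroup.inv_mem _ hn) _ hz
    rw [hf.map_inv hn] at h1
    have : (f n)⁻¹ * (f n * z * (f n)⁻¹) * (f n)⁻¹⁻¹ = z := by group
    rwa [this] at h1

/-- AKO Lemma I.2.6(b): a fully automized receptive subgroup is fully normalized. -/
theorem isFullyNormalized_of_automized_receptive [Finite S] {p : ℕ} [Fact p.Prime]
    (hS : IsPGroup p S) {F : FusionSystem S} {P : Subgroup Ω} (h₁ : F.IsFullyAutomized p P)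
    (h₂ : F.IsReceptive P) : F.IsFullyNormalized P := by
  refine ⟨h₂.1, fun Q hQ => ?_⟩
  obtain ⟨f, N', hf, hN', -⟩ := exists_normalizer_map hS h₁ h₂ (isConj_symm F hQ)
  let k : normalizerIn S Q → normalizerIn S P := fun n => ⟨f n, hN' (hf.map_mem n.2)⟩
  have hk : Function.Injective k := by
    intro a b hab
    have : f a = f b := congrArg Subtype.val hab
    exact Subtype.ext (hf.injOn a.2 b.2 this)
  have : Finite (normalizerIn S P) :=
    finite_of_le S (inf_le_left : normalizerIn S P ≤ S)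
  exact Nat.card_le_card_of_injective k hk


/-- AKO Lemma I.2.6(a): a receptive subgroup is fully centralized. -/
theorem isFullyCentralized_of_receptive [Finite S] {F : FusionSystem S} {P : Subgroup Ω}
    (hP : F.IsReceptive P) : F.IsFullyCentralized P := by
  refine ⟨hP.1, fun Q hQ => ?_⟩
  obtain ⟨f₀, hf₀⟩ := (isConj_iff F).1 (isConj_symm F hQ)
  have hQS : Q ≤ S := hf₀.le_left
  obtain ⟨f, N', hf, hff₀⟩ := IsReceptive_extend hP hf₀ (Q ⊔ centralizerIn S Q) (by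
    intro g hg
    obtain ⟨φ, hφ, hφf, hr⟩ := hf₀
    have hle : Q ⊔ centralizerIn S Q ≤ extender S Q φ :=
      sup_le (le_extender F hφ) (centralizerIn_le_extender S Q φ)
    exact (mem_extender_iff' hφf g).1 (hle hg))
  have hQN : Q ≤ Q ⊔ centralizerIn S Q := le_sup_left
  have hCN : centralizerIn S Q ≤ Q ⊔ centralizerIn S Q := le_sup_right
  have key : ∀ c : centralizerIn S Q, f c ∈ centralizerIn S P := by
    intro c
    refine ⟨hf.le_right (hf.map_mem (hCN c.2)), ?_⟩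
    show _ ∈ Subgroup.centralizer (P : Set Ω)
    rw [Subgroup.mem_centralizer_iff]
    intro y hy
    obtain ⟨x, hx, rfl⟩ := hf₀.surjOn hy
    rw [← hff₀ x hx (hQN hx), ← hf.map_mul (hQN hx) (hCN c.2), ← hf.map_mul (hCN c.2) (hQN hx)]
    congr 1
    exact c.2.2 x hx
  let k : centralizerIn S Q → centralizerIn S P := fun c => ⟨f c, key c⟩
  have hk : Function.Injective k := by
    intro a b hab
    have : f a = f b := congrArg Subtype.val hab
    exact Subtype.ext (hf.injOn (hCN a.2) (hCN b.2) this)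
  have : Finite (centralizerIn S P) := finite_of_le S (inf_le_left : centralizerIn S P ≤ S)
  exact Nat.card_le_card_of_injective k hk

/-- A fully centralized subgroup `U` with `C_S(U) ≤ U` is centric. -/
theorem isCentric_of_fullyCentralized [Finite S] {F : FusionSystem S} {U : Subgroup Ω}
    (hU : F.IsFullyCentralized U) (hC : centralizerIn S U ≤ U) : F.IsCentric U := by
  obtain ⟨hUS, hfc⟩ := hU
  refine ⟨hUS, fun Q hQ => ?_⟩
  have hcard := hfc Q hQ
  obtain ⟨f, hf⟩ := (isConj_iff F).1 hQ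
  have hQS : Q ≤ S := hf.le_right
  have key : ∀ c : centralizerIn S U, f c ∈ centralizerIn S Q := by
    intro c
    have hcU : (c : Ω) ∈ U := hC c.2
    refine ⟨hQS (hf.map_mem hcU), ?_⟩
    show _ ∈ Subgroup.centralizer (Q : Set Ω)
    rw [Subgroup.mem_centralizer_iff]
    intro y hy
    obtain ⟨u, hu, rfl⟩ := hf.surjOn hy
    rw [← hf.map_mul hu hcU, ← hf.map_mul hcU hu]
    congr 1
    exact c.2.2 u hu
  let g : centralizerIn S U → centralizerIn S Q := fun c => ⟨f c, key c⟩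
  have hg : Function.Injective g := by
    intro a b hab
    have h1 : f a = f b := congrArg Subtype.val hab
    exact Subtype.ext (hf.injOn (hC a.2) (hC b.2) h1)
  have : Finite (centralizerIn S Q) := finite_of_le S (inf_le_left : centralizerIn S Q ≤ S)
  have hbij := hg.bijective_of_nat_card_le hcard
  intro y hy
  obtain ⟨c, hc⟩ := hbij.2 ⟨y, hy⟩
  have : f c = y := congrArg Subtype.val hc
  rw [← this]
  exact hf.map_mem (hC c.2)

end Cfsg.Agent.Lib.H25
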