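import Mathlib
import Cfsg.Prelude.Def_FusionSystem
import Cfsg.Agent.Lib.H25.Fusion
import Cfsg.Agent.Lib.H25.Basic
import Cfsg.Agent.Lib.H25.Saturation

set_option autoImplicit false

/-!
Extendable automorphisms and the Alperin--Goldschmidt fusion theorem (helper25).
-/

namespace Cfsg.Agent.Lib.H25

open Cfsg Cfsg.FusionSystem

variable {Ω : Type*} [Group Ω] {S : Subgroup Ω}

/-- The automorphisms of `P` that extend to a map of the system on a strictly larger subgroup. -/
def extGens (F : FusionSystem S) (P : Subgroup Ω) : Set (MulAut P) :=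
  {α : MulAut P | ∃ (Q : Subgroup Ω) (hPQ : P < Q) (φ : Q →* Ω), φ ∈ F.Hom Q ∧
    ∀ x : P, φ (Subgroup.inclusion hPQ.le x) = α x}

theorem extGens_subset_autGroup (F : FusionSystem S) (P : Subgroup Ω) :
    extGens F P ⊆ F.autGroup P := by
  rintro α ⟨Q, hPQ, φ, hφ, hα⟩
  have hPS : P ≤ S := hPQ.le.trans (hom_le F hφ)
  rw [SetLike.mem_coe, mem_autGroup_iff F hPS]
  have h := restrict_mem F hφ hPQ.le
  have e : φ.comp (Subgroup.inclusion hPQ.le) = P.subtype.comp α.toMonoidHom := by
    ext x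
    exact hα x
  rwa [e] at h

/-- If `R` is receptive and `N_α` is strictly larger than `R`, then `α` is extendable. -/
theorem mem_extGens_of_extender {F : FusionSystem S} {R : Subgroup Ω} (hrec : F.IsReceptive R)
    {α : MulAut R} (hα : α ∈ F.autGroup R) {g : Ω}
    (hg : g ∈ extender S R (R.subtype.comp α.toMonoidHom)) (hgR : g ∉ R) : α ∈ extGens F R := by
  have hRS := hrec.1
  have hφ := (mem_autGroup_iff F hRS α).1 hα
  have hr : (R.subtype.comp α.toMonoidHom).range = R := by
    ext y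
    constructor
    · rintro ⟨x, rfl⟩
      exact (α x).2
    · intro hy
      exact ⟨α⁻¹ ⟨y, hy⟩, by simp⟩
  obtain ⟨ψ, hψ, hψφ⟩ := hrec.2 R _ hφ hr
  have hle : R ≤ extender S R (R.subtype.comp α.toMonoidHom) := le_extender F hφ
  have hlt : R < extender S R (R.subtype.comp α.toMonoidHom) :=
    lt_of_le_of_ne hle (fun h => hgR (h ▸ hg))
  exact ⟨_, hlt, ψ, hψ, fun x => hψφ x x.2 (hle x.2)⟩

/-- In a finite `p`-group, a proper subgroup is properly contained in its normalizer. -/
theorem exists_mem_normalizerIn_not_mem [Finite S] {p : ℕ} [Fact p.Prime] (hS : IsPGroup p S)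
    {R : Subgroup Ω} (hRS : R ≤ S) (hne : R ≠ S) : ∃ g ∈ normalizerIn S R, g ∉ R := by
  have hnil : Group.IsNilpotent S := hS.isNilpotent
  have hnc := Group.normalizerCondition_of_isNilpotent (G := S)
  have hlt : R.subgroupOf S < ⊤ := by
    rw [lt_top_iff_ne_top]
    intro h
    apply hne
    apply le_antisymm hRS
    intro s hs
    have : (⟨s, hs⟩ : S) ∈ R.subgroupOf S := by rw [h]; trivial
    exact Subgroup.mem_subgroupOf.1 this
  obtain ⟨s, hs, hsR⟩ := SetLike.exists_of_lt (hnc _ hlt)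
  refine ⟨s, ⟨s.2, ?_⟩, fun h => hsR (Subgroup.mem_subgroupOf.2 h)⟩
  show (s : Ω) ∈ Subgroup.normalizer (R : Set Ω)
  rw [Subgroup.mem_normalizer_iff] at hs ⊢
  intro x
  constructor
  · intro hx
    have := (hs ⟨x, hRS hx⟩).1 (Subgroup.mem_subgroupOf.2 hx)
    exact Subgroup.mem_subgroupOf.1 this
  · intro hx
    have hxS : x ∈ S := by
      have h1 : (s : Ω) * x * (s : Ω)⁻¹ ∈ S := hRS hx
      have h2 : x = (s : Ω)⁻¹ * ((s : Ω) * x * (s : Ω)⁻¹) * (s : Ω) := by group
      rw [h2]
      exact S.mul_mem (S.mul_mem (S.inv_mem s.2) h1) s.2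
    have := (hs ⟨x, hxS⟩).2 (Subgroup.mem_subgroupOf.2 hx)
    exact Subgroup.mem_subgroupOf.1 this


/-- A subgroup with trivial underlying group has `p`-rank zero. -/
theorem pRankLE_zero_of_eq_bot {p : ℕ} {X : Type*} [Group X] {D : Subgroup X} (hD : D = ⊥) :
    PRankLE p 0 D := by
  subst hD
  intro A _ _
  rw [pow_zero]
  have : Subsingleton (⊥ : Subgroup X) := inferInstance
  have : Subsingleton A := inferInstance
  exact Finite.card_le_one_iff_subsingleton.2 this

/-- Inner automorphisms of `R` are extendable when `R < S`. -/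
theorem inn_le_closure_extGens [Finite S] {p : ℕ} [Fact p.Prime] (hS : IsPGroup p S)
    {F : FusionSystem S} {R : Subgroup Ω} (hrec : F.IsReceptive R) (hne : R ≠ S) :
    Inn R ≤ Subgroup.closure (extGens F R) := by
  have hRS := hrec.1
  obtain ⟨g₀, hg₀N, hg₀R⟩ := exists_mem_normalizerIn_not_mem hS hRS hne
  rintro _ ⟨r, rfl⟩
  apply Subgroup.subset_closure
  have hαA : (MulAut.conj r : MulAut R) ∈ F.autGroup R := by
    apply autInducedBy_le_autGroup F hRS
    rw [mem_autInducedBy_iff]
    exact ⟨r, hRS r.2, fun y => rfl⟩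
  refine mem_extGens_of_extender hrec hαA (g := g₀) ?_ hg₀R
  rw [mem_extender_iff]
  refine ⟨hg₀N.1, hg₀N.2, (r : Ω) * g₀ * (r : Ω)⁻¹, ?_, fun x hx => ?_⟩
  · exact S.mul_mem (S.mul_mem (hRS r.2) hg₀N.1) (S.inv_mem (hRS r.2))
  · show (r : Ω) * (g₀ * x * g₀⁻¹) * (r : Ω)⁻¹ = (r : Ω) * g₀ * (r : Ω)⁻¹ * ((r : Ω) * x * (r : Ω)⁻¹) * ((r : Ω) * g₀ * (r : Ω)⁻¹)⁻¹
    group

/-- AKO Proposition I.3.3, first half: for a fully automized, receptive, proper, non-essential
subgroup `R`, the group `Aut_F(R)` is generated by the extendable automorphisms. -/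
theorem autGroup_le_closure_extGens [Finite S] {p : ℕ} [Fact p.Prime] (hS : IsPGroup p S)
    {F : FusionSystem S} {R : Subgroup Ω} (hfa : F.IsFullyAutomized p R) (hrec : F.IsReceptive R)
    (hne : R ≠ S) (hness : ¬ F.IsEssential p R) :
    F.autGroup R ≤ Subgroup.closure (extGens F R) := by
  have hRS := hrec.1
  have hfn : F.IsFullyNormalized R := isFullyNormalized_of_automized_receptive hS hfa hrec
  have hfc : F.IsFullyCentralized R := isFullyCentralized_of_receptive hrec
  have hInnH := inn_le_closure_extGens hS hrec hne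
  obtain ⟨g₀, hg₀N, hg₀R⟩ := exists_mem_normalizerIn_not_mem hS hRS hne
  set H := Subgroup.closure (extGens F R) with hH
  have hHA : H ≤ F.autGroup R := (Subgroup.closure_le _).2 (extGens_subset_autGroup F R)
  by_cases hcen : F.IsCentric R
  · -- centric case
    have hCR : centralizerIn S R ≤ R := hcen.2 R (isConj_refl F hRS)
    have hfinR : Finite R := finite_of_le S hRS
    have hInnA : Inn R ≤ F.autGroup R := hInnH.trans hHA
    have hI : ((Inn R).subgroupOf (F.autGroup R)).Normal := inferInstance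
    obtain ⟨-, R₀, hR₀⟩ := hfa
    have hπ : Function.Surjective (QuotientGroup.mk' ((Inn R).subgroupOf (F.autGroup R))) :=
      QuotientGroup.mk'_surjective _
    -- the key sub-claim
    have sub : ∀ α β : F.autGroup R, (β : MulAut R) ∈ autInducedBy S R →
        (β : MulAut R) ∉ Inn R → ((α * β * α⁻¹ : F.autGroup R) : MulAut R) ∈ autInducedBy S R →
        (α : MulAut R) ∈ extGens F R := by
      intro α β hβS hβI hαβ
      obtain ⟨g, hgS, hg⟩ := (mem_autInducedBy_iff S R _).1 hβS
      obtain ⟨h, hhS, hh⟩ := (mem_autInducedBy_iff S R _).1 hαβ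
      have hgN : g ∈ Subgroup.normalizer (R : Set Ω) := by
        rw [Subgroup.mem_normalizer_iff]
        intro x
        constructor
        · intro hx
          rw [← hg ⟨x, hx⟩]
          exact ((β : MulAut R) ⟨x, hx⟩).2
        · intro hx
          have h1 := hg ((β : MulAut R)⁻¹ ⟨g * x * g⁻¹, hx⟩)
          have h2 : (β : MulAut R) ((β : MulAut R)⁻¹ ⟨g * x * g⁻¹, hx⟩) = ⟨g * x * g⁻¹, hx⟩ := by simp
          rw [h2] at h1
          have h3 : x = (((β : MulAut R)⁻¹ ⟨g * x * g⁻¹, hx⟩ : R) : Ω) := by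
            have : g * x * g⁻¹ = g * (((β : MulAut R)⁻¹ ⟨g * x * g⁻¹, hx⟩ : R) : Ω) * g⁻¹ := h1
            exact mul_left_cancel (mul_right_cancel this)
          rw [h3]
          exact ((β : MulAut R)⁻¹ ⟨g * x * g⁻¹, hx⟩).2
      have hgR : g ∉ R := by
        intro hgR
        apply hβI
        refine ⟨⟨g, hgR⟩, ?_⟩
        ext x
        exact (hg x).symm
      refine mem_extGens_of_extender hrec α.2 (g := g) ?_ hgR
      rw [mem_extender_iff]
      refine ⟨hgS, hgN, h, hhS, fun x hx => ?_⟩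
      have h1 := hh ((α : MulAut R) x)
      have h2 : ((α * β * α⁻¹ : F.autGroup R) : MulAut R) ((α : MulAut R) x) =
          (α : MulAut R) ((β : MulAut R) x) := by
        show (α : MulAut R) ((β : MulAut R) ((α : MulAut R)⁻¹ ((α : MulAut R) x))) = _
        simp
      rw [h2] at h1
      have h3 : (β : MulAut R) x = ⟨g * x * g⁻¹, hx⟩ := Subtype.ext (hg x)
      rw [h3] at h1
      exact h1
    -- Inn R ≤ Aut_S(R)
    have hInnS : Inn R ≤ autInducedBy S R := by
      rintro _ ⟨r, rfl⟩
      rw [mem_autInducedBy_iff]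
      exact ⟨r, hRS r.2, fun y => rfl⟩
    set I := (Inn R).subgroupOf (F.autGroup R) with hIdef
    set π := QuotientGroup.mk' I with hπdef
    have hπ1 : ∀ a : F.autGroup R, π a = 1 ↔ (a : MulAut R) ∈ Inn R := by
      intro a
      rw [hπdef, QuotientGroup.mk'_apply, QuotientGroup.eq_one_iff]
      exact Subgroup.mem_subgroupOf
    have hR₀mem : ∀ a : F.autGroup R, a ∈ (R₀ : Subgroup (F.autGroup R)) ↔
        (a : MulAut R) ∈ autInducedBy S R := by
      intro a
      rw [hR₀]
      exact Subgroup.mem_subgroupOf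
    let T : Sylow p (F.autGroup R ⧸ I) := R₀.mapSurjective hπ
    have hTmem : ∀ y : F.autGroup R ⧸ I, y ∈ (T : Subgroup (F.autGroup R ⧸ I)) ↔
        ∃ a : F.autGroup R, (a : MulAut R) ∈ autInducedBy S R ∧ π a = y := by
      intro y
      show y ∈ (R₀ : Subgroup (F.autGroup R)).map π ↔ _
      constructor
      · rintro ⟨a, ha, rfl⟩
        exact ⟨a, (hR₀mem a).1 ha, rfl⟩
      · rintro ⟨a, ha, rfl⟩
        exact ⟨a, (hR₀mem a).2 ha, rfl⟩
    -- preimage of T is Aut_S(R)
    have hTpre : ∀ a : F.autGroup R, π a ∈ (T : Subgroup (F.autGroup R ⧸ I)) →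
        (a : MulAut R) ∈ autInducedBy S R := by
      intro a ha
      obtain ⟨b, hb, hba⟩ := (hTmem _).1 ha
      have h1 : π (b⁻¹ * a) = 1 := by rw [map_mul, map_inv, hba, inv_mul_cancel]
      have h2 : ((b⁻¹ * a : F.autGroup R) : MulAut R) ∈ Inn R := (hπ1 _).1 h1
      have h3 : (a : MulAut R) = (b : MulAut R) * ((b⁻¹ * a : F.autGroup R) : MulAut R) := by
        show (a : MulAut R) = (b : MulAut R) * ((b : MulAut R)⁻¹ * (a : MulAut R))
        group
      rw [h3]
      exact Subgroup.mul_mem _ hb (hInnS h2)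
    let Ebar : Subgroup (F.autGroup R ⧸ I) := (H.subgroupOf (F.autGroup R)).map π
    -- Γ_{T,1} ≤ Ebar
    have hΓ : kGeneratedCore p 1 (T : Subgroup (F.autGroup R ⧸ I)) ≤ Ebar := by
      apply iSup_le
      rintro ⟨D, hDT, hDrank⟩ abar habar
      have hDne : D ≠ ⊥ := fun h => hDrank (pRankLE_zero_of_eq_bot h)
      obtain ⟨d, hdD, hd1⟩ := (Subgroup.bot_or_exists_ne_one D).resolve_left hDne
      obtain ⟨β, hβS, hβd⟩ := (hTmem d).1 (hDT hdD)
      have hβI : (β : MulAut R) ∉ Inn R := by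
        intro h
        apply hd1
        rw [← hβd]
        exact (hπ1 β).2 h
      obtain ⟨α, rfl⟩ := hπ abar
      have hconj : π α * d * (π α)⁻¹ ∈ D :=
        (Subgroup.mem_normalizer_iff.1 habar d).1 hdD
      have h1 : π (α * β * α⁻¹) ∈ (T : Subgroup (F.autGroup R ⧸ I)) := by
        rw [map_mul, map_mul, map_inv, hβd]
        exact hDT hconj
      have h2 := hTpre _ h1
      have h3 := sub α β hβS hβI h2
      exact ⟨α, Subgroup.mem_subgroupOf.2 (Subgroup.subset_closure h3), rfl⟩
    -- p divides the order of Out_F(R)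
    have hp : p ∣ Nat.card (F.autGroup R ⧸ I) := by
      obtain ⟨β₀, hβ₀A, hβ₀⟩ := exists_mem_autGroup_of_isIso F (isIso_conj_normalizer F hRS hg₀N)
      have hβ₀S : β₀ ∈ autInducedBy S R := by
        rw [mem_autInducedBy_iff]
        exact ⟨g₀, hg₀N.1, hβ₀⟩
      have hβ₀I : β₀ ∉ Inn R := by
        rintro ⟨r, hr⟩
        apply hg₀R
        have hc : (r : Ω)⁻¹ * g₀ ∈ centralizerIn S R := by
          refine ⟨S.mul_mem (S.inv_mem (hRS r.2)) hg₀N.1, ?_⟩
          show _ ∈ Subgroup.centralizer (R : Set Ω)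
          rw [Subgroup.mem_centralizer_iff]
          intro x hx
          have h1 := hβ₀ ⟨x, hx⟩
          rw [← hr] at h1
          have h2 : (r : Ω) * x * (r : Ω)⁻¹ = g₀ * x * g₀⁻¹ := h1
          have h3 : x * ((r : Ω)⁻¹ * g₀) = (r : Ω)⁻¹ * ((r : Ω) * x * (r : Ω)⁻¹) * g₀ := by group
          rw [h3, h2]
          group
        have := R.mul_mem r.2 (hCR hc)
        simpa using this
      have hT1 : π ⟨β₀, hβ₀A⟩ ∈ (T : Subgroup (F.autGroup R ⧸ I)) :=
        (hTmem _).2 ⟨⟨β₀, hβ₀A⟩, hβ₀S, rfl⟩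
      have hTne : π ⟨β₀, hβ₀A⟩ ≠ 1 := fun h => hβ₀I ((hπ1 _).1 h)
      have hTnt : Nontrivial (T : Subgroup (F.autGroup R ⧸ I)) :=
        ⟨⟨⟨_, hT1⟩, 1, fun h => hTne (congrArg Subtype.val h)⟩⟩
      rcases T.isPGroup'.card_eq_or_dvd with h | h
      · exfalso
        have : 1 < Nat.card (T : Subgroup (F.autGroup R ⧸ I)) := Finite.one_lt_card
        omega
      · exact h.trans (Subgroup.card_subgroup_dvd_card _)
    -- conclude
    have hEtop : Ebar = ⊤ := by
      by_contra hne'
      exact hness ⟨hcen, hfn, hI, Ebar, hp, hne', T, hΓ⟩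
    intro α hα
    have h1 : π ⟨α, hα⟩ ∈ Ebar := by rw [hEtop]; trivial
    obtain ⟨η, hη, hηα⟩ := h1
    have hηH : (η : MulAut R) ∈ H := Subgroup.mem_subgroupOf.1 hη
    have h2 : π (η⁻¹ * ⟨α, hα⟩) = 1 := by rw [map_mul, map_inv, hηα, inv_mul_cancel]
    have h3 : ((η⁻¹ * ⟨α, hα⟩ : F.autGroup R) : MulAut R) ∈ Inn R := (hπ1 _).1 h2
    have h4 : α = (η : MulAut R) * ((η⁻¹ * ⟨α, hα⟩ : F.autGroup R) : MulAut R) := by
      show α = (η : MulAut R) * ((η : MulAut R)⁻¹ * α)
      group
    rw [h4]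
    exact H.mul_mem hηH (hInnH h3)
  · -- non-centric case: `C_S(R) ≰ R`
    have hC : ¬ centralizerIn S R ≤ R := fun h => hcen (isCentric_of_fullyCentralized hfc h)
    obtain ⟨c, hc, hcR⟩ := SetLike.not_le_iff_exists.1 hC
    intro α hα
    apply Subgroup.subset_closure
    exact mem_extGens_of_extender hrec hα (centralizerIn_le_extender S R _ hc) hcR


theorem card_lt_of_lt' [Finite S] {P Q : Subgroup Ω} (hQS : Q ≤ S) (hlt : P < Q) :
    Nat.card P < Nat.card Q := by
  have : Finite Q := finite_of_le S hQS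
  rcases lt_or_eq_of_le (Subgroup.card_le_of_le hlt.le) with h | h
  · exact h
  · exact absurd (Subgroup.eq_of_le_of_card_ge hlt.le h.ge) hlt.ne

/-- Cardinality is preserved by isomorphisms of the system. -/
theorem IsIso.card_eq [Finite S] {F : FusionSystem S} {P Q : Subgroup Ω} {f : Ω → Ω}
    (h : IsIso F P Q f) : Nat.card P = Nat.card Q := by
  have : Finite P := finite_of_le S h.le_left
  have : Finite Q := finite_of_le S h.le_right
  let k : P → Q := fun x => ⟨f x, h.map_mem x.2⟩
  have hk : Function.Bijective k := by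
    constructor
    · intro a b hab
      exact Subtype.ext (h.injOn a.2 b.2 (congrArg Subtype.val hab))
    · rintro ⟨y, hy⟩
      obtain ⟨x, hx, rfl⟩ := h.surjOn hy
      exact ⟨⟨x, hx⟩, rfl⟩
  exact Nat.card_eq_of_bijective k hk

theorem isIso_of_autGroup_le {F E : FusionSystem S} {P : Subgroup Ω} {f : Ω → Ω}
    (hle : F.autGroup P ≤ E.autGroup P) (h : IsIso F P P f) : IsIso E P P f := by
  obtain ⟨α, hα, hαf⟩ := exists_mem_autGroup_of_isIso F h
  have := isIso_of_mem_autGroup E h.le_left (hle hα)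
  refine this.congr (fun x hx => ?_)
  rw [ext1_apply_mem _ hx]
  exact hαf ⟨x, hx⟩

/-- **Alperin--Goldschmidt fusion theorem** (AKO Theorem I.3.5). -/
theorem alperin [Finite S] {p : ℕ} [Fact p.Prime] (hS : IsPGroup p S) (F : FusionSystem S)
    (hF : F.IsSaturated p) (E : FusionSystem S)
    (hE : ∀ P : Subgroup Ω, (P = S ∨ F.IsEssential p P) → F.autGroup P ≤ E.autGroup P) :
    ∀ P : Subgroup Ω, F.Hom P ⊆ E.Hom P := by
  have key : ∀ n : ℕ, ∀ P : Subgroup Ω, P ≤ S → Nat.card S - Nat.card P = n →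
      F.Hom P ⊆ E.Hom P := by
    intro n
    induction n using Nat.strong_induction_on with
    | _ n ih =>
      intro P hPS hn
      -- the induction hypothesis, for larger subgroups
      have IH : ∀ Q' : Subgroup Ω, Q' ≤ S → Nat.card P < Nat.card Q' → F.Hom Q' ⊆ E.Hom Q' := by
        intro Q' hQ'S hlt
        have hle : Nat.card Q' ≤ Nat.card S := Subgroup.card_le_of_le hQ'S
        exact ih (Nat.card S - Nat.card Q') (by omega) Q' hQ'S rfl
      have IH' : ∀ (Q' Q'' : Subgroup Ω) (k : Ω → Ω), Nat.card P < Nat.card Q' →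
          IsIso F Q' Q'' k → IsIso E Q' Q'' k := by
        intro Q' Q'' k hlt hk
        obtain ⟨ψ, hψ, hψk, hr⟩ := hk
        exact ⟨ψ, IH Q' (hom_le F hψ) hlt hψ, hψk, hr⟩
      suffices hsuff : ∀ (Q : Subgroup Ω) (f : Ω → Ω), IsIso F P Q f → IsIso E P Q f by
        intro φ hφ
        exact mem_hom_of_isIso E (hsuff _ _ (isIso_of_mem F hφ)) (fun x => (ext1_apply φ x).symm)
      intro Q f hf
      by_cases hPeq : P = S
      · -- the case `P = S`
        have hQS : Q ≤ S := hf.le_right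
        have hcard := hf.card_eq
        have hQeq : Q = S := by
          apply Subgroup.eq_of_le_of_card_ge hQS
          rw [← hcard, hPeq]
        have hQP : Q = P := hQeq.trans hPeq.symm
        subst hQP
        exact isIso_of_autGroup_le (hE Q (Or.inl hPeq)) hf
      · -- the case `P < S`
        have hcardPQ := hf.card_eq
        have hQS : Q ≤ S := hf.le_right
        have hPlt : Nat.card P < Nat.card S :=
          card_lt_of_lt' le_rfl (lt_of_le_of_ne hPS hPeq)
        have hQne : Q ≠ S := by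
          intro h
          rw [h] at hcardPQ
          omega
        obtain ⟨R, hPR, hRfa, hRrec⟩ := hF P hPS
        obtain ⟨f₀, hf₀⟩ := (isConj_iff F).1 hPR
        have hcardPR := hf₀.card_eq
        have hRS : R ≤ S := hRrec.1
        have hRne : R ≠ S := by
          intro h
          rw [h] at hcardPR
          omega
        -- Claim A
        have claimA : F.autGroup R ≤ E.autGroup R := by
          by_cases hess : F.IsEssential p R
          · exact hE R (Or.inr hess)
          · refine (autGroup_le_closure_extGens hS hRfa hRrec hRne hess).trans ?_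
            rw [Subgroup.closure_le]
            rintro α ⟨Q', hlt, φ', hφ', hα⟩
            apply extGens_subset_autGroup E R
            have hQ'S : Q' ≤ S := hom_le F hφ'
            have hc : Nat.card P < Nat.card Q' := by
              rw [hcardPR]
              exact card_lt_of_lt' hQ'S hlt
            exact ⟨Q', hlt, φ', IH Q' hQ'S hc hφ', hα⟩
        -- the two normalizer maps
        obtain ⟨f₁, N₁, hf₁N, -, hf₁⟩ := exists_normalizer_map hS hRfa hRrec hPR
        have hQR : F.IsConj Q R := isConj_trans F (isConj_symm F hf.isConj) hPR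
        obtain ⟨f₂, N₂, hf₂N, -, hf₂⟩ := exists_normalizer_map hS hRfa hRrec hQR
        have hPN : P < normalizerIn S P := by
          obtain ⟨g, hgN, hgP⟩ := exists_mem_normalizerIn_not_mem hS hPS hPeq
          refine lt_of_le_of_ne (fun x hx => ⟨hPS hx, Subgroup.le_normalizer hx⟩) ?_
          intro h
          exact hgP (h ▸ hgN)
        have hQN : Q < normalizerIn S Q := by
          obtain ⟨g, hgN, hgQ⟩ := exists_mem_normalizerIn_not_mem hS hQS hQne
          refine lt_of_le_of_ne (fun x hx => ⟨hQS hx, Subgroup.le_normalizer hx⟩) ?_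
          intro h
          exact hgQ (h ▸ hgN)
        have hc₁ : Nat.card P < Nat.card (normalizerIn S P) := card_lt_of_lt' inf_le_left hPN
        have hc₂ : Nat.card P < Nat.card (normalizerIn S Q) := by
          rw [hcardPQ]; exact card_lt_of_lt' inf_le_left hQN
        have hE₁ : IsIso E P R f₁ :=
          (IH' _ _ _ hc₁ hf₁N).restrict' hPN.le (fun x hx => hf₁.map_mem hx) (fun y hy => hf₁.surjOn hy)
        have hE₂ : IsIso E Q R f₂ :=
          (IH' _ _ _ hc₂ hf₂N).restrict' hQN.le (fun x hx => hf₂.map_mem hx) (fun y hy => hf₂.surjOn hy)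
        obtain ⟨g₁, hg₁, hg₁f₁, hf₁g₁⟩ := hf₁.symm
        obtain ⟨g₂, hg₂, hg₂f₂, hf₂g₂⟩ := hE₂.symm
        have hα : IsIso F R R (f₂ ∘ f ∘ g₁) := (hg₁.trans hf).trans hf₂
        have hαE : IsIso E R R (f₂ ∘ f ∘ g₁) := isIso_of_autGroup_le claimA hα
        have hfin : IsIso E P Q (g₂ ∘ (f₂ ∘ f ∘ g₁) ∘ f₁) := (hE₁.trans hαE).trans hg₂
        refine hfin.congr (fun x hx => ?_)
        show g₂ (f₂ (f (g₁ (f₁ x)))) = f x
        rw [hg₁f₁ x hx, hg₂f₂ _ (hf.map_mem hx)]
  intro P φ hφ
  exact key _ P (hom_le F hφ) rfl hφ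

end Cfsg.Agent.Lib.H25
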