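import Mathlib
import Cfsg.Prelude.Def_FusionSystem
import Cfsg.Agent.Lib.H25.Fusion
import Cfsg.Agent.Lib.H25.Basic
import Cfsg.Agent.Lib.H25.Saturation
import Cfsg.Agent.Lib.H25.Alperin

set_option autoImplicit false

/-!
The Roberts--Shpectorov / AKO Proposition I.2.5 equivalences for saturation (helper25).
-/

namespace Cfsg.Agent.Lib.H25

open Cfsg Cfsg.FusionSystem

variable {Ω : Type*} [Group Ω] {S : Subgroup Ω}

/-- If conjugation by `h` maps the finite subgroup `P` into itself, then `h` normalizes `P`. -/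
theorem mem_normalizer_of_conj_mem {P : Subgroup Ω} [Finite P] {h : Ω}
    (hh : ∀ x ∈ P, h * x * h⁻¹ ∈ P) : h ∈ Subgroup.normalizer (P : Set Ω) := by
  rw [Subgroup.mem_normalizer_iff]
  let k : P → P := fun x => ⟨h * x * h⁻¹, hh x x.2⟩
  have hk : Function.Injective k := by
    intro a b hab
    have : h * (a : Ω) * h⁻¹ = h * (b : Ω) * h⁻¹ := congrArg Subtype.val hab
    exact Subtype.ext (mul_left_cancel (mul_right_cancel this))
  have hs : Function.Surjective k := Finite.surjective_of_injective hk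
  intro x
  constructor
  · exact hh x
  · intro hx
    obtain ⟨y, hy⟩ := hs ⟨h * x * h⁻¹, hx⟩
    have : h * (y : Ω) * h⁻¹ = h * x * h⁻¹ := congrArg Subtype.val hy
    have : (y : Ω) = x := mul_left_cancel (mul_right_cancel this)
    rw [← this]
    exact y.2

/-- An isomorphism of the system defined on `N_S(P)` that carries `P` onto `R` maps `C_S(P)` into
`C_S(R)`. -/
theorem IsIso.map_centralizerIn {F : FusionSystem S} {P R N N' : Subgroup Ω} {f : Ω → Ω}
    (hf : IsIso F N N' f) (hPN : P ≤ N) (hfP : IsIso F P R f) {c : Ω} (hcN : c ∈ N)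
    (hc : c ∈ centralizerIn S P) : f c ∈ centralizerIn S R := by
  refine ⟨hf.le_right (hf.map_mem hcN), ?_⟩
  show _ ∈ Subgroup.centralizer (R : Set Ω)
  rw [Subgroup.mem_centralizer_iff]
  intro y hy
  obtain ⟨x, hx, rfl⟩ := hfP.surjOn hy
  rw [← hf.map_mul (hPN hx) hcN, ← hf.map_mul hcN (hPN hx)]
  congr 1
  exact hc.2 x hx

theorem centralizerIn_le_normalizerIn (S P : Subgroup Ω) : centralizerIn S P ≤ normalizerIn S P :=
  fun _ hc => ⟨hc.1, Subgroup.centralizer_le_normalizer _ hc.2⟩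

theorem le_normalizerIn {P : Subgroup Ω} (hP : P ≤ S) : P ≤ normalizerIn S P :=
  fun _ hx => ⟨hP hx, Subgroup.le_normalizer hx⟩

/-- In a saturated fusion system, a fully centralized subgroup is receptive. -/
theorem isReceptive_of_fullyCentralized [Finite S] {p : ℕ} [Fact p.Prime] (hS : IsPGroup p S)
    {F : FusionSystem S} (hF : F.IsSaturated p) {P : Subgroup Ω} (hP : F.IsFullyCentralized P) :
    F.IsReceptive P := by
  have hPS := hP.1
  have hfinP : Finite P := finite_of_le S hPS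
  obtain ⟨R, hPR, hRfa, hRrec⟩ := hF P hPS
  have hRS := hRrec.1
  obtain ⟨φ, N₁, hφ, hN₁, hφP⟩ := exists_normalizer_map hS hRfa hRrec hPR
  have hPN := le_normalizerIn (S := S) hPS
  have hCN := centralizerIn_le_normalizerIn S P
  -- φ maps C_S(P) onto C_S(R)
  have hCsurj : ∀ y ∈ centralizerIn S R, ∃ c ∈ centralizerIn S P, φ c = y := by
    let k : centralizerIn S P → centralizerIn S R := fun c =>
      ⟨φ c, hφ.map_centralizerIn hPN hφP (hCN c.2) c.2⟩
    have hk : Function.Injective k := by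
      intro a b hab
      exact Subtype.ext (hφ.injOn (hCN a.2) (hCN b.2) (congrArg Subtype.val hab))
    have : Finite (centralizerIn S R) := finite_of_le S (inf_le_left : centralizerIn S R ≤ S)
    have hb := hk.bijective_of_nat_card_le (hP.2 R hPR)
    intro y hy
    obtain ⟨c, hc⟩ := hb.2 ⟨y, hy⟩
    exact ⟨c, c.2, congrArg Subtype.val hc⟩
  obtain ⟨γ, hγ, hγφ, hφγ⟩ := hφ.symm
  refine ⟨hPS, fun Q ψ₀ hψ₀ hr => ?_⟩
  have hψ : IsIso F Q P (ext1 ψ₀) := hr ▸ isIso_of_mem F hψ₀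
  set ψ := ext1 ψ₀ with hψdef
  have hQS : Q ≤ S := hψ.le_left
  have hψ₀ψ : ∀ x : Q, ψ₀ x = ψ x := fun x => (ext1_apply ψ₀ x).symm
  set N := extender S Q ψ₀ with hNdef
  have hNmem : ∀ g ∈ N, g ∈ S ∧ g ∈ Subgroup.normalizer (Q : Set Ω) ∧
      ∃ h ∈ S, ∀ x ∈ Q, ψ (g * x * g⁻¹) = h * ψ x * h⁻¹ := fun g hg =>
    (mem_extender_iff' hψ₀ψ g).1 hg
  have hQN : Q ≤ N := le_extender F hψ₀
  -- the element h normalizes P
  have hhN : ∀ g ∈ N, ∀ h ∈ S, (∀ x ∈ Q, ψ (g * x * g⁻¹) = h * ψ x * h⁻¹) →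
      h ∈ normalizerIn S P := by
    intro g hg h hh hconj
    refine ⟨hh, mem_normalizer_of_conj_mem (fun y hy => ?_)⟩
    obtain ⟨x, hx, rfl⟩ := hψ.surjOn hy
    rw [← hconj x hx]
    exact hψ.map_mem ((Subgroup.mem_normalizer_iff.1 (hNmem g hg).2.1 x).1 hx)
  have hφψ : IsIso F Q R (φ ∘ ψ) := hψ.trans hφP
  obtain ⟨χ, N', hχ, hχφψ⟩ := IsReceptive_extend hRrec hφψ N (by
    intro g hg
    obtain ⟨hgS, hgN, h, hh, hconj⟩ := hNmem g hg
    have hhNP := hhN g hg h hh hconj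
    refine ⟨hgS, hgN, φ h, hφ.le_right (hφ.map_mem hhNP), fun x hx => ?_⟩
    show φ (ψ (g * x * g⁻¹)) = φ h * φ (ψ x) * (φ h)⁻¹
    rw [hconj x hx, hφ.map_mul (Subgroup.mul_mem _ hhNP (hPN (hψ.map_mem hx)))
      (Subgroup.inv_mem _ hhNP), hφ.map_mul hhNP (hPN (hψ.map_mem hx)), hφ.map_inv hhNP])
  -- χ(N) ≤ N₁
  have hN'N₁ : N' ≤ N₁ := by
    intro z hz
    obtain ⟨g, hg, rfl⟩ := hχ.surjOn hz
    obtain ⟨hgS, hgN, h, hh, hconj⟩ := hNmem g hg
    have hhNP := hhN g hg h hh hconj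
    have hc : (φ h)⁻¹ * χ g ∈ centralizerIn S R := by
      refine ⟨S.mul_mem (S.inv_mem (hφ.le_right (hφ.map_mem hhNP))) (hχ.le_right (hχ.map_mem hg)), ?_⟩
      show _ ∈ Subgroup.centralizer (R : Set Ω)
      rw [Subgroup.mem_centralizer_iff]
      intro y hy
      obtain ⟨x, hx, rfl⟩ := hφψ.surjOn hy
      have hx' : g * x * g⁻¹ ∈ Q := (Subgroup.mem_normalizer_iff.1 hgN x).1 hx
      have h1 : χ (g * x * g⁻¹) = χ g * χ x * (χ g)⁻¹ := by
        rw [hχ.map_mul (Subgroup.mul_mem _ hg (hQN hx)) (Subgroup.inv_mem _ hg),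
          hχ.map_mul hg (hQN hx), hχ.map_inv hg]
      have h2 : χ (g * x * g⁻¹) = φ h * (φ ∘ ψ) x * (φ h)⁻¹ := by
        rw [hχφψ _ hx' (hQN hx')]
        show φ (ψ (g * x * g⁻¹)) = φ h * φ (ψ x) * (φ h)⁻¹
        rw [hconj x hx, hφ.map_mul (Subgroup.mul_mem _ hhNP (hPN (hψ.map_mem hx)))
          (Subgroup.inv_mem _ hhNP), hφ.map_mul hhNP (hPN (hψ.map_mem hx)), hφ.map_inv hhNP]
      have h3 : χ x = (φ ∘ ψ) x := hχφψ x hx (hQN hx)
      rw [h3] at h1
      have h4 : χ g * (φ ∘ ψ) x * (χ g)⁻¹ = φ h * (φ ∘ ψ) x * (φ h)⁻¹ := h1.symm.trans h2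
      calc (φ ∘ ψ) x * ((φ h)⁻¹ * χ g)
          = (φ h)⁻¹ * (φ h * (φ ∘ ψ) x * (φ h)⁻¹) * χ g := by group
        _ = (φ h)⁻¹ * (χ g * (φ ∘ ψ) x * (χ g)⁻¹) * χ g := by rw [h4]
        _ = (φ h)⁻¹ * χ g * (φ ∘ ψ) x := by group
    obtain ⟨c, hcP, hcφ⟩ := hCsurj _ hc
    have : χ g = φ h * φ c := by rw [hcφ]; group
    rw [this]
    exact N₁.mul_mem (hφ.map_mem hhNP) (hφ.map_mem (hCN hcP))
  obtain ⟨N'', -, hγ', -⟩ := hγ.restrict hN'N₁
  have hfin : IsIso F N N'' (γ ∘ χ) := hχ.trans hγ'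
  obtain ⟨ψ', hψ', hψ'v, -⟩ := hfin
  refine ⟨ψ', hψ', fun x hxQ hxN => ?_⟩
  rw [hψ'v, hψ₀ψ]
  show γ (χ x) = ψ x
  rw [hχφψ x hxQ hxN]
  exact hγφ _ (hPN (hψ.map_mem hxQ))


/-- If conjugation by `g` induces the automorphism `α` of `P`, then `g` normalizes `P`. -/
theorem mem_normalizer_of_induces {P : Subgroup Ω} {α : MulAut P} {g : Ω}
    (hg : ∀ x : P, ((α x : P) : Ω) = g * (x : Ω) * g⁻¹) : g ∈ Subgroup.normalizer (P : Set Ω) := by
  rw [Subgroup.mem_normalizer_iff]
  intro x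
  constructor
  · intro hx
    rw [← hg ⟨x, hx⟩]
    exact (α ⟨x, hx⟩).2
  · intro hx
    have h1 := hg (α⁻¹ ⟨g * x * g⁻¹, hx⟩)
    have h2 : α (α⁻¹ ⟨g * x * g⁻¹, hx⟩) = ⟨g * x * g⁻¹, hx⟩ := by simp
    rw [h2] at h1
    have h3 : x = ((α⁻¹ ⟨g * x * g⁻¹, hx⟩ : P) : Ω) := by
      have : g * x * g⁻¹ = g * ((α⁻¹ ⟨g * x * g⁻¹, hx⟩ : P) : Ω) * g⁻¹ := h1
      exact mul_left_cancel (mul_right_cancel this)
    rw [h3]
    exact (α⁻¹ ⟨g * x * g⁻¹, hx⟩).2

/-- Transport of `Aut_F` along an isomorphism of the system (one direction). -/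
theorem congr_mem_autGroup {F : FusionSystem S} {P Q : Subgroup Ω} {f : Ω → Ω}
    (h : IsIso F P Q f) (e : P ≃* Q) (he : ∀ x : P, ((e x : Q) : Ω) = f x) {α : MulAut P}
    (hα : α ∈ F.autGroup P) : MulAut.congr e α ∈ F.autGroup Q := by
  have hPS := h.le_left
  have hfα := isIso_of_mem_autGroup F hPS hα
  obtain ⟨g, hg, hgf, hfg⟩ := h.symm
  obtain ⟨β, hβ, hβv⟩ := exists_mem_autGroup_of_isIso F ((hg.trans hfα).trans h)
  have : MulAut.congr e α = β := by
    ext y
    rw [hβv]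
    show ((e (α (e.symm y)) : Q) : Ω) = f (ext1 (P.subtype.comp α.toMonoidHom) (g y))
    have h1 : g y = ((e.symm y : P) : Ω) := by
      apply h.injOn (hg.map_mem y.2) (e.symm y).2
      rw [hfg y y.2, ← he]
      simp
    rw [h1, ext1_apply, he]
    rfl
  rw [this]
  exact hβ

/-- The inverse of the `MulEquiv` of an isomorphism of the system is the `MulEquiv` of an
isomorphism of the system. -/
theorem IsIso.symm_equiv {F : FusionSystem S} {P Q : Subgroup Ω} {f : Ω → Ω}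
    (h : IsIso F P Q f) (e : P ≃* Q) (he : ∀ x : P, ((e x : Q) : Ω) = f x) :
    ∃ g : Ω → Ω, IsIso F Q P g ∧ (∀ y : Q, ((e.symm y : P) : Ω) = g y) ∧
      (∀ x ∈ P, g (f x) = x) ∧ ∀ y ∈ Q, f (g y) = y := by
  obtain ⟨g, hg, hgf, hfg⟩ := h.symm
  refine ⟨g, hg, fun y => ?_, hgf, hfg⟩
  apply h.injOn (e.symm y).2 (hg.map_mem y.2)
  rw [hfg y y.2, ← he]
  simp

theorem map_congr_autGroup {F : FusionSystem S} {P Q : Subgroup Ω} {f : Ω → Ω}
    (h : IsIso F P Q f) (e : P ≃* Q) (he : ∀ x : P, ((e x : Q) : Ω) = f x) :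
    (F.autGroup P).map (MulAut.congr e).toMonoidHom = F.autGroup Q := by
  apply le_antisymm
  · rintro _ ⟨α, hα, rfl⟩
    exact congr_mem_autGroup h e he hα
  · intro β hβ
    obtain ⟨g, hg, heg, -, -⟩ := h.symm_equiv e he
    have := congr_mem_autGroup hg e.symm heg hβ
    refine ⟨MulAut.congr e.symm β, this, ?_⟩
    ext y
    show ((e (e.symm (β (e.symm.symm (e.symm y)))) : Q) : Ω) = β y
    simp

/-- Transport of `Aut_S` along an isomorphism of the system defined on the normalizer (one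
direction). -/
theorem congr_mem_autInducedBy {F : FusionSystem S} {P R N N' : Subgroup Ω} {φ : Ω → Ω}
    (hφ : IsIso F N N' φ) (hN : normalizerIn S P ≤ N) (hPS : P ≤ S) (hφP : IsIso F P R φ)
    (e : P ≃* R) (he : ∀ x : P, ((e x : R) : Ω) = φ x) {α : MulAut P}
    (hα : α ∈ autInducedBy S P) : MulAut.congr e α ∈ autInducedBy S R := by
  obtain ⟨g, hgS, hg⟩ := (mem_autInducedBy_iff S P α).1 hα
  have hgN : g ∈ N := hN ⟨hgS, mem_normalizer_of_induces hg⟩
  have hPN : P ≤ N := (le_normalizerIn (S := S) hPS).trans hN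
  rw [mem_autInducedBy_iff]
  refine ⟨φ g, hφ.le_right (hφ.map_mem hgN), fun y => ?_⟩
  show ((e (α (e.symm y)) : R) : Ω) = _
  rw [he, hg]
  have hx : ((e.symm y : P) : Ω) ∈ N := hPN (e.symm y).2
  rw [hφ.map_mul (Subgroup.mul_mem _ hgN hx) (Subgroup.inv_mem _ hgN), hφ.map_mul hgN hx,
    hφ.map_inv hgN, ← he]
  simp

/-- In a saturated fusion system, a fully normalized subgroup is fully centralized and fully
automized. -/
theorem fullyNormalized_props [Finite S] {p : ℕ} [Fact p.Prime] (hS : IsPGroup p S)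
    {F : FusionSystem S} (hF : F.IsSaturated p) {P : Subgroup Ω} (hP : F.IsFullyNormalized P) :
    F.IsFullyCentralized P ∧ F.IsFullyAutomized p P := by
  have hPS := hP.1
  have hfinP : Finite P := finite_of_le S hPS
  obtain ⟨R, hPR, hRfa, hRrec⟩ := hF P hPS
  have hRS := hRrec.1
  have hfinR : Finite R := finite_of_le S hRS
  obtain ⟨φ, N₁, hφ, hN₁, hφP⟩ := exists_normalizer_map hS hRfa hRrec hPR
  have hPN := le_normalizerIn (S := S) hPS
  have hRN := le_normalizerIn (S := S) hRS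
  -- N₁ = N_S(R)
  have hN₁eq : N₁ = normalizerIn S R := by
    have : Finite (normalizerIn S R) := finite_of_le S inf_le_left
    apply Subgroup.eq_of_le_of_card_ge hN₁
    rw [← hφ.card_eq]
    exact hP.2 R hPR
  subst hN₁eq
  obtain ⟨γ, hγ, hγφ, hφγ⟩ := hφ.symm
  have hγR : IsIso F R P γ := by
    refine hγ.restrict' hRN (fun y hy => ?_) (fun x hx => ?_)
    · obtain ⟨x, hx, rfl⟩ := hφP.surjOn hy
      rw [hγφ x (hPN hx)]
      exact hx
    · exact ⟨φ x, hφP.map_mem hx, hγφ x (hPN hx)⟩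
  constructor
  · -- fully centralized
    refine ⟨hPS, fun Q hQ => ?_⟩
    have hRfc := isFullyCentralized_of_receptive hRrec
    have h1 := hRfc.2 Q (isConj_trans F (isConj_symm F hPR) hQ)
    have hCN := centralizerIn_le_normalizerIn S R
    let k : centralizerIn S R → centralizerIn S P := fun c =>
      ⟨γ c, hγ.map_centralizerIn hRN hγR (hCN c.2) c.2⟩
    have hk : Function.Injective k := by
      intro a b hab
      exact Subtype.ext (hγ.injOn (hCN a.2) (hCN b.2) (congrArg Subtype.val hab))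
    have : Finite (centralizerIn S P) := finite_of_le S (inf_le_left : centralizerIn S P ≤ S)
    exact h1.trans (Nat.card_le_card_of_injective k hk)
  · -- fully automized
    refine ⟨hPS, ?_⟩
    set e := hφP.toMulEquiv with he_def
    have he : ∀ x : P, ((e x : R) : Ω) = φ x := fun x => hφP.toMulEquiv_apply x
    obtain ⟨γ', hγ', heγ', -, -⟩ := hφP.symm_equiv e he
    have hinj : Function.Injective (MulAut.congr e).toMonoidHom := (MulAut.congr e).injective
    have hA : (F.autGroup P).map (MulAut.congr e).toMonoidHom = F.autGroup R :=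
      map_congr_autGroup hφP e he
    have hγ'γ : ∀ y ∈ R, γ' y = γ y := by
      intro y hy
      apply hφP.injOn (hγ'.map_mem hy) (hγR.map_mem hy)
      obtain ⟨x, hx, rfl⟩ := hφP.surjOn hy
      rw [hγφ x (hPN hx)]
      have := heγ' ⟨φ x, hφP.map_mem hx⟩
      rw [← this, ← he]
      simp
    have hγR' : IsIso F R P γ' := hγR.congr (fun y hy => (hγ'γ y hy).symm)
    have hB : (autInducedBy S P).map (MulAut.congr e).toMonoidHom = autInducedBy S R := by
      apply le_antisymm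
      · rintro _ ⟨α, hα, rfl⟩
        exact congr_mem_autInducedBy hφ le_rfl hPS hφP e he hα
      · intro β hβ
        have hγ2 : IsIso F (normalizerIn S R) (normalizerIn S P) γ := hγ
        have := congr_mem_autInducedBy hγ2 le_rfl hRS hγR e.symm
          (fun y => (heγ' y).trans (hγ'γ y y.2)) hβ
        refine ⟨MulAut.congr e.symm β, this, ?_⟩
        ext y
        show ((e (e.symm (β (e.symm.symm (e.symm y)))) : R) : Ω) = β y
        simp
    obtain ⟨-, R₀, hR₀⟩ := hRfa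
    have hcardA : Nat.card (F.autGroup P) = Nat.card (F.autGroup R) := by
      rw [← hA, Subgroup.card_map_of_injective hinj]
    have hcardB : Nat.card (autInducedBy S P) = Nat.card (autInducedBy S R) := by
      rw [← hB, Subgroup.card_map_of_injective hinj]
    have hleP : autInducedBy S P ≤ F.autGroup P := autInducedBy_le_autGroup F hPS
    have hleR : autInducedBy S R ≤ F.autGroup R := autInducedBy_le_autGroup F hRS
    have hc1 : Nat.card ((autInducedBy S P).subgroupOf (F.autGroup P)) =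
        Nat.card (autInducedBy S P) := Nat.card_congr (Subgroup.subgroupOfEquivOfLe hleP).toEquiv
    have hc2 : Nat.card ((autInducedBy S R).subgroupOf (F.autGroup R)) =
        Nat.card (autInducedBy S R) := Nat.card_congr (Subgroup.subgroupOfEquivOfLe hleR).toEquiv
    have hc3 : Nat.card (R₀ : Subgroup (F.autGroup R)) =
        p ^ (Nat.card (F.autGroup R)).factorization p := R₀.card_eq_multiplicity
    rw [hR₀, hc2, ← hcardB, ← hcardA] at hc3
    rw [← hc1] at hc3
    exact ⟨Sylow.ofCard _ hc3, Sylow.coe_ofCard _ hc3⟩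

theorem finite_subgroups_le (S : Subgroup Ω) [Finite S] : {Q : Subgroup Ω | Q ≤ S}.Finite := by
  have : Finite (Subgroup S) := inferInstance
  apply Set.Finite.of_finite_image (f := fun Q : Subgroup Ω => Q.subgroupOf S)
  · exact Set.toFinite _
  · intro Q₁ h₁ Q₂ h₂ h
    have h' : Q₁.subgroupOf S = Q₂.subgroupOf S := h
    rw [Subgroup.subgroupOf_inj] at h'
    rwa [inf_eq_left.2 h₁, inf_eq_left.2 h₂] at h'

/-- Every subgroup of `S` is conjugate in the system to a fully normalized one. -/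
theorem exists_fullyNormalized_conj [Finite S] (F : FusionSystem S) {P : Subgroup Ω} (hP : P ≤ S) :
    ∃ Q, F.IsConj P Q ∧ F.IsFullyNormalized Q := by
  have hfin : {Q : Subgroup Ω | F.IsConj P Q}.Finite :=
    (finite_subgroups_le S).subset (fun Q hQ => isConj_le_right F hQ)
  obtain ⟨Q, hQ, hmax⟩ := Set.exists_max_image _ (fun Q => Nat.card (normalizerIn S Q)) hfin
    ⟨P, isConj_refl F hP⟩
  refine ⟨Q, hQ, isConj_le_right F hQ, fun Q' hQ' => ?_⟩
  exact hmax Q' (isConj_trans F hQ hQ')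

/-- Every subgroup of `S` is conjugate in the system to a fully centralized one. -/
theorem exists_fullyCentralized_conj [Finite S] (F : FusionSystem S) {P : Subgroup Ω} (hP : P ≤ S) :
    ∃ Q, F.IsConj P Q ∧ F.IsFullyCentralized Q := by
  have hfin : {Q : Subgroup Ω | F.IsConj P Q}.Finite :=
    (finite_subgroups_le S).subset (fun Q hQ => isConj_le_right F hQ)
  obtain ⟨Q, hQ, hmax⟩ := Set.exists_max_image _ (fun Q => Nat.card (centralizerIn S Q)) hfin
    ⟨P, isConj_refl F hP⟩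
  refine ⟨Q, hQ, isConj_le_right F hQ, fun Q' hQ' => ?_⟩
  exact hmax Q' (isConj_trans F hQ hQ')

end Cfsg.Agent.Lib.H25
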