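import Cfsg.Agent.Lib.H25.Alperin
import Cfsg.Agent.Lib.H25.SatEquiv
import Cfsg.Agent.S5080
import Cfsg.Agent.S5096
import Cfsg.Agent.S5097

set_option autoImplicit false

/-!
Subgroups normal in a fusion system (AKO, Section I.4): function-level characterisations,
the criterion through `S` and the essential subgroups (via the Alperin--Goldschmidt theorem),
and containment in centric radical subgroups.
-/

namespace Cfsg.Agent.Lib.H25

open Cfsg Cfsg.FusionSystem

variable {Ω : Type*} [Group Ω] {S : Subgroup Ω}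

/-- Transport of a fusion system along an equality of base subgroups. -/
def castSys {S S' : Subgroup Ω} (h : S' = S) (E : FusionSystem S') : FusionSystem S := h ▸ E

theorem castSys_hom {S S' : Subgroup Ω} (h : S' = S) (E : FusionSystem S') (P : Subgroup Ω) :
    (castSys h E).Hom P = E.Hom P := by
  subst h
  rfl

/-- Function-level form of the extension property of a subgroup normal in the system. -/
theorem isNormal_exists_ext {F : FusionSystem S} {Q : Subgroup Ω} (hQ : F.IsNormal Q)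
    {P P' : Subgroup Ω} {f : Ω → Ω} (hf : IsIso F P P' f) :
    ∃ g : Ω → Ω, IsIso F (P ⊔ Q) (P' ⊔ Q) g ∧ (∀ x ∈ P, g x = f x) ∧ IsIso F Q Q g := by
  obtain ⟨φ, hφ, hφf, hr⟩ := hf
  obtain ⟨ψ, hψ, hψφ, hψQ⟩ := hQ.2 P φ hφ
  have h1 : IsIso F (P ⊔ Q) ψ.range (ext1 ψ) := isIso_of_mem F hψ
  have hgf : ∀ x ∈ P, ext1 ψ x = f x := by
    intro x hx
    rw [ext1_apply_mem ψ ((le_sup_left : P ≤ P ⊔ Q) hx), ← hφf ⟨x, hx⟩, ← hψφ ⟨x, hx⟩]
    rfl
  have hP : IsIso F P P' (ext1 ψ) := by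
    refine h1.restrict' le_sup_left (fun x hx => ?_) (fun y hy => ?_)
    · rw [hgf x hx, ← hr]
      exact ⟨⟨x, hx⟩, hφf ⟨x, hx⟩⟩
    · rw [← hr] at hy
      obtain ⟨x, rfl⟩ := hy
      exact ⟨x, x.2, (hgf x x.2).trans (hφf x).symm⟩
  have hQQ : IsIso F Q Q (ext1 ψ) := by
    refine h1.restrict' le_sup_right (fun x hx => ?_) (fun y hy => ?_)
    · rw [ext1_apply_mem ψ ((le_sup_right : Q ≤ P ⊔ Q) hx)]
      have : ψ ⟨x, (le_sup_right : Q ≤ P ⊔ Q) hx⟩ ∈ (Q.subgroupOf (P ⊔ Q)).map ψ :=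
        ⟨_, Subgroup.mem_subgroupOf.2 hx, rfl⟩
      rwa [hψQ] at this
    · have : y ∈ (Q.subgroupOf (P ⊔ Q)).map ψ := by rw [hψQ]; exact hy
      obtain ⟨x, hx, rfl⟩ := this
      exact ⟨x, Subgroup.mem_subgroupOf.1 hx, ext1_apply ψ x⟩
  have hB := h1.image_sup hP hQQ
  rw [hB] at h1
  exact ⟨ext1 ψ, h1, hgf, hQQ⟩

/-- Function-level criterion for a subgroup to be normal in the system. -/
theorem isNormal_of_ext {F : FusionSystem S} {Q : Subgroup Ω} (hQS : Q ≤ S)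
    (h : ∀ (P : Subgroup Ω) (φ : P →* Ω), φ ∈ F.Hom P →
      ∃ (g : Ω → Ω) (B : Subgroup Ω), IsIso F (P ⊔ Q) B g ∧ (∀ x : P, g x = φ x) ∧
        (∀ x ∈ Q, g x ∈ Q) ∧ (∀ y ∈ Q, ∃ x ∈ Q, g x = y)) : F.IsNormal Q := by
  refine ⟨hQS, fun P φ hφ => ?_⟩
  obtain ⟨g, B, hg, hgφ, hgQ, hgQ'⟩ := h P φ hφ
  obtain ⟨ψ, hψ, hψg, -⟩ := hg
  refine ⟨ψ, hψ, fun x => ?_, ?_⟩
  · rw [hψg]; exact hgφ x
  · ext y
    constructor
    · rintro ⟨x, hx, rfl⟩
      rw [hψg]
      exact hgQ _ (Subgroup.mem_subgroupOf.1 hx)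
    · intro hy
      obtain ⟨x, hx, rfl⟩ := hgQ' y hy
      exact ⟨⟨x, (le_sup_right : Q ≤ P ⊔ Q) hx⟩, Subgroup.mem_subgroupOf.2 hx, hψg _⟩

/-- A subgroup normal in the system is strongly closed. -/
theorem isNormal_stronglyClosed {F : FusionSystem S} {Q : Subgroup Ω} (hQ : F.IsNormal Q) :
    F.StronglyClosed Q := by
  refine ⟨hQ.1, fun R hRQ φ hφ x => ?_⟩
  obtain ⟨ψ, hψ, hψφ, hψQ⟩ := hQ.2 R φ hφ
  rw [← hψφ x]
  have : ψ (Subgroup.inclusion le_sup_left x) ∈ (Q.subgroupOf (R ⊔ Q)).map ψ :=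
    ⟨_, Subgroup.mem_subgroupOf.2 (hRQ x.2), rfl⟩
  rwa [hψQ] at this

/-- Function-level form of strong closure. -/
theorem stronglyClosed_map_mem {F : FusionSystem S} {Q : Subgroup Ω} (hQ : F.StronglyClosed Q)
    {R R' : Subgroup Ω} {f : Ω → Ω} (hf : IsIso F R R' f) (hRQ : R ≤ Q) {x : Ω} (hx : x ∈ R) :
    f x ∈ Q := by
  obtain ⟨φ, hφ, hφf, -⟩ := hf
  rw [← hφf ⟨x, hx⟩]
  exact hQ.2 R hRQ φ hφ ⟨x, hx⟩

/-- The image of a subgroup of a strongly closed subgroup lies in it. -/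
theorem stronglyClosed_image_le {F : FusionSystem S} {Q : Subgroup Ω} (hQ : F.StronglyClosed Q)
    {R R' : Subgroup Ω} {f : Ω → Ω} (hf : IsIso F R R' f) (hRQ : R ≤ Q) : R' ≤ Q := by
  intro y hy
  obtain ⟨x, hx, rfl⟩ := hf.surjOn hy
  exact stronglyClosed_map_mem hQ hf hRQ hx

/-- A strongly closed subgroup is normalized by `S`. -/
theorem stronglyClosed_conj_mem {F : FusionSystem S} {Q : Subgroup Ω} (hQ : F.StronglyClosed Q)
    {g : Ω} (hg : g ∈ S) {x : Ω} (hx : x ∈ Q) : g * x * g⁻¹ ∈ Q :=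
  stronglyClosed_map_mem hQ (IsIso.conj (F := F) hQ.1 hg) le_rfl hx

theorem stronglyClosed_le_normalizer {F : FusionSystem S} {Q : Subgroup Ω}
    (hQ : F.StronglyClosed Q) : S ≤ Subgroup.normalizer (Q : Set Ω) := by
  intro g hg
  rw [Subgroup.mem_normalizer_iff]
  intro x
  refine ⟨fun hx => stronglyClosed_conj_mem hQ hg hx, fun hx => ?_⟩
  have := stronglyClosed_conj_mem hQ (S.inv_mem hg) hx
  simpa [mul_assoc] using this

theorem stronglyClosed_normalizerIn_eq {F : FusionSystem S} {Q : Subgroup Ω}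
    (hQ : F.StronglyClosed Q) : normalizerIn S Q = S :=
  inf_eq_left.2 (stronglyClosed_le_normalizer hQ)

/-- An isomorphism of the system between subgroups containing a strongly closed subgroup
restricts to an automorphism of it. -/
theorem stronglyClosed_isIso_self [Finite S] {F : FusionSystem S} {Q : Subgroup Ω}
    (hQ : F.StronglyClosed Q) {R R' : Subgroup Ω} {f : Ω → Ω} (hf : IsIso F R R' f)
    (hQR : Q ≤ R) : IsIso F Q Q f := by
  obtain ⟨Q', -, hQ', -⟩ := hf.restrict hQR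
  have hle : Q' ≤ Q := stronglyClosed_image_le hQ hQ' le_rfl
  have : Finite Q := finite_of_le S hQ.1
  have : Q' = Q := Subgroup.eq_of_le_of_card_ge hle (le_of_eq hQ'.card_eq)
  rwa [this] at hQ'

/-- Conjugation by an element of `S` as an element of `Aut_F(S)`. -/
theorem exists_conj_mem_autGroup_top (F : FusionSystem S) {g : Ω} (hg : g ∈ S) :
    ∃ α ∈ F.autGroup S, ∀ x : S, ((α x : S) : Ω) = g * (x : Ω) * g⁻¹ := by
  have hn : g ∈ normalizerIn S S := ⟨hg, Subgroup.le_normalizer hg⟩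
  exact exists_mem_autGroup_of_isIso F (isIso_conj_normalizer F le_rfl hn)

theorem le_of_eq_or_essential {F : FusionSystem S} {p : ℕ} {T : Subgroup Ω}
    (hT : T = S ∨ F.IsEssential p T) : T ≤ S := by
  rcases hT with rfl | hT
  · exact le_rfl
  · exact hT.1.1

/-- AKO Proposition I.4.5, (c) implies (a): a subgroup contained in `S` and in every essential
subgroup, and invariant under their automorphism groups in the system, is normal in the
system. -/
theorem isNormal_of_essential [Finite S] {p : ℕ} [Fact p.Prime] (hS : IsPGroup p S)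
    {F : FusionSystem S} (hF : F.IsSaturated p) {Q : Subgroup Ω}
    (h : ∀ T : Subgroup Ω, (T = S ∨ F.IsEssential p T) →
      Q ≤ T ∧ ∀ α ∈ F.autGroup T, ∀ x : T, (x : Ω) ∈ Q → ((α x : T) : Ω) ∈ Q) :
    F.IsNormal Q := by
  have hQS : Q ≤ S := (h S (Or.inl rfl)).1
  have hconj : ∀ g ∈ S, ∀ x ∈ Q, g * x * g⁻¹ ∈ Q := by
    intro g hg x hx
    obtain ⟨α, hα, hαg⟩ := exists_conj_mem_autGroup_top F hg
    have := (h S (Or.inl rfl)).2 α hα ⟨x, hQS hx⟩ hx
    rwa [hαg] at this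
  have hN : normalizerIn S Q = S := by
    apply inf_eq_left.2
    intro g hg
    rw [Subgroup.mem_normalizer_iff]
    intro x
    refine ⟨fun hx => hconj g hg x hx, fun hx => ?_⟩
    have := hconj g⁻¹ (S.inv_mem hg) _ hx
    simpa [mul_assoc] using this
  let E : FusionSystem S := castSys hN (Cfsg.Agent.S5096.normSys F Q hQS)
  have hEhom : ∀ P, E.Hom P = F.normalizerHom Q P := fun P => castSys_hom hN _ P
  have hE : ∀ T : Subgroup Ω, (T = S ∨ F.IsEssential p T) → F.autGroup T ≤ E.autGroup T := by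
    intro T hT α hα
    obtain ⟨hQT, hinv⟩ := h T hT
    have hTS : T ≤ S := le_of_eq_or_essential hT
    rw [mem_autGroup_iff E hTS, hEhom, Cfsg.Agent.S5096.mem_normalizerHom_iff]
    refine ⟨(mem_autGroup_iff F hTS α).1 hα, by rw [hN]; exact hTS, fun x => ?_,
      ext1 (T.subtype.comp α.toMonoidHom), T, ?_, fun x => ext1_apply _ x, fun x hx => ?_,
      fun y hy => ?_⟩
    · rw [hN]
      exact hTS (α x).2
    · rw [sup_eq_left.2 hQT]
      exact isIso_of_mem_autGroup F hTS hα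
    · rw [ext1_apply_mem _ (hQT hx)]
      exact hinv α hα ⟨x, hQT hx⟩ hx
    · have h1 := hinv α⁻¹ (Subgroup.inv_mem _ hα) ⟨y, hQT hy⟩ hy
      refine ⟨((α⁻¹ ⟨y, hQT hy⟩ : T) : Ω), h1, ?_⟩
      rw [ext1_apply]
      show ((α (α⁻¹ ⟨y, hQT hy⟩) : T) : Ω) = y
      simp
  have hle := alperin hS F hF E hE
  refine ⟨hQS, fun P φ hφ => ?_⟩
  have h1 := hle P hφ
  rw [hEhom] at h1
  exact h1.2.2.2

/-- Central version of `isNormal_of_essential`. -/
theorem isCentral_of_essential [Finite S] {p : ℕ} [Fact p.Prime] (hS : IsPGroup p S)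
    {F : FusionSystem S} (hF : F.IsSaturated p) {Q : Subgroup Ω}
    (h : ∀ T : Subgroup Ω, (T = S ∨ F.IsEssential p T) →
      Q ≤ T ∧ ∀ α ∈ F.autGroup T, ∀ x : T, (x : Ω) ∈ Q → ((α x : T) : Ω) = x) :
    F.IsCentral Q := by
  have hQS : Q ≤ S := (h S (Or.inl rfl)).1
  have hconj : ∀ g ∈ S, ∀ x ∈ Q, g * x * g⁻¹ = x := by
    intro g hg x hx
    obtain ⟨α, hα, hαg⟩ := exists_conj_mem_autGroup_top F hg
    have := (h S (Or.inl rfl)).2 α hα ⟨x, hQS hx⟩ hx
    rwa [hαg] at this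
  have hN : centralizerIn S Q = S := by
    apply inf_eq_left.2
    intro g hg
    rw [Subgroup.mem_centralizer_iff]
    intro x hx
    have := hconj g hg x hx
    calc x * g = g * x * g⁻¹ * g := by rw [this]
      _ = g * x := by group
  let E : FusionSystem S := castSys hN (Cfsg.Agent.S5097.centSys F Q hQS)
  have hEhom : ∀ P, E.Hom P = F.centralizerHom Q P := fun P => castSys_hom hN _ P
  have hE : ∀ T : Subgroup Ω, (T = S ∨ F.IsEssential p T) → F.autGroup T ≤ E.autGroup T := by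
    intro T hT α hα
    obtain ⟨hQT, hinv⟩ := h T hT
    have hTS : T ≤ S := le_of_eq_or_essential hT
    rw [mem_autGroup_iff E hTS, hEhom, Cfsg.Agent.S5097.mem_centralizerHom_iff]
    refine ⟨(mem_autGroup_iff F hTS α).1 hα, by rw [hN]; exact hTS, fun x => ?_,
      ext1 (T.subtype.comp α.toMonoidHom), T, ?_, fun x => ext1_apply _ x, fun x hx => ?_⟩
    · rw [hN]
      exact hTS (α x).2
    · rw [sup_eq_left.2 hQT]
      exact isIso_of_mem_autGroup F hTS hα
    · rw [ext1_apply_mem _ (hQT hx)]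
      exact hinv α hα ⟨x, hQT hx⟩ hx
  have hle := alperin hS F hF E hE
  refine ⟨hQS, fun P φ hφ => ?_⟩
  have h1 := hle P hφ
  rw [hEhom] at h1
  exact h1.2.2.2

theorem autInducedBy_mono {K K' : Subgroup Ω} (h : K ≤ K') (P : Subgroup Ω) :
    autInducedBy K P ≤ autInducedBy K' P := by
  intro α hα
  obtain ⟨g, hg, hαg⟩ := (mem_autInducedBy_iff K P α).1 hα
  exact (mem_autInducedBy_iff K' P α).2 ⟨g, h hg, hαg⟩

/-- In a centric radical subgroup `P`: an element of `S` inducing on `P` an automorphism lying in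
a normal `p`-subgroup of `Aut_F(P)` belongs to `P`. -/
theorem mem_of_centric_radical {p : ℕ} {F : FusionSystem S} {P : Subgroup Ω}
    (hc : F.IsCentric P) (hr : F.IsRadical p P) (B : Subgroup (MulAut P))
    (hBA : B ≤ F.autGroup P) (hBn : ∀ α ∈ F.autGroup P, ∀ β ∈ B, α * β * α⁻¹ ∈ B)
    (hBp : IsPGroup p B) {g : Ω} (hg : g ∈ S) {β : MulAut P} (hβ : β ∈ B)
    (hβg : ∀ x : P, ((β x : P) : Ω) = g * (x : Ω) * g⁻¹) : g ∈ P := by
  have hPS := hc.1
  set A := F.autGroup P with hA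
  have hB'n : (B.subgroupOf A).Normal := by
    constructor
    intro β' hβ' α
    rw [Subgroup.mem_subgroupOf] at hβ' ⊢
    exact hBn α α.2 β' hβ'
  have hB'p : IsPGroup p (B.subgroupOf A) := hBp.comap_subtype
  have hle : B.subgroupOf A ≤ pCore p A := le_pCore hB'n hB'p
  have hβInn : β ∈ Inn P := by
    rw [← hr.2]
    exact ⟨⟨β, hBA hβ⟩, hle (Subgroup.mem_subgroupOf.2 hβ), rfl⟩
  obtain ⟨x, hx⟩ := hβInn
  -- `x⁻¹ g` centralizes `P`
  have hcent : (x : Ω)⁻¹ * g ∈ centralizerIn S P := by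
    refine ⟨S.mul_mem (S.inv_mem (hPS x.2)) hg, ?_⟩
    show _ ∈ Subgroup.centralizer (P : Set Ω)
    rw [Subgroup.mem_centralizer_iff]
    intro y hy
    have h1 := hβg ⟨y, hy⟩
    rw [← hx] at h1
    have h2 : (x : Ω) * y * (x : Ω)⁻¹ = g * y * g⁻¹ := by
      rw [← h1]
      simp [MulAut.conj_apply]
    calc y * ((x : Ω)⁻¹ * g) = (x : Ω)⁻¹ * ((x : Ω) * y * (x : Ω)⁻¹) * g := by group
      _ = (x : Ω)⁻¹ * (g * y * g⁻¹) * g := by rw [h2]
      _ = (x : Ω)⁻¹ * g * y := by group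
  have h3 := hc.2 P (isConj_refl F hPS) hcent
  have : g = (x : Ω) * ((x : Ω)⁻¹ * g) := by group
  rw [this]
  exact P.mul_mem x.2 h3

/-- AKO Proposition I.4.5, (a) implies (b): a subgroup normal in the system is contained in every
centric radical subgroup. -/
theorem isNormal_le_of_centric_radical [Finite S] {p : ℕ} [Fact p.Prime] (hS : IsPGroup p S)
    {F : FusionSystem S} {Q P : Subgroup Ω} (hQ : F.IsNormal Q) (hc : F.IsCentric P)
    (hr : F.IsRadical p P) : Q ≤ P := by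
  have hPS := hc.1
  have hQS := hQ.1
  set T := P ⊔ Q with hT
  have hTS : T ≤ S := sup_le hPS hQS
  have hfinT : Finite T := finite_of_le S hTS
  have hTp : IsPGroup p T := hS.to_le hTS
  by_contra hne
  have hPT : P ≠ T := by
    intro h
    apply hne
    rw [h]
    exact le_sup_right
  obtain ⟨g, hgN, hgP⟩ := exists_mem_normalizerIn_not_mem hTp (le_sup_left : P ≤ T) hPT
  apply hgP
  have hNS : normalizerIn T P ≤ normalizerIn S P := fun y hy => ⟨hTS hy.1, hy.2⟩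
  -- the automorphism induced by `g`
  obtain ⟨β, hβA, hβg⟩ := exists_mem_autGroup_of_isIso F (isIso_conj_normalizer F hPS (hNS hgN))
  refine mem_of_centric_radical hc hr (autInducedBy (normalizerIn T P) P)
    ((autInducedBy_mono (hNS.trans inf_le_left) P).trans (autInducedBy_le_autGroup F hPS)) ?_
    (autInducedBy_isPGroup (hTp.to_le (inf_le_left : normalizerIn T P ≤ T)) P) (hTS hgN.1)
    ((mem_autInducedBy_iff _ P β).2 ⟨g, hgN, hβg⟩) hβg
  -- normality
  intro α hα γ hγ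
  obtain ⟨k, hkN, hγk⟩ := (mem_autInducedBy_iff _ P γ).1 hγ
  have ha := isIso_of_mem_autGroup F hPS hα
  obtain ⟨a', ha', ha'a, -⟩ := isNormal_exists_ext hQ ha
  have hval : ∀ x : P, (((α * γ * α⁻¹) x : P) : Ω) = a' k * (x : Ω) * (a' k)⁻¹ := by
    intro x
    have hy : ((α⁻¹ x : P) : Ω) ∈ T := (le_sup_left : P ≤ T) (α⁻¹ x).2
    have hkT : k ∈ T := hkN.1
    show ((α (γ (α⁻¹ x)) : P) : Ω) = _
    have h1 : ((α (γ (α⁻¹ x)) : P) : Ω) = a' ((γ (α⁻¹ x) : P) : Ω) := by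
      rw [ha'a _ (γ (α⁻¹ x)).2, ext1_apply_mem _ (γ (α⁻¹ x)).2]
      rfl
    rw [h1, hγk, ha'.map_mul (T.mul_mem hkT hy) (T.inv_mem hkT), ha'.map_mul hkT hy,
      ha'.map_inv hkT, ha'a _ (α⁻¹ x).2, ext1_apply_mem _ (α⁻¹ x).2]
    show a' k * ((α (α⁻¹ x) : P) : Ω) * _ = _
    simp
  rw [mem_autInducedBy_iff]
  exact ⟨a' k, ⟨ha'.map_mem hkN.1, mem_normalizer_of_induces hval⟩, hval⟩

/-- Automorphisms in the system of an overgroup leave a strongly closed subgroup invariant. -/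
theorem stronglyClosed_aut_mem {F : FusionSystem S} {Q T : Subgroup Ω} (hQ : F.StronglyClosed Q)
    (hTS : T ≤ S) (hQT : Q ≤ T) {α : MulAut T} (hα : α ∈ F.autGroup T) (x : T)
    (hx : (x : Ω) ∈ Q) : ((α x : T) : Ω) ∈ Q := by
  have h1 := isIso_of_mem_autGroup F hTS hα
  obtain ⟨Q', -, hQ', -⟩ := h1.restrict hQT
  have := stronglyClosed_map_mem hQ hQ' le_rfl hx
  rwa [ext1_apply_mem _ (hQT hx)] at this

/-- A strongly closed subgroup contained in every essential subgroup is normal in a saturated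
system. -/
theorem isNormal_of_stronglyClosed_of_le [Finite S] {p : ℕ} [Fact p.Prime] (hS : IsPGroup p S)
    {F : FusionSystem S} (hF : F.IsSaturated p) {Q : Subgroup Ω} (hQ : F.StronglyClosed Q)
    (h : ∀ T : Subgroup Ω, F.IsEssential p T → Q ≤ T) : F.IsNormal Q := by
  apply isNormal_of_essential hS hF
  intro T hT
  have hTS : T ≤ S := le_of_eq_or_essential hT
  have hQT : Q ≤ T := by
    rcases hT with rfl | hT
    · exact hQ.1
    · exact h T hT
  exact ⟨hQT, fun α hα x hx => stronglyClosed_aut_mem hQ hTS hQT hα x hx⟩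

/-- Invariance of `Q` under a group of automorphisms of `P`, in the `Subgroup.map` form. -/
theorem map_subgroupOf_eq_of_forall_mem {P Q : Subgroup Ω} {A : Subgroup (MulAut P)}
    (h : ∀ α ∈ A, ∀ x : P, (x : Ω) ∈ Q → ((α x : P) : Ω) ∈ Q) {α : MulAut P} (hα : α ∈ A) :
    (Q.subgroupOf P).map α.toMonoidHom = Q.subgroupOf P := by
  ext y
  constructor
  · rintro ⟨x, hx, rfl⟩
    exact Subgroup.mem_subgroupOf.2 (h α hα x (Subgroup.mem_subgroupOf.1 hx))
  · intro hy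
    refine ⟨α⁻¹ y, Subgroup.mem_subgroupOf.2 (h α⁻¹ (A.inv_mem hα) y (Subgroup.mem_subgroupOf.1 hy)), ?_⟩
    show α (α⁻¹ y) = y
    simp

theorem mem_of_map_subgroupOf_eq {P Q : Subgroup Ω} {α : MulAut P}
    (h : (Q.subgroupOf P).map α.toMonoidHom = Q.subgroupOf P) (x : P) (hx : (x : Ω) ∈ Q) :
    ((α x : P) : Ω) ∈ Q := by
  have : α x ∈ (Q.subgroupOf P).map α.toMonoidHom := ⟨x, Subgroup.mem_subgroupOf.2 hx, rfl⟩
  rw [h] at this
  exact Subgroup.mem_subgroupOf.1 this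

end Cfsg.Agent.Lib.H25
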