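import Cfsg.Agent.Lib.H25.Alperin
import Cfsg.Agent.Lib.H25.SatEquiv
import Cfsg.Agent.Lib.H9.StronglyPEmbedded

set_option autoImplicit false

/-!
AKO Proposition I.3.3: the subgroup of `Aut_F(R)` generated by the extendable automorphisms of a
fully normalized proper subgroup `R`, and essential subgroups.
-/

namespace Cfsg.Agent.Lib.H25

open Cfsg Cfsg.FusionSystem

variable {Ω : Type*} [Group Ω] {S : Subgroup Ω}

/-- For a centric subgroup `R`, an element of `S` inducing an inner automorphism on `R` lies in `R`. -/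
theorem mem_of_centric_of_induces_inner {F : FusionSystem S} {R : Subgroup Ω} (hcen : F.IsCentric R)
    {g : Ω} (hg : g ∈ S) {β : MulAut R} (hβ : ∀ x : R, ((β x : R) : Ω) = g * (x : Ω) * g⁻¹)
    (hβI : β ∈ Inn R) : g ∈ R := by
  have hRS := hcen.1
  have hCR : centralizerIn S R ≤ R := hcen.2 R (isConj_refl F hRS)
  obtain ⟨r, hr⟩ := hβI
  have hc : (r : Ω)⁻¹ * g ∈ centralizerIn S R := by
    refine ⟨S.mul_mem (S.inv_mem (hRS r.2)) hg, ?_⟩
    show _ ∈ Subgroup.centralizer (R : Set Ω)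
    rw [Subgroup.mem_centralizer_iff]
    intro x hx
    have h1 := hβ ⟨x, hx⟩
    rw [← hr] at h1
    have h2 : (r : Ω) * x * (r : Ω)⁻¹ = g * x * g⁻¹ := h1
    have h3 : x * ((r : Ω)⁻¹ * g) = (r : Ω)⁻¹ * ((r : Ω) * x * (r : Ω)⁻¹) * g := by group
    rw [h3, h2]
    group
  have := R.mul_mem r.2 (hCR hc)
  simpa using this

/-- Data on `Out_F(R)` for a centric, fully automized, receptive, proper subgroup `R`: `p` divides
its order, and the image `T` of `Aut_S(R)` is a Sylow `p`-subgroup with `Γ_{T,1}` contained in the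
image of the subgroup generated by the extendable automorphisms. -/
theorem centric_out_data [Finite S] {p : ℕ} [Fact p.Prime] (hS : IsPGroup p S)
    {F : FusionSystem S} {R : Subgroup Ω} (hfa : F.IsFullyAutomized p R) (hrec : F.IsReceptive R)
    (hne : R ≠ S) (hcen : F.IsCentric R) [hI : ((Inn R).subgroupOf (F.autGroup R)).Normal] :
    p ∣ Nat.card (F.autGroup R ⧸ (Inn R).subgroupOf (F.autGroup R)) ∧
    ∃ T : Sylow p (F.autGroup R ⧸ (Inn R).subgroupOf (F.autGroup R)),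
      kGeneratedCore p 1 (T : Subgroup (F.autGroup R ⧸ (Inn R).subgroupOf (F.autGroup R))) ≤
        ((Subgroup.closure (extGens F R)).subgroupOf (F.autGroup R)).map
          (QuotientGroup.mk' ((Inn R).subgroupOf (F.autGroup R))) ∧
      ∀ y, y ∈ (T : Subgroup (F.autGroup R ⧸ (Inn R).subgroupOf (F.autGroup R))) ↔
        ∃ a : F.autGroup R, (a : MulAut R) ∈ autInducedBy S R ∧
          QuotientGroup.mk' ((Inn R).subgroupOf (F.autGroup R)) a = y := by
  have hRS := hrec.1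
  obtain ⟨g₀, hg₀N, hg₀R⟩ := exists_mem_normalizerIn_not_mem hS hRS hne
  set H := Subgroup.closure (extGens F R) with hH
  have hfinR : Finite R := finite_of_le S hRS
  obtain ⟨-, R₀, hR₀⟩ := hfa
  have hπ : Function.Surjective (QuotientGroup.mk' ((Inn R).subgroupOf (F.autGroup R))) :=
    QuotientGroup.mk'_surjective _
  -- the key sub-claim
  have sub : ∀ α β : F.autGroup R, (β : MulAut R) ∈ autInducedBy S R →
      (β : MulAut R) ∉ Inn R → ((α * β * α⁻¹ : F.autGroup R) : MulAut R) ∈ autInducedBy S R →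
      (α : MulAut R) ∈ extGens F R := by
    intro α β hβS hβI hαβ
    obtain ⟨g, hgS, hg⟩ := (mem_autInducedBy_iff S R _).1 hβS
    obtain ⟨h, hhS, hh⟩ := (mem_autInducedBy_iff S R _).1 hαβ
    have hgN : g ∈ Subgroup.normalizer (R : Set Ω) := mem_normalizer_of_induces hg
    have hgR : g ∉ R := by
      intro hgR
      apply hβI
      refine ⟨⟨g, hgR⟩, ?_⟩
      ext x
      exact (hg x).symm
    refine mem_extGens_of_extender hrec α.2 (g := g) ?_ hgR
    rw [mem_extender_iff]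
    refine ⟨hgS, hgN, h, hhS, fun x hx => ?_⟩
    have h1 := hh ((α : MulAut R) x)
    have h2 : ((α * β * α⁻¹ : F.autGroup R) : MulAut R) ((α : MulAut R) x) =
        (α : MulAut R) ((β : MulAut R) x) := by
      show (α : MulAut R) ((β : MulAut R) ((α : MulAut R)⁻¹ ((α : MulAut R) x))) = _
      simp
    rw [h2] at h1
    have h3 : (β : MulAut R) x = ⟨g * x * g⁻¹, hx⟩ := Subtype.ext (hg x)
    rw [h3] at h1
    exact h1
  -- Inn R ≤ Aut_S(R)
  have hInnS : Inn R ≤ autInducedBy S R := by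
    rintro _ ⟨r, rfl⟩
    rw [mem_autInducedBy_iff]
    exact ⟨r, hRS r.2, fun y => rfl⟩
  set I := (Inn R).subgroupOf (F.autGroup R) with hIdef
  set π := QuotientGroup.mk' I with hπdef
  have hπ1 : ∀ a : F.autGroup R, π a = 1 ↔ (a : MulAut R) ∈ Inn R := by
    intro a
    rw [hπdef, QuotientGroup.mk'_apply, QuotientGroup.eq_one_iff]
    exact Subgroup.mem_subgroupOf
  have hR₀mem : ∀ a : F.autGroup R, a ∈ (R₀ : Subgroup (F.autGroup R)) ↔
      (a : MulAut R) ∈ autInducedBy S R := by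
    intro a
    rw [hR₀]
    exact Subgroup.mem_subgroupOf
  let T : Sylow p (F.autGroup R ⧸ I) := R₀.mapSurjective hπ
  have hTmem : ∀ y : F.autGroup R ⧸ I, y ∈ (T : Subgroup (F.autGroup R ⧸ I)) ↔
      ∃ a : F.autGroup R, (a : MulAut R) ∈ autInducedBy S R ∧ π a = y := by
    intro y
    show y ∈ (R₀ : Subgroup (F.autGroup R)).map π ↔ _
    constructor
    · rintro ⟨a, ha, rfl⟩
      exact ⟨a, (hR₀mem a).1 ha, rfl⟩
    · rintro ⟨a, ha, rfl⟩
      exact ⟨a, (hR₀mem a).2 ha, rfl⟩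
  -- preimage of T is Aut_S(R)
  have hTpre : ∀ a : F.autGroup R, π a ∈ (T : Subgroup (F.autGroup R ⧸ I)) →
      (a : MulAut R) ∈ autInducedBy S R := by
    intro a ha
    obtain ⟨b, hb, hba⟩ := (hTmem _).1 ha
    have h1 : π (b⁻¹ * a) = 1 := by rw [map_mul, map_inv, hba, inv_mul_cancel]
    have h2 : ((b⁻¹ * a : F.autGroup R) : MulAut R) ∈ Inn R := (hπ1 _).1 h1
    have h3 : (a : MulAut R) = (b : MulAut R) * ((b⁻¹ * a : F.autGroup R) : MulAut R) := by
      show (a : MulAut R) = (b : MulAut R) * ((b : MulAut R)⁻¹ * (a : MulAut R))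
      group
    rw [h3]
    exact Subgroup.mul_mem _ hb (hInnS h2)
  refine ⟨?_, T, ?_, hTmem⟩
  · -- p divides the order of Out_F(R)
    obtain ⟨β₀, hβ₀A, hβ₀⟩ := exists_mem_autGroup_of_isIso F (isIso_conj_normalizer F hRS hg₀N)
    have hβ₀S : β₀ ∈ autInducedBy S R := by
      rw [mem_autInducedBy_iff]
      exact ⟨g₀, hg₀N.1, hβ₀⟩
    have hβ₀I : β₀ ∉ Inn R := fun h =>
      hg₀R (mem_of_centric_of_induces_inner hcen hg₀N.1 hβ₀ h)
    have hT1 : π ⟨β₀, hβ₀A⟩ ∈ (T : Subgroup (F.autGroup R ⧸ I)) :=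
      (hTmem _).2 ⟨⟨β₀, hβ₀A⟩, hβ₀S, rfl⟩
    have hTne : π ⟨β₀, hβ₀A⟩ ≠ 1 := fun h => hβ₀I ((hπ1 _).1 h)
    have hTnt : Nontrivial (T : Subgroup (F.autGroup R ⧸ I)) :=
      ⟨⟨⟨_, hT1⟩, 1, fun h => hTne (congrArg Subtype.val h)⟩⟩
    rcases T.isPGroup'.card_eq_or_dvd with h | h
    · exfalso
      have : 1 < Nat.card (T : Subgroup (F.autGroup R ⧸ I)) := Finite.one_lt_card
      omega
    · exact h.trans (Subgroup.card_subgroup_dvd_card _)
  · -- Γ_{T,1} ≤ Ebar
    apply iSup_le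
    rintro ⟨D, hDT, hDrank⟩ abar habar
    have hDne : D ≠ ⊥ := fun h => hDrank (pRankLE_zero_of_eq_bot h)
    obtain ⟨d, hdD, hd1⟩ := (Subgroup.bot_or_exists_ne_one D).resolve_left hDne
    obtain ⟨β, hβS, hβd⟩ := (hTmem d).1 (hDT hdD)
    have hβI : (β : MulAut R) ∉ Inn R := by
      intro h
      apply hd1
      rw [← hβd]
      exact (hπ1 β).2 h
    obtain ⟨α, rfl⟩ := hπ abar
    have hconj : π α * d * (π α)⁻¹ ∈ D :=
      (Subgroup.mem_normalizer_iff.1 habar d).1 hdD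
    have h1 : π (α * β * α⁻¹) ∈ (T : Subgroup (F.autGroup R ⧸ I)) := by
      rw [map_mul, map_mul, map_inv, hβd]
      exact hDT hconj
    have h2 := hTpre _ h1
    have h3 := sub α β hβS hβI h2
    exact ⟨α, Subgroup.mem_subgroupOf.2 (Subgroup.subset_closure h3), rfl⟩

/-- The image in `Out_F(R)` of the group generated by the extendable automorphisms of a centric
subgroup `R` lies in every strongly `p`-embedded subgroup containing the image of `Aut_S(R)`. -/
theorem extGens_image_le_of_stronglyPEmbedded [Finite S] {p : ℕ} [Fact p.Prime] (hS : IsPGroup p S)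
    {F : FusionSystem S} {R : Subgroup Ω} (hcen : F.IsCentric R)
    [hI : ((Inn R).subgroupOf (F.autGroup R)).Normal]
    (X : Subgroup (F.autGroup R ⧸ (Inn R).subgroupOf (F.autGroup R)))
    (hX : IsStronglyPEmbedded p X)
    (hTX : ∀ a : F.autGroup R, (a : MulAut R) ∈ autInducedBy S R →
      QuotientGroup.mk' ((Inn R).subgroupOf (F.autGroup R)) a ∈ X) :
    ((Subgroup.closure (extGens F R)).subgroupOf (F.autGroup R)).map
      (QuotientGroup.mk' ((Inn R).subgroupOf (F.autGroup R))) ≤ X := by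
  have hRS := hcen.1
  have hfinR : Finite R := finite_of_le S hRS
  set I := (Inn R).subgroupOf (F.autGroup R) with hIdef
  set π := QuotientGroup.mk' I with hπdef
  have hπ1 : ∀ a : F.autGroup R, π a = 1 ↔ (a : MulAut R) ∈ Inn R := by
    intro a
    rw [hπdef, QuotientGroup.mk'_apply, QuotientGroup.eq_one_iff]
    exact Subgroup.mem_subgroupOf
  have hgen : Subgroup.closure (extGens F R) ≤ (X.comap π).map (F.autGroup R).subtype := by
    rw [Subgroup.closure_le]
    rintro α ⟨Q, hRQ, φ, hφ, hφα⟩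
    have hαA : α ∈ F.autGroup R := extGens_subset_autGroup F R ⟨Q, hRQ, φ, hφ, hφα⟩
    refine ⟨⟨α, hαA⟩, ?_, rfl⟩
    show π ⟨α, hαA⟩ ∈ X
    have hQS : Q ≤ S := hom_le F hφ
    have hfinQ : Finite Q := finite_of_le S hQS
    have hQp : IsPGroup p Q := hS.to_le hQS
    obtain ⟨g, hgN, hgR⟩ := exists_mem_normalizerIn_not_mem hQp hRQ.le hRQ.ne
    have hgQ : g ∈ Q := hgN.1
    have hgS : g ∈ S := hQS hgQ
    have hgNS : g ∈ normalizerIn S R := ⟨hgS, hgN.2⟩
    obtain ⟨β, hβA, hβg⟩ := exists_mem_autGroup_of_isIso F (isIso_conj_normalizer F hRS hgNS)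
    have hβS : β ∈ autInducedBy S R := (mem_autInducedBy_iff S R β).2 ⟨g, hgS, hβg⟩
    have hβI : β ∉ Inn R := fun h => hgR (mem_of_centric_of_induces_inner hcen hgS hβg h)
    set d := π ⟨β, hβA⟩ with hd
    have hdX : d ∈ X := hTX ⟨β, hβA⟩ hβS
    have hd1 : d ≠ 1 := fun h => hβI ((hπ1 _).1 h)
    -- `d` has `p`-power order
    obtain ⟨k, hk⟩ := autInducedBy_isPGroup hS R ⟨β, hβS⟩
    have hβk : β ^ (p ^ k) = 1 := by
      have := congrArg Subtype.val hk
      simpa using this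
    have hdk : d ^ (p ^ k) = 1 := by
      rw [hd, ← map_pow]
      have : (⟨β, hβA⟩ : F.autGroup R) ^ (p ^ k) = 1 := Subtype.ext (by simpa using hβk)
      rw [this, map_one]
    have hDp : IsPGroup p (Subgroup.zpowers d) := by
      rintro ⟨y, hy⟩
      obtain ⟨z, rfl⟩ := Subgroup.mem_zpowers_iff.1 hy
      refine ⟨k, Subtype.ext ?_⟩
      show (d ^ z) ^ (p ^ k) = 1
      rw [← zpow_natCast, ← zpow_mul, mul_comm, zpow_mul, zpow_natCast, hdk, one_zpow]
    have hDne : Subgroup.zpowers d ≠ ⊥ := by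
      intro h
      exact hd1 (Subgroup.zpowers_eq_bot.1 h)
    have hDX : Subgroup.zpowers d ≤ X := Subgroup.zpowers_le.2 hdX
    -- the conjugate of `β` by `α` is induced by `φ g`
    have hconjS : (α * β * α⁻¹ : MulAut R) ∈ autInducedBy S R := by
      rw [mem_autInducedBy_iff]
      refine ⟨φ ⟨g, hgQ⟩, hom_mem_S F hφ _, fun x => ?_⟩
      show ((α (β (α⁻¹ x)) : R) : Ω) = _
      set y := α⁻¹ x with hy
      have h1 : ((α (β y) : R) : Ω) = φ (Subgroup.inclusion hRQ.le (β y)) := (hφα (β y)).symm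
      have h2 : Subgroup.inclusion hRQ.le (β y) =
          (⟨g, hgQ⟩ : Q) * Subgroup.inclusion hRQ.le y * (⟨g, hgQ⟩ : Q)⁻¹ := by
        apply Subtype.ext
        show ((β y : R) : Ω) = g * (y : Ω) * g⁻¹
        exact hβg y
      have h3 : φ (Subgroup.inclusion hRQ.le y) = (x : Ω) := by
        rw [hφα y, hy]
        show ((α (α⁻¹ x) : R) : Ω) = x
        simp
      rw [h1, h2, map_mul, map_mul, map_inv, h3]
    have hc : π ⟨α, hαA⟩ * d * (π ⟨α, hαA⟩)⁻¹ ∈ X := by
      have h1 : π ⟨α, hαA⟩ * d * (π ⟨α, hαA⟩)⁻¹ = π (⟨α, hαA⟩ * ⟨β, hβA⟩ * ⟨α, hαA⟩⁻¹) := by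
        rw [map_mul, map_mul, map_inv]
      rw [h1]
      exact hTX _ hconjS
    refine Cfsg.Agent.Lib.H9.stronglyPEmbedded_mem_of_conj_le hX (Subgroup.zpowers d) hDp hDne hDX
      (π ⟨α, hαA⟩) ?_
    rw [Subgroup.map_le_iff_le_comap, Subgroup.zpowers_le]
    exact hc
  rintro _ ⟨a, ha, rfl⟩
  have ha' : (a : MulAut R) ∈ Subgroup.closure (extGens F R) := Subgroup.mem_subgroupOf.1 ha
  obtain ⟨b, hb, hba⟩ := hgen ha'
  have : b = a := Subtype.ext hba
  rw [← this]
  exact hb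

/-- AKO Proposition I.3.3, second half: for an essential subgroup `R`, the image in `Out_F(R)` of the
subgroup generated by the extendable automorphisms is strongly `p`-embedded. -/
theorem stronglyPEmbedded_extGens [Finite S] {p : ℕ} [Fact p.Prime] (hS : IsPGroup p S)
    {F : FusionSystem S} (hF : F.IsSaturated p) {R : Subgroup Ω} (hne : R ≠ S)
    (hess : F.IsEssential p R) [hI : ((Inn R).subgroupOf (F.autGroup R)).Normal] :
    IsStronglyPEmbedded p (((Subgroup.closure (extGens F R)).subgroupOf (F.autGroup R)).map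
      (QuotientGroup.mk' ((Inn R).subgroupOf (F.autGroup R)))) := by
  have hcen := hess.1
  have hfn := hess.2.1
  have hRS := hcen.1
  have hfinR : Finite R := finite_of_le S hRS
  obtain ⟨hfc, hfa⟩ := fullyNormalized_props hS hF hfn
  have hrec := isReceptive_of_fullyCentralized hS hF hfc
  obtain ⟨hp, T, hΓ, hTmem⟩ := centric_out_data hS hfa hrec hne hcen
  obtain ⟨_, M, hM⟩ := hess.2.2
  obtain ⟨PM, -, hPM, -⟩ := Cfsg.Agent.Lib.H9.stronglyPEmbedded_sylow hM
  obtain ⟨c, hc⟩ := MulAction.exists_smul_eq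
    (F.autGroup R ⧸ (Inn R).subgroupOf (F.autGroup R)) PM T
  have hX := Cfsg.Agent.Lib.H9.stronglyPEmbedded_conj hM c
  have hTX : (T : Subgroup _) ≤ M.map (MulAut.conj c).toMonoidHom := by
    intro y hy
    rw [Cfsg.Agent.Lib.H5.mem_map_conj_iff]
    have hy' : y ∈ (c • PM : Sylow p _) := by rw [hc]; exact hy
    exact hPM ((Cfsg.Agent.Lib.H5.sylow_mem_smul_iff c PM y).1 hy')
  have hle := extGens_image_le_of_stronglyPEmbedded hS hcen _ hX
    (fun a ha => hTX ((hTmem _).2 ⟨a, ha, rfl⟩))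
  refine ⟨hp, ?_, T, hΓ⟩
  intro htop
  apply hX.2.1
  rw [eq_top_iff, ← htop]
  exact hle

end Cfsg.Agent.Lib.H25
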