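import Cfsg.Agent.Lib.H25.Normal
import Cfsg.Agent.Lib.H10.PResidual

set_option autoImplicit false

/-!
Subsystems cut out by a predicate, strong closure through the Alperin--Goldschmidt theorem,
and the hyperfocal subgroup.
-/

namespace Cfsg.Agent.Lib.H25

open Cfsg Cfsg.FusionSystem
open scoped commutatorElement

variable {Ω : Type*} [Group Ω] {S : Subgroup Ω}

/-- The subsystem of `F` cut out by a predicate on maps that holds for conjugations by elements of `S`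
and is stable under composition and inverses. -/
def subSys (F : FusionSystem S) (Pr : ∀ P : Subgroup Ω, (P →* Ω) → Prop)
    (hconj : ∀ (P : Subgroup Ω) (g : Ω), P ≤ S → g ∈ S → Pr P (conjHom P g))
    (hcomp : ∀ (P Q : Subgroup Ω) (φ : P →* Ω) (ψ : Q →* Ω) (h : ∀ x : P, φ x ∈ Q),
      φ ∈ F.Hom P → ψ ∈ F.Hom Q → Pr P φ → Pr Q ψ → Pr P (ψ.comp (φ.codRestrict Q h)))
    (hinv : ∀ (P : Subgroup Ω) (φ : P →* Ω) (ψ : φ.range →* Ω), φ ∈ F.Hom P → ψ ∈ F.Hom φ.range →
      (∀ x : P, ψ ⟨φ x, ⟨x, rfl⟩⟩ = (x : Ω)) → Pr P φ → Pr φ.range ψ) : FusionSystem S where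
  Hom P := {φ | φ ∈ F.Hom P ∧ Pr P φ}
  le_of_mem h := F.le_of_mem h.1
  injective_of_mem h := F.injective_of_mem h.1
  conj_mem hP hg := ⟨F.conj_mem hP hg, hconj _ _ hP hg⟩
  comp_mem hφ hψ h := ⟨F.comp_mem hφ.1 hψ.1 h, hcomp _ _ _ _ h hφ.1 hψ.1 hφ.2 hψ.2⟩
  inv_mem := by
    intro P φ hφ
    obtain ⟨ψ, hψ, hψφ⟩ := F.inv_mem hφ.1
    exact ⟨ψ, ⟨hψ, hinv P φ ψ hφ.1 hψ hψφ hφ.2⟩, hψφ⟩

theorem mem_subSys_hom_iff (F : FusionSystem S) (Pr : ∀ P : Subgroup Ω, (P →* Ω) → Prop)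
    (hconj) (hcomp) (hinv) (P : Subgroup Ω) (φ : P →* Ω) :
    φ ∈ (subSys F Pr hconj hcomp hinv).Hom P ↔ φ ∈ F.Hom P ∧ Pr P φ := Iff.rfl

/-- Alperin's theorem for a predicate: a predicate on the maps of a saturated system which holds for
conjugations by `S` and for the automorphisms in the system of `S` and of the essential subgroups, and is
stable under composition and inverses, holds for all maps of the system. -/
theorem alperin_pred [Finite S] {p : ℕ} [Fact p.Prime] (hS : IsPGroup p S) (F : FusionSystem S)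
    (hF : F.IsSaturated p) (Pr : ∀ P : Subgroup Ω, (P →* Ω) → Prop)
    (hconj : ∀ (P : Subgroup Ω) (g : Ω), P ≤ S → g ∈ S → Pr P (conjHom P g))
    (hcomp : ∀ (P Q : Subgroup Ω) (φ : P →* Ω) (ψ : Q →* Ω) (h : ∀ x : P, φ x ∈ Q),
      φ ∈ F.Hom P → ψ ∈ F.Hom Q → Pr P φ → Pr Q ψ → Pr P (ψ.comp (φ.codRestrict Q h)))
    (hinv : ∀ (P : Subgroup Ω) (φ : P →* Ω) (ψ : φ.range →* Ω), φ ∈ F.Hom P → ψ ∈ F.Hom φ.range →
      (∀ x : P, ψ ⟨φ x, ⟨x, rfl⟩⟩ = (x : Ω)) → Pr P φ → Pr φ.range ψ)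
    (hess : ∀ T : Subgroup Ω, (T = S ∨ F.IsEssential p T) → ∀ α ∈ F.autGroup T,
      Pr T (T.subtype.comp α.toMonoidHom)) :
    ∀ (P : Subgroup Ω) (φ : P →* Ω), φ ∈ F.Hom P → Pr P φ := by
  have hE : ∀ T : Subgroup Ω, (T = S ∨ F.IsEssential p T) →
      F.autGroup T ≤ (subSys F Pr hconj hcomp hinv).autGroup T := by
    intro T hT α hα
    have hTS : T ≤ S := le_of_eq_or_essential hT
    rw [mem_autGroup_iff _ hTS]
    exact ⟨(mem_autGroup_iff F hTS α).1 hα, hess T hT α hα⟩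
  intro P φ hφ
  exact (alperin hS F hF _ hE P hφ).2

/-- Strong closure can be checked on `S` and the essential subgroups. -/
theorem stronglyClosed_of_essential [Finite S] {p : ℕ} [Fact p.Prime] (hS : IsPGroup p S)
    {F : FusionSystem S} (hF : F.IsSaturated p) {Q : Subgroup Ω} (hQS : Q ≤ S)
    (h : ∀ T : Subgroup Ω, (T = S ∨ F.IsEssential p T) → ∀ α ∈ F.autGroup T, ∀ x : T,
      (x : Ω) ∈ Q → ((α x : T) : Ω) ∈ Q) : F.StronglyClosed Q := by
  have hconj : ∀ g ∈ S, ∀ x ∈ S, x ∈ Q → g * x * g⁻¹ ∈ Q := by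
    intro g hg x hxS hx
    obtain ⟨α, hα, hαg⟩ := exists_conj_mem_autGroup_top F hg
    have := h S (Or.inl rfl) α hα ⟨x, hxS⟩ hx
    rwa [hαg] at this
  have key := alperin_pred hS F hF (fun P φ => ∀ x : P, (x : Ω) ∈ Q ↔ φ x ∈ Q) ?_ ?_ ?_ ?_
  · exact ⟨hQS, fun R hRQ φ hφ x => (key R φ hφ x).1 (hRQ x.2)⟩
  · intro P g hP hg x
    rw [conjHom_apply]
    refine ⟨fun hx => hconj g hg _ (hP x.2) hx, fun hx => ?_⟩
    have hgx : g * (x : Ω) * g⁻¹ ∈ S := S.mul_mem (S.mul_mem hg (hP x.2)) (S.inv_mem hg)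
    have := hconj g⁻¹ (S.inv_mem hg) _ hgx hx
    simpa [mul_assoc] using this
  · intro P R φ ψ hPR _ _ hφ hψ x
    rw [hφ x]
    exact hψ ⟨φ x, hPR x⟩
  · intro P φ ψ _ _ hψφ hφ y
    obtain ⟨y, x, rfl⟩ := y
    rw [hψφ x]
    exact (hφ x).symm
  · intro T hT α hα x
    refine ⟨fun hx => h T hT α hα x hx, fun hx => ?_⟩
    have := h T hT α⁻¹ (Subgroup.inv_mem _ hα) (α x) hx
    simpa using this

/-- `S` itself is fully normalized. -/
theorem isFullyNormalized_self [Finite S] (F : FusionSystem S) : F.IsFullyNormalized S := by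
  refine ⟨le_rfl, fun Q _ => ?_⟩
  have h1 : normalizerIn S Q ≤ S := inf_le_left
  have h2 : normalizerIn S S = S := inf_eq_left.2 Subgroup.le_normalizer
  rw [h2]
  exact Subgroup.card_le_of_le h1

theorem isFullyNormalized_of_eq_or_essential [Finite S] {F : FusionSystem S} {p : ℕ}
    {T : Subgroup Ω} (hT : T = S ∨ F.IsEssential p T) : F.IsFullyNormalized T := by
  rcases hT with rfl | hT
  · exact isFullyNormalized_self F
  · exact hT.2.1

/-- The image of `O^p` under a homomorphism lies in `O^p`. -/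
theorem map_pResidual_le_hom {p : ℕ} {G G' : Type*} [Group G] [Group G'] (f : G →* G') :
    (pResidual p G).map f ≤ pResidual p G' := by
  unfold pResidual
  rw [MonoidHom.map_closure]
  apply Subgroup.closure_mono
  rintro _ ⟨g, hg, rfl⟩
  exact Nat.Coprime.coprime_dvd_left (orderOf_map_dvd f g) hg

/-- For a fully automized subgroup `T`: every element of `Aut_F(T)` is an element of `O^p(Aut_F(T))`
followed by conjugation by an element of `N_S(T)`. -/
theorem exists_conj_mul_pResidual [Finite S] {p : ℕ} [Fact p.Prime] {F : FusionSystem S}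
    {T : Subgroup Ω} (hfa : F.IsFullyAutomized p T) (α : F.autGroup T) :
    ∃ g ∈ normalizerIn S T, ∃ u : F.autGroup T, u ∈ pResidual p (F.autGroup T) ∧
      ∀ x : T, (((α : MulAut T) x : T) : Ω) = g * (((u : MulAut T) x : T) : Ω) * g⁻¹ := by
  obtain ⟨hTS, R, hR⟩ := hfa
  have : Finite T := finite_of_le S hTS
  obtain ⟨s, hs, u, hu, hsu⟩ :=
    Cfsg.Agent.Lib.H10.exists_mul_of_sylow_pResidual p (R : Subgroup (F.autGroup T)) R.not_dvd_index α
  rw [hR, Subgroup.mem_subgroupOf] at hs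
  obtain ⟨g, hgS, hg⟩ := (mem_autInducedBy_iff S T _).1 hs
  refine ⟨g, ⟨hgS, mem_normalizer_of_induces hg⟩, u, hu, fun x => ?_⟩
  rw [hsu]
  show (((s : MulAut T) ((u : MulAut T) x) : T) : Ω) = _
  rw [hg]

/-! ### The hyperfocal subgroup -/

theorem mem_hyperfocal_gen (F : FusionSystem S) (p : ℕ) {P : Subgroup Ω} (hP : P ≤ S)
    (α : F.autGroup P) (hα : α ∈ pResidual p (F.autGroup P)) (x : P) :
    (x : Ω)⁻¹ * (((α : MulAut P) x : P) : Ω) ∈ F.hyperfocalSubgroup p :=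
  Subgroup.subset_closure ⟨P, α, x, hP, hα, rfl⟩

theorem hyperfocal_le (F : FusionSystem S) (p : ℕ) : F.hyperfocalSubgroup p ≤ S := by
  unfold hyperfocalSubgroup
  rw [Subgroup.closure_le]
  rintro _ ⟨P, α, x, hP, -, rfl⟩
  exact S.mul_mem (S.inv_mem (hP x.2)) (hP ((α : MulAut P) x).2)

/-- Transport of `O^p(Aut_F(P))` along an isomorphism of the system. -/
theorem congr_mem_pResidual {F : FusionSystem S} {p : ℕ} {P Q : Subgroup Ω} {f : Ω → Ω}
    (h : IsIso F P Q f) (e : P ≃* Q) (he : ∀ x : P, ((e x : Q) : Ω) = f x) (α : F.autGroup P)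
    (hα : α ∈ pResidual p (F.autGroup P)) :
    (⟨MulAut.congr e α, congr_mem_autGroup h e he α.2⟩ : F.autGroup Q) ∈
      pResidual p (F.autGroup Q) := by
  let τ : F.autGroup P →* F.autGroup Q :=
    ((MulAut.congr e).toMonoidHom.comp (F.autGroup P).subtype).codRestrict (F.autGroup Q)
      (fun a => congr_mem_autGroup h e he a.2)
  have := map_pResidual_le_hom (p := p) τ ⟨α, hα, rfl⟩
  exact this

/-- The hyperfocal subgroup is normalized by `S`. -/
theorem hyperfocal_conj_mem (F : FusionSystem S) (p : ℕ) {g : Ω} (hg : g ∈ S) {y : Ω}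
    (hy : y ∈ F.hyperfocalSubgroup p) : g * y * g⁻¹ ∈ F.hyperfocalSubgroup p := by
  have hy' := hy
  unfold hyperfocalSubgroup at hy'
  refine Subgroup.closure_induction (p := fun y _ => g * y * g⁻¹ ∈ F.hyperfocalSubgroup p)
    ?_ ?_ ?_ ?_ hy'
  · rintro y0 ⟨P, α, x, hP, hα, rfl⟩
    have hiso := IsIso.conj (F := F) hP hg
    set e := hiso.toMulEquiv with he_def
    have he : ∀ z : P, ((e z : _) : Ω) = g * (z : Ω) * g⁻¹ := fun z => hiso.toMulEquiv_apply z
    have hα' := congr_mem_pResidual hiso e he α hα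
    have hmem := mem_hyperfocal_gen F p hiso.le_right _ hα' (e x)
    have hval : ((e x : _) : Ω)⁻¹ * ((((MulAut.congr e (α : MulAut P)) (e x)) : _) : Ω) =
        g * ((x : Ω)⁻¹ * (((α : MulAut P) x : P) : Ω)) * g⁻¹ := by
      have h1 : (MulAut.congr e (α : MulAut P)) (e x) = e ((α : MulAut P) x) := by
        show e ((α : MulAut P) (e.symm (e x))) = e ((α : MulAut P) x)
        rw [e.symm_apply_apply]
      rw [h1, he, he]
      group
    rw [← hval]
    exact hmem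
  · have : g * 1 * g⁻¹ = 1 := by group
    rw [this]; exact Subgroup.one_mem _
  · intro a b _ _ iha ihb
    have : g * (a * b) * g⁻¹ = (g * a * g⁻¹) * (g * b * g⁻¹) := by group
    rw [this]
    exact Subgroup.mul_mem _ iha ihb
  · intro a _ iha
    have : g * a⁻¹ * g⁻¹ = (g * a * g⁻¹)⁻¹ := by group
    rw [this]
    exact Subgroup.inv_mem _ iha

end Cfsg.Agent.Lib.H25
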