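import Mathlib
import Cfsg.Agent.Lib.H19.S3797Defs

/-!
# S3797, the MAIN LEMMA (`MLStmt` of helper19's cut): the sub-cut (helper25, sub-architect)

Paper proof: board #9612 (MAIN LEMMA), with the shorter ending (M4) of the sub-architect's board post.
Abstract additive setting: `U`, `V` finite additive groups of exponent 2, `κ : U → V` an anisotropic
quadratic map (`pol κ` its polar form), a family `eU i`, `eV i` (`i : ι`) of compatible bijections
transitive on `V ∖ 0`, and a set `T` of commuting `κ`-preserving additive involutions of `U`, normalised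
by the family.  `CoreStmt`: `T` has at most one element which is not the identity.

All pieces are `Prop`-valued `def`s; a piece is a theorem `x : XStmt.{u}`.  Assembly: `S3797MLAsm.lean`.
-/

set_option autoImplicit false

namespace Cfsg.Agent.Lib.H25.S3797ML

universe u

/-- the polar form of `κ` (characteristic 2) -/
def pol {U V : Type u} [AddCommGroup U] [AddCommGroup V] (κ : U → V) (a w : U) : V :=
  κ (a + w) + κ a + κ w

/-- `κ` is an anisotropic quadratic map between additive groups of exponent 2 -/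
structure Quad {U V : Type u} [AddCommGroup U] [AddCommGroup V] (κ : U → V) : Prop where
  U2 : ∀ a : U, a + a = 0
  V2 : ∀ v : V, v + v = 0
  zero : κ 0 = 0
  cubic : ∀ a b c : U, κ (a + b + c) + κ a + κ b + κ c = κ (a + b) + κ (a + c) + κ (b + c)
  aniso : ∀ a : U, κ a = 0 → a = 0

/-- a family of compatible additive bijections of `U` and `V`, transitive on `V ∖ 0` -/
structure EAct {U V : Type u} [AddCommGroup U] [AddCommGroup V] (κ : U → V) (ι : Type u)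
    (eU : ι → U → U) (eV : ι → V → V) : Prop where
  addU : ∀ i a b, eU i (a + b) = eU i a + eU i b
  bijU : ∀ i, Function.Bijective (eU i)
  addV : ∀ i v w, eV i (v + w) = eV i v + eV i w
  bijV : ∀ i, Function.Bijective (eV i)
  equiv : ∀ i a, κ (eU i a) = eV i (κ a)
  trans : ∀ v w : V, v ≠ 0 → w ≠ 0 → ∃ i, eV i v = w

/-- a set of pairwise commuting `κ`-preserving additive involutions of `U`, normalised by the family -/
structure TAct {U V : Type u} [AddCommGroup U] [AddCommGroup V] (κ : U → V) (ι : Type u)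
    (eU : ι → U → U) (T : Set (U → U)) : Prop where
  add : ∀ g ∈ T, ∀ a b, g (a + b) = g a + g b
  invol : ∀ g ∈ T, ∀ a, g (g a) = a
  comm : ∀ g ∈ T, ∀ h ∈ T, ∀ a, g (h a) = h (g a)
  pres : ∀ g ∈ T, ∀ a, κ (g a) = κ a
  norm : ∀ i, ∀ g ∈ T, ∃ h ∈ T, ∀ a, h (eU i a) = eU i (g a)

/-- `M = [U, T]`: the additive subgroup generated by all `a + g a` -/
def Mset {U : Type u} [AddCommGroup U] (T : Set (U → U)) : AddSubgroup U :=
  AddSubgroup.closure {x | ∃ g ∈ T, ∃ a, x = a + g a}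

/-- `l ∘ pol κ` is nondegenerate for every nonzero `l : V →+ ZMod 2` -/
def Nondeg {U V : Type u} [AddCommGroup U] [AddCommGroup V] (κ : U → V) : Prop :=
  ∀ l : V →+ ZMod 2, l ≠ 0 → ∀ a : U, (∀ w, l (pol κ a w) = 0) → a = 0

/-- **(CORE)** the abstract main lemma. -/
def CoreStmt : Prop :=
  ∀ (U V : Type u) [AddCommGroup U] [AddCommGroup V] [Finite U] [Finite V] (κ : U → V) (ι : Type u)
    (eU : ι → U → U) (eV : ι → V → V) (T : Set (U → U)),
    Quad κ → EAct κ ι eU eV → TAct κ ι eU T →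
    ∀ g ∈ T, ∀ h ∈ T, (∃ a, g a ≠ a) → (∃ a, h a ≠ a) → ∀ a, g a = h a

/-- **(M1A)** the character-sum identity for ONE quadratic form `f : U → ZMod 2` with radical
`R = {t | ∀ w, f (t + w) + f t + f w = 0}`: with `Z = #f⁻¹(0)`, `O = #f⁻¹(1)`:
`(Z - O)² ∈ {0, |U|·|R|}`.  [`s = Σ_a (-1)^(f a) = Z - O`, `s² = Σ_t (-1)^(f t) Σ_a (-1)^(b(a,t)) =
|U| Σ_{t ∈ R} (-1)^(f t)` and `f` is additive on `R`.] -/
def M1AStmt : Prop :=
  ∀ (U : Type u) [AddCommGroup U] [Finite U] (f : U → ZMod 2), (∀ a : U, a + a = 0) → f 0 = 0 →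
    (∀ a b c : U, f (a + b + c) + f a + f b + f c = f (a + b) + f (a + c) + f (b + c)) →
    (((Nat.card {a : U // f a = 0} : ℤ) - (Nat.card {a : U // f a = 1} : ℤ)) ^ 2 = 0 ∨
     ((Nat.card {a : U // f a = 0} : ℤ) - (Nat.card {a : U // f a = 1} : ℤ)) ^ 2 =
        (Nat.card U : ℤ) * (Nat.card {t : U // ∀ w, f (t + w) + f t + f w = 0} : ℤ))

/-- **(M1C)** the arithmetic: `2^u = 1 + (2^n - 1) N` and `(N - 1)² ∈ {0, 2^(u+ρ)}` force
`u ∈ {0, n, 2n}`, and `ρ = 0` when `u = 2n`, `n ≥ 1`. -/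
def M1CStmt : Prop :=
  ∀ n u ρ N : ℕ, 2 ^ u = 1 + (2 ^ n - 1) * N →
    (((N : ℤ) - 1) ^ 2 = 0 ∨ ((N : ℤ) - 1) ^ 2 = 2 ^ (u + ρ)) →
    u = 0 ∨ u = n ∨ (u = 2 * n ∧ (1 ≤ n → ρ = 0))

/-- **(M1)** the count: `|U| ∈ {1, |V|, |V|²}`, and in the last case every `l ∘ pol κ` (`l ≠ 0`) is
nondegenerate.  [`N_v = #κ⁻¹(v)` is constant `= N` on `V ∖ 0`, `|U| = 1 + (|V| - 1) N`; for `l ≠ 0`,
`f = l ∘ κ` has `Z - O = 1 - N`; M1A + M1C.] -/
def M1Stmt : Prop :=
  ∀ (U V : Type u) [AddCommGroup U] [AddCommGroup V] [Finite U] [Finite V] (κ : U → V) (ι : Type u)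
    (eU : ι → U → U) (eV : ι → V → V), Quad κ → EAct κ ι eU eV →
    Nat.card U = 1 ∨ Nat.card U = Nat.card V ∨ (Nat.card U = Nat.card V ^ 2 ∧ Nondeg κ)

/-- **(M1B)** `M1` from `M1A` and `M1C`. -/
def M1BStmt : Prop := M1AStmt.{u} → M1CStmt → M1Stmt.{u}

/-- **(M2)** `M = [U,T]` is fixed pointwise by `T`, is `pol κ`-isotropic, and `κ` maps it ONTO `V`
(if `T` has a non-identity element).  [`γ_g(a) = κ (a + g a)` is additive with kernel `C_U(g)`;
`κ` is additive and injective on `[U,g]`; `h ∈ T` fixes `[U,g]` pointwise; `[U,g] ⊥ C_U(T)`;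
`κ(M)` is a nonzero subgroup of `V` invariant under the family.] -/
def M2Stmt : Prop :=
  ∀ (U V : Type u) [AddCommGroup U] [AddCommGroup V] [Finite U] [Finite V] (κ : U → V) (ι : Type u)
    (eU : ι → U → U) (eV : ι → V → V) (T : Set (U → U)),
    Quad κ → EAct κ ι eU eV → TAct κ ι eU T →
    (∀ m ∈ Mset T, ∀ g ∈ T, g m = m) ∧ (∀ m ∈ Mset T, ∀ m' ∈ Mset T, pol κ m m' = 0) ∧
    ((∃ g ∈ T, ∃ a, g a ≠ a) → ∀ v : V, ∃ m ∈ Mset T, κ m = v)

/-- **(M3)** for `0 ≠ a ∈ M` (isotropic, `|M| = |V|`, `|U| = |V|²`, `Nondeg`): the kernel of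
`pol κ a` is `M`.  [the image of `pol κ a` is all of `V`, else some `l ≠ 0` kills it and `a` is in the
radical of `l ∘ pol κ`; so the kernel has `|V| = |M|` elements and contains `M`.] -/
def M3Stmt : Prop :=
  ∀ (U V : Type u) [AddCommGroup U] [AddCommGroup V] [Finite U] [Finite V] (κ : U → V)
    (M : AddSubgroup U), Quad κ → Nondeg κ → (∀ m ∈ M, ∀ m' ∈ M, pol κ m m' = 0) →
    Nat.card M = Nat.card V → Nat.card U = Nat.card V ^ 2 →
    ∀ a ∈ M, a ≠ 0 → ∀ w : U, pol κ a w = 0 → w ∈ M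

/-- **(M4)** the ending (no family needed): `θ_g(a) = a + g a ∈ F(a) = {m ∈ M | pol κ m a = κ m}`;
by the kernel property a nonzero `m ∈ M` lies in `F(a)` for at most one coset `a + M`; so for
`g ≠ id` the additive map `θ_g : U → M` has kernel exactly `M`, is onto `M` (`|U| = |M|²`), and any two
such maps coincide. -/
def M4Stmt : Prop :=
  ∀ (U V : Type u) [AddCommGroup U] [AddCommGroup V] [Finite U] [Finite V] (κ : U → V)
    (M : AddSubgroup U) (T : Set (U → U)), Quad κ →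
    (∀ g ∈ T, ∀ a b, g (a + b) = g a + g b) → (∀ g ∈ T, ∀ a, g (g a) = a) →
    (∀ g ∈ T, ∀ a, κ (g a) = κ a) → (∀ g ∈ T, ∀ a, a + g a ∈ M) → (∀ m ∈ M, ∀ g ∈ T, g m = m) →
    (∀ a ∈ M, a ≠ 0 → ∀ w : U, pol κ a w = 0 → w ∈ M) → Nat.card U = Nat.card M * Nat.card M →
    ∀ g ∈ T, ∀ h ∈ T, (∃ a, g a ≠ a) → (∃ a, h a ≠ a) → ∀ a, g a = h a

/-! ### back to the group -/

/-- `x` acts trivially on `K/V` -/
def TrivOn {G : Type u} [Group G] (V K : Subgroup G) (x : G) : Prop :=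
  ∀ k ∈ K, x * k * x⁻¹ * k⁻¹ ∈ V

/-- **(GCORE)** the core inside `G`: `T` a set of elements of `G` centralising `V`, stable under
`E`-conjugation, whose squares and commutators act trivially on `K/V`: any two elements of `T` acting
nontrivially on `K/V` act in the same way. -/
def GCoreStmt : Prop :=
  ∀ (G : Type u) [Group G] [Finite G] (V K E : Subgroup G) (T : Set G), V.Normal → K.Normal → V ≤ K →
    (∀ x : G, x ∈ V ↔ x ^ 2 = 1) → (∀ v ∈ V, ∀ k ∈ K, k * v = v * k) → (∀ k ∈ K, k ^ 2 ∈ V) →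
    (∀ t ∈ T, ∀ v ∈ V, t * v = v * t) → (∀ e ∈ E, ∀ t ∈ T, e * t * e⁻¹ ∈ T) →
    (∀ v w : G, v ∈ V → w ∈ V → v ≠ 1 → w ≠ 1 → ∃ e ∈ E, e * v * e⁻¹ = w) →
    (∀ t ∈ T, TrivOn V K (t ^ 2)) → (∀ t ∈ T, ∀ t' ∈ T, TrivOn V K (t * t' * t⁻¹ * t'⁻¹)) →
    ∀ t ∈ T, ∀ t' ∈ T, ¬ TrivOn V K t → ¬ TrivOn V K t' → TrivOn V K (t⁻¹ * t')

/-- **(M0A)** translation: `U = Additive (K ⧸ V)`, `V = Additive V`, `κ (kV) = k²`, `ι = E`, `T` = the
conjugation maps of the elements of `T`. -/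
def M0AStmt : Prop := CoreStmt.{u} → GCoreStmt.{u}

/-- **(M0B)** `MLStmt` from `GCoreStmt`: `D = {x | TrivOn V K x}` (normal subgroup), `S0 = S ⊓ D`;
if `S0 ≠ S` the 2-group `S/S0` has a central involution: `T = {s ∈ S | s² ∈ D ∧ ∀ t ∈ S, [s,t] ∈ D}`
is not inside `D`; GCORE: `e s e⁻¹ s⁻¹ ∈ S0` for `s ∈ T`, `e ∈ E`; coprime action
(`Cfsg.Agent.Lib.H1.coprime_centralizer_quotient`, `A = E`, `K = S`, `N = S0`) gives `c ∈ C_S(E) = 1`
with `s⁻¹ c ∈ S0`: `T ⊆ D`, contradiction. -/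
def M0BStmt : Prop := GCoreStmt.{u} → Cfsg.Agent.Lib.H19.S3797.MLStmt.{u}

end Cfsg.Agent.Lib.H25.S3797ML
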