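import Mathlib
import Cfsg.Agent.Lib.H5.S3797MLDefs
import Cfsg.Agent.Lib.H25.S3797MLDefs

/-!
# S3797, main lemma, piece (M0A): the quotient bridge (helper25)

`m0a : AMLStmt → GCoreStmt`: helper5's abstract additive main lemma (`Lib/H5/S3797MLDefs`) applied to
`U = Additive (K ⧸ V)`, `V = Additive V`, `κ (kV) = k²`, `β = ` the polar form of `κ`, `W` = the
conjugation maps of the elements of `T`, `I = E`.  `GCoreStmt` (`Lib/H25/S3797MLDefs`) is the core stated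
inside `G`; the group-theoretic ending `GCoreStmt → MLStmt` is piece (M0B).
-/

set_option autoImplicit false

namespace Cfsg.Agent.Lib.H25.S3797M0A

open Cfsg.Agent.Lib.H5.S3797ML Cfsg.Agent.Lib.H25.S3797ML

universe u

theorem comm_of_sq {Q : Type u} [Group Q] (h2 : ∀ x : Q, x * x = 1) (x y : Q) : x * y = y * x := by
  have hx : x⁻¹ = x := inv_eq_of_mul_eq_one_left (h2 x)
  have hy : y⁻¹ = y := inv_eq_of_mul_eq_one_left (h2 y)
  have hxy : (x * y)⁻¹ = x * y := inv_eq_of_mul_eq_one_left (h2 (x * y))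
  calc x * y = (x * y)⁻¹ := hxy.symm
    _ = y⁻¹ * x⁻¹ := mul_inv_rev x y
    _ = y * x := by rw [hx, hy]

/-- the abstract main lemma in multiplicative form -/
theorem aml_mul (h : AMLStmt.{u}) (Q Vt : Type u) [Group Q] [Group Vt] [Finite Q] [Finite Vt]
    (κ : Q → Vt) (β : Q → Q → Vt) (W : Set (Q → Q)) (I : Type u) (a : I → Q → Q) (b : I → Vt → Vt)
    (two_U : ∀ x : Q, x * x = 1) (two_V : ∀ v : Vt, v * v = 1)
    (polar : ∀ x y, κ (x * y) = κ x * κ y * β x y)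
    (add_left : ∀ x y z, β (x * y) z = β x z * β y z)
    (anis : ∀ x, κ x = 1 → x = 1)
    (hadd : ∀ g ∈ W, ∀ x y, g (x * y) = g x * g y) (hinv : ∀ g ∈ W, ∀ x, g (g x) = x)
    (hpres : ∀ g ∈ W, ∀ x, κ (g x) = κ x) (hcomm : ∀ g ∈ W, ∀ k ∈ W, ∀ x, g (k x) = k (g x))
    (a_add : ∀ i, ∀ x y, a i (x * y) = a i x * a i y) (a_inj : ∀ i, Function.Injective (a i))
    (b_add : ∀ i, ∀ v w, b i (v * w) = b i v * b i w) (equiv : ∀ i, ∀ x, κ (a i x) = b i (κ x))
    (trans : ∀ v w : Vt, v ≠ 1 → w ≠ 1 → ∃ i, b i v = w)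
    (Winv : ∀ i, ∀ g ∈ W, ∃ k ∈ W, ∀ x, a i (g x) = k (a i x)) :
    ∀ g ∈ W, ∀ k ∈ W, (∃ x, g x ≠ x) → (∃ x, k x ≠ x) → ∀ x, g x = k x := by
  let iQ : CommGroup Q := { (inferInstance : Group Q) with mul_comm := comm_of_sq two_U }
  let iV : CommGroup Vt := { (inferInstance : Group Vt) with mul_comm := comm_of_sq two_V }
  exact h (Additive Q) (Additive Vt) κ β W I a b
    ⟨two_U, two_V, polar, add_left, anis⟩ ⟨hadd, hinv, hpres, hcomm⟩
    ⟨a_add, a_inj, b_add, equiv, trans, Winv⟩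

theorem key_com {G : Type u} [Group G] (a c : G) (hA : (a ^ 2) ^ 2 = 1) (hC : (c ^ 2) ^ 2 = 1)
    (hcA : c * a ^ 2 = a ^ 2 * c) :
    (a * c) ^ 2 * a ^ 2 * c ^ 2 = a * c * a⁻¹ * c⁻¹ := by
  have hA' : a ^ 2 = (a ^ 2)⁻¹ := by
    apply eq_inv_of_mul_eq_one_left; rw [← sq]; exact hA
  have hC' : c ^ 2 = (c ^ 2)⁻¹ := by
    apply eq_inv_of_mul_eq_one_left; rw [← sq]; exact hC
  have hcA' : c * (a ^ 2)⁻¹ = (a ^ 2)⁻¹ * c := by
    have h1 : Commute c (a ^ 2) := hcA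
    exact h1.inv_right
  calc (a * c) ^ 2 * a ^ 2 * c ^ 2 = (a * c) ^ 2 * (a ^ 2)⁻¹ * (c ^ 2)⁻¹ := by rw [← hA', ← hC']
    _ = a * c * a * (c * (a ^ 2)⁻¹) * (c ^ 2)⁻¹ := by rw [pow_two (a * c)]; group
    _ = a * c * a * ((a ^ 2)⁻¹ * c) * (c ^ 2)⁻¹ := by rw [hcA']
    _ = a * c * a⁻¹ * c⁻¹ := by group

theorem add_com {G : Type u} [Group G] (a b c : G)
    (h : a * (b * c * b⁻¹ * c⁻¹) = (b * c * b⁻¹ * c⁻¹) * a) :
    (a * b) * c * (a * b)⁻¹ * c⁻¹ = (b * c * b⁻¹ * c⁻¹) * (a * c * a⁻¹ * c⁻¹) := by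
  calc (a * b) * c * (a * b)⁻¹ * c⁻¹ = (a * (b * c * b⁻¹ * c⁻¹)) * c * a⁻¹ * c⁻¹ := by group
    _ = ((b * c * b⁻¹ * c⁻¹) * a) * c * a⁻¹ * c⁻¹ := by rw [h]
    _ = (b * c * b⁻¹ * c⁻¹) * (a * c * a⁻¹ * c⁻¹) := by group

section bridge

variable {G : Type u} [Group G] (V K : Subgroup G) [hVn : V.Normal] [hKn : K.Normal]

/-- conjugation by `g` on `K/V` -/
noncomputable def aQ (g : G) : (↥K ⧸ V.subgroupOf K) →* (↥K ⧸ V.subgroupOf K) :=
  QuotientGroup.map _ _ (MulAut.conjNormal g : MulAut ↥K).toMonoidHom (by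
    intro k hk
    rw [Subgroup.mem_comap, Subgroup.mem_subgroupOf]
    rw [Subgroup.mem_subgroupOf] at hk
    have : ((MulAut.conjNormal g : MulAut ↥K) k : G) = g * k * g⁻¹ := MulAut.conjNormal_apply g k
    show ((MulAut.conjNormal g : MulAut ↥K) k : G) ∈ V
    rw [this]
    exact hVn.conj_mem _ hk g)

theorem aQ_mk (g : G) (k : ↥K) :
    aQ V K g (QuotientGroup.mk k) = QuotientGroup.mk ⟨g * k.1 * g⁻¹, hKn.conj_mem k.1 k.2 g⟩ := by
  unfold aQ
  rw [QuotientGroup.map_mk]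
  congr 1

theorem aQ_mul (g h : G) (q : ↥K ⧸ V.subgroupOf K) : aQ V K (g * h) q = aQ V K g (aQ V K h q) := by
  induction q using QuotientGroup.induction_on with
  | H k =>
    rw [aQ_mk, aQ_mk, aQ_mk]
    congr 1
    apply Subtype.ext
    show g * h * k.1 * (g * h)⁻¹ = g * (h * k.1 * h⁻¹) * g⁻¹
    group

theorem aQ_triv_iff (g : G) : (∀ q : ↥K ⧸ V.subgroupOf K, aQ V K g q = q) ↔ TrivOn V K g := by
  constructor
  · intro h k hk
    have h1 := h (QuotientGroup.mk ⟨k, hk⟩)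
    rw [aQ_mk, QuotientGroup.eq, Subgroup.mem_subgroupOf] at h1
    have h2 : (g * k * g⁻¹)⁻¹ * k ∈ V := h1
    have h3 := V.inv_mem h2
    have h4 := hVn.conj_mem _ h3 k
    have e : k * ((g * k * g⁻¹)⁻¹ * k)⁻¹ * k⁻¹ = g * k * g⁻¹ * k⁻¹ := by group
    rwa [e] at h4
  · intro h q
    induction q using QuotientGroup.induction_on with
    | H k =>
      rw [aQ_mk, QuotientGroup.eq, Subgroup.mem_subgroupOf]
      show (g * k.1 * g⁻¹)⁻¹ * k.1 ∈ V
      have h1 := h k.1⁻¹ (K.inv_mem k.2)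
      have e : g * k.1⁻¹ * g⁻¹ * (k.1⁻¹)⁻¹ = (g * k.1 * g⁻¹)⁻¹ * k.1 := by group
      rwa [e] at h1

end bridge


section bridge2

variable {G : Type u} [Group G] (V K : Subgroup G) [hVn : V.Normal] [hKn : K.Normal]
  (hVmem : ∀ x : G, x ∈ V ↔ x ^ 2 = 1) (hVc : ∀ v ∈ V, ∀ k ∈ K, k * v = v * k)
  (hK2 : ∀ k ∈ K, k ^ 2 ∈ V)

omit hVn hKn in
include hVmem hVc in
theorem kap_wd (x y : ↥K) (hxy : x⁻¹ * y ∈ V.subgroupOf K) :
    (⟨x.1 ^ 2, hK2 x.1 x.2⟩ : ↥V) = ⟨y.1 ^ 2, hK2 y.1 y.2⟩ := by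
  apply Subtype.ext
  show x.1 ^ 2 = y.1 ^ 2
  rw [Subgroup.mem_subgroupOf] at hxy
  have hv : x.1⁻¹ * y.1 ∈ V := hxy
  have hy : y.1 = x.1 * (x.1⁻¹ * y.1) := by group
  have hcomm : Commute x.1 (x.1⁻¹ * y.1) := hVc _ hv x.1 x.2
  have hv2 : (x.1⁻¹ * y.1) ^ 2 = 1 := (hVmem _).mp hv
  rw [hy, hcomm.mul_pow, hv2, mul_one]

/-- the squaring map `K/V → V` -/
noncomputable def kapQ : (↥K ⧸ V.subgroupOf K) → ↥V := fun q =>
  Quotient.liftOn' q (fun k => (⟨k.1 ^ 2, hK2 k.1 k.2⟩ : ↥V))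
    (fun x y hxy => kap_wd V K hVmem hVc hK2 x y (QuotientGroup.leftRel_apply.mp hxy))

theorem kapQ_mk (k : ↥K) :
    kapQ V K hVmem hVc hK2 (QuotientGroup.mk k) = ⟨k.1 ^ 2, hK2 k.1 k.2⟩ := rfl

end bridge2

theorem m0a (h : AMLStmt.{u}) : GCoreStmt.{u} := by
  intro G _ _ V K E T hVn hKn hVK hVmem hVc hK2 hTV hET htr hT2 hTc t ht t' ht' hnt hnt'
  have := hVn
  have := hKn
  have two_V : ∀ v : ↥V, v * v = 1 := by
    intro v
    apply Subtype.ext
    show v.1 * v.1 = 1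
    rw [← sq]
    exact (hVmem v.1).mp v.2
  have hcV := comm_of_sq two_V
  have two_U : ∀ x : ↥K ⧸ V.subgroupOf K, x * x = 1 := by
    intro x
    induction x using QuotientGroup.induction_on with
    | H k =>
      rw [← QuotientGroup.mk_mul, QuotientGroup.eq_one_iff, Subgroup.mem_subgroupOf]
      show k.1 * k.1 ∈ V
      rw [← sq]
      exact hK2 k.1 k.2
  -- coordinates of the polar form on representatives
  have beta_mk : ∀ a c : ↥K,
      ((kapQ V K hVmem hVc hK2 (QuotientGroup.mk a * QuotientGroup.mk c) *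
        kapQ V K hVmem hVc hK2 (QuotientGroup.mk a) * kapQ V K hVmem hVc hK2 (QuotientGroup.mk c) : ↥V) : G)
        = a.1 * c.1 * a.1⁻¹ * c.1⁻¹ := by
    intro a c
    rw [← QuotientGroup.mk_mul, kapQ_mk, kapQ_mk, kapQ_mk]
    show (a.1 * c.1) ^ 2 * a.1 ^ 2 * c.1 ^ 2 = a.1 * c.1 * a.1⁻¹ * c.1⁻¹
    apply key_com
    · rw [← hVmem]; exact hK2 a.1 a.2
    · rw [← hVmem]; exact hK2 c.1 c.2
    · exact hVc _ (hK2 a.1 a.2) c.1 c.2
  have triv_one : ∀ q : ↥K ⧸ V.subgroupOf K, aQ V K 1 q = q := by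
    rw [aQ_triv_iff]
    intro k hk
    have e : (1 : G) * k * 1⁻¹ * k⁻¹ = 1 := by group
    rw [e]; exact V.one_mem
  have key := aml_mul h (↥K ⧸ V.subgroupOf K) ↥V (kapQ V K hVmem hVc hK2)
    (fun x y => kapQ V K hVmem hVc hK2 (x * y) * kapQ V K hVmem hVc hK2 x * kapQ V K hVmem hVc hK2 y)
    {f | ∃ s ∈ T, f = fun q => aQ V K s q} ↥E (fun e q => aQ V K e.1 q)
    (fun e v => (MulAut.conjNormal e.1 : MulAut ↥V) v) two_U two_V
    (by
      intro x y
      -- κ(xy) = κx κy (κ(xy) κx κy)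
      set A := kapQ V K hVmem hVc hK2 x
      set B := kapQ V K hVmem hVc hK2 y
      set C := kapQ V K hVmem hVc hK2 (x * y)
      calc C = 1 * C := (one_mul C).symm
        _ = ((A * B) * (A * B)) * C := by rw [two_V]
        _ = (A * B) * ((A * B) * C) := by rw [mul_assoc]
        _ = (A * B) * (C * (A * B)) := by rw [hcV (A * B) C]
        _ = A * B * (C * A * B) := by rw [mul_assoc C A B])
    (by
      intro x y z
      induction x using QuotientGroup.induction_on with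
      | H a =>
      induction y using QuotientGroup.induction_on with
      | H b =>
      induction z using QuotientGroup.induction_on with
      | H c =>
        apply Subtype.ext
        have e1 := beta_mk (a * b) c
        have e2 := beta_mk a c
        have e3 := beta_mk b c
        rw [QuotientGroup.mk_mul] at e1
        show ((kapQ V K hVmem hVc hK2 (QuotientGroup.mk a * QuotientGroup.mk b * QuotientGroup.mk c) *
          kapQ V K hVmem hVc hK2 (QuotientGroup.mk a * QuotientGroup.mk b) *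
          kapQ V K hVmem hVc hK2 (QuotientGroup.mk c) : ↥V) : G) = _
        rw [e1]
        rw [Subgroup.coe_mul V, e2, e3, Subgroup.coe_mul K]
        show (a.1 * b.1) * c.1 * (a.1 * b.1)⁻¹ * c.1⁻¹ = _
        have hX : b.1 * c.1 * b.1⁻¹ * c.1⁻¹ ∈ V := by
          rw [← e3]; exact Subtype.property _
        rw [add_com a.1 b.1 c.1 (hVc _ hX a.1 a.2)]
        -- commute the two factors inside V
        have hY : a.1 * c.1 * a.1⁻¹ * c.1⁻¹ ∈ K :=
          K.mul_mem (K.mul_mem (K.mul_mem a.2 c.2) (K.inv_mem a.2)) (K.inv_mem c.2)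
        exact (hVc _ hX _ hY).symm)
    (by
      intro x hx
      induction x using QuotientGroup.induction_on with
      | H k =>
        rw [kapQ_mk] at hx
        have h1 : k.1 ^ 2 = 1 := congrArg Subtype.val hx
        rw [QuotientGroup.eq_one_iff, Subgroup.mem_subgroupOf]
        exact (hVmem k.1).mpr h1)
    (by
      rintro g ⟨s, hs, rfl⟩ x y
      exact map_mul _ x y)
    (by
      rintro g ⟨s, hs, rfl⟩ x
      show aQ V K s (aQ V K s x) = x
      rw [← aQ_mul]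
      have := (aQ_triv_iff V K (s * s)).mpr (by rw [← sq]; exact hT2 s hs)
      exact this x)
    (by
      rintro g ⟨s, hs, rfl⟩ x
      show kapQ V K hVmem hVc hK2 (aQ V K s x) = kapQ V K hVmem hVc hK2 x
      induction x using QuotientGroup.induction_on with
      | H k =>
        rw [aQ_mk, kapQ_mk, kapQ_mk]
        apply Subtype.ext
        show (s * k.1 * s⁻¹) ^ 2 = k.1 ^ 2
        rw [conj_pow, hTV s hs _ (hK2 k.1 k.2)]
        group)
    (by
      rintro g ⟨s, hs, rfl⟩ k ⟨s', hs', rfl⟩ x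
      show aQ V K s (aQ V K s' x) = aQ V K s' (aQ V K s x)
      rw [← aQ_mul, ← aQ_mul]
      have e : s * s' = (s * s' * s⁻¹ * s'⁻¹) * (s' * s) := by group
      rw [e, aQ_mul]
      exact (aQ_triv_iff V K _).mpr (hTc s hs s' hs') _)
    (by
      intro e x y
      exact map_mul _ x y)
    (by
      intro e
      apply Function.LeftInverse.injective (g := fun q => aQ V K (e.1)⁻¹ q)
      intro q
      show aQ V K (e.1)⁻¹ (aQ V K e.1 q) = q
      rw [← aQ_mul, inv_mul_cancel]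
      exact triv_one q)
    (by
      intro e v w
      exact map_mul _ v w)
    (by
      intro e x
      induction x using QuotientGroup.induction_on with
      | H k =>
        show kapQ V K hVmem hVc hK2 (aQ V K e.1 (QuotientGroup.mk k)) = _
        rw [aQ_mk, kapQ_mk, kapQ_mk]
        apply Subtype.ext
        show (e.1 * k.1 * e.1⁻¹) ^ 2 = ((MulAut.conjNormal e.1 : MulAut ↥V) ⟨k.1 ^ 2, hK2 k.1 k.2⟩ : G)
        rw [MulAut.conjNormal_apply, conj_pow])
    (by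
      intro v w hv hw
      have hv1 : v.1 ≠ 1 := fun hh => hv (Subtype.ext hh)
      have hw1 : w.1 ≠ 1 := fun hh => hw (Subtype.ext hh)
      obtain ⟨e, he, hew⟩ := htr v.1 w.1 v.2 w.2 hv1 hw1
      refine ⟨⟨e, he⟩, ?_⟩
      apply Subtype.ext
      show ((MulAut.conjNormal e : MulAut ↥V) v : G) = w.1
      rw [MulAut.conjNormal_apply]; exact hew)
    (by
      rintro e g ⟨s, hs, rfl⟩
      refine ⟨fun q => aQ V K (e.1 * s * e.1⁻¹) q, ⟨e.1 * s * e.1⁻¹, hET e.1 e.2 s hs, rfl⟩, ?_⟩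
      intro x
      show aQ V K e.1 (aQ V K s x) = aQ V K (e.1 * s * e.1⁻¹) (aQ V K e.1 x)
      rw [← aQ_mul, ← aQ_mul]
      congr 2
      group)
  have nt : ∀ s : G, ¬ TrivOn V K s → ∃ q : ↥K ⧸ V.subgroupOf K, aQ V K s q ≠ q := by
    intro s hs
    by_contra hcon
    apply hs
    rw [← aQ_triv_iff]
    intro q
    by_contra hq
    exact hcon ⟨q, hq⟩
  have hfin := key (fun q => aQ V K t q) ⟨t, ht, rfl⟩ (fun q => aQ V K t' q) ⟨t', ht', rfl⟩
    (nt t hnt) (nt t' hnt')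
  rw [← aQ_triv_iff]
  intro q
  rw [aQ_mul]
  have h1 : aQ V K t' q = aQ V K t q := (hfin q).symm
  rw [h1, ← aQ_mul, inv_mul_cancel]
  exact triv_one q

example : (AMLStmt.{0} → GCoreStmt.{0}) := m0a
example : (AMLStmt.{3} → GCoreStmt.{3}) := m0a

end Cfsg.Agent.Lib.H25.S3797M0A
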