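import Cfsg.Agent.Lib.H5.S3777Defs

/-!
# S3777, the `P2` step (helper25, sub-architect): shapes of the pieces and the assembly

Paper proof (helper5 #9467, (P2)): `(G, M)` a residual pair (`M' = G'`), `G` not abelian.
Take two normal subgroups `K0 ≠ K1` of index `p`, both `≠ M`, with `K0 ⊓ M = K1 ⊓ M =: M0`.
(A): `|G'| ≤ p^b(u) |K_j'|` for `u ∉ M ∪ K_j`.  If some `(K_j, M0)` is a non-residual pair, `P1` for
the smaller group `K_j` gives `|K_j'| ≤ p^tri f`.  Otherwise `K0' = M0' = K1'`, so `K0`, `K1`, hence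
`G = K0 K1`, centralise `M0 / M0'`; `M / M0` is cyclic, so `M' = M0'` and `G' = M' = M0' = K0'`:
`P2` for the smaller residual pair `(K0, M0)`.
-/

set_option autoImplicit false

namespace Cfsg.Agent.Lib.H25.S3777P2

open Cfsg.Agent.Lib.H5.S3777

universe u

/-- (A): `G = K<u>`, `K` normal of prime index: `|G'| ≤ |G : C_G(u)| |K'|`. -/
def AStmt : Prop :=
  ∀ (p : ℕ) [Fact p.Prime] (G : Type u) [Group G] [Finite G] (K : Subgroup G), K.Normal →
    K.index = p → ∀ u : G, u ∉ K →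
    Nat.card ↥(commutator G) ≤
      (Subgroup.centralizer ({u} : Set G)).index * Nat.card ↥⁅K, K⁆

/-- (T1): the derived subgroup of the type `↥K` and `⁅K, K⁆` have the same order. -/
def T1Stmt : Prop :=
  ∀ (G : Type u) [Group G] (K : Subgroup G),
    Nat.card ↥(commutator ↥K) = Nat.card ↥⁅K, K⁆

/-- (T2): centraliser indices do not grow in subgroups. -/
def T2Stmt : Prop :=
  ∀ (G : Type u) [Group G] [Finite G] (K : Subgroup G) (k : ↥K),
    (Subgroup.centralizer ({k} : Set ↥K)).index ≤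
      (Subgroup.centralizer ({(k : G)} : Set G)).index

/-- (TG): a group is not the union of two proper subgroups. -/
def TGStmt : Prop :=
  ∀ (G : Type u) [Group G] (M B : Subgroup G), M ≠ ⊤ → B ≠ ⊤ → ∃ y : G, y ∉ M ∧ y ∉ B

/-- (RES): residuality of the pair `(↥K, M.subgroupOf K)` read inside `G`. -/
def ResStmt : Prop :=
  ∀ (G : Type u) [Group G] (K M : Subgroup G),
    (⁅M.subgroupOf K, M.subgroupOf K⁆ = commutator ↥K ↔ ⁅K ⊓ M, K ⊓ M⁆ = ⁅K, K⁆)

/-- (GEO): a non-abelian finite `p`-group with a subgroup `M` of index `p` has two further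
normal subgroups `K0 ≠ K1` of index `p` with `K0 ⊓ M = K1 ⊓ M`, and `M` is cyclic over it. -/
def GeoStmt : Prop :=
  ∀ (p : ℕ) [Fact p.Prime] (G : Type u) [Group G] [Finite G], IsPGroup p G →
    ∀ M : Subgroup G, M.index = p → commutator G ≠ ⊥ →
    ∃ K0 K1 : Subgroup G, K0.Normal ∧ K1.Normal ∧ K0.index = p ∧ K1.index = p ∧
      K0 ≠ M ∧ K1 ≠ M ∧ K0 ⊔ K1 = ⊤ ∧ K0 ⊓ M = K1 ⊓ M ∧ (K0 ⊓ M).Normal ∧
      ∃ m : G, m ∈ M ∧ M = (K0 ⊓ M) ⊔ Subgroup.zpowers m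

/-- (ALG): `K0 K1 = G` centralises `M0 / M0'` and `M / M0` is cyclic, so `M' ≤ M0'`. -/
def AlgStmt : Prop :=
  ∀ (G : Type u) [Group G] (K0 K1 M0 M : Subgroup G), M0.Normal →
    K0 ⊔ K1 = ⊤ → M0 ≤ K0 → M0 ≤ K1 → ⁅K0, K0⁆ ≤ ⁅M0, M0⁆ → ⁅K1, K1⁆ ≤ ⁅M0, M0⁆ →
    ∀ m : G, M = M0 ⊔ Subgroup.zpowers m → ⁅M, M⁆ ≤ ⁅M0, M0⁆

/-- (PAIR): a pair `(G, M)` restricts to the pair `(↥K, M.subgroupOf K)` for every other normal
subgroup `K` of index `p`, with the same `f`. -/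
def PairStmt : Prop :=
  ∀ (p : ℕ) [Fact p.Prime] (G : Type u) [Group G] [Finite G] (M K : Subgroup G) (f : ℕ),
    IsPair p M f → K.Normal → K.index = p → K ≠ M → IsPair p (M.subgroupOf K) f

end Cfsg.Agent.Lib.H25.S3777P2
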