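import Cfsg.Agent.Lib.H25.S77Bk

/-!
# S0429 piece (ISO): `G` is isomorphic to the block graph of the blocks `Bk v`
-/

set_option autoImplicit false
set_option linter.unusedSectionVars false
open Cfsg

namespace Cfsg.Agent.Lib.H25.S77

open Cfsg.Agent.Lib.H1.S77 Finset

section
variable {V : Type*} [Fintype V] [DecidableEq V] {G : SimpleGraph V} [DecidableRel G.Adj]

/-- (ISO) -/
theorem isoBG (hG : G.IsSRGWith 77 16 0 4) (h1 : HF1 G) (h2 : HF2 G) :
    Nonempty (G ≃g Cfsg.blockGraph (blocks G)) := by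
  classical
  let f : V → blocks G := fun v => ⟨Bk G v, ⟨v, rfl⟩⟩
  have hinj : Function.Injective f := by
    intro v w hvw
    exact Bk_injective h1 h2 (congrArg Subtype.val hvw)
  have hsurj : Function.Surjective f := by
    rintro ⟨b, ⟨v, rfl⟩⟩
    exact ⟨v, rfl⟩
  refine ⟨⟨Equiv.ofBijective f ⟨hinj, hsurj⟩, ?_⟩⟩
  intro v w
  show (Cfsg.blockGraph (blocks G)).Adj (f v) (f w) ↔ G.Adj v w
  rw [Cfsg.blockGraph, SimpleGraph.fromRel_adj]
  constructor
  · rintro ⟨hne, hd⟩
    by_contra hadj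
    have hvw : v ≠ w := fun h => hne (by rw [h])
    have hd' : Disjoint (Bk G v) (Bk G w) := by
      rcases hd with hd | hd
      · exact hd
      · exact hd.symm
    have := card_Bk_inter_of_nadj h2 hvw hadj
    rw [Finset.disjoint_iff_inter_eq_empty.mp hd'] at this
    simp at this
  · intro hadj
    have hd : Disjoint (Bk G v) (Bk G w) := Bk_disjoint_of_adj hadj
    refine ⟨?_, Or.inl hd⟩
    intro h
    have hvw : v = w := hinj h
    exact G.irrefl (hvw ▸ hadj)

end

end Cfsg.Agent.Lib.H25.S77
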