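import Cfsg.Agent.Lib.H25.S77Bk

/-!
# S0429 piece (STEINER): the cocliques of size 21 with the blocks `Bk v` form an `S(3,6,22)`
-/

set_option autoImplicit false
set_option linter.unusedSectionVars false
open Cfsg

namespace Cfsg.Agent.Lib.H25.S77

open Cfsg.Agent.Lib.H1.S77 Finset

section
variable {V : Type*} [Fintype V] [DecidableEq V] {G : SimpleGraph V} [DecidableRel G.Adj]

/-- double counting: there are 22 cocliques of size 21 (private copy of the piece (NHC)) -/
theorem card_HC_aux (hG : G.IsSRGWith 77 16 0 4) (h1 : HF1 G) : (HC G).card = 22 := by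
  have hA : ∑ C ∈ HC G, ((univ : Finset V).bipartiteAbove (fun (C : Finset V) v => v ∈ C) C).card
      = 21 * (HC G).card := by
    have : ∀ C ∈ HC G, ((univ : Finset V).bipartiteAbove (fun (C : Finset V) v => v ∈ C) C).card = 21 := by
      intro C hC
      have : (univ : Finset V).bipartiteAbove (fun (C : Finset V) v => v ∈ C) C = C := by
        ext v
        simp [Finset.bipartiteAbove]
      rw [this]
      exact (mem_HC.mp hC).1
    rw [Finset.sum_congr rfl this, Finset.sum_const, smul_eq_mul, mul_comm]
  have hB : ∑ v ∈ (univ : Finset V), ((HC G).bipartiteBelow (fun (C : Finset V) v => v ∈ C) v).card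
      = 77 * 6 := by
    have : ∀ v ∈ (univ : Finset V),
        ((HC G).bipartiteBelow (fun (C : Finset V) v => v ∈ C) v).card = 6 := by
      intro v _
      exact h1 v
    rw [Finset.sum_congr rfl this, Finset.sum_const, smul_eq_mul, Finset.card_univ, hG.card]
  rw [Finset.sum_card_bipartiteAbove_eq_sum_card_bipartiteBelow] at hA
  omega

/-- (STEINER) -/
theorem steiner (hG : G.IsSRGWith 77 16 0 4) (h1 : HF1 G) (h2 : HF2 G) :
    Cfsg.IsSteinerSystem 3 6 (blocks G) := by
  classical
  refine ⟨?_, ?_⟩
  · rintro b ⟨v, rfl⟩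
    exact card_Bk h1 v
  · -- counting: the 3-subsets of the blocks exhaust all 3-subsets of the 22 points
    have hdisj : ∀ v w : V, v ≠ w →
        Disjoint ((Bk G v).powersetCard 3) ((Bk G w).powersetCard 3) := by
      intro v w hne
      rw [Finset.disjoint_left]
      intro s hsv hsw
      rw [Finset.mem_powersetCard] at hsv hsw
      have hsub : s ⊆ Bk G v ∩ Bk G w := Finset.subset_inter hsv.1 hsw.1
      have := Finset.card_le_card hsub
      have := card_Bk_inter_le h2 hne
      omega
    have hU : ((univ : Finset V).biUnion (fun v => (Bk G v).powersetCard 3)).card = 1540 := by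
      rw [Finset.card_biUnion (fun v _ w _ hne => hdisj v w hne)]
      have : ∀ v ∈ (univ : Finset V), ((Bk G v).powersetCard 3).card = 20 := by
        intro v _
        rw [Finset.card_powersetCard, card_Bk h1 v]
        rfl
      rw [Finset.sum_congr rfl this, Finset.sum_const, smul_eq_mul, Finset.card_univ, hG.card]
    have hP : ((univ : Finset (Pt G)).powersetCard 3).card = 1540 := by
      rw [Finset.card_powersetCard, Finset.card_univ, card_Pt, card_HC_aux hG h1]
      rfl
    have hsub : (univ : Finset V).biUnion (fun v => (Bk G v).powersetCard 3)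
        ⊆ (univ : Finset (Pt G)).powersetCard 3 := by
      intro s hs
      rw [Finset.mem_biUnion] at hs
      obtain ⟨v, -, hv⟩ := hs
      rw [Finset.mem_powersetCard] at hv ⊢
      exact ⟨Finset.subset_univ _, hv.2⟩
    have heq := Finset.eq_of_subset_of_card_le hsub (by rw [hU, hP])
    intro s hs
    have hsP : s ∈ (univ : Finset (Pt G)).powersetCard 3 :=
      Finset.mem_powersetCard.mpr ⟨Finset.subset_univ _, hs⟩
    rw [← heq, Finset.mem_biUnion] at hsP
    obtain ⟨v, -, hv⟩ := hsP
    rw [Finset.mem_powersetCard] at hv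
    refine ⟨Bk G v, ⟨⟨v, rfl⟩, hv.1⟩, ?_⟩
    rintro b ⟨⟨w, rfl⟩, hw⟩
    by_contra hne
    have hvw : w ≠ v := fun h => hne (by rw [h])
    have hsub' : s ⊆ Bk G w ∩ Bk G v := Finset.subset_inter hw hv.1
    have := Finset.card_le_card hsub'
    have := card_Bk_inter_le h2 hvw
    omega

end

end Cfsg.Agent.Lib.H25.S77
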