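import Mathlib
import Cfsg.Agent.Lib.H21.AD.Defs

/-!
# S4937 piece (POWHOM): on a nilpotent subgroup the `p'`-part map `g ↦ g ^ e` is multiplicative
-/

set_option autoImplicit false

namespace Cfsg.Agent.Lib.H25.AD

variable {G : Type*} [Group G] [Finite G]

/-- (POWHOM) on a nilpotent subgroup the `p'`-part map is multiplicative -/
theorem pow_mul_of_nilpotent (p : ℕ) (hp : p.Prime) (e : ℕ)
    (he1 : ∀ g : G, ¬ p ∣ orderOf g → g ^ e = g)
    (he2 : ∀ g : G, (∃ k : ℕ, orderOf g = p ^ k) → g ^ e = 1)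
    (E : Subgroup G) (hE : Group.IsNilpotent E) (a b : G) (ha : a ∈ E) (hb : b ∈ E) :
    (a * b) ^ e = a ^ e * b ^ e := by
  classical
  obtain ⟨φ⟩ := ((Group.isNilpotent_of_finite_tfae (G := E)).out 0 4).mp hE
  -- the truncation killing the `p`-component
  let tr : (∀ q : (Nat.card E).primeFactors, ∀ P : Sylow q E, (↑P : Subgroup E)) →
      (∀ q : (Nat.card E).primeFactors, ∀ P : Sylow q E, (↑P : Subgroup E)) :=
    fun f q P => if (q : ℕ) = p then 1 else f q P
  have htr : ∀ f : (∀ q : (Nat.card E).primeFactors, ∀ P : Sylow q E, (↑P : Subgroup E)),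
      f ^ e = tr f := by
    intro f
    funext q P
    have hqprime : (q : ℕ).Prime := (Nat.mem_primeFactors.mp q.2).1
    have : Fact (q : ℕ).Prime := ⟨hqprime⟩
    obtain ⟨k, hk⟩ := (IsPGroup.iff_orderOf.mp P.isPGroup') (f q P)
    have hord : orderOf (((f q P : E)) : G) = (q : ℕ) ^ k := by
      rw [Subgroup.orderOf_coe, Subgroup.orderOf_coe, hk]
    show (f q P) ^ e = tr f q P
    by_cases hq : (q : ℕ) = p
    · have h1 : (((f q P : E)) : G) ^ e = 1 := he2 _ ⟨k, by rw [hord, hq]⟩
      have : tr f q P = 1 := by simp only [tr, if_pos hq]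
      rw [this]
      apply Subtype.ext
      apply Subtype.ext
      simpa using h1
    · have hnd : ¬ p ∣ orderOf (((f q P : E)) : G) := by
        rw [hord]
        intro hdvd
        have := (Nat.prime_dvd_prime_iff_eq hp hqprime).mp (hp.dvd_of_dvd_pow hdvd)
        exact hq this.symm
      have h1 : (((f q P : E)) : G) ^ e = ((f q P : E) : G) := he1 _ hnd
      have : tr f q P = f q P := by simp only [tr, if_neg hq]
      rw [this]
      apply Subtype.ext
      apply Subtype.ext
      simpa using h1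
  have htrmul : ∀ f g, tr (f * g) = tr f * tr g := by
    intro f g
    funext q P
    by_cases hq : (q : ℕ) = p
    · simp only [tr, if_pos hq, Pi.mul_apply, mul_one]
    · simp only [tr, if_neg hq, Pi.mul_apply]
  have key : ∀ x y : E, (x * y) ^ e = x ^ e * y ^ e := by
    intro x y
    obtain ⟨f, rfl⟩ := φ.surjective x
    obtain ⟨g, rfl⟩ := φ.surjective y
    rw [← map_mul, ← map_pow, ← map_pow, ← map_pow, ← map_mul, htr, htr, htr, htrmul]
  have := congrArg (fun z : E => (z : G)) (key ⟨a, ha⟩ ⟨b, hb⟩)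
  simpa using this

end Cfsg.Agent.Lib.H25.AD
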