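import Mathlib
import Cfsg.Prelude.Def_RootSubgroups

set_option autoImplicit false

/-! Rank one groups (Timmesfeld): basic API for `Cfsg.conjBy`, `Cfsg.IsRankOnePair`. -/

namespace Cfsg.Agent.Lib.H25

open Cfsg

variable {G : Type*} [Group G]

theorem mem_conjBy {A : Subgroup G} {g x : G} : x ∈ conjBy A g ↔ g⁻¹ * x * g ∈ A := by
  unfold conjBy
  rw [Subgroup.mem_map]
  constructor
  · rintro ⟨y, hy, rfl⟩
    simpa [mul_assoc] using hy
  · intro h
    exact ⟨g⁻¹ * x * g, h, by simp [mul_assoc]⟩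

theorem conjBy_one (A : Subgroup G) : conjBy A 1 = A := by
  ext x; rw [mem_conjBy]; simp

theorem conjBy_conjBy (A : Subgroup G) (g h : G) : conjBy (conjBy A g) h = conjBy A (h * g) := by
  ext x; rw [mem_conjBy, mem_conjBy, mem_conjBy]; simp [mul_assoc]

theorem conjBy_of_mem {A : Subgroup G} {g : G} (hg : g ∈ A) : conjBy A g = A := by
  ext x; rw [mem_conjBy]
  constructor
  · intro h
    have := A.mul_mem (A.mul_mem hg h) (A.inv_mem hg)
    simpa [mul_assoc] using this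
  · intro h; exact A.mul_mem (A.mul_mem (A.inv_mem hg) h) hg

theorem conjBy_eq_self_iff {A : Subgroup G} {g : G} :
    conjBy A g = A ↔ g ∈ Subgroup.normalizer (A : Set G) :=
  Subgroup.mem_normalizer_iff_map_conj_eq.symm

theorem conjBy_inv_eq_self_iff {A : Subgroup G} {g : G} :
    conjBy A g⁻¹ = A ↔ g ∈ Subgroup.normalizer (A : Set G) := by
  rw [conjBy_eq_self_iff, inv_mem_iff]

theorem conjBy_eq_iff {A B : Subgroup G} {g : G} : conjBy A g = B ↔ A = conjBy B g⁻¹ := by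
  constructor
  · rintro rfl; rw [conjBy_conjBy]; simp [conjBy_one]
  · rintro rfl; rw [conjBy_conjBy]; simp [conjBy_one]

theorem conjBy_injective (g : G) : Function.Injective (fun A : Subgroup G => conjBy A g) := by
  intro A B h
  have h' : conjBy A g = conjBy B g := h
  have := congrArg (fun C => conjBy C g⁻¹) h'
  simpa [conjBy_conjBy, conjBy_one] using this

theorem conjBy_le_of_le {A K : Subgroup G} {g : G} (hA : A ≤ K) (hg : g ∈ K) : conjBy A g ≤ K := by
  intro x hx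
  rw [mem_conjBy] at hx
  have := K.mul_mem (K.mul_mem hg (hA hx)) (K.inv_mem hg)
  simpa [mul_assoc] using this

theorem conjBy_mono {A B : Subgroup G} (g : G) (h : A ≤ B) : conjBy A g ≤ conjBy B g :=
  Subgroup.map_mono h

theorem conjBy_sup (A B : Subgroup G) (g : G) : conjBy (A ⊔ B) g = conjBy A g ⊔ conjBy B g :=
  Subgroup.map_sup A B _

theorem normalizer_conjBy (A : Subgroup G) (g x : G) :
    x ∈ Subgroup.normalizer (conjBy A g : Set G) ↔ g⁻¹ * x * g ∈ Subgroup.normalizer (A : Set G) := by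
  rw [← conjBy_eq_self_iff, ← conjBy_eq_self_iff, conjBy_conjBy]
  constructor
  · intro h
    have := congrArg (fun C => conjBy C g⁻¹) h
    simpa [conjBy_conjBy, conjBy_one, mul_assoc] using this
  · intro h
    have := congrArg (fun C => conjBy C g) h
    simpa [conjBy_conjBy, conjBy_one, mul_assoc] using this

/-! ### Rank one pairs -/

namespace RankOne

variable {A B : Subgroup G}

/-- No non-identity element of `A` normalizes `B`. -/
theorem eq_one_of_mem_normalizer (h : IsRankOnePair A B) {a : G} (ha : a ∈ A)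
    (hn : a ∈ Subgroup.normalizer (B : Set G)) : a = 1 := by
  by_contra hne
  obtain ⟨b, hb, -, hE⟩ := h.cond_left a ha hne
  rw [conjBy_inv_eq_self_iff.mpr hn] at hE
  apply h.ne
  have := conjBy_eq_iff.mp hE
  rw [this, inv_inv, conjBy_of_mem hb]

theorem eq_one_of_mem_normalizer' (h : IsRankOnePair A B) {b : G} (hb : b ∈ B)
    (hn : b ∈ Subgroup.normalizer (A : Set G)) : b = 1 :=
  eq_one_of_mem_normalizer (RankOnePair_symm h) hb hn

theorem inf_normalizer_eq_bot (h : IsRankOnePair A B) :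
    A ⊓ Subgroup.normalizer (B : Set G) = ⊥ := by
  rw [eq_bot_iff]
  intro x hx
  rw [Subgroup.mem_bot]
  exact eq_one_of_mem_normalizer h hx.1 hx.2

/-- Uniqueness of the partner `b`. -/
theorem partner_unique (h : IsRankOnePair A B) {C : Subgroup G} {b b' : G} (hb : b ∈ B) (hb' : b' ∈ B)
    (h1 : conjBy A b⁻¹ = C) (h2 : conjBy A b'⁻¹ = C) : b = b' := by
  have h3 : conjBy A (b * b'⁻¹) = A := by
    have := congrArg (fun D => conjBy D b) (h2.trans h1.symm)
    simpa [conjBy_conjBy, conjBy_one] using this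
  have h4 : b * b'⁻¹ = 1 :=
    eq_one_of_mem_normalizer' h (B.mul_mem hb (B.inv_mem hb')) (conjBy_eq_self_iff.mp h3)
  exact mul_inv_eq_one.mp h4

/-- For `b ∈ B#` there is `a ∈ A#` with `A^b = B^a` (statement in the `cond_left` shape). -/
theorem exists_left (h : IsRankOnePair A B) {b : G} (hb : b ∈ B) (hb1 : b ≠ 1) :
    ∃ a ∈ A, a ≠ 1 ∧ conjBy A b⁻¹ = conjBy B a⁻¹ := by
  obtain ⟨a, ha, ha1, hE⟩ := h.cond_right b hb hb1
  exact ⟨a, ha, ha1, hE.symm⟩

theorem left_unique (h : IsRankOnePair A B) {C : Subgroup G} {a a' : G} (ha : a ∈ A) (ha' : a' ∈ A)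
    (h1 : conjBy B a⁻¹ = C) (h2 : conjBy B a'⁻¹ = C) : a = a' :=
  partner_unique (RankOnePair_symm h) ha ha' h1 h2

theorem left_ne_bot (h : IsRankOnePair A B) : A ≠ ⊥ := by
  intro hA
  have hB : B ≠ ⊥ := fun hB => h.ne (hA.trans hB.symm)
  obtain ⟨b, hb1⟩ := (Subgroup.ne_bot_iff_exists_ne_one).mp hB
  have hb1' : (b : G) ≠ 1 := fun hh => hb1 (Subtype.ext hh)
  obtain ⟨a, ha, ha1, -⟩ := h.cond_right b b.2 hb1'
  rw [hA, Subgroup.mem_bot] at ha
  exact ha1 ha

theorem right_ne_bot (h : IsRankOnePair A B) : B ≠ ⊥ := left_ne_bot (RankOnePair_symm h)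

theorem exists_ne_one_left (h : IsRankOnePair A B) : ∃ a ∈ A, a ≠ 1 := by
  obtain ⟨a, ha⟩ := (Subgroup.ne_bot_iff_exists_ne_one).mp (left_ne_bot h)
  exact ⟨a, a.2, fun hh => ha (Subtype.ext hh)⟩

theorem exists_ne_one_right (h : IsRankOnePair A B) : ∃ b ∈ B, b ≠ 1 :=
  exists_ne_one_left (RankOnePair_symm h)

/-- `B^a ≠ A` for `a ∈ A`. -/
theorem conjBy_right_ne_left (h : IsRankOnePair A B) {a : G} (ha : a ∈ A) : conjBy B a ≠ A := by
  intro hE
  apply h.ne
  have := conjBy_eq_iff.mp hE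
  rw [this, conjBy_of_mem (A.inv_mem ha)]

/-- `B^a = B^a'` with `a, a' ∈ A` forces `a = a'`. -/
theorem conjBy_right_inj (h : IsRankOnePair A B) {a a' : G} (ha : a ∈ A) (ha' : a' ∈ A)
    (hE : conjBy B a = conjBy B a') : a = a' := by
  have := left_unique h (A.inv_mem ha) (A.inv_mem ha') (C := conjBy B a) (by rw [inv_inv])
    (by rw [inv_inv]; exact hE.symm)
  exact inv_injective this

/-- For `b ∈ B`, `A^b` is `A` or `B^a` for some `a ∈ A`. -/
theorem conjBy_left_by_right (h : IsRankOnePair A B) {b : G} (hb : b ∈ B) :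
    conjBy A b = A ∨ ∃ a ∈ A, conjBy A b = conjBy B a := by
  by_cases hb1 : b = 1
  · left; rw [hb1, conjBy_one]
  · right
    have hb1' : b⁻¹ ≠ 1 := fun hh => hb1 (inv_eq_one.mp hh)
    obtain ⟨a, ha, -, hE⟩ := exists_left h (B.inv_mem hb) hb1'
    rw [inv_inv] at hE
    exact ⟨a⁻¹, A.inv_mem ha, hE⟩

/-- The set `{A} ∪ {B^a | a ∈ A}`. -/
def orbitSet (A B : Subgroup G) : Set (Subgroup G) := {C | C = A ∨ ∃ a ∈ A, C = conjBy B a}

theorem orbitSet_conj_left (h : IsRankOnePair A B) {C : Subgroup G} (hC : C ∈ orbitSet A B) {a : G}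
    (ha : a ∈ A) : conjBy C a ∈ orbitSet A B := by
  rcases hC with rfl | ⟨a', ha', rfl⟩
  · left; exact conjBy_of_mem ha
  · right; exact ⟨a * a', A.mul_mem ha ha', conjBy_conjBy _ _ _⟩

theorem orbitSet_conj_right (h : IsRankOnePair A B) {C : Subgroup G} (hC : C ∈ orbitSet A B) {b : G}
    (hb : b ∈ B) : conjBy C b ∈ orbitSet A B := by
  rcases hC with rfl | ⟨a, ha, rfl⟩
  · rcases conjBy_left_by_right h hb with h1 | ⟨a, ha, h1⟩
    · left; exact h1
    · right; exact ⟨a, ha, h1⟩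
  · by_cases ha1 : a = 1
    · right
      refine ⟨1, A.one_mem, ?_⟩
      rw [ha1, conjBy_one, conjBy_of_mem hb]
    · have ha1' : a⁻¹ ≠ 1 := fun hh => ha1 (inv_eq_one.mp hh)
      obtain ⟨b0, hb0, -, hE⟩ := h.cond_left a⁻¹ (A.inv_mem ha) ha1'
      rw [inv_inv] at hE
      rw [← hE, conjBy_conjBy]
      rcases conjBy_left_by_right h (B.mul_mem hb (B.inv_mem hb0)) with h1 | ⟨a2, ha2, h1⟩
      · left; exact h1
      · right; exact ⟨a2, ha2, h1⟩

theorem orbitSet_conj_aux (h : IsRankOnePair A B) {x : G} (hx : x ∈ A ⊔ B) :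
    (∀ C ∈ orbitSet A B, conjBy C x ∈ orbitSet A B) ∧
      (∀ C ∈ orbitSet A B, conjBy C x⁻¹ ∈ orbitSet A B) := by
  rw [Subgroup.sup_eq_closure] at hx
  induction hx using Subgroup.closure_induction with
  | mem y hy =>
    rcases hy with hy | hy
    · exact ⟨fun C hC => orbitSet_conj_left h hC hy, fun C hC => orbitSet_conj_left h hC (A.inv_mem hy)⟩
    · exact ⟨fun C hC => orbitSet_conj_right h hC hy,
        fun C hC => orbitSet_conj_right h hC (B.inv_mem hy)⟩
  | one => simp [conjBy_one]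
  | mul y z _ _ ihy ihz =>
    refine ⟨fun C hC => ?_, fun C hC => ?_⟩
    · rw [← conjBy_conjBy]
      exact ihy.1 _ (ihz.1 _ hC)
    · rw [mul_inv_rev, ← conjBy_conjBy]
      exact ihz.2 _ (ihy.2 _ hC)
  | inv y _ ihy =>
    refine ⟨ihy.2, ?_⟩
    rw [inv_inv]
    exact ihy.1

theorem orbitSet_conj (h : IsRankOnePair A B) {x : G} (hx : x ∈ A ⊔ B) {C : Subgroup G}
    (hC : C ∈ orbitSet A B) : conjBy C x ∈ orbitSet A B :=
  (orbitSet_conj_aux h hx).1 C hC

/-- `B` is a conjugate of `A` under `A ⊔ B`. -/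
theorem right_mem_unipotentSubgroups (h : IsRankOnePair A B) : B ∈ unipotentSubgroups A B := by
  obtain ⟨a, ha, ha1⟩ := exists_ne_one_left h
  obtain ⟨b, hb, -, hE⟩ := h.cond_left a ha ha1
  refine ⟨a * b⁻¹, ?_, ?_⟩
  · exact (A ⊔ B).mul_mem (Subgroup.mem_sup_left ha) (Subgroup.mem_sup_right (B.inv_mem hb))
  · rw [← conjBy_conjBy, hE, conjBy_conjBy]; simp [conjBy_one]

theorem left_mem_unipotentSubgroups (A B : Subgroup G) : A ∈ unipotentSubgroups A B :=
  ⟨1, Subgroup.one_mem _, (conjBy_one A).symm⟩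

theorem unipotentSubgroups_conj {C : Subgroup G} (hC : C ∈ unipotentSubgroups A B) {x : G}
    (hx : x ∈ A ⊔ B) : conjBy C x ∈ unipotentSubgroups A B := by
  obtain ⟨y, hy, rfl⟩ := hC
  exact ⟨x * y, (A ⊔ B).mul_mem hx hy, conjBy_conjBy _ _ _⟩

/-- The conjugates of `A` under `A ⊔ B` are exactly `A` and the `B^a`, `a ∈ A`. -/
theorem unipotentSubgroups_eq (h : IsRankOnePair A B) : unipotentSubgroups A B = orbitSet A B := by
  ext C
  constructor
  · rintro ⟨x, hx, rfl⟩
    exact orbitSet_conj h hx (Or.inl rfl)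
  · rintro (rfl | ⟨a, ha, rfl⟩)
    · exact left_mem_unipotentSubgroups _ B
    · exact unipotentSubgroups_conj (right_mem_unipotentSubgroups h) (Subgroup.mem_sup_left ha)

end RankOne

end Cfsg.Agent.Lib.H25
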