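/-
Symplectic Phase 2 (architect helper9), task **SP2-B5** (helper25): `Sp_2m(F)` is not contained in a subfield group.
Exact signature of `tools/blueprints/SP2_sigs.lean`.
-/
import Cfsg.Agent.Lib.H11.AschSDefs
import Cfsg.Agent.Lib.H11.SubspMax2
import Cfsg.Agent.Lib.H15.SpSubA

set_option autoImplicit false

namespace Cfsg.Agent.Lib.H25.AschSP2

open Cfsg Cfsg.Geo Cfsg.Agent.Lib.Lead.Asch Cfsg.Agent.Lib.H11.AschS Cfsg.Agent.Lib.H11.SubspMax
  Cfsg.Agent.Lib.H15.SpSub
open Cfsg.Agent.Lib.H4 (sympForm_self sympForm_add_left sympForm_add_right sympForm_smul_left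
  sympForm_smul_right sympForm_swap)
open scoped MatrixGroups Matrix Kronecker

variable {F : Type*} [Field F] [Fintype F]

/-- A family `1 + c N'` (`N' ≠ 0`, `N'² = 0`) of matrices, each a scalar multiple of a matrix over `F₀`, forces
`F₀ = ⊤` when `|F| ≥ 3`. -/
theorem subfield_eq_top_of_unipotent_family {ι : Type} [Fintype ι] [DecidableEq ι] (h3 : 2 < Fintype.card F)
    (F₀ : Subfield F) (N' : Matrix ι ι F) (hN0 : N' ≠ 0) (hNN : N' * N' = 0)
    (hfam : ∀ c : F, ∃ (g₀ : Matrix ι ι F₀) (l : F), ∀ a b, (1 + c • N') a b = ((g₀ a b : F₀) : F) * l) :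
    F₀ = ⊤ := by
  classical
  -- an off-diagonal non-zero entry
  obtain ⟨a, b, hab, hβ⟩ : ∃ a b, a ≠ b ∧ N' a b ≠ 0 := by
    by_contra hcon
    push Not at hcon
    apply hN0
    ext i j
    by_cases hij : i = j
    · subst hij
      have h1 := congrFun (congrFun hNN i) i
      rw [Matrix.mul_apply, Matrix.zero_apply, Finset.sum_eq_single i] at h1
      · exact mul_self_eq_zero.1 h1
      · intro k _ hk
        rw [hcon i k (Ne.symm hk), zero_mul]
      · intro h; exact absurd (Finset.mem_univ i) h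
    · exact hcon i j hij
  set α : F := N' a a with hα
  set β : F := N' a b with hβ'
  -- the ratios lie in `F₀`
  have hρ : ∀ c : F, c ≠ 0 → (1 + c * α) / (c * β) ∈ F₀ := by
    intro c hc
    obtain ⟨g₀, l, hg⟩ := hfam c
    have h1 := hg a a
    have h2 := hg a b
    rw [Matrix.add_apply, Matrix.smul_apply, smul_eq_mul, Matrix.one_apply_eq] at h1
    rw [Matrix.add_apply, Matrix.smul_apply, smul_eq_mul, Matrix.one_apply_ne hab, zero_add] at h2
    have hcβ : c * β ≠ 0 := mul_ne_zero hc hβ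
    have hl : l ≠ 0 := by
      rintro rfl
      rw [mul_zero] at h2
      exact hcβ h2
    have hgab : ((g₀ a b : F₀) : F) ≠ 0 := by
      intro h0
      rw [h0, zero_mul] at h2
      exact hcβ h2
    have h3 : (1 + c * α) / (c * β) = ((g₀ a a : F₀) : F) / ((g₀ a b : F₀) : F) := by
      rw [← hα] at h1
      rw [← hβ'] at h2
      rw [h1, h2]
      field_simp
    rw [h3]
    exact F₀.div_mem (SetLike.coe_mem _) (SetLike.coe_mem _)
  have ht : ∀ t : F, t ≠ 0 → (t + α) / β ∈ F₀ := by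
    intro t ht
    have := hρ t⁻¹ (inv_ne_zero ht)
    have h4 : (1 + t⁻¹ * α) / (t⁻¹ * β) = (t + α) / β := by
      field_simp
    rwa [h4] at this
  have hs : ∀ s : F, s / β ∈ F₀ := by
    intro s
    obtain ⟨t, ht0⟩ : ∃ t : F, t ∉ ({0, -s} : Finset F) := by
      by_contra hcon
      push Not at hcon
      have h5 : (Finset.univ : Finset F) ⊆ {0, -s} := fun x _ => hcon x
      have h6 := Finset.card_le_card h5
      have h7 : ({0, -s} : Finset F).card ≤ 2 := Finset.card_le_two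
      rw [Finset.card_univ] at h6
      omega
    rw [Finset.mem_insert, Finset.mem_singleton, not_or] at ht0
    have h8 : t + s ≠ 0 := fun h => ht0.2 (eq_neg_of_add_eq_zero_left h)
    have h9 := F₀.sub_mem (ht (t + s) h8) (ht t ht0.1)
    have h10 : (t + s + α) / β - (t + α) / β = s / β := by
      field_simp
      ring
    rwa [h10] at h9
  rw [eq_top_iff]
  intro s _
  have := hs (s * β)
  rwa [mul_div_cancel_right₀ _ hβ] at this

variable {m : ℕ}

/-- **SP2-B5**. -/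
theorem not_sp_le_subfieldSubgroup (hm : 1 ≤ m) (F₀ : Subfield F) (r : ℕ) (P : GL (Fin m ⊕ Fin m) F)
    (hr : r.Prime) (hcard : Fintype.card F = Nat.card F₀ ^ r) : ¬ spGL m F ≤ subfieldSubgroup F₀ P := by
  classical
  intro hle
  have hF₀2 : 2 ≤ Nat.card F₀ := by
    have : Fintype F₀ := Fintype.ofFinite F₀
    rw [Nat.card_eq_fintype_card]
    exact Fintype.one_lt_card
  have hr2 := hr.two_le
  have h3 : 2 < Fintype.card F := by
    rw [hcard]
    calc 2 < 2 ^ 2 := by norm_num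
      _ ≤ Nat.card F₀ ^ 2 := Nat.pow_le_pow_left hF₀2 2
      _ ≤ Nat.card F₀ ^ r := Nat.pow_le_pow_right (by omega) hr2
  set u : Fin m ⊕ Fin m → F := eb (Sum.inl ⟨0, by omega⟩) with hu
  have hu0 : u ≠ 0 := eb_ne_zero _
  set N : Matrix (Fin m ⊕ Fin m) (Fin m ⊕ Fin m) F :=
    Matrix.vecMulVec u (Matrix.J (Fin m) F *ᵥ u) with hN
  have hst : ∀ c : F, ((stv u c : GL (Fin m ⊕ Fin m) F) : Matrix (Fin m ⊕ Fin m) (Fin m ⊕ Fin m) F) =
      1 + c • N := fun c => rfl
  have hNx : ∀ x : Fin m ⊕ Fin m → F, N *ᵥ x = sympForm m F x u • u := by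
    intro x
    have h1 := stv_mulVec u (1 : F) x
    rw [hst, Matrix.add_mulVec, Matrix.one_mulVec, one_smul, one_mul] at h1
    exact add_left_cancel h1
  have hNN : N * N = 0 := by
    apply Matrix.mulVec_injective
    funext x
    rw [← Matrix.mulVec_mulVec, hNx x, Matrix.mulVec_smul, hNx u, sympForm_self, zero_smul, smul_zero,
      Matrix.zero_mulVec]
  have hN0 : N ≠ 0 := by
    intro h0
    obtain ⟨y, hy⟩ := exists_sympForm_ne u hu0
    have h1 := hNx y
    rw [h0, Matrix.zero_mulVec] at h1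
    have h2 : sympForm m F y u ≠ 0 := sympForm_ne_swap hy
    exact hu0 ((smul_eq_zero.1 h1.symm).resolve_left h2)
  set Pm : Matrix (Fin m ⊕ Fin m) (Fin m ⊕ Fin m) F := (P : Matrix (Fin m ⊕ Fin m) (Fin m ⊕ Fin m) F) with hPm
  set Pi' : Matrix (Fin m ⊕ Fin m) (Fin m ⊕ Fin m) F :=
    ((P⁻¹ : GL (Fin m ⊕ Fin m) F) : Matrix (Fin m ⊕ Fin m) (Fin m ⊕ Fin m) F) with hPi
  have hPP : Pi' * Pm = 1 := by rw [hPi, hPm, ← Units.val_mul, inv_mul_cancel, Units.val_one]
  have hPP' : Pm * Pi' = 1 := by rw [hPi, hPm, ← Units.val_mul, mul_inv_cancel, Units.val_one]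
  set N' : Matrix (Fin m ⊕ Fin m) (Fin m ⊕ Fin m) F := Pi' * N * Pm with hN'
  have hN'N' : N' * N' = 0 := by
    calc N' * N' = Pi' * N * (Pm * Pi') * N * Pm := by rw [hN']; simp only [Matrix.mul_assoc]
      _ = Pi' * (N * N) * Pm := by rw [hPP', Matrix.mul_one]; simp only [Matrix.mul_assoc]
      _ = 0 := by rw [hNN, Matrix.mul_zero, Matrix.zero_mul]
  have hN'0 : N' ≠ 0 := by
    intro h0
    apply hN0
    calc N = (Pm * Pi') * N * (Pm * Pi') := by rw [hPP', Matrix.one_mul, Matrix.mul_one]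
      _ = Pm * N' * Pi' := by rw [hN']; simp only [Matrix.mul_assoc]
      _ = 0 := by rw [h0, Matrix.mul_zero, Matrix.zero_mul]
  have hfam : ∀ c : F, ∃ (g₀ : Matrix (Fin m ⊕ Fin m) (Fin m ⊕ Fin m) F₀) (l : F), ∀ a b,
      (1 + c • N') a b = ((g₀ a b : F₀) : F) * l := by
    intro c
    have hmem := hle (stv_mem_spGL u c)
    unfold subfieldSubgroup at hmem
    obtain ⟨x, hx, hxe⟩ := Subgroup.mem_map.mp hmem
    have hxτ : x = P⁻¹ * stv u c * P := by
      have : P * x * P⁻¹ = stv u c := hxe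
      rw [← this]
      group
    obtain ⟨y, hy, z, hz, hyz⟩ := Subgroup.mem_sup_of_normal_right.mp hx
    obtain ⟨g0, rfl⟩ := hy
    obtain ⟨l, hl⟩ := (mem_scalars_iff z).mp hz
    refine ⟨(g0 : Matrix (Fin m ⊕ Fin m) (Fin m ⊕ Fin m) F₀), (l : F), ?_⟩
    have hmat : (1 + c • N' : Matrix (Fin m ⊕ Fin m) (Fin m ⊕ Fin m) F) =
        ((Matrix.GeneralLinearGroup.map (F₀.subtype : F₀ →+* F) g0 : GL (Fin m ⊕ Fin m) F) :
          Matrix (Fin m ⊕ Fin m) (Fin m ⊕ Fin m) F) *
            ((l : F) • (1 : Matrix (Fin m ⊕ Fin m) (Fin m ⊕ Fin m) F)) := by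
      rw [← hl, ← Units.val_mul, hyz, hxτ, Units.val_mul, Units.val_mul, hst, ← hPi, ← hPm, hN',
        Matrix.mul_add, Matrix.add_mul, Matrix.mul_one, hPP, Matrix.mul_smul, Matrix.smul_mul]
    intro a b
    rw [hmat, Matrix.mul_smul, Matrix.mul_one, Matrix.smul_apply, smul_eq_mul, mul_comm]
    rfl
  have htop : F₀ = ⊤ := subfield_eq_top_of_unipotent_family h3 F₀ N' hN'0 hN'N' hfam
  have hcardF₀ : Nat.card F₀ = Fintype.card F := by
    rw [htop, ← Nat.card_eq_fintype_card]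
    exact Nat.card_congr (Subfield.topEquiv (K := F)).toEquiv
  rw [hcardF₀] at hcard
  have h2 : 2 ≤ Fintype.card F := Fintype.one_lt_card
  have : Fintype.card F ^ 1 < Fintype.card F ^ r := Nat.pow_lt_pow_right h2 hr2
  rw [pow_one] at this
  omega

end Cfsg.Agent.Lib.H25.AschSP2
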