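import Mathlib
import Cfsg.Prelude.Def_OddOrderLocal
import Cfsg.Prelude.Def_CaseTheorems
import Cfsg.Prelude.Def_PLocal
import Cfsg.Agent.Lib.H19.R2Defs
import Cfsg.Agent.Lib.H18.PGroupP4

/-!
# S3888 piece R2 B5 (helper25): `mnm_exists_max`

With the data `Gam p G u v`, `|γ₃ : γ₄| ≤ p` and `γ₃ ≠ 1`, there is a maximal subgroup `M` with
`M' = γ₃`.
-/

set_option autoImplicit false

namespace Cfsg.Agent.Lib.H25.R2

open Cfsg Cfsg.Agent.Lib.H19.R2
open scoped commutatorElement

universe u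

section general

variable {G : Type*} [Group G]

theorem b5_comm_mem_iff (N : Subgroup G) [N.Normal] (a g : G) :
    ⁅a, g⁆ ∈ N ↔ (a : G ⧸ N) * (g : G ⧸ N) = (g : G ⧸ N) * (a : G ⧸ N) := by
  rw [← QuotientGroup.eq_one_iff, ← commutatorElement_eq_one_iff_mul_comm]
  exact Iff.rfl

theorem b5_comm_mem_symm (N : Subgroup G) {a g : G} (h : ⁅a, g⁆ ∈ N) : ⁅g, a⁆ ∈ N := by
  have h1 : ⁅g, a⁆ = ⁅a, g⁆⁻¹ := (commutatorElement_inv a g).symm
  rw [h1]
  exact N.inv_mem h

/-- the elements central modulo `N` -/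
def b5Cen (N : Subgroup G) [N.Normal] : Subgroup G :=
  (Subgroup.center (G ⧸ N)).comap (QuotientGroup.mk' N)

theorem b5_mem_cen {N : Subgroup G} [N.Normal] {x : G} : x ∈ b5Cen N ↔ ∀ g : G, ⁅x, g⁆ ∈ N := by
  unfold b5Cen
  rw [Subgroup.mem_comap, Subgroup.mem_center_iff]
  constructor
  · intro h g
    rw [b5_comm_mem_iff]
    exact (h (g : G ⧸ N)).symm
  · intro h q
    obtain ⟨g, rfl⟩ := QuotientGroup.mk_surjective q
    exact ((b5_comm_mem_iff N x g).mp (h g)).symm

/-- the elements commuting with `a` modulo `N` -/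
def b5Cent (N : Subgroup G) [N.Normal] (a : G) : Subgroup G :=
  (Subgroup.centralizer {(a : G ⧸ N)}).comap (QuotientGroup.mk' N)

theorem b5_mem_cent {N : Subgroup G} [N.Normal] {a g : G} : g ∈ b5Cent N a ↔ ⁅a, g⁆ ∈ N := by
  unfold b5Cent
  rw [Subgroup.mem_comap, Subgroup.mem_centralizer_iff, b5_comm_mem_iff]
  constructor
  · intro h
    exact h _ (Set.mem_singleton _)
  · intro h x hx
    rw [Set.mem_singleton_iff] at hx
    rw [hx]
    exact h

theorem b5_normal_le_cen (N K : Subgroup G) [N.Normal] [K.Normal] (h : K ≤ N) : K ≤ b5Cen N := by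
  intro x hx
  rw [b5_mem_cen]
  intro g
  apply h
  have h1 : ⁅x, g⁆ = x * (g * x⁻¹ * g⁻¹) := by rw [commutatorElement_def]; group
  rw [h1]
  exact K.mul_mem hx (Subgroup.Normal.conj_mem inferInstance _ (K.inv_mem hx) g)

theorem b5_comm_le_cen (N C : Subgroup G) [N.Normal] (h : ⁅C, (⊤ : Subgroup G)⁆ ≤ N) :
    C ≤ b5Cen N := by
  intro x hx
  rw [b5_mem_cen]
  intro g
  exact h (Subgroup.commutator_mem_commutator hx (Subgroup.mem_top g))

/-- a subgroup generated by one element and a subgroup central modulo `N` is abelian modulo `N` -/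
theorem b5_comm_mem_of_sup (N : Subgroup G) [N.Normal] (w : G) (C : Subgroup G)
    (hC : C ≤ b5Cen N) :
    ∀ x ∈ Subgroup.zpowers w ⊔ C, ∀ y ∈ Subgroup.zpowers w ⊔ C, ⁅x, y⁆ ∈ N := by
  have h1 : Subgroup.zpowers w ⊔ C ≤ b5Cent N w := by
    refine sup_le ?_ ?_
    · rw [Subgroup.zpowers_le, b5_mem_cent, commutatorElement_self]
      exact N.one_mem
    · intro d hd
      rw [b5_mem_cent]
      exact b5_comm_mem_symm N (b5_mem_cen.mp (hC hd) w)
  intro x hx y hy
  have h2 : Subgroup.zpowers w ⊔ C ≤ b5Cent N y := by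
    refine sup_le ?_ ?_
    · rw [Subgroup.zpowers_le, b5_mem_cent]
      exact b5_comm_mem_symm N (b5_mem_cent.mp (h1 hy))
    · intro d hd
      rw [b5_mem_cent]
      exact b5_comm_mem_symm N (b5_mem_cen.mp (hC hd) y)
  exact b5_comm_mem_symm N (b5_mem_cent.mp (h2 hx))

/-- `K ⊴ G`, `K ≤ γᵢ`, `K γᵢ₊₁ = γᵢ` ⇒ `K = γᵢ` in a nilpotent group -/
theorem b5_eq_lcs_of_sup [Group.IsNilpotent G] (K : Subgroup G) [K.Normal] (i : ℕ)
    (hsup : K ⊔ (⊤ : Subgroup G).lowerCentralSeries (i + 1) = (⊤ : Subgroup G).lowerCentralSeries i) :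
    K = (⊤ : Subgroup G).lowerCentralSeries i := by
  have hK : K ≤ (⊤ : Subgroup G).lowerCentralSeries i := hsup ▸ le_sup_left
  have hstep : ∀ k : ℕ, K ⊔ (⊤ : Subgroup G).lowerCentralSeries (i + 1 + k)
      = (⊤ : Subgroup G).lowerCentralSeries i := by
    intro k
    induction k with
    | zero => exact hsup
    | succ k ih =>
      apply le_antisymm
      · refine sup_le hK (Subgroup.lowerCentralSeries_antitone _ (by omega))
      · have h1 : (⊤ : Subgroup G).lowerCentralSeries (i + 1)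
            ≤ K ⊔ (⊤ : Subgroup G).lowerCentralSeries (i + 1 + (k + 1)) := by
          rw [Subgroup.lowerCentralSeries_succ, ← ih, Subgroup.commutator_le]
          intro x hx g _
          have h2 : K ⊔ (⊤ : Subgroup G).lowerCentralSeries (i + 1 + k)
              ≤ b5Cen (K ⊔ (⊤ : Subgroup G).lowerCentralSeries (i + 1 + (k + 1))) := by
            refine sup_le (b5_normal_le_cen _ K le_sup_left) ?_
            apply b5_comm_le_cen
            rw [← Subgroup.lowerCentralSeries_succ]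
            exact le_sup_right
          exact b5_mem_cen.mp (h2 hx) g
        calc (⊤ : Subgroup G).lowerCentralSeries i
            = K ⊔ (⊤ : Subgroup G).lowerCentralSeries (i + 1) := hsup.symm
          _ ≤ K ⊔ (K ⊔ (⊤ : Subgroup G).lowerCentralSeries (i + 1 + (k + 1))) :=
            sup_le_sup_left h1 K
          _ = K ⊔ (⊤ : Subgroup G).lowerCentralSeries (i + 1 + (k + 1)) := by
            rw [← sup_assoc, sup_idem]
  obtain ⟨n, hn⟩ := Subgroup.nilpotent_iff_lowerCentralSeries.1 (inferInstance : Group.IsNilpotent G)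
  have h3 : (⊤ : Subgroup G).lowerCentralSeries (i + 1 + n) = ⊥ := by
    rw [eq_bot_iff, ← hn]
    exact Subgroup.lowerCentralSeries_antitone _ (by omega)
  have := hstep n
  rwa [h3, sup_bot_eq] at this

/-- if `⟨w⟩ G' = G` then `G / G'` is cyclic -/
theorem b5_isCyclic_of_sup (w : G) (h : Subgroup.zpowers w ⊔ commutator G = ⊤) :
    IsCyclic (G ⧸ commutator G) := by
  rw [isCyclic_iff_exists_zpowers_eq_top]
  refine ⟨(w : G ⧸ commutator G), ?_⟩
  rw [eq_top_iff]
  rintro q -
  obtain ⟨g, rfl⟩ := QuotientGroup.mk_surjective q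
  have hg : g ∈ ((Subgroup.zpowers w ⊔ commutator G : Subgroup G) : Set G) := by
    rw [h]; exact Set.mem_univ g
  rw [Subgroup.mul_normal] at hg
  obtain ⟨a, ha, d, hd, rfl⟩ := hg
  obtain ⟨k, rfl⟩ := Subgroup.mem_zpowers_iff.mp ha
  have hd1 : ((d : G) : G ⧸ commutator G) = 1 := (QuotientGroup.eq_one_iff d).mpr hd
  rw [QuotientGroup.mk_mul, hd1, mul_one, QuotientGroup.mk_zpow]
  exact Subgroup.zpow_mem_zpowers _ k

end general

variable {p : ℕ} [Fact p.Prime] {G : Type u} [Group G] [Finite G]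

/-- **B5.** -/
theorem mnm_exists_max (hG : IsPGroup p G) {u v : G} (hg : Gam p G u v)
    (h4 : Nat.card ↥((⊤ : Subgroup G).lowerCentralSeries 2) ≤
      p * Nat.card ↥((⊤ : Subgroup G).lowerCentralSeries 3))
    (hne : (⊤ : Subgroup G).lowerCentralSeries 2 ≠ ⊥) :
    ∃ M : Subgroup G, M.index = p ∧ ⁅M, M⁆ = (⊤ : Subgroup G).lowerCentralSeries 2 := by
  have hpp : p.Prime := Fact.out
  have : Group.IsNilpotent G := hG.isNilpotent
  have hcG' : ⁅u, v⁆ ∈ commutator G := by
    rw [commutator_def]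
    exact Subgroup.commutator_mem_commutator (Subgroup.mem_top u) (Subgroup.mem_top v)
  have hL32 : (⊤ : Subgroup G).lowerCentralSeries 3 ≤ (⊤ : Subgroup G).lowerCentralSeries 2 :=
    Subgroup.lowerCentralSeries_antitone _ (by norm_num)
  have hL2G' : (⊤ : Subgroup G).lowerCentralSeries 2 ≤ commutator G := by
    rw [← Subgroup.top_lowerCentralSeries_one]
    exact Subgroup.lowerCentralSeries_antitone _ (by norm_num)
  have hG'cen : commutator G ≤ b5Cen ((⊤ : Subgroup G).lowerCentralSeries 2) := by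
    apply b5_comm_le_cen
    rw [← Subgroup.top_lowerCentralSeries_one, ← Subgroup.lowerCentralSeries_succ]
  -- Step 1
  obtain ⟨w, w', hww', hcw⟩ : ∃ w w' : G, Subgroup.closure ({w, w'} : Set G) = ⊤ ∧
      ⁅⁅u, v⁆, w⁆ ∉ (⊤ : Subgroup G).lowerCentralSeries 3 := by
    by_contra hcon
    have hu : ⁅⁅u, v⁆, u⁆ ∈ (⊤ : Subgroup G).lowerCentralSeries 3 :=
      by_contra fun h => hcon ⟨u, v, hg.gen, h⟩
    have hv : ⁅⁅u, v⁆, v⁆ ∈ (⊤ : Subgroup G).lowerCentralSeries 3 :=
      by_contra fun h => hcon ⟨v, u, by rw [Set.pair_comm]; exact hg.gen, h⟩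
    have hcall : ∀ g : G, ⁅⁅u, v⁆, g⁆ ∈ (⊤ : Subgroup G).lowerCentralSeries 3 := by
      intro g
      rw [← b5_mem_cent]
      have h1 : Subgroup.closure ({u, v} : Set G)
          ≤ b5Cent ((⊤ : Subgroup G).lowerCentralSeries 3) ⁅u, v⁆ := by
        rw [Subgroup.closure_le]
        rintro x (rfl | rfl)
        · exact b5_mem_cent.mpr hu
        · exact b5_mem_cent.mpr hv
      exact h1 (hg.gen ▸ Subgroup.mem_top g)
    have hcc : ⁅u, v⁆ ∈ b5Cen ((⊤ : Subgroup G).lowerCentralSeries 3) := b5_mem_cen.mpr hcall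
    have hL2c : (⊤ : Subgroup G).lowerCentralSeries 2
        ≤ b5Cen ((⊤ : Subgroup G).lowerCentralSeries 3) := by
      apply b5_comm_le_cen
      rw [← Subgroup.lowerCentralSeries_succ]
    have hG'c : commutator G ≤ b5Cen ((⊤ : Subgroup G).lowerCentralSeries 3) := by
      rw [hg.comm]
      exact sup_le (Subgroup.zpowers_le.mpr hcc) hL2c
    have hL2L3 : (⊤ : Subgroup G).lowerCentralSeries 2 ≤ (⊤ : Subgroup G).lowerCentralSeries 3 := by
      change ⁅(⊤ : Subgroup G).lowerCentralSeries 1, (⊤ : Subgroup G)⁆ ≤ _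
      rw [Subgroup.top_lowerCentralSeries_one, Subgroup.commutator_le]
      intro d hd g _
      exact b5_mem_cen.mp (hG'c hd) g
    exact hne (Cfsg.Agent.Lib.H18.lcs_eq_bot_of_succ_eq 2 (le_antisymm hL32 hL2L3))
  -- Step 2
  have hMn : (Subgroup.zpowers w ⊔ commutator G).Normal := by
    constructor
    intro n hn g
    have h1 : ⁅g, n⁆ ∈ commutator G := by
      rw [commutator_def]
      exact Subgroup.commutator_mem_commutator (Subgroup.mem_top g) (Subgroup.mem_top n)
    have h2 : g * n * g⁻¹ = ⁅g, n⁆ * n := by rw [commutatorElement_def]; group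
    rw [h2]
    exact Subgroup.mul_mem _ (le_sup_right (a := Subgroup.zpowers w) h1) hn
  have hMne : Subgroup.zpowers w ⊔ commutator G ≠ ⊤ := by
    intro h
    have h1 := Cfsg.Agent.Lib.H18.commutator_le_lcs_two_of_isCyclic (b5_isCyclic_of_sup w h)
    exact hg.cnot (h1 hcG')
  have hw'p : w' ^ p ∈ Subgroup.zpowers w ⊔ commutator G :=
    le_sup_right (a := Subgroup.zpowers w) (hL2G' (hg.pow w'))
  have hidx : (Subgroup.zpowers w ⊔ commutator G).index = p := by
    have hgen : Subgroup.zpowers ((w' : G) : G ⧸ (Subgroup.zpowers w ⊔ commutator G)) = ⊤ := by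
      rw [eq_top_iff]
      rintro q -
      obtain ⟨g, rfl⟩ := QuotientGroup.mk_surjective q
      have hg' : g ∈ Subgroup.closure ({w, w'} : Set G) := hww' ▸ Subgroup.mem_top g
      induction hg' using Subgroup.closure_induction with
      | mem t ht =>
        rcases ht with ht | ht
        · have h1 : ((t : G) : G ⧸ (Subgroup.zpowers w ⊔ commutator G)) = 1 := by
            rw [ht]
            exact (QuotientGroup.eq_one_iff _).mpr
              (le_sup_left (b := commutator G) (Subgroup.mem_zpowers w))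
          rw [h1]; exact Subgroup.one_mem _
        · rw [Set.mem_singleton_iff] at ht
          rw [ht]; exact Subgroup.mem_zpowers _
      | one => exact Subgroup.one_mem _
      | mul x y _ _ hx hy => rw [QuotientGroup.mk_mul]; exact Subgroup.mul_mem _ hx hy
      | inv x _ hx => rw [QuotientGroup.mk_inv]; exact Subgroup.inv_mem _ hx
    have hpw : ((w' : G) : G ⧸ (Subgroup.zpowers w ⊔ commutator G)) ^ p = 1 := by
      rw [← QuotientGroup.mk_pow]
      exact (QuotientGroup.eq_one_iff _).mpr hw'p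
    have hcard : Nat.card (G ⧸ (Subgroup.zpowers w ⊔ commutator G))
        = orderOf ((w' : G) : G ⧸ (Subgroup.zpowers w ⊔ commutator G)) := by
      rw [← Nat.card_zpowers, hgen, Subgroup.card_top]
    have hdvd : (Subgroup.zpowers w ⊔ commutator G).index ∣ p := by
      rw [Subgroup.index_eq_card, hcard]
      exact orderOf_dvd_of_pow_eq_one hpw
    rcases (Nat.dvd_prime hpp).mp hdvd with h1 | h1
    · exact absurd (Subgroup.index_eq_one.mp h1) hMne
    · exact h1
  refine ⟨Subgroup.zpowers w ⊔ commutator G, hidx, ?_⟩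
  -- Step 3
  have hM'le : ⁅Subgroup.zpowers w ⊔ commutator G, Subgroup.zpowers w ⊔ commutator G⁆
      ≤ (⊤ : Subgroup G).lowerCentralSeries 2 := by
    rw [Subgroup.commutator_le]
    exact b5_comm_mem_of_sup _ w _ hG'cen
  have hcwM' : ⁅⁅u, v⁆, w⁆
      ∈ ⁅Subgroup.zpowers w ⊔ commutator G, Subgroup.zpowers w ⊔ commutator G⁆ :=
    Subgroup.commutator_mem_commutator (le_sup_right (a := Subgroup.zpowers w) hcG')
      (le_sup_left (b := commutator G) (Subgroup.mem_zpowers w))
  -- Step 4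
  have hsup : ⁅Subgroup.zpowers w ⊔ commutator G, Subgroup.zpowers w ⊔ commutator G⁆
      ⊔ (⊤ : Subgroup G).lowerCentralSeries (2 + 1) = (⊤ : Subgroup G).lowerCentralSeries 2 := by
    have hle : ⁅Subgroup.zpowers w ⊔ commutator G, Subgroup.zpowers w ⊔ commutator G⁆
        ⊔ (⊤ : Subgroup G).lowerCentralSeries (2 + 1) ≤ (⊤ : Subgroup G).lowerCentralSeries 2 :=
      sup_le hM'le hL32
    apply Subgroup.eq_of_le_of_card_ge hle
    have hlt : (⊤ : Subgroup G).lowerCentralSeries (2 + 1)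
        < ⁅Subgroup.zpowers w ⊔ commutator G, Subgroup.zpowers w ⊔ commutator G⁆
          ⊔ (⊤ : Subgroup G).lowerCentralSeries (2 + 1) := by
      refine lt_of_le_of_ne le_sup_right ?_
      intro h
      exact hcw (h ▸ le_sup_left (b := (⊤ : Subgroup G).lowerCentralSeries (2 + 1)) hcwM')
    obtain ⟨n, hn⟩ := (IsPGroup.iff_card).mp hG
    obtain ⟨a, -, ha⟩ := (Nat.dvd_prime_pow hpp).mp (hn ▸ Subgroup.card_subgroup_dvd_card
      (⁅Subgroup.zpowers w ⊔ commutator G, Subgroup.zpowers w ⊔ commutator G⁆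
          ⊔ (⊤ : Subgroup G).lowerCentralSeries (2 + 1)))
    obtain ⟨b, -, hb⟩ := (Nat.dvd_prime_pow hpp).mp (hn ▸ Subgroup.card_subgroup_dvd_card
      ((⊤ : Subgroup G).lowerCentralSeries (2 + 1)))
    have hcl := Cfsg.Agent.Lib.H18.card_lt_of_lt hlt
    rw [ha, hb] at hcl
    have hba : b < a := (Nat.pow_lt_pow_iff_right hpp.one_lt).mp hcl
    calc Nat.card ↥((⊤ : Subgroup G).lowerCentralSeries 2)
        ≤ p * Nat.card ↥((⊤ : Subgroup G).lowerCentralSeries 3) := h4
      _ = p ^ (b + 1) := by rw [show (3 : ℕ) = 2 + 1 from rfl, hb, pow_succ']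
      _ ≤ p ^ a := Nat.pow_le_pow_right hpp.pos hba
      _ = _ := ha.symm
  -- Step 5
  have : (⁅Subgroup.zpowers w ⊔ commutator G, Subgroup.zpowers w ⊔ commutator G⁆).Normal :=
    Subgroup.commutator_normal _ _
  exact b5_eq_lcs_of_sup _ 2 hsup

end Cfsg.Agent.Lib.H25.R2
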