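import Mathlib
import Cfsg.Prelude.Def_CaseTheorems
import Cfsg.Agent.Lib.H9.PolySeq
import Cfsg.Agent.Lib.H22.LowerCentralP
import Cfsg.Agent.Lib.H18.PGroupP4
import Cfsg.Agent.Lib.H25.R2B5
import Cfsg.Agent.Lib.H6.MCSNORM
import Cfsg.Agent.Lib.H6.MCSAVOID
import Cfsg.Agent.Lib.H22.MCSCARD

/-!
# S3806 piece MCS EXP (helper25): in a `p`-group of maximal class and order `p^(2k+1)` with `p ≥ k+2`,
`γ_k` has exponent `p`.
-/

set_option autoImplicit false

namespace Cfsg.Agent.Lib.H25.MCS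

open scoped commutatorElement
open Cfsg.Agent.Lib.H25.R2 Cfsg.Agent.Lib.H6.MCS Cfsg.Agent.Lib.H22.MCS

section general

variable {T : Type*} [Group T]

/-- `H` is generated by `g` and a subgroup `C` whose elements commute with `H` modulo `N`:
then `H` is abelian modulo `N`. -/
theorem mcs_comm_mem_of_gen (N : Subgroup T) [N.Normal] (H C : Subgroup T) (g : T) (hg : g ∈ H)
    (hH : H ≤ Subgroup.zpowers g ⊔ C) (hC : ∀ c ∈ C, ∀ h ∈ H, ⁅c, h⁆ ∈ N) :
    ∀ x ∈ H, ∀ y ∈ H, ⁅x, y⁆ ∈ N := by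
  have h1 : ∀ y ∈ H, ⁅g, y⁆ ∈ N := by
    intro y hy
    have : Subgroup.zpowers g ⊔ C ≤ b5Cent N g := by
      refine sup_le ?_ ?_
      · rw [Subgroup.zpowers_le, b5_mem_cent, commutatorElement_self]
        exact N.one_mem
      · intro c hc
        rw [b5_mem_cent]
        exact b5_comm_mem_symm N (hC c hc g hg)
    exact b5_mem_cent.mp (this (hH hy))
  intro x hx y hy
  have h2 : Subgroup.zpowers g ⊔ C ≤ b5Cent N y := by
    refine sup_le ?_ ?_
    · rw [Subgroup.zpowers_le, b5_mem_cent]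
      exact b5_comm_mem_symm N (h1 y hy)
    · intro c hc
      rw [b5_mem_cent]
      exact b5_comm_mem_symm N (hC c hc y hy)
  exact b5_comm_mem_symm N (b5_mem_cent.mp (h2 (hH hx)))

variable [Finite T] {p : ℕ} [hp : Fact p.Prime]

/-- a subgroup of index `p` is generated over it by any outside element -/
theorem mcs_sup_eq (hP : IsPGroup p T) (H K : Subgroup T) (hKH : K ≤ H)
    (hc : Nat.card H = p * Nat.card K) (a : T) (haH : a ∈ H) (haK : a ∉ K) :
    Subgroup.zpowers a ⊔ K = H := by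
  have hle : Subgroup.zpowers a ⊔ K ≤ H := sup_le (Subgroup.zpowers_le.mpr haH) hKH
  have hlt : K < Subgroup.zpowers a ⊔ K := by
    refine lt_of_le_of_ne le_sup_right ?_
    intro h
    exact haK (h ▸ le_sup_left (b := K) (Subgroup.mem_zpowers a))
  have h1 := Cfsg.Agent.Lib.H22.prime_mul_card_le_of_lt hP hlt
  exact Subgroup.eq_of_le_of_card_ge hle (by rw [hc]; exact h1)

end general

section main

variable {T : Type*} [Group T]

/-- the two-step centralizer `C_T(γ_{i+1} / γ_{i+3})` -/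
def mcsD (T : Type*) [Group T] (i : ℕ) : Subgroup T :=
  ⨅ x ∈ (⊤ : Subgroup T).lowerCentralSeries i,
    b5Cent ((⊤ : Subgroup T).lowerCentralSeries (i + 2)) x

theorem mem_mcsD {i : ℕ} {g : T} : g ∈ mcsD T i ↔ ∀ x ∈ (⊤ : Subgroup T).lowerCentralSeries i, ⁅x, g⁆ ∈ (⊤ : Subgroup T).lowerCentralSeries (i + 2) := by
  unfold mcsD
  simp only [Subgroup.mem_iInf, b5_mem_cent]

theorem lcs_one_le_mcsD (i : ℕ) : (⊤ : Subgroup T).lowerCentralSeries 1 ≤ mcsD T i := by
  intro g hg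
  rw [mem_mcsD]
  intro x hx
  have h1 := Cfsg.Agent.Lib.H9.PolySeq.commutator_lcs_le (G := T) 1 i
  exact h1 (Subgroup.commutator_mem_commutator hx hg)

theorem mcsD_ne_top [Group.IsNilpotent T] (i : ℕ) (h : (⊤ : Subgroup T).lowerCentralSeries (i + 1) ≠ ⊥) : mcsD T i ≠ ⊤ := by
  intro htop
  have h1 : (⊤ : Subgroup T).lowerCentralSeries (i + 1) ≤ (⊤ : Subgroup T).lowerCentralSeries (i + 1 + 1) := by
    rw [Subgroup.lowerCentralSeries_succ _ i, Subgroup.commutator_le]
    intro x hx g _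
    have hg : g ∈ mcsD T i := htop ▸ Subgroup.mem_top g
    exact mem_mcsD.mp hg x hx
  have h2 : (⊤ : Subgroup T).lowerCentralSeries (i + 1 + 1) = (⊤ : Subgroup T).lowerCentralSeries (i + 1) :=
    le_antisymm (Subgroup.lowerCentralSeries_antitone _ (Nat.le_succ _)) h1
  exact h (Cfsg.Agent.Lib.H18.lcs_eq_bot_of_succ_eq (i + 1) h2)

theorem comm_mem_lcs_succ {j : ℕ} {b : T} (hb : b ∈ (⊤ : Subgroup T).lowerCentralSeries j) (s : T) : ⁅b, s⁆ ∈ (⊤ : Subgroup T).lowerCentralSeries (j + 1) := by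
  rw [Subgroup.lowerCentralSeries_succ]
  exact Subgroup.commutator_mem_commutator hb (Subgroup.mem_top s)

/-- hypotheses of EXP -/
structure MCHyp (p k : ℕ) (T : Type*) [Group T] : Prop where
  hk : 2 ≤ k
  hpk : k + 2 ≤ p
  card : Nat.card T = p ^ (2 * k + 1)
  mc : (⊤ : Subgroup T).lowerCentralSeries (2 * k - 1) ≠ ⊥

section hyp

variable [Finite T] {p : ℕ} [hp : Fact p.Prime] {k : ℕ}

theorem MCHyp.isPGroup (h : MCHyp p k T) : IsPGroup p T := IsPGroup.of_card h.card

theorem MCHyp.bot (h : MCHyp p k T) : (⊤ : Subgroup T).lowerCentralSeries (2 * k) = ⊥ := by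
  have := Cfsg.Agent.Lib.H22.lcs_eq_bot_of_card (p := p) (G := T) (m := 2 * k + 1) (by have := h.hk; omega) h.card
  simpa using this

theorem MCHyp.le_bot (h : MCHyp p k T) {j : ℕ} (hj : 2 * k ≤ j) : (⊤ : Subgroup T).lowerCentralSeries j = ⊥ := by
  rw [eq_bot_iff, ← h.bot]
  exact Subgroup.lowerCentralSeries_antitone _ hj

theorem MCHyp.ne_bot (h : MCHyp p k T) {j : ℕ} (hj : j ≤ 2 * k - 1) : (⊤ : Subgroup T).lowerCentralSeries j ≠ ⊥ := by
  intro hb
  apply h.mc
  rw [eq_bot_iff, ← hb]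
  exact Subgroup.lowerCentralSeries_antitone _ hj

theorem MCHyp.card_lcs (h : MCHyp p k T) {i : ℕ} (hi1 : 1 ≤ i) (hi : i ≤ 2 * k) :
    Nat.card ↥((⊤ : Subgroup T).lowerCentralSeries i) = p ^ (2 * k - i) := by
  have := card_lcs_of_maxclass (G := T) p (n := 2 * k + 1) (by have := h.hk; omega) h.card
    (by simpa using h.mc) i hi1 (by omega)
  rw [this]
  congr 1

theorem MCHyp.card_succ (h : MCHyp p k T) {i : ℕ} (hi1 : 1 ≤ i) (hi : i ≤ 2 * k - 1) :
    Nat.card ↥((⊤ : Subgroup T).lowerCentralSeries i) = p * Nat.card ↥((⊤ : Subgroup T).lowerCentralSeries (i + 1)) := by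
  have hk := h.hk
  rw [h.card_lcs hi1 (by omega), h.card_lcs (by omega) (by omega), ← pow_succ']
  congr 1
  omega

theorem MCHyp.pow_mem (h : MCHyp p k T) (x : T) : x ^ p ∈ (⊤ : Subgroup T).lowerCentralSeries 1 :=
  pow_mem_commutator_of_maxclass (G := T) p (n := 2 * k + 1) (by have := h.hk; omega) h.card
    (by simpa using h.mc) x

theorem MCHyp.index_lcs_one (h : MCHyp p k T) : ((⊤ : Subgroup T).lowerCentralSeries 1).index = p ^ 2 := by
  have hk := h.hk
  have hpp : p.Prime := hp.out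
  have h1 := Subgroup.card_mul_index ((⊤ : Subgroup T).lowerCentralSeries 1)
  rw [h.card, h.card_lcs le_rfl (by omega)] at h1
  have h2 : p ^ (2 * k - 1) * p ^ 2 = p ^ (2 * k + 1) := by
    rw [← pow_add]; congr 1; omega
  rw [← h2] at h1
  exact Nat.eq_of_mul_eq_mul_left (pow_pos hpp.pos _) h1

/-- Step A: `γ_k` is abelian. -/
theorem MCHyp.comm (h : MCHyp p k T) : ∀ x ∈ (⊤ : Subgroup T).lowerCentralSeries (k - 1), ∀ y ∈ (⊤ : Subgroup T).lowerCentralSeries (k - 1), x * y = y * x := by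
  have hk := h.hk
  have hP := h.isPGroup
  have hc := h.card_succ (i := k - 1) (by omega) (by omega)
  have hlt : (⊤ : Subgroup T).lowerCentralSeries (k - 1 + 1) < (⊤ : Subgroup T).lowerCentralSeries (k - 1) :=
    Cfsg.Agent.Lib.H22.lcs_succ_lt_of_ne_bot (hG := hP.isNilpotent) (k - 1) (h.ne_bot (by omega))
  obtain ⟨g, hg, hgn⟩ := SetLike.exists_of_lt hlt
  have hsup := mcs_sup_eq hP _ _ hlt.le hc g hg hgn
  have key := mcs_comm_mem_of_gen (⊥ : Subgroup T) ((⊤ : Subgroup T).lowerCentralSeries (k - 1)) ((⊤ : Subgroup T).lowerCentralSeries (k - 1 + 1)) g hg hsup.ge ?_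
  · intro x hx y hy
    have := key x hx y hy
    rw [Subgroup.mem_bot, commutatorElement_eq_one_iff_mul_comm] at this
    exact this
  · intro c hc' x hx
    have h1 := Cfsg.Agent.Lib.H9.PolySeq.commutator_lcs_le (G := T) (k - 1) (k - 1 + 1)
    have h2 : (⊤ : Subgroup T).lowerCentralSeries (k - 1 + 1 + (k - 1) + 1) = ⊥ := h.le_bot (by omega)
    rw [h2] at h1
    exact h1 (Subgroup.commutator_mem_commutator hc' hx)

/-- Step 2: outside the first `k` two-step centralizers, `s^p ∈ γ_{k+2}`. -/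
theorem MCHyp.pow_mem_deep (h : MCHyp p k T) (s : T)
    (hs : ∀ i, 1 ≤ i → i ≤ k → s ∉ mcsD T i) : s ^ p ∈ (⊤ : Subgroup T).lowerCentralSeries (k + 1) := by
  have hk := h.hk
  have hP := h.isPGroup
  by_contra hcon
  have hex : ∃ j, s ^ p ∉ (⊤ : Subgroup T).lowerCentralSeries j := ⟨k + 1, hcon⟩
  classical
  have hj₀ := Nat.find_spec hex
  have hmin := fun m => Nat.find_min hex (m := m)
  have hjle : Nat.find hex ≤ k + 1 := Nat.find_le hcon
  have hj2 : 2 ≤ Nat.find hex := by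
    by_contra hlt
    have h01 : Nat.find hex = 0 ∨ Nat.find hex = 1 := by omega
    rcases h01 with h0 | h1
    · rw [h0] at hj₀
      exact hj₀ (Subgroup.mem_top _)
    · rw [h1] at hj₀
      exact hj₀ (h.pow_mem s)
  obtain ⟨i, hi⟩ : ∃ i, Nat.find hex = i + 1 := ⟨Nat.find hex - 1, by omega⟩
  have hi1 : 1 ≤ i := by omega
  have hik : i ≤ k := by omega
  have hin : s ^ p ∈ (⊤ : Subgroup T).lowerCentralSeries i := by
    by_contra hni
    exact hmin i (by omega) hni
  have hout : s ^ p ∉ (⊤ : Subgroup T).lowerCentralSeries (i + 1) := hi ▸ hj₀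
  have hc := h.card_succ (i := i) hi1 (by omega)
  have hle : (⊤ : Subgroup T).lowerCentralSeries (i + 1) ≤ (⊤ : Subgroup T).lowerCentralSeries i := Subgroup.lowerCentralSeries_antitone _ (Nat.le_succ _)
  have hsup := mcs_sup_eq hP _ _ hle hc (s ^ p) hin hout
  apply hs i hi1 hik
  rw [mem_mcsD]
  intro x hx
  have h1 : Subgroup.zpowers (s ^ p) ⊔ (⊤ : Subgroup T).lowerCentralSeries (i + 1) ≤ b5Cent ((⊤ : Subgroup T).lowerCentralSeries (i + 2)) s := by
    refine sup_le ?_ ?_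
    · rw [Subgroup.zpowers_le, b5_mem_cent, commutatorElement_eq_one_iff_commute.mpr
        (Commute.pow_right (Commute.refl s) p)]
      exact Subgroup.one_mem _
    · intro c hc'
      rw [b5_mem_cent]
      exact b5_comm_mem_symm _ (comm_mem_lcs_succ hc' s)
  rw [hsup] at h1
  exact b5_comm_mem_symm _ (b5_mem_cent.mp (h1 hx))

/-- Step 3: the norm argument. -/
theorem MCHyp.comm_pow_eq_one (h : MCHyp p k T) (s : T) (hs : s ^ p ∈ (⊤ : Subgroup T).lowerCentralSeries (k + 1)) :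
    ∀ y ∈ (⊤ : Subgroup T).lowerCentralSeries (k - 2), (y⁻¹ * (s * y * s⁻¹)) ^ p = 1 := by
  have hk := h.hk
  have hpk := h.hpk
  have hpp : p.Prime := hp.out
  have hAc := h.comm
  have hA_le : (⊤ : Subgroup T).lowerCentralSeries (k - 1) ≤ (⊤ : Subgroup T).lowerCentralSeries (k - 2) := Subgroup.lowerCentralSeries_antitone _ (by omega)
  have hform : ∀ b : T, b⁻¹ * (s * b * s⁻¹) = ⁅b⁻¹, s⁆ := by
    intro b; rw [commutatorElement_def]; group
  have hmem : ∀ y ∈ (⊤ : Subgroup T).lowerCentralSeries (k - 2), y⁻¹ * (s * y * s⁻¹) ∈ (⊤ : Subgroup T).lowerCentralSeries (k - 1) := by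
    intro y hy
    rw [hform]
    have := comm_mem_lcs_succ (inv_mem hy) s
    rwa [show k - 2 + 1 = k - 1 by omega] at this
  letI : CommGroup ↥((⊤ : Subgroup T).lowerCentralSeries (k - 1)) :=
    { (inferInstance : Group ↥((⊤ : Subgroup T).lowerCentralSeries (k - 1))) with
      mul_comm := fun a b => Subtype.ext (hAc a.1 a.2 b.1 b.2) }
  let σ : ↥((⊤ : Subgroup T).lowerCentralSeries (k - 1)) →* ↥((⊤ : Subgroup T).lowerCentralSeries (k - 1)) :=
    (MulAut.conjNormal s : MulAut ↥((⊤ : Subgroup T).lowerCentralSeries (k - 1))).toMonoidHom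
  have hσ : ∀ b : ↥((⊤ : Subgroup T).lowerCentralSeries (k - 1)), ((σ b : ↥((⊤ : Subgroup T).lowerCentralSeries (k - 1))) : T) = s * b * s⁻¹ := fun b => rfl
  let τ : ↥((⊤ : Subgroup T).lowerCentralSeries (k - 1)) →* ↥((⊤ : Subgroup T).lowerCentralSeries (k - 1)) :=
    { toFun := fun b => b⁻¹ * σ b
      map_one' := by simp
      map_mul' := fun a b => by rw [map_mul, mul_inv, mul_mul_mul_comm] }
  have hτ : ∀ b : ↥((⊤ : Subgroup T).lowerCentralSeries (k - 1)), ((τ b : ↥((⊤ : Subgroup T).lowerCentralSeries (k - 1))) : T) = (b : T)⁻¹ * (s * b * s⁻¹) := fun b => rfl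
  have hστ : ∀ b, σ b = b * τ b := by
    intro b
    change σ b = b * (b⁻¹ * σ b)
    rw [mul_inv_cancel_left]
  let X : Set ↥((⊤ : Subgroup T).lowerCentralSeries (k - 1)) := {a | ∃ y ∈ (⊤ : Subgroup T).lowerCentralSeries (k - 2), (a : T) = y⁻¹ * (s * y * s⁻¹)}
  have hX : ∀ a ∈ X, τ a ∈ X := by
    intro a _
    exact ⟨(a : T), hA_le a.2, hτ a⟩
  have hτmem : ∀ (b : ↥((⊤ : Subgroup T).lowerCentralSeries (k - 1))) (j : ℕ), (b : T) ∈ (⊤ : Subgroup T).lowerCentralSeries j → ((τ b : ↥((⊤ : Subgroup T).lowerCentralSeries (k - 1))) : T) ∈ (⊤ : Subgroup T).lowerCentralSeries (j + 1) := by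
    intro b j hb
    rw [hτ, hform]
    exact comm_mem_lcs_succ (inv_mem hb) s
  have hiter : ∀ (l : ℕ) (b : ↥((⊤ : Subgroup T).lowerCentralSeries (k - 1))) (j : ℕ), (b : T) ∈ (⊤ : Subgroup T).lowerCentralSeries j →
      ((τ^[l] b : ↥((⊤ : Subgroup T).lowerCentralSeries (k - 1))) : T) ∈ (⊤ : Subgroup T).lowerCentralSeries (j + l) := by
    intro l
    induction l with
    | zero => intro b j hb; simpa using hb
    | succ l ih =>
      intro b j hb
      rw [Function.iterate_succ_apply]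
      have := ih (τ b) (j + 1) (hτmem b j hb)
      rwa [show j + 1 + l = j + (l + 1) by omega] at this
  have hnil : ∀ a ∈ X, τ^[p - 1] a = 1 := by
    intro a _
    have h1 := hiter (p - 1) a (k - 1) a.2
    rw [h.le_bot (j := k - 1 + (p - 1)) (by omega), Subgroup.mem_bot] at h1
    exact Subtype.ext h1
  have hσiter : ∀ (n : ℕ) (b : ↥((⊤ : Subgroup T).lowerCentralSeries (k - 1))),
      ((σ^[n] b : ↥((⊤ : Subgroup T).lowerCentralSeries (k - 1))) : T) = s ^ n * b * (s ^ n)⁻¹ := by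
    intro n
    induction n with
    | zero => intro b; simp
    | succ n ih =>
      intro b
      rw [Function.iterate_succ_apply', hσ, ih, pow_succ']
      group
  have hN : ∀ a ∈ X, ∏ j ∈ Finset.range p, σ^[j] a = 1 := by
    rintro a ⟨y, hy, ha⟩
    have hprod : ∀ n : ℕ, ((∏ j ∈ Finset.range n, σ^[j] a : ↥((⊤ : Subgroup T).lowerCentralSeries (k - 1))) : T)
        = y⁻¹ * (s ^ n * y * (s ^ n)⁻¹) := by
      intro n
      induction n with
      | zero => simp
      | succ n ih =>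
        rw [Finset.prod_range_succ, Subgroup.coe_mul, ih, hσiter, ha, pow_succ']
        group
    have h1 := hprod p
    have h2 : y⁻¹ * (s ^ p * y * (s ^ p)⁻¹) = ⁅y⁻¹, s ^ p⁆ := by
      rw [commutatorElement_def]; group
    have h3 := Cfsg.Agent.Lib.H9.PolySeq.commutator_lcs_le (G := T) (k + 1) (k - 2)
    rw [h.le_bot (j := k - 2 + (k + 1) + 1) (by omega)] at h3
    have h4 : ⁅y⁻¹, s ^ p⁆ = 1 := by
      rw [← Subgroup.mem_bot]
      exact h3 (Subgroup.commutator_mem_commutator (inv_mem hy) hs)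
    rw [h2, h4] at h1
    exact Subtype.ext h1
  have hfinal := norm_pow_eq_one p hpp σ τ hστ X hX hnil hN
  intro y hy
  have h1 := hfinal ⟨y⁻¹ * (s * y * s⁻¹), hmem y hy⟩ ⟨y, hy, rfl⟩
  have h2 := congrArg Subtype.val h1
  simpa using h2

/-- Step 4: an element of order dividing `p` in each layer of `γ_k`. -/
theorem MCHyp.exists_layer (h : MCHyp p k T) (i : ℕ) (hi1 : k - 2 ≤ i) (hi2 : i ≤ 2 * k - 2) :
    ∃ a ∈ (⊤ : Subgroup T).lowerCentralSeries (i + 1), a ∉ (⊤ : Subgroup T).lowerCentralSeries (i + 2) ∧ a ^ p = 1 := by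
  have hk := h.hk
  have hpk := h.hpk
  have hP := h.isPGroup
  haveI : Group.IsNilpotent T := hP.isNilpotent
  classical
  obtain ⟨s, hs⟩ := exists_not_mem_of_card_le p ((⊤ : Subgroup T).lowerCentralSeries 1) h.index_lcs_one
    (insert (mcsD T i) ((Finset.Icc 1 k).image (mcsD T)))
    (by
      refine (Finset.card_insert_le _ _).trans ?_
      have := Finset.card_image_le (s := Finset.Icc 1 k) (f := mcsD T)
      rw [Nat.card_Icc] at this
      omega)
    (by
      intro H hH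
      rw [Finset.mem_insert, Finset.mem_image] at hH
      rcases hH with rfl | ⟨j, _, rfl⟩
      · exact lcs_one_le_mcsD i
      · exact lcs_one_le_mcsD j)
    (by
      intro H hH
      rw [Finset.mem_insert, Finset.mem_image] at hH
      rcases hH with rfl | ⟨j, hj, rfl⟩
      · exact mcsD_ne_top i (h.ne_bot (by omega))
      · rw [Finset.mem_Icc] at hj
        exact mcsD_ne_top j (h.ne_bot (by omega)))
  have hsD : ∀ j, 1 ≤ j → j ≤ k → s ∉ mcsD T j := by
    intro j hj1 hjk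
    exact hs _ (Finset.mem_insert_of_mem (Finset.mem_image_of_mem _ (Finset.mem_Icc.mpr ⟨hj1, hjk⟩)))
  have hsi : s ∉ mcsD T i := hs _ (Finset.mem_insert_self _ _)
  have hdeep := h.pow_mem_deep s hsD
  rw [mem_mcsD] at hsi
  have hsi' : ∃ x ∈ (⊤ : Subgroup T).lowerCentralSeries i, ⁅x, s⁆ ∉ (⊤ : Subgroup T).lowerCentralSeries (i + 2) := by
    by_contra hcon
    exact hsi fun x hx => by_contra fun hx' => hcon ⟨x, hx, hx'⟩
  obtain ⟨x, hx, hxs⟩ := hsi'
  refine ⟨⁅x, s⁆, comm_mem_lcs_succ hx s, hxs, ?_⟩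
  have hxk : x⁻¹ ∈ (⊤ : Subgroup T).lowerCentralSeries (k - 2) :=
    (Subgroup.lowerCentralSeries_antitone _ hi1) (inv_mem hx)
  have := h.comm_pow_eq_one s hdeep x⁻¹ hxk
  have e : (x⁻¹)⁻¹ * (s * x⁻¹ * s⁻¹) = ⁅x, s⁆ := by
    rw [commutatorElement_def]; group
  rwa [e] at this

/-- **EXP.**  `|T| = p^(2k+1)` of maximal class, `k ≥ 2`, `p ≥ k+2` ⇒ `γ_k` has exponent `p`. -/
theorem MCHyp.pow_eq_one (h : MCHyp p k T) : ∀ x ∈ (⊤ : Subgroup T).lowerCentralSeries (k - 1), x ^ p = 1 := by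
  have hk := h.hk
  have hP := h.isPGroup
  have hAc := h.comm
  -- the subgroup of elements of `γ_k` of order dividing `p`
  let E : Subgroup T :=
    { carrier := {x | x ∈ (⊤ : Subgroup T).lowerCentralSeries (k - 1) ∧ x ^ p = 1}
      one_mem' := ⟨Subgroup.one_mem _, one_pow _⟩
      mul_mem' := by
        rintro a b ⟨ha, ha'⟩ ⟨hb, hb'⟩
        refine ⟨Subgroup.mul_mem _ ha hb, ?_⟩
        have hc : Commute a b := hAc a ha b hb
        rw [hc.mul_pow, ha', hb', one_mul]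
      inv_mem' := by
        rintro a ⟨ha, ha'⟩
        exact ⟨Subgroup.inv_mem _ ha, by rw [inv_pow, ha', inv_one]⟩ }
  have hEmem : ∀ x, x ∈ E ↔ (x ∈ (⊤ : Subgroup T).lowerCentralSeries (k - 1) ∧ x ^ p = 1) := fun x => Iff.rfl
  have hdown : ∀ m : ℕ, m ≤ k + 1 → (⊤ : Subgroup T).lowerCentralSeries (2 * k - m) ≤ E := by
    intro m
    induction m with
    | zero =>
      intro _
      rw [Nat.sub_zero, h.bot]
      exact bot_le
    | succ m ih =>
      intro hm
      have ih' := ih (by omega)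
      obtain ⟨a, ha, han, hap⟩ := h.exists_layer (2 * k - (m + 1) - 1) (by omega) (by omega)
      have e1 : 2 * k - (m + 1) - 1 + 1 = 2 * k - (m + 1) := by omega
      have e2 : 2 * k - (m + 1) - 1 + 2 = 2 * k - m := by omega
      rw [e1] at ha
      rw [e2] at han
      have hc := h.card_succ (i := 2 * k - (m + 1)) (by omega) (by omega)
      rw [show 2 * k - (m + 1) + 1 = 2 * k - m by omega] at hc
      have hle : (⊤ : Subgroup T).lowerCentralSeries (2 * k - m) ≤ (⊤ : Subgroup T).lowerCentralSeries (2 * k - (m + 1)) :=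
        Subgroup.lowerCentralSeries_antitone _ (by omega)
      have hsup := mcs_sup_eq hP _ _ hle hc a ha han
      rw [← hsup]
      refine sup_le ?_ ih'
      rw [Subgroup.zpowers_le, hEmem]
      exact ⟨(Subgroup.lowerCentralSeries_antitone _ (by omega)) ha, hap⟩
  have hfin := hdown (k + 1) le_rfl
  rw [show 2 * k - (k + 1) = k - 1 by omega] at hfin
  intro x hx
  exact ((hEmem x).mp (hfin hx)).2

end hyp

/-- **EXP** in the form of the signature file. -/
theorem pow_eq_one_of_maxclass {T : Type*} [Group T] [Finite T] (p : ℕ) [Fact p.Prime] {k : ℕ} (hk : 2 ≤ k)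
    (hpk : k + 2 ≤ p) (hcard : Nat.card T = p ^ (2 * k + 1))
    (hmc : (⊤ : Subgroup T).lowerCentralSeries (2 * k - 1) ≠ ⊥) :
    ∀ x ∈ (⊤ : Subgroup T).lowerCentralSeries (k - 1), x ^ p = 1 :=
  MCHyp.pow_eq_one ⟨hk, hpk, hcard, hmc⟩


end main

end Cfsg.Agent.Lib.H25.MCS
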