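import Mathlib

/-!
# S4415, BAD case, step (B3): the group-theoretic half (generic, no representation)

`X` an extraspecial-like `2`-subgroup (commutators and squares in `⟨z⟩`, centre `≤ ⟨z⟩`, `X ≠ ⟨z⟩`)
normal in `Γ = ⟨b^Γ⟩`, `b ^ 3 = 1`, `z` central in `Γ`.  Then some commutator
`h = g⁻¹ b⁻¹ g b`, `g ∈ X`, has `h * h = z`.
-/

set_option autoImplicit false

namespace Cfsg.Agent.Lib.H25.S4415B3G

variable {G : Type*} [Group G]

section core

variable (Γ X : Subgroup G) (b z : G)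

/-- the standing hypotheses -/
structure Hyp : Prop where
  hb3 : b ^ 3 = 1
  hbΓ : b ∈ Γ
  hXΓ : X ≤ Γ
  hXn : ∀ g ∈ Γ, ∀ x ∈ X, g * x * g⁻¹ ∈ X
  hzX : z ∈ X
  hz2 : z * z = 1
  hzc : ∀ g ∈ Γ, g * z * g⁻¹ = z
  hcomm : ∀ x ∈ X, ∀ y ∈ X, x * y = y * x ∨ x * y = z * (y * x)
  hsq : ∀ x ∈ X, x * x = 1 ∨ x * x = z

variable {Γ X b z}

/-- `β x = b⁻¹ x b` -/
def β (b : G) (x : G) : G := b⁻¹ * x * b

/-- the commutator `h g = g⁻¹ b⁻¹ g b` -/
def h (b : G) (g : G) : G := g⁻¹ * β b g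

theorem h_eq (b g : G) : h b g = g⁻¹ * b⁻¹ * g * b := by
  unfold h β; group

theorem β_mul (b x y : G) : β b (x * y) = β b x * β b y := by unfold β; group

theorem β_inv (b x : G) : β b x⁻¹ = (β b x)⁻¹ := by unfold β; group

namespace Hyp

variable (H : Hyp Γ X b z)
include H

theorem binvΓ : b⁻¹ ∈ Γ := Γ.inv_mem H.hbΓ

theorem β_mem {x : G} (hx : x ∈ X) : β b x ∈ X := by
  have := H.hXn b⁻¹ H.binvΓ x hx
  rwa [inv_inv] at this

theorem β_z : β b z = z := by
  have := H.hzc b⁻¹ H.binvΓ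
  rwa [inv_inv] at this

theorem β_cube (x : G) : β b (β b (β b x)) = x := by
  have h1 : b * b * b = 1 := by
    have := H.hb3
    rw [pow_succ, pow_two] at this
    exact this
  have h2 : b⁻¹ * b⁻¹ * b⁻¹ = 1 := by
    rw [← mul_inv_rev, ← mul_inv_rev, ← mul_assoc, h1, inv_one]
  unfold β
  calc b⁻¹ * (b⁻¹ * (b⁻¹ * x * b) * b) * b = (b⁻¹ * b⁻¹ * b⁻¹) * x * (b * b * b) := by group
    _ = x := by rw [h1, h2, one_mul, mul_one]

/-- `z` commutes with everything in `Γ` -/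
theorem z_comm {g : G} (hg : g ∈ Γ) : g * z = z * g := by
  have := H.hzc g hg
  calc g * z = g * z * g⁻¹ * g := by group
    _ = z * g := by rw [this]

theorem z_inv : z⁻¹ = z := inv_eq_of_mul_eq_one_left H.hz2

/-- `ε = 1 ∨ ε = z` -/
def IsZ (z ε : G) : Prop := ε = 1 ∨ ε = z

theorem isZ_comm {ε : G} (hε : IsZ z ε) {g : G} (hg : g ∈ Γ) : g * ε = ε * g := by
  rcases hε with rfl | rfl
  · simp
  · exact H.z_comm hg

theorem isZ_sq {ε : G} (hε : IsZ z ε) : ε * ε = 1 := by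
  rcases hε with rfl | rfl
  · simp
  · exact H.hz2

theorem isZ_mem {ε : G} (hε : IsZ z ε) : ε ∈ X := by
  rcases hε with rfl | rfl
  · exact X.one_mem
  · exact H.hzX

theorem isZ_β {ε : G} (hε : IsZ z ε) : β b ε = ε := by
  rcases hε with rfl | rfl
  · unfold β; group
  · exact H.β_z

/-- conjugation inside `X` changes an element by a factor in `⟨z⟩` -/
theorem conj_isZ {x y : G} (hx : x ∈ X) (hy : y ∈ X) : ∃ ε, IsZ z ε ∧ y⁻¹ * x * y = ε * x := by
  rcases H.hcomm x hx y hy with h1 | h1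
  · refine ⟨1, Or.inl rfl, ?_⟩
    rw [one_mul]
    calc y⁻¹ * x * y = y⁻¹ * (x * y) := by group
      _ = y⁻¹ * (y * x) := by rw [h1]
      _ = x := by group
  · refine ⟨z, Or.inr rfl, ?_⟩
    have hzy : y * z = z * y := H.z_comm (H.hXΓ hy)
    -- `x y = z y x`, so `y⁻¹ x y = y⁻¹ z y x = z x`
    calc y⁻¹ * x * y = y⁻¹ * (x * y) := by group
      _ = y⁻¹ * (z * (y * x)) := by rw [h1]
      _ = y⁻¹ * (z * y) * x := by group
      _ = y⁻¹ * (y * z) * x := by rw [hzy]
      _ = z * x := by group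

theorem sq_isZ {x : G} (hx : x ∈ X) : IsZ z (x * x) := H.hsq x hx

theorem h_mem {g : G} (hg : g ∈ X) : h b g ∈ X := X.mul_mem (X.inv_mem hg) (H.β_mem hg)

/-- `h (g g') = ε h g h g'` -/
theorem h_mul {g g' : G} (hg : g ∈ X) (hg' : g' ∈ X) :
    ∃ ε, IsZ z ε ∧ h b (g * g') = ε * (h b g * h b g') := by
  obtain ⟨ε, hε, h1⟩ := H.conj_isZ (H.h_mem hg) hg'
  refine ⟨ε, hε, ?_⟩
  have h2 : h b (g * g') = g'⁻¹ * h b g * g' * h b g' := by
    unfold h; rw [β_mul]; group
  rw [h2, h1]; group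

variable (hall : ∀ g ∈ X, h b g * h b g = 1)
include hall

omit H in
theorem h_inv {g : G} (hg : g ∈ X) : (h b g)⁻¹ = h b g :=
  inv_eq_of_mul_eq_one_left (hall g hg)

/-- Claim 1: the `h g` commute pairwise -/
theorem h_comm_h {g g' : G} (hg : g ∈ X) (hg' : g' ∈ X) : h b g * h b g' = h b g' * h b g := by
  obtain ⟨ε, hε, h1⟩ := H.h_mul hg hg'
  have h2 := hall (g * g') (X.mul_mem hg hg')
  rw [h1] at h2
  have hmem : h b g * h b g' ∈ X := X.mul_mem (H.h_mem hg) (H.h_mem hg')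
  have h3 : (h b g * h b g') * ε = ε * (h b g * h b g') := H.isZ_comm hε (H.hXΓ hmem)
  have h4 : (h b g * h b g') * (h b g * h b g') = 1 := by
    calc (h b g * h b g') * (h b g * h b g')
        = (ε * ε) * ((h b g * h b g') * (h b g * h b g')) := by rw [H.isZ_sq hε, one_mul]
      _ = ε * (ε * (h b g * h b g')) * (h b g * h b g') := by group
      _ = ε * ((h b g * h b g') * ε) * (h b g * h b g') := by rw [h3]
      _ = (ε * (h b g * h b g')) * (ε * (h b g * h b g')) := by group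
      _ = 1 := h2
  -- `(uv)² = 1`, `u² = v² = 1` ⇒ `uv = vu`
  have hu := hall g hg
  have hv := hall g' hg'
  calc h b g * h b g' = h b g * h b g' * ((h b g * h b g') * (h b g * h b g'))⁻¹ := by
        rw [h4, inv_one, mul_one]
    _ = (h b g')⁻¹ * (h b g)⁻¹ := by group
    _ = h b g' * h b g := by rw [h_inv hall hg, h_inv hall hg']

/-- `β x β² x` commutes with every `h g` -/
theorem comm_ββ {g x : G} (hg : g ∈ X) (hx : x ∈ X) :
    h b g * (β b x * β b (β b x)) = (β b x * β b (β b x)) * h b g := by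
  -- `β x β² x = (β x)² · h (β x)`
  have hβx := H.β_mem hx
  have h1 : β b x * β b (β b x) = (β b x * β b x) * h b (β b x) := by unfold h; group
  rw [h1]
  have hε := H.sq_isZ hβx
  have h2 := H.isZ_comm hε (H.hXΓ (H.h_mem hg))
  have h3 := H.h_comm_h hall hg hβx
  calc h b g * (β b x * β b x * h b (β b x))
      = (h b g * (β b x * β b x)) * h b (β b x) := by group
    _ = ((β b x * β b x) * h b g) * h b (β b x) := by rw [h2]
    _ = (β b x * β b x) * (h b g * h b (β b x)) := by group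
    _ = (β b x * β b x) * (h b (β b x) * h b g) := by rw [h3]
    _ = β b x * β b x * h b (β b x) * h b g := by group

omit hall in
/-- `π x = x β x β² x` commutes with every `h g` -/
theorem comm_π {g x : G} (hg : g ∈ X) (hx : x ∈ X) :
    (x * β b x * β b (β b x))⁻¹ * h b g * (x * β b x * β b (β b x)) = h b g := by
  set y := x * β b x * β b (β b x) with hy
  have hyX : y ∈ X := X.mul_mem (X.mul_mem hx (H.β_mem hx)) (H.β_mem (H.β_mem hx))
  -- `β y = x⁻¹ y x = ε' y`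
  have hβy : β b y = x⁻¹ * y * x := by
    rw [hy, β_mul, β_mul, H.β_cube]; group
  obtain ⟨ε', hε', h1⟩ := H.conj_isZ hyX hx
  -- `y⁻¹ g y = ε₁ g`
  obtain ⟨ε₁, hε₁, h2⟩ := H.conj_isZ hg hyX
  -- `y⁻¹ β g y = β (y⁻¹ g y)` up to the central `ε'`
  have h3 : y⁻¹ * β b g * y = ε₁ * β b g := by
    have hy' : y = ε' * β b y := by
      rw [hβy, h1, ← mul_assoc, H.isZ_sq hε', one_mul]
    have hc : ∀ w ∈ X, w * ε' = ε' * w := fun w hw => H.isZ_comm hε' (H.hXΓ hw)
    have h4 : (β b y)⁻¹ * β b g * β b y = β b (y⁻¹ * g * y) := by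
      unfold β; group
    have h5 : y⁻¹ * β b g * y = (β b y)⁻¹ * β b g * β b y := by
      have hβyX : β b y ∈ X := H.β_mem hyX
      have hβgX : β b g ∈ X := H.β_mem hg
      have e1 : β b g * ε' = ε' * β b g := hc _ hβgX
      have hε'inv : ε'⁻¹ = ε' := inv_eq_of_mul_eq_one_left (H.isZ_sq hε')
      calc y⁻¹ * β b g * y = (ε' * β b y)⁻¹ * β b g * (ε' * β b y) := by rw [← hy']
        _ = (β b y)⁻¹ * (ε'⁻¹ * (β b g * ε')) * β b y := by group
        _ = (β b y)⁻¹ * (ε'⁻¹ * (ε' * β b g)) * β b y := by rw [e1]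
        _ = (β b y)⁻¹ * β b g * β b y := by group
    rw [h5, h4, h2, β_mul, H.isZ_β hε₁]
  have hε₁c : ∀ w ∈ X, w * ε₁ = ε₁ * w := fun w hw => H.isZ_comm hε₁ (H.hXΓ hw)
  have h6 : y⁻¹ * g⁻¹ * y = g⁻¹ * ε₁ := by
    have : y⁻¹ * g⁻¹ * y = (y⁻¹ * g * y)⁻¹ := by group
    rw [this, h2, mul_inv_rev]
    congr 1
    exact inv_eq_of_mul_eq_one_left (H.isZ_sq hε₁)
  calc y⁻¹ * h b g * y = (y⁻¹ * g⁻¹ * y) * (y⁻¹ * β b g * y) := by unfold h; group
    _ = (g⁻¹ * ε₁) * (ε₁ * β b g) := by rw [h6, h3]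
    _ = g⁻¹ * (ε₁ * ε₁) * β b g := by group
    _ = h b g := by rw [H.isZ_sq hε₁, mul_one]; rfl

/-- Step A: every `h g` is central in `X` -/
theorem h_central {g x : G} (hg : g ∈ X) (hx : x ∈ X) : h b g * x = x * h b g := by
  -- the centralizer of `h g` in `G` is a subgroup containing `π x`, `β x β² x` and `z`
  set C : Subgroup G := Subgroup.centralizer {h b g} with hC
  have hmemC : ∀ w : G, w ∈ C ↔ w * h b g = h b g * w := by
    intro w
    rw [hC, Subgroup.mem_centralizer_singleton_iff]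
  have hββX : β b x * β b (β b x) ∈ X := X.mul_mem (H.β_mem hx) (H.β_mem (H.β_mem hx))
  have h1 : β b x * β b (β b x) ∈ C := by
    rw [hmemC]; exact (H.comm_ββ hall hg hx).symm
  have h2 : x * β b x * β b (β b x) ∈ C := by
    rw [hmemC]
    have := H.comm_π hg hx
    set y := x * β b x * β b (β b x)
    calc y * h b g = y * (y⁻¹ * h b g * y) := by rw [this]
      _ = h b g * y := by group
  have hε := H.sq_isZ hββX
  have h3 : (β b x * β b (β b x)) * (β b x * β b (β b x)) ∈ C := by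
    rw [hmemC]
    exact (H.isZ_comm hε (H.hXΓ (H.h_mem hg))).symm
  -- `x = π x · (β x β² x) · ((β x β² x)²)⁻¹`
  have h4 : x = (x * β b x * β b (β b x)) * (β b x * β b (β b x)) *
      ((β b x * β b (β b x)) * (β b x * β b (β b x)))⁻¹ := by group
  have h5 : x ∈ C := by
    rw [h4]
    exact C.mul_mem (C.mul_mem h2 h1) (C.inv_mem h3)
  exact ((hmemC x).1 h5).symm

end Hyp

end core

/-- **(B3), group half**: some commutator `[g, b]`, `g ∈ X`, squares to `z`. -/
theorem exists_comm_sq (Γ X : Subgroup G) (b z : G) (hb3 : b ^ 3 = 1) (hbΓ : b ∈ Γ) (hXΓ : X ≤ Γ)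
    (hXn : ∀ g ∈ Γ, ∀ x ∈ X, g * x * g⁻¹ ∈ X)
    (hgen : ∀ g ∈ Γ, g ∈ Subgroup.closure {x | ∃ y ∈ Γ, x = y * b * y⁻¹})
    (hzX : z ∈ X) (hz2 : z * z = 1) (hzc : ∀ g ∈ Γ, g * z * g⁻¹ = z)
    (hcomm : ∀ x ∈ X, ∀ y ∈ X, x * y = y * x ∨ x * y = z * (y * x))
    (hsq : ∀ x ∈ X, x * x = 1 ∨ x * x = z)
    (hcen : ∀ x ∈ X, (∀ y ∈ X, x * y = y * x) → x = 1 ∨ x = z)
    (hne : ∃ x ∈ X, x ≠ 1 ∧ x ≠ z) :
    ∃ g ∈ X, (g⁻¹ * b⁻¹ * g * b) * (g⁻¹ * b⁻¹ * g * b) = z := by
  have H : Hyp Γ X b z := ⟨hb3, hbΓ, hXΓ, hXn, hzX, hz2, hzc, hcomm, hsq⟩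
  by_contra hcon
  push Not at hcon
  -- all commutators square to `1`
  have hall : ∀ g ∈ X, h b g * h b g = 1 := by
    intro g hg
    rcases hsq _ (H.h_mem hg) with h1 | h1
    · exact h1
    · exact absurd (by rw [← h_eq]; exact h1) (hcon g hg)
  -- every `h g` is `1` or `z`
  have hhz : ∀ g ∈ X, h b g = 1 ∨ h b g = z := fun g hg =>
    hcen _ (H.h_mem hg) (fun y hy => H.h_central hall hg hy)
  -- `b` centralizes `X`
  have hbX : ∀ g ∈ X, β b g = g := by
    intro g hg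
    have hβ : ∀ x ∈ X, β b x = x ∨ β b x = x * z := by
      intro x hx
      rcases hhz x hx with h1 | h1
      · left
        calc β b x = x * h b x := by unfold h; group
          _ = x := by rw [h1, mul_one]
      · right
        calc β b x = x * h b x := by unfold h; group
          _ = x * z := by rw [h1]
    rcases hβ g hg with h1 | h1
    · exact h1
    · exfalso
      -- `β³ g = g z³ = g z`
      have h2 : β b (β b g) = g := by
        rw [h1, β_mul, H.β_z, h1, mul_assoc, hz2, mul_one]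
      have h3 := H.β_cube g
      rw [h2, h1] at h3
      have : z = 1 := by
        calc z = g⁻¹ * (g * z) := by group
          _ = g⁻¹ * g := by rw [h3]
          _ = 1 := by group
      obtain ⟨x, hx, hx1, hxz⟩ := hne
      -- then `X` is abelian and `x` is central: contradiction
      have hxc : ∀ y ∈ X, x * y = y * x := by
        intro y hy
        rcases hcomm x hx y hy with h4 | h4
        · exact h4
        · rw [h4, this, one_mul]
      rcases hcen x hx hxc with h5 | h5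
      · exact hx1 h5
      · exact hxz h5
  -- every conjugate of `b` centralizes `X`, hence so does `Γ`
  have hΓX : ∀ g ∈ Γ, ∀ x ∈ X, g * x = x * g := by
    intro g hg
    have hcl := hgen g hg
    have hle : Subgroup.closure {x | ∃ y ∈ Γ, x = y * b * y⁻¹} ≤
        Subgroup.centralizer (X : Set G) := by
      rw [Subgroup.closure_le]
      rintro c ⟨y, hy, rfl⟩
      rw [SetLike.mem_coe, Subgroup.mem_centralizer_iff]
      intro x hx
      -- `y⁻¹ x y ∈ X` is fixed by `β`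
      have hx' : y⁻¹ * x * y ∈ X := by
        have := hXn y⁻¹ (Γ.inv_mem hy) x hx
        rwa [inv_inv] at this
      have h1 := hbX _ hx'
      unfold β at h1
      -- `b⁻¹ (y⁻¹ x y) b = y⁻¹ x y`
      calc x * (y * b * y⁻¹) = y * ((y⁻¹ * x * y) * b) * y⁻¹ := by group
        _ = y * (b * (b⁻¹ * (y⁻¹ * x * y) * b)) * y⁻¹ := by group
        _ = y * (b * (y⁻¹ * x * y)) * y⁻¹ := by rw [h1]
        _ = y * b * y⁻¹ * x := by group
    have := hle hcl
    rw [Subgroup.mem_centralizer_iff] at this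
    intro x hx
    exact (this x hx).symm
  obtain ⟨x, hx, hx1, hxz⟩ := hne
  rcases hcen x hx (fun y hy => hΓX x (hXΓ hx) y hy) with h5 | h5
  · exact hx1 h5
  · exact hxz h5

end Cfsg.Agent.Lib.H25.S4415B3G
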