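import Cfsg.Agent.Lib.H25.S4415B3
import Cfsg.Agent.Lib.H25.S4415B3G

/-!
# S4415, BAD case, step (B3) assembled in the `LinCtx` / `QData` frame

* `hgen` : `R⟨b⟩` is generated by the conjugates of `b` (from `R = [R, b]`);
* `b_pow_three` : `b ^ 3 = 1`;
* `finrank_eq_four_of_X` : an `R⟨b⟩`-normal subgroup `X ≤ R` with commutators and squares in
  `⟨z⟩`, centre `≤ ⟨z⟩`, `X ≠ ⟨z⟩`, where `z` is central in `R⟨b⟩` and acts as `-1` on `W`,
  forces `dim W = 4`.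
-/

set_option autoImplicit false

namespace Cfsg.Agent.Lib.H25.S4415B3W

open Cfsg.Agent.Lib.H10.S4415

variable {S E : Type*} [Group S] [AddCommGroup E] [Module (ZMod 3) E]
variable {ρ : Representation (ZMod 3) S E} {R : Subgroup S} {b : S}
  {W : Submodule (ZMod 3) E} {x₁ x₂ x₃ : S} {e₁ e₂ e₃ : E}

theorem b_pow_three (hL : LinCtx ρ R b W) : b ^ 3 = 1 := by
  rw [← hL.b_ord]; exact pow_orderOf_eq_one b

/-- `R⟨b⟩ = ⟨b^{R⟨b⟩}⟩` -/
theorem hgen (hL : LinCtx ρ R b W) :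
    ∀ g ∈ RB R b, g ∈ Subgroup.closure {x | ∃ y ∈ RB R b, x = y * b * y⁻¹} := by
  set Cl : Subgroup S := Subgroup.closure {x | ∃ y ∈ RB R b, x = y * b * y⁻¹} with hCl
  have hbCl : b ∈ Cl := Subgroup.subset_closure ⟨1, (RB R b).one_mem, by group⟩
  have hzp : Subgroup.zpowers b ≤ Cl := by
    rw [Subgroup.zpowers_le]; exact hbCl
  have hconj : ∀ r ∈ R, ∀ c ∈ Subgroup.zpowers b, r * c * r⁻¹ ∈ Cl := by
    intro r hr c hc
    obtain ⟨k, rfl⟩ := Subgroup.mem_zpowers_iff.1 hc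
    have h1 : r * b ^ k * r⁻¹ = (r * b * r⁻¹) ^ k := by
      rw [conj_zpow]
    rw [h1]
    exact Cl.zpow_mem (Subgroup.subset_closure ⟨r, Subgroup.mem_sup_left hr, rfl⟩) k
  have hR : R ≤ Cl := by
    have h1 : ⁅R, Subgroup.zpowers b⁆ ≤ Cl := by
      rw [Subgroup.commutator_le]
      intro r hr c hc
      rw [commutatorElement_def]
      exact Cl.mul_mem (hconj r hr c hc) (Cl.inv_mem (hzp hc))
    rwa [hL.R_comm] at h1
  intro g hg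
  exact (sup_le hR hzp) hg

/-- **(B3)** in the `LinCtx` / `QData` frame -/
theorem finrank_eq_four_of_X [Finite E] (hL : LinCtx ρ R b W)
    (hQ : QData ρ R b W x₁ x₂ x₃ e₁ e₂ e₃) (X : Subgroup S) (z : S) (hXR : X ≤ R)
    (hXn : NormBy (RB R b) X) (hzX : z ∈ X) (hz2 : z * z = 1)
    (hzc : ∀ g ∈ RB R b, g * z * g⁻¹ = z) (hzW : ∀ w ∈ W, ρ z w = -w)
    (hcomm : ∀ x ∈ X, ∀ y ∈ X, x * y = y * x ∨ x * y = z * (y * x))
    (hsq : ∀ x ∈ X, x * x = 1 ∨ x * x = z)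
    (hcen : ∀ x ∈ X, (∀ y ∈ X, x * y = y * x) → x = 1 ∨ x = z)
    (hne : ∃ x ∈ X, x ≠ 1 ∧ x ≠ z) : Module.finrank (ZMod 3) W = 4 := by
  have hXRB : X ≤ RB R b := hXR.trans le_sup_left
  obtain ⟨g, hgX, hg⟩ := Cfsg.Agent.Lib.H25.S4415B3G.exists_comm_sq (RB R b) X b z
    (b_pow_three hL) (Cfsg.Agent.Lib.H25.S4415B3.b_mem_RB R b) hXRB hXn (hgen hL) hzX hz2 hzc
    hcomm hsq hcen hne
  refine Cfsg.Agent.Lib.H25.S4415B3.finrank_eq_four hL hQ g (hXR hgX) ?_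
  intro w hw
  rw [← Cfsg.Agent.Lib.H25.S4415B3.rho_mul, hg]
  exact hzW w hw

end Cfsg.Agent.Lib.H25.S4415B3W
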