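import Cfsg.Agent.Lib.H10.S4415BadDefs
import Cfsg.Agent.Lib.H25.S4415B3W

/-!
# S4415, BAD case: `b3 : B3Stmt` (exact shape of `Lib/H10/S4415BadDefs`)

From an `R⟨b⟩`-normal `XS`-subgroup `X ≤ R` whose centre `z` acts as `-1` on `W`:
`dim W = 4` (`finrank_eq_four_of_X`), hence `C_W(Q) ≠ 0` (otherwise `W ≤ span {e₁,e₂,e₃}`),
and a nonzero `e₀ ∈ C_W(Q)` completes `e₁, e₂, e₃` to a basis of `W`.
-/

set_option autoImplicit false

namespace Cfsg.Agent.Lib.H25.S4415B3S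

open Cfsg.Agent.Lib.H10.S4415

variable {S E : Type*} [Group S] [AddCommGroup E] [Module (ZMod 3) E]
variable {ρ : Representation (ZMod 3) S E} {R : Subgroup S} {b : S}
  {W : Submodule (ZMod 3) E} {x₁ x₂ x₃ : S} {e₁ e₂ e₃ : E}

/-- `z` (acting as `-1` on `W`) is central in `R⟨b⟩` -/
theorem z_central_RB (hL : LinCtx ρ R b W) {z : S} (hzR : z ∈ R) (hz2 : z * z = 1)
    (hzW : IsNeg ρ W z) : ∀ g ∈ RB R b, g * z * g⁻¹ = z := by
  intro g hg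
  have hzRB : z ∈ RB R b := Cfsg.Agent.Lib.H25.S4415B3.mem_RB_of_mem b hzR
  have hginv : g⁻¹ ∈ RB R b := (RB R b).inv_mem hg
  have ht : g * z * g⁻¹ * z ∈ RB R b :=
    (RB R b).mul_mem ((RB R b).mul_mem ((RB R b).mul_mem hg hzRB) hginv) hzRB
  have h1 : g * z * g⁻¹ * z = 1 := by
    apply hL.faithful _ ht
    intro w hw
    have hw1 : ρ g⁻¹ (-w) ∈ W := hL.W_inv g⁻¹ hginv (-w) (W.neg_mem hw)
    rw [Cfsg.Agent.Lib.H25.S4415B3.rho_mul, Cfsg.Agent.Lib.H25.S4415B3.rho_mul,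
      Cfsg.Agent.Lib.H25.S4415B3.rho_mul, hzW w hw, hzW _ hw1, map_neg,
      Cfsg.Agent.Lib.H25.S4415B3.rho_cancel_inv, neg_neg]
  have hzinv : z⁻¹ = z := inv_eq_of_mul_eq_one_left hz2
  calc g * z * g⁻¹ = (g * z * g⁻¹ * z) * z⁻¹ := by group
    _ = z := by rw [h1, one_mul, hzinv]

/-- linear independence of `e₀, e₁, e₂, e₃` for a nonzero `Q`-fixed `e₀` -/
theorem lin_indep_e4 (hQ : QData ρ R b W x₁ x₂ x₃ e₁ e₂ e₃) {e₀ : E} (he₀ : e₀ ≠ 0)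
    (h1e : ρ x₁ e₀ = e₀) (h2e : ρ x₂ e₀ = e₀) (h3e : ρ x₃ e₀ = e₀) (c₀ c₁ c₂ c₃ : ZMod 3)
    (h : c₀ • e₀ + c₁ • e₁ + c₂ • e₂ + c₃ • e₃ = 0) : c₀ = 0 ∧ c₁ = 0 ∧ c₂ = 0 ∧ c₃ = 0 := by
  have h1 : c₀ • e₀ + c₁ • e₁ - c₂ • e₂ - c₃ • e₃ = 0 := by
    have := congrArg (ρ x₁) h
    rw [map_add, map_add, map_add, map_smul, map_smul, map_smul, map_smul, h1e, hQ.x₁e₁, hQ.x₁e₂,
      hQ.x₁e₃, map_zero] at this
    rw [← this]; simp only [smul_neg]; abel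
  have h2 : c₀ • e₀ - c₁ • e₁ + c₂ • e₂ - c₃ • e₃ = 0 := by
    have := congrArg (ρ x₂) h
    rw [map_add, map_add, map_add, map_smul, map_smul, map_smul, map_smul, h2e, hQ.x₂e₁, hQ.x₂e₂,
      hQ.x₂e₃, map_zero] at this
    rw [← this]; simp only [smul_neg]; abel
  have h3 : c₀ • e₀ - c₁ • e₁ - c₂ • e₂ + c₃ • e₃ = 0 := by
    have := congrArg (ρ x₃) h
    rw [map_add, map_add, map_add, map_smul, map_smul, map_smul, map_smul, h3e, hQ.x₃e₁, hQ.x₃e₂,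
      hQ.x₃e₃, map_zero] at this
    rw [← this]; simp only [smul_neg]; abel
  have k0 : c₀ • e₀ = 0 := by
    have h4 : (4 : ZMod 3) = 1 := by decide
    have : c₀ • e₀ = (c₀ • e₀ + c₁ • e₁ + c₂ • e₂ + c₃ • e₃) +
        (c₀ • e₀ + c₁ • e₁ - c₂ • e₂ - c₃ • e₃) + (c₀ • e₀ - c₁ • e₁ + c₂ • e₂ - c₃ • e₃) +
        (c₀ • e₀ - c₁ • e₁ - c₂ • e₂ + c₃ • e₃) := by
      have e4 : (c₀ • e₀ + c₁ • e₁ + c₂ • e₂ + c₃ • e₃) +
        (c₀ • e₀ + c₁ • e₁ - c₂ • e₂ - c₃ • e₃) + (c₀ • e₀ - c₁ • e₁ + c₂ • e₂ - c₃ • e₃) +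
        (c₀ • e₀ - c₁ • e₁ - c₂ • e₂ + c₃ • e₃) = (4 : ZMod 3) • (c₀ • e₀) := by
        have : (4 : ZMod 3) • (c₀ • e₀) = c₀ • e₀ + c₀ • e₀ + c₀ • e₀ + c₀ • e₀ := by
          have h22 : (4 : ZMod 3) = 1 + 1 + 1 + 1 := by decide
          rw [h22, add_smul, add_smul, add_smul, one_smul]
        rw [this]; abel
      rw [e4, h4, one_smul]
    rw [this, h, h1, h2, h3]; simp
  have hc₀ : c₀ = 0 := by
    rcases smul_eq_zero.1 k0 with h | h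
    · exact h
    · exact absurd h he₀
  have h' : c₁ • e₁ + c₂ • e₂ + c₃ • e₃ = 0 := by
    rw [hc₀, zero_smul, zero_add] at h; exact h
  obtain ⟨a, b', c⟩ := Cfsg.Agent.Lib.H25.S4415B3.lin_indep_e hQ _ _ _ h'
  exact ⟨hc₀, a, b', c⟩

/-- if `dim W = 4` there is a nonzero `Q`- and `b`-fixed vector in `W` -/
theorem exists_fixed [Finite E] (hQ : QData ρ R b W x₁ x₂ x₃ e₁ e₂ e₃)
    (h4 : Module.finrank (ZMod 3) W = 4) :
    ∃ e₀ ∈ W, e₀ ≠ 0 ∧ ρ x₁ e₀ = e₀ ∧ ρ x₂ e₀ = e₀ ∧ ρ x₃ e₀ = e₀ ∧ ρ b e₀ = e₀ := by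
  classical
  by_contra hcon
  push Not at hcon
  have hle : W ≤ Submodule.span (ZMod 3) (({e₁, e₂, e₃} : Finset E) : Set E) := by
    intro w hw
    obtain ⟨w₀, hw₀, c₁, c₂, c₃, rfl, k1, k2, k3, kb⟩ := hQ.decomp w hw
    have hw0 : w₀ = 0 := by
      by_contra hne
      exact hcon w₀ hw₀ hne k1 k2 k3 kb
    rw [hw0, zero_add]
    refine Submodule.add_mem _ (Submodule.add_mem _ ?_ ?_) ?_
    · exact Submodule.smul_mem _ _ (Submodule.subset_span (by simp))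
    · exact Submodule.smul_mem _ _ (Submodule.subset_span (by simp))
    · exact Submodule.smul_mem _ _ (Submodule.subset_span (by simp))
  have h1 := Submodule.finrank_mono hle
  have h2 : Module.finrank (ZMod 3)
      (Submodule.span (ZMod 3) (({e₁, e₂, e₃} : Finset E) : Set E)) ≤
      ({e₁, e₂, e₃} : Finset E).card :=
    finrank_span_finset_le_card (R := ZMod 3) ({e₁, e₂, e₃} : Finset E)
  have h3 : ({e₁, e₂, e₃} : Finset E).card ≤ 3 := Finset.card_le_three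
  omega

/-- **(B3)** in the exact shape of `B3Stmt` -/
theorem b3 : B3Stmt := by
  intro S _ _ E _ _ _ ρ R b W x₁ x₂ x₃ e₁ e₂ e₃ z X hL hQ hzW hXR hXn hXS
  have hzR : z ∈ R := hXR hXS.zX
  have hzc := z_central_RB hL hzR hXS.z_sq hzW
  have hcomm : ∀ x ∈ X, ∀ y ∈ X, x * y = y * x ∨ x * y = z * (y * x) := by
    intro x hx y hy
    rcases hXS.comm x hx y hy with h | h
    · left
      calc x * y = (x * y * x⁻¹ * y⁻¹) * (y * x) := by group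
        _ = y * x := by rw [h, one_mul]
    · right
      calc x * y = (x * y * x⁻¹ * y⁻¹) * (y * x) := by group
        _ = z * (y * x) := by rw [h]
  have h4 : Module.finrank (ZMod 3) W = 4 :=
    Cfsg.Agent.Lib.H25.S4415B3W.finrank_eq_four_of_X hL hQ X z hXR hXn hXS.zX hXS.z_sq hzc hzW
      hcomm hXS.sq hXS.center hXS.big
  obtain ⟨e₀, he₀W, he₀ne, k1, k2, k3, kb⟩ := exists_fixed hQ h4
  refine ⟨e₀, ⟨he₀W, he₀ne, kb, k1, k2, k3, ?_, ?_⟩⟩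
  · -- span
    have hli : LinearIndependent (ZMod 3)
        (![⟨e₀, he₀W⟩, ⟨e₁, hQ.e₁W⟩, ⟨e₂, hQ.e₂W⟩, ⟨e₃, hQ.e₃W⟩] : Fin 4 → W) := by
      rw [Fintype.linearIndependent_iff]
      intro c hc
      rw [Fin.sum_univ_four] at hc
      have hc' : c 0 • e₀ + c 1 • e₁ + c 2 • e₂ + c 3 • e₃ = 0 := by
        have := congrArg (Subtype.val : W → E) hc
        simpa using this
      obtain ⟨h0, h1, h2, h3⟩ := lin_indep_e4 hQ he₀ne k1 k2 k3 _ _ _ _ hc'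
      intro i
      fin_cases i
      · exact h0
      · exact h1
      · exact h2
      · exact h3
    have htop := hli.span_eq_top_of_card_eq_finrank' (by rw [h4]; rfl)
    intro w hw
    have hmem : (⟨w, hw⟩ : W) ∈ Submodule.span (ZMod 3)
        (Set.range (![⟨e₀, he₀W⟩, ⟨e₁, hQ.e₁W⟩, ⟨e₂, hQ.e₂W⟩, ⟨e₃, hQ.e₃W⟩] : Fin 4 → W)) := by
      rw [htop]; exact Submodule.mem_top
    obtain ⟨c, hc⟩ := (Submodule.mem_span_range_iff_exists_fun (ZMod 3)).1 hmem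
    rw [Fin.sum_univ_four] at hc
    refine ⟨c 0, c 1, c 2, c 3, ?_⟩
    have := congrArg (Subtype.val : W → E) hc
    simpa using this.symm
  · exact fun c₀ c₁ c₂ c₃ h => lin_indep_e4 hQ he₀ne k1 k2 k3 c₀ c₁ c₂ c₃ h

end Cfsg.Agent.Lib.H25.S4415B3S
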