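import Mathlib

/-!
# Zassenhaus: the ring-theoretic pair lemma

If two endomorphisms `g`, `h` of a nonzero finite dimensional vector space over an algebraically
closed field satisfy quadratic equations `g * g = τ • g - 1`, `h * h = σ • h - 1`, then they have a
common invariant subspace of dimension `1` or `2`.
-/

namespace Cfsg.Agent.Lib.H25.Zas

open Module

variable {K : Type*} [Field K] {V : Type*} [AddCommGroup V] [Module K V]

/-- the central element of the algebra generated by two "quadratic" endomorphisms. -/
def pairC (τ σ : K) (g h : End K V) : End K V := g * h + h * g - σ • g - τ • h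

theorem pairC_comm_left {τ σ : K} {g h : End K V} (hg : g * g = τ • g - 1) :
    pairC τ σ g h * g = g * pairC τ σ g h := by
  unfold pairC
  have e1 : g * h * g + h * (g * g) - σ • (g * g) - τ • (h * g)
      = g * (g * h) + g * h * g - σ • (g * g) - τ • (g * h) := by
    have : g * (g * h) = (g * g) * h := by rw [mul_assoc]
    rw [this, hg]
    simp only [mul_sub, sub_mul, smul_mul_assoc, mul_smul_comm, mul_one, one_mul, smul_sub]
    abel
  calc (g * h + h * g - σ • g - τ • h) * g
      = g * h * g + h * (g * g) - σ • (g * g) - τ • (h * g) := by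
        simp only [sub_mul, add_mul, smul_mul_assoc, mul_assoc]
    _ = g * (g * h) + g * h * g - σ • (g * g) - τ • (g * h) := e1
    _ = g * (g * h + h * g - σ • g - τ • h) := by
        simp only [mul_sub, mul_add, mul_smul_comm, mul_assoc]

theorem pairC_comm_right {τ σ : K} {g h : End K V} (hh : h * h = σ • h - 1) :
    pairC τ σ g h * h = h * pairC τ σ g h := by
  unfold pairC
  have e1 : g * (h * h) + h * g * h - σ • (g * h) - τ • (h * h)
      = h * g * h + (h * h) * g - σ • (h * g) - τ • (h * h) := by
    rw [hh]
    simp only [mul_sub, sub_mul, smul_mul_assoc, mul_smul_comm, mul_one, one_mul, smul_sub]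
    abel
  calc (g * h + h * g - σ • g - τ • h) * h
      = g * (h * h) + h * g * h - σ • (g * h) - τ • (h * h) := by
        simp only [sub_mul, add_mul, smul_mul_assoc, mul_assoc]
    _ = h * g * h + (h * h) * g - σ • (h * g) - τ • (h * h) := e1
    _ = h * (g * h + h * g - σ • g - τ • h) := by
        simp only [mul_sub, mul_add, mul_smul_comm, mul_assoc]

/-- **Pair lemma.** Two quadratic endomorphisms of a nonzero finite dimensional space over an
algebraically closed field have a common nonzero invariant subspace of dimension at most two. -/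
theorem exists_invariant_le_two [IsAlgClosed K] [FiniteDimensional K V] [Nontrivial V]
    {τ σ : K} {g h : End K V} (hg : g * g = τ • g - 1) (hh : h * h = σ • h - 1) :
    ∃ U : Submodule K V, U ≠ ⊥ ∧ finrank K U ≤ 2 ∧ (∀ u ∈ U, g u ∈ U) ∧ (∀ u ∈ U, h u ∈ U) := by
  classical
  set c := pairC τ σ g h with hc
  have hcg : ∀ v, c (g v) = g (c v) := fun v => by
    have := congrArg (fun f : End K V => f v) (pairC_comm_left (σ := σ) (h := h) hg)
    simpa [Module.End.mul_apply] using this
  have hch : ∀ v, c (h v) = h (c v) := fun v => by
    have := congrArg (fun f : End K V => f v) (pairC_comm_right (τ := τ) (g := g) hh)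
    simpa [Module.End.mul_apply] using this
  -- eigenvalue of `c`
  obtain ⟨γ, hγ⟩ := Module.End.exists_eigenvalue c
  set E := Module.End.eigenspace c γ with hE
  have hEne : E ≠ ⊥ := hγ
  have hEg : ∀ v ∈ E, g v ∈ E := by
    intro v hv
    rw [hE, Module.End.mem_eigenspace_iff] at hv ⊢
    rw [hcg, hv, map_smul]
  have hEh : ∀ v ∈ E, h v ∈ E := by
    intro v hv
    rw [hE, Module.End.mem_eigenspace_iff] at hv ⊢
    rw [hch, hv, map_smul]
  -- restrict `g` to `E`, take an eigenvector
  have hntE : Nontrivial E := Submodule.nontrivial_iff_ne_bot.mpr hEne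
  obtain ⟨lam, hlam⟩ := Module.End.exists_eigenvalue (g.restrict hEg)
  obtain ⟨u, hu⟩ := hlam.exists_hasEigenvector
  have hu0 : (u : V) ≠ 0 := fun h0 => hu.2 (Subtype.ext h0)
  have hgu : g (u : V) = lam • (u : V) := by
    have := hu.apply_eq_smul
    have := congrArg Subtype.val this
    simpa using this
  have hcu : c (u : V) = γ • (u : V) :=
    Module.End.mem_eigenspace_iff.mp u.2
  -- the relation g h u ∈ span {u, h u}
  have hghu : g (h (u : V)) = (γ + σ * lam) • (u : V) + (τ - lam) • h (u : V) := by
    have h1 : c (u : V) = g (h u) + h (g u) - σ • g u - τ • h u := by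
      rw [hc]; unfold pairC
      simp [Module.End.mul_apply]
    rw [hcu, hgu, map_smul] at h1
    have : g (h (u : V)) = γ • (u : V) - lam • h (u : V) + σ • lam • (u : V) + τ • h (u : V) := by
      rw [h1]; abel
    rw [this]
    simp only [add_smul, sub_smul, mul_smul]
    abel
  have hhhu : h (h (u : V)) = σ • h (u : V) - (u : V) := by
    have := congrArg (fun f : End K V => f (u : V)) hh
    simpa [Module.End.mul_apply] using this
  refine ⟨Submodule.span K {(u : V), h (u : V)}, ?_, ?_, ?_, ?_⟩
  · intro hbot
    have : (u : V) ∈ Submodule.span K {(u : V), h (u : V)} :=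
      Submodule.subset_span (by simp)
    rw [hbot, Submodule.mem_bot] at this
    exact hu0 this
  · have := finrank_span_le_card (R := K) ({(u : V), h (u : V)} : Set V)
    have h2 : ({(u : V), h (u : V)} : Set V).toFinset.card ≤ 2 := by
      rw [Set.toFinset_insert, Set.toFinset_singleton]
      exact Finset.card_insert_le _ _ |>.trans (by simp)
    exact this.trans h2
  · intro w hw
    rw [Submodule.mem_span_pair] at hw
    obtain ⟨a, b, rfl⟩ := hw
    rw [map_add, map_smul, map_smul, hgu, hghu]
    rw [Submodule.mem_span_pair]
    refine ⟨a * lam + b * (γ + σ * lam), b * (τ - lam), ?_⟩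
    simp only [add_smul, mul_smul, smul_add]
    abel
  · intro w hw
    rw [Submodule.mem_span_pair] at hw
    obtain ⟨a, b, rfl⟩ := hw
    rw [map_add, map_smul, map_smul, hhhu]
    rw [Submodule.mem_span_pair]
    refine ⟨-b, a + b * σ, ?_⟩
    simp only [add_smul, mul_smul, smul_sub, neg_smul]
    abel

end Cfsg.Agent.Lib.H25.Zas
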