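import Mathlib
import Cfsg.Agent.Lib.H25.ZasPair

/-!
# Zassenhaus: groups with a fixed-point-free complex representation
-/

namespace Cfsg.Agent.Lib.H25.Zas

open Module

/-- `G` has a fixed-point-free representation on a nonzero finite dimensional complex space. -/
def IsFPF (G : Type*) [Group G] : Prop :=
  ∃ (V : Type) (_ : AddCommGroup V) (_ : Module ℂ V) (_ : FiniteDimensional ℂ V) (_ : Nontrivial V)
    (ρ : G →* End ℂ V), ∀ g : G, g ≠ 1 → ∀ v : V, ρ g v = v → v = 0

/-- same, with a bound on the dimension. -/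
def IsFPFdim (G : Type*) [Group G] (d : ℕ) : Prop :=
  ∃ (V : Type) (_ : AddCommGroup V) (_ : Module ℂ V) (_ : FiniteDimensional ℂ V) (_ : Nontrivial V)
    (ρ : G →* End ℂ V), finrank ℂ V ≤ d ∧ ∀ g : G, g ≠ 1 → ∀ v : V, ρ g v = v → v = 0

theorem IsFPFdim.isFPF {G : Type*} [Group G] {d : ℕ} (h : IsFPFdim G d) : IsFPF G := by
  obtain ⟨V, i1, i2, i3, i4, ρ, _, h⟩ := h
  exact ⟨V, i1, i2, i3, i4, ρ, h⟩

theorem IsFPF.of_injective {G G' : Type*} [Group G] [Group G'] (h : IsFPF G) (f : G' →* G)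
    (hf : Function.Injective f) : IsFPF G' := by
  obtain ⟨V, i1, i2, i3, i4, ρ, h⟩ := h
  refine ⟨V, i1, i2, i3, i4, ρ.comp f, ?_⟩
  intro g hg v hv
  exact h (f g) (fun h1 => hg (hf (by rw [h1, map_one]))) v hv

theorem IsFPF.subgroup {G : Type*} [Group G] (h : IsFPF G) (H : Subgroup G) : IsFPF H :=
  h.of_injective H.subtype H.subtype_injective

theorem IsFPF.of_mulEquiv {G G' : Type*} [Group G] [Group G'] (h : IsFPF G) (e : G' ≃* G) :
    IsFPF G' :=
  h.of_injective e.toMonoidHom e.injective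

section rep

variable {G : Type*} [Group G] {V : Type*} [AddCommGroup V] [Module ℂ V]
  (ρ : G →* End ℂ V) (hρ : ∀ g : G, g ≠ 1 → ∀ v : V, ρ g v = v → v = 0)

include hρ

theorem rep_injective [Nontrivial V] : Function.Injective ρ := by
  rw [injective_iff_map_eq_one]
  intro g hg
  by_contra hne
  obtain ⟨v, hv⟩ := exists_ne (0 : V)
  exact hv (hρ g hne v (by rw [hg]; rfl))

/-- the sum of the powers of `ρ g` vanishes for `g ≠ 1`, `g ^ n = 1`. -/
theorem sum_pow_eq_zero {g : G} (hg : g ≠ 1) {n : ℕ} (hn : g ^ n = 1) :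
    ∑ i ∈ Finset.range n, (ρ g) ^ i = 0 := by
  ext v
  apply hρ g hg
  have h1 : ρ g * ∑ i ∈ Finset.range n, (ρ g) ^ i = ∑ i ∈ Finset.range n, (ρ g) ^ i := by
    have hgn : (ρ g) ^ n = 1 := by rw [← map_pow, hn, map_one]
    rw [Finset.mul_sum]
    have : ∀ i ∈ Finset.range n, ρ g * ρ g ^ i = ρ g ^ (i + 1) := fun i _ => by
      rw [pow_succ']
    rw [Finset.sum_congr rfl this]
    have e1 := Finset.sum_range_succ' (fun i => ρ g ^ i) n
    have e2 := Finset.sum_range_succ (fun i => ρ g ^ i) n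
    rw [e2, hgn, pow_zero] at e1
    exact add_right_cancel e1.symm
  have := congrArg (fun f : End ℂ V => f v) h1
  simpa [Module.End.mul_apply] using this

theorem rep_of_orderOf_two {g : G} (hg : orderOf g = 2) : ρ g = -1 := by
  have hne : g ≠ 1 := fun h => by rw [h, orderOf_one] at hg; omega
  have h := sum_pow_eq_zero ρ hρ hne (n := 2) (by rw [← hg, pow_orderOf_eq_one])
  rw [Finset.sum_range_succ, Finset.sum_range_one, pow_zero, pow_one] at h
  exact eq_neg_of_add_eq_zero_right h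

theorem rep_of_orderOf_three {g : G} (hg : orderOf g = 3) : ρ g * ρ g = (-1 : ℂ) • ρ g - 1 := by
  have hne : g ≠ 1 := fun h => by rw [h, orderOf_one] at hg; omega
  have h := sum_pow_eq_zero ρ hρ hne (n := 3) (by rw [← hg, pow_orderOf_eq_one])
  rw [Finset.sum_range_succ, Finset.sum_range_succ, Finset.sum_range_one, pow_zero, pow_one,
    pow_two] at h
  rw [neg_one_smul]
  have : ρ g * ρ g = -(1 + ρ g) := eq_neg_of_add_eq_zero_right h
  rw [this]; abel

theorem rep_of_orderOf_four {g : G} (hg : orderOf g = 4) : ρ g * ρ g = (0 : ℂ) • ρ g - 1 := by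
  have h2 : orderOf (g ^ 2) = 2 := by
    rw [orderOf_pow' g (by norm_num : (2 : ℕ) ≠ 0), hg]; norm_num
  have := rep_of_orderOf_two ρ hρ h2
  rw [map_pow, pow_two] at this
  rw [this, zero_smul, zero_sub]

end rep

end Cfsg.Agent.Lib.H25.Zas
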