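import Mathlib
import Cfsg.Agent.Lib.H25.ZasFPF

/-!
# Zassenhaus: consequences of fixed-point-freeness (II)

* a group with an fpf representation all of whose nonidentity elements have prime order has a
  unique subgroup of prime order;
* abelian fpf groups are cyclic.
-/

namespace Cfsg.Agent.Lib.H25.Zas

open Module

section rep

variable {G : Type*} [Group G] {V : Type*} [AddCommGroup V] [Module ℂ V]
  (ρ : G →* End ℂ V) (hρ : ∀ g : G, g ≠ 1 → ∀ v : V, ρ g v = v → v = 0)

include hρ

theorem sum_rep_eq_zero [Fintype G] {a : G} (ha : a ≠ 1) : ∑ g : G, ρ g = 0 := by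
  ext v
  apply hρ a ha
  have h1 : ρ a * ∑ g : G, ρ g = ∑ g : G, ρ g := by
    rw [Finset.mul_sum]
    have : ∀ g ∈ (Finset.univ : Finset G), ρ a * ρ g = ρ (a * g) := fun g _ => by rw [map_mul]
    rw [Finset.sum_congr rfl this]
    exact Fintype.sum_equiv (Equiv.mulLeft a) _ _ (fun g => rfl)
  have := congrArg (fun f : End ℂ V => f v) h1
  simpa [Module.End.mul_apply] using this

/-- the sum of `ρ` over a subgroup of prime order vanishes. -/
theorem sum_zpowers_eq_zero [Fintype G] [DecidableEq G] {c : G} (hc : c ≠ 1) :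
    ∑ g ∈ Finset.univ.filter (fun g => g ∈ Subgroup.zpowers c), ρ g = 0 := by
  classical
  have hfin : IsOfFinOrder c := isOfFinOrder_of_finite c
  have h0 := sum_pow_eq_zero ρ hρ hc (n := orderOf c) (pow_orderOf_eq_one c)
  rw [← h0]
  symm
  apply Finset.sum_bij (fun i _ => c ^ i)
  · intro i _
    simp only [Finset.mem_filter, Finset.mem_univ, true_and]
    exact Subgroup.npow_mem_zpowers c i
  · intro i hi j hj hij
    exact pow_injOn_Iio_orderOf (by simpa using hi) (by simpa using hj) hij
  · intro g hg
    simp only [Finset.mem_filter, Finset.mem_univ, true_and] at hg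
    rw [hfin.mem_zpowers_iff_mem_range_orderOf, Finset.mem_image] at hg
    obtain ⟨k, hk1, hk2⟩ := hg
    exact ⟨k, hk1, hk2⟩
  · intro i _
    rw [map_pow]

end rep

/-- In an fpf group all of whose nonidentity elements have prime order, any two nonidentity elements
generate the same cyclic subgroup. -/
theorem IsFPF.zpowers_eq_of_forall_prime {X : Type*} [Group X] [Finite X] (h : IsFPF X)
    (hp : ∀ g : X, g ≠ 1 → (orderOf g).Prime) {a b : X} (ha : a ≠ 1) (hb : b ≠ 1) :
    Subgroup.zpowers a = Subgroup.zpowers b := by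
  classical
  obtain ⟨V, i1, i2, i3, i4, ρ, hρ⟩ := h
  have : Fintype X := Fintype.ofFinite X
  set S : Finset X := Finset.univ.filter (fun g => g ≠ 1) with hS
  set f : X → Subgroup X := fun g => Subgroup.zpowers g with hf
  set C : Finset (Subgroup X) := S.image f with hC
  -- fibre sums
  have hfib : ∀ D ∈ C, ∑ g ∈ S.filter (fun g => f g = D), ρ g = -1 := by
    intro D hD
    rw [hC, Finset.mem_image] at hD
    obtain ⟨c, hcS, rfl⟩ := hD
    have hc : c ≠ 1 := by simpa [hS] using hcS
    have hpc := hp c hc
    have hfibeq : S.filter (fun g => f g = f c)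
        = (Finset.univ.filter (fun g => g ∈ Subgroup.zpowers c)).erase 1 := by
      ext g
      simp only [Finset.mem_filter, Finset.mem_univ, true_and, Finset.mem_erase, hS, hf]
      constructor
      · rintro ⟨hg1, hg2⟩
        refine ⟨hg1, ?_⟩
        rw [← hg2]; exact Subgroup.mem_zpowers g
      · rintro ⟨hg1, hg2⟩
        refine ⟨hg1, ?_⟩
        have hle : Subgroup.zpowers g ≤ Subgroup.zpowers c :=
          Subgroup.zpowers_le.mpr hg2
        apply Subgroup.eq_of_le_of_card_ge hle
        rw [Nat.card_zpowers, Nat.card_zpowers]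
        have hdvd : orderOf g ∣ orderOf c := by
          have := Subgroup.card_dvd_of_le hle
          rwa [Nat.card_zpowers, Nat.card_zpowers] at this
        rcases (Nat.dvd_prime hpc).mp hdvd with h1 | h1
        · exact absurd (orderOf_eq_one_iff.mp h1) hg1
        · exact h1.ge
    rw [hfibeq]
    have h0 := sum_zpowers_eq_zero ρ hρ hc
    have h1mem : (1 : X) ∈ Finset.univ.filter (fun g => g ∈ Subgroup.zpowers c) := by
      simp
    rw [← Finset.add_sum_erase _ _ h1mem, map_one] at h0
    exact eq_neg_of_add_eq_zero_right h0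
  have htot : ∑ g : X, ρ g = 0 := sum_rep_eq_zero ρ hρ ha
  have hsplit : ∑ g : X, ρ g = 1 + ∑ g ∈ S, ρ g := by
    rw [hS, ← Finset.add_sum_erase _ _ (Finset.mem_univ (1 : X)), map_one]
    congr 1
    apply Finset.sum_congr _ (fun _ _ => rfl)
    ext g; simp [Finset.mem_erase]
  have hfibsum : ∑ g ∈ S, ρ g = ∑ D ∈ C, ∑ g ∈ S.filter (fun g => f g = D), ρ g := by
    rw [Finset.sum_fiberwise_of_maps_to (fun g hg => Finset.mem_image_of_mem f hg)]
  rw [hsplit, hfibsum, Finset.sum_congr rfl hfib, Finset.sum_const] at htot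
  -- so `#C = 1`
  have hcard : C.card = 1 := by
    have h1 : ((1 : ℂ) - (C.card : ℂ)) • (1 : End ℂ V) = 0 := by
      rw [sub_smul, one_smul, ← htot]
      simp only [smul_neg, Nat.cast_smul_eq_nsmul]
      abel
    rcases smul_eq_zero.mp h1 with h2 | h2
    · have : (C.card : ℂ) = 1 := by linear_combination -h2
      exact_mod_cast this
    · exact absurd h2 one_ne_zero
  have haC : f a ∈ C := Finset.mem_image_of_mem f (by simpa [hS] using ha)
  have hbC : f b ∈ C := Finset.mem_image_of_mem f (by simpa [hS] using hb)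
  exact Finset.card_le_one.mp hcard.le _ haC _ hbC

end Cfsg.Agent.Lib.H25.Zas
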