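import Mathlib
import Cfsg.Agent.Lib.H25.ZasFPF2

/-!
# Zassenhaus: common eigenvectors; abelian fpf groups are cyclic
-/

namespace Cfsg.Agent.Lib.H25.Zas

open Module

theorem exists_common_eigenvector_aux {ι : Type*} {K V : Type*} [Field K] [IsAlgClosed K]
    [AddCommGroup V] [Module K V] [FiniteDimensional K V] (f : ι → End K V)
    (hc : ∀ i j, f i * f j = f j * f i) :
    ∀ (n : ℕ) (W : Submodule K V), finrank K W ≤ n → W ≠ ⊥ → (∀ i, ∀ w ∈ W, f i w ∈ W) →
      ∃ v ∈ W, v ≠ 0 ∧ ∀ i, ∃ μ : K, f i v = μ • v := by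
  intro n
  induction n with
  | zero =>
    intro W hW hne _
    exact absurd (Submodule.finrank_eq_zero.mp (Nat.le_zero.mp hW)) hne
  | succ n ih =>
    intro W hW hne hinv
    by_cases hs : ∀ i, ∃ μ : K, ∀ w ∈ W, f i w = μ • w
    · obtain ⟨v, hvW, hv0⟩ := Submodule.exists_mem_ne_zero_of_ne_bot hne
      exact ⟨v, hvW, hv0, fun i => (hs i).imp (fun μ hμ => hμ v hvW)⟩
    · push Not at hs
      obtain ⟨i, hi⟩ := hs
      have hnt : Nontrivial W := Submodule.nontrivial_iff_ne_bot.mpr hne
      obtain ⟨μ, hμ⟩ := Module.End.exists_eigenvalue ((f i).restrict (hinv i))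
      obtain ⟨u, hu⟩ := hμ.exists_hasEigenvector
      have hu0 : (u : V) ≠ 0 := fun h0 => hu.2 (Subtype.ext h0)
      have hfu : f i (u : V) = μ • (u : V) := by
        have := congrArg Subtype.val hu.apply_eq_smul
        simpa using this
      set W' : Submodule K V := W ⊓ Module.End.eigenspace (f i) μ with hW'
      have hW'ne : W' ≠ ⊥ := by
        intro hb
        have : (u : V) ∈ W' := ⟨u.2, Module.End.mem_eigenspace_iff.mpr hfu⟩
        rw [hb, Submodule.mem_bot] at this
        exact hu0 this
      have hW'inv : ∀ j, ∀ w ∈ W', f j w ∈ W' := by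
        intro j w hw
        refine ⟨hinv j w hw.1, ?_⟩
        apply Module.End.mem_eigenspace_iff.mpr
        have h1 : f i w = μ • w := Module.End.mem_eigenspace_iff.mp hw.2
        have h2 := congrArg (fun g : End K V => g w) (hc i j)
        simp only [Module.End.mul_apply] at h2
        rw [h2, h1, map_smul]
      have hlt : W' < W := by
        refine lt_of_le_of_ne inf_le_left ?_
        intro heq
        obtain ⟨w, hwW, hw⟩ := hi μ
        have : w ∈ W' := heq ▸ hwW
        exact hw (Module.End.mem_eigenspace_iff.mp this.2)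
      have hrk : finrank K W' ≤ n := by
        have := Submodule.finrank_lt_finrank_of_lt hlt
        omega
      obtain ⟨v, hvW', hv0, hv⟩ := ih W' hrk hW'ne hW'inv
      exact ⟨v, hvW'.1, hv0, hv⟩

theorem exists_common_eigenvector {ι : Type*} {K V : Type*} [Field K] [IsAlgClosed K]
    [AddCommGroup V] [Module K V] [FiniteDimensional K V] [Nontrivial V] (f : ι → End K V)
    (hc : ∀ i j, f i * f j = f j * f i) :
    ∃ v : V, v ≠ 0 ∧ ∀ i, ∃ μ : K, f i v = μ • v := by
  obtain ⟨v, _, hv0, hv⟩ := exists_common_eigenvector_aux f hc (finrank K (⊤ : Submodule K V)) ⊤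
    le_rfl top_ne_bot (fun _ _ _ => Submodule.mem_top)
  exact ⟨v, hv0, hv⟩

/-- A commutative group with an fpf representation is cyclic. -/
theorem IsFPF.isCyclic_of_comm {A : Type*} [Group A] [Finite A] (h : IsFPF A)
    (hcomm : ∀ a b : A, a * b = b * a) : IsCyclic A := by
  classical
  obtain ⟨V, i1, i2, i3, i4, ρ, hρ⟩ := h
  obtain ⟨v, hv0, hv⟩ := exists_common_eigenvector (fun a : A => ρ a)
    (fun a b => by rw [← map_mul, ← map_mul, hcomm])
  choose μ hμ using hv
  have hμ1 : μ 1 = 1 := by
    have := hμ 1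
    rw [map_one, Module.End.one_apply] at this
    have h2 : ((1 : ℂ) - μ 1) • v = 0 := by rw [sub_smul, one_smul, ← this, sub_self]
    rcases smul_eq_zero.mp h2 with h3 | h3
    · linear_combination -h3
    · exact absurd h3 hv0
  have hμmul : ∀ a b, μ (a * b) = μ a * μ b := by
    intro a b
    have h1 := hμ (a * b)
    rw [map_mul, Module.End.mul_apply, hμ b, map_smul, hμ a, smul_smul] at h1
    have h2 : (μ (a * b) - μ b * μ a) • v = 0 := by rw [sub_smul, ← h1, sub_self]
    rcases smul_eq_zero.mp h2 with h3 | h3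
    · linear_combination h3
    · exact absurd h3 hv0
  let φ : A →* ℂ := { toFun := μ, map_one' := hμ1, map_mul' := hμmul }
  have hinj : Function.Injective φ := by
    rw [injective_iff_map_eq_one]
    intro a ha
    by_contra hne
    apply hv0
    apply hρ a hne
    have : μ a = 1 := ha
    rw [hμ a, this, one_smul]
  exact isCyclic_of_subgroup_isDomain φ hinj

end Cfsg.Agent.Lib.H25.Zas
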