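import Mathlib
import Cfsg.Agent.Lib.H25.ZasEigen
import Cfsg.Agent.S0016

/-!
# Zassenhaus: Sylow structure of fpf groups
-/

namespace Cfsg.Agent.Lib.H25.Zas

/-- two commuting elements of prime order `p` in an fpf group generate the same subgroup. -/
theorem IsFPF.zpowers_eq_of_commute {G : Type*} [Group G] [Finite G] (h : IsFPF G) {p : ℕ}
    (hp : p.Prime) {a b : G} (ha : orderOf a = p) (hb : orderOf b = p) (hab : a * b = b * a) :
    Subgroup.zpowers a = Subgroup.zpowers b := by
  classical
  set k : Set G := {a, b} with hk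
  have hcomm : ∀ x ∈ k, ∀ y ∈ k, x * y = y * x := by
    intro x hx y hy
    rcases hx with rfl | rfl <;> rcases hy with rfl | rfl
    · rfl
    · exact hab
    · exact hab.symm
    · rfl
  letI : CommGroup (Subgroup.closure k) := Subgroup.closureCommGroupOfComm hcomm
  have hX : IsFPF (Subgroup.closure k) := h.subgroup _
  -- every element has `p`-th power one
  have hpow : ∀ x : Subgroup.closure k, x ^ p = 1 := by
    have hker : (⊤ : Subgroup (Subgroup.closure k)) ≤ (powMonoidHom p : _ →* Subgroup.closure k).ker := by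
      rw [← Subgroup.closure_closure_coe_preimage, Subgroup.closure_le]
      intro x hx
      have hx' : (x : G) ∈ k := hx
      rw [SetLike.mem_coe, MonoidHom.mem_ker, powMonoidHom_apply]
      apply Subtype.ext
      rw [Subgroup.coe_pow, Subgroup.coe_one]
      rcases hx' with h1 | h1
      · rw [h1, ← ha, pow_orderOf_eq_one]
      · rw [h1, ← hb, pow_orderOf_eq_one]
    intro x
    have := hker (Subgroup.mem_top x)
    rwa [MonoidHom.mem_ker, powMonoidHom_apply] at this
  have hprime : ∀ x : Subgroup.closure k, x ≠ 1 → (orderOf x).Prime := by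
    intro x hx
    have hdvd : orderOf x ∣ p := orderOf_dvd_of_pow_eq_one (hpow x)
    rcases (Nat.dvd_prime hp).mp hdvd with h1 | h1
    · exact absurd (orderOf_eq_one_iff.mp h1) hx
    · rw [h1]; exact hp
  have hak : a ∈ Subgroup.closure k := Subgroup.subset_closure (by simp [hk])
  have hbk : b ∈ Subgroup.closure k := Subgroup.subset_closure (by simp [hk])
  have ha1 : (⟨a, hak⟩ : Subgroup.closure k) ≠ 1 := by
    intro h1
    have : a = 1 := congrArg Subtype.val h1
    rw [this, orderOf_one] at ha
    exact hp.one_lt.ne ha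
  have hb1 : (⟨b, hbk⟩ : Subgroup.closure k) ≠ 1 := by
    intro h1
    have : b = 1 := congrArg Subtype.val h1
    rw [this, orderOf_one] at hb
    exact hp.one_lt.ne hb
  have hz := hX.zpowers_eq_of_forall_prime hprime ha1 hb1
  have := congrArg (Subgroup.map (Subgroup.closure k).subtype) hz
  simpa [MonoidHom.map_zpowers] using this

/-- a `p`-group with an fpf representation has at most one subgroup of order `p`. -/
theorem IsFPF.unique_subgroup_of_pgroup {P : Type*} [Group P] [Finite P] (h : IsFPF P) (p : ℕ)
    [hp : Fact p.Prime] (hP : IsPGroup p P) (H K : Subgroup P) (hH : Nat.card H = p)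
    (hK : Nat.card K = p) : H = K := by
  classical
  have hnt : Nontrivial P := by
    by_contra hnt
    rw [not_nontrivial_iff_subsingleton] at hnt
    have : Nat.card H = 1 := Nat.card_unique
    rw [hH] at this
    exact hp.out.one_lt.ne' this
  -- a central element of order `p`
  have hZ : Nontrivial (Subgroup.center P) := hP.center_nontrivial
  have hdvd : p ∣ Nat.card (Subgroup.center P) := by
    have hZp : IsPGroup p (Subgroup.center P) := hP.to_subgroup _
    obtain ⟨n, hn⟩ := IsPGroup.iff_card.mp hZp
    have hn0 : n ≠ 0 := by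
      intro h0
      rw [h0, pow_zero] at hn
      have := (Nat.card_eq_one_iff_unique.mp hn).1
      exact not_subsingleton _ this
    rw [hn]; exact dvd_pow_self p hn0
  obtain ⟨z, hz⟩ := exists_prime_orderOf_dvd_card' p hdvd
  have hzo : orderOf (z : P) = p := by rw [Subgroup.orderOf_coe]; exact hz
  have key : ∀ L : Subgroup P, Nat.card L = p → L = Subgroup.zpowers (z : P) := by
    intro L hL
    have hcyc : IsCyclic L := isCyclic_of_prime_card hL
    obtain ⟨y, hy⟩ := hcyc.exists_generator
    have hyo : orderOf (y : P) = p := by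
      rw [Subgroup.orderOf_coe, orderOf_eq_card_of_forall_mem_zpowers hy, hL]
    have hL' : L = Subgroup.zpowers (y : P) := by
      apply Subgroup.eq_of_le_of_card_ge
      · intro x hx
        obtain ⟨n, hn⟩ := Subgroup.mem_zpowers_iff.mp (hy ⟨x, hx⟩)
        rw [Subgroup.mem_zpowers_iff]
        exact ⟨n, by have := congrArg Subtype.val hn; simpa using this⟩
      · rw [Nat.card_zpowers, hyo, hL]
    rw [hL']
    exact h.zpowers_eq_of_commute hp.out hyo hzo (Subgroup.mem_center_iff.mp z.2 y)
  rw [key H hH, key K hK]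

/-- Sylow subgroups of fpf groups are cyclic or generalized quaternion. -/
theorem IsFPF.sylow {G : Type*} [Group G] [Finite G] (h : IsFPF G) (p : ℕ) [Fact p.Prime]
    (P : Sylow p G) :
    IsCyclic P ∨ (p = 2 ∧ ∃ n : ℕ, Nonempty (P ≃* QuaternionGroup (2 ^ n))) :=
  Cfsg.Agent.S0016.result p P.isPGroup' (fun H K hH hK =>
    (h.subgroup (P : Subgroup G)).unique_subgroup_of_pgroup p P.isPGroup' H K hH hK)

/-- a group of order `p * q` (`p`, `q` primes) with an fpf representation is cyclic. -/
theorem IsFPF.isCyclic_of_card_eq_mul {X : Type*} [Group X] [Finite X] (h : IsFPF X) {p q : ℕ}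
    (hp : p.Prime) (hq : q.Prime) (hX : Nat.card X = p * q) : IsCyclic X := by
  classical
  have := Fact.mk hp
  have := Fact.mk hq
  by_cases hpq : p = q
  · subst hpq
    have hX2 : Nat.card X = p ^ 2 := by rw [hX, pow_two]
    exact h.isCyclic_of_comm (fun a b => IsPGroup.commutative_of_card_eq_prime_sq hX2 a b)
  · by_contra hnc
    have hprime : ∀ g : X, g ≠ 1 → (orderOf g).Prime := by
      intro g hg
      have hdvd : orderOf g ∣ p * q := hX ▸ orderOf_dvd_natCard g
      have hne1 : orderOf g ≠ 1 := fun h1 => hg (orderOf_eq_one_iff.mp h1)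
      have hnepq : orderOf g ≠ p * q := by
        intro h2
        exact hnc (isCyclic_of_orderOf_eq_card g (by rw [h2, hX]))
      -- divisors of p*q
      rcases (Nat.dvd_mul).mp hdvd with ⟨d1, d2, h1, h2, h3⟩
      rcases (Nat.dvd_prime hp).mp h1 with e1 | e1 <;> rcases (Nat.dvd_prime hq).mp h2 with e2 | e2
      · exact absurd (by rw [← h3, e1, e2]) hne1
      · rw [← h3, e1, e2, one_mul]; exact hq
      · rw [← h3, e1, e2, mul_one]; exact hp
      · exact absurd (by rw [← h3, e1, e2]) hnepq
    obtain ⟨a, ha⟩ := exists_prime_orderOf_dvd_card' p (hX ▸ dvd_mul_right p q)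
    obtain ⟨b, hb⟩ := exists_prime_orderOf_dvd_card' q (hX ▸ dvd_mul_left q p)
    have ha1 : a ≠ 1 := fun h1 => by rw [h1, orderOf_one] at ha; exact hp.one_lt.ne ha
    have hb1 : b ≠ 1 := fun h1 => by rw [h1, orderOf_one] at hb; exact hq.one_lt.ne hb
    have := h.zpowers_eq_of_forall_prime hprime ha1 hb1
    have hc := congrArg (fun S : Subgroup X => Nat.card S) this
    simp only [Nat.card_zpowers, ha, hb] at hc
    exact hpq hc

end Cfsg.Agent.Lib.H25.Zas
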