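import Mathlib
import Cfsg.Agent.Lib.H25.ZasFPF

/-!
# Zassenhaus: the hypotheses on the central quotient of a minimal counterexample

`HHyp H` collects what is known about `H = G / Z(G)` when `G` is a minimal perfect group with a
fixed-point-free complex representation that is not `SL(2,5)`.  The theorem `HHyp.false`
(file `ZasH*.lean`) shows that no such `H` exists.
-/

namespace Cfsg.Agent.Lib.H25.Zas

/-- hypotheses on the central quotient `H` of a minimal counterexample:
simple, dihedral Sylow 2-subgroups of order at least 4, odd order subgroups have fixed-point-free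
representations, proper perfect subgroups are `A₅`, and `H` is not generated by an element of order
2 or 3 together with an element of order 3. -/
structure HHyp (H : Type*) [Group H] : Prop where
  finite : Finite H
  simple : IsSimpleGroup H
  syl : ∃ (S : Sylow 2 H) (n : ℕ), 2 ≤ n ∧ Nonempty ((S : Subgroup H) ≃* DihedralGroup n)
  odd : ∀ R : Subgroup H, Odd (Nat.card R) → IsFPF R
  perf : ∀ M : Subgroup H, M ≠ ⊤ → M ≠ ⊥ → commutator M = ⊤ →
    Nonempty (M ≃* alternatingGroup (Fin 5))
  gen : ∀ a b : H, (orderOf a = 2 ∨ orderOf a = 3) → orderOf b = 3 →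
    Subgroup.closure {a, b} ≠ ⊤

end Cfsg.Agent.Lib.H25.Zas
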