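import Mathlib
import Cfsg.Agent.Lib.H25.ZasHyp
import Cfsg.Agent.Lib.L0.DihedralSylow
import Cfsg.Agent.Lib.L0.DihedralInv
import Cfsg.Agent.Lib.L0.DihedralKlein
import Cfsg.Agent.Lib.H4.DihBSW1

/-!
# Zassenhaus, H-level, part 1: 2-subgroups of a group with dihedral Sylow 2-subgroups
-/

set_option autoImplicit false

namespace Cfsg.Agent.Lib.H25.Zas

open Subgroup

variable {H : Type*} [Group H] [Finite H]

/-- all Sylow 2-subgroups are dihedral of order `2 * n`, `n ≥ 2`. -/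
def DihSylow (H : Type*) [Group H] (n : ℕ) : Prop :=
  2 ≤ n ∧ ∀ P : Sylow 2 H, Nonempty ((P : Subgroup H) ≃* DihedralGroup n)

theorem DihSylow.of_one (S : Sylow 2 H) (n : ℕ) (hn : 2 ≤ n)
    (hS : Nonempty ((S : Subgroup H) ≃* DihedralGroup n)) : DihSylow H n := by
  haveI : Fact (Nat.Prime 2) := ⟨Nat.prime_two⟩
  obtain ⟨e⟩ := hS
  exact ⟨hn, fun P => ⟨(Sylow.equiv P S).trans e⟩⟩

theorem DihSylow.card_sylow {n : ℕ} (hD : DihSylow H n) (P : Sylow 2 H) :
    Nat.card (P : Subgroup H) = 2 * n := by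
  obtain ⟨e⟩ := hD.2 P
  haveI : NeZero n := ⟨by have := hD.1; omega⟩
  rw [Nat.card_congr e.toEquiv, DihedralGroup.nat_card]

/-- the rotation subgroup of a Sylow 2-subgroup -/
theorem DihSylow.exists_rot {n : ℕ} (hD : DihSylow H n) (P : Sylow 2 H) :
    ∃ R₀ : Subgroup H, R₀ ≤ P ∧ IsCyclic R₀ ∧ (∀ a ∈ (P : Subgroup H), a ∉ R₀ → a * a = 1) ∧
      (∀ a ∈ (P : Subgroup H), ∀ b ∈ (P : Subgroup H), a ∉ R₀ → b ∉ R₀ → a * b⁻¹ ∈ R₀) := by
  obtain ⟨e⟩ := hD.2 P
  haveI : NeZero n := ⟨by have := hD.1; omega⟩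
  obtain ⟨R₀, h1, h2, h3, h4, _⟩ :=
    Cfsg.Agent.Lib.L0.exists_dihedral_rotation_subgroup (P : Subgroup H) n e
  exact ⟨R₀, h1, h2, h3, h4⟩

/-- an element of odd order normalizing a 2-subgroup which is not a four-group centralizes it -/
theorem DihSylow.mem_centralizer_of_odd {n : ℕ} (hD : DihSylow H n) (Q : Subgroup H)
    (hQ : IsPGroup 2 Q) {g : H} (hg : g ∈ normalizer (Q : Set H)) (hodd : Odd (orderOf g))
    (hK : ¬ IsKleinFour Q) : g ∈ centralizer (Q : Set H) := by
  haveI : Fact (Nat.Prime 2) := ⟨Nat.prime_two⟩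
  obtain ⟨P, hQP⟩ := hQ.exists_le_sylow
  obtain ⟨R₀, h1, h2, h3, h4⟩ := hD.exists_rot P
  exact Cfsg.Agent.Lib.L0.mem_centralizer_of_dihedralLike (P : Subgroup H) R₀ P.isPGroup' h2 h3 h4 Q
    hQP g hg (Nat.Coprime.symm (Nat.coprime_two_left.mpr hodd)) (fun h => absurd h hK)

/-- in a cyclic group, an involution is unique -/
theorem eq_of_sq_eq_one_of_isCyclic {A : Subgroup H} (hA : IsCyclic A) {x y : H} (hx : x ∈ A)
    (hy : y ∈ A) (hx2 : x * x = 1) (hy2 : y * y = 1) (hx1 : x ≠ 1) (hy1 : y ≠ 1) : x = y := by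
  have ox : orderOf x = 2 := orderOf_eq_prime (by rw [pow_two]; exact hx2) hx1
  have oy : orderOf y = 2 := orderOf_eq_prime (by rw [pow_two]; exact hy2) hy1
  exact Cfsg.Agent.Lib.H4.DihBSW.eq_of_orderOf_two_of_mem hA hx hy ox oy

/-- a 2-element centralizing a four-group lies in it -/
theorem DihSylow.mem_klein_of_commute {n : ℕ} (hD : DihSylow H n) (V : Subgroup H)
    (hV : IsKleinFour V) {x : H} (hx2 : ∃ k : ℕ, orderOf x = 2 ^ k)
    (hx : ∀ v ∈ V, x * v = v * x) : x ∈ V := by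
  haveI : Fact (Nat.Prime 2) := ⟨Nat.prime_two⟩
  have hVp : IsPGroup 2 V := by
    apply IsPGroup.of_card (n := 2)
    rw [hV.card_four]; norm_num
  have hxp : IsPGroup 2 (zpowers x) := by
    obtain ⟨k, hk⟩ := hx2
    apply IsPGroup.of_card (n := k)
    rw [Nat.card_zpowers, hk]
  have hnorm : zpowers x ≤ normalizer (V : Set H) := by
    rw [zpowers_le]
    rw [mem_normalizer_iff]
    intro v
    constructor
    · intro hv
      rw [hx v hv, mul_inv_cancel_right]; exact hv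
    · intro hv
      have h1 := hx _ hv
      have : x * v * x⁻¹ = v := by
        have h2 : x * (x * v * x⁻¹) = x * v * x⁻¹ * x := h1
        have h3 : x * (x * v * x⁻¹) = x * v := by
          rw [h2]; group
        exact mul_left_cancel h3
      rw [← this]; exact hv
  have hT : IsPGroup 2 (V ⊔ zpowers x : Subgroup H) := hVp.to_sup_of_normal_left' hxp hnorm
  obtain ⟨P, hTP⟩ := hT.exists_le_sylow
  obtain ⟨R₀, h1, h2, h3, h4⟩ := hD.exists_rot P
  have hVP : V ≤ P := le_sup_left.trans hTP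
  have hxP : x ∈ (P : Subgroup H) := hTP (mem_sup_right (mem_zpowers x))
  have : IsKleinFour V := hV
  have hsq : ∀ v ∈ V, v * v = 1 := fun v hv => by
    have := IsKleinFour.mul_self (⟨v, hv⟩ : V)
    exact congrArg Subtype.val this
  -- an element of `V` outside `R₀`
  have hex : ∃ v ∈ V, v ∉ R₀ := by
    by_contra hcon
    push Not at hcon
    have hle : V ≤ R₀ := hcon
    have : IsCyclic V := by
      have : IsCyclic (V.subgroupOf R₀) := inferInstance
      exact isCyclic_of_surjective (Subgroup.subgroupOfEquivOfLe hle).toMonoidHom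
        (Subgroup.subgroupOfEquivOfLe hle).surjective
    exact IsKleinFour.not_isCyclic this
  obtain ⟨v, hvV, hvR⟩ := hex
  have hv1 : v ≠ 1 := fun h => hvR (h ▸ one_mem _)
  have hvinv : v⁻¹ = v := inv_eq_of_mul_eq_one_left (hsq v hvV)
  -- the involution of `V` inside `R₀`
  have hz : ∃ z ∈ V, z ∈ R₀ ∧ z ≠ 1 := by
    -- pick `w ∈ V`, `w ≠ 1`, `w ≠ v`
    have hcard : Nat.card V = 4 := hV.card_four
    have : ∃ w ∈ V, w ≠ 1 ∧ w ≠ v := by
      by_contra hcon
      push Not at hcon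
      have hle : Nat.card V ≤ 2 := by
        apply Cfsg.Agent.Lib.L0.Dih.card_le_two_of_forall_mem V 1 v
        intro w hw
        by_cases h1 : w = 1
        · exact Or.inl h1
        · exact Or.inr (hcon w hw h1)
      omega
    obtain ⟨w, hwV, hw1, hwv⟩ := this
    by_cases hwR : w ∈ R₀
    · exact ⟨w, hwV, hwR, hw1⟩
    · refine ⟨w * v⁻¹, V.mul_mem hwV (V.inv_mem hvV), h4 w (hVP hwV) v (hVP hvV) hwR hvR, ?_⟩
      intro h
      exact hwv (by rw [mul_inv_eq_one] at h; exact h)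
  obtain ⟨z, hzV, hzR, hz1⟩ := hz
  have hz2 : z * z = 1 := hsq z hzV
  by_cases hxR : x ∈ R₀
  · -- `v` inverts `x`
    have hvx : v * x ∉ R₀ := fun h => hvR (by
      have := R₀.mul_mem h (R₀.inv_mem hxR)
      rwa [mul_inv_cancel_right] at this)
    have h5 := h3 (v * x) ((P : Subgroup H).mul_mem (hVP hvV) hxP) hvx
    have hcomm := hx v hvV
    -- (v x)(v x) = 1, x v = v x  ⟹  x * x = 1
    have hxx : x * x = 1 := by
      have : v * x * (v * x) = v * v * (x * x) := by
        rw [mul_assoc v x (v * x), ← mul_assoc x v x, hcomm]; group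
      rw [this, hsq v hvV, one_mul] at h5
      exact h5
    by_cases hx1 : x = 1
    · rw [hx1]; exact one_mem _
    · have := eq_of_sq_eq_one_of_isCyclic h2 hxR hzR hxx hz2 hx1 hz1
      rw [this]; exact hzV
  · -- `x v⁻¹ ∈ R₀`, commutes with `v`, inverted by `v`
    have hy : x * v⁻¹ ∈ R₀ := h4 x hxP v (hVP hvV) hxR hvR
    rw [hvinv] at hy
    have hvy : v * (x * v) ∉ R₀ := fun h => hvR (by
      have := R₀.mul_mem h (R₀.inv_mem hy)
      rwa [mul_inv_cancel_right] at this)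
    have h5 := h3 (v * (x * v)) ((P : Subgroup H).mul_mem (hVP hvV)
      ((P : Subgroup H).mul_mem hxP (hVP hvV))) hvy
    have hcomm := hx v hvV
    have hyy : x * v * (x * v) = 1 := by
      have e1 : v * (x * v) = x := by
        rw [← mul_assoc, ← hcomm, mul_assoc, hsq v hvV, mul_one]
      rw [e1] at h5
      have : x * v * (x * v) = x * x * (v * v) := by
        rw [mul_assoc x v (x * v), ← mul_assoc v x v, ← hcomm]; group
      rw [this, h5, hsq v hvV, one_mul]
    by_cases hy1 : x * v = 1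
    · have : x = v⁻¹ := eq_inv_of_mul_eq_one_left hy1
      rw [this]; exact V.inv_mem hvV
    · have := eq_of_sq_eq_one_of_isCyclic h2 hy hzR hyy hz2 hy1 hz1
      have hxz : x = z * v⁻¹ := by rw [← this]; group
      rw [hxz]; exact V.mul_mem hzV (V.inv_mem hvV)

end Cfsg.Agent.Lib.H25.Zas
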