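import Mathlib
import Cfsg.Agent.Lib.H16.ZasXOdd
import Cfsg.Agent.Lib.H25.ZasH1
import Cfsg.Agent.Lib.H1.Fitting
import Cfsg.Agent.Lib.H22.PPrimeCore
import Cfsg.Agent.Lib.H7.DihedralLemma2

/-!
# Zassenhaus, H-level, part 2: solvable groups whose odd order subgroups are fixed-point-free
-/

set_option autoImplicit false
set_option linter.style.haveILetI false

namespace Cfsg.Agent.Lib.H25.Zas

open Subgroup

/-- odd order subgroups have fixed-point-free representations -/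
def OddFPF (M : Type*) [Group M] : Prop := ∀ R : Subgroup M, Odd (Nat.card R) → IsFPF R

theorem OddFPF.subgroup {M : Type*} [Group M] (h : OddFPF M) (N : Subgroup M) : OddFPF N := by
  intro R hR
  have e : R ≃* R.map N.subtype := R.equivMapOfInjective N.subtype N.subtype_injective
  have : Odd (Nat.card (R.map N.subtype)) := by rw [← Nat.card_congr e.toEquiv]; exact hR
  exact (h _ this).of_mulEquiv e

theorem OddFPF.of_mulEquiv {M M' : Type*} [Group M] [Group M'] (h : OddFPF M) (e : M' ≃* M) :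
    OddFPF M' := by
  intro R hR
  have e' : R ≃* R.map e.toMonoidHom := R.equivMapOfInjective e.toMonoidHom e.injective
  have : Odd (Nat.card (R.map e.toMonoidHom)) := by rw [← Nat.card_congr e'.toEquiv]; exact hR
  exact (h _ this).of_mulEquiv e'

/-- structure of a solvable group whose odd order subgroups are fixed-point-free: `F(M) = Q × Z` with
`Q = O_2(M)` and `Z` cyclic of odd order. -/
theorem sol_structure {M : Type*} [Group M] [Finite M] (hM : OddFPF M) [Group.IsSolvable M] :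
    ∃ Q Z : Subgroup M, Q.Normal ∧ Z.Normal ∧ IsPGroup 2 Q ∧ Odd (Nat.card Z) ∧ IsCyclic Z ∧
      (∀ q ∈ Q, ∀ z ∈ Z, q * z = z * q) ∧
      (∀ x : M, (∀ q ∈ Q, x * q = q * x) → (∀ z ∈ Z, x * z = z * x) → x ∈ Q ⊔ Z) ∧
      (∀ Q' : Subgroup M, Q'.Normal → IsPGroup 2 Q' → Q' ≤ Q) ∧
      (∀ Z' : Subgroup M, Z'.Normal → Odd (Nat.card Z') → Group.IsNilpotent Z' → Z' ≤ Z) := by
  haveI : Fact (Nat.Prime 2) := ⟨Nat.prime_two⟩
  set Q : Subgroup M := Cfsg.pCore 2 M with hQ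
  set F : Subgroup M := Cfsg.fittingSubgroup M with hF
  set Z : Subgroup M := Cfsg.pPrimeCore 2 M ⊓ F with hZ
  have hQn : Q.Normal := Cfsg.Agent.Lib.H1.pCore_normal 2 M
  have hFn : F.Normal := Cfsg.Agent.Lib.H1.fittingSubgroup_normal M
  have hOn : (Cfsg.pPrimeCore 2 M).Normal := Cfsg.Agent.Lib.H22.pPrimeCore_normal 2
  have hZn : Z.Normal := Subgroup.normal_inf_normal _ _
  have hQp : IsPGroup 2 Q := Cfsg.Agent.Lib.H1.pCore_isPGroup 2 M
  have hZodd : Odd (Nat.card Z) := by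
    have h1 : (Nat.card (Cfsg.pPrimeCore 2 M)).Coprime 2 :=
      Cfsg.Agent.Lib.H22.card_pPrimeCore_coprime 2
    have h2 : Nat.card Z ∣ Nat.card (Cfsg.pPrimeCore 2 M) := Subgroup.card_dvd_of_le inf_le_left
    have h3 : (Nat.card Z).Coprime 2 := Nat.Coprime.coprime_dvd_left h2 h1
    exact Nat.coprime_two_right.mp h3
  have hFnil : Group.IsNilpotent F := Cfsg.Agent.Lib.H1.fittingSubgroup_isNilpotent
  have hZnil : Group.IsNilpotent Z := by
    have hle : Z ≤ F := inf_le_right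
    have : Group.IsNilpotent (Z.subgroupOf F) := inferInstance
    exact Group.nilpotent_of_mulEquiv (Subgroup.subgroupOfEquivOfLe hle)
  have hZc : IsCyclic Z := (hM Z hZodd).isCyclic_of_isNilpotent hZodd hZnil
  have hdisj : Disjoint Q Z := by
    rw [Subgroup.disjoint_def]
    intro x hxQ hxZ
    have h1 : orderOf x ∣ Nat.card Z := by
      have := orderOf_dvd_natCard (⟨x, hxZ⟩ : Z)
      rwa [Subgroup.orderOf_mk] at this
    obtain ⟨k, hk⟩ := (IsPGroup.iff_orderOf.mp hQp) ⟨x, hxQ⟩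
    rw [Subgroup.orderOf_mk] at hk
    have h2 : (orderOf x).Coprime (Nat.card Z) := by
      rw [hk]
      exact Nat.Coprime.pow_left k (Nat.coprime_two_left.mpr hZodd)
    have h3 : orderOf x = 1 := Nat.Coprime.eq_one_of_dvd h2 h1
    exact orderOf_eq_one_iff.mp h3
  have hcomm : ∀ q ∈ Q, ∀ z ∈ Z, q * z = z * q := fun q hq z hz =>
    Subgroup.commute_of_normal_of_disjoint Q Z hQn hZn hdisj q z hq hz
  -- `F ≤ Q ⊔ Z`
  have hFle : F ≤ Q ⊔ Z := by
    rw [hF, Cfsg.Agent.Lib.H1.fittingSubgroup_eq_iSup_pCore]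
    apply iSup_le
    intro p
    haveI : Fact (p : ℕ).Prime := ⟨p.2⟩
    by_cases hp2 : (p : ℕ) = 2
    · rw [hp2]; exact le_sup_left
    · refine le_trans ?_ le_sup_right
      have hpn : (Cfsg.pCore (p : ℕ) M).Normal := Cfsg.Agent.Lib.H1.pCore_normal p M
      have hpp : IsPGroup (p : ℕ) (Cfsg.pCore (p : ℕ) M) := Cfsg.Agent.Lib.H1.pCore_isPGroup p M
      apply le_inf
      · apply Cfsg.Agent.Lib.H22.le_pPrimeCore 2 _ hpn
        obtain ⟨k, hk⟩ := IsPGroup.iff_card.mp hpp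
        rw [hk]
        apply Nat.Coprime.pow_left
        exact (Nat.coprime_primes p.2 Nat.prime_two).mpr hp2
      · exact Cfsg.Agent.Lib.H1.le_fittingSubgroup hpn hpp.isNilpotent
  refine ⟨Q, Z, hQn, hZn, hQp, hZodd, hZc, hcomm, ?_, ?_, ?_⟩
  · intro x hxQ hxZ
    apply hFle
    apply Cfsg.Agent.Lib.H7.centralizer_fittingSubgroup_le_of_isSolvable M
    rw [Subgroup.mem_centralizer_iff]
    intro f hf
    have hfQZ : f ∈ Q ⊔ Z := hFle hf
    -- `x` commutes with `Q ⊔ Z`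
    have : Q ⊔ Z ≤ Subgroup.centralizer ({x} : Set M) := by
      apply sup_le
      · intro q hq
        rw [Subgroup.mem_centralizer_singleton_iff]
        exact (hxQ q hq).symm
      · intro z hz
        rw [Subgroup.mem_centralizer_singleton_iff]
        exact (hxZ z hz).symm
    have h := this hfQZ
    rw [Subgroup.mem_centralizer_singleton_iff] at h
    exact h
  · intro Q' hQ'n hQ'p
    exact Cfsg.Agent.Lib.H1.le_pCore hQ'n hQ'p
  · intro Z' hZ'n hZ'odd hZ'nil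
    apply le_inf
    · exact Cfsg.Agent.Lib.H22.le_pPrimeCore 2 Z' hZ'n (Nat.coprime_two_right.mpr hZ'odd)
    · exact Cfsg.Agent.Lib.H1.le_fittingSubgroup hZ'n hZ'nil

/-- commutators of elements normalizing a cyclic subgroup centralize it -/
theorem commutator_mem_centralizer_of_cyclic {H : Type*} [Group H] (Z : Subgroup H) (hZ : IsCyclic Z)
    {x y : H} (hx : x ∈ normalizer (Z : Set H)) (hy : y ∈ normalizer (Z : Set H)) :
    x * y * x⁻¹ * y⁻¹ ∈ centralizer (Z : Set H) := by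
  set φ := Z.normalizerMonoidHom with hφ
  have hcomm : ∀ a b : MulAut Z, a * b = b * a := by
    intro a b
    have e := IsCyclic.mulAutMulEquiv Z
    apply e.injective
    rw [map_mul, map_mul, mul_comm]
  have h1 : φ ((⟨x, hx⟩ : normalizer (Z : Set H)) * ⟨y, hy⟩ * ⟨x, hx⟩⁻¹ * ⟨y, hy⟩⁻¹) = 1 := by
    rw [map_mul, map_mul, map_mul, map_inv, map_inv, hcomm (φ ⟨x, hx⟩) (φ ⟨y, hy⟩)]
    group
  have h2 : ((⟨x, hx⟩ : normalizer (Z : Set H)) * ⟨y, hy⟩ * ⟨x, hx⟩⁻¹ * ⟨y, hy⟩⁻¹) ∈ φ.ker := h1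
  rw [hφ, Subgroup.normalizerMonoidHom_ker, Subgroup.mem_subgroupOf] at h2
  exact h2

/-- `N` normalizes `Q` (elementwise form) -/
def NormBy {H : Type*} [Group H] (N Q : Subgroup H) : Prop := ∀ g ∈ N, ∀ q ∈ Q, g * q * g⁻¹ ∈ Q

theorem NormBy.le_normalizer {H : Type*} [Group H] {N Q : Subgroup H} (h : NormBy N Q) :
    N ≤ normalizer (Q : Set H) := by
  intro g hg
  rw [mem_normalizer_iff]
  intro q
  constructor
  · exact h g hg q
  · intro hq
    have := h g⁻¹ (N.inv_mem hg) _ hq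
    have e : g⁻¹ * (g * q * g⁻¹) * g⁻¹⁻¹ = q := by group
    rwa [e] at this

theorem NormBy.of_le_normalizer {H : Type*} [Group H] {N Q : Subgroup H}
    (h : N ≤ normalizer (Q : Set H)) : NormBy N Q := by
  intro g hg q hq
  exact (mem_normalizer_iff.mp (h hg) q).mp hq

theorem NormBy.subgroupOf_normal {H : Type*} [Group H] {N Q : Subgroup H} (h : NormBy N Q) :
    (Q.subgroupOf N).Normal := by
  constructor
  intro q hq g
  rw [mem_subgroupOf] at hq ⊢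
  exact h g g.2 q hq

/-- the structure theorem for a solvable subgroup `N` of `H`, stated inside `H`. -/
theorem sol_structure_sub {H : Type*} [Group H] [Finite H] (hH : OddFPF H) (N : Subgroup H)
    (hN : Group.IsSolvable N) :
    ∃ Q Z : Subgroup H, Q ≤ N ∧ Z ≤ N ∧ NormBy N Q ∧ NormBy N Z ∧
      IsPGroup 2 Q ∧ Odd (Nat.card Z) ∧ IsCyclic Z ∧
      (∀ q ∈ Q, ∀ z ∈ Z, q * z = z * q) ∧
      (∀ x ∈ N, (∀ q ∈ Q, x * q = q * x) → (∀ z ∈ Z, x * z = z * x) → x ∈ Q ⊔ Z) ∧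
      (∀ Q' : Subgroup H, Q' ≤ N → NormBy N Q' → IsPGroup 2 Q' → Q' ≤ Q) ∧
      (∀ Z' : Subgroup H, Z' ≤ N → NormBy N Z' → Odd (Nat.card Z') → Group.IsNilpotent Z' →
        Z' ≤ Z) := by
  obtain ⟨Q₀, Z₀, hQn, hZn, hQp, hZodd, hZc, hcomm, hkey, hQmax, hZmax⟩ :=
    sol_structure (hH.subgroup N)
  have eQ : Q₀ ≃* Q₀.map N.subtype := Q₀.equivMapOfInjective N.subtype N.subtype_injective
  have eZ : Z₀ ≃* Z₀.map N.subtype := Z₀.equivMapOfInjective N.subtype N.subtype_injective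
  have hmemQ : ∀ x : H, x ∈ Q₀.map N.subtype ↔ ∃ hx : x ∈ N, (⟨x, hx⟩ : N) ∈ Q₀ := by
    intro x
    rw [mem_map]
    constructor
    · rintro ⟨y, hy, rfl⟩
      exact ⟨y.2, hy⟩
    · rintro ⟨hx, h⟩
      exact ⟨⟨x, hx⟩, h, rfl⟩
  have hmemZ : ∀ x : H, x ∈ Z₀.map N.subtype ↔ ∃ hx : x ∈ N, (⟨x, hx⟩ : N) ∈ Z₀ := by
    intro x
    rw [mem_map]
    constructor
    · rintro ⟨y, hy, rfl⟩
      exact ⟨y.2, hy⟩
    · rintro ⟨hx, h⟩
      exact ⟨⟨x, hx⟩, h, rfl⟩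
  refine ⟨Q₀.map N.subtype, Z₀.map N.subtype, ?_, ?_, ?_, ?_, ?_, ?_, ?_, ?_, ?_, ?_, ?_⟩
  · intro x hx; exact ((hmemQ x).mp hx).1
  · intro x hx; exact ((hmemZ x).mp hx).1
  · intro g hg q hq
    obtain ⟨hqN, hq0⟩ := (hmemQ q).mp hq
    rw [hmemQ]
    refine ⟨N.mul_mem (N.mul_mem hg hqN) (N.inv_mem hg), ?_⟩
    exact hQn.conj_mem ⟨q, hqN⟩ hq0 ⟨g, hg⟩
  · intro g hg q hq
    obtain ⟨hqN, hq0⟩ := (hmemZ q).mp hq
    rw [hmemZ]
    refine ⟨N.mul_mem (N.mul_mem hg hqN) (N.inv_mem hg), ?_⟩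
    exact hZn.conj_mem ⟨q, hqN⟩ hq0 ⟨g, hg⟩
  · exact hQp.of_equiv eQ
  · rw [← Nat.card_congr eZ.toEquiv]; exact hZodd
  · exact isCyclic_of_surjective eZ.toMonoidHom eZ.surjective
  · intro q hq z hz
    obtain ⟨hqN, hq0⟩ := (hmemQ q).mp hq
    obtain ⟨hzN, hz0⟩ := (hmemZ z).mp hz
    have := hcomm _ hq0 _ hz0
    exact congrArg Subtype.val this
  · intro x hx hxQ hxZ
    have h1 : (⟨x, hx⟩ : N) ∈ Q₀ ⊔ Z₀ := by
      apply hkey
      · intro q hq
        apply Subtype.ext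
        exact hxQ q ((hmemQ q).mpr ⟨q.2, hq⟩)
      · intro z hz
        apply Subtype.ext
        exact hxZ z ((hmemZ z).mpr ⟨z.2, hz⟩)
    have h2 : x ∈ (Q₀ ⊔ Z₀).map N.subtype := mem_map.mpr ⟨⟨x, hx⟩, h1, rfl⟩
    rwa [Subgroup.map_sup] at h2
  · intro Q' hQ'N hQ'n hQ'p
    have h1 : Q'.subgroupOf N ≤ Q₀ := by
      apply hQmax _ hQ'n.subgroupOf_normal
      exact hQ'p.of_equiv (Subgroup.subgroupOfEquivOfLe hQ'N).symm
    intro x hx
    rw [hmemQ]
    exact ⟨hQ'N hx, h1 (mem_subgroupOf.mpr hx)⟩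
  · intro Z' hZ'N hZ'n hZ'odd hZ'nil
    have e := (Subgroup.subgroupOfEquivOfLe hZ'N)
    have h1 : Z'.subgroupOf N ≤ Z₀ := by
      apply hZmax _ hZ'n.subgroupOf_normal
      · rw [Nat.card_congr e.toEquiv]; exact hZ'odd
      · exact Group.nilpotent_of_mulEquiv e.symm
    intro x hx
    rw [hmemZ]
    exact ⟨hZ'N hx, h1 (mem_subgroupOf.mpr hx)⟩

end Cfsg.Agent.Lib.H25.Zas
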