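import Mathlib

/-!
# Zassenhaus: concrete facts about `A₅ ≤ S₅` (by `decide`)
-/

set_option autoImplicit false

namespace Cfsg.Agent.Lib.H25.Zas

open Equiv

/-- the Klein condition: `j`, `a j a⁻¹`, `a² j a⁻²` multiply to one -/
def kleinCond {G : Type*} [Group G] (a j : G) : Prop :=
  j * (a * j * a⁻¹) * (a * a * j * a⁻¹ * a⁻¹) = 1

instance {G : Type*} [Group G] [DecidableEq G] (a j : G) : Decidable (kleinCond a j) := by
  unfold kleinCond; infer_instance

set_option maxRecDepth 100000 in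
theorem s5_outer_inv_aux : ∀ π : Perm (Fin 5), Perm.sign π = -1 → π * π = 1 →
    ∃ c : Perm (Fin 5), Perm.sign c = 1 ∧ c * c * c = 1 ∧ c ≠ 1 ∧ π * c = c * π := by
  decide

set_option maxRecDepth 100000 in
theorem a5_card_inv :
    (Finset.univ.filter (fun j : Perm (Fin 5) => Perm.sign j = 1 ∧ j * j = 1 ∧ j ≠ 1)).card = 15 := by
  decide

set_option maxRecDepth 100000 in
theorem a5_card_three :
    (Finset.univ.filter (fun b : Perm (Fin 5) => Perm.sign b = 1 ∧ b * b * b = 1 ∧ b ≠ 1)).card = 20 := by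
  decide

set_option maxRecDepth 100000 in
theorem a5_card_norm : ∀ a : Perm (Fin 5), Perm.sign a = 1 → a * a * a = 1 → a ≠ 1 →
    (Finset.univ.filter (fun j : Perm (Fin 5) => Perm.sign j = 1 ∧ j * j = 1 ∧ j ≠ 1 ∧
      (j * a * j⁻¹ = a ∨ j * a * j⁻¹ = a⁻¹))).card = 3 := by
  decide

set_option maxRecDepth 100000 in
theorem a5_card_klein : ∀ a : Perm (Fin 5), Perm.sign a = 1 → a * a * a = 1 → a ≠ 1 →
    (Finset.univ.filter (fun j : Perm (Fin 5) => Perm.sign j = 1 ∧ j * j = 1 ∧ j ≠ 1 ∧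
      kleinCond a j)).card = 6 := by
  decide

set_option maxRecDepth 100000 in
theorem a5_norm_klein_disjoint : ∀ a : Perm (Fin 5), Perm.sign a = 1 → a * a * a = 1 → a ≠ 1 →
    ∀ j : Perm (Fin 5), Perm.sign j = 1 → j * j = 1 → j ≠ 1 →
      (j * a * j⁻¹ = a ∨ j * a * j⁻¹ = a⁻¹) → ¬ kleinCond a j := by
  unfold kleinCond
  decide

set_option maxHeartbeats 4000000 in
set_option maxRecDepth 100000 in
theorem a5_card_line_pts : ∀ a : Perm (Fin 5), Perm.sign a = 1 → a * a * a = 1 → a ≠ 1 →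
    (Finset.univ.filter (fun b : Perm (Fin 5) => Perm.sign b = 1 ∧ b * b * b = 1 ∧ b ≠ 1 ∧
      b ≠ a ∧ b ≠ a⁻¹ ∧
      ((b * a⁻¹ * (b * a⁻¹) = 1 ∧ b * a⁻¹ ≠ 1 ∧ kleinCond a (b * a⁻¹)) ∨
       (b * a * (b * a) = 1 ∧ b * a ≠ 1 ∧ kleinCond a (b * a))))).card = 12 := by
  decide

set_option maxRecDepth 100000 in
theorem a5_centralizer_inv_aux : ∀ t : Perm (Fin 5), Perm.sign t = 1 → t * t = 1 → t ≠ 1 →
    (Finset.univ.filter (fun x : Perm (Fin 5) => Perm.sign x = 1 ∧ x * t = t * x)).card = 4 ∧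
    ∀ x : Perm (Fin 5), Perm.sign x = 1 → x * t = t * x → x * x = 1 := by
  decide

set_option maxRecDepth 100000 in
theorem a5_center_aux : ∀ x : Perm (Fin 5), Perm.sign x = 1 →
    (∀ y : Perm (Fin 5), Perm.sign y = 1 → x * y = y * x) → x = 1 := by
  decide

set_option maxRecDepth 100000 in
set_option synthInstance.maxSize 2000 in
set_option synthInstance.maxHeartbeats 400000 in
theorem s5_three_two_aux : ∀ c : Perm (Fin 5), c * c * c = 1 → c ≠ 1 → ∀ π : Perm (Fin 5),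
    Perm.sign π = -1 → π * π = 1 → c * π = π * c ∨ ∃ i : Fin 5, c i = i ∧ π i = i := by
  decide

end Cfsg.Agent.Lib.H25.Zas
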