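import Mathlib
import Cfsg.Agent.Lib.H25.ZasA5
import Cfsg.Agent.Lib.H18.AutAlt

/-!
# Zassenhaus, H-level, part 3: groups with a normal subgroup `A₅`
-/

set_option autoImplicit false
set_option linter.style.haveILetI false

namespace Cfsg.Agent.Lib.H25.Zas

open Subgroup Equiv

/-- `Aut(A₅) = S₅` as a group isomorphism -/
noncomputable def kappa5 : Perm (Fin 5) ≃* MulAut (alternatingGroup (Fin 5)) :=
  MulEquiv.ofBijective (MulAut.conjNormal : Perm (Fin 5) →* MulAut (alternatingGroup (Fin 5)))
    (Cfsg.Agent.Lib.H18.conjNormal_alternating_bijective (by simp) (by simp))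

theorem kappa5_apply (π : Perm (Fin 5)) (y : alternatingGroup (Fin 5)) :
    ((kappa5 π y : alternatingGroup (Fin 5)) : Perm (Fin 5)) = π * y * π⁻¹ := by
  unfold kappa5
  simp [MulAut.conjNormal_apply]

section

variable {M : Type*} [Group M] (L : Subgroup M) [hLn : L.Normal]
  (e : L ≃* alternatingGroup (Fin 5))

/-- the action of `M` on `L ≅ A₅` as a homomorphism into `S₅` -/
noncomputable def psi5 : M →* Perm (Fin 5) :=
  (kappa5.symm.toMonoidHom.comp (MulAut.congr e).toMonoidHom).comp (MulAut.conjNormal (H := L))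

theorem psi5_spec (g : M) (l : L) :
    ((e (MulAut.conjNormal g l) : alternatingGroup (Fin 5)) : Perm (Fin 5)) =
      psi5 L e g * (e l : Perm (Fin 5)) * (psi5 L e g)⁻¹ := by
  have h1 : kappa5 (psi5 L e g) = MulAut.congr e (MulAut.conjNormal g) := by
    unfold psi5
    simp
  have h2 := kappa5_apply (psi5 L e g) (e l)
  rw [h1] at h2
  rw [← h2]
  simp [MulAut.congr]

theorem psi5_eq_one_iff (g : M) : psi5 L e g = 1 ↔ g ∈ centralizer (L : Set M) := by
  constructor
  · intro h
    rw [mem_centralizer_iff]
    intro l hl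
    have h1 := psi5_spec L e g ⟨l, hl⟩
    rw [h, one_mul, inv_one, mul_one] at h1
    have h2 : e (MulAut.conjNormal g ⟨l, hl⟩) = e ⟨l, hl⟩ := Subtype.ext h1
    have h3 := e.injective h2
    have h4 : g * l * g⁻¹ = l := by
      have := congrArg Subtype.val h3
      simpa [MulAut.conjNormal_apply] using this
    calc l * g = g * l * g⁻¹ * g := by rw [h4]
      _ = g * l := by group
  · intro h
    rw [mem_centralizer_iff] at h
    have h1 : kappa5 (psi5 L e g) = 1 := by
      have h1 : kappa5 (psi5 L e g) = MulAut.congr e (MulAut.conjNormal g) := by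
        unfold psi5
        simp
      rw [h1]
      have : (MulAut.conjNormal g : MulAut L) = 1 := by
        apply MulEquiv.ext
        intro l
        apply Subtype.ext
        rw [MulAut.conjNormal_apply]
        have := h l l.2
        show g * l * g⁻¹ = l
        rw [← this]; group
      rw [this, map_one]
    have := kappa5.injective (h1.trans (map_one kappa5).symm)
    exact this

theorem psi5_of_mem (l : L) : psi5 L e (l : M) = (e l : Perm (Fin 5)) := by
  apply kappa5.injective
  have h1 : kappa5 (psi5 L e l) = MulAut.congr e (MulAut.conjNormal (l : M)) := by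
    unfold psi5
    simp
  rw [h1]
  apply MulEquiv.ext
  intro y
  apply Subtype.ext
  rw [kappa5_apply]
  simp only [MulAut.congr_apply, MulEquiv.trans_apply, MulEquiv.symm_symm]
  have h2 : MulAut.conjNormal (l : M) (e.symm y) = l * e.symm y * l⁻¹ := by
    apply Subtype.ext
    rw [MulAut.conjNormal_apply]
    simp
  rw [h2, map_mul, map_mul, map_inv, MulEquiv.apply_symm_apply]
  simp

theorem card_A5 : Nat.card (alternatingGroup (Fin 5)) = 60 := by
  have h := two_mul_card_alternatingGroup (α := Fin 5)
  rw [Fintype.card_perm] at h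
  rw [Nat.card_eq_fintype_card]
  have : (Fintype.card (Fin 5)).factorial = 120 := by simp; rfl
  omega

theorem psi5_ker : (psi5 L e).ker = centralizer (L : Set M) := by
  ext g
  rw [MonoidHom.mem_ker]
  exact psi5_eq_one_iff L e g

theorem alt_le_range_psi5 : alternatingGroup (Fin 5) ≤ (psi5 L e).range := by
  intro y hy
  refine ⟨(e.symm ⟨y, hy⟩ : M), ?_⟩
  rw [psi5_of_mem, MulEquiv.apply_symm_apply]

include e in
/-- a group with a normal subgroup `L ≅ A₅`: `M / C_M(L)` is `A₅` or `S₅`, and an involution
outside `L C_M(L)` centralizes an element of order 3 of `L`. -/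
theorem autA5 [Finite M] :
    L ⊓ centralizer (L : Set M) = ⊥ ∧
    (Nat.card M = 60 * Nat.card (centralizer (L : Set M)) ∨
      Nat.card M = 120 * Nat.card (centralizer (L : Set M))) ∧
    ∀ j : M, j ∉ L ⊔ centralizer (L : Set M) → j * j = 1 →
      ∃ a ∈ L, orderOf a = 3 ∧ j * a = a * j := by
  refine ⟨?_, ?_, ?_⟩
  · rw [eq_bot_iff]
    intro x ⟨hxL, hxC⟩
    rw [mem_bot]
    have h1 : psi5 L e x = 1 := (psi5_eq_one_iff L e x).mpr hxC
    have h2 := psi5_of_mem L e ⟨x, hxL⟩
    rw [h1] at h2
    have h3 : e ⟨x, hxL⟩ = 1 := Subtype.ext h2.symm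
    have h4 := e.injective (h3.trans (map_one e).symm)
    exact congrArg Subtype.val h4
  · have h1 := Subgroup.card_mul_index (psi5 L e).ker
    rw [Subgroup.index_ker, psi5_ker] at h1
    have h2 : 60 ∣ Nat.card (psi5 L e).range := by
      rw [← card_A5]
      have := Subgroup.card_dvd_of_le (alt_le_range_psi5 L e)
      have e1 : Nat.card ((alternatingGroup (Fin 5) : Subgroup (Perm (Fin 5)))) =
        Nat.card (alternatingGroup (Fin 5)) := rfl
      exact this
    have h3 : Nat.card (psi5 L e).range ∣ 120 := by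
      have := Subgroup.card_subgroup_dvd_card (psi5 L e).range
      have e2 : Nat.card (Perm (Fin 5)) = 120 := by
        rw [Nat.card_eq_fintype_card, Fintype.card_perm]; rfl
      rwa [e2] at this
    obtain ⟨k, hk⟩ := h2
    obtain ⟨m, hm⟩ := h3
    have hkm : k * m = 2 := by
      rw [hk] at hm
      have : 60 * (k * m) = 60 * 2 := by rw [← mul_assoc]; omega
      omega
    have hk12 : k = 1 ∨ k = 2 := by
      have hk0 : k ≠ 0 := by rintro rfl; simp at hkm
      have : k ∣ 2 := ⟨m, hkm.symm⟩
      have := Nat.le_of_dvd (by norm_num) this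
      omega
    rcases hk12 with rfl | rfl
    · left; rw [← h1, hk]; ring
    · right; rw [← h1, hk]; ring
  · intro j hj hjj
    set π := psi5 L e j with hπ
    have hππ : π * π = 1 := by rw [hπ, ← map_mul, hjj, map_one]
    have hsign : Perm.sign π = -1 := by
      rcases Int.units_eq_one_or (Perm.sign π) with h | h
      · exfalso
        apply hj
        have hmem : π ∈ alternatingGroup (Fin 5) := Perm.mem_alternatingGroup.mpr h
        set l := e.symm ⟨π, hmem⟩ with hl
        have h1 : psi5 L e (l : M) = π := by rw [psi5_of_mem, hl, MulEquiv.apply_symm_apply]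
        have h2 : psi5 L e (j * (l : M)⁻¹) = 1 := by
          rw [map_mul, map_inv, h1, ← hπ, mul_inv_cancel]
        have h3 : j * (l : M)⁻¹ ∈ centralizer (L : Set M) := (psi5_eq_one_iff L e _).mp h2
        have : j = j * (l : M)⁻¹ * l := by group
        rw [this]
        exact mul_mem (mem_sup_right h3) (mem_sup_left l.2)
      · exact h
    obtain ⟨c, hc1, hc3, hcne, hcomm⟩ := s5_outer_inv_aux π hsign hππ
    have hcmem : c ∈ alternatingGroup (Fin 5) := Perm.mem_alternatingGroup.mpr hc1
    set a := e.symm ⟨c, hcmem⟩ with ha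
    refine ⟨(a : M), a.2, ?_, ?_⟩
    · haveI : Fact (Nat.Prime 3) := ⟨Nat.prime_three⟩
      have h1 : orderOf c = 3 := orderOf_eq_prime (by rw [pow_succ, pow_two]; exact hc3) hcne
      have h2 : orderOf (⟨c, hcmem⟩ : alternatingGroup (Fin 5)) = 3 := by
        rw [← h1]; exact Subgroup.orderOf_mk c hcmem
      have h3 : orderOf a = 3 := by rw [ha, MulEquiv.orderOf_eq, h2]
      rw [← h3]; exact Subgroup.orderOf_coe a
    · have h1 := psi5_spec L e j a
      rw [← hπ, ha, MulEquiv.apply_symm_apply] at h1
      have h2 : π * c * π⁻¹ = c := by rw [hcomm]; group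
      rw [show ((⟨c, hcmem⟩ : alternatingGroup (Fin 5)) : Perm (Fin 5)) = c from rfl, h2] at h1
      have h3 : e (MulAut.conjNormal j (e.symm ⟨c, hcmem⟩)) = e (e.symm ⟨c, hcmem⟩) := by
        apply Subtype.ext
        rw [h1, MulEquiv.apply_symm_apply]
      have h4 := e.injective h3
      have h5 : j * (a : M) * j⁻¹ = a := by
        have := congrArg Subtype.val h4
        rw [MulAut.conjNormal_apply] at this
        exact this
      calc j * (a : M) = j * a * j⁻¹ * j := by group
        _ = a * j := by rw [h5]

end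

end Cfsg.Agent.Lib.H25.Zas
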