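import Mathlib
import Cfsg.Agent.Lib.L0.DihedralKlein

/-!
# Zassenhaus: the four-group generated by two commuting involutions
-/

set_option autoImplicit false

namespace Cfsg.Agent.Lib.H25.Zas

open Subgroup

variable {H : Type*} [Group H]

/-- the four-group `{1, x, y, xy}` for commuting involutions `x ≠ y` -/
def kleinOf (x y : H) (hx : x * x = 1) (hy : y * y = 1) (hxy : x * y = y * x) : Subgroup H where
  carrier := {1, x, y, x * y}
  one_mem' := by simp
  mul_mem' := by
    have hyx : y * x = x * y := hxy.symm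
    have e1 : x * (x * y) = y := by rw [← mul_assoc, hx, one_mul]
    have e2 : y * (x * y) = x := by rw [← mul_assoc, hyx, mul_assoc, hy, mul_one]
    have e3 : x * y * x = y := by rw [mul_assoc, hyx, ← mul_assoc, hx, one_mul]
    have e4 : x * y * y = x := by rw [mul_assoc, hy, mul_one]
    have e5 : x * y * (x * y) = 1 := by rw [← mul_assoc, e3, hy]
    intro a b ha hb
    simp only [Set.mem_insert_iff, Set.mem_singleton_iff] at ha hb ⊢
    rcases ha with rfl | rfl | rfl | rfl <;> rcases hb with rfl | rfl | rfl | rfl <;>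
      simp [hx, hy, hyx, e1, e2, e3, e4, e5]
  inv_mem' := by
    have ix : x⁻¹ = x := inv_eq_of_mul_eq_one_left hx
    have iy : y⁻¹ = y := inv_eq_of_mul_eq_one_left hy
    intro a ha
    simp only [Set.mem_insert_iff, Set.mem_singleton_iff] at ha ⊢
    rcases ha with rfl | rfl | rfl | rfl
    · simp
    · simp [ix]
    · simp [iy]
    · right; right; right
      rw [mul_inv_rev, ix, iy, hxy]

theorem mem_kleinOf {x y : H} {hx : x * x = 1} {hy : y * y = 1} {hxy : x * y = y * x} {z : H} :
    z ∈ kleinOf x y hx hy hxy ↔ z = 1 ∨ z = x ∨ z = y ∨ z = x * y := by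
  show z ∈ ({1, x, y, x * y} : Set H) ↔ _
  simp

theorem left_mem_kleinOf {x y : H} {hx : x * x = 1} {hy : y * y = 1} {hxy : x * y = y * x} :
    x ∈ kleinOf x y hx hy hxy := mem_kleinOf.mpr (Or.inr (Or.inl rfl))

theorem right_mem_kleinOf {x y : H} {hx : x * x = 1} {hy : y * y = 1} {hxy : x * y = y * x} :
    y ∈ kleinOf x y hx hy hxy := mem_kleinOf.mpr (Or.inr (Or.inr (Or.inl rfl)))

theorem isKleinFour_kleinOf {x y : H} (hx : x * x = 1) (hy : y * y = 1) (hxy : x * y = y * x)
    (hx1 : x ≠ 1) (hy1 : y ≠ 1) (hne : x ≠ y) : IsKleinFour (kleinOf x y hx hy hxy) := by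
  classical
  apply Cfsg.Agent.Lib.L0.Dih.isKleinFour_of_card_of_mul_self
  · have hxy1 : x * y ≠ 1 := by
      intro h
      apply hne
      have : x = y⁻¹ := eq_inv_of_mul_eq_one_left h
      rw [this]; exact inv_eq_of_mul_eq_one_left hy
    have hxyx : x * y ≠ x := by
      intro h
      apply hy1
      have : x * y = x * 1 := by rw [mul_one]; exact h
      exact mul_left_cancel this
    have hxyy : x * y ≠ y := by
      intro h
      apply hx1
      have : x * y = 1 * y := by rw [one_mul]; exact h
      exact mul_right_cancel this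
    have hset : ((kleinOf x y hx hy hxy : Subgroup H) : Set H) =
        (({1, x, y, x * y} : Finset H) : Set H) := by
      ext z
      simp only [SetLike.mem_coe, Finset.coe_insert, Finset.coe_singleton, Set.mem_insert_iff,
        Set.mem_singleton_iff]
      exact mem_kleinOf
    have hcard : Nat.card (kleinOf x y hx hy hxy) = Set.ncard ((kleinOf x y hx hy hxy : Subgroup H) : Set H) := rfl
    rw [hcard, hset, Set.ncard_coe_finset]
    rw [Finset.card_insert_of_notMem, Finset.card_insert_of_notMem, Finset.card_insert_of_notMem,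
      Finset.card_singleton]
    · simp only [Finset.mem_singleton]; exact fun h => hxyy h.symm
    · simp only [Finset.mem_insert, Finset.mem_singleton, not_or]
      exact ⟨hne, fun h => hxyx h.symm⟩
    · simp only [Finset.mem_insert, Finset.mem_singleton, not_or]
      exact ⟨fun h => hx1 h.symm, fun h => hy1 h.symm, fun h => hxy1 h.symm⟩
  · rintro ⟨z, hz⟩
    apply Subtype.ext
    show z * z = 1
    have e3 : x * y * x = y := by rw [mul_assoc, hxy.symm, ← mul_assoc, hx, one_mul]
    rcases mem_kleinOf.mp hz with rfl | rfl | rfl | rfl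
    · simp
    · exact hx
    · exact hy
    · rw [← mul_assoc, e3, hy]

/-- a Klein four subgroup is `kleinOf` of any two of its distinct involutions -/
theorem eq_kleinOf_of_isKleinFour [Finite H] (V : Subgroup H) (hV : IsKleinFour V) {x y : H} (hxV : x ∈ V)
    (hyV : y ∈ V) (hx1 : x ≠ 1) (hy1 : y ≠ 1) (hne : x ≠ y) :
    ∃ (hx : x * x = 1) (hy : y * y = 1) (hxy : x * y = y * x), V = kleinOf x y hx hy hxy := by
  have hsq : ∀ v ∈ V, v * v = 1 := fun v hv => by
    have := IsKleinFour.mul_self (⟨v, hv⟩ : V)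
    exact congrArg Subtype.val this
  have hcomm : ∀ v ∈ V, ∀ w ∈ V, v * w = w * v := fun v hv w hw => by
    have := (IsKleinFour.isMulCommutative (G := V)).is_comm.comm ⟨v, hv⟩ ⟨w, hw⟩
    exact congrArg Subtype.val this
  refine ⟨hsq x hxV, hsq y hyV, hcomm x hxV y hyV, ?_⟩
  have hle : kleinOf x y (hsq x hxV) (hsq y hyV) (hcomm x hxV y hyV) ≤ V := by
    intro z hz
    rcases mem_kleinOf.mp hz with rfl | rfl | rfl | rfl
    · exact one_mem _
    · exact hxV
    · exact hyV
    · exact mul_mem hxV hyV
  symm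
  apply Subgroup.eq_of_le_of_card_ge hle
  rw [hV.card_four, (isKleinFour_kleinOf (hsq x hxV) (hsq y hyV) (hcomm x hxV y hyV) hx1 hy1 hne).card_four]

end Cfsg.Agent.Lib.H25.Zas
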