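import Mathlib
import Cfsg.Agent.Lib.H16.ZasXOdd
import Cfsg.Agent.Lib.H25.ZasH2
import Cfsg.Agent.Lib.H25.ZasH3
import Cfsg.Agent.Lib.H25.ZasKlein

/-!
# Zassenhaus, H-level, part 4: nonsolvable proper subgroups
-/

set_option autoImplicit false
set_option linter.style.haveILetI false

namespace Cfsg.Agent.Lib.H25.Zas

open Subgroup Equiv

/-- a finite nonsolvable group has a nontrivial perfect characteristic subgroup -/
theorem exists_perfect_char (M : Type*) [Group M] [Finite M] (h : ¬ Group.IsSolvable M) :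
    ∃ L : Subgroup M, L.Characteristic ∧ L ≠ ⊥ ∧ ⁅L, L⁆ = L := by
  have hex : ∃ k : ℕ, derivedSeries M (k + 1) = derivedSeries M k := by
    by_contra hcon
    push Not at hcon
    have hlt : ∀ k : ℕ, Nat.card (derivedSeries M (k + 1)) < Nat.card (derivedSeries M k) := by
      intro k
      have hle : derivedSeries M (k + 1) ≤ derivedSeries M k :=
        derivedSeries_antitone M (Nat.le_succ k)
      have h1 : Nat.card (derivedSeries M (k + 1)) ≤ Nat.card (derivedSeries M k) :=
        Subgroup.card_le_of_le hle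
      rcases Nat.lt_or_ge (Nat.card (derivedSeries M (k + 1))) (Nat.card (derivedSeries M k)) with h2 | h2
      · exact h2
      · exact absurd (Subgroup.eq_of_le_of_card_ge hle h2) (hcon k)
    have hbound : ∀ k : ℕ, Nat.card (derivedSeries M k) + k ≤ Nat.card (derivedSeries M 0) := by
      intro k
      induction k with
      | zero => simp
      | succ k ih => have := hlt k; omega
    have := hbound (Nat.card (derivedSeries M 0) + 1)
    omega
  obtain ⟨k, hk⟩ := hex
  refine ⟨derivedSeries M k, derivedSeries_characteristic M k, ?_, ?_⟩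
  · intro hbot
    exact h ((Group.isSolvable_def M).mpr ⟨k, hbot⟩)
  · rw [← derivedSeries_succ, hk]

/-- commuting elements generate an abelian group; two elements of the same prime order `p` which
commute and generate different subgroups cannot live in a group whose odd order subgroups are fpf. -/
theorem OddFPF.zpowers_eq_of_commute {H : Type*} [Group H] [Finite H] (hH : OddFPF H) {p : ℕ}
    (hp : p.Prime) (hp2 : p ≠ 2) {a c : H} (ha : orderOf a = p) (hc : orderOf c = p)
    (hac : a * c = c * a) : zpowers a = zpowers c := by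
  haveI : Fact p.Prime := ⟨hp⟩
  have hpa : IsPGroup p (zpowers a) := by
    apply IsPGroup.of_card (n := 1); rw [Nat.card_zpowers, ha, pow_one]
  have hpc : IsPGroup p (zpowers c) := by
    apply IsPGroup.of_card (n := 1); rw [Nat.card_zpowers, hc, pow_one]
  have hnorm : zpowers c ≤ normalizer ((zpowers a : Subgroup H) : Set H) := by
    rw [zpowers_le, mem_normalizer_iff]
    intro x
    have hcomm : ∀ y ∈ zpowers a, c * y * c⁻¹ = y := by
      intro y hy
      obtain ⟨k, rfl⟩ := mem_zpowers_iff.mp hy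
      have : Commute c (a ^ k) := (Commute.zpow_right (show Commute c a from hac.symm) k)
      rw [this.eq, mul_inv_cancel_right]
    constructor
    · intro hx; rw [hcomm x hx]; exact hx
    · intro hx
      have h1 := hcomm _ hx
      have : c * x * c⁻¹ = x := by
        have h2 : c * (c * x * c⁻¹) * c⁻¹ = c * x * c⁻¹ := h1
        have h3 : c * (c * x * c⁻¹) = c * x := by
          have := congrArg (· * c) h2
          simpa [mul_assoc] using this
        exact mul_left_cancel h3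
      rw [← this]; exact hx
  set R : Subgroup H := zpowers a ⊔ zpowers c with hR
  have hRp : IsPGroup p R := hpa.to_sup_of_normal_left' hpc hnorm
  have hRodd : Odd (Nat.card R) := by
    obtain ⟨k, hk⟩ := IsPGroup.iff_card.mp hRp
    rw [hk]
    exact Odd.pow (hp.odd_of_ne_two hp2)
  have hfpf := hH R hRodd
  have haR : zpowers a ≤ R := le_sup_left
  have hcR : zpowers c ≤ R := le_sup_right
  have h1 : Nat.card ((zpowers a).subgroupOf R) = p := by
    rw [Nat.card_congr (Subgroup.subgroupOfEquivOfLe haR).toEquiv, Nat.card_zpowers, ha]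
  have h2 : Nat.card ((zpowers c).subgroupOf R) = p := by
    rw [Nat.card_congr (Subgroup.subgroupOfEquivOfLe hcR).toEquiv, Nat.card_zpowers, hc]
  have h3 := hfpf.eq_of_card_prime hRodd hp _ _ h1 h2
  have h4 := congrArg (Subgroup.map R.subtype) h3
  rwa [Subgroup.subgroupOf_map_subtype, Subgroup.subgroupOf_map_subtype, inf_of_le_left haR,
    inf_of_le_left hcR] at h4

set_option maxRecDepth 100000 in
theorem a5_two_invs : ∃ τ₁ τ₂ : Perm (Fin 5), Perm.sign τ₁ = 1 ∧ Perm.sign τ₂ = 1 ∧ τ₁ * τ₁ = 1 ∧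
    τ₂ * τ₂ = 1 ∧ τ₁ ≠ 1 ∧ τ₂ ≠ 1 ∧ τ₁ ≠ τ₂ ∧ τ₁ * τ₂ = τ₂ * τ₁ := by
  refine ⟨swap 0 1 * swap 2 3, swap 0 2 * swap 1 3, ?_⟩
  decide

/-- structure of a nonsolvable proper subgroup `N` of `H`: `N ⊵ L × C` of index at most two,
`L ≅ A₅`, `C = C_N(L)` of odd order prime to 30. -/
theorem nonsolvable_structure {H : Type*} [Group H] [Finite H] {n : ℕ} (hD : DihSylow H n)
    (hH : OddFPF H)
    (hperf : ∀ M : Subgroup H, M ≠ ⊤ → M ≠ ⊥ → commutator M = ⊤ →
      Nonempty (M ≃* alternatingGroup (Fin 5)))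
    (N : Subgroup H) (hN : N ≠ ⊤) (hns : ¬ Group.IsSolvable N) :
    ∃ L C : Subgroup H, L ≤ N ∧ C ≤ N ∧ NormBy N L ∧ NormBy N C ∧
      Nonempty (L ≃* alternatingGroup (Fin 5)) ∧
      (∀ l ∈ L, ∀ c ∈ C, l * c = c * l) ∧ (∀ x ∈ N, (∀ l ∈ L, x * l = l * x) → x ∈ C) ∧
      L ⊓ C = ⊥ ∧ Odd (Nat.card C) ∧ (Nat.card C).Coprime 30 ∧
      (Nat.card N = 60 * Nat.card C ∨ Nat.card N = 120 * Nat.card C) ∧
      (∀ j ∈ N, j ∉ L ⊔ C → j * j = 1 → ∃ a ∈ L, orderOf a = 3 ∧ j * a = a * j) := by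
  obtain ⟨L', hL'c, hL'ne, hL'p⟩ := exists_perfect_char N hns
  haveI hL'n : L'.Normal := normal_of_characteristic L'
  set L : Subgroup H := L'.map N.subtype with hLdef
  have eL : L' ≃* L := L'.equivMapOfInjective N.subtype N.subtype_injective
  have hLN : L ≤ N := map_subtype_le L'
  have hLcomm : ⁅L, L⁆ = L := by rw [hLdef, ← map_commutator, hL'p]
  have hLperf : commutator L = ⊤ := by
    apply Subgroup.map_injective L.subtype_injective
    rw [map_subtype_commutator, hLcomm, ← MonoidHom.range_eq_map, range_subtype]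
  have hLne : L ≠ ⊥ := by
    intro h
    exact hL'ne ((map_eq_bot_iff_of_injective L' N.subtype_injective).mp h)
  have hLtop : L ≠ ⊤ := fun h => hN (top_le_iff.mp (h ▸ hLN))
  obtain ⟨e⟩ := hperf L hLtop hLne hLperf
  set e' : L' ≃* alternatingGroup (Fin 5) := eL.trans e with he'
  obtain ⟨h1, h2, h3⟩ := autA5 L' e'
  have hmemL : ∀ x : H, x ∈ L ↔ ∃ hx : x ∈ N, (⟨x, hx⟩ : N) ∈ L' := by
    intro x
    rw [hLdef, mem_map]
    constructor
    · rintro ⟨y, hy, rfl⟩
      exact ⟨y.2, hy⟩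
    · rintro ⟨hx, h⟩
      exact ⟨⟨x, hx⟩, h, rfl⟩
  set C : Subgroup H := N ⊓ centralizer (L : Set H) with hCdef
  have hmemC : ∀ x : H, x ∈ C ↔ ∃ hx : x ∈ N, (⟨x, hx⟩ : N) ∈ centralizer (L' : Set N) := by
    intro x
    rw [hCdef, mem_inf]
    constructor
    · rintro ⟨hxN, hxC⟩
      refine ⟨hxN, ?_⟩
      rw [mem_centralizer_iff] at hxC ⊢
      intro l hl
      apply Subtype.ext
      exact hxC l ((hmemL l).mpr ⟨l.2, hl⟩)
    · rintro ⟨hxN, hxC⟩
      refine ⟨hxN, ?_⟩
      rw [mem_centralizer_iff] at hxC ⊢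
      intro l hl
      obtain ⟨hlN, hl'⟩ := (hmemL l).mp hl
      exact congrArg Subtype.val (hxC ⟨l, hlN⟩ hl')
  have hCmap : C = (centralizer (L' : Set N)).map N.subtype := by
    ext x
    rw [hmemC, mem_map]
    constructor
    · rintro ⟨hx, h⟩
      exact ⟨⟨x, hx⟩, h, rfl⟩
    · rintro ⟨y, hy, rfl⟩
      exact ⟨y.2, hy⟩
  have hcardC : Nat.card C = Nat.card (centralizer (L' : Set N)) := by
    rw [hCmap]
    exact (Nat.card_congr ((centralizer (L' : Set N)).equivMapOfInjective N.subtype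
      N.subtype_injective).toEquiv).symm
  have hLC : L ⊓ C = ⊥ := by
    rw [eq_bot_iff]
    intro x ⟨hxL, hxC⟩
    obtain ⟨hxN, hx'⟩ := (hmemL x).mp hxL
    obtain ⟨_, hx''⟩ := (hmemC x).mp hxC
    have : (⟨x, hxN⟩ : N) ∈ L' ⊓ centralizer (L' : Set N) := ⟨hx', hx''⟩
    rw [h1, mem_bot] at this
    rw [mem_bot]
    exact congrArg Subtype.val this
  have hcomm : ∀ l ∈ L, ∀ c ∈ C, l * c = c * l := by
    intro l hl c hc
    have := (mem_centralizer_iff.mp (mem_inf.mp hc).2) l hl
    exact this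
  -- involutions of `L`
  obtain ⟨τ₁, τ₂, hs1, hs2, hτ1, hτ2, hτ11, hτ21, hτ12, hτc⟩ := a5_two_invs
  set t₁ : L := e.symm ⟨τ₁, Perm.mem_alternatingGroup.mpr hs1⟩ with ht₁
  set t₂ : L := e.symm ⟨τ₂, Perm.mem_alternatingGroup.mpr hs2⟩ with ht₂
  have ht1sq : (t₁ : H) * t₁ = 1 := by
    have : t₁ * t₁ = 1 := by
      rw [ht₁, ← map_mul]
      have : (⟨τ₁, Perm.mem_alternatingGroup.mpr hs1⟩ : alternatingGroup (Fin 5)) *
          ⟨τ₁, Perm.mem_alternatingGroup.mpr hs1⟩ = 1 := Subtype.ext hτ1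
      rw [this, map_one]
    exact congrArg Subtype.val this
  have ht2sq : (t₂ : H) * t₂ = 1 := by
    have : t₂ * t₂ = 1 := by
      rw [ht₂, ← map_mul]
      have : (⟨τ₂, Perm.mem_alternatingGroup.mpr hs2⟩ : alternatingGroup (Fin 5)) *
          ⟨τ₂, Perm.mem_alternatingGroup.mpr hs2⟩ = 1 := Subtype.ext hτ2
      rw [this, map_one]
    exact congrArg Subtype.val this
  have ht1ne : (t₁ : H) ≠ 1 := by
    intro h
    have h' : t₁ = 1 := Subtype.ext h
    rw [ht₁] at h'
    have := e.symm.injective (h'.trans (map_one e.symm).symm)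
    exact hτ11 (congrArg Subtype.val this)
  have ht2ne : (t₂ : H) ≠ 1 := by
    intro h
    have h' : t₂ = 1 := Subtype.ext h
    rw [ht₂] at h'
    have := e.symm.injective (h'.trans (map_one e.symm).symm)
    exact hτ21 (congrArg Subtype.val this)
  have ht12ne : (t₁ : H) ≠ t₂ := by
    intro h
    have h' : t₁ = t₂ := Subtype.ext h
    rw [ht₁, ht₂] at h'
    have := e.symm.injective h'
    exact hτ12 (congrArg Subtype.val this)
  have ht12c : (t₁ : H) * t₂ = t₂ * t₁ := by
    have : t₁ * t₂ = t₂ * t₁ := by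
      rw [ht₁, ht₂, ← map_mul, ← map_mul]
      congr 1
      exact Subtype.ext hτc
    exact congrArg Subtype.val this
  have hCodd : Odd (Nat.card C) := by
    by_contra hcon
    rw [Nat.not_odd_iff_even] at hcon
    haveI : Fact (Nat.Prime 2) := ⟨Nat.prime_two⟩
    obtain ⟨c, hc⟩ := exists_prime_orderOf_dvd_card' (G := C) 2 hcon.two_dvd
    have hcc : (c : H) * c = 1 := by
      have : c ^ 2 = 1 := by rw [← hc]; exact pow_orderOf_eq_one c
      rw [pow_two] at this
      exact congrArg Subtype.val this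
    have hc1 : (c : H) ≠ 1 := by
      intro h
      have : c = 1 := Subtype.ext h
      rw [this, orderOf_one] at hc
      omega
    have hct1 : (c : H) * t₁ = t₁ * c := (hcomm t₁ t₁.2 c c.2).symm
    have hcne : (c : H) ≠ t₁ := by
      intro h
      have : (c : H) ∈ L ⊓ C := ⟨h ▸ t₁.2, c.2⟩
      rw [hLC, mem_bot] at this
      exact hc1 this
    have hV := isKleinFour_kleinOf hcc ht1sq hct1 hc1 ht1ne hcne
    have ht2V : (t₂ : H) ∈ kleinOf (c : H) t₁ hcc ht1sq hct1 := by
      apply hD.mem_klein_of_commute _ hV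
      · refine ⟨1, ?_⟩
        haveI : Fact (Nat.Prime 2) := ⟨Nat.prime_two⟩
        rw [pow_one]
        exact orderOf_eq_prime (by rw [pow_two]; exact ht2sq) ht2ne
      · intro v hv
        rcases mem_kleinOf.mp hv with rfl | rfl | rfl | rfl
        · simp
        · exact hcomm t₂ t₂.2 c c.2
        · exact ht12c.symm
        · rw [← mul_assoc, hcomm t₂ t₂.2 c c.2, mul_assoc, ← ht12c, mul_assoc]
    rcases mem_kleinOf.mp ht2V with h | h | h | h
    · exact ht2ne h
    · have : (c : H) ∈ L ⊓ C := ⟨h ▸ t₂.2, c.2⟩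
      rw [hLC, mem_bot] at this
      exact hc1 this
    · exact ht12ne h.symm
    · have hcL : (c : H) ∈ L := by
        have : (c : H) = t₂ * (t₁ : H)⁻¹ := by rw [h]; group
        rw [this]
        exact L.mul_mem t₂.2 (L.inv_mem t₁.2)
      have : (c : H) ∈ L ⊓ C := ⟨hcL, c.2⟩
      rw [hLC, mem_bot] at this
      exact hc1 this
  have hcardL : Nat.card L = 60 := by
    rw [Nat.card_congr e.toEquiv, card_A5]
  have hCp : ∀ p : ℕ, p.Prime → p ≠ 2 → p ∣ 60 → ¬ p ∣ Nat.card C := by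
    intro p hp hp2 hp60 hpC
    haveI : Fact p.Prime := ⟨hp⟩
    obtain ⟨c, hc⟩ := exists_prime_orderOf_dvd_card' (G := C) p hpC
    obtain ⟨a, ha⟩ := exists_prime_orderOf_dvd_card' (G := L) p (by rw [hcardL]; exact hp60)
    have hc' : orderOf (c : H) = p := by rw [Subgroup.orderOf_coe]; exact hc
    have ha' : orderOf (a : H) = p := by rw [Subgroup.orderOf_coe]; exact ha
    have hz := hH.zpowers_eq_of_commute hp hp2 ha' hc' (hcomm a a.2 c c.2)
    have haC : (a : H) ∈ C := by
      have : (a : H) ∈ zpowers (c : H) := hz ▸ mem_zpowers (a : H)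
      exact (zpowers_le.mpr c.2) this
    have : (a : H) ∈ L ⊓ C := ⟨a.2, haC⟩
    rw [hLC, mem_bot] at this
    rw [this, orderOf_one] at ha'
    exact hp.one_lt.ne ha'
  have hC30 : (Nat.card C).Coprime 30 := by
    have h2' : (Nat.card C).Coprime 2 := Nat.coprime_two_right.mpr hCodd
    have h3' : (Nat.card C).Coprime 3 :=
      ((Nat.Prime.coprime_iff_not_dvd Nat.prime_three).mpr
        (hCp 3 Nat.prime_three (by norm_num) (by norm_num))).symm
    have h5' : (Nat.card C).Coprime 5 :=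
      ((Nat.Prime.coprime_iff_not_dvd Nat.prime_five).mpr
        (hCp 5 Nat.prime_five (by norm_num) (by norm_num))).symm
    have : (30 : ℕ) = 2 * 3 * 5 := by norm_num
    rw [this]
    exact (h2'.mul_right h3').mul_right h5'
  refine ⟨L, C, hLN, inf_le_left, ?_, ?_, ⟨e⟩, hcomm, ?_, hLC, hCodd, hC30, ?_, ?_⟩
  · intro g hg l hl
    obtain ⟨hlN, hl'⟩ := (hmemL l).mp hl
    rw [hmemL]
    exact ⟨N.mul_mem (N.mul_mem hg hlN) (N.inv_mem hg), hL'n.conj_mem ⟨l, hlN⟩ hl' ⟨g, hg⟩⟩
  · intro g hg c hc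
    obtain ⟨hcN, hc'⟩ := (hmemC c).mp hc
    rw [hmemC]
    haveI : (centralizer (L' : Set N)).Normal := inferInstance
    exact ⟨N.mul_mem (N.mul_mem hg hcN) (N.inv_mem hg),
      (inferInstance : (centralizer (L' : Set N)).Normal).conj_mem ⟨c, hcN⟩ hc' ⟨g, hg⟩⟩
  · intro x hx hxl
    rw [hCdef, mem_inf]
    refine ⟨hx, ?_⟩
    rw [mem_centralizer_iff]
    intro l hl
    exact (hxl l hl).symm
  · rw [hcardC]
    have : Nat.card N = Nat.card (↥N) := rfl
    exact h2
  · intro j hjN hj hjj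
    have hj' : (⟨j, hjN⟩ : N) ∉ L' ⊔ centralizer (L' : Set N) := by
      intro hmem
      apply hj
      have : j ∈ (L' ⊔ centralizer (L' : Set N)).map N.subtype := mem_map.mpr ⟨⟨j, hjN⟩, hmem, rfl⟩
      rw [Subgroup.map_sup, ← hCmap] at this
      exact this
    obtain ⟨a, haL, ha3, hja⟩ := h3 ⟨j, hjN⟩ hj' (Subtype.ext hjj)
    refine ⟨(a : H), (hmemL a).mpr ⟨a.2, haL⟩, ?_, congrArg Subtype.val hja⟩
    rw [Subgroup.orderOf_coe]; exact ha3

end Cfsg.Agent.Lib.H25.Zas
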