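import Mathlib
import Cfsg.Agent.Lib.H25.ZasH4
import Cfsg.Agent.Lib.H4.DihBSW2
import Cfsg.Agent.S0514
import Cfsg.Agent.S0111

/-!
# Zassenhaus, H-level, part 5: the working context, involutions and their centralizers
-/

set_option autoImplicit false
set_option linter.style.haveILetI false

namespace Cfsg.Agent.Lib.H25.Zas

open Subgroup

/-- the working context: `HHyp H` with the degree `n` of the dihedral Sylow 2-subgroups fixed -/
structure HCtx (H : Type*) [Group H] (n : ℕ) : Prop where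
  hyp : HHyp H
  dih : DihSylow H n

theorem HHyp.exists_ctx {H : Type*} [Group H] (h : HHyp H) : ∃ n : ℕ, HCtx H n := by
  haveI := h.finite
  obtain ⟨S, n, hn, hS⟩ := h.syl
  exact ⟨n, h, DihSylow.of_one S n hn hS⟩

/-- an element whose order is prime to the index of a normal subgroup lies in it -/
theorem mem_of_coprime_index {R : Type*} [Group R] [Finite R] (N : Subgroup R) [N.Normal]
    {x : R} (hx : (orderOf x).Coprime N.index) : x ∈ N := by
  rw [← QuotientGroup.eq_one_iff, ← orderOf_eq_one_iff]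
  have h1 : orderOf (x : R ⧸ N) ∣ orderOf x := orderOf_map_dvd (QuotientGroup.mk' N) x
  have h2 : orderOf (x : R ⧸ N) ∣ N.index := by
    rw [Subgroup.index_eq_card]; exact orderOf_dvd_natCard _
  exact Nat.eq_one_of_dvd_coprimes hx h1 h2

/-- `O(C_H(t))`, as a subgroup of `H` (the shape used in S0508) -/
def Kc {H : Type*} [Group H] (t : H) : Subgroup H :=
  (Cfsg.oddCore (centralizer ({t} : Set H))).map (centralizer ({t} : Set H)).subtype

namespace HCtx

variable {H : Type*} [Group H] [Finite H] {n : ℕ} (h : HCtx H n)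

include h

theorem two_le : 2 ≤ n := h.dih.1

theorem oddFPF : OddFPF H := h.hyp.odd

theorem simple : IsSimpleGroup H := h.hyp.simple

theorem two_dvd : 2 ∣ n := by
  haveI : Fact (Nat.Prime 2) := ⟨Nat.prime_two⟩
  obtain ⟨S⟩ : Nonempty (Sylow 2 H) := inferInstance
  have hc := h.dih.card_sylow S
  obtain ⟨k, hk⟩ := S.isPGroup'.exists_card_eq
  rw [hc] at hk
  have h2 := h.two_le
  rcases k with _ | _ | k
  · omega
  · omega
  · rw [pow_succ, pow_succ] at hk
    have : n = 2 ^ k * 2 := by omega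
    exact ⟨2 ^ k, by omega⟩

/-- a central involution of a Sylow 2-subgroup -/
theorem exists_central_inv (S : Sylow 2 H) :
    ∃ t ∈ (S : Subgroup H), orderOf t = 2 ∧ ∀ s ∈ (S : Subgroup H), s * t = t * s := by
  obtain ⟨e⟩ := h.dih.2 S
  haveI : NeZero n := ⟨by have := h.two_le; omega⟩
  have h2 := h.two_dvd
  refine ⟨(e.symm (DihedralGroup.r (Cfsg.Agent.Lib.L0.Dih.hf n)) : (S : Subgroup H)), Subtype.property _, ?_, ?_⟩
  · rw [Subgroup.orderOf_coe, MulEquiv.orderOf_eq]
    exact Cfsg.Agent.Lib.L0.Dih.orderOf_r_hf h2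
  · intro s hs
    have := Cfsg.Agent.Lib.L0.Dih.r_hf_comm h2 (e ⟨s, hs⟩)
    have h3 : e.symm (DihedralGroup.r (Cfsg.Agent.Lib.L0.Dih.hf n)) * ⟨s, hs⟩ =
        ⟨s, hs⟩ * e.symm (DihedralGroup.r (Cfsg.Agent.Lib.L0.Dih.hf n)) := by
      apply e.injective
      rw [map_mul, map_mul, MulEquiv.apply_symm_apply]
      exact this
    exact (congrArg Subtype.val h3).symm

theorem four_le_card_sylow (S : Sylow 2 H) : 4 ≤ Nat.card (S : Subgroup H) := by
  rw [h.dih.card_sylow S]
  have := h.two_le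
  omega

/-- all involutions are conjugate -/
theorem isConj_inv : ∀ x y : H, orderOf x = 2 → orderOf y = 2 → IsConj x y := by
  haveI : Fact (Nat.Prime 2) := ⟨Nat.prime_two⟩
  haveI := h.simple
  obtain ⟨S⟩ : Nonempty (Sylow 2 H) := inferInstance
  obtain ⟨e⟩ := h.dih.2 S
  obtain ⟨t, htS, ht, htZ⟩ := h.exists_central_inv S
  obtain ⟨A, hAS, hAc, hAi, htA⟩ :=
    Cfsg.Agent.Lib.H4.DihBSW.exists_cyclic_of_dihedral (S : Subgroup H) n h.two_le e t htS ht htZ
  exact Cfsg.Agent.Lib.H4.DihBSW.isConj_of_thompson S A hAc (h.four_le_card_sylow S) t ht htA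
    (fun u hu huS huA => Cfsg.Agent.S0111.result S A hAS hAi u hu huS huA)

/-- the characterization of `O(C_H(t))`: the elements of odd order commuting with `t` -/
theorem mem_Kc_iff {t : H} (ht : orderOf t = 2) {x : H} :
    x ∈ Kc t ↔ x * t = t * x ∧ Odd (orderOf x) := by
  haveI : Fact (Nat.Prime 2) := ⟨Nat.prime_two⟩
  obtain ⟨S⟩ : Nonempty (Sylow 2 H) := inferInstance
  obtain ⟨e⟩ := h.dih.2 S
  set C := centralizer ({t} : Set H) with hC
  set O' := Cfsg.oddCore C with hO'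
  obtain ⟨N, hNn, hNodd, k, hNk⟩ := Cfsg.Agent.S0514.result S n h.two_le ⟨e⟩ t ht
  haveI hO'n : O'.Normal := Cfsg.Agent.Lib.H22.pPrimeCore_normal 2
  have hO'c : (Nat.card O').Coprime 2 := Cfsg.Agent.Lib.H22.card_pPrimeCore_coprime 2
  have hNO : N ≤ O' := Cfsg.Agent.Lib.H22.le_pPrimeCore 2 N hNn (Nat.coprime_two_right.mpr hNodd)
  constructor
  · intro hx
    unfold Kc at hx
    obtain ⟨y, hy, rfl⟩ := mem_map.mp hx
    refine ⟨?_, ?_⟩
    · have := y.2
      rw [mem_centralizer_singleton_iff] at this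
      exact this
    · have h1 : orderOf (y : H) ∣ Nat.card O' := by
        have := orderOf_dvd_natCard (⟨y, hy⟩ : O')
        rwa [Subgroup.orderOf_mk, ← Subgroup.orderOf_coe] at this
      have h2 : (orderOf (y : H)).Coprime 2 := Nat.Coprime.coprime_dvd_left h1 hO'c
      exact Nat.coprime_two_right.mp h2
  · rintro ⟨hxt, hxodd⟩
    have hxC : x ∈ C := by
      rw [hC, mem_centralizer_singleton_iff]; exact hxt
    have hidx : O'.index ∣ 2 ^ k := by
      rw [← hNk]; exact Subgroup.index_dvd_of_le hNO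
    have hcop : (orderOf (⟨x, hxC⟩ : C)).Coprime O'.index := by
      rw [Subgroup.orderOf_mk]
      apply Nat.Coprime.coprime_dvd_right hidx
      exact Nat.Coprime.pow_right k (Nat.coprime_two_right.mpr hxodd)
    have := mem_of_coprime_index O' hcop
    exact mem_map.mpr ⟨⟨x, hxC⟩, this, rfl⟩

theorem Kc_le {t : H} (ht : orderOf t = 2) : Kc t ≤ centralizer ({t} : Set H) := by
  intro x hx
  rw [mem_centralizer_singleton_iff]
  exact ((h.mem_Kc_iff ht).mp hx).1

theorem odd_card_Kc {t : H} (ht : orderOf t = 2) : Odd (Nat.card (Kc t)) := by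
  by_contra hcon
  rw [Nat.not_odd_iff_even] at hcon
  haveI : Fact (Nat.Prime 2) := ⟨Nat.prime_two⟩
  obtain ⟨c, hc⟩ := exists_prime_orderOf_dvd_card' (G := Kc t) 2 hcon.two_dvd
  have := ((h.mem_Kc_iff ht).mp c.2).2
  rw [Subgroup.orderOf_coe, hc] at this
  exact absurd this (by decide)

/-- conjugation: `O(C(g t g⁻¹)) = g O(C(t)) g⁻¹` -/
theorem conj_mem_Kc {t : H} (ht : orderOf t = 2) (g : H) {x : H} (hx : x ∈ Kc t) :
    g * x * g⁻¹ ∈ Kc (g * t * g⁻¹) := by
  have ht' : orderOf (g * t * g⁻¹) = 2 := by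
    rw [Cfsg.Agent.Lib.H4.DihBSW.orderOf_conj']; exact ht
  rw [h.mem_Kc_iff ht']
  obtain ⟨h1, h2⟩ := (h.mem_Kc_iff ht).mp hx
  refine ⟨?_, ?_⟩
  · calc g * x * g⁻¹ * (g * t * g⁻¹) = g * (x * t) * g⁻¹ := by group
      _ = g * (t * x) * g⁻¹ := by rw [h1]
      _ = g * t * g⁻¹ * (g * x * g⁻¹) := by group
  · rw [Cfsg.Agent.Lib.H4.DihBSW.orderOf_conj']; exact h2

/-- `C_H(t)` normalizes `O(C_H(t))` -/
theorem normBy_Kc {t : H} (ht : orderOf t = 2) : NormBy (centralizer ({t} : Set H)) (Kc t) := by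
  intro g hg x hx
  have := h.conj_mem_Kc ht g hx
  rw [mem_centralizer_singleton_iff] at hg
  have e1 : g * t * g⁻¹ = t := by rw [hg]; group
  rwa [e1] at this

/-- every element of `C_H(t)` is a product of an element of `O(C_H(t))` and an element of a Sylow
2-subgroup in which `t` is central -/
theorem centralizer_eq_mul {t : H} (ht : orderOf t = 2) (S : Sylow 2 H)
    (htZ : ∀ s ∈ (S : Subgroup H), s * t = t * s) :
    ∀ c ∈ centralizer ({t} : Set H), ∃ o ∈ Kc t, ∃ x ∈ (S : Subgroup H), c = o * x := by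
  obtain ⟨e⟩ := h.dih.2 S
  have hSC : (S : Subgroup H) ≤ centralizer ({t} : Set H) := by
    intro x hx
    rw [mem_centralizer_singleton_iff]
    exact htZ x hx
  exact (Cfsg.Agent.Lib.H4.DihBSW.core_facts t S hSC
    (Cfsg.Agent.S0514.result S n h.two_le ⟨e⟩ t ht) (Kc t) rfl).2.2.2

/-- every involution is central in some Sylow 2-subgroup -/
theorem exists_sylow_central {t : H} (ht : orderOf t = 2) :
    ∃ S : Sylow 2 H, t ∈ (S : Subgroup H) ∧ ∀ s ∈ (S : Subgroup H), s * t = t * s := by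
  haveI : Fact (Nat.Prime 2) := ⟨Nat.prime_two⟩
  obtain ⟨S₁⟩ : Nonempty (Sylow 2 H) := inferInstance
  obtain ⟨t₁, ht₁S, ht₁, ht₁Z⟩ := h.exists_central_inv S₁
  obtain ⟨g, hg⟩ := isConj_iff.mp (h.isConj_inv t₁ t ht₁ ht)
  refine ⟨g • S₁, ?_, ?_⟩
  · rw [Sylow.coe_subgroup_smul, ← hg]
    exact Subgroup.smul_mem_pointwise_smul _ _ _ ht₁S
  · intro s hs
    rw [Sylow.coe_subgroup_smul, Subgroup.mem_pointwise_smul_iff_inv_smul_mem] at hs
    have h1 : g⁻¹ * s * g ∈ (S₁ : Subgroup H) := by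
      simpa [MulAut.smul_def] using hs
    have h2 := ht₁Z _ h1
    rw [← hg]
    calc s * (g * t₁ * g⁻¹) = g * (g⁻¹ * s * g * t₁) * g⁻¹ := by group
      _ = g * (t₁ * (g⁻¹ * s * g)) * g⁻¹ := by rw [h2]
      _ = g * t₁ * g⁻¹ * s := by group

end HCtx

end Cfsg.Agent.Lib.H25.Zas
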