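import Mathlib
import Cfsg.Agent.Lib.H25.ZasH5

/-!
# Zassenhaus, H-level: tools for part E (normalizers of prime order subgroups of `O(C_H(t))`)
-/

set_option autoImplicit false
set_option linter.style.haveILetI false

namespace Cfsg.Agent.Lib.H25.Zas

open Subgroup

/-- two elements of the same prime order in an odd order subgroup generate the same subgroup -/
theorem OddFPF.zpowers_eq_of_mem {H : Type*} [Group H] [Finite H] (hH : OddFPF H) (R : Subgroup H)
    (hR : Odd (Nat.card R)) {p : ℕ} (hp : p.Prime) {x y : H} (hx : x ∈ R) (hy : y ∈ R)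
    (ox : orderOf x = p) (oy : orderOf y = p) : zpowers x = zpowers y := by
  have hfpf := hH R hR
  have h1 : orderOf (⟨x, hx⟩ : R) = p := by rw [Subgroup.orderOf_mk]; exact ox
  have h2 : orderOf (⟨y, hy⟩ : R) = p := by rw [Subgroup.orderOf_mk]; exact oy
  have h3 := hfpf.zpowers_eq_of_orderOf_eq hR hp h1 h2
  have h4 := congrArg (Subgroup.map R.subtype) h3
  rw [MonoidHom.map_zpowers, MonoidHom.map_zpowers] at h4
  exact h4

/-- conjugating a generator: if `zpowers (g y g⁻¹) = zpowers y` then `g` normalizes `zpowers y` -/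
theorem mem_normalizer_zpowers_of_eq {H : Type*} [Group H] [Finite H] {g y : H}
    (h : zpowers (g * y * g⁻¹) = zpowers y) : g ∈ normalizer ((zpowers y : Subgroup H) : Set H) := by
  apply Cfsg.Agent.Lib.L0.mem_normalizer_of_forall_conj_mem
  intro x hx
  obtain ⟨k, rfl⟩ := mem_zpowers_iff.mp hx
  have : g * y ^ k * g⁻¹ = (g * y * g⁻¹) ^ k := by
    rw [conj_zpow]
  rw [this, ← h]
  exact zpow_mem (mem_zpowers _) k

/-- Sylow 2-subgroups of `H` contained in a subgroup `N` are conjugate in `N` -/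
theorem exists_conj_sylow_of_le {H : Type*} [Group H] [Finite H] (N : Subgroup H)
    (S₁ S₂ : Sylow 2 H) (h₁ : (S₁ : Subgroup H) ≤ N) (h₂ : (S₂ : Subgroup H) ≤ N) :
    ∃ g ∈ N, ∀ x, x ∈ (S₁ : Subgroup H) ↔ g * x * g⁻¹ ∈ (S₂ : Subgroup H) := by
  haveI : Fact (Nat.Prime 2) := ⟨Nat.prime_two⟩
  let P₁ : Sylow 2 N := S₁.subtype h₁
  let P₂ : Sylow 2 N := S₂.subtype h₂
  obtain ⟨g, hg⟩ := MulAction.exists_smul_eq N P₁ P₂
  refine ⟨g.1, g.2, ?_⟩
  intro x
  have hP₁ : ∀ z : N, z ∈ (P₁ : Subgroup N) ↔ (z : H) ∈ (S₁ : Subgroup H) := by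
    intro z
    show z ∈ (S₁.subtype h₁ : Subgroup N) ↔ _
    rw [Sylow.coe_subtype, mem_subgroupOf]
  have hP₂ : ∀ z : N, z ∈ (P₂ : Subgroup N) ↔ (z : H) ∈ (S₂ : Subgroup H) := by
    intro z
    show z ∈ (S₂.subtype h₂ : Subgroup N) ↔ _
    rw [Sylow.coe_subtype, mem_subgroupOf]
  have hsm : ∀ z : N, z ∈ (P₂ : Subgroup N) ↔ g⁻¹ * z * g ∈ (P₁ : Subgroup N) := by
    intro z
    rw [← hg, Sylow.coe_subgroup_smul, Subgroup.mem_pointwise_smul_iff_inv_smul_mem]
    simp [MulAut.smul_def]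
  constructor
  · intro hx
    have hxN : x ∈ N := h₁ hx
    have hcN : g.1 * x * g.1⁻¹ ∈ N := N.mul_mem (N.mul_mem g.2 hxN) (N.inv_mem g.2)
    have := (hsm ⟨g.1 * x * g.1⁻¹, hcN⟩).mpr (by
      rw [hP₁]
      show (g.1)⁻¹ * (g.1 * x * g.1⁻¹) * g.1 ∈ _
      have e : (g.1)⁻¹ * (g.1 * x * g.1⁻¹) * g.1 = x := by group
      rw [e]; exact hx)
    exact (hP₂ _).mp this
  · intro hx
    have hcN : g.1 * x * g.1⁻¹ ∈ N := h₂ hx
    have hxN : x ∈ N := by
      have := N.mul_mem (N.mul_mem (N.inv_mem g.2) hcN) g.2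
      have e : (g.1)⁻¹ * (g.1 * x * g.1⁻¹) * g.1 = x := by group
      rwa [e] at this
    have h3 := (hsm ⟨g.1 * x * g.1⁻¹, hcN⟩).mp ((hP₂ _).mpr hx)
    rw [hP₁] at h3
    have e : ((g⁻¹ * ⟨g.1 * x * g.1⁻¹, hcN⟩ * g : N) : H) = x := by
      show (g.1)⁻¹ * (g.1 * x * g.1⁻¹) * g.1 = x
      group
    rwa [e] at h3

/-- a 2-subgroup of `N` normalized by `N` lies in every Sylow 2-subgroup contained in `N` -/
theorem le_sylow_of_normBy {H : Type*} [Group H] [Finite H] (N Q : Subgroup H) (hQN : Q ≤ N)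
    (hnorm : NormBy N Q) (hQ : IsPGroup 2 Q) (S : Sylow 2 H) (hS : (S : Subgroup H) ≤ N) :
    Q ≤ (S : Subgroup H) := by
  haveI : Fact (Nat.Prime 2) := ⟨Nat.prime_two⟩
  have h1 : (S : Subgroup H) ≤ normalizer (Q : Set H) := le_trans hS hnorm.le_normalizer
  have h2 : IsPGroup 2 ((S : Subgroup H) ⊔ Q : Subgroup H) :=
    S.isPGroup'.to_sup_of_normal_right' hQ h1
  have h3 : ((S : Subgroup H) ⊔ Q : Subgroup H) = S := S.is_maximal' h2 le_sup_left
  calc Q ≤ (S : Subgroup H) ⊔ Q := le_sup_right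
    _ = S := h3

/-- relative version of `Subgroup.mul_mem_iff_of_index_two` -/
theorem mul_mem_iff_of_relIndex_two {H : Type*} [Group H] {A K : Subgroup H}
    (h : A.relIndex K = 2) {a b : H} (ha : a ∈ K) (hb : b ∈ K) : a * b ∈ A ↔ (a ∈ A ↔ b ∈ A) := by
  have := Subgroup.mul_mem_iff_of_index_two (H := A.subgroupOf K) h (a := ⟨a, ha⟩) (b := ⟨b, hb⟩)
  simpa [mem_subgroupOf] using this

/-- if `L` and `C` commute elementwise then every element of `L ⊔ C` is a product -/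
theorem mem_sup_of_commute {H : Type*} [Group H] (L C : Subgroup H)
    (hcomm : ∀ l ∈ L, ∀ c ∈ C, l * c = c * l) {x : H} (hx : x ∈ L ⊔ C) :
    ∃ l ∈ L, ∃ c ∈ C, x = l * c := by
  let T : Subgroup H :=
    { carrier := {x | ∃ l ∈ L, ∃ c ∈ C, x = l * c}
      mul_mem' := by
        rintro x y ⟨l, hl, c, hc, rfl⟩ ⟨l', hl', c', hc', rfl⟩
        refine ⟨l * l', L.mul_mem hl hl', c * c', C.mul_mem hc hc', ?_⟩
        calc l * c * (l' * c') = l * (c * l') * c' := by group
          _ = l * (l' * c) * c' := by rw [hcomm l' hl' c hc]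
          _ = l * l' * (c * c') := by group
      one_mem' := ⟨1, L.one_mem, 1, C.one_mem, by simp⟩
      inv_mem' := by
        rintro x ⟨l, hl, c, hc, rfl⟩
        refine ⟨l⁻¹, L.inv_mem hl, c⁻¹, C.inv_mem hc, ?_⟩
        rw [mul_inv_rev]
        exact (hcomm l⁻¹ (L.inv_mem hl) c⁻¹ (C.inv_mem hc)).symm }
  have h1 : L ≤ T := fun l hl => ⟨l, hl, 1, C.one_mem, by simp⟩
  have h2 : C ≤ T := fun c hc => ⟨1, L.one_mem, c, hc, by simp⟩
  exact (sup_le h1 h2) hx

/-- the order of `L ⊔ C` for commuting subgroups with trivial intersection -/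
theorem card_sup_of_commute {H : Type*} [Group H] [Finite H] (L C : Subgroup H)
    (hcomm : ∀ l ∈ L, ∀ c ∈ C, l * c = c * l) (hLC : L ⊓ C = ⊥) :
    Nat.card (L ⊔ C : Subgroup H) = Nat.card L * Nat.card C := by
  rw [← Nat.card_prod]
  symm
  let f : L × C → (L ⊔ C : Subgroup H) := fun x =>
    ⟨x.1.1 * x.2.1, (L ⊔ C).mul_mem (mem_sup_left x.1.2) (mem_sup_right x.2.2)⟩
  apply Nat.card_congr (Equiv.ofBijective f ⟨?_, ?_⟩)
  · rintro ⟨l, c⟩ ⟨l', c'⟩ hxy
    have h1 : l.1 * c.1 = l'.1 * c'.1 := congrArg Subtype.val hxy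
    have h2 : l'.1⁻¹ * l.1 = c'.1 * c.1⁻¹ := by
      calc l'.1⁻¹ * l.1 = l'.1⁻¹ * (l.1 * c.1) * c.1⁻¹ := by group
        _ = l'.1⁻¹ * (l'.1 * c'.1) * c.1⁻¹ := by rw [h1]
        _ = c'.1 * c.1⁻¹ := by group
    have h3 : l'.1⁻¹ * l.1 ∈ L ⊓ C :=
      ⟨L.mul_mem (L.inv_mem l'.2) l.2, h2 ▸ C.mul_mem c'.2 (C.inv_mem c.2)⟩
    rw [hLC, mem_bot] at h3
    have h4 : l.1 = l'.1 := by
      calc l.1 = l'.1 * (l'.1⁻¹ * l.1) := by group
        _ = l'.1 := by rw [h3, mul_one]
    have h5 : c.1 = c'.1 := by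
      rw [h4] at h1
      exact mul_left_cancel h1
    exact Prod.ext (Subtype.ext h4) (Subtype.ext h5)
  · rintro ⟨x, hx⟩
    obtain ⟨l, hl, c, hc, rfl⟩ := mem_sup_of_commute L C hcomm hx
    exact ⟨(⟨l, hl⟩, ⟨c, hc⟩), rfl⟩

/-- a dihedral frame: a Sylow 2-subgroup `S`, a central involution `t` and the rotation group `A` -/
structure DFrame {H : Type*} [Group H] (S : Sylow 2 H) (t : H) (A : Subgroup H) (n : ℕ) : Prop where
  ht : orderOf t = 2
  htS : t ∈ (S : Subgroup H)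
  htZ : ∀ s ∈ (S : Subgroup H), s * t = t * s
  hAS : A ≤ (S : Subgroup H)
  hAc : IsCyclic A
  hAi : A.relIndex (S : Subgroup H) = 2
  htA : t ∈ A
  hout : ∀ x ∈ (S : Subgroup H), x ∉ A → x * x = 1 ∧ ∀ a ∈ A, x * a * x⁻¹ = a⁻¹
  cardA : Nat.card A = n
  cardS : Nat.card (S : Subgroup H) = 2 * n

namespace DFrame

variable {H : Type*} [Group H] [Finite H] {S : Sylow 2 H} {t : H} {A : Subgroup H} {n : ℕ}
  (F : DFrame S t A n)

include F

theorem ht2 : t * t = 1 := by
  have := pow_orderOf_eq_one t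
  rwa [F.ht, pow_two] at this

theorem ht1 : t ≠ 1 := by
  intro h
  have := F.ht
  rw [h, orderOf_one] at this
  omega

/-- an involution of `A` is `t` -/
theorem eq_of_mem_of_sq {x : H} (hx : x ∈ A) (hx2 : x * x = 1) (hx1 : x ≠ 1) : x = t :=
  eq_of_sq_eq_one_of_isCyclic F.hAc hx F.htA hx2 F.ht2 hx1 F.ht1

/-- there is an element of `S` outside `A` -/
theorem exists_out : ∃ v ∈ (S : Subgroup H), v ∉ A := by
  by_contra hcon
  push Not at hcon
  have : (S : Subgroup H) ≤ A := hcon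
  have h1 : A.relIndex (S : Subgroup H) = 1 := relIndex_eq_one.mpr this
  have := F.hAi
  omega

/-- the product of two elements outside `A` is in `A` -/
theorem mul_mem_of_out {x y : H} (hx : x ∈ (S : Subgroup H)) (hy : y ∈ (S : Subgroup H))
    (hxA : x ∉ A) (hyA : y ∉ A) : x * y ∈ A := by
  rw [mul_mem_iff_of_relIndex_two F.hAi hx hy]
  exact ⟨fun h => absurd h hxA, fun h => absurd h hyA⟩

/-- the product of an element of `A` and one outside is outside -/
theorem mul_not_mem {x y : H} (hx : x ∈ A) (hy : y ∈ (S : Subgroup H)) (hyA : y ∉ A) : x * y ∉ A := by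
  rw [mul_mem_iff_of_relIndex_two F.hAi (F.hAS hx) hy]
  intro h
  exact hyA (h.mp hx)

/-- a subgroup containing all elements of `S` outside `A` contains `S` -/
theorem le_of_out (M : Subgroup H) (hM : ∀ x ∈ (S : Subgroup H), x ∉ A → x ∈ M) :
    (S : Subgroup H) ≤ M := by
  obtain ⟨v, hvS, hvA⟩ := F.exists_out
  intro x hx
  by_cases hxA : x ∈ A
  · have h1 := hM (x * v) ((S : Subgroup H).mul_mem hx hvS) (F.mul_not_mem hxA hvS hvA)
    have h2 := hM v hvS hvA
    have : x = (x * v) * v⁻¹ := by group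
    rw [this]
    exact M.mul_mem h1 (M.inv_mem h2)
  · exact hM x hx hxA

/-- a central involution of `S` is `t` when `4 ≤ n` -/
theorem central_unique (hn : 4 ≤ n) {t' : H} (ht' : orderOf t' = 2) (ht'S : t' ∈ (S : Subgroup H))
    (ht'Z : ∀ s ∈ (S : Subgroup H), s * t' = t' * s) : t' = t := by
  have ht'2 : t' * t' = 1 := by
    have := pow_orderOf_eq_one t'
    rwa [ht', pow_two] at this
  have ht'1 : t' ≠ 1 := by
    intro h
    rw [h, orderOf_one] at ht'
    omega
  by_cases hA : t' ∈ A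
  · exact F.eq_of_mem_of_sq hA ht'2 ht'1
  · exfalso
    have hinv := (F.hout t' ht'S hA).2
    -- every element of `A` squares to one
    have hsq : ∀ a : A, a ^ 2 = 1 := by
      intro a
      have h1 := hinv a.1 a.2
      have h2 : t' * a.1 * t'⁻¹ = a.1 := by
        rw [← ht'Z a.1 (F.hAS a.2)]; group
      rw [h2] at h1
      apply Subtype.ext
      show (a.1) ^ 2 = 1
      rw [pow_two]
      nth_rw 1 [h1]
      exact inv_mul_cancel a.1
    haveI := F.hAc
    obtain ⟨g, hg⟩ := IsCyclic.exists_generator (α := A)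
    have h3 : orderOf g = Nat.card A := orderOf_eq_card_of_forall_mem_zpowers hg
    have h4 : orderOf g ∣ 2 := orderOf_dvd_of_pow_eq_one (hsq g)
    have h5 := Nat.le_of_dvd (by norm_num) h4
    rw [h3, F.cardA] at h5
    omega

end DFrame

namespace DFrame

variable {H : Type*} [Group H] [Finite H] {S : Sylow 2 H} {t : H} {A : Subgroup H}
  (F : DFrame S t A 4)

include F

/-- `n = 4`: squares of elements of `A` are `1` or `t` -/
theorem sq_eq_of_four {x : H} (hx : x ∈ A) : x * x = 1 ∨ x * x = t := by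
  have hA4 : (x * x) * (x * x) = 1 := by
    have h1 : (⟨x, hx⟩ : A) ^ Nat.card A = 1 := pow_card_eq_one'
    rw [F.cardA] at h1
    have h2 : x ^ 4 = 1 := congrArg Subtype.val h1
    calc (x * x) * (x * x) = x ^ 4 := by
          rw [show (4 : ℕ) = 2 + 2 from rfl, pow_add, pow_two]
      _ = 1 := h2
  by_cases h1 : x * x = 1
  · exact Or.inl h1
  · exact Or.inr (F.eq_of_mem_of_sq (A.mul_mem hx hx) hA4 h1)

/-- `n = 4`: `t` is a square in `A` -/
theorem exists_sq_eq : ∃ r ∈ A, r * r = t := by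
  haveI := F.hAc
  obtain ⟨g, hg⟩ := IsCyclic.exists_generator (α := A)
  have h3 : orderOf g = 4 := by
    rw [orderOf_eq_card_of_forall_mem_zpowers hg, F.cardA]
  refine ⟨g.1, g.2, ?_⟩
  rcases F.sq_eq_of_four g.2 with h4 | h4
  · exfalso
    have h5 : g ^ 2 = 1 := by
      apply Subtype.ext
      show g.1 ^ 2 = 1
      rw [pow_two]; exact h4
    have h6 := orderOf_dvd_of_pow_eq_one h5
    rw [h3] at h6
    omega
  · exact h4

end DFrame

namespace HCtx

variable {H : Type*} [Group H] [Finite H] {n : ℕ} (h : HCtx H n)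

include h

/-- every involution is the central involution of a dihedral frame -/
theorem exists_frame {t : H} (ht : orderOf t = 2) :
    ∃ (S : Sylow 2 H) (A : Subgroup H), DFrame S t A n := by
  obtain ⟨S, htS, htZ⟩ := h.exists_sylow_central ht
  obtain ⟨e⟩ := h.dih.2 S
  obtain ⟨A, hAS, hAc, hAi, htA⟩ :=
    Cfsg.Agent.Lib.H4.DihBSW.exists_cyclic_of_dihedral (S : Subgroup H) n h.two_le e t htS ht htZ
  have hout := Cfsg.Agent.Lib.H4.DihBSW.outside_of_dihedral (S : Subgroup H) n h.two_le e A hAS hAc hAi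
  have hcS := h.dih.card_sylow S
  have hcA := Cfsg.Agent.Lib.H4.DihBSW.card_of_relIndex_two hAS hAi
  exact ⟨S, A, ⟨ht, htS, htZ, hAS, hAc, hAi, htA, hout, by omega, hcS⟩⟩

/-- `C_H(t)` normalizes every subgroup of prime order of `O(C_H(t))` -/
theorem centralizer_le_normalizer_zpowers {t : H} (ht : orderOf t = 2) {y : H} (hy : y ∈ Kc t)
    (hp : (orderOf y).Prime) :
    centralizer ({t} : Set H) ≤ normalizer ((zpowers y : Subgroup H) : Set H) := by
  intro c hc
  have h1 : c * y * c⁻¹ ∈ Kc t := h.normBy_Kc ht c hc y hy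
  have h2 : orderOf (c * y * c⁻¹) = orderOf y := Cfsg.Agent.Lib.H4.DihBSW.orderOf_conj' c y
  have h3 := h.oddFPF.zpowers_eq_of_mem (Kc t) (h.odd_card_Kc ht) hp h1 hy h2 rfl
  exact mem_normalizer_zpowers_of_eq h3

/-- the normalizer of a nontrivial cyclic subgroup of odd order is a proper subgroup -/
theorem normalizer_zpowers_ne_top {y : H} (hy : y ≠ 1) (hodd : Odd (orderOf y)) :
    normalizer ((zpowers y : Subgroup H) : Set H) ≠ ⊤ := by
  intro htop
  haveI := h.simple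
  haveI : Fact (Nat.Prime 2) := ⟨Nat.prime_two⟩
  have hn : (zpowers y).Normal := normalizer_eq_top_iff.mp htop
  rcases hn.eq_bot_or_eq_top with h1 | h1
  · exact hy (zpowers_eq_bot.mp h1)
  · obtain ⟨S⟩ : Nonempty (Sylow 2 H) := inferInstance
    obtain ⟨t, htS, ht, _⟩ := h.exists_central_inv S
    have h2 : t ∈ zpowers y := h1 ▸ mem_top t
    have h3 : orderOf t ∣ Nat.card (zpowers y) := by
      have := orderOf_dvd_natCard (⟨t, h2⟩ : zpowers y)
      rwa [Subgroup.orderOf_mk] at this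
    rw [Nat.card_zpowers, ht] at h3
    exact (Nat.not_even_iff_odd.mpr hodd) (even_iff_two_dvd.mpr h3)

end HCtx

end Cfsg.Agent.Lib.H25.Zas
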