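import Mathlib
import Cfsg.Agent.Lib.H25.ZasE4a

/-!
# Zassenhaus, H-level, part E for `n = 4`: the normalizer of a prime order subgroup of `K₀`
normalizes the four-group
-/

set_option autoImplicit false
set_option linter.style.haveILetI false

namespace Cfsg.Agent.Lib.H25.Zas

open Subgroup

namespace HCtx

variable {H : Type*} [Group H] [Finite H]

/-- `n = 4`: if `y ∈ K_t` of prime order commutes with the involution `u ≠ t` of `C_H(t)` and
`N = N_H(⟨y⟩)` is solvable, then `N` normalizes the four-group `⟨t, u⟩`. -/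
theorem normBy_klein_of_solvable (h : HCtx H 4) {t u : H} (ht : orderOf t = 2) (hu : orderOf u = 2)
    (ht2 : t * t = 1) (hu2 : u * u = 1)
    (htu : t * u = u * t) (hne : t ≠ u) {y : H} (hy : y ∈ Kc t) (hp : (orderOf y).Prime)
    (hyu : u * y = y * u)
    (hsolv : Group.IsSolvable (normalizer ((zpowers y : Subgroup H) : Set H))) :
    NormBy (normalizer ((zpowers y : Subgroup H) : Set H)) (kleinOf t u ht2 hu2 htu) := by
  set N := normalizer ((zpowers y : Subgroup H) : Set H) with hN
  have hyodd : Odd (orderOf y) := ((h.mem_Kc_iff ht).mp hy).2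
  have hyKu : y ∈ Kc u := (h.mem_Kc_iff hu).mpr ⟨hyu.symm, hyodd⟩
  have hCt : centralizer ({t} : Set H) ≤ N := h.centralizer_le_normalizer_zpowers ht hy hp
  have hCu : centralizer ({u} : Set H) ≤ N := h.centralizer_le_normalizer_zpowers hu hyKu hp
  obtain ⟨S, A, F⟩ := h.exists_frame ht
  obtain ⟨S', A', F'⟩ := h.exists_frame hu
  have hSN : (S : Subgroup H) ≤ N := fun s hs =>
    hCt (mem_centralizer_singleton_iff.mpr (F.htZ s hs))
  have hS'N : (S' : Subgroup H) ≤ N := fun s hs =>
    hCu (mem_centralizer_singleton_iff.mpr (F'.htZ s hs))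
  obtain ⟨g₀, hg₀N, hg₀⟩ := exists_conj_sylow_of_le N S S' hSN hS'N
  have ht1 : t ≠ 1 := F.ht1
  have hu1 : u ≠ 1 := F'.ht1
  have htinv : t⁻¹ = t := inv_eq_of_mul_eq_one_left ht2
  have huinv : u⁻¹ = u := inv_eq_of_mul_eq_one_left hu2
  -- `g₀` conjugates `t` to `u`
  have hgt : g₀ * t * g₀⁻¹ = u := by
    apply F'.central_unique (le_refl 4)
    · rw [Cfsg.Agent.Lib.H4.DihBSW.orderOf_conj']; exact ht
    · exact (hg₀ t).mp F.htS
    · intro s' hs'
      have hx : g₀⁻¹ * s' * g₀ ∈ (S : Subgroup H) := by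
        rw [hg₀]
        have e : g₀ * (g₀⁻¹ * s' * g₀) * g₀⁻¹ = s' := by group
        rw [e]; exact hs'
      have h1 := F.htZ _ hx
      calc s' * (g₀ * t * g₀⁻¹) = g₀ * ((g₀⁻¹ * s' * g₀) * t) * g₀⁻¹ := by group
        _ = g₀ * (t * (g₀⁻¹ * s' * g₀)) * g₀⁻¹ := by rw [h1]
        _ = g₀ * t * g₀⁻¹ * s' := by group
  have huA : u ∉ A := by
    intro huA
    exact hne (F.eq_of_mem_of_sq huA hu2 hu1).symm
  -- the structure of `N`
  obtain ⟨Q, Z, hQN, hZN, hQnorm, hZnorm, hQp, hZodd, hZc, hQZ, hkey, hQmax, hZmax⟩ :=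
    sol_structure_sub h.oddFPF N hsolv
  have hQS : Q ≤ (S : Subgroup H) := le_sylow_of_normBy N Q hQN hQnorm hQp S hSN
  have htN : t ∈ N := hSN F.htS
  -- `Q ≠ ⊥`
  have hQne : Q ≠ ⊥ := by
    intro hQbot
    have h1 : g₀ * t * g₀⁻¹ * t⁻¹ ∈ centralizer (Z : Set H) :=
      commutator_mem_centralizer_of_cyclic Z hZc (hZnorm.le_normalizer hg₀N)
        (hZnorm.le_normalizer htN)
    rw [hgt, htinv] at h1
    have h2 : u * t ∈ Q ⊔ Z := by
      apply hkey (u * t) (N.mul_mem (hgt ▸ N.mul_mem (N.mul_mem hg₀N htN) (N.inv_mem hg₀N)) htN)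
      · intro q hq
        rw [hQbot, mem_bot] at hq
        rw [hq, mul_one, one_mul]
      · intro z hz
        exact ((mem_centralizer_iff.mp h1) z hz).symm
    rw [hQbot, bot_sup_eq] at h2
    -- `u * t` is an involution in the odd order group `Z`
    have h3 : (u * t) * (u * t) = 1 := by
      calc (u * t) * (u * t) = u * (t * u) * t := by group
        _ = u * (u * t) * t := by rw [htu]
        _ = (u * u) * (t * t) := by group
        _ = 1 := by rw [hu2, ht2, one_mul]
    have h4 : u * t ≠ 1 := by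
      intro h5
      apply hne
      calc t = (u * u) * t := by rw [hu2, one_mul]
        _ = u * (u * t) := by group
        _ = u := by rw [h5, mul_one]
    have h5 : orderOf (u * t) = 2 := orderOf_eq_prime (by rw [pow_two]; exact h3) h4
    have h6 : orderOf (u * t) ∣ Nat.card Z := by
      have := orderOf_dvd_natCard (⟨u * t, h2⟩ : Z)
      rwa [Subgroup.orderOf_mk] at this
    rw [h5] at h6
    exact (Nat.not_even_iff_odd.mpr hZodd) (even_iff_two_dvd.mpr h6)
  -- fourth powers in `A` are trivial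
  have hA4 : ∀ x ∈ A, (x * x) * (x * x) = 1 := by
    intro x hx
    have h1 : (⟨x, hx⟩ : A) ^ Nat.card A = 1 := pow_card_eq_one'
    rw [F.cardA] at h1
    have h2 : x ^ 4 = 1 := congrArg Subtype.val h1
    calc (x * x) * (x * x) = x ^ 4 := by
          rw [show (4 : ℕ) = 2 + 2 from rfl, pow_add, pow_two]
      _ = 1 := h2
  have hAsq : ∀ x ∈ A, x * x = 1 ∨ x * x = t := by
    intro x hx
    by_cases h1 : x * x = 1
    · exact Or.inl h1
    · exact Or.inr (F.eq_of_mem_of_sq (A.mul_mem hx hx) (hA4 x hx) h1)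
  -- an element of order four
  obtain ⟨r, hrA, hr2⟩ : ∃ r ∈ A, r * r = t := by
    haveI := F.hAc
    obtain ⟨g, hg⟩ := IsCyclic.exists_generator (α := A)
    have h3 : orderOf g = 4 := by
      rw [orderOf_eq_card_of_forall_mem_zpowers hg, F.cardA]
    refine ⟨g.1, g.2, ?_⟩
    rcases hAsq g.1 g.2 with h4 | h4
    · exfalso
      have h5 : g ^ 2 = 1 := by
        apply Subtype.ext
        show g.1 ^ 2 = 1
        rw [pow_two]; exact h4
      have h6 := orderOf_dvd_of_pow_eq_one h5
      rw [h3] at h6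
      omega
    · exact h4
  -- `t ∈ Q`
  have htQ : t ∈ Q := by
    obtain ⟨q, hq, hq1⟩ : ∃ q ∈ Q, q ≠ 1 := by
      by_contra hcon
      push Not at hcon
      apply hQne
      rw [eq_bot_iff]
      intro x hx
      exact mem_bot.mpr (hcon x hx)
    by_cases hqA : q ∈ A
    · rcases hAsq q hqA with h1 | h1
      · rw [← F.eq_of_mem_of_sq hqA h1 hq1]; exact hq
      · rw [← h1]; exact Q.mul_mem hq hq
    · have hinv := (F.hout q (hQS hq) hqA).2
      have h1 : q * r⁻¹ * q⁻¹ = r := by
        have := hinv r⁻¹ (A.inv_mem hrA)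
        rwa [inv_inv] at this
      have h2 : r * q * r⁻¹ ∈ Q := hQnorm r (hSN (F.hAS hrA)) q hq
      have h3 : r * q * r⁻¹ * q⁻¹ = t := by
        calc r * q * r⁻¹ * q⁻¹ = r * (q * r⁻¹ * q⁻¹) := by group
          _ = r * r := by rw [h1]
          _ = t := hr2
      rw [← h3]
      exact Q.mul_mem h2 (Q.inv_mem hq)
  have huQ : u ∈ Q := by
    rw [← hgt]
    exact hQnorm g₀ hg₀N t htQ
  have huS : u ∈ (S : Subgroup H) := hQS huQ
  -- every element of `Q` squares to one
  have hQsq : ∀ x ∈ Q, x * x = 1 := by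
    intro x hx
    by_contra hx2
    have hxA : x ∈ A := by
      by_contra hxA
      exact hx2 (F.hout x (hQS hx) hxA).1
    have hxt : x * x = t := (hAsq x hxA).resolve_left hx2
    have hcQ : g₀ * x * g₀⁻¹ ∈ Q := hQnorm g₀ hg₀N x hx
    have hsq : (g₀ * x * g₀⁻¹) * (g₀ * x * g₀⁻¹) = u := by
      calc (g₀ * x * g₀⁻¹) * (g₀ * x * g₀⁻¹) = g₀ * (x * x) * g₀⁻¹ := by group
        _ = g₀ * t * g₀⁻¹ := by rw [hxt]
        _ = u := hgt
    have hcA : g₀ * x * g₀⁻¹ ∈ A := by
      by_contra hcA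
      have := (F.hout _ (hQS hcQ) hcA).1
      rw [hsq] at this
      exact hu1 this
    have : u ∈ A := hsq ▸ A.mul_mem hcA hcA
    exact huA this
  -- `Q` is the four-group
  have hQV : ∀ x ∈ Q, x ∈ kleinOf t u ht2 hu2 htu := by
    intro x hx
    rw [mem_kleinOf]
    by_cases hxA : x ∈ A
    · by_cases hx1 : x = 1
      · exact Or.inl hx1
      · exact Or.inr (Or.inl (F.eq_of_mem_of_sq hxA (hQsq x hx) hx1))
    · have h1 : x * u ∈ A := F.mul_mem_of_out (hQS hx) huS hxA huA
      have h2 : x * u ∈ Q := Q.mul_mem hx huQ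
      by_cases h3 : x * u = 1
      · right; right; left
        calc x = (x * u) * u⁻¹ := by group
          _ = u := by rw [h3, one_mul, huinv]
      · right; right; right
        have h4 := F.eq_of_mem_of_sq h1 (hQsq _ h2) h3
        calc x = (x * u) * u⁻¹ := by group
          _ = t * u := by rw [h4, huinv]
  have hVQ : ∀ x ∈ kleinOf t u ht2 hu2 htu, x ∈ Q := by
    intro x hx
    rcases mem_kleinOf.mp hx with rfl | rfl | rfl | rfl
    · exact Q.one_mem
    · exact htQ
    · exact huQ
    · exact Q.mul_mem htQ huQ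
  intro g hg v hv
  exact hQV _ (hQnorm g hg v (hVQ v hv))

/-- an element commuting with the square of an element of odd order commutes with the element -/
theorem commute_of_sq_of_odd {x u : H} (hodd : Odd (orderOf x)) (h2 : (x * x) * u = u * (x * x)) :
    x * u = u * x := by
  obtain ⟨k, hk⟩ := hodd
  have h1 : x = (x * x) ^ (k + 1) := by
    have : (x * x) ^ (k + 1) = x ^ (orderOf x) * x := by
      rw [hk, ← pow_two, ← pow_mul, ← pow_succ]
      congr 1
    rw [this, pow_orderOf_eq_one, one_mul]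
  have h3 : Commute (x * x) u := h2
  have h4 : Commute ((x * x) ^ (k + 1)) u := h3.pow_left (k + 1)
  rw [← h1] at h4
  exact h4

/-- `n = 4`: if some nontrivial element of `K_t` commutes with `u`, then all of `K_t` does
(given that proper subgroups containing `C_H(t)` are solvable). -/
theorem Kc_le_centralizer_of (h : HCtx H 4) {t u : H} (ht : orderOf t = 2) (hu : orderOf u = 2)
    (htu : t * u = u * t) (hne : t ≠ u)
    (hsol : ∀ N : Subgroup H, N ≠ ⊤ → centralizer ({t} : Set H) ≤ N → Group.IsSolvable N)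
    {y : H} (hy : y ∈ Kc t) (hy1 : y ≠ 1) (hyu : u * y = y * u) :
    ∀ x ∈ Kc t, x * u = u * x := by
  have ht2 : t * t = 1 := by
    have := pow_orderOf_eq_one t
    rwa [ht, pow_two] at this
  have hu2 : u * u = 1 := by
    have := pow_orderOf_eq_one u
    rwa [hu, pow_two] at this
  have ht1 : t ≠ 1 := by
    intro h1; rw [h1, orderOf_one] at ht; omega
  have hu1 : u ≠ 1 := by
    intro h1; rw [h1, orderOf_one] at hu; omega
  -- a power of prime order
  have hyodd : Odd (orderOf y) := ((h.mem_Kc_iff ht).mp hy).2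
  have ho1 : orderOf y ≠ 1 := fun h1 => hy1 (orderOf_eq_one_iff.mp h1)
  set p := (orderOf y).minFac with hpdef
  have hpp : p.Prime := Nat.minFac_prime ho1
  have hpd : p ∣ orderOf y := Nat.minFac_dvd _
  set y' := y ^ (orderOf y / p) with hy'def
  have hy'o : orderOf y' = p := orderOf_pow_orderOf_div (orderOf_pos y).ne' hpd
  have hy'K : y' ∈ Kc t := (Kc t).pow_mem hy _
  have hy'u : u * y' = y' * u := by
    have : Commute u y := hyu
    exact this.pow_right _
  have hy'1 : y' ≠ 1 := by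
    intro h1
    rw [h1, orderOf_one] at hy'o
    exact hpp.one_lt.ne hy'o
  have hy'odd : Odd (orderOf y') := ((h.mem_Kc_iff ht).mp hy'K).2
  set N := normalizer ((zpowers y' : Subgroup H) : Set H) with hN
  have hNtop : N ≠ ⊤ := h.normalizer_zpowers_ne_top hy'1 hy'odd
  have hCt : centralizer ({t} : Set H) ≤ N :=
    h.centralizer_le_normalizer_zpowers ht hy'K (hy'o ▸ hpp)
  have hsolv := hsol N hNtop hCt
  have hnorm := h.normBy_klein_of_solvable ht hu ht2 hu2 htu hne hy'K (hy'o ▸ hpp) hy'u hsolv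
  intro x hx
  have hxt : x * t = t * x := ((h.mem_Kc_iff ht).mp hx).1
  have hxodd : Odd (orderOf x) := ((h.mem_Kc_iff ht).mp hx).2
  have hxN : x ∈ N := hCt (mem_centralizer_singleton_iff.mpr hxt)
  have hxtx : x * t * x⁻¹ = t := by rw [hxt]; group
  have h1 := hnorm x hxN u right_mem_kleinOf
  rcases mem_kleinOf.mp h1 with h2 | h2 | h2 | h2
  · exfalso
    apply hu1
    calc u = x⁻¹ * (x * u * x⁻¹) * x := by group
      _ = 1 := by rw [h2]; group
  · exfalso
    apply hne
    calc t = x⁻¹ * (x * t * x⁻¹) * x := by group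
      _ = x⁻¹ * (x * u * x⁻¹) * x := by rw [hxtx, h2]
      _ = u := by group
  · calc x * u = (x * u * x⁻¹) * x := by group
      _ = u * x := by rw [h2]
  · apply commute_of_sq_of_odd hxodd
    have h3 : x * (x * u * x⁻¹) * x⁻¹ = u := by
      rw [h2]
      calc x * (t * u) * x⁻¹ = (x * t * x⁻¹) * (x * u * x⁻¹) := by group
        _ = t * (t * u) := by rw [hxtx, h2]
        _ = u := by rw [← mul_assoc, ht2, one_mul]
    calc (x * x) * u = (x * (x * u * x⁻¹) * x⁻¹) * (x * x) := by group
      _ = u * (x * x) := by rw [h3]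

end HCtx

end Cfsg.Agent.Lib.H25.Zas
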