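import Mathlib
import Cfsg.Agent.Lib.H25.ZasE4a
import Cfsg.Agent.Lib.H9.A5FactsC

/-!
# Zassenhaus, H-level, `n = 4`: proper subgroups containing an involution centralizer are solvable
-/

set_option autoImplicit false
set_option linter.style.haveILetI false

namespace Cfsg.Agent.Lib.H25.Zas

open Subgroup

namespace HCtx

variable {H : Type*} [Group H] [Finite H]

/-- `n = 4`: a proper subgroup containing the centralizer of an involution is solvable -/
theorem solvable_of_centralizer_le (h : HCtx H 4) {t : H} (ht : orderOf t = 2) (N : Subgroup H)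
    (hN : N ≠ ⊤) (hC : centralizer ({t} : Set H) ≤ N) : Group.IsSolvable N := by
  by_contra hns
  obtain ⟨L, C, hLN, hCN, hLnorm, hCnorm, ⟨e⟩, hcomm, hkeyC, hLC, hCodd, hC30, hcard, hinv⟩ :=
    nonsolvable_structure h.dih h.oddFPF h.hyp.perf N hN hns
  obtain ⟨S, A, F⟩ := h.exists_frame ht
  have hSN : (S : Subgroup H) ≤ N := fun s hs =>
    hC (mem_centralizer_singleton_iff.mpr (F.htZ s hs))
  have h8 : 8 ∣ Nat.card N := by
    have := Subgroup.card_dvd_of_le hSN
    rwa [F.cardS] at this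
  obtain ⟨c₀, hc₀⟩ := hCodd
  have hcard120 : Nat.card N = 120 * Nat.card C := by
    rcases hcard with h1 | h1
    · exfalso
      rw [h1, hc₀] at h8
      omega
    · exact h1
  have hcardL : Nat.card L = 60 := by
    rw [Nat.card_congr e.toEquiv, card_A5]
  set M₀ : Subgroup H := L ⊔ C with hM₀
  have hM₀card : Nat.card M₀ = 60 * Nat.card C := by
    rw [hM₀, card_sup_of_commute L C hcomm hLC, hcardL]
  have hM₀N : M₀ ≤ N := sup_le hLN hCN
  have hrel : M₀.relIndex N = 2 := by
    have h1 := Subgroup.relIndex_mul_relIndex (⊥ : Subgroup H) M₀ N bot_le hM₀N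
    rw [Subgroup.relIndex_bot_left, Subgroup.relIndex_bot_left, hM₀card, hcard120] at h1
    have hCpos : 0 < Nat.card C := Nat.card_pos
    nlinarith
  -- squares of elements of `N` lie in `M₀`
  have hsq : ∀ x ∈ N, x * x ∈ M₀ := fun x hx =>
    (mul_mem_iff_of_relIndex_two hrel hx hx).mpr Iff.rfl
  -- involutions of `M₀` lie in `L`
  have hinvL : ∀ x ∈ M₀, x * x = 1 → x ∈ L := by
    intro x hx hx2
    obtain ⟨l, hl, c, hc, rfl⟩ := mem_sup_of_commute L C hcomm hx
    have h1 : (l * l) * (c * c) = 1 := by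
      calc (l * l) * (c * c) = l * (l * c) * c := by group
        _ = l * (c * l) * c := by rw [hcomm l hl c hc]
        _ = (l * c) * (l * c) := by group
        _ = 1 := hx2
    have h2 : c * c ∈ L ⊓ C := by
      refine ⟨?_, C.mul_mem hc hc⟩
      have : c * c = (l * l)⁻¹ := by
        rw [eq_inv_iff_mul_eq_one]
        calc c * c * (l * l) = c * (c * l) * l := by group
          _ = c * (l * c) * l := by rw [hcomm l hl c hc]
          _ = (c * l) * (c * l) := by group
          _ = (l * c) * (l * c) := by rw [hcomm l hl c hc]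
          _ = 1 := hx2
      rw [this]
      exact L.inv_mem (L.mul_mem hl hl)
    rw [hLC, mem_bot] at h2
    -- `c` has odd order and squares to one
    have h3 : orderOf c ∣ 2 := orderOf_dvd_of_pow_eq_one (by rw [pow_two]; exact h2)
    have h4 : orderOf c ∣ Nat.card C := by
      have := orderOf_dvd_natCard (⟨c, hc⟩ : C)
      rwa [Subgroup.orderOf_mk] at this
    have h5 : orderOf c = 1 := by
      rcases (Nat.dvd_prime Nat.prime_two).mp h3 with h6 | h6
      · exact h6
      · exfalso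
        rw [h6, hc₀] at h4
        omega
    rw [orderOf_eq_one_iff.mp h5, mul_one]
    exact hl
  -- an involution of `S` outside `M₀`
  obtain ⟨j, hjS, hjA, hjM⟩ : ∃ j ∈ (S : Subgroup H), j ∉ A ∧ j ∉ M₀ := by
    by_contra hcon
    push Not at hcon
    have h1 : (S : Subgroup H) ≤ M₀ := F.le_of_out M₀ hcon
    have h2 := Subgroup.card_dvd_of_le h1
    rw [F.cardS, hM₀card, hc₀] at h2
    omega
  have hj2 := (F.hout j hjS hjA).1
  have hj1 : j ≠ 1 := fun h1 => hjA (h1 ▸ A.one_mem)
  have oj : orderOf j = 2 := orderOf_eq_prime (by rw [pow_two]; exact hj2) hj1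
  obtain ⟨a, haL, ha3, hja⟩ := hinv j (hSN hjS) hjM hj2
  have haK : a ∈ Kc j := (h.mem_Kc_iff oj).mpr ⟨hja.symm, by rw [ha3]; decide⟩
  obtain ⟨g, hg⟩ := isConj_iff.mp (h.isConj_inv j t oj ht)
  have hbK := h.conj_mem_Kc oj g haK
  rw [hg] at hbK
  set b := g * a * g⁻¹ with hb
  have hb3 : orderOf b = 3 := by
    rw [hb, Cfsg.Agent.Lib.H4.DihBSW.orderOf_conj']; exact ha3
  have hbt : b * t = t * b := ((h.mem_Kc_iff ht).mp hbK).1
  have hbN : b ∈ N := hC (mem_centralizer_singleton_iff.mpr hbt)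
  have hb3' : b * b * b = 1 := by
    have := pow_orderOf_eq_one b
    rwa [hb3, pow_succ, pow_two] at this
  have hbM : b ∈ M₀ := by
    have h1 := hsq (b * b) (N.mul_mem hbN hbN)
    have h2 : (b * b) * (b * b) = b := by
      calc (b * b) * (b * b) = (b * b * b) * b := by group
        _ = b := by rw [hb3', one_mul]
    rwa [h2] at h1
  -- `b ∈ L`
  have hbL : b ∈ L := by
    obtain ⟨l, hl, c, hc, hblc⟩ := mem_sup_of_commute L C hcomm hbM
    have hlc : Commute l c := hcomm l hl c hc
    have h1 : l ^ 3 * c ^ 3 = 1 := by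
      rw [← hlc.mul_pow, ← hblc, ← hb3]
      exact pow_orderOf_eq_one b
    have h2 : c ^ 3 ∈ L ⊓ C := by
      refine ⟨?_, C.pow_mem hc 3⟩
      have : c ^ 3 = (l ^ 3)⁻¹ := by
        rw [eq_inv_iff_mul_eq_one]
        have hlc' : Commute (c ^ 3) (l ^ 3) := (hlc.pow_pow 3 3).symm
        rw [hlc'.eq]
        exact h1
      rw [this]
      exact L.inv_mem (L.pow_mem hl 3)
    rw [hLC, mem_bot] at h2
    have h3 : orderOf c ∣ 3 := orderOf_dvd_of_pow_eq_one h2
    have h4 : orderOf c ∣ Nat.card C := by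
      have := orderOf_dvd_natCard (⟨c, hc⟩ : C)
      rwa [Subgroup.orderOf_mk] at this
    have h5 : (orderOf c).Coprime 30 := Nat.Coprime.coprime_dvd_left h4 hC30
    have h6 : orderOf c = 1 := by
      rcases (Nat.dvd_prime Nat.prime_three).mp h3 with h7 | h7
      · exact h7
      · exfalso
        rw [h7] at h5
        exact absurd h5 (by decide)
    rw [hblc, orderOf_eq_one_iff.mp h6, mul_one]
    exact hl
  -- `t ∈ L`
  obtain ⟨r, hrA, hr2⟩ := F.exists_sq_eq
  have htM : t ∈ M₀ := hr2 ▸ hsq r (hSN (F.hAS hrA))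
  have htL : t ∈ L := hinvL t htM F.ht2
  -- transport to `A₅`
  have ot' : orderOf (e ⟨t, htL⟩) = 2 := by
    rw [MulEquiv.orderOf_eq, Subgroup.orderOf_mk]; exact ht
  have hcent : e ⟨b, hbL⟩ ∈ centralizer ({e ⟨t, htL⟩} : Set (alternatingGroup (Fin 5))) := by
    rw [mem_centralizer_singleton_iff, ← map_mul, ← map_mul]
    congr 1
    exact Subtype.ext hbt
  have h1 := (Cfsg.Agent.Lib.H9.A5Facts.a5_centralizer_inv (e ⟨t, htL⟩) ot').2 _ hcent
  rw [← map_mul, map_eq_one_iff e e.injective] at h1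
  have h2 : b * b = 1 := congrArg Subtype.val h1
  have h3 : orderOf b ∣ 2 := orderOf_dvd_of_pow_eq_one (by rw [pow_two]; exact h2)
  rw [hb3] at h3
  omega

end HCtx

end Cfsg.Agent.Lib.H25.Zas
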