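import Mathlib
import Cfsg.Agent.Lib.H25.ZasE4b
import Cfsg.Agent.Lib.H25.ZasE4ns
import Cfsg.Agent.Lib.H5.ConjCount
import Cfsg.Agent.Lib.H20.ConjOrbit

/-!
# Zassenhaus, H-level, part E for `n = 4`: the bad configuration (`K_t` centralizes a four-group)
-/

set_option autoImplicit false
set_option linter.style.haveILetI false

namespace Cfsg.Agent.Lib.H25.Zas

open Subgroup

/-- if `S` normalizes `K` then every element of `K ⊔ S` is a product -/
theorem mem_sup_of_normBy {H : Type*} [Group H] (K S : Subgroup H) (hnorm : NormBy S K) {x : H}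
    (hx : x ∈ K ⊔ S) : ∃ k ∈ K, ∃ s ∈ S, x = k * s := by
  let T : Subgroup H :=
    { carrier := {x | ∃ k ∈ K, ∃ s ∈ S, x = k * s}
      mul_mem' := by
        rintro x y ⟨k, hk, s, hs, rfl⟩ ⟨k', hk', s', hs', rfl⟩
        refine ⟨k * (s * k' * s⁻¹), K.mul_mem hk (hnorm s hs k' hk'), s * s', S.mul_mem hs hs', ?_⟩
        group
      one_mem' := ⟨1, K.one_mem, 1, S.one_mem, by simp⟩
      inv_mem' := by
        rintro x ⟨k, hk, s, hs, rfl⟩
        refine ⟨s⁻¹ * k⁻¹ * s⁻¹⁻¹, hnorm s⁻¹ (S.inv_mem hs) k⁻¹ (K.inv_mem hk), s⁻¹, S.inv_mem hs, ?_⟩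
        group }
  have h1 : K ≤ T := fun k hk => ⟨k, hk, 1, S.one_mem, by simp⟩
  have h2 : S ≤ T := fun s hs => ⟨1, K.one_mem, s, hs, by simp⟩
  exact (sup_le h1 h2) hx

/-- the order of `K ⊔ S` when `S` normalizes `K` and `K ⊓ S = ⊥` -/
theorem card_sup_of_normBy {H : Type*} [Group H] [Finite H] (K S : Subgroup H)
    (hnorm : NormBy S K) (hKS : K ⊓ S = ⊥) :
    Nat.card (K ⊔ S : Subgroup H) = Nat.card K * Nat.card S := by
  rw [← Nat.card_prod]
  symm
  let f : K × S → (K ⊔ S : Subgroup H) := fun x =>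
    ⟨x.1.1 * x.2.1, (K ⊔ S).mul_mem (mem_sup_left x.1.2) (mem_sup_right x.2.2)⟩
  apply Nat.card_congr (Equiv.ofBijective f ⟨?_, ?_⟩)
  · rintro ⟨l, c⟩ ⟨l', c'⟩ hxy
    have h1 : l.1 * c.1 = l'.1 * c'.1 := congrArg Subtype.val hxy
    have h2 : l'.1⁻¹ * l.1 = c'.1 * c.1⁻¹ := by
      calc l'.1⁻¹ * l.1 = l'.1⁻¹ * (l.1 * c.1) * c.1⁻¹ := by group
        _ = l'.1⁻¹ * (l'.1 * c'.1) * c.1⁻¹ := by rw [h1]
        _ = c'.1 * c.1⁻¹ := by group
    have h3 : l'.1⁻¹ * l.1 ∈ K ⊓ S :=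
      ⟨K.mul_mem (K.inv_mem l'.2) l.2, h2 ▸ S.mul_mem c'.2 (S.inv_mem c.2)⟩
    rw [hKS, mem_bot] at h3
    have h4 : l.1 = l'.1 := by
      calc l.1 = l'.1 * (l'.1⁻¹ * l.1) := by group
        _ = l'.1 := by rw [h3, mul_one]
    have h5 : c.1 = c'.1 := by
      rw [h4] at h1
      exact mul_left_cancel h1
    exact Prod.ext (Subtype.ext h4) (Subtype.ext h5)
  · rintro ⟨x, hx⟩
    obtain ⟨l, hl, c, hc, rfl⟩ := mem_sup_of_normBy K S hnorm hx
    exact ⟨(⟨l, hl⟩, ⟨c, hc⟩), rfl⟩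

/-- a subgroup of odd order and a 2-subgroup intersect trivially -/
theorem inf_eq_bot_of_odd_of_two {H : Type*} [Group H] [Finite H] (K S : Subgroup H)
    (hK : Odd (Nat.card K)) (hS : IsPGroup 2 S) : K ⊓ S = ⊥ := by
  rw [eq_bot_iff]
  intro x ⟨hxK, hxS⟩
  rw [mem_bot]
  obtain ⟨k, hk⟩ := (IsPGroup.iff_orderOf.mp hS) ⟨x, hxS⟩
  rw [Subgroup.orderOf_mk] at hk
  have h1 : orderOf x ∣ Nat.card K := by
    have := orderOf_dvd_natCard (⟨x, hxK⟩ : K)
    rwa [Subgroup.orderOf_mk] at this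
  have h2 : (orderOf x).Coprime (Nat.card K) := by
    rw [hk]
    exact Nat.Coprime.pow_left k (Nat.coprime_two_left.mpr hK)
  exact orderOf_eq_one_iff.mp (Nat.Coprime.eq_one_of_dvd h2 h1)

/-- the bad configuration for `n = 4`: `K_t ≠ 1` centralizes the involution `u ≠ t` of `C_H(t)` -/
structure BadFour {H : Type*} [Group H] (t u : H) : Prop where
  ht : orderOf t = 2
  hu : orderOf u = 2
  htu : t * u = u * t
  hne : t ≠ u
  hK : ∀ x ∈ Kc t, x * u = u * x
  hne1 : Kc t ≠ ⊥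

namespace BadFour

variable {H : Type*} [Group H] [Finite H] {t u : H} (B : BadFour t u) (h : HCtx H 4)

include B

theorem ht2 : t * t = 1 := by
  have := pow_orderOf_eq_one t
  rwa [B.ht, pow_two] at this

theorem hu2 : u * u = 1 := by
  have := pow_orderOf_eq_one u
  rwa [B.hu, pow_two] at this

theorem ht1 : t ≠ 1 := by
  intro h1
  have := B.ht
  rw [h1, orderOf_one] at this
  omega

theorem hu1 : u ≠ 1 := by
  intro h1
  have := B.hu
  rw [h1, orderOf_one] at this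
  omega

theorem htu2 : (t * u) * (t * u) = 1 := by
  calc (t * u) * (t * u) = t * (u * t) * u := by group
    _ = t * (t * u) * u := by rw [B.htu]
    _ = (t * t) * (u * u) := by group
    _ = 1 := by rw [B.ht2, B.hu2, one_mul]

theorem htu1 : t * u ≠ 1 := by
  intro h1
  apply B.hne
  calc t = t * (u * u) := by rw [B.hu2, mul_one]
    _ = (t * u) * u := by group
    _ = u := by rw [h1, one_mul]

theorem otu : orderOf (t * u) = 2 :=
  orderOf_eq_prime (by rw [pow_two]; exact B.htu2) B.htu1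

include h

/-- `K_t ≤ K_u` -/
theorem Kc_le : Kc t ≤ Kc u := by
  intro x hx
  have h1 := (h.mem_Kc_iff B.ht).mp hx
  exact (h.mem_Kc_iff B.hu).mpr ⟨B.hK x hx, h1.2⟩

/-- the symmetric configuration -/
theorem symm : BadFour u t := by
  obtain ⟨y, hy, hy1⟩ : ∃ y ∈ Kc t, y ≠ 1 := by
    by_contra hcon
    push Not at hcon
    apply B.hne1
    rw [eq_bot_iff]
    intro x hx
    exact mem_bot.mpr (hcon x hx)
  have hyu : y ∈ Kc u := B.Kc_le h hy
  have hyt : t * y = y * t := ((h.mem_Kc_iff B.ht).mp hy).1.symm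
  refine ⟨B.hu, B.ht, B.htu.symm, B.hne.symm, ?_, ?_⟩
  · exact h.Kc_le_centralizer_of B.hu B.ht B.htu.symm B.hne.symm
      (fun N hN hC => h.solvable_of_centralizer_le B.hu N hN hC) hyu hy1 hyt
  · intro hbot
    rw [hbot, mem_bot] at hyu
    exact hy1 hyu

theorem Kc_eq : Kc u = Kc t :=
  le_antisymm ((B.symm h).Kc_le h) (B.Kc_le h)

/-- the configuration for the third involution -/
theorem mul_right : BadFour t (t * u) := by
  refine ⟨B.ht, B.otu, ?_, ?_, ?_, B.hne1⟩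
  · rw [← mul_assoc, B.ht2, one_mul, B.htu, mul_assoc, B.ht2, mul_one]
  · intro h1
    apply B.hu1
    calc u = t⁻¹ * (t * u) := by group
      _ = t⁻¹ * t := by rw [← h1]
      _ = 1 := by group
  · intro x hx
    have h1 := ((h.mem_Kc_iff B.ht).mp hx).1
    have h2 := B.hK x hx
    calc x * (t * u) = (x * t) * u := by group
      _ = t * (x * u) := by rw [h1]; group
      _ = t * u * x := by rw [h2]; group

theorem Kc_mul_eq : Kc (t * u) = Kc t :=
  (B.mul_right h).Kc_eq h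

end BadFour

namespace HCtx

variable {H : Type*} [Group H] [Finite H]

/-- a counterexample to part E for `n = 4` gives a bad configuration -/
theorem badFour_of (h : HCtx H 4) {t u : H} (ht : orderOf t = 2) (hu : orderOf u = 2)
    (htu : t * u = u * t) (hne : t ≠ u) {y : H} (hy : y ∈ Kc t) (hy1 : y ≠ 1)
    (hyu : u * y = y * u) : BadFour t u := by
  refine ⟨ht, hu, htu, hne, ?_, ?_⟩
  · exact h.Kc_le_centralizer_of ht hu htu hne
      (fun N hN hC => h.solvable_of_centralizer_le ht N hN hC) hy hy1 hyu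
  · intro hbot
    rw [hbot, mem_bot] at hy
    exact hy1 hy

end HCtx

end Cfsg.Agent.Lib.H25.Zas
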