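import Mathlib
import Cfsg.Agent.Lib.H25.ZasE4c

/-!
# Zassenhaus, H-level, part E for `n = 4`: the local subgroup `N = N_H(⟨y⟩)` of a bad configuration
-/

set_option autoImplicit false
set_option linter.style.haveILetI false

namespace Cfsg.Agent.Lib.H25.Zas

open Subgroup

namespace HCtx

variable {H : Type*} [Group H] [Finite H] {n : ℕ}

/-- if `N` contains the centralizers of the involutions `t` and `u` then they are conjugate in `N` -/
theorem exists_conj_of_centralizers_le (h : HCtx H n) (hn : 4 ≤ n) {t u : H} (ht : orderOf t = 2)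
    (hu : orderOf u = 2) (N : Subgroup H) (hCt : centralizer ({t} : Set H) ≤ N)
    (hCu : centralizer ({u} : Set H) ≤ N) : ∃ g ∈ N, g * t * g⁻¹ = u := by
  obtain ⟨S, A, F⟩ := h.exists_frame ht
  obtain ⟨S', A', F'⟩ := h.exists_frame hu
  have hSN : (S : Subgroup H) ≤ N := fun s hs =>
    hCt (mem_centralizer_singleton_iff.mpr (F.htZ s hs))
  have hS'N : (S' : Subgroup H) ≤ N := fun s hs =>
    hCu (mem_centralizer_singleton_iff.mpr (F'.htZ s hs))
  obtain ⟨g₀, hg₀N, hg₀⟩ := exists_conj_sylow_of_le N S S' hSN hS'N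
  refine ⟨g₀, hg₀N, ?_⟩
  apply F'.central_unique hn
  · rw [Cfsg.Agent.Lib.H4.DihBSW.orderOf_conj']; exact ht
  · exact (hg₀ t).mp F.htS
  · intro s' hs'
    have hx : g₀⁻¹ * s' * g₀ ∈ (S : Subgroup H) := by
      rw [hg₀]
      have e : g₀ * (g₀⁻¹ * s' * g₀) * g₀⁻¹ = s' := by group
      rw [e]; exact hs'
    have h1 := F.htZ _ hx
    calc s' * (g₀ * t * g₀⁻¹) = g₀ * ((g₀⁻¹ * s' * g₀) * t) * g₀⁻¹ := by group
      _ = g₀ * (t * (g₀⁻¹ * s' * g₀)) * g₀⁻¹ := by rw [h1]
      _ = g₀ * t * g₀⁻¹ * s' := by group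

/-- the order of the centralizer of an involution -/
theorem card_centralizer (h : HCtx H n) {t : H} (ht : orderOf t = 2) :
    Nat.card (centralizer ({t} : Set H)) = Nat.card (Kc t) * (2 * n) := by
  haveI : Fact (Nat.Prime 2) := ⟨Nat.prime_two⟩
  obtain ⟨S, htS, htZ⟩ := h.exists_sylow_central ht
  have hSC : (S : Subgroup H) ≤ centralizer ({t} : Set H) := fun s hs =>
    mem_centralizer_singleton_iff.mpr (htZ s hs)
  have hnorm : NormBy (S : Subgroup H) (Kc t) := fun s hs k hk => h.normBy_Kc ht s (hSC hs) k hk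
  have heq : centralizer ({t} : Set H) = Kc t ⊔ (S : Subgroup H) := by
    apply le_antisymm
    · intro c hc
      obtain ⟨o, ho, x, hx, rfl⟩ := h.centralizer_eq_mul ht S htZ c hc
      exact (Kc t ⊔ (S : Subgroup H)).mul_mem (mem_sup_left ho) (mem_sup_right hx)
    · exact sup_le (h.Kc_le ht) hSC
  rw [heq, card_sup_of_normBy _ _ hnorm
    (inf_eq_bot_of_odd_of_two _ _ (h.odd_card_Kc ht) S.isPGroup'), h.dih.card_sylow S]

/-- the number of involutions -/
theorem card_inv_mul (h : HCtx H n) {t : H} (ht : orderOf t = 2) :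
    Nat.card {j : H // orderOf j = 2} * (Nat.card (Kc t) * (2 * n)) = Nat.card H := by
  rw [← h.card_centralizer ht, ← Cfsg.Agent.Lib.H5.card_conj_mul_card_centralizer t]
  congr 1
  apply Nat.card_congr
  exact Equiv.subtypeEquivRight (fun j => ⟨fun hj => h.isConj_inv t j ht hj,
    fun hj => by rw [← Cfsg.Agent.Lib.H5.orderOf_eq_of_isConj hj]; exact ht⟩)

end HCtx

namespace BadFour

variable {H : Type*} [Group H] [Finite H] {t u : H} (B : BadFour t u) (h : HCtx H 4)

include B h

/-- elements of `K_t` commute with `u` (other orientation) -/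
theorem comm_u {y : H} (hy : y ∈ Kc t) : u * y = y * u := (B.hK y hy).symm

/-- the local subgroup attached to an element of prime order of `K_t` -/
theorem normalizer_facts {y : H} (hy : y ∈ Kc t) (hp : (orderOf y).Prime) :
    normalizer ((zpowers y : Subgroup H) : Set H) ≠ ⊤ ∧
    centralizer ({t} : Set H) ≤ normalizer ((zpowers y : Subgroup H) : Set H) ∧
    centralizer ({u} : Set H) ≤ normalizer ((zpowers y : Subgroup H) : Set H) ∧
    centralizer ({t * u} : Set H) ≤ normalizer ((zpowers y : Subgroup H) : Set H) ∧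
    NormBy (normalizer ((zpowers y : Subgroup H) : Set H)) (kleinOf t u B.ht2 B.hu2 B.htu) := by
  have hy1 : y ≠ 1 := by
    intro h1
    rw [h1, orderOf_one] at hp
    exact Nat.not_prime_one hp
  have hyodd : Odd (orderOf y) := ((h.mem_Kc_iff B.ht).mp hy).2
  have hCt := h.centralizer_le_normalizer_zpowers B.ht hy hp
  have hyu : y ∈ Kc u := (B.Kc_eq h) ▸ hy
  have hytu : y ∈ Kc (t * u) := (B.Kc_mul_eq h) ▸ hy
  have hNtop := h.normalizer_zpowers_ne_top hy1 hyodd
  refine ⟨hNtop, hCt, h.centralizer_le_normalizer_zpowers B.hu hyu hp,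
    h.centralizer_le_normalizer_zpowers B.otu hytu hp, ?_⟩
  exact h.normBy_klein_of_solvable B.ht B.hu B.ht2 B.hu2 B.htu B.hne hy hp (B.comm_u h hy)
    (h.solvable_of_centralizer_le B.ht _ hNtop hCt)

/-- an element of `N` inducing a 3-cycle on the involutions of the four-group -/
theorem exists_three_cycle {y : H} (hy : y ∈ Kc t) (hp : (orderOf y).Prime) :
    ∃ x ∈ normalizer ((zpowers y : Subgroup H) : Set H), x * t * x⁻¹ = u ∧ x * u * x⁻¹ = t * u := by
  obtain ⟨hNtop, hCt, hCu, hCtu, hnorm⟩ := B.normalizer_facts h hy hp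
  set N := normalizer ((zpowers y : Subgroup H) : Set H) with hN
  obtain ⟨g₀, hg₀N, hgt⟩ := h.exists_conj_of_centralizers_le (le_refl 4) B.ht B.hu N hCt hCu
  have h1 := hnorm g₀ hg₀N u right_mem_kleinOf
  rcases mem_kleinOf.mp h1 with h2 | h2 | h2 | h2
  · exfalso
    apply B.hu1
    calc u = g₀⁻¹ * (g₀ * u * g₀⁻¹) * g₀ := by group
      _ = 1 := by rw [h2]; group
  · -- `g₀` swaps `t` and `u`: compose with an element of order four
    obtain ⟨S, A, F⟩ := h.exists_frame B.ht
    have hSN : (S : Subgroup H) ≤ N := fun s hs =>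
      hCt (mem_centralizer_singleton_iff.mpr (F.htZ s hs))
    have hVS : kleinOf t u B.ht2 B.hu2 B.htu ≤ (S : Subgroup H) :=
      le_sylow_of_normBy N _ (fun v hv => by
        rcases mem_kleinOf.mp hv with rfl | rfl | rfl | rfl
        · exact N.one_mem
        · exact hSN F.htS
        · exact hCu (mem_centralizer_singleton_iff.mpr rfl)
        · exact N.mul_mem (hSN F.htS) (hCu (mem_centralizer_singleton_iff.mpr rfl)))
        hnorm (by
          apply IsPGroup.of_card (n := 2)
          rw [(isKleinFour_kleinOf B.ht2 B.hu2 B.htu B.ht1 B.hu1 B.hne).card_four]; norm_num) S hSN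
    have huS : u ∈ (S : Subgroup H) := hVS right_mem_kleinOf
    have huA : u ∉ A := fun huA => B.hne (F.eq_of_mem_of_sq huA B.hu2 B.hu1).symm
    obtain ⟨r, hrA, hr2⟩ := F.exists_sq_eq
    have hinv := (F.hout u huS huA).2
    have h3 : u * r⁻¹ * u⁻¹ = r := by
      have := hinv r⁻¹ (A.inv_mem hrA)
      rwa [inv_inv] at this
    have hru : r * u * r⁻¹ = t * u := by
      calc r * u * r⁻¹ = r * (u * r⁻¹ * u⁻¹) * u := by group
        _ = (r * r) * u := by rw [h3]
        _ = t * u := by rw [hr2]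
    have hrt : r * t * r⁻¹ = t := by
      rw [F.htZ r (F.hAS hrA)]; group
    refine ⟨g₀ * r, N.mul_mem hg₀N (hSN (F.hAS hrA)), ?_, ?_⟩
    · calc g₀ * r * t * (g₀ * r)⁻¹ = g₀ * (r * t * r⁻¹) * g₀⁻¹ := by group
        _ = u := by rw [hrt, hgt]
    · calc g₀ * r * u * (g₀ * r)⁻¹ = g₀ * (r * u * r⁻¹) * g₀⁻¹ := by group
        _ = (g₀ * t * g₀⁻¹) * (g₀ * u * g₀⁻¹) := by rw [hru]; group
        _ = u * t := by rw [hgt, h2]
        _ = t * u := B.htu.symm
  · exfalso
    apply B.hne
    have : g₀ * u * g₀⁻¹ = g₀ * t * g₀⁻¹ := by rw [h2, hgt]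
    have h3 : u = t := by
      calc u = g₀⁻¹ * (g₀ * u * g₀⁻¹) * g₀ := by group
        _ = g₀⁻¹ * (g₀ * t * g₀⁻¹) * g₀ := by rw [this]
        _ = t := by group
    exact h3.symm
  · exact ⟨g₀, hg₀N, hgt, h2⟩

/-- the order of `N` -/
theorem card_normalizer {y : H} (hy : y ∈ Kc t) (hp : (orderOf y).Prime) :
    Nat.card (normalizer ((zpowers y : Subgroup H) : Set H)) = 24 * Nat.card (Kc t) := by
  obtain ⟨hNtop, hCt, hCu, hCtu, hnorm⟩ := B.normalizer_facts h hy hp
  obtain ⟨x, hxN, hxt, hxu⟩ := B.exists_three_cycle h hy hp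
  set N := normalizer ((zpowers y : Subgroup H) : Set H) with hN
  have h1 := Cfsg.Agent.Lib.H20.card_eq_ncard_conj_mul_card_inf_centralizer N t
  have h2 : N ⊓ centralizer ({t} : Set H) = centralizer ({t} : Set H) := inf_of_le_right hCt
  have h3 : {y : H | ∃ n ∈ N, n * t * n⁻¹ = y} = {t, u, t * u} := by
    ext z
    simp only [Set.mem_ofPred_eq, Set.mem_insert_iff, Set.mem_singleton_iff]
    constructor
    · rintro ⟨n, hn, rfl⟩
      have := hnorm n hn t left_mem_kleinOf
      rcases mem_kleinOf.mp this with h4 | h4 | h4 | h4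
      · exfalso
        apply B.ht1
        calc t = n⁻¹ * (n * t * n⁻¹) * n := by group
          _ = 1 := by rw [h4]; group
      · exact Or.inl h4
      · exact Or.inr (Or.inl h4)
      · exact Or.inr (Or.inr h4)
    · rintro (rfl | rfl | rfl)
      · exact ⟨1, N.one_mem, by group⟩
      · exact ⟨x, hxN, hxt⟩
      · refine ⟨x * x, N.mul_mem hxN hxN, ?_⟩
        calc x * x * t * (x * x)⁻¹ = x * (x * t * x⁻¹) * x⁻¹ := by group
          _ = t * u := by rw [hxt, hxu]
  have h4 : ({t, u, t * u} : Set H).ncard = 3 := by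
    rw [Set.ncard_eq_three]
    refine ⟨t, u, t * u, B.hne, ?_, ?_, rfl⟩
    · intro h5
      apply B.hu1
      calc u = t⁻¹ * (t * u) := by group
        _ = t⁻¹ * t := by rw [← h5]
        _ = 1 := by group
    · intro h5
      apply B.ht1
      calc t = (t * u) * u⁻¹ := by group
        _ = u * u⁻¹ := by rw [← h5]
        _ = 1 := by group
  rw [h2, h3, h4, h.card_centralizer B.ht] at h1
  rw [h1]; ring

end BadFour

end Cfsg.Agent.Lib.H25.Zas
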