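import Mathlib
import Cfsg.Agent.Lib.H25.ZasE4d

/-!
# Zassenhaus, H-level, part E for `n = 4`: the counting hypotheses and the case `3 ∤ |K_t|`
-/

set_option autoImplicit false
set_option linter.style.haveILetI false

namespace Cfsg.Agent.Lib.H25.Zas

open Subgroup

/-- the first counting identity (elements of order three), block D -/
def Count3 (H : Type*) [Group H] : Prop :=
  ∀ a : H, orderOf a = 3 →
    Nat.card {b : H // orderOf b = 3} =
      2 + 6 * Nat.card {X : Subgroup H // a ∈ X ∧ Nonempty (X ≃* alternatingGroup (Fin 4))}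
        + 6 * Nat.card {X : Subgroup H // a ∈ X ∧ Nonempty (X ≃* alternatingGroup (Fin 5))}

/-- the second counting identity (involutions), block D -/
def Count2 (H : Type*) [Group H] : Prop :=
  ∀ a : H, orderOf a = 3 →
    Nat.card {j : H // orderOf j = 2} =
      Nat.card {j : H // orderOf j = 2 ∧ j * a * j⁻¹ ∈ zpowers a}
        + 3 * Nat.card {X : Subgroup H // a ∈ X ∧ Nonempty (X ≃* alternatingGroup (Fin 4))}
        + 3 * Nat.card {X : Subgroup H // a ∈ X ∧ Nonempty (X ≃* Equiv.Perm (Fin 4))}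
        + 6 * Nat.card {X : Subgroup H // a ∈ X ∧ Nonempty (X ≃* alternatingGroup (Fin 5))}

/-- a nontrivial finite subgroup contains an element of prime order -/
theorem exists_prime_order_of_ne_bot {H : Type*} [Group H] [Finite H] (K : Subgroup H)
    (hK : K ≠ ⊥) : ∃ y ∈ K, (orderOf y).Prime := by
  obtain ⟨y, hy, hy1⟩ : ∃ y ∈ K, y ≠ 1 := by
    by_contra hcon
    push Not at hcon
    apply hK
    rw [eq_bot_iff]
    intro x hx
    exact mem_bot.mpr (hcon x hx)
  have ho1 : orderOf y ≠ 1 := fun h1 => hy1 (orderOf_eq_one_iff.mp h1)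
  have hpp : (orderOf y).minFac.Prime := Nat.minFac_prime ho1
  have hpd : (orderOf y).minFac ∣ orderOf y := Nat.minFac_dvd _
  refine ⟨y ^ (orderOf y / (orderOf y).minFac), K.pow_mem hy _, ?_⟩
  rw [orderOf_pow_orderOf_div (orderOf_pos y).ne' hpd]
  exact hpp

namespace HCtx

variable {H : Type*} [Group H] [Finite H] {n : ℕ}

/-- an element of order three commuting with an involution forces `3 ∣ |K_t|` -/
theorem three_dvd_of_commute (h : HCtx H n) {t j a : H} (ht : orderOf t = 2) (hj : orderOf j = 2)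
    (ha : orderOf a = 3) (hja : a * j = j * a) : 3 ∣ Nat.card (Kc t) := by
  have haK : a ∈ Kc j := (h.mem_Kc_iff hj).mpr ⟨hja, by rw [ha]; decide⟩
  obtain ⟨g, hg⟩ := isConj_iff.mp (h.isConj_inv j t hj ht)
  have hbK := h.conj_mem_Kc hj g haK
  rw [hg] at hbK
  have h1 : orderOf (g * a * g⁻¹) = 3 := by
    rw [Cfsg.Agent.Lib.H4.DihBSW.orderOf_conj']; exact ha
  have h2 := orderOf_dvd_natCard (⟨g * a * g⁻¹, hbK⟩ : Kc t)
  rwa [Subgroup.orderOf_mk, h1] at h2

end HCtx

namespace BadFour

variable {H : Type*} [Group H] [Finite H] {t u : H} (B : BadFour t u) (h : HCtx H 4)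

include B h

/-- the case `3 ∤ |K_t|` -/
theorem false_of_not_dvd (h3 : ¬ 3 ∣ Nat.card (Kc t)) (hE1 : Count3 H) (hE2 : Count2 H) :
    False := by
  obtain ⟨y, hy, hp⟩ := exists_prime_order_of_ne_bot (Kc t) B.hne1
  obtain ⟨hNtop, hCt, hCu, hCtu, hnorm⟩ := B.normalizer_facts h hy hp
  have hcardN := B.card_normalizer h hy hp
  set N := normalizer ((zpowers y : Subgroup H) : Set H) with hN
  set κ := Nat.card (Kc t) with hκ
  have hκpos : 0 < κ := Nat.card_pos
  haveI : Fact (Nat.Prime 3) := ⟨Nat.prime_three⟩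
  -- an element of order three of `N`
  obtain ⟨a', ha'⟩ := exists_prime_orderOf_dvd_card' (G := N) 3 (by rw [hcardN]; omega)
  set a : H := a'.1 with ha
  have haN : a ∈ N := a'.2
  have oa : orderOf a = 3 := by rw [ha, Subgroup.orderOf_coe]; exact ha'
  -- `p ≠ 3`
  have hyK : orderOf y ∣ κ := by
    have := orderOf_dvd_natCard (⟨y, hy⟩ : Kc t)
    rwa [Subgroup.orderOf_mk] at this
  have hp3 : orderOf y ≠ 3 := fun h1 => h3 (h1 ▸ hyK)
  have hyodd : Odd (orderOf y) := ((h.mem_Kc_iff B.ht).mp hy).2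
  -- `a` commutes with `y`
  have hay : a * y = y * a := by
    have hnb : NormBy (zpowers a) (zpowers y) := by
      intro g hg q hq
      have hgN : g ∈ N := (zpowers_le.mpr haN) hg
      exact (mem_normalizer_iff.mp hgN q).mp hq
    have hcop : (Nat.card (zpowers y)).Coprime (Nat.card (zpowers a)) := by
      rw [Nat.card_zpowers, Nat.card_zpowers, oa]
      exact (Nat.coprime_primes hp Nat.prime_three).mpr hp3
    have hinf : zpowers y ⊓ zpowers a = ⊥ := (Subgroup.disjoint_of_coprime_natCard hcop).eq_bot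
    have hcardR := card_sup_of_normBy (zpowers y) (zpowers a) hnb hinf
    rw [Nat.card_zpowers, Nat.card_zpowers, oa] at hcardR
    set R : Subgroup H := zpowers y ⊔ zpowers a with hR
    have hRodd : Odd (Nat.card R) := by
      rw [hcardR]
      exact hyodd.mul (by decide)
    have hfpf := h.oddFPF R hRodd
    have hyR : y ∈ R := mem_sup_left (mem_zpowers y)
    have haR : a ∈ R := mem_sup_right (mem_zpowers a)
    have := hfpf.commute_of_prime_order hRodd (x := (⟨a, haR⟩ : R)) (y := ⟨y, hyR⟩)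
      (by rw [Subgroup.orderOf_mk, oa]; exact Nat.prime_three)
      (by rw [Subgroup.orderOf_mk]; exact hp)
    exact congrArg Subtype.val this.eq
  -- the centralizer of `a` has odd order
  set D := centralizer ({a} : Set H) with hD
  have hDodd : Odd (Nat.card D) := by
    by_contra hcon
    rw [Nat.not_odd_iff_even] at hcon
    haveI : Fact (Nat.Prime 2) := ⟨Nat.prime_two⟩
    obtain ⟨j, hj⟩ := exists_prime_orderOf_dvd_card' (G := D) 2 hcon.two_dvd
    have hj2 : orderOf (j : H) = 2 := by rw [Subgroup.orderOf_coe]; exact hj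
    have hja : a * (j : H) = (j : H) * a := (mem_centralizer_singleton_iff.mp j.2).symm
    exact h3 (h.three_dvd_of_commute B.ht hj2 oa hja)
  -- `D ≤ N`
  have hDN : D ≤ N := by
    intro c hc
    have hca : c * a = a * c := mem_centralizer_singleton_iff.mp hc
    have hyD : y ∈ D := mem_centralizer_singleton_iff.mpr hay.symm
    have hcyD : c * y * c⁻¹ ∈ D := D.mul_mem (D.mul_mem hc hyD) (D.inv_mem hc)
    have h2 : orderOf (c * y * c⁻¹) = orderOf y := Cfsg.Agent.Lib.H4.DihBSW.orderOf_conj' c y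
    have h4 := h.oddFPF.zpowers_eq_of_mem D hDodd hp hcyD hyD h2 rfl
    exact mem_normalizer_zpowers_of_eq h4
  -- `|D|` divides `3κ`
  have hDdvd : Nat.card D ∣ 3 * κ := by
    have h1 : Nat.card D ∣ 24 * κ := hcardN ▸ Subgroup.card_dvd_of_le hDN
    have h2 : (Nat.card D).Coprime 8 := by
      have : (8 : ℕ) = 2 ^ 3 := by norm_num
      rw [this]
      exact Nat.Coprime.pow_right 3 (Nat.coprime_two_right.mpr hDodd)
    have h3' : 24 * κ = 8 * (3 * κ) := by ring
    rw [h3'] at h1
    exact h2.dvd_of_dvd_mul_left h1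
  have hDle : Nat.card D ≤ 3 * κ := Nat.le_of_dvd (by omega) hDdvd
  -- the class of `a`
  have hclass := Cfsg.Agent.Lib.H5.card_conj_mul_card_centralizer a
  have hcl_le : Nat.card {g : H // IsConj a g} ≤ Nat.card {b : H // orderOf b = 3} := by
    apply Nat.card_le_card_of_injective
      (fun g => (⟨g.1, by rw [← Cfsg.Agent.Lib.H5.orderOf_eq_of_isConj g.2]; exact oa⟩ :
        {b : H // orderOf b = 3}))
    intro g₁ g₂ h12
    have : (g₁ : H) = g₂ := congrArg (fun z : {b : H // orderOf b = 3} => (z : H)) h12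
    exact Subtype.ext this
  have hι := h.card_inv_mul B.ht
  have h1 := hE1 a oa
  have h2 := hE2 a oa
  -- `|H| ≥ 2 |N|`
  have hHN : 2 * Nat.card N ≤ Nat.card H := by
    have h4 := Subgroup.card_mul_index N
    have h5 : N.index ≠ 1 := fun h6 => hNtop (Subgroup.index_eq_one.mp h6)
    have h6 : N.index ≠ 0 := Subgroup.index_ne_zero_of_finite
    have h7 : 2 ≤ N.index := by omega
    calc 2 * Nat.card N = Nat.card N * 2 := by ring
      _ ≤ Nat.card N * N.index := Nat.mul_le_mul_left _ h7
      _ = Nat.card H := h4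
  rw [hcardN] at hHN
  set θ := Nat.card {b : H // orderOf b = 3} with hθ
  set ι := Nat.card {j : H // orderOf j = 2} with hιdef
  set m := Nat.card {g : H // IsConj a g} with hm
  set c := Nat.card D with hc
  -- arithmetic
  have hθι : θ ≤ 2 * ι + 2 := by omega
  have e1 : m * c ≤ (2 * ι + 2) * (3 * κ) := Nat.mul_le_mul (le_trans hcl_le hθι) hDle
  have e2 : ι * (κ * (2 * 4)) = m * c := by rw [hι, hclass]
  have e3 : 2 * (24 * κ) ≤ ι * (κ * (2 * 4)) := by rw [hι]; exact hHN
  nlinarith

end BadFour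

end Cfsg.Agent.Lib.H25.Zas
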