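import Mathlib
import Cfsg.Agent.Lib.H25.ZasE4e

/-!
# Zassenhaus, H-level, part E for `n = 4`: the case `3 ∣ |K_t|` (the `A₇` configuration)
-/

set_option autoImplicit false
set_option linter.style.haveILetI false

namespace Cfsg.Agent.Lib.H25.Zas

open Subgroup

/-- the elements of a cyclic group of order three -/
theorem eq_of_mem_zpowers_of_order_three {H : Type*} [Group H] {b x : H} (ob : orderOf b = 3)
    (hx : x ∈ zpowers b) : x = 1 ∨ x = b ∨ x = b⁻¹ := by
  have hb3 : b ^ 3 = 1 := by rw [← ob]; exact pow_orderOf_eq_one b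
  obtain ⟨k, rfl⟩ := mem_zpowers_iff.mp hx
  have h1 : b ^ k = b ^ (k % 3) := by
    have := zpow_mod_orderOf b k
    rw [ob] at this
    exact this.symm
  have h2 : 0 ≤ k % 3 := Int.emod_nonneg k (by norm_num)
  have h3 : k % 3 < 3 := Int.emod_lt_of_pos k (by norm_num)
  rw [h1]
  obtain ⟨m, hm⟩ : ∃ m : ℕ, k % 3 = m := ⟨(k % 3).toNat, (Int.toNat_of_nonneg h2).symm⟩
  rw [hm] at h3 ⊢
  have hm3 : m < 3 := by exact_mod_cast h3
  rw [zpow_natCast]
  interval_cases m
  · left; simp
  · right; left; simp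
  · right; right
    rw [eq_inv_iff_mul_eq_one, ← pow_succ]
    exact hb3

namespace BadFour

variable {H : Type*} [Group H] [Finite H] {t u : H} (B : BadFour t u) (h : HCtx H 4)

include B h

/-- an element of order four of `C_H(t)` inverts the elements of order three of `K_t` -/
theorem exists_inverting {b : H} (hb : b ∈ Kc t) (ob : orderOf b = 3) :
    ∃ r : H, r * b * r⁻¹ = b⁻¹ := by
  have hp : (orderOf b).Prime := ob ▸ Nat.prime_three
  obtain ⟨hNtop, hCt, hCu, hCtu, hnorm⟩ := B.normalizer_facts h hb hp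
  obtain ⟨x, hxN, hxt, hxu⟩ := B.exists_three_cycle h hb hp
  set N := normalizer ((zpowers b : Subgroup H) : Set H) with hN
  obtain ⟨S, A, F⟩ := h.exists_frame B.ht
  have hSN : (S : Subgroup H) ≤ N := fun s hs =>
    hCt (mem_centralizer_singleton_iff.mpr (F.htZ s hs))
  obtain ⟨r, hrA, hr2⟩ := F.exists_sq_eq
  have hrN : r ∈ N := hSN (F.hAS hrA)
  have hb1 : b ≠ 1 := by
    intro h1; rw [h1, orderOf_one] at ob; omega
  have h1 : r * b * r⁻¹ ∈ zpowers b := (mem_normalizer_iff.mp hrN b).mp (mem_zpowers b)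
  rcases eq_of_mem_zpowers_of_order_three ob h1 with h2 | h2 | h2
  · exfalso
    apply hb1
    calc b = r⁻¹ * (r * b * r⁻¹) * r := by group
      _ = 1 := by rw [h2]; group
  · exfalso
    -- `b` commutes with `r`, hence with the involution `w = r u`
    have hVS : kleinOf t u B.ht2 B.hu2 B.htu ≤ (S : Subgroup H) :=
      le_sylow_of_normBy N _ (fun v hv => by
        rcases mem_kleinOf.mp hv with rfl | rfl | rfl | rfl
        · exact N.one_mem
        · exact hSN F.htS
        · exact hCu (mem_centralizer_singleton_iff.mpr rfl)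
        · exact N.mul_mem (hSN F.htS) (hCu (mem_centralizer_singleton_iff.mpr rfl)))
        hnorm (by
          apply IsPGroup.of_card (n := 2)
          rw [(isKleinFour_kleinOf B.ht2 B.hu2 B.htu B.ht1 B.hu1 B.hne).card_four]; norm_num) S hSN
    have huS : u ∈ (S : Subgroup H) := hVS right_mem_kleinOf
    have huA : u ∉ A := fun huA => B.hne (F.eq_of_mem_of_sq huA B.hu2 B.hu1).symm
    set w := r * u with hw
    have hwS : w ∈ (S : Subgroup H) := (S : Subgroup H).mul_mem (F.hAS hrA) huS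
    have hwA : w ∉ A := F.mul_not_mem hrA huS huA
    have hw2 : w * w = 1 := (F.hout w hwS hwA).1
    have hw1 : w ≠ 1 := fun h3 => hwA (h3 ▸ A.one_mem)
    have hwt : t ≠ w := fun h3 => hwA (h3 ▸ F.htA)
    have ow : orderOf w = 2 := orderOf_eq_prime (by rw [pow_two]; exact hw2) hw1
    have htw : t * w = w * t := (F.htZ w hwS).symm
    have hrb : r * b = b * r := by
      calc r * b = (r * b * r⁻¹) * r := by group
        _ = b * r := by rw [h2]
    have hub : u * b = b * u := B.comm_u h hb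
    have hwb : w * b = b * w := by
      calc w * b = r * (u * b) := by rw [hw]; group
        _ = r * (b * u) := by rw [hub]
        _ = (r * b) * u := by group
        _ = b * w := by rw [hrb, hw]; group
    have B' : BadFour t w := h.badFour_of B.ht ow htw hwt hb hb1 hwb
    obtain ⟨_, _, _, _, hnorm'⟩ := B'.normalizer_facts h hb hp
    have h3 := hnorm' x hxN t left_mem_kleinOf
    rw [hxt] at h3
    rcases mem_kleinOf.mp h3 with h4 | h4 | h4 | h4
    · exact B.hu1 h4
    · exact B.hne h4.symm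
    · -- `u = r u`
      have : r = 1 := by
        calc r = (r * u) * u⁻¹ := by group
          _ = u * u⁻¹ := by rw [← hw, ← h4]
          _ = 1 := by group
      rw [this, one_mul] at hr2
      exact B.ht1 hr2.symm
    · -- `u = t r u`
      have h5 : t * r = 1 := by
        calc t * r = (t * (r * u)) * u⁻¹ := by group
          _ = u * u⁻¹ := by rw [← hw, ← h4]
          _ = 1 := by group
      have h6 : r = t := by
        calc r = t * (t * r) := by rw [← mul_assoc, B.ht2, one_mul]
          _ = t := by rw [h5, mul_one]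
      rw [h6, B.ht2] at hr2
      exact B.ht1 hr2.symm
  · exact ⟨r, h2⟩

/-- all elements of order three are conjugate to `b` -/
theorem isConj_of_order_three {b : H} (hb : b ∈ Kc t) (ob : orderOf b = 3) {b' : H}
    (ob' : orderOf b' = 3) : IsConj b b' := by
  haveI : Fact (Nat.Prime 3) := ⟨Nat.prime_three⟩
  obtain ⟨r, hr⟩ := B.exists_inverting h hb ob
  have hpb : IsPGroup 3 (zpowers b) := by
    apply IsPGroup.of_card (n := 1); rw [Nat.card_zpowers, ob, pow_one]
  have hpb' : IsPGroup 3 (zpowers b') := by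
    apply IsPGroup.of_card (n := 1); rw [Nat.card_zpowers, ob', pow_one]
  obtain ⟨P, hP⟩ := hpb.exists_le_sylow
  obtain ⟨P', hP'⟩ := hpb'.exists_le_sylow
  obtain ⟨g, hg⟩ := MulAction.exists_smul_eq H P P'
  have hb'P' : b' ∈ (P' : Subgroup H) := hP' (mem_zpowers b')
  rw [← hg, Sylow.coe_subgroup_smul, Subgroup.mem_pointwise_smul_iff_inv_smul_mem] at hb'P'
  have h1 : g⁻¹ * b' * g ∈ (P : Subgroup H) := by
    simpa [MulAut.smul_def] using hb'P'
  have hPodd : Odd (Nat.card (P : Subgroup H)) := by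
    obtain ⟨k, hk⟩ := IsPGroup.iff_card.mp P.isPGroup'
    rw [hk]
    exact Odd.pow (by decide)
  have h2 : orderOf (g⁻¹ * b' * g) = 3 := by
    have := Cfsg.Agent.Lib.H4.DihBSW.orderOf_conj' g⁻¹ b'
    rw [inv_inv] at this
    rw [this]; exact ob'
  have h3 := h.oddFPF.zpowers_eq_of_mem (P : Subgroup H) hPodd Nat.prime_three h1
    (hP (mem_zpowers b)) h2 ob
  have h4 : g⁻¹ * b' * g ∈ zpowers b := h3 ▸ mem_zpowers _
  rcases eq_of_mem_zpowers_of_order_three ob h4 with h5 | h5 | h5
  · exfalso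
    rw [h5, orderOf_one] at h2
    omega
  · rw [isConj_iff]
    refine ⟨g, ?_⟩
    rw [← h5]; group
  · rw [isConj_iff]
    refine ⟨g * r, ?_⟩
    calc g * r * b * (g * r)⁻¹ = g * (r * b * r⁻¹) * g⁻¹ := by group
      _ = g * (g⁻¹ * b' * g) * g⁻¹ := by rw [hr, h5]
      _ = b' := by group

/-- the order of the centralizer of `b` -/
theorem card_centralizer_three {b : H} (hb : b ∈ Kc t) (ob : orderOf b = 3) :
    Nat.card (centralizer ({b} : Set H)) = 12 * Nat.card (Kc t) := by
  have hp : (orderOf b).Prime := ob ▸ Nat.prime_three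
  have hcardN := B.card_normalizer h hb hp
  obtain ⟨r, hr⟩ := B.exists_inverting h hb ob
  set N := normalizer ((zpowers b : Subgroup H) : Set H) with hN
  have hrN : r ∈ N := by
    apply mem_normalizer_zpowers_of_eq
    rw [hr, zpowers_inv]
  have hCN : centralizer ({b} : Set H) ≤ N := by
    intro c hc
    apply mem_normalizer_zpowers_of_eq
    have : c * b * c⁻¹ = b := by
      rw [mem_centralizer_singleton_iff.mp hc]; group
    rw [this]
  have h1 := Cfsg.Agent.Lib.H20.card_eq_ncard_conj_mul_card_inf_centralizer N b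
  rw [inf_of_le_right hCN] at h1
  have hb1 : b ≠ 1 := by
    intro h1; rw [h1, orderOf_one] at ob; omega
  have h3 : {y : H | ∃ n ∈ N, n * b * n⁻¹ = y} = {b, b⁻¹} := by
    ext z
    simp only [Set.mem_ofPred_eq, Set.mem_insert_iff, Set.mem_singleton_iff]
    constructor
    · rintro ⟨n, hn, rfl⟩
      have h4 : n * b * n⁻¹ ∈ zpowers b := (mem_normalizer_iff.mp hn b).mp (mem_zpowers b)
      rcases eq_of_mem_zpowers_of_order_three ob h4 with h5 | h5 | h5
      · exfalso
        apply hb1
        calc b = n⁻¹ * (n * b * n⁻¹) * n := by group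
          _ = 1 := by rw [h5]; group
      · exact Or.inl h5
      · exact Or.inr h5
    · rintro (rfl | rfl)
      · exact ⟨1, N.one_mem, by group⟩
      · exact ⟨r, hrN, hr⟩
  have h4 : ({b, b⁻¹} : Set H).ncard = 2 := by
    rw [Set.ncard_eq_two]
    refine ⟨b, b⁻¹, ?_, rfl⟩
    intro h5
    have h6 : b ^ 2 = 1 := by
      rw [pow_two]
      nth_rw 1 [h5]
      exact inv_mul_cancel b
    have := orderOf_dvd_of_pow_eq_one h6
    rw [ob] at this
    omega
  rw [h3, h4, hcardN] at h1
  omega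

/-- the number of elements of order three -/
theorem card_three_mul {b : H} (hb : b ∈ Kc t) (ob : orderOf b = 3) :
    Nat.card {b' : H // orderOf b' = 3} * (12 * Nat.card (Kc t)) = Nat.card H := by
  rw [← B.card_centralizer_three h hb ob, ← Cfsg.Agent.Lib.H5.card_conj_mul_card_centralizer b]
  congr 1
  apply Nat.card_congr
  exact (Equiv.subtypeEquivRight (fun j => ⟨fun hj => by
    rw [← Cfsg.Agent.Lib.H5.orderOf_eq_of_isConj hj]; exact ob,
    fun hj => B.isConj_of_order_three h hb ob hj⟩)).symm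

/-- the case `3 ∣ |K_t|`, given the counting identities and the three local estimates -/
theorem false_of_dvd (h3 : 3 ∣ Nat.card (Kc t)) (hE1 : Count3 H) (hE2 : Count2 H)
    (hQ1 : ∀ b ∈ Kc t, orderOf b = 3 →
      Nat.card {j : H // orderOf j = 2 ∧ j * b * j⁻¹ ∈ zpowers b} ≤ 3 + 6 * Nat.card (Kc t))
    (hQ2 : ∀ b ∈ Kc t, orderOf b = 3 →
      Nat.card {X : Subgroup H // b ∈ X ∧ Nonempty (X ≃* Equiv.Perm (Fin 4))} ≤
        Nat.card {X : Subgroup H // b ∈ X ∧ Nonempty (X ≃* alternatingGroup (Fin 4))})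
    (hQ3 : ∀ b ∈ Kc t, orderOf b = 3 → ∀ X₀ : Subgroup H, b ∈ X₀ →
      Nonempty (X₀ ≃* alternatingGroup (Fin 4)) →
      4 * Nat.card (Kc t) ≤
        Nat.card {X : Subgroup H // b ∈ X ∧ Nonempty (X ≃* alternatingGroup (Fin 4))})
    (hQ5 : ∀ b : H, orderOf b = 3 → ∀ L : Subgroup H, b ∈ L →
      Nonempty (L ≃* alternatingGroup (Fin 5)) →
      ∃ X : Subgroup H, b ∈ X ∧ Nonempty (X ≃* alternatingGroup (Fin 4))) : False := by
  haveI : Fact (Nat.Prime 3) := ⟨Nat.prime_three⟩
  obtain ⟨b', hb'⟩ := exists_prime_orderOf_dvd_card' (G := Kc t) 3 h3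
  set b : H := b'.1 with hbdef
  have hb : b ∈ Kc t := b'.2
  have ob : orderOf b = 3 := by rw [hbdef, Subgroup.orderOf_coe]; exact hb'
  have hp : (orderOf b).Prime := ob ▸ Nat.prime_three
  obtain ⟨hNtop, hCt, hCu, hCtu, hnorm⟩ := B.normalizer_facts h hb hp
  have hcardN := B.card_normalizer h hb hp
  set N := normalizer ((zpowers b : Subgroup H) : Set H) with hN
  set κ := Nat.card (Kc t) with hκ
  have hκpos : 0 < κ := Nat.card_pos
  have hθ := B.card_three_mul h hb ob
  have hι := h.card_inv_mul B.ht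
  have h1 := hE1 b ob
  have h2 := hE2 b ob
  have q1 := hQ1 b hb ob
  have q2 := hQ2 b hb ob
  -- `|H| ≥ 2 |N|`
  have hHN : 2 * Nat.card N ≤ Nat.card H := by
    have h4 := Subgroup.card_mul_index N
    have h5 : N.index ≠ 1 := fun h6 => hNtop (Subgroup.index_eq_one.mp h6)
    have h6 : N.index ≠ 0 := Subgroup.index_ne_zero_of_finite
    have h7 : 2 ≤ N.index := by omega
    calc 2 * Nat.card N = Nat.card N * 2 := by ring
      _ ≤ Nat.card N * N.index := Nat.mul_le_mul_left _ h7
      _ = Nat.card H := h4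
  rw [hcardN] at hHN
  set θ := Nat.card {b' : H // orderOf b' = 3} with hθdef
  set ι := Nat.card {j : H // orderOf j = 2} with hιdef
  set i := Nat.card {j : H // orderOf j = 2 ∧ j * b * j⁻¹ ∈ zpowers b} with hidef
  set k := Nat.card {X : Subgroup H // b ∈ X ∧ Nonempty (X ≃* alternatingGroup (Fin 4))} with hkdef
  set σ := Nat.card {X : Subgroup H // b ∈ X ∧ Nonempty (X ≃* Equiv.Perm (Fin 4))} with hσdef
  set n₅ := Nat.card {X : Subgroup H // b ∈ X ∧ Nonempty (X ≃* alternatingGroup (Fin 5))}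
    with hn₅def
  -- `3 θ = 2 ι`
  have e1 : θ * (12 * κ) = ι * (κ * (2 * 4)) := by rw [hθ, hι]
  have e2 : 3 * θ = 2 * ι := by
    have : (3 * θ) * (4 * κ) = (2 * ι) * (4 * κ) := by nlinarith
    exact Nat.eq_of_mul_eq_mul_right (by omega) this
  -- `θ ≥ 4`
  have e3 : 4 ≤ θ := by
    have : 4 * (12 * κ) ≤ θ * (12 * κ) := by rw [hθ]; omega
    exact Nat.le_of_mul_le_mul_right this (by omega)
  -- there is an `A₄` through `b`
  have hk1 : 1 ≤ k := by
    by_contra hk0
    have hk0' : k = 0 := by omega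
    have hn5 : 1 ≤ n₅ := by omega
    haveI : Nonempty {X : Subgroup H // b ∈ X ∧ Nonempty (X ≃* alternatingGroup (Fin 5))} := by
      by_contra hemp
      rw [not_nonempty_iff] at hemp
      have : n₅ = 0 := Nat.card_of_isEmpty
      omega
    obtain ⟨⟨L, hbL, hL⟩⟩ := this
    obtain ⟨X, hbX, hX⟩ := hQ5 b ob L hbL hL
    have : 0 < k := Nat.card_pos_iff.mpr ⟨⟨⟨X, hbX, hX⟩⟩, inferInstance⟩
    omega
  haveI : Nonempty {X : Subgroup H // b ∈ X ∧ Nonempty (X ≃* alternatingGroup (Fin 4))} := by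
    by_contra hemp
    rw [not_nonempty_iff] at hemp
    have : k = 0 := Nat.card_of_isEmpty
    omega
  obtain ⟨⟨X₀, hbX₀, hX₀⟩⟩ := this
  have q3 := hQ3 b hb ob X₀ hbX₀ hX₀
  omega

end BadFour

end Cfsg.Agent.Lib.H25.Zas
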