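import Mathlib
import Cfsg.Agent.Lib.H25.ZasE4f

/-!
# Zassenhaus, H-level, `n = 4`, case `3 ∣ |K_t|`: subgroups `A₄` through an element of order three
of `K_t`
-/

set_option autoImplicit false
set_option linter.style.haveILetI false

namespace Cfsg.Agent.Lib.H25.Zas

open Subgroup Equiv

set_option maxRecDepth 100000 in
theorem a4_sq_mul : ∀ σ τ : Perm (Fin 4), Perm.sign σ = 1 → Perm.sign τ = 1 → σ * σ = 1 →
    τ * τ = 1 → (σ * τ) * (σ * τ) = 1 := by decide

set_option maxRecDepth 100000 in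
theorem a4_card_sq :
    (Finset.univ.filter (fun σ : Perm (Fin 4) => Perm.sign σ = 1 ∧ σ * σ = 1)).card = 4 := by
  decide

set_option maxRecDepth 100000 in
theorem a4_three_inv : ∀ a σ : Perm (Fin 4), Perm.sign a = 1 → Perm.sign σ = 1 → a * a * a = 1 →
    a ≠ 1 → σ * σ = 1 → σ ≠ 1 → a * σ ≠ σ * a := by decide

section A4

variable {H : Type*} [Group H] (X : Subgroup H) (e : X ≃* alternatingGroup (Fin 4))

/-- the permutation attached to an element of `X` -/
def a4perm (x : H) (hx : x ∈ X) : Perm (Fin 4) := (e ⟨x, hx⟩ : alternatingGroup (Fin 4)).1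

theorem a4perm_sign (x : H) (hx : x ∈ X) : Perm.sign (a4perm X e x hx) = 1 :=
  Perm.mem_alternatingGroup.mp (e ⟨x, hx⟩).2

theorem a4perm_mul (x y : H) (hx : x ∈ X) (hy : y ∈ X) :
    a4perm X e (x * y) (X.mul_mem hx hy) = a4perm X e x hx * a4perm X e y hy := by
  unfold a4perm
  have : (⟨x * y, X.mul_mem hx hy⟩ : X) = ⟨x, hx⟩ * ⟨y, hy⟩ := rfl
  rw [this, map_mul]
  rfl

theorem a4perm_eq_one_iff (x : H) (hx : x ∈ X) : a4perm X e x hx = 1 ↔ x = 1 := by
  unfold a4perm
  constructor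
  · intro h1
    have h2 : e ⟨x, hx⟩ = 1 := Subtype.ext h1
    have h3 := (map_eq_one_iff e e.injective).mp h2
    exact congrArg Subtype.val h3
  · rintro rfl
    have : (⟨1, hx⟩ : X) = 1 := rfl
    rw [this, map_one]
    rfl

/-- the set of elements of `X ≅ A₄` of order at most two, as a subgroup -/
def sqOne : Subgroup H where
  carrier := {x | x ∈ X ∧ x * x = 1}
  mul_mem' := by
    rintro x y ⟨hx, hx2⟩ ⟨hy, hy2⟩
    refine ⟨X.mul_mem hx hy, ?_⟩
    have h1 := a4_sq_mul (a4perm X e x hx) (a4perm X e y hy) (a4perm_sign X e x hx)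
      (a4perm_sign X e y hy)
      (by rw [← a4perm_mul X e x x hx hx, a4perm_eq_one_iff]; exact hx2)
      (by rw [← a4perm_mul X e y y hy hy, a4perm_eq_one_iff]; exact hy2)
    rw [← a4perm_mul X e x y hx hy,
      ← a4perm_mul X e (x * y) (x * y) (X.mul_mem hx hy) (X.mul_mem hx hy),
      a4perm_eq_one_iff] at h1
    exact h1
  one_mem' := ⟨X.one_mem, by simp⟩
  inv_mem' := by
    rintro x ⟨hx, hx2⟩
    refine ⟨X.inv_mem hx, ?_⟩
    rw [← mul_inv_rev, hx2, inv_one]

theorem mem_sqOne {x : H} : x ∈ sqOne X e ↔ x ∈ X ∧ x * x = 1 := Iff.rfl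

theorem sqOne_le : sqOne X e ≤ X := fun _ hx => hx.1

theorem card_sqOne : Nat.card (sqOne X e) = 4 := by
  classical
  rw [← a4_card_sq, ← Fintype.card_subtype, ← Nat.card_eq_fintype_card]
  apply Nat.card_congr
  refine Equiv.ofBijective (fun x => ⟨a4perm X e x.1 x.2.1, a4perm_sign X e x.1 x.2.1, by
    rw [← a4perm_mul X e x.1 x.1 x.2.1 x.2.1, a4perm_eq_one_iff]; exact x.2.2⟩) ⟨?_, ?_⟩
  · intro x y hxy
    have h1 : a4perm X e x.1 x.2.1 = a4perm X e y.1 y.2.1 :=
      congrArg (fun z : {σ : Perm (Fin 4) // Perm.sign σ = 1 ∧ σ * σ = 1} => (z : Perm (Fin 4))) hxy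
    unfold a4perm at h1
    have h2 : e ⟨x.1, x.2.1⟩ = e ⟨y.1, y.2.1⟩ := Subtype.ext h1
    have h3 := e.injective h2
    have h4 : x.1 = y.1 := congrArg (fun z : X => (z : H)) h3
    exact Subtype.ext h4
  · rintro ⟨π, hπs, hπ2⟩
    set z : X := e.symm ⟨π, Perm.mem_alternatingGroup.mpr hπs⟩ with hz
    have hzπ : a4perm X e z.1 z.2 = π := by
      unfold a4perm
      have : (⟨z.1, z.2⟩ : X) = z := rfl
      rw [this, hz, MulEquiv.apply_symm_apply]
    have hz2 : z.1 * z.1 = 1 := by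
      rw [← a4perm_eq_one_iff X e (z.1 * z.1) (X.mul_mem z.2 z.2), a4perm_mul X e z.1 z.1 z.2 z.2,
        hzπ]
      exact hπ2
    exact ⟨⟨z.1, z.2, hz2⟩, Subtype.ext hzπ⟩

theorem isKleinFour_sqOne : IsKleinFour (sqOne X e) := by
  apply Cfsg.Agent.Lib.L0.Dih.isKleinFour_of_card_of_mul_self (card_sqOne X e)
  intro x
  exact Subtype.ext x.2.2

/-- an element of order three of `X` commutes with no involution of `X` -/
theorem not_commute_of_order_three {b : H} (hb : b ∈ X) (ob : orderOf b = 3) {v : H}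
    (hv : v ∈ sqOne X e) (hv1 : v ≠ 1) : b * v ≠ v * b := by
  intro hcomm
  have hb3 : b * b * b = 1 := by
    have := pow_orderOf_eq_one b
    rwa [ob, pow_succ, pow_two] at this
  have hb1 : b ≠ 1 := by
    intro h1; rw [h1, orderOf_one] at ob; omega
  have h1 := a4_three_inv (a4perm X e b hb) (a4perm X e v hv.1) (a4perm_sign X e b hb)
    (a4perm_sign X e v hv.1)
    (by rw [← a4perm_mul X e b b hb hb, ← a4perm_mul X e (b * b) b (X.mul_mem hb hb) hb,
      a4perm_eq_one_iff]; exact hb3)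
    (by rw [Ne, a4perm_eq_one_iff]; exact hb1)
    (by rw [← a4perm_mul X e v v hv.1 hv.1, a4perm_eq_one_iff]; exact hv.2)
    (by rw [Ne, a4perm_eq_one_iff]; exact hv1)
  apply h1
  rw [← a4perm_mul X e b v hb hv.1, ← a4perm_mul X e v b hv.1 hb]
  congr 1

/-- whatever normalizes `X` normalizes `sqOne X e` -/
theorem conj_mem_sqOne {g : H} (hg : ∀ x ∈ X, g * x * g⁻¹ ∈ X) {v : H} (hv : v ∈ sqOne X e) :
    g * v * g⁻¹ ∈ sqOne X e := by
  refine ⟨hg v hv.1, ?_⟩
  calc g * v * g⁻¹ * (g * v * g⁻¹) = g * (v * v) * g⁻¹ := by group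
    _ = 1 := by rw [hv.2]; group

end A4

namespace BadFour

variable {H : Type*} [Group H] [Finite H] {t u : H} (B : BadFour t u) (h : HCtx H 4)

include B h

/-- Step B: in an `A₄` through `b ∈ K_t` of order three, `K_{t'}` has no fixed points under
`b t' b⁻¹`, for every involution `t'` of the `A₄`. -/
theorem no_fixed_of_A4 {b : H} (hb : b ∈ Kc t) (ob : orderOf b = 3) (X : Subgroup H)
    (e : X ≃* alternatingGroup (Fin 4)) (hbX : b ∈ X) {t' : H} (ht' : t' ∈ sqOne X e)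
    (ht'1 : t' ≠ 1) :
    ∀ y ∈ Kc t', (b * t' * b⁻¹) * y = y * (b * t' * b⁻¹) → y = 1 := by
  intro y hy hyu
  by_contra hy1
  have hbn : ∀ x ∈ X, b * x * b⁻¹ ∈ X := fun x hx => X.mul_mem (X.mul_mem hbX hx) (X.inv_mem hbX)
  set u' := b * t' * b⁻¹ with hu'
  have hu'W : u' ∈ sqOne X e := conj_mem_sqOne X e hbn ht'
  have ot' : orderOf t' = 2 := orderOf_eq_prime (by rw [pow_two]; exact ht'.2) ht'1
  have ou' : orderOf u' = 2 := by
    rw [hu', Cfsg.Agent.Lib.H4.DihBSW.orderOf_conj']; exact ot'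
  have hne : t' ≠ u' := by
    intro h1
    apply not_commute_of_order_three X e hbX ob ht' ht'1
    calc b * t' = (b * t' * b⁻¹) * b := by group
      _ = t' * b := by rw [← hu', ← h1]
  have hcomm : t' * u' = u' * t' := by
    have h1 := ((sqOne X e).mul_mem ht' hu'W).2
    have h2 : (t' * u')⁻¹ = t' * u' := inv_eq_of_mul_eq_one_left h1
    have h3 : t'⁻¹ = t' := inv_eq_of_mul_eq_one_left ht'.2
    have h4 : u'⁻¹ = u' := inv_eq_of_mul_eq_one_left hu'W.2
    rw [mul_inv_rev, h3, h4] at h2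
    exact h2.symm
  have B' : BadFour t' u' := h.badFour_of ot' ou' hcomm hne hy hy1 hyu
  have hKeq : Kc u' = Kc t' := B'.Kc_eq h
  -- `b` normalizes `K' = Kc t'`
  have hbK : ∀ x ∈ Kc t', b * x * b⁻¹ ∈ Kc t' := by
    intro x hx
    have := h.conj_mem_Kc ot' b hx
    rw [← hu', hKeq] at this
    exact this
  have hbnorm : b ∈ normalizer ((Kc t' : Subgroup H) : Set H) :=
    Cfsg.Agent.Lib.L0.mem_normalizer_of_forall_conj_mem _ _ hbK
  have hnb : NormBy (zpowers b) (Kc t') :=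
    NormBy.of_le_normalizer (zpowers_le.mpr hbnorm)
  -- an element of order three of `K'`
  obtain ⟨g, hg⟩ := isConj_iff.mp (h.isConj_inv t t' B.ht ot')
  have hb'' := h.conj_mem_Kc B.ht g hb
  rw [hg] at hb''
  have ob'' : orderOf (g * b * g⁻¹) = 3 := by
    rw [Cfsg.Agent.Lib.H4.DihBSW.orderOf_conj']; exact ob
  -- `b ∉ K'`
  have hbnK : b ∉ Kc t' := by
    intro hbK'
    have := ((h.mem_Kc_iff ot').mp hbK').1
    exact not_commute_of_order_three X e hbX ob ht' ht'1 this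
  have hinf : Kc t' ⊓ zpowers b = ⊥ := by
    rw [eq_bot_iff]
    intro x ⟨hxK, hxb⟩
    rw [mem_bot]
    rcases eq_of_mem_zpowers_of_order_three ob hxb with h1 | h1 | h1
    · exact h1
    · exact absurd (h1 ▸ hxK) hbnK
    · exfalso
      apply hbnK
      have : b = x⁻¹ := by rw [h1, inv_inv]
      rw [this]
      exact (Kc t').inv_mem hxK
  have hcardR := card_sup_of_normBy (Kc t') (zpowers b) hnb hinf
  rw [Nat.card_zpowers, ob] at hcardR
  set R : Subgroup H := Kc t' ⊔ zpowers b with hR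
  have hRodd : Odd (Nat.card R) := by
    rw [hcardR]
    exact (h.odd_card_Kc ot').mul (by decide)
  have hbR : b ∈ R := mem_sup_right (mem_zpowers b)
  have hb''R : g * b * g⁻¹ ∈ R := mem_sup_left hb''
  have hz := h.oddFPF.zpowers_eq_of_mem R hRodd Nat.prime_three hbR hb''R ob ob''
  apply hbnK
  have : b ∈ zpowers (g * b * g⁻¹) := hz ▸ mem_zpowers b
  exact (zpowers_le.mpr hb'') this

/-- Step C: the four-group of an `A₄` through `b` is self-centralizing -/
theorem centralizer_sqOne_le {b : H} (hb : b ∈ Kc t) (ob : orderOf b = 3) (X : Subgroup H)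
    (e : X ≃* alternatingGroup (Fin 4)) (hbX : b ∈ X) (c : H)
    (hc : ∀ v ∈ sqOne X e, c * v = v * c) : c ∈ sqOne X e := by
  have hV := isKleinFour_sqOne X e
  -- a nontrivial element of the four-group
  obtain ⟨t', ht', ht'1⟩ : ∃ t' ∈ sqOne X e, t' ≠ 1 := by
    by_contra hcon
    push Not at hcon
    have h1 : sqOne X e = ⊥ := by
      rw [eq_bot_iff]
      intro x hx
      exact mem_bot.mpr (hcon x hx)
    have h2 := card_sqOne X e
    rw [h1, Subgroup.card_bot] at h2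
    omega
  have hbn : ∀ x ∈ X, b * x * b⁻¹ ∈ X := fun x hx => X.mul_mem (X.mul_mem hbX hx) (X.inv_mem hbX)
  have hu'W : b * t' * b⁻¹ ∈ sqOne X e := conj_mem_sqOne X e hbn ht'
  have ot' : orderOf t' = 2 := orderOf_eq_prime (by rw [pow_two]; exact ht'.2) ht'1
  obtain ⟨a, m, hm, hcm⟩ := Nat.exists_eq_two_pow_mul_odd (orderOf_pos c).ne'
  set z := c ^ (2 ^ a) with hz
  have hzm : z ^ m = 1 := by
    rw [hz, ← pow_mul, ← hcm]
    exact pow_orderOf_eq_one c
  have hzodd : Odd (orderOf z) := Odd.of_dvd_nat hm (orderOf_dvd_of_pow_eq_one hzm)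
  have hzt : z * t' = t' * z := by
    have : Commute c t' := hc t' ht'
    exact this.pow_left _
  have hzu : z * (b * t' * b⁻¹) = (b * t' * b⁻¹) * z := by
    have : Commute c (b * t' * b⁻¹) := hc _ hu'W
    exact this.pow_left _
  have hzK : z ∈ Kc t' := (h.mem_Kc_iff ot').mpr ⟨hzt, hzodd⟩
  have hz1 := B.no_fixed_of_A4 h hb ob X e hbX ht' ht'1 z hzK hzu.symm
  have hdvd : orderOf c ∣ 2 ^ a := orderOf_dvd_of_pow_eq_one hz1
  obtain ⟨k, _, hk⟩ := (Nat.dvd_prime_pow Nat.prime_two).mp hdvd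
  exact h.dih.mem_klein_of_commute (sqOne X e) hV ⟨k, hk⟩ hc

end BadFour

end Cfsg.Agent.Lib.H25.Zas
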