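/-
Symplectic Phase 2 (architect helper9), task **SP2-E2** (helper25), part a: a linear equivalence
`(Fin t → Fin k → F) ≃ (ι → F)` turns the coordinate blocks into an `IsMDecomposition`.
-/
import Cfsg.Prelude.Def_GeometricClasses

set_option autoImplicit false

namespace Cfsg.Agent.Lib.H25.AschSP2

open Cfsg Cfsg.Geo
open scoped MatrixGroups Matrix Kronecker

variable {F : Type*} [Field F] {ι : Type} [Fintype ι] [DecidableEq ι]

/-- The coordinate blocks of a product are independent. -/
theorem iSupIndep_range_single (t k : ℕ) :
    iSupIndep fun j : Fin t => LinearMap.range (LinearMap.single F (fun _ : Fin t => Fin k → F) j) := by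
  rw [iSupIndep_def]
  intro i
  have h := LinearMap.disjoint_single_single F (fun _ : Fin t => Fin k → F) ({i} : Set (Fin t))
    {j | j ≠ i} (by
      rw [Set.disjoint_left]
      intro a ha hb
      exact hb ha)
  rw [iSup_singleton] at h
  exact h

/-- The block decomposition attached to a linear equivalence. -/
theorem isMDecomposition_of_equiv {t k : ℕ} (ht : 2 ≤ t) (hk : 0 < k)
    (Θ : (Fin t → Fin k → F) ≃ₗ[F] (ι → F)) :
    IsMDecomposition k (fun j : Fin t => LinearMap.range
      ((Θ : (Fin t → Fin k → F) →ₗ[F] (ι → F)).comp (LinearMap.single F (fun _ : Fin t => Fin k → F) j))) := by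
  have hrange : ∀ j : Fin t, LinearMap.range
      ((Θ : (Fin t → Fin k → F) →ₗ[F] (ι → F)).comp (LinearMap.single F (fun _ : Fin t => Fin k → F) j)) =
      Submodule.orderIsoMapComap Θ (LinearMap.range (LinearMap.single F (fun _ : Fin t => Fin k → F) j)) := by
    intro j
    rw [LinearMap.range_comp]
    rfl
  refine ⟨ht, hk, fun j => ?_, ?_, ?_⟩
  · have hinj : Function.Injective
        ((Θ : (Fin t → Fin k → F) →ₗ[F] (ι → F)).comp (LinearMap.single F (fun _ : Fin t => Fin k → F) j)) := by
      intro x y hxy
      have h1 : Θ (Pi.single j x) = Θ (Pi.single j y) := hxy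
      exact Pi.single_injective j (Θ.injective h1)
    rw [LinearMap.finrank_range_of_inj hinj, Module.finrank_fin_fun]
  · have h := (iSupIndep_range_single (F := F) t k).map_orderIso (Submodule.orderIsoMapComap Θ)
    have heq : (fun j : Fin t => LinearMap.range
        ((Θ : (Fin t → Fin k → F) →ₗ[F] (ι → F)).comp (LinearMap.single F (fun _ : Fin t => Fin k → F) j))) =
        (Submodule.orderIsoMapComap Θ) ∘
          (fun j : Fin t => LinearMap.range (LinearMap.single F (fun _ : Fin t => Fin k → F) j)) := by
      funext j
      exact hrange j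
    rw [heq]
    exact h
  · have h1 : (⨆ j : Fin t, LinearMap.range
        ((Θ : (Fin t → Fin k → F) →ₗ[F] (ι → F)).comp (LinearMap.single F (fun _ : Fin t => Fin k → F) j))) =
        Submodule.map (Θ : (Fin t → Fin k → F) →ₗ[F] (ι → F))
          (⨆ j : Fin t, LinearMap.range (LinearMap.single F (fun _ : Fin t => Fin k → F) j)) := by
      rw [Submodule.map_iSup]
      congr 1
      funext j
      rw [LinearMap.range_comp]
    rw [h1, LinearMap.iSup_range_single, Submodule.map_top, LinearEquiv.range]

end Cfsg.Agent.Lib.H25.AschSP2
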