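/-
Symplectic Phase 2 (architect helper9), task **SP2-E2** (helper25), part b: tensor coordinates, pure tensors, members of
`tensorProductSubgroup`.
-/
import Cfsg.Agent.Lib.H25.AschSP2E2a
import Cfsg.Agent.Lib.H11.AschST0a

set_option autoImplicit false

namespace Cfsg.Agent.Lib.H25.AschSP2

open Cfsg Cfsg.Geo Cfsg.Agent.Lib.H11.AschS
open scoped MatrixGroups Matrix Kronecker

variable {F : Type*} [Field F] {ι : Type} [Fintype ι] [DecidableEq ι] {n₁ n₂ : ℕ}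

/-- The coordinate map `y ↦ P (y ∘ e)`. -/
def PhiL (e : ι ≃ Fin n₁ × Fin n₂) (P : GL ι F) : (Fin n₁ × Fin n₂ → F) →ₗ[F] (ι → F) :=
  (Matrix.toLin' (P : Matrix ι ι F)).comp (LinearMap.funLeft F F e)

theorem PhiL_apply (e : ι ≃ Fin n₁ × Fin n₂) (P : GL ι F) (y : Fin n₁ × Fin n₂ → F) :
    PhiL e P y = (P : Matrix ι ι F) *ᵥ (y ∘ e) := rfl

theorem PhiL_injective (e : ι ≃ Fin n₁ × Fin n₂) (P : GL ι F) : Function.Injective (PhiL e P) := by
  intro y y' h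
  rw [PhiL_apply, PhiL_apply] at h
  have h1 : y ∘ e = y' ∘ e := by
    have := congrArg (fun v => ((P⁻¹ : GL ι F) : Matrix ι ι F) *ᵥ v) h
    simpa [Matrix.mulVec_mulVec, ← Units.val_mul] using this
  funext p
  have := congrFun h1 (e.symm p)
  simpa using this

/-- Pure tensors. -/
def pt (x : Fin n₁ → F) (w : Fin n₂ → F) : Fin n₁ × Fin n₂ → F := fun p => x p.1 * w p.2

theorem pt_apply (x : Fin n₁ → F) (w : Fin n₂ → F) (p : Fin n₁ × Fin n₂) : pt x w p = x p.1 * w p.2 := rfl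

theorem pt_smul_left (c : F) (x : Fin n₁ → F) (w : Fin n₂ → F) : pt (c • x) w = c • pt x w := by
  funext p
  simp [pt, mul_assoc]

theorem pt_smul_right (c : F) (x : Fin n₁ → F) (w : Fin n₂ → F) : pt x (c • w) = c • pt x w := by
  funext p
  simp only [pt, Pi.smul_apply, smul_eq_mul]
  ring

theorem kron_mulVec_pt (a : Matrix (Fin n₁) (Fin n₁) F) (b : Matrix (Fin n₂) (Fin n₂) F)
    (x : Fin n₁ → F) (w : Fin n₂ → F) : (a ⊗ₖ b) *ᵥ pt x w = pt (a *ᵥ x) (b *ᵥ w) := by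
  funext p
  simp only [Matrix.mulVec, dotProduct, pt, Matrix.kroneckerMap_apply, Fintype.sum_prod_type]
  rw [Finset.sum_mul_sum]
  refine Finset.sum_congr rfl fun i _ => Finset.sum_congr rfl fun j _ => ?_
  ring

theorem pt_dotProduct_pt (x u : Fin n₁ → F) (w v : Fin n₂ → F) :
    pt x w ⬝ᵥ pt u v = (x ⬝ᵥ u) * (w ⬝ᵥ v) := by
  simp only [dotProduct, pt, Fintype.sum_prod_type]
  rw [Finset.sum_mul_sum]
  refine Finset.sum_congr rfl fun i _ => Finset.sum_congr rfl fun j _ => ?_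
  ring

theorem formOfGram_eq_dotProduct {κ : Type} [Fintype κ] (G : Matrix κ κ F) (X Y : κ → F) :
    formOfGram id G X Y = X ⬝ᵥ (G *ᵥ Y) := by
  simp only [formOfGram, dotProduct, Matrix.mulVec, Finset.mul_sum, id, mul_assoc]

theorem formOfGram_kron_pt (G₁ : Matrix (Fin n₁) (Fin n₁) F) (G₂ : Matrix (Fin n₂) (Fin n₂) F)
    (x x' : Fin n₁ → F) (w w' : Fin n₂ → F) :
    formOfGram id (G₁ ⊗ₖ G₂) (pt x w) (pt x' w') = (x ⬝ᵥ (G₁ *ᵥ x')) * (w ⬝ᵥ (G₂ *ᵥ w')) := by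
  rw [formOfGram_eq_dotProduct, kron_mulVec_pt, pt_dotProduct_pt]

/-- Members of the tensor product subgroup act as Kronecker products in the coordinates `PhiL`. -/
theorem exists_kron_of_mem_tensorProductSubgroup (e : ι ≃ Fin n₁ × Fin n₂) (P : GL ι F) (g : GL ι F)
    (hg : g ∈ tensorProductSubgroup n₁ n₂ e P) :
    ∃ (a : GL (Fin n₁) F) (b : GL (Fin n₂) F), ∀ y : Fin n₁ × Fin n₂ → F,
      (g : Matrix ι ι F) *ᵥ PhiL e P y =
        PhiL e P (((a : Matrix (Fin n₁) (Fin n₁) F) ⊗ₖ (b : Matrix (Fin n₂) (Fin n₂) F)) *ᵥ y) := by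
  obtain ⟨k', ⟨k, ⟨a, b, hk⟩, rfl⟩, hk'⟩ := hg
  refine ⟨a, b, fun y => ?_⟩
  have hg' : g = P * glReindex e.symm k * P⁻¹ := hk'.symm
  rw [hg', PhiL_apply, PhiL_apply, Matrix.mulVec_mulVec, ← Units.val_mul, inv_mul_cancel_right, Units.val_mul,
    ← Matrix.mulVec_mulVec]
  congr 1
  have := glReindex_mulVec_symm e.symm k y
  rw [Equiv.symm_symm] at this
  rw [this, hk]

end Cfsg.Agent.Lib.H25.AschSP2
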