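/-
Symplectic Phase 2 (architect helper9), task **SP2-E2** (helper25), part c: the decomposition of a tensor product
`F^n₁ ⊗ F^n₂` attached to a frame (the columns of `P₂`) of the second factor.
-/
import Cfsg.Agent.Lib.H25.AschSP2E2b

set_option autoImplicit false

namespace Cfsg.Agent.Lib.H25.AschSP2

open Cfsg Cfsg.Geo Cfsg.Agent.Lib.H11.AschS
open scoped MatrixGroups Matrix Kronecker

variable {F : Type*} [Field F] {ι : Type} [Fintype ι] [DecidableEq ι] {n₁ n₂ : ℕ}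

/-- The columns of the frame. -/
def wcol (P₂ : Matrix (Fin n₂) (Fin n₂) F) (j : Fin n₂) : Fin n₂ → F := fun b => P₂ b j

/-- `X ↦ ∑ j, X j ⊗ w_j`. -/
def Kmap (n₁ : ℕ) (P₂ : Matrix (Fin n₂) (Fin n₂) F) :
    (Fin n₂ → Fin n₁ → F) →ₗ[F] (Fin n₁ × Fin n₂ → F) where
  toFun X p := ∑ j, X j p.1 * P₂ p.2 j
  map_add' X Y := by
    funext p
    simp only [Pi.add_apply, add_mul, Finset.sum_add_distrib]
  map_smul' c X := by
    funext p
    simp only [Pi.smul_apply, smul_eq_mul, RingHom.id_apply, Finset.mul_sum, mul_assoc]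

theorem Kmap_apply (P₂ : Matrix (Fin n₂) (Fin n₂) F) (X : Fin n₂ → Fin n₁ → F) (p : Fin n₁ × Fin n₂) :
    Kmap n₁ P₂ X p = ∑ j, X j p.1 * P₂ p.2 j := rfl

theorem Kmap_single (P₂ : Matrix (Fin n₂) (Fin n₂) F) (j : Fin n₂) (x : Fin n₁ → F) :
    Kmap n₁ P₂ (Pi.single j x) = pt x (wcol P₂ j) := by
  classical
  funext p
  rw [Kmap_apply, Finset.sum_eq_single j]
  · rw [Pi.single_eq_same]
    rfl
  · intro j' _ hj'
    rw [Pi.single_eq_of_ne hj', Pi.zero_apply, zero_mul]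
  · intro h
    exact absurd (Finset.mem_univ j) h

theorem Kmap_injective (P₂ : GL (Fin n₂) F) :
    Function.Injective (Kmap n₁ (P₂ : Matrix (Fin n₂) (Fin n₂) F)) := by
  rw [← LinearMap.ker_eq_bot, LinearMap.ker_eq_bot']
  intro X hX
  funext j a
  have h1 : (P₂ : Matrix (Fin n₂) (Fin n₂) F) *ᵥ (fun j => X j a) = 0 := by
    funext b
    have h0 : Kmap n₁ (P₂ : Matrix (Fin n₂) (Fin n₂) F) X (a, b) = 0 := by rw [hX]; rfl
    rw [Kmap_apply] at h0
    show ∑ j, (P₂ : Matrix (Fin n₂) (Fin n₂) F) b j * X j a = 0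
    rw [← h0]
    refine Finset.sum_congr rfl fun j _ => ?_
    rw [mul_comm]
  have h2 : (fun j => X j a) = 0 := by
    have := congrArg (fun v => ((P₂⁻¹ : GL (Fin n₂) F) : Matrix (Fin n₂) (Fin n₂) F) *ᵥ v) h1
    simpa [Matrix.mulVec_mulVec, ← Units.val_mul] using this
  exact congrFun h2 j

/-- The `j`-th block map `x ↦ P ((x ⊗ w_j) ∘ e)`. -/
def frameL (e : ι ≃ Fin n₁ × Fin n₂) (P : GL ι F) (P₂ : Matrix (Fin n₂) (Fin n₂) F) (j : Fin n₂) :
    (Fin n₁ → F) →ₗ[F] (ι → F) :=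
  ((PhiL e P).comp (Kmap n₁ P₂)).comp (LinearMap.single F (fun _ : Fin n₂ => Fin n₁ → F) j)

theorem frameL_apply (e : ι ≃ Fin n₁ × Fin n₂) (P : GL ι F) (P₂ : Matrix (Fin n₂) (Fin n₂) F) (j : Fin n₂)
    (x : Fin n₁ → F) : frameL e P P₂ j x = PhiL e P (pt x (wcol P₂ j)) := by
  show PhiL e P (Kmap n₁ P₂ (Pi.single j x)) = _
  rw [Kmap_single]

/-- The frame decomposition. -/
theorem isMDecomposition_frame (e : ι ≃ Fin n₁ × Fin n₂) (P : GL ι F) (P₂ : GL (Fin n₂) F) (h2 : 2 ≤ n₂)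
    (h1 : 0 < n₁) :
    IsMDecomposition n₁ (fun j => LinearMap.range (frameL e P (P₂ : Matrix (Fin n₂) (Fin n₂) F) j)) := by
  set ΘL : (Fin n₂ → Fin n₁ → F) →ₗ[F] (ι → F) :=
    (PhiL e P).comp (Kmap n₁ (P₂ : Matrix (Fin n₂) (Fin n₂) F)) with hΘL
  have hinj : Function.Injective ΘL := (PhiL_injective e P).comp (Kmap_injective P₂)
  have hfr : Module.finrank F (Fin n₂ → Fin n₁ → F) = Module.finrank F (ι → F) := by
    have h3 : Module.finrank F (ι → F) = n₁ * n₂ := by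
      rw [Module.finrank_fintype_fun_eq_card, Fintype.card_congr e, Fintype.card_prod, Fintype.card_fin,
        Fintype.card_fin]
    have h4 : Module.finrank F (Fin n₂ → Fin n₁ → F) = n₂ * n₁ := by
      rw [Module.finrank_pi_fintype]
      simp only [Module.finrank_fin_fun, Finset.sum_const, Finset.card_univ, Fintype.card_fin, smul_eq_mul]
    rw [h3, h4, mul_comm]
  have hsurj : Function.Surjective ΘL :=
    (LinearMap.injective_iff_surjective_of_finrank_eq_finrank hfr).1 hinj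
  set Θ : (Fin n₂ → Fin n₁ → F) ≃ₗ[F] (ι → F) := LinearEquiv.ofBijective ΘL ⟨hinj, hsurj⟩ with hΘ
  exact isMDecomposition_of_equiv h2 h1 Θ

end Cfsg.Agent.Lib.H25.AschSP2
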