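/-
S5662 (symplectic Aschbacher) tool **SD** (helper25), part a: the Frobenius of a finite field over a subfield.
-/
import Mathlib

set_option autoImplicit false

namespace Cfsg.Agent.Lib.H25.AschS

variable {F : Type*} [Field F] [Fintype F]

/-- The roots of `X ^ |F₀| - X` are the members of `F₀`. -/
theorem mem_of_pow_card_eq (F₀ : Subfield F) (x : F) (hx : x ^ Nat.card F₀ = x) : x ∈ F₀ := by
  classical
  have : Fintype F₀ := Fintype.ofFinite F₀
  set q := Nat.card F₀ with hq
  have hq' : Fintype.card F₀ = q := by rw [hq, Nat.card_eq_fintype_card]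
  have hq1 : 1 < q := by
    rw [← hq']
    exact Fintype.one_lt_card
  set p : Polynomial F := Polynomial.X ^ q - Polynomial.X with hp
  have hp0 : p ≠ 0 := FiniteField.X_pow_card_sub_X_ne_zero F hq1
  have hdeg : p.natDegree = q := FiniteField.X_pow_card_sub_X_natDegree_eq F hq1
  set A : Finset F := Finset.univ.filter (· ∈ F₀) with hA
  have hAcard : A.card = q := by
    rw [hA, ← hq', Fintype.card_subtype]
  have hsub : A ⊆ p.roots.toFinset := by
    intro y hy
    rw [hA, Finset.mem_filter] at hy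
    rw [Multiset.mem_toFinset, Polynomial.mem_roots hp0, Polynomial.IsRoot, hp]
    have := FiniteField.pow_card (⟨y, hy.2⟩ : F₀)
    rw [hq'] at this
    have h2 : y ^ q = y := congrArg Subtype.val this
    simp [h2]
  have hle : p.roots.toFinset.card ≤ A.card := by
    rw [hAcard, ← hdeg]
    exact (Multiset.toFinset_card_le _).trans (Polynomial.card_roots' p)
  have heq := Finset.eq_of_subset_of_card_le hsub hle
  have hxr : x ∈ p.roots.toFinset := by
    rw [Multiset.mem_toFinset, Polynomial.mem_roots hp0, Polynomial.IsRoot, hp]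
    simp [hx]
  rw [← heq, hA, Finset.mem_filter] at hxr
  exact hxr.2

/-- The Frobenius `x ↦ x ^ |F₀|` of `F` over the subfield `F₀`, with its degree `s = [F : F₀]`. -/
theorem exists_frobenius (F₀ : Subfield F) :
    ∃ (φ : F →+* F) (s : ℕ), 0 < s ∧ (∀ x, φ x = x ^ Nat.card F₀) ∧ (∀ x, (φ^[s]) x = x) ∧
      (∀ x, φ x = x → x ∈ F₀) ∧ (∀ x ∈ F₀, φ x = x) ∧
      Function.Injective (fun i : Fin s => ((φ ^ i.1 : F →+* F) : F →* F)) ∧
      (∀ c ∈ F₀, c ≠ 0 → ∃ l : F, l ≠ 0 ∧ l ^ (∑ i ∈ Finset.range s, Nat.card F₀ ^ i) = c) := by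
  classical
  have : Fintype F₀ := Fintype.ofFinite F₀
  have hq : Fintype.card F₀ = Nat.card F₀ := Nat.card_eq_fintype_card.symm
  set ψ : F →ₐ[F₀] F := FiniteField.frobeniusAlgHom F₀ F with hψ
  have hψx : ∀ x, ψ x = x ^ Nat.card F₀ := by
    intro x
    rw [hψ, FiniteField.coe_frobeniusAlgHom, hq]
  have hφx : ∀ x, (ψ : F →+* F) x = x ^ Nat.card F₀ := hψx
  refine ⟨(ψ : F →+* F), Module.finrank F₀ F, Module.finrank_pos, hφx, ?_, ?_, ?_, ?_, ?_⟩
  · intro x
    have h1 : ψ ^ Module.finrank F₀ F = 1 := by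
      rw [← FiniteField.orderOf_frobeniusAlgHom F₀ F]
      exact pow_orderOf_eq_one ψ
    have h2 := congrArg (fun g : F →ₐ[F₀] F => g x) h1
    simp only [AlgHom.coe_pow, AlgHom.one_apply] at h2
    exact h2
  · intro x hx
    exact mem_of_pow_card_eq F₀ x (by rw [← hφx]; exact hx)
  · intro x hx
    exact ψ.commutes ⟨x, hx⟩
  · intro i j hij
    apply (FiniteField.bijective_frobeniusAlgHom_pow F₀ F).1
    show ψ ^ i.1 = ψ ^ j.1
    apply AlgHom.ext
    intro x
    have := congrArg (fun g : F →* F => g x) hij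
    simp only [MonoidHom.coe_coe, RingHom.coe_pow] at this
    rw [AlgHom.coe_pow, AlgHom.coe_pow]
    exact this
  · intro c hc hc0
    obtain ⟨l, hl⟩ := FiniteField.norm_surjective F₀ F ⟨c, hc⟩
    have h1 := FiniteField.algebraMap_norm_eq_pow_sum F₀ F l
    rw [hl] at h1
    refine ⟨l, ?_, h1.symm⟩
    rintro rfl
    rw [Algebra.norm_zero] at hl
    exact hc0 (congrArg Subtype.val hl).symm

end Cfsg.Agent.Lib.H25.AschS
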