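/-
S5662 (symplectic Aschbacher) tool **SD** (helper25), part b: Hilbert 90 for `GL_n` over a cyclic extension
(Galois descent for a semilinear map of finite order).
-/
import Cfsg.Agent.Lib.H25.AschSDa
import Cfsg.Agent.Lib.H6.AschU3a

set_option autoImplicit false

namespace Cfsg.Agent.Lib.H25.AschS

open Cfsg Cfsg.Geo Cfsg.Agent.Lib.Lead.Asch Cfsg.Agent.Lib.H6.Asch
open scoped MatrixGroups Matrix

variable {F : Type*} [Field F] {n : ℕ}

/-- The twisted power `B φ(B) ⋯ φ^{k-1}(B)`. -/
def Cm (φ : F →+* F) (B : Matrix (Fin n) (Fin n) F) : ℕ → Matrix (Fin n) (Fin n) F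
  | 0 => 1
  | k + 1 => B * (Cm φ B k).map φ

theorem Cm_zero (φ : F →+* F) (B : Matrix (Fin n) (Fin n) F) : Cm φ B 0 = 1 := rfl

theorem Cm_succ (φ : F →+* F) (B : Matrix (Fin n) (Fin n) F) (k : ℕ) :
    Cm φ B (k + 1) = B * (Cm φ B k).map φ := rfl

theorem map_pow_succ (φ : F →+* F) (k : ℕ) (M : Matrix (Fin n) (Fin n) F) :
    (M.map (φ ^ k : F →+* F)).map φ = M.map (φ ^ (k + 1) : F →+* F) := by
  ext i j
  simp only [Matrix.map_apply, pow_succ', RingHom.mul_def, RingHom.comp_apply]

/-- If `g B = B φ(g)` then `g C_k = C_k φ^k(g)`. -/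
theorem Cm_comm (φ : F →+* F) (B g : Matrix (Fin n) (Fin n) F) (h : g * B = B * g.map φ) (k : ℕ) :
    g * Cm φ B k = Cm φ B k * g.map (φ ^ k : F →+* F) := by
  induction k with
  | zero =>
    rw [Cm_zero, Matrix.mul_one, Matrix.one_mul]
    ext i j
    simp
  | succ k ih =>
    rw [Cm_succ, ← Matrix.mul_assoc, h, Matrix.mul_assoc, ← Matrix.map_mul, ih, Matrix.map_mul,
      map_pow_succ, Matrix.mul_assoc]

/-- The right-hand recursion `C_{k+1} = C_k φ^k(B)`. -/
theorem Cm_succ' (φ : F →+* F) (B : Matrix (Fin n) (Fin n) F) (k : ℕ) :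
    Cm φ B (k + 1) = Cm φ B k * B.map (φ ^ k : F →+* F) := by
  induction k with
  | zero =>
    rw [Cm_succ, Cm_zero, Matrix.one_mul]
    have h1 : (1 : Matrix (Fin n) (Fin n) F).map φ = 1 := Matrix.map_one φ (map_zero φ) (map_one φ)
    rw [h1, Matrix.mul_one]
    ext i j
    simp
  | succ k ih =>
    rw [Cm_succ, ih, Matrix.map_mul, map_pow_succ, ← Matrix.mul_assoc, ← Cm_succ, ← ih]

theorem Cm_det_ne_zero (φ : F →+* F) (B : Matrix (Fin n) (Fin n) F) (hB : B.det ≠ 0) (k : ℕ) :
    (Cm φ B k).det ≠ 0 := by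
  induction k with
  | zero => rw [Cm_zero, Matrix.det_one]; exact one_ne_zero
  | succ k ih =>
    rw [Cm_succ, Matrix.det_mul]
    have h2 : ((Cm φ B k).map φ).det = φ (Cm φ B k).det := (RingHom.map_det φ _).symm
    rw [h2]
    exact mul_ne_zero hB ((map_ne_zero φ).2 ih)

/-- Twisted powers of a scalar multiple. -/
theorem Cm_smul (φ : F →+* F) (q₀ : ℕ) (hφ : ∀ x, φ x = x ^ q₀) (l : F) (B : Matrix (Fin n) (Fin n) F)
    (k : ℕ) : Cm φ (l • B) k = (l ^ (∑ i ∈ Finset.range k, q₀ ^ i)) • Cm φ B k := by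
  induction k with
  | zero => simp [Cm_zero]
  | succ k ih =>
    rw [Cm_succ, ih, Cm_succ]
    have h1 : ((l ^ (∑ i ∈ Finset.range k, q₀ ^ i)) • Cm φ B k).map φ =
        (l ^ (∑ i ∈ Finset.range k, q₀ ^ i)) ^ q₀ • (Cm φ B k).map φ := by
      ext i j
      simp [hφ, mul_pow]
    rw [h1, Matrix.smul_mul, Matrix.mul_smul, smul_smul]
    congr 1
    rw [← pow_mul, ← pow_succ', Finset.sum_range_succ', pow_zero, Finset.sum_mul]
    congr 2

/-- The semilinear map `v ↦ B φ(v)` iterated. -/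
theorem iterate_semilinear (φ : F →+* F) (B : Matrix (Fin n) (Fin n) F) (k : ℕ) (v : Fin n → F) :
    (fun w : Fin n → F => B *ᵥ (fun i => φ (w i)))^[k] v =
      Cm φ B k *ᵥ (fun i => (φ ^ k : F →+* F) (v i)) := by
  induction k with
  | zero => simp [Cm_zero]
  | succ k ih =>
    rw [Function.iterate_succ_apply', ih, map_mulVec_fun, Matrix.mulVec_mulVec, Cm_succ]
    congr 1
    funext i
    simp only [pow_succ', RingHom.mul_def, RingHom.comp_apply]

/-- **Fixed vectors span** (Dedekind independence of `1, φ, …, φ^{s-1}`). -/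
theorem span_fixed_eq_top (φ : F →+* F) (s : ℕ) (hs : 0 < s)
    (hinj : Function.Injective (fun i : Fin s => ((φ ^ i.1 : F →+* F) : F →* F)))
    (τ : (Fin n → F) → (Fin n → F)) (hadd : ∀ u v, τ (u + v) = τ u + τ v)
    (hsmul : ∀ (a : F) v, τ (a • v) = φ a • τ v) (hτs : ∀ v, τ^[s] v = v) :
    Submodule.span F {v | τ v = v} = ⊤ := by
  classical
  by_contra hne
  obtain ⟨u, hu0, hu⟩ := Submodule.exists_le_ker_of_lt_top _ (lt_top_iff_ne_top.2 hne)
  apply hu0
  apply LinearMap.ext
  intro v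
  rw [LinearMap.zero_apply]
  let τ' : (Fin n → F) →+ (Fin n → F) := AddMonoidHom.mk' τ hadd
  have hτ' : ∀ w, τ' w = τ w := fun w => rfl
  -- iterates are semilinear
  have hit : ∀ (i : ℕ) (a : F) (w : Fin n → F), τ^[i] (a • w) = (φ ^ i : F →+* F) a • τ^[i] w := by
    intro i
    induction i with
    | zero => intro a w; simp
    | succ i ih =>
      intro a w
      rw [Function.iterate_succ_apply', Function.iterate_succ_apply', ih, hsmul]
      congr 1
      simp only [pow_succ', RingHom.mul_def, RingHom.comp_apply]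
  -- the averaged vector is fixed
  have hfix : ∀ w : Fin n → F, τ (∑ i ∈ Finset.range s, τ^[i] w) = ∑ i ∈ Finset.range s, τ^[i] w := by
    intro w
    rw [← hτ', map_sum]
    have h1 : ∀ i ∈ Finset.range s, τ' (τ^[i] w) = τ^[i + 1] w := by
      intro i _
      rw [hτ', Function.iterate_succ_apply']
    rw [Finset.sum_congr rfl h1]
    have h2 := Finset.sum_range_succ' (fun i => τ^[i] w) s
    have h3 := Finset.sum_range_succ (fun i => τ^[i] w) s
    rw [h2] at h3
    simp only [Function.iterate_zero, id_eq, hτs] at h3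
    exact add_right_cancel h3
  have hker : ∀ a : F, u (∑ i ∈ Finset.range s, τ^[i] (a • v)) = 0 := by
    intro a
    have : (∑ i ∈ Finset.range s, τ^[i] (a • v)) ∈ Submodule.span F {v | τ v = v} :=
      Submodule.subset_span (hfix (a • v))
    exact LinearMap.mem_ker.1 (hu this)
  have hli := (linearIndependent_monoidHom F F).comp _ hinj
  have hsum : ∑ i : Fin s, (u (τ^[i.1] v)) • ((fun f : F →* F => (f : F → F)) ∘
      (fun i : Fin s => ((φ ^ i.1 : F →+* F) : F →* F))) i = 0 := by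
    funext a
    have h1 := hker a
    rw [map_sum] at h1
    simp only [hit, map_smul, smul_eq_mul] at h1
    rw [Finset.sum_apply, Pi.zero_apply, ← h1, ← Fin.sum_univ_eq_sum_range
      (fun i => (φ ^ i : F →+* F) a * u (τ^[i] v)) s]
    apply Finset.sum_congr rfl
    intro i _
    simp only [Function.comp_apply, Pi.smul_apply, smul_eq_mul, MonoidHom.coe_coe]
    rw [mul_comm]
  have := Fintype.linearIndependent_iff.1 hli (fun i => u (τ^[i.1] v)) hsum ⟨0, hs⟩
  simpa using this

/-- From a spanning set of fixed vectors to an invertible matrix of fixed columns. -/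
theorem exists_GL_of_span_fixed (φ : F →+* F) (T : Matrix (Fin n) (Fin n) F)
    (hspan : Submodule.span F {v : Fin n → F | T *ᵥ (fun i => φ (v i)) = v} = ⊤) :
    ∃ P : GL (Fin n) F, T * (P : Matrix (Fin n) (Fin n) F).map φ = (P : Matrix (Fin n) (Fin n) F) := by
  classical
  let τ : (Fin n → F) → (Fin n → F) := fun v => T *ᵥ (fun i => φ (v i))
  let V₀ : Set (Fin n → F) := {v | τ v = v}
  have hspan' : ⊤ ≤ Submodule.span F V₀ := by rw [← hspan]
  let b := Module.Basis.ofSpan hspan'
  have hbmem : ∀ i, τ (b i) = b i := fun i =>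
    Module.Basis.ofSpan_subset hspan' ⟨i, rfl⟩
  have : Fintype ((linearIndepOn_empty F id).extend (Set.empty_subset V₀)) := Fintype.ofFinite _
  have hcard : Fintype.card ((linearIndepOn_empty F id).extend (Set.empty_subset V₀)) =
      Fintype.card (Fin n) := by
    rw [← Module.finrank_eq_card_basis b, Module.finrank_fin_fun, Fintype.card_fin]
  let e := Fintype.equivOfCardEq hcard
  let b' : Module.Basis (Fin n) F (Fin n → F) := b.reindex e
  have hb'mem : ∀ j, τ (b' j) = b' j := fun j => by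
    have : b' j = b (e.symm j) := by simp [b']
    rw [this]; exact hbmem _
  let std : Module.Basis (Fin n) F (Fin n → F) := Pi.basisFun F (Fin n)
  let P : GL (Fin n) F :=
    ⟨std.toMatrix b', b'.toMatrix std, Module.Basis.toMatrix_mul_toMatrix_flip _ _,
      Module.Basis.toMatrix_mul_toMatrix_flip _ _⟩
  refine ⟨P, ?_⟩
  ext i j
  have hP : ∀ i j, (P : Matrix (Fin n) (Fin n) F) i j = b' j i := by
    intro i j
    show std.toMatrix b' i j = _
    rw [Module.Basis.toMatrix_apply]
    simp [std]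
  rw [hP, ← hb'mem j]
  simp only [τ, Matrix.mul_apply, Matrix.mulVec, dotProduct, Matrix.map_apply, hP]

/-- **Hilbert 90 for `GL_n`**: if `T φ(T) ⋯ φ^{s-1}(T) = 1` then `T = P φ(P)⁻¹`. -/
theorem exists_GL_of_twisted_pow_eq_one (φ : F →+* F) (s : ℕ) (hs : 0 < s)
    (hφs : (φ ^ s : F →+* F) = 1)
    (hinj : Function.Injective (fun i : Fin s => ((φ ^ i.1 : F →+* F) : F →* F)))
    (T : Matrix (Fin n) (Fin n) F) (hT : Cm φ T s = 1) :
    ∃ P : GL (Fin n) F, T * (P : Matrix (Fin n) (Fin n) F).map φ = (P : Matrix (Fin n) (Fin n) F) := by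
  apply exists_GL_of_span_fixed
  apply span_fixed_eq_top φ s hs hinj
  · intro u v
    rw [← Matrix.mulVec_add]
    congr 1
    funext i
    simp
  · intro a v
    rw [← Matrix.mulVec_smul]
    congr 1
    funext i
    simp
  · intro v
    rw [iterate_semilinear, hT, hφs, Matrix.one_mulVec]
    rfl

end Cfsg.Agent.Lib.H25.AschS
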