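/-
S5662 (symplectic Aschbacher), tool **SD** (helper25): semilinear descent (Schur index 1 over finite fields; Hilbert 90 for
`GL_n`).  Exact signature of `tools/blueprints/S5662_sigs.lean`.
-/
import Cfsg.Agent.Lib.H25.AschSDb

set_option autoImplicit false

namespace Cfsg.Agent.Lib.H25.AschS

open Cfsg Cfsg.Geo Cfsg.Agent.Lib.Lead.Asch
open scoped MatrixGroups Matrix Kronecker

variable {F : Type*} [Field F] [Fintype F] {n : ℕ}

/-- **SD** semilinear descent.  `φ x = x ^ |F₀|` generates `Gal(F/F₀)`.  If the `φ`-semilinear map `τ v = B φ(v)` commutes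
with the absolutely irreducible group `N` (i.e. `g B = B φ(g)`), then `N` is realisable over `F₀`. -/
theorem realisable_of_semilinear_commute (N : Subgroup (GL (Fin n) F))
    (habs : ActsAbsolutelyIrreducibly (matrixSet N)) (F₀ : Subfield F) (B : GL (Fin n) F)
    (hcomm : ∀ g ∈ matrixSet N, g * (B : Matrix (Fin n) (Fin n) F) =
      (B : Matrix (Fin n) (Fin n) F) * g.map (fun x => x ^ Nat.card F₀)) :
    RealisableOver F₀ (matrixSet N) := by
  classical
  rcases Nat.eq_zero_or_pos n with rfl | hn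
  · exact ⟨1, fun s _ i => i.elim0⟩
  have hne : Nonempty (Fin n) := ⟨⟨0, hn⟩⟩
  obtain ⟨φ, s, hs, hφ, hφs, hfix, -, hinj, hnorm⟩ := exists_frobenius F₀
  have hφs' : (φ ^ s : F →+* F) = 1 := by
    apply RingHom.ext
    intro x
    rw [RingHom.coe_pow]
    exact hφs x
  have hmap1 : ∀ g : Matrix (Fin n) (Fin n) F, g.map ((1 : F →+* F)) = g := by
    intro g
    ext i j
    simp
  set Bm : Matrix (Fin n) (Fin n) F := (B : Matrix (Fin n) (Fin n) F) with hBm
  have hcomm' : ∀ g ∈ matrixSet N, g * Bm = Bm * g.map φ := by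
    intro g hg
    rw [hcomm g hg]
    congr 1
    ext i j
    simp [hφ]
  have hBdet : Bm.det ≠ 0 := ((Matrix.isUnit_iff_isUnit_det _).1 B.isUnit).ne_zero
  have hBm0 : Bm ≠ 0 := by
    intro h0
    rw [h0, Matrix.det_zero] at hBdet
    exact hBdet rfl
  -- the twisted power is a scalar
  obtain ⟨c, hc⟩ := habs.2 (Cm φ Bm s) (by
    intro g hg
    rw [Cm_comm φ Bm g (hcomm' g hg) s, hφs', hmap1])
  have hc0 : c ≠ 0 := by
    rintro rfl
    have := Cm_det_ne_zero φ Bm hBdet s
    rw [hc, zero_smul, Matrix.det_zero] at this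
    exact this rfl
  -- `φ c = c`
  have hφc : φ c = c := by
    have h1 : Cm φ Bm (s + 1) = φ c • Bm := by
      rw [Cm_succ, hc]
      have : (c • (1 : Matrix (Fin n) (Fin n) F)).map φ = φ c • (1 : Matrix (Fin n) (Fin n) F) := by
        ext i j
        by_cases hij : i = j
        · subst hij; simp
        · simp [Matrix.one_apply_ne hij]
      rw [this, Matrix.mul_smul, Matrix.mul_one]
    have h2 : Cm φ Bm (s + 1) = c • Bm := by
      rw [Cm_succ', hc, hφs', hmap1, Matrix.smul_mul, Matrix.one_mul]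
    rw [h1] at h2
    obtain ⟨i, j, hij⟩ : ∃ i j, Bm i j ≠ 0 := by
      by_contra hcon
      push Not at hcon
      exact hBm0 (Matrix.ext hcon)
    have h3 := congrFun (congrFun h2 i) j
    rw [Matrix.smul_apply, Matrix.smul_apply, smul_eq_mul, smul_eq_mul] at h3
    exact mul_right_cancel₀ hij h3
  have hcmem : c ∈ F₀ := hfix c hφc
  -- normalisation
  obtain ⟨l, hl0, hl⟩ := hnorm c⁻¹ (F₀.inv_mem hcmem) (inv_ne_zero hc0)
  set T : Matrix (Fin n) (Fin n) F := l • Bm with hT
  have hTs : Cm φ T s = 1 := by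
    rw [hT, Cm_smul φ (Nat.card F₀) hφ, hl, hc, smul_smul, inv_mul_cancel₀ hc0, one_smul]
  have hTcomm : ∀ g ∈ matrixSet N, g * T = T * g.map φ := by
    intro g hg
    rw [hT, Matrix.mul_smul, hcomm' g hg, Matrix.smul_mul]
  -- descent
  obtain ⟨P, hP⟩ := exists_GL_of_twisted_pow_eq_one φ s hs hφs' hinj T hTs
  refine ⟨P⁻¹, ?_⟩
  rintro _ ⟨x, hx, rfl⟩ i j
  rw [inv_inv]
  apply hfix
  set g : Matrix (Fin n) (Fin n) F := (x : Matrix (Fin n) (Fin n) F) with hg
  obtain ⟨y, hy⟩ : ∃ y : Matrix (Fin n) (Fin n) F,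
      y = ((P⁻¹ : GL (Fin n) F) : Matrix (Fin n) (Fin n) F) * g * (P : Matrix (Fin n) (Fin n) F) :=
    ⟨_, rfl⟩
  rw [← hy]
  have hPy : (P : Matrix (Fin n) (Fin n) F) * y = g * (P : Matrix (Fin n) (Fin n) F) := by
    rw [hy, ← Matrix.mul_assoc, ← Matrix.mul_assoc, ← Units.val_mul, mul_inv_cancel, Units.val_one,
      Matrix.one_mul]
  have h1 : (P : Matrix (Fin n) (Fin n) F) * y.map φ = (P : Matrix (Fin n) (Fin n) F) * y := by
    calc (P : Matrix (Fin n) (Fin n) F) * y.map φ
        = T * ((P : Matrix (Fin n) (Fin n) F) * y).map φ := by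
          rw [Matrix.map_mul, ← Matrix.mul_assoc, hP]
      _ = T * g.map φ * (P : Matrix (Fin n) (Fin n) F).map φ := by
          rw [hPy, Matrix.map_mul, Matrix.mul_assoc]
      _ = g * (T * (P : Matrix (Fin n) (Fin n) F).map φ) := by
          rw [← hTcomm g ⟨x, hx, rfl⟩, Matrix.mul_assoc]
      _ = (P : Matrix (Fin n) (Fin n) F) * y := by rw [hP, hPy]
  have h2 : y.map φ = y := by
    have := congrArg (fun X => ((P⁻¹ : GL (Fin n) F) : Matrix (Fin n) (Fin n) F) * X) h1
    simp only [← Matrix.mul_assoc, ← Units.val_mul, inv_mul_cancel, Units.val_one, Matrix.one_mul] at this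
    exact this
  have := congrFun (congrFun h2 i) j
  rwa [Matrix.map_apply] at this

end Cfsg.Agent.Lib.H25.AschS
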