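/-
S5662 (symplectic Aschbacher) tool **ST5'** (helper25), part a: an involutory automorphism of a finite field is the
Frobenius over its fixed field.
-/
import Mathlib

set_option autoImplicit false

namespace Cfsg.Agent.Lib.H25.AschS

variable {F : Type*} [Field F] [Fintype F]

/-- An automorphism `σ ≠ 1` of order two of a finite field is `x ↦ x ^ |F₀|` for a proper subfield `F₀`
(its fixed field). -/
theorem exists_subfield_of_involution (σ : F ≃+* F) (hne : σ ≠ RingEquiv.refl F)
    (hinv : ∀ a, σ (σ a) = a) :
    ∃ F₀ : Subfield F, F₀ ≠ ⊤ ∧ (∀ x ∈ F₀, σ x = x) ∧ ∀ x, σ x = x ^ Nat.card F₀ := by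
  classical
  let G : Subgroup (RingAut F) := Subgroup.zpowers (σ : RingAut F)
  have hord : orderOf (σ : RingAut F) = 2 := by
    apply orderOf_eq_prime
    · apply RingEquiv.ext
      intro y
      rw [sq]
      exact hinv y
    · exact hne
  have hcardG : Nat.card G = 2 := by
    rw [Nat.card_zpowers, hord]
  have : Finite G := Nat.finite_of_card_ne_zero (by rw [hcardG]; norm_num)
  let _ : Fintype G := Fintype.ofFinite G
  have hfr := FixedPoints.finrank_eq_card G F
  rw [← Nat.card_eq_fintype_card, hcardG] at hfr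
  set F₀ : Subfield F := FixedPoints.subfield G F with hF₀
  have hfixed : ∀ x ∈ F₀, σ x = x := by
    intro x hx
    exact hx ⟨σ, Subgroup.mem_zpowers _⟩
  have : Fintype F₀ := Fintype.ofFinite F₀
  have hq : Fintype.card F₀ = Nat.card F₀ := Nat.card_eq_fintype_card.symm
  let σ' : F →ₐ[F₀] F := { (σ : F →+* F) with commutes' := fun x => hfixed x.1 x.2 }
  have hσ' : ∀ x, σ' x = σ x := fun x => rfl
  obtain ⟨i, hi⟩ := (FiniteField.bijective_frobeniusAlgHom_pow F₀ F).2 σ'
  have hi2 : i.1 < 2 := lt_of_lt_of_eq i.2 hfr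
  have hcases : i.1 = 0 ∨ i.1 = 1 := by omega
  refine ⟨F₀, ?_, hfixed, ?_⟩
  · intro htop
    apply hne
    apply RingEquiv.ext
    intro x
    exact hfixed x (by rw [htop]; exact Subfield.mem_top x)
  · intro x
    rcases hcases with h0 | h1
    · exfalso
      apply hne
      apply RingEquiv.ext
      intro y
      have := congrArg (fun g : F →ₐ[F₀] F => g y) hi
      simp only [h0, pow_zero, AlgHom.one_apply] at this
      rw [← hσ', ← this]
      rfl
    · have := congrArg (fun g : F →ₐ[F₀] F => g x) hi
      simp only [h1, pow_one] at this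
      rw [← hσ', ← this, FiniteField.coe_frobeniusAlgHom, hq]

end Cfsg.Agent.Lib.H25.AschS
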