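/-
S5662 (symplectic Aschbacher), tool **ST5'** (helper25): an absolutely irreducible normal subgroup of `H ≤ Sp(f)` fixing a
unitary form is realisable over the fixed field of `σ`; class 5.
Exact signature of `tools/blueprints/S5662_sigs.lean`.
-/
import Cfsg.Agent.Lib.H25.AschSD
import Cfsg.Agent.Lib.H25.AschST5
import Cfsg.Agent.Lib.H25.AschST5pa

set_option autoImplicit false

namespace Cfsg.Agent.Lib.H25.AschS

open Cfsg Cfsg.Geo Cfsg.Agent.Lib.Lead.Asch Cfsg.Agent.Lib.H6.Asch Cfsg.Agent.Lib.H17.Asch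
  Cfsg.Agent.Lib.H11.AschS Cfsg.Agent.Lib.H25.Asch
open scoped MatrixGroups Matrix Kronecker

variable {F : Type*} [Field F] [Fintype F] {n : ℕ} {f : (Fin n → F) → (Fin n → F) → F}

/-- An absolutely irreducible group fixing a non-degenerate bilinear form and a unitary form is realisable over a proper
subfield (the fixed field of `σ`). -/
theorem realisable_of_fixes_bilinear_unitary (hfb : IsBilinearForm f) (hfn : IsNondegenerateForm f)
    (N : Subgroup (GL (Fin n) F)) (hN : FixesForm (matrixSet N) f)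
    (habs : ActsAbsolutelyIrreducibly (matrixSet N))
    (σ : F ≃+* F) (h : (Fin n → F) → (Fin n → F) → F) (hh : IsUnitaryForm σ h)
    (hfix : FixesForm (matrixSet N) h) :
    ∃ F₀ : Subfield F, F₀ ≠ ⊤ ∧ RealisableOver F₀ (matrixSet N) := by
  classical
  obtain ⟨F₀, hF₀ne, -, hσ⟩ := exists_subfield_of_involution σ hh.ne_refl hh.involutive
  refine ⟨F₀, hF₀ne, ?_⟩
  obtain ⟨J, hJ⟩ := exists_rep_of_bilinear f hfb
  have hJdet : IsUnit J.det := hJ.isUnit_det hfn
  obtain ⟨M, hM⟩ := exists_rep_of_unitary σ h hh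
  have hMdet : IsUnit M.det := hM.isUnit_det hh.nondegenerate
  have hJJ : J⁻¹ * J = 1 := Matrix.nonsing_inv_mul J hJdet
  have hJJ' : J * J⁻¹ = 1 := Matrix.mul_nonsing_inv J hJdet
  have hfixJ : ∀ x ∈ N, (x : Matrix (Fin n) (Fin n) F)ᵀ * J * (x : Matrix (Fin n) (Fin n) F) = J := by
    intro x hx
    have h1 := hJ.matrix_eq (x : Matrix (Fin n) (Fin n) F) 1
      (fun u v => by rw [one_mul]; exact hN _ ⟨x, hx, rfl⟩ u v)
    rwa [map_id_eq, one_smul] at h1
  have hfixM : ∀ x ∈ N, (x : Matrix (Fin n) (Fin n) F)ᵀ * M *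
      (x : Matrix (Fin n) (Fin n) F).map (σ : F →+* F) = M := by
    intro x hx
    have h1 := hM.matrix_eq (x : Matrix (Fin n) (Fin n) F) 1
      (fun u v => by rw [one_mul]; exact hfix _ ⟨x, hx, rfl⟩ u v)
    rwa [one_smul] at h1
  set A : Matrix (Fin n) (Fin n) F := J⁻¹ * M with hA
  have hAdet : IsUnit A.det := by
    rw [hA, Matrix.det_mul]
    have : IsUnit (J⁻¹).det := by
      have h1 : (J⁻¹).det * J.det = 1 := by rw [← Matrix.det_mul, hJJ, Matrix.det_one]
      exact IsUnit.of_mul_eq_one _ h1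
    exact this.mul hMdet
  obtain ⟨Au, hAu⟩ := (Matrix.isUnit_iff_isUnit_det _).2 hAdet
  apply realisable_of_semilinear_commute N habs F₀ Au
  rintro _ ⟨x, hx, rfl⟩
  rw [hAu]
  set g : Matrix (Fin n) (Fin n) F := (x : Matrix (Fin n) (Fin n) F) with hg
  set g' : Matrix (Fin n) (Fin n) F := ((x⁻¹ : GL (Fin n) F) : Matrix (Fin n) (Fin n) F) with hg'
  have hgg' : g * g' = 1 := by rw [hg, hg', ← Units.val_mul, mul_inv_cancel, Units.val_one]
  have hg'g : g' * g = 1 := by rw [hg, hg', ← Units.val_mul, inv_mul_cancel, Units.val_one]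
  have hmap : g.map (fun y => y ^ Nat.card F₀) = g.map (σ : F →+* F) := by
    ext i j
    simp [hσ]
  rw [hmap]
  -- `J g = g'ᵀ J`
  have h1 : J * g = g'ᵀ * J := by
    have := hfixJ x⁻¹ (N.inv_mem hx)
    calc J * g = (g'ᵀ * J * g') * g := by rw [this]
      _ = g'ᵀ * J := by rw [Matrix.mul_assoc, hg'g, Matrix.mul_one]
  -- `g J⁻¹ = J⁻¹ g'ᵀ`
  have h2 : g * J⁻¹ = J⁻¹ * g'ᵀ := by
    calc g * J⁻¹ = J⁻¹ * (J * g) * J⁻¹ := by
          rw [← Matrix.mul_assoc, hJJ, Matrix.one_mul]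
      _ = J⁻¹ * g'ᵀ := by rw [h1, Matrix.mul_assoc, Matrix.mul_assoc, hJJ', Matrix.mul_one]
  -- `M σ(g) = g'ᵀ M`
  have h3 : M * g.map (σ : F →+* F) = g'ᵀ * M := by
    have := hfixM x hx
    calc M * g.map (σ : F →+* F) = (g'ᵀ * gᵀ) * M * g.map (σ : F →+* F) := by
          rw [← Matrix.transpose_mul, hgg', Matrix.transpose_one, Matrix.one_mul]
      _ = g'ᵀ * (gᵀ * M * g.map (σ : F →+* F)) := by simp only [Matrix.mul_assoc]
      _ = g'ᵀ * M := by rw [this]
  calc g * A = (g * J⁻¹) * M := by rw [hA, Matrix.mul_assoc]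
    _ = J⁻¹ * (g'ᵀ * M) := by rw [h2, Matrix.mul_assoc]
    _ = A * g.map (σ : F →+* F) := by rw [← h3, hA, Matrix.mul_assoc]

/-- **ST5'** -/
theorem sc5_of_fixes_unitary (hf : IsSymplecticForm f) (hn : 2 ≤ n)
    (H N : Subgroup (GL (Fin n) F)) (hH : FixesForm (matrixSet H) f) (hNH : N ≤ H)
    (hnorm : NormalizedBy H N) (habs : ActsAbsolutelyIrreducibly (matrixSet N))
    (σ : F ≃+* F) (h : (Fin n → F) → (Fin n → F) → F) (hh : IsUnitaryForm σ h)
    (hfix : FixesForm (matrixSet N) h) : SC5 f H := by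
  have hN : FixesForm (matrixSet N) f := by
    rintro _ ⟨x, hx, rfl⟩ u v
    exact hH _ ⟨x, hNH hx, rfl⟩ u v
  obtain ⟨F₀, hne, hreal⟩ := realisable_of_fixes_bilinear_unitary hf.bilinear hf.nondegenerate N hN habs σ h hh hfix
  exact sc5_of_realisable hf hn H N hH hNH hnorm habs F₀ hne hreal

end Cfsg.Agent.Lib.H25.AschS
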