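import Mathlib
import Cfsg.Agent.Lib.H26.EssentialAut
import Cfsg.Agent.Lib.H26.ChainStab
import Cfsg.Agent.Lib.H26.FusionInner

set_option autoImplicit false

/-!
Essential subgroups have no characteristic chain with factors of order `p` down to the Frattini
subgroup (helper25).

* `eq_one_of_prime_order_of_stabilizes`: an automorphism of prime order `q ≠ p` of a finite
  `p`-group stabilizing a chain from `⊤` into the Frattini subgroup is trivial (Burnside);
* `isPGroup_of_stabilizes`: a group of automorphisms stabilizing such a chain is a `p`-group;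
* `stabilizes_step`: an automorphism of `p`-power order acts trivially on an invariant section of
  order `p`;
* `not_essential_of_chain`, `not_essential_of_char_mid`: the consequences for essential subgroups.
-/

namespace Cfsg.Agent.Lib.H25.EssChain

open Cfsg.Agent.Lib.H26.ChainStab

section aut

variable {H : Type*} [Group H] [Finite H] {p : ℕ} [hp : Fact p.Prime]

/-- An automorphism of prime order `q ≠ p` leaving a coset of a subgroup of a `p`-group invariant
fixes a point of it. -/
theorem exists_fixed_in_coset (hH : IsPGroup p H) {q : ℕ} [hq : Fact q.Prime] (hqp : q ≠ p)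
    (γ : MulAut H) (hγ : γ ^ q = 1) (M : Subgroup H) (x : H)
    (hx : ∀ y : H, x⁻¹ * y ∈ M → x⁻¹ * γ y ∈ M) : ∃ f : H, γ f = f ∧ x⁻¹ * f ∈ M := by
  classical
  let X := {y : H // x⁻¹ * y ∈ M}
  haveI : Fintype X := Fintype.ofFinite X
  let f₀ : X → X := fun y => ⟨γ y.1, hx y.1 y.2⟩
  have hinj : Function.Injective f₀ := by
    intro a b hab
    apply Subtype.ext
    exact γ.injective (congrArg Subtype.val hab)
  let σ : Equiv.Perm X := Equiv.ofBijective f₀ (Finite.injective_iff_bijective.1 hinj)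
  have hσ1 : ∀ y : X, (σ y).1 = γ y.1 := fun y => rfl
  have hσpow : ∀ n : ℕ, ∀ y : X, ((σ ^ n) y).1 = (γ ^ n) y.1 := by
    intro n
    induction n with
    | zero => intro y; simp
    | succ n ih =>
      intro y
      rw [pow_succ', pow_succ', Equiv.Perm.mul_apply, MulAut.mul_apply, hσ1, ih]
  have hσ : σ ^ q ^ 1 = 1 := by
    rw [pow_one]
    ext y
    rw [hσpow, hγ]
    rfl
  have hcard : Fintype.card X = Nat.card M := by
    rw [← Nat.card_eq_fintype_card]
    apply Nat.card_congr
    exact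
      { toFun := fun y => ⟨x⁻¹ * y.1, y.2⟩
        invFun := fun m => ⟨x * m.1, by
          show x⁻¹ * (x * m.1) ∈ M
          rw [inv_mul_cancel_left]
          exact m.2⟩
        left_inv := fun y => Subtype.ext (by simp)
        right_inv := fun m => Subtype.ext (by simp) }
  have hnd : ¬ q ∣ Fintype.card X := by
    rw [hcard]
    obtain ⟨k, hk⟩ := (hH.to_subgroup M).exists_card_eq
    rw [hk]
    intro hdvd
    exact hqp ((Nat.prime_dvd_prime_iff_eq hq.out hp.out).1 (hq.out.dvd_of_dvd_pow hdvd))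
  obtain ⟨a, ha⟩ := Equiv.Perm.exists_fixed_point_of_prime hnd hσ
  exact ⟨a.1, congrArg Subtype.val ha, a.2⟩

/-- the fixed points of an automorphism -/
def fixSub (γ : MulAut H) : Subgroup H where
  carrier := {h | γ h = h}
  one_mem' := map_one γ
  mul_mem' := by
    intro a b ha hb
    show γ (a * b) = a * b
    rw [map_mul, ha, hb]
  inv_mem' := by
    intro a ha
    show γ a⁻¹ = a⁻¹
    rw [map_inv, ha]

/-- **Burnside.** An automorphism of prime order `q ≠ p` of a finite `p`-group stabilizing a chain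
from `⊤` into the Frattini subgroup is trivial. -/
theorem eq_one_of_prime_order_of_stabilizes (hH : IsPGroup p H) {q : ℕ} [hq : Fact q.Prime]
    (hqp : q ≠ p) (γ : MulAut H) (hγ : γ ^ q = 1) (c : ℕ → Subgroup H)
    (hmono : ∀ i, c (i + 1) ≤ c i) (n : ℕ) (h0 : c 0 = ⊤) (hn : c n ≤ frattini H)
    (hst : Stabilizes c γ) : γ = 1 := by
  have hstep : ∀ i, c i ≤ fixSub γ ⊔ c (i + 1) := by
    intro i x hxi
    have hx : ∀ y : H, x⁻¹ * y ∈ c (i + 1) → x⁻¹ * γ y ∈ c (i + 1) := by
      intro y hy
      have hyi : y ∈ c i := by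
        have : y = x * (x⁻¹ * y) := by group
        rw [this]
        exact (c i).mul_mem hxi (hmono i hy)
      have h1 := hst i y hyi
      have : x⁻¹ * γ y = (x⁻¹ * y) * (y⁻¹ * γ y) := by group
      rw [this]
      exact (c (i + 1)).mul_mem hy h1
    obtain ⟨f, hf, hxf⟩ := exists_fixed_in_coset hH hqp γ hγ (c (i + 1)) x hx
    have : x = f * (x⁻¹ * f)⁻¹ := by group
    rw [this]
    exact Subgroup.mul_mem_sup (show f ∈ fixSub γ from hf) ((c (i + 1)).inv_mem hxf)
  have hall : ∀ i, (⊤ : Subgroup H) ≤ fixSub γ ⊔ c i := by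
    intro i
    induction i with
    | zero => rw [h0]; exact le_sup_right
    | succ i ih =>
      refine ih.trans (sup_le le_sup_left ?_)
      exact hstep i
  have htop : fixSub γ ⊔ frattini H = ⊤ :=
    top_le_iff.1 ((hall n).trans (sup_le_sup_left hn _))
  have hfix : fixSub γ = ⊤ := frattini_nongenerating htop
  ext h
  have : h ∈ fixSub γ := by rw [hfix]; exact Subgroup.mem_top h
  exact this

/-- A group of automorphisms of a finite `p`-group stabilizing a chain from `⊤` into the Frattini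
subgroup is a `p`-group. -/
theorem isPGroup_of_stabilizes (hH : IsPGroup p H) (c : ℕ → Subgroup H)
    (hmono : ∀ i, c (i + 1) ≤ c i) (n : ℕ) (h0 : c 0 = ⊤) (hn : c n ≤ frattini H)
    (K : Subgroup (MulAut H)) (hK : ∀ γ ∈ K, Stabilizes c γ) : IsPGroup p K := by
  rintro ⟨γ, hγK⟩
  have hfin : Finite (MulAut H) := inferInstance
  have hpos : 0 < orderOf γ := orderOf_pos γ
  obtain ⟨k, m, hm, hkm⟩ := Nat.exists_eq_pow_mul_and_not_dvd hpos.ne' p hp.out.ne_one
  refine ⟨k, Subtype.ext ?_⟩
  show γ ^ p ^ k = 1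
  by_contra hne
  -- the `p'`-part of `γ`
  have hm1 : m ≠ 1 := by
    rintro rfl
    apply hne
    rw [mul_one] at hkm
    rw [← hkm]
    exact pow_orderOf_eq_one γ
  obtain ⟨q, hqprime, hqm⟩ := Nat.exists_prime_and_dvd hm1
  haveI : Fact q.Prime := ⟨hqprime⟩
  have hqp : q ≠ p := by
    rintro rfl
    exact hm hqm
  obtain ⟨m', rfl⟩ := hqm
  set δ := γ ^ (p ^ k * m') with hδ
  have hδq : δ ^ q = 1 := by
    rw [hδ, ← pow_mul]
    have : p ^ k * m' * q = orderOf γ := by rw [hkm]; ring
    rw [this]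
    exact pow_orderOf_eq_one γ
  have hδst : Stabilizes c δ := (hK γ hγK).pow hmono _
  have hδ1 : δ = 1 := eq_one_of_prime_order_of_stabilizes hH hqp δ hδq c hmono n h0 hn hδst
  have hdvd : orderOf γ ∣ p ^ k * m' := orderOf_dvd_of_pow_eq_one hδ1
  rw [hkm] at hdvd
  have hpk : 0 < p ^ k := pow_pos hp.out.pos k
  have hm'pos : 0 < m' := by
    rcases Nat.eq_zero_or_pos m' with h | h
    · subst h
      rw [Nat.mul_zero, Nat.mul_zero] at hkm
      omega
    · exact h
  have h1 : p ^ k * (q * m') ≤ p ^ k * m' := Nat.le_of_dvd (Nat.mul_pos hpk hm'pos) hdvd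
  have h2 : q * m' ≤ m' := Nat.le_of_mul_le_mul_left h1 hpk
  have h3 : 2 ≤ q := hqprime.two_le
  nlinarith

/-- An automorphism of `p`-power order acts trivially on an invariant section of order `p`. -/
theorem stabilizes_step (A B : Subgroup H) (hAB : A ≤ B) (hidx : A.relIndex B = p)
    (α : MulAut H) (hαA : ∀ a ∈ A, α a ∈ A) (hαB : ∀ b ∈ B, α b ∈ B) {k : ℕ}
    (hα : α ^ p ^ k = 1) : ∀ b ∈ B, b⁻¹ * α b ∈ A := by
  classical
  -- `α` maps `A` onto `A`
  have hαA' : ∀ z : H, α z ∈ A → z ∈ A := by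
    intro z hz
    have hinj : Function.Injective (fun a : A => (⟨α a.1, hαA a.1 a.2⟩ : A)) := by
      intro a b hab
      exact Subtype.ext (α.injective (congrArg Subtype.val hab))
    obtain ⟨a, ha⟩ := (Finite.injective_iff_surjective.1 hinj) ⟨α z, hz⟩
    have h1 : α a.1 = α z := congrArg Subtype.val ha
    rw [← α.injective h1]
    exact a.2
  let X := ↥B ⧸ A.subgroupOf B
  haveI : Fintype X := Fintype.ofFinite X
  have hcardX : Fintype.card X = p := by
    rw [← Nat.card_eq_fintype_card]
    exact hidx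
  let f : ↥B → ↥B := fun b => ⟨α b.1, hαB b.1 b.2⟩
  have hf : ∀ a b : ↥B, QuotientGroup.leftRel (A.subgroupOf B) a b →
      QuotientGroup.leftRel (A.subgroupOf B) (f a) (f b) := by
    intro a b hab
    rw [QuotientGroup.leftRel_apply] at hab ⊢
    rw [Subgroup.mem_subgroupOf] at hab ⊢
    have : (((f a)⁻¹ * f b : ↥B) : H) = α (((a⁻¹ * b : ↥B) : H)) := by
      show (α a.1)⁻¹ * α b.1 = α (a.1⁻¹ * b.1)
      rw [map_mul, map_inv]
    rw [this]
    exact hαA _ hab
  let f₀ : X → X := Quotient.map' f hf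
  have hinj : Function.Injective f₀ := by
    intro u v
    induction u using Quotient.inductionOn' with
    | h a =>
      induction v using Quotient.inductionOn' with
      | h b =>
        intro hab
        have h1 : QuotientGroup.leftRel (A.subgroupOf B) (f a) (f b) := Quotient.exact' hab
        apply Quotient.sound'
        rw [QuotientGroup.leftRel_apply] at h1 ⊢
        rw [Subgroup.mem_subgroupOf] at h1 ⊢
        apply hαA'
        have : α (((a⁻¹ * b : ↥B) : H)) = (((f a)⁻¹ * f b : ↥B) : H) := by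
          show α (a.1⁻¹ * b.1) = (α a.1)⁻¹ * α b.1
          rw [map_mul, map_inv]
        rw [this]
        exact h1
  let σ : Equiv.Perm X := Equiv.ofBijective f₀ (Finite.injective_iff_bijective.1 hinj)
  have hσpow : ∀ n : ℕ, ∀ b : ↥B, ∃ hb : (α ^ n) b.1 ∈ B,
      (σ ^ n) (Quotient.mk'' b) = Quotient.mk'' (⟨(α ^ n) b.1, hb⟩ : ↥B) := by
    intro n
    induction n with
    | zero => intro b; exact ⟨by simpa using b.2, by simp⟩
    | succ n ih =>
      intro b
      obtain ⟨hb, h1⟩ := ih b
      refine ⟨by rw [pow_succ', MulAut.mul_apply]; exact hαB _ hb, ?_⟩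
      rw [pow_succ', Equiv.Perm.mul_apply, h1]
      show Quotient.mk'' (f ⟨(α ^ n) b.1, hb⟩) = _
      congr 1
      apply Subtype.ext
      show α ((α ^ n) b.1) = (α ^ (n + 1)) b.1
      rw [pow_succ', MulAut.mul_apply]
  have hσ : σ ^ p ^ k = 1 := by
    ext u
    induction u using Quotient.inductionOn' with
    | h b =>
      obtain ⟨hb, h1⟩ := hσpow (p ^ k) b
      show (σ ^ p ^ k) (Quotient.mk'' b) = Quotient.mk'' b
      rw [h1]
      congr 1
      apply Subtype.ext
      show (α ^ p ^ k) b.1 = b.1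
      rw [hα]
      rfl
  have hmod := Equiv.Perm.card_compl_support_modEq hσ
  rw [hcardX] at hmod
  have hone : (Quotient.mk'' (1 : ↥B) : X) ∈ σ.supportᶜ := by
    rw [Finset.mem_compl, Equiv.Perm.mem_support, not_not]
    show f₀ (Quotient.mk'' 1) = Quotient.mk'' 1
    show Quotient.mk'' (f 1) = Quotient.mk'' 1
    congr 1
    apply Subtype.ext
    show α 1 = 1
    exact map_one α
  have hpos : 0 < σ.supportᶜ.card := Finset.card_pos.2 ⟨_, hone⟩
  have hle : σ.supportᶜ.card ≤ p := by
    rw [← hcardX]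
    exact Finset.card_le_univ _
  have hdvd : p ∣ σ.supportᶜ.card := by
    have := hmod
    rw [Nat.ModEq, Nat.mod_self] at this
    exact Nat.dvd_of_mod_eq_zero this
  have hcardeq : σ.supportᶜ.card = p := Nat.le_antisymm hle (Nat.le_of_dvd hpos hdvd)
  have hall : σ.supportᶜ = Finset.univ := by
    apply Finset.eq_univ_of_card
    rw [hcardeq, hcardX]
  intro b hb
  have hbfix : (Quotient.mk'' (⟨b, hb⟩ : ↥B) : X) ∈ σ.supportᶜ := by rw [hall]; exact Finset.mem_univ _
  rw [Finset.mem_compl, Equiv.Perm.mem_support, not_not] at hbfix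
  have h1 : (Quotient.mk'' (f ⟨b, hb⟩) : X) = Quotient.mk'' (⟨b, hb⟩ : ↥B) := hbfix
  have h2 : QuotientGroup.leftRel (A.subgroupOf B) (⟨b, hb⟩ : ↥B) (f ⟨b, hb⟩) :=
    Quotient.exact' h1.symm
  rw [QuotientGroup.leftRel_apply, Subgroup.mem_subgroupOf] at h2
  exact h2

/-- a characteristic subgroup is mapped into itself by every automorphism -/
theorem char_map_mem {L : Subgroup H} (hL : L.Characteristic) (α : MulAut H) {x : H} (hx : x ∈ L) :
    α x ∈ L := by
  have h1 := hL.fixed α
  have h2 : x ∈ L.comap α.toMonoidHom := by rw [h1]; exact hx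
  exact h2

/-- the chain `⊤ ≥ L ≥ M ≥ M ≥ …` -/
def ch3 (L M : Subgroup H) : ℕ → Subgroup H
  | 0 => ⊤
  | 1 => L
  | _ => M

end aut

section fusion

open Cfsg Cfsg.FusionSystem Cfsg.Agent.Lib.H25 Cfsg.Agent.Lib.H26

variable {Ω : Type*} [Group Ω] {S : Subgroup Ω} {p : ℕ} [hp : Fact p.Prime]

/-- An essential subgroup has no `Aut_F`-invariant chain into its Frattini subgroup stabilized by
`Aut_S`. -/
theorem not_essential_of_chain [Finite S] (hS : IsPGroup p S) {F : FusionSystem S}
    (hF : F.IsSaturated p) {H : Subgroup Ω} (hess : F.IsEssential p H) (c : ℕ → Subgroup H)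
    (hmono : ∀ i, c (i + 1) ≤ c i) (n : ℕ) (h0 : c 0 = ⊤) (hn : c n ≤ frattini H)
    (hinv : ∀ i, ∀ α ∈ F.autGroup H, ∀ x ∈ c i, α x ∈ c i)
    (hTS : ∀ τ ∈ autInducedBy S H, Stabilizes c τ) : False := by
  have hHS : H ≤ S := hess.1.1
  haveI : Finite H := finite_of_le S hHS
  have hHp : IsPGroup p H := hS.to_le hHS
  refine not_essential_of_normal_pgroup hS hF hess (chainStab c hmono ⊓ F.autGroup H)
    inf_le_right ?_ ?_ ?_
  · rintro α hα γ ⟨hγ1, hγ2⟩
    refine ⟨?_, (F.autGroup H).mul_mem ((F.autGroup H).mul_mem hα hγ2)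
      ((F.autGroup H).inv_mem hα)⟩
    intro i x hx
    have hy : α⁻¹ x ∈ c i := hinv i α⁻¹ ((F.autGroup H).inv_mem hα) x hx
    have h1 := hγ1 i _ hy
    have h2 := hinv (i + 1) α hα _ h1
    have : x⁻¹ * (α * γ * α⁻¹) x = α ((α⁻¹ x)⁻¹ * γ (α⁻¹ x)) := by
      rw [map_mul, map_inv, MulAut.mul_apply, MulAut.mul_apply]
      simp
    rw [this]
    exact h2
  · exact isPGroup_of_stabilizes hHp c hmono n h0 hn _ (fun γ hγ => hγ.1)
  · intro τ hτ
    exact ⟨hTS τ hτ, autInducedBy_le_autGroup F hHS hτ⟩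

/-- An essential subgroup `H` has no characteristic subgroup `L ≥ Φ(H)` with `|H : L| ∈ {1, p}`
and `|L : Φ(H)| ∈ {1, p}`. -/
theorem not_essential_of_char_mid [Finite S] (hS : IsPGroup p S) {F : FusionSystem S}
    (hF : F.IsSaturated p) {H : Subgroup Ω} (hess : F.IsEssential p H) (L : Subgroup H)
    (hL : L.Characteristic) (hΦL : frattini H ≤ L) (h1 : L.index = p ∨ L = ⊤)
    (h2 : (frattini H).relIndex L = p ∨ L = frattini H) : False := by
  have hHS : H ≤ S := hess.1.1
  haveI : Finite H := finite_of_le S hHS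
  have hΦ : (frattini H).Characteristic := inferInstance
  have hmono : ∀ i, ch3 L (frattini H) (i + 1) ≤ ch3 L (frattini H) i := by
    intro i
    match i with
    | 0 => exact le_top
    | 1 => exact hΦL
    | (k + 2) => exact le_rfl
  refine not_essential_of_chain hS hF hess (ch3 L (frattini H)) hmono 2 rfl le_rfl ?_ ?_
  · intro i α _ x hx
    match i with
    | 0 => exact Subgroup.mem_top _
    | 1 => exact char_map_mem hL α hx
    | (k + 2) => exact char_map_mem hΦ α hx
  · intro τ hτ
    obtain ⟨k, hk⟩ := autInducedBy_isPGroup hS H ⟨τ, hτ⟩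
    have hk' : τ ^ p ^ k = 1 := by simpa using congrArg Subtype.val hk
    intro i x hx
    match i with
    | 0 =>
      show x⁻¹ * τ x ∈ L
      rcases h1 with h | h
      · refine stabilizes_step L ⊤ le_top ?_ τ (fun a ha => char_map_mem hL τ ha)
          (fun _ _ => Subgroup.mem_top _) hk' x (Subgroup.mem_top _)
        rw [Subgroup.relIndex_top_right]
        exact h
      · rw [h]; exact Subgroup.mem_top _
    | 1 =>
      show x⁻¹ * τ x ∈ frattini H
      rcases h2 with h | h
      · exact stabilizes_step (frattini H) L hΦL h τ (fun a ha => char_map_mem hΦ τ ha)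
          (fun a ha => char_map_mem hL τ ha) hk' x hx
      · have hx' : x ∈ frattini H := h ▸ hx
        exact (frattini H).mul_mem ((frattini H).inv_mem hx') (char_map_mem hΦ τ hx')
    | (k + 2) =>
      have hx' : x ∈ frattini H := hx
      exact (frattini H).mul_mem ((frattini H).inv_mem hx') (char_map_mem hΦ τ hx')

end fusion

end Cfsg.Agent.Lib.H25.EssChain
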