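import Mathlib
import Cfsg.Agent.Lib.H26.AutSylow
import Cfsg.Agent.Lib.H25.EssChain

set_option autoImplicit false

/-!
Essential subgroups are radical (helper25): a normal `p`-subgroup of `Aut_F(R)` consists of inner
automorphisms, and `Aut_S(R)` contains a non-inner automorphism.
-/

namespace Cfsg.Agent.Lib.H25.EssRadical

open Cfsg Cfsg.FusionSystem Cfsg.Agent.Lib.H25 Cfsg.Agent.Lib.H26 Cfsg.Agent.Lib.H26.ChainStab
  Cfsg.Agent.Lib.H25.EssChain

variable {Ω : Type*} [Group Ω] {S : Subgroup Ω} {p : ℕ} [hp : Fact p.Prime]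

/-- For an essential subgroup `R`, every normal `p`-subgroup of `Aut_F(R)` lies in `Inn(R)`. -/
theorem normal_pgroup_le_inn [Finite S] (hS : IsPGroup p S) {F : FusionSystem S}
    (hF : F.IsSaturated p) {R : Subgroup Ω} (hess : F.IsEssential p R) (N : Subgroup (MulAut R))
    (hNG : N ≤ F.autGroup R) (hNnorm : ∀ α ∈ F.autGroup R, ∀ γ ∈ N, α * γ * α⁻¹ ∈ N)
    (hNp : IsPGroup p N) : N ≤ Inn R := by
  have hRS : R ≤ S := hess.1.1
  haveI : Finite R := finite_of_le S hRS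
  obtain ⟨-, hfa⟩ := fullyNormalized_props hS hF hess.2.1
  obtain ⟨-, R₀, hR₀⟩ := hfa
  have hNp' : IsPGroup p (N.subgroupOf (F.autGroup R)) := by
    intro g
    obtain ⟨k, hk⟩ := hNp ⟨((g : F.autGroup R) : MulAut R), g.2⟩
    refine ⟨k, ?_⟩
    apply Subtype.ext
    apply Subtype.ext
    have := congrArg Subtype.val hk
    simpa using this
  haveI : (N.subgroupOf (F.autGroup R)).Normal := by
    constructor
    intro n hn g
    rw [Subgroup.mem_subgroupOf] at hn ⊢
    exact hNnorm g g.2 n hn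
  have hle : N.subgroupOf (F.autGroup R) ≤ (R₀ : Subgroup (F.autGroup R)) :=
    hNp'.le_sylow_of_normal R₀
  have hNT : ∀ γ ∈ N, γ ∈ autInducedBy S R := by
    intro γ hγ
    have h1 : (⟨γ, hNG hγ⟩ : F.autGroup R) ∈ N.subgroupOf (F.autGroup R) :=
      Subgroup.mem_subgroupOf.2 hγ
    have h2 := hle h1
    rw [hR₀] at h2
    exact Subgroup.mem_subgroupOf.1 h2
  obtain ⟨M, ⟨γ, hγ, hγM⟩, hM⟩ := AutSylow.exists_TI hS hF hess
  intro t ht
  by_contra htI
  exact hγM (hM γ hγ t (hNT t ht) htI (hNT _ (hNnorm γ hγ t ht)))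

/-- For an essential subgroup `R`, some element of `Aut_S(R)` is not inner. -/
theorem exists_autS_not_inn [Finite S] (hS : IsPGroup p S) {F : FusionSystem S}
    (hF : F.IsSaturated p) {R : Subgroup Ω} (hess : F.IsEssential p R) :
    ∃ τ ∈ autInducedBy S R, τ ∉ Inn R := by
  have hRS : R ≤ S := hess.1.1
  by_contra hcon
  push Not at hcon
  apply autInducedBy_not_normal_of_essential hS hF hess
  intro α _ τ hτ
  obtain ⟨r, rfl⟩ := hcon τ hτ
  rw [mem_autInducedBy_iff]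
  refine ⟨((α r : R) : Ω), hRS (α r).2, fun x => ?_⟩
  have : (α * MulAut.conj r * α⁻¹) x = α r * x * (α r)⁻¹ := by
    rw [MulAut.mul_apply, MulAut.mul_apply, MulAut.conj_apply, map_mul, map_mul, map_inv]
    simp
  rw [this]
  rfl

/-- For an essential subgroup `R`, the automorphisms in `Aut_F(R)` stabilizing an
`Aut_F(R)`-invariant chain from `⊤` into `Φ(R)` are inner. -/
theorem chainStab_le_inn [Finite S] (hS : IsPGroup p S) {F : FusionSystem S}
    (hF : F.IsSaturated p) {H : Subgroup Ω} (hess : F.IsEssential p H) (c : ℕ → Subgroup H)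
    (hmono : ∀ i, c (i + 1) ≤ c i) (n : ℕ) (h0 : c 0 = ⊤) (hn : c n ≤ frattini H)
    (hinv : ∀ i, ∀ α ∈ F.autGroup H, ∀ x ∈ c i, α x ∈ c i) :
    ∀ γ ∈ F.autGroup H, Stabilizes c γ → γ ∈ Inn H := by
  have hHS : H ≤ S := hess.1.1
  haveI : Finite H := finite_of_le S hHS
  have hHp : IsPGroup p H := hS.to_le hHS
  have hle := normal_pgroup_le_inn hS hF hess (chainStab c hmono ⊓ F.autGroup H)
    inf_le_right ?_ ?_
  · intro γ hγ hst
    exact hle ⟨hst, hγ⟩
  · rintro α hα γ ⟨hγ1, hγ2⟩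
    refine ⟨?_, (F.autGroup H).mul_mem ((F.autGroup H).mul_mem hα hγ2)
      ((F.autGroup H).inv_mem hα)⟩
    intro i x hx
    have hy : α⁻¹ x ∈ c i := hinv i α⁻¹ ((F.autGroup H).inv_mem hα) x hx
    have h1 := hγ1 i _ hy
    have h2 := hinv (i + 1) α hα _ h1
    have : x⁻¹ * (α * γ * α⁻¹) x = α ((α⁻¹ x)⁻¹ * γ (α⁻¹ x)) := by
      rw [map_mul, map_inv, MulAut.mul_apply, MulAut.mul_apply]
      simp
    rw [this]
    exact h2
  · exact isPGroup_of_stabilizes hHp c hmono n h0 hn _ (fun γ hγ => hγ.1)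

end Cfsg.Agent.Lib.H25.EssRadical
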