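import Mathlib
import Cfsg.Prelude.Def_Transfer
import Cfsg.Agent.Lib.H1.PGroupBasic
import Cfsg.Agent.Lib.H22.Hamiltonian

set_option autoImplicit false

/-!
Groups of order `p³` (helper25): such a group is elementary abelian, or extraspecial of exponent
`p` (`p` odd), or quaternion (`p = 2`), or has a characteristic subgroup `L ≥ Φ` with
`|K : L|, |L : Φ| ∈ {1, p}`.
-/

namespace Cfsg.Agent.Lib.H25.OrderCube

open Cfsg.Agent.Lib.H1

variable {K : Type*} [Group K] [Finite K] {p : ℕ} [hp : Fact p.Prime]

/-- a middle characteristic subgroup -/
def HasCharMid (p : ℕ) (K : Type*) [Group K] : Prop :=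
  ∃ L : Subgroup K, L.Characteristic ∧ frattini K ≤ L ∧ (L.index = p ∨ L = ⊤) ∧
    ((frattini K).relIndex L = p ∨ L = frattini K)

/-- the triangular numbers -/
def tri : ℕ → ℕ
  | 0 => 0
  | (n + 1) => tri n + n

theorem two_mul_tri (n : ℕ) : 2 * tri n = n * (n - 1) := by
  induction n with
  | zero => rfl
  | succ n ih =>
    show 2 * (tri n + n) = (n + 1) * (n + 1 - 1)
    rw [mul_add, ih]
    rcases n with _ | m
    · rfl
    · simp only [Nat.add_sub_cancel]
      ring

theorem dvd_tri_of_odd (hp2 : p ≠ 2) : p ∣ tri p := by
  have h1 : p ∣ 2 * tri p := by rw [two_mul_tri]; exact dvd_mul_right p _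
  have hcop : Nat.Coprime p 2 := by
    rw [Nat.coprime_primes hp.out Nat.prime_two]
    exact hp2
  exact hcop.dvd_of_dvd_mul_left h1

/-- the power formula in class two -/
theorem mul_pow_of_central {x y c : K} (hc : y * x = c * x * y) (hcx : c * x = x * c)
    (hcy : c * y = y * c) : ∀ n : ℕ, (x * y) ^ n = c ^ tri n * x ^ n * y ^ n := by
  have hcxn : ∀ n : ℕ, c * x ^ n = x ^ n * c := fun n => (Commute.pow_right hcx n)
  have hcyn : ∀ n : ℕ, c * y ^ n = y ^ n * c := fun n => (Commute.pow_right hcy n)
  have hyx : ∀ n : ℕ, y ^ n * x = c ^ n * x * y ^ n := by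
    intro n
    induction n with
    | zero => simp
    | succ n ih =>
      have hcn : c ^ n * y = y * c ^ n := (Commute.pow_left hcy n)
      calc y ^ (n + 1) * x = y * (y ^ n * x) := by rw [pow_succ', mul_assoc]
        _ = y * (c ^ n * x * y ^ n) := by rw [ih]
        _ = (y * c ^ n) * x * y ^ n := by simp only [mul_assoc]
        _ = (c ^ n * y) * x * y ^ n := by rw [hcn]
        _ = c ^ n * (y * x) * y ^ n := by simp only [mul_assoc]
        _ = c ^ n * (c * x * y) * y ^ n := by rw [hc]
        _ = c ^ (n + 1) * x * y ^ (n + 1) := by
          rw [pow_succ, pow_succ']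
          simp only [mul_assoc]
  intro n
  induction n with
  | zero => simp [tri]
  | succ n ih =>
    have hcc : ∀ a b : ℕ, c ^ a * x ^ b = x ^ b * c ^ a := fun a b =>
      (Commute.pow_pow hcx a b)
    calc (x * y) ^ (n + 1) = (x * y) ^ n * (x * y) := pow_succ _ _
      _ = c ^ tri n * x ^ n * y ^ n * (x * y) := by rw [ih]
      _ = c ^ tri n * x ^ n * (y ^ n * x) * y := by simp only [mul_assoc]
      _ = c ^ tri n * x ^ n * (c ^ n * x * y ^ n) * y := by rw [hyx]
      _ = c ^ tri n * (x ^ n * c ^ n) * x * y ^ n * y := by simp only [mul_assoc]
      _ = c ^ tri n * (c ^ n * x ^ n) * x * y ^ n * y := by rw [hcc]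
      _ = c ^ (tri n + n) * x ^ (n + 1) * y ^ (n + 1) := by
        rw [pow_add, pow_succ, pow_succ]
        simp only [mul_assoc]

/-- If `x ↦ x ^ p` is multiplicative on a group of order `p³` with Frattini subgroup of order
`p`, then the group has exponent `p` or a middle characteristic subgroup. -/
theorem pow_hom_case (hK : IsPGroup p K) (hΦ : Nat.card (frattini K) = p)
    (hcard : Nat.card K = p ^ 3) (hmul : ∀ a b : K, (a * b) ^ p = a ^ p * b ^ p) :
    (∀ x : K, x ^ p = 1) ∨ HasCharMid p K := by
  let π : K →* K := { toFun := fun x => x ^ p, map_one' := one_pow p, map_mul' := hmul }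
  have hπ : ∀ x, π x = x ^ p := fun x => rfl
  have hrange : π.range ≤ frattini K := by
    rintro _ ⟨x, rfl⟩
    exact isPGroup_pow_mem_frattini hK x
  have hdvd : Nat.card π.range ∣ p := by
    rw [← hΦ]
    exact Subgroup.card_dvd_of_le hrange
  rcases (Nat.dvd_prime hp.out).1 hdvd with h1 | h1
  · left
    intro x
    have hx : π x ∈ π.range := ⟨x, rfl⟩
    have hbot : π.range = ⊥ := Subgroup.card_eq_one.1 h1
    rw [hbot, Subgroup.mem_bot] at hx
    exact hx
  · right
    have hidx : π.ker.index = p := by rw [Subgroup.index_ker]; exact h1
    have hΦL : frattini K ≤ π.ker := by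
      intro z hz
      rw [MonoidHom.mem_ker, hπ]
      have h2 : (⟨z, hz⟩ : frattini K) ^ Nat.card (frattini K) = 1 := pow_card_eq_one'
      rw [hΦ] at h2
      exact congrArg Subtype.val h2
    have hΦidx : (frattini K).index = p ^ 2 := by
      have h2 := Subgroup.card_mul_index (frattini K)
      rw [hΦ, hcard] at h2
      have hppos : 0 < p := hp.out.pos
      have : p * (frattini K).index = p * p ^ 2 := by rw [h2]; ring
      exact Nat.eq_of_mul_eq_mul_left hppos this
    refine ⟨π.ker, ?_, hΦL, Or.inl hidx, Or.inl ?_⟩
    · rw [Subgroup.characteristic_iff_comap_le]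
      intro φ x hx
      rw [Subgroup.mem_comap, MonoidHom.mem_ker, hπ] at hx
      rw [MonoidHom.mem_ker, hπ]
      have : φ (x ^ p) = 1 := by rw [map_pow]; exact hx
      exact (map_eq_one_iff φ φ.injective).1 this
    · have h2 := Subgroup.relIndex_mul_index hΦL
      rw [hidx, hΦidx] at h2
      have hppos : 0 < p := hp.out.pos
      have : (frattini K).relIndex π.ker * p = p * p := by rw [h2]; ring
      exact Nat.eq_of_mul_eq_mul_right hppos this

theorem frattini_ne_top (hcard : Nat.card K = p ^ 3) : frattini K ≠ ⊤ := by
  intro h
  have h1 : (⊥ : Subgroup K) ⊔ frattini K = ⊤ := by rw [h]; simp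
  have h2 : (⊥ : Subgroup K) = ⊤ := frattini_nongenerating h1
  have h3 : Nat.card (⊤ : Subgroup K) = 1 := by rw [← h2]; exact Subgroup.card_bot
  rw [Subgroup.card_top, hcard] at h3
  have : 1 < p ^ 3 := Nat.one_lt_pow (by norm_num) hp.out.one_lt
  omega

/-- **Groups of order `p³`.** -/
theorem order_cube (hcard : Nat.card K = p ^ 3) :
    ((∀ a b : K, a * b = b * a) ∧ ∀ a : K, a ^ p = 1) ∨ HasCharMid p K ∨
      (p ≠ 2 ∧ Cfsg.IsExtraspecial p K ∧ ∀ x : K, x ^ p = 1) ∨
      (p = 2 ∧ Nonempty (K ≃* QuaternionGroup 2)) := by
  classical
  have hK : IsPGroup p K := IsPGroup.of_card hcard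
  have hppos : 0 < p := hp.out.pos
  have hp1 : 1 < p := hp.out.one_lt
  have hcomΦ : commutator K ≤ frattini K := isPGroup_commutator_le_frattini hK
  have hcomm_of_bot : commutator K = ⊥ → ∀ a b : K, a * b = b * a := by
    intro h a b
    have h1 : a * b * a⁻¹ * b⁻¹ ∈ commutator K := by
      have := Subgroup.commutator_mem_commutator (Subgroup.mem_top a) (Subgroup.mem_top b)
      rwa [commutatorElement_def] at this
    rw [h, Subgroup.mem_bot] at h1
    calc a * b = (a * b * a⁻¹ * b⁻¹) * (b * a) := by group
      _ = b * a := by rw [h1, one_mul]
  -- the order of the Frattini subgroup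
  have hΦdvd : Nat.card (frattini K) ∣ p ^ 3 := by
    rw [← hcard]; exact Subgroup.card_subgroup_dvd_card _
  obtain ⟨j, hj3, hj⟩ := (Nat.dvd_prime_pow hp.out).1 hΦdvd
  have hj2 : j ≤ 2 := by
    by_contra hlt
    have : j = 3 := by omega
    subst this
    apply frattini_ne_top (p := p) hcard
    apply (Subgroup.card_eq_iff_eq_top _).1
    rw [hj, hcard]
  have hΦidx : (frattini K).index * p ^ j = p ^ 3 := by
    have h2 := Subgroup.card_mul_index (frattini K)
    rw [hj, hcard] at h2
    rw [mul_comm]; exact h2
  interval_cases j
  · -- `Φ = 1`
    left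
    have hΦbot : frattini K = ⊥ := Subgroup.card_eq_one.1 (by rw [hj, pow_zero])
    refine ⟨hcomm_of_bot (le_bot_iff.1 (hΦbot ▸ hcomΦ)), fun a => ?_⟩
    have := isPGroup_pow_mem_frattini hK a
    rw [hΦbot, Subgroup.mem_bot] at this
    exact this
  · -- `|Φ| = p`
    rw [pow_one] at hj
    by_cases hcomm : ∀ a b : K, a * b = b * a
    · rcases pow_hom_case hK hj hcard (fun a b => Commute.mul_pow (show Commute a b from hcomm a b) p) with h | h
      · exact Or.inl ⟨hcomm, h⟩
      · exact Or.inr (Or.inl h)
    · -- the nonabelian case
      have hcomne : commutator K ≠ ⊥ := fun h => hcomm (hcomm_of_bot h)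
      have hcomeq : commutator K = frattini K := by
        apply Subgroup.eq_of_le_of_card_ge hcomΦ
        rw [hj]
        have hd : Nat.card (commutator K) ∣ p := by
          rw [← hj]; exact Subgroup.card_dvd_of_le hcomΦ
        rcases (Nat.dvd_prime hp.out).1 hd with h1 | h1
        · exact absurd (Subgroup.card_eq_one.1 h1) hcomne
        · exact h1.ge
      -- the centre
      haveI : Nontrivial K := by
        rw [← Finite.one_lt_card_iff_nontrivial, hcard]
        exact Nat.one_lt_pow (by norm_num) hp1
      have hZne : Nat.card (Subgroup.center K) ≠ 1 := by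
        intro h
        have hnt := hK.center_nontrivial
        rw [← Finite.one_lt_card_iff_nontrivial] at hnt
        omega
      have hZdvd : Nat.card (Subgroup.center K) ∣ p ^ 3 := by
        rw [← hcard]; exact Subgroup.card_subgroup_dvd_card _
      obtain ⟨i, hi3, hi⟩ := (Nat.dvd_prime_pow hp.out).1 hZdvd
      have hZidx : Nat.card (K ⧸ Subgroup.center K) * p ^ i = p ^ 3 := by
        have h2 := Subgroup.card_eq_card_quotient_mul_card_subgroup (Subgroup.center K)
        rw [hi, hcard] at h2
        exact h2.symm
      have hi1 : i = 1 := by
        interval_cases i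
        · exact absurd (by rw [hi, pow_zero]) hZne
        · rfl
        · exfalso
          have hq : Nat.card (K ⧸ Subgroup.center K) = p := by
            have : Nat.card (K ⧸ Subgroup.center K) * p ^ 2 = p * p ^ 2 := by
              rw [hZidx]; ring
            exact Nat.eq_of_mul_eq_mul_right (pow_pos hppos 2) this
          haveI : IsCyclic (K ⧸ Subgroup.center K) := isCyclic_of_prime_card hq
          apply hcomm
          apply commutative_of_cyclic_center_quotient (QuotientGroup.mk' (Subgroup.center K))
          rw [QuotientGroup.ker_mk']
        · exfalso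
          apply hcomm
          have htop : Subgroup.center K = ⊤ := by
            apply (Subgroup.card_eq_iff_eq_top _).1
            rw [hi, hcard]
          intro a b
          have hb : b ∈ Subgroup.center K := by rw [htop]; exact Subgroup.mem_top b
          exact Subgroup.mem_center_iff.1 hb a
      subst hi1
      rw [pow_one] at hi hZidx
      have hq : Nat.card (K ⧸ Subgroup.center K) = p ^ 2 := by
        have : Nat.card (K ⧸ Subgroup.center K) * p = p ^ 2 * p := by rw [hZidx]; ring
        exact Nat.eq_of_mul_eq_mul_right hppos this
      have hqcomm := IsPGroup.commutative_of_card_eq_prime_sq hq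
      have hcomZ : commutator K ≤ Subgroup.center K := by
        rw [commutator_def, Subgroup.commutator_le]
        intro a _ b _
        rw [← QuotientGroup.eq_one_iff, commutatorElement_def]
        simp only [QuotientGroup.mk_mul, QuotientGroup.mk_inv]
        rw [hqcomm (a : K ⧸ Subgroup.center K) (b : K ⧸ Subgroup.center K)]
        group
      have hΦZ : frattini K = Subgroup.center K := by
        rw [← hcomeq]
        apply Subgroup.eq_of_le_of_card_ge hcomZ
        rw [hi, hcomeq, hj]
      have hext : Cfsg.IsExtraspecial p K := ⟨⟨hK, hΦZ, hcomeq.trans hΦZ⟩, hi⟩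
      have hcen : ∀ c ∈ frattini K, ∀ x : K, c * x = x * c := by
        intro c hc x
        rw [hΦZ] at hc
        exact (Subgroup.mem_center_iff.1 hc x).symm
      have hΦpow : ∀ c ∈ frattini K, c ^ p = 1 := by
        intro c hc
        have h2 : (⟨c, hc⟩ : frattini K) ^ Nat.card (frattini K) = 1 := pow_card_eq_one'
        rw [hj] at h2
        exact congrArg Subtype.val h2
      have hcommem : ∀ x y : K, y * x * y⁻¹ * x⁻¹ ∈ frattini K := by
        intro x y
        rw [← hcomeq]
        have := Subgroup.commutator_mem_commutator (Subgroup.mem_top y) (Subgroup.mem_top x)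
        rwa [commutatorElement_def] at this
      by_cases hp2 : p = 2
      · -- `p = 2`
        subst hp2
        right
        -- the nonidentity element of `Φ`
        have hsq : ∀ x : K, x * x ∈ frattini K := fun x => by
          have := isPGroup_pow_mem_frattini hK x
          rwa [pow_two] at this
        obtain ⟨z, hz, hz1⟩ : ∃ z ∈ frattini K, z ≠ 1 := by
          by_contra hcon
          push Not at hcon
          have : frattini K = ⊥ := by
            rw [eq_bot_iff]
            intro w hw
            rw [Subgroup.mem_bot]
            exact hcon w hw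
          rw [this, Subgroup.card_bot] at hj
          omega
        have hΦtwo : ∀ w ∈ frattini K, w = 1 ∨ w = z := by
          intro w hw
          by_contra hcon
          push Not at hcon
          have h3 : 2 < Nat.card (frattini K) := by
            haveI : Fintype (frattini K) := Fintype.ofFinite _
            rw [Nat.card_eq_fintype_card]
            have : ({⟨1, (frattini K).one_mem⟩, ⟨z, hz⟩, ⟨w, hw⟩} : Finset (frattini K)).card = 3 := by
              rw [Finset.card_insert_of_notMem, Finset.card_insert_of_notMem,
                Finset.card_singleton]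
              · simp only [Finset.mem_singleton, Subtype.mk.injEq]
                exact fun h => hcon.2 h.symm
              · simp only [Finset.mem_insert, Finset.mem_singleton, Subtype.mk.injEq, not_or]
                exact ⟨fun h => hz1 h.symm, fun h => hcon.1 h.symm⟩
            have h4 := Finset.card_le_univ
              ({⟨1, (frattini K).one_mem⟩, ⟨z, hz⟩, ⟨w, hw⟩} : Finset (frattini K))
            omega
          omega
        by_cases hA : ∃ x y : K, x * x ≠ 1 ∧ y * y ≠ 1 ∧ x * y ≠ y * x
        · -- quaternion
          right; right
          refine ⟨rfl, ?_⟩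
          obtain ⟨x, y, hx, hy, hxy⟩ := hA
          have hxz : x * x = z := (hΦtwo _ (hsq x)).resolve_left hx
          have hyz : y * y = z := (hΦtwo _ (hsq y)).resolve_left hy
          have hzz : z * z = 1 := by
            have := hΦpow z hz
            rwa [pow_two] at this
          have hx4 : x ^ 4 = 1 := by
            calc x ^ 4 = x ^ 2 * x ^ 2 := by rw [← pow_add]
              _ = (x * x) * (x * x) := by rw [pow_two]
              _ = 1 := by rw [hxz, hzz]
          have hx2 : x ^ 2 ≠ 1 := by rw [pow_two]; exact hx
          have hyy : y * y = x ^ 2 := by rw [pow_two, hxz, hyz]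
          have hc : y * x * y⁻¹ * x⁻¹ = z := by
            refine (hΦtwo _ (hcommem x y)).resolve_left ?_
            intro h
            apply hxy
            calc x * y = (y * x * y⁻¹ * x⁻¹)⁻¹ * (y * x) := by group
              _ = y * x := by rw [h, inv_one, one_mul]
          have hyx : y * x * y⁻¹ = x⁻¹ := by
            have h1 : y * x * y⁻¹ = (y * x * y⁻¹ * x⁻¹) * x := by group
            rw [h1, hc, ← hxz]
            have h4 : x * x * x * x = 1 := by rw [mul_assoc (x * x), hxz, hzz]
            exact eq_inv_of_mul_eq_one_left h4
          obtain ⟨Q, ⟨e⟩, -, -, -, -⟩ := Cfsg.Agent.Lib.H22.q8_exists_subgroup hx4 hx2 hyy hyx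
          have hQcard : Nat.card Q = 8 := by
            rw [Nat.card_congr e.toEquiv, Nat.card_eq_fintype_card, QuaternionGroup.card]
          have hQtop : Q = ⊤ := by
            apply (Subgroup.card_eq_iff_eq_top _).1
            rw [hQcard, hcard]
            norm_num
          exact ⟨(Subgroup.topEquiv.symm.trans (MulEquiv.subgroupCongr hQtop.symm)).trans e⟩
        · -- a characteristic cyclic subgroup of order `4`
          left
          push Not at hA
          set Y : Set K := {x | x * x ≠ 1} with hY
          have hYne : ∃ x : K, x * x ≠ 1 := by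
            by_contra hcon
            push Not at hcon
            apply hcomm
            intro a b
            have h1 := hcon (a * b)
            have h2 := hcon a
            have h3 := hcon b
            calc a * b = a * (a * b * (a * b)) * b := by rw [h1, mul_one]
              _ = (a * a) * (b * a) * (b * b) := by group
              _ = b * a := by rw [h2, h3, one_mul, mul_one]
          obtain ⟨x, hx⟩ := hYne
          have hxz : x * x = z := (hΦtwo _ (hsq x)).resolve_left hx
          have hzz : z * z = 1 := by
            have := hΦpow z hz
            rwa [pow_two] at this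
          have hLne : Subgroup.closure Y ≠ ⊤ := by
            intro htop
            apply hcomm
            have h1 : Y ⊆ (Subgroup.centralizer Y : Set K) := by
              intro y hy
              rw [SetLike.mem_coe, Subgroup.mem_centralizer_iff]
              intro w hw
              exact hA w y hw hy
            have h2 : Subgroup.closure Y ≤ Subgroup.centralizer Y := (Subgroup.closure_le _).2 h1
            have h3 : Y ⊆ (Subgroup.center K : Set K) := by
              intro y hy
              rw [SetLike.mem_coe, Subgroup.mem_center_iff]
              intro g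
              have hg : g ∈ Subgroup.centralizer Y := h2 (htop ▸ Subgroup.mem_top g)
              exact ((Subgroup.mem_centralizer_iff.1 hg) y hy).symm
            have h4 : Subgroup.closure Y ≤ Subgroup.center K := (Subgroup.closure_le _).2 h3
            intro a b
            have hb : b ∈ Subgroup.center K := h4 (htop ▸ Subgroup.mem_top b)
            exact Subgroup.mem_center_iff.1 hb a
          have hxL : x ∈ Subgroup.closure Y := Subgroup.subset_closure hx
          have hord : orderOf x = 4 := by
            have h4 : x ^ 4 = 1 := by
              calc x ^ 4 = x ^ 2 * x ^ 2 := by rw [← pow_add]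
                _ = (x * x) * (x * x) := by rw [pow_two]
                _ = 1 := by rw [hxz, hzz]
            have h2 : x ^ 2 ≠ 1 := by rw [pow_two]; exact hx
            have : orderOf x = 2 ^ 2 := orderOf_eq_prime_pow (by simpa using h2) (by simpa using h4)
            simpa using this
          have hLcard : Nat.card (Subgroup.closure Y) = 4 := by
            have h1 : 4 ∣ Nat.card (Subgroup.closure Y) := by
              rw [← hord]
              have := orderOf_dvd_natCard (⟨x, hxL⟩ : Subgroup.closure Y)
              rwa [Subgroup.orderOf_mk] at this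
            have h2 : Nat.card (Subgroup.closure Y) ∣ 2 ^ 3 := by
              rw [← hcard]; exact Subgroup.card_subgroup_dvd_card _
            obtain ⟨i, hi3, hi⟩ := (Nat.dvd_prime_pow Nat.prime_two).1 h2
            have hne8 : Nat.card (Subgroup.closure Y) ≠ 8 := by
              intro h
              apply hLne
              apply (Subgroup.card_eq_iff_eq_top _).1
              rw [h, hcard]; norm_num
            rw [hi] at h1 hne8 ⊢
            interval_cases i <;> omega
          have hΦL : frattini K ≤ Subgroup.closure Y := by
            intro w hw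
            rcases hΦtwo w hw with rfl | rfl
            · exact Subgroup.one_mem _
            · rw [← hxz]; exact Subgroup.mul_mem _ hxL hxL
          refine ⟨Subgroup.closure Y, ?_, hΦL, Or.inl ?_, Or.inl ?_⟩
          · rw [Subgroup.characteristic_iff_map_le]
            intro φ
            rw [MonoidHom.map_closure, Subgroup.closure_le]
            rintro _ ⟨y, hy, rfl⟩
            apply Subgroup.subset_closure
            show φ y * φ y ≠ 1
            rw [← map_mul]
            intro h
            exact hy ((map_eq_one_iff φ φ.injective).1 h)
          · have h2 := Subgroup.card_mul_index (Subgroup.closure Y)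
            rw [hLcard, hcard] at h2
            omega
          · have h2 := Subgroup.relIndex_mul_index hΦL
            have h3 := Subgroup.card_mul_index (Subgroup.closure Y)
            rw [hLcard, hcard] at h3
            have h4 := Subgroup.card_mul_index (frattini K)
            rw [hj, hcard] at h4
            have h5 : (Subgroup.closure Y).index = 2 := by omega
            have h6 : (frattini K).index = 4 := by omega
            rw [h5, h6] at h2
            omega
      · -- `p` odd
        have hmul : ∀ a b : K, (a * b) ^ p = a ^ p * b ^ p := by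
          intro a b
          have hcmem := hcommem a b
          have hc : b * a = (b * a * b⁻¹ * a⁻¹) * a * b := by group
          rw [mul_pow_of_central hc (hcen _ hcmem a) (hcen _ hcmem b) p]
          obtain ⟨m, hm⟩ := dvd_tri_of_odd (p := p) hp2
          rw [hm, pow_mul, hΦpow _ hcmem, one_pow, one_mul]
        rcases pow_hom_case hK hj hcard hmul with h | h
        · exact Or.inr (Or.inr (Or.inl ⟨hp2, hext, h⟩))
        · exact Or.inr (Or.inl h)
  · -- `|Φ| = p²`
    right; left
    have hidx : (frattini K).index = p := by
      have : (frattini K).index * p ^ 2 = p * p ^ 2 := by rw [hΦidx]; ring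
      exact Nat.eq_of_mul_eq_mul_right (pow_pos hppos 2) this
    refine ⟨⊤, inferInstance, le_top, Or.inr rfl, Or.inl ?_⟩
    rw [Subgroup.relIndex_top_right]
    exact hidx

end Cfsg.Agent.Lib.H25.OrderCube
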