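import Mathlib
import Cfsg.Agent.Lib.H1.PGroupBasic
import Cfsg.Agent.Lib.H25.OrderCube

set_option autoImplicit false

/-!
Abelian `p`-groups with Frattini quotient of order at most `p²` (helper25): such a group has a
characteristic "middle" subgroup (`OrderCube.HasCharMid`), or is homocyclic of rank two.
-/

namespace Cfsg.Agent.Lib.H25.AbPow

open Cfsg.Agent.Lib.H1 Cfsg.Agent.Lib.H25.OrderCube

variable {K : Type*} [Group K] {p : ℕ}

/-- the power map of an abelian group -/
def pw (hcomm : ∀ a b : K, a * b = b * a) (n : ℕ) : K →* K where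
  toFun x := x ^ n
  map_one' := one_pow n
  map_mul' a b := Commute.mul_pow (hcomm a b) n

@[simp] theorem pw_apply (hcomm : ∀ a b : K, a * b = b * a) (n : ℕ) (x : K) :
    pw hcomm n x = x ^ n := rfl

theorem mem_ker_pw (hcomm : ∀ a b : K, a * b = b * a) (n : ℕ) (x : K) :
    x ∈ (pw hcomm n).ker ↔ x ^ n = 1 := by
  rw [MonoidHom.mem_ker, pw_apply]

/-- `Φ(K) = K^p` for an abelian `p`-group. -/
theorem frattini_eq_range [Finite K] [Fact p.Prime] (hK : IsPGroup p K)
    (hcomm : ∀ a b : K, a * b = b * a) : frattini K = (pw hcomm p).range := by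
  apply le_antisymm
  · apply frattini_le_of_commutator_le_of_pow_mem (p := p)
    · rw [commutator_def, Subgroup.commutator_le]
      intro a _ b _
      rw [commutatorElement_def]
      have : a * b * a⁻¹ * b⁻¹ = 1 := by
        rw [hcomm a b]; group
      rw [this]
      exact Subgroup.one_mem _
    · intro x
      exact ⟨x, rfl⟩
  · rintro _ ⟨x, rfl⟩
    exact isPGroup_pow_mem_frattini hK x

theorem ker_pw_char (hcomm : ∀ a b : K, a * b = b * a) (n : ℕ) :
    (pw hcomm n).ker.Characteristic := by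
  rw [Subgroup.characteristic_iff_comap_le]
  intro φ x hx
  rw [Subgroup.mem_comap, mem_ker_pw] at hx
  rw [mem_ker_pw]
  have : φ (x ^ n) = 1 := by rw [map_pow]; exact hx
  exact (map_eq_one_iff φ φ.injective).1 this

/-- a prime power at most `p²` -/
theorem pow_le_sq {q j : ℕ} (hq : 1 < q) (h : q ^ j ≤ q ^ 2) : j ≤ 2 := by
  by_contra hlt
  have : q ^ 2 < q ^ j := Nat.pow_lt_pow_right hq (by omega)
  omega

/-- two generators of order dividing `n` of an abelian group of order `n²` give an isomorphism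
with `C_n × C_n` -/
theorem iso_of_generators [Finite K] (hcomm : ∀ a b : K, a * b = b * a) (n : ℕ) (hn1 : 1 < n)
    (x y : K) (hxn : x ^ n = 1) (hyn : y ^ n = 1)
    (hgen : ∀ R : Subgroup K, x ∈ R → y ∈ R → R = ⊤) (hcard : Nat.card K = n * n) :
    Nonempty (K ≃* Multiplicative (ZMod n × ZMod n)) := by
  haveI : NeZero n := ⟨by omega⟩
  haveI : Fact (1 < n) := ⟨hn1⟩
  let g : Multiplicative (ZMod n × ZMod n) →* K :=
    { toFun := fun w => x ^ (Multiplicative.toAdd w).1.val * y ^ (Multiplicative.toAdd w).2.val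
      map_one' := by
        show x ^ ((0 : ZMod n × ZMod n)).1.val * y ^ ((0 : ZMod n × ZMod n)).2.val = 1
        simp
      map_mul' := by
        intro w w'
        show x ^ ((Multiplicative.toAdd w + Multiplicative.toAdd w')).1.val *
            y ^ ((Multiplicative.toAdd w + Multiplicative.toAdd w')).2.val = _
        rw [Prod.fst_add, Prod.snd_add, ZMod.val_add, ZMod.val_add, ← pow_eq_pow_mod _ hxn,
          ← pow_eq_pow_mod _ hyn, pow_add, pow_add]
        have hc : ∀ a b c d : K, a * b * (c * d) = a * c * (b * d) := by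
          intro a b c d
          rw [mul_assoc, ← mul_assoc b, hcomm b c, mul_assoc, ← mul_assoc]
        exact hc _ _ _ _ }
  have hgx : x ∈ g.range := by
    refine ⟨Multiplicative.ofAdd ((1 : ZMod n), (0 : ZMod n)), ?_⟩
    show x ^ (1 : ZMod n).val * y ^ (0 : ZMod n).val = x
    rw [ZMod.val_one, ZMod.val_zero, pow_one, pow_zero, mul_one]
  have hgy : y ∈ g.range := by
    refine ⟨Multiplicative.ofAdd ((0 : ZMod n), (1 : ZMod n)), ?_⟩
    show x ^ (0 : ZMod n).val * y ^ (1 : ZMod n).val = y
    rw [ZMod.val_one, ZMod.val_zero, pow_one, pow_zero, one_mul]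
  have hrange : g.range = ⊤ := hgen _ hgx hgy
  have hsurj : Function.Surjective g := MonoidHom.range_eq_top.1 hrange
  have hbij : Function.Bijective g := by
    apply hsurj.bijective_of_nat_card_le
    rw [hcard]
    have : Nat.card (Multiplicative (ZMod n × ZMod n)) = n * n := by
      rw [Nat.card_congr Multiplicative.toAdd, Nat.card_prod, Nat.card_zmod]
    rw [this]
  exact ⟨(MulEquiv.ofBijective g hbij).symm⟩

/-- the homocyclic case -/
theorem homocyclic_of_ker_le [Finite K] [hp : Fact p.Prime] (hK : IsPGroup p K)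
    (hcomm : ∀ a b : K, a * b = b * a) (hidx : (frattini K).index = p ^ 2) (b : ℕ)
    (hexp : ∀ x : K, x ^ p ^ (b + 1) = 1) (hHC : ∀ x : K, x ^ p ^ b = 1 → x ∈ frattini K) :
    Nat.card K = p ^ (2 * (b + 1)) ∧
      Nonempty (K ≃* Multiplicative (ZMod (p ^ (b + 1)) × ZMod (p ^ (b + 1)))) := by
  classical
  have hp1 : 1 < p := hp.out.one_lt
  have hppos : 0 < p := hp.out.pos
  have hΦ := frattini_eq_range hK hcomm
  -- the order
  have hmono : ∀ i, i ≤ b → (pw hcomm (p ^ i)).ker ≤ frattini K := by
    intro i hi x hx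
    rw [mem_ker_pw] at hx
    apply hHC
    obtain ⟨d, rfl⟩ := Nat.exists_eq_add_of_le hi
    rw [pow_add, pow_mul, hx, one_pow]
  have hcardi : ∀ i, i ≤ b + 1 → (pw hcomm (p ^ i)).ker.index * p ^ (2 * i) = Nat.card K := by
    intro i
    induction i with
    | zero =>
      intro _
      have : (pw hcomm (p ^ 0)).ker = ⊥ := by
        ext x
        rw [mem_ker_pw, pow_zero, pow_one, Subgroup.mem_bot]
      rw [this, Subgroup.index_bot, Nat.mul_zero, pow_zero, mul_one]
    | succ i ih =>
      intro hi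
      have hcomap : (pw hcomm (p ^ (i + 1))).ker = (pw hcomm (p ^ i)).ker.comap (pw hcomm p) := by
        ext x
        rw [Subgroup.mem_comap, mem_ker_pw, mem_ker_pw, pw_apply, ← pow_mul, pow_succ, mul_comm]
      have hle : (pw hcomm (p ^ i)).ker ≤ (pw hcomm p).range := by
        rw [← hΦ]
        exact hmono i (by omega)
      have h1 : (pw hcomm (p ^ (i + 1))).ker.index =
          (pw hcomm (p ^ i)).ker.relIndex (pw hcomm p).range := by
        rw [hcomap, Subgroup.index_comap]
      have h2 := Subgroup.relIndex_mul_index hle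
      rw [← hΦ, hidx] at h2
      rw [← ih (by omega), ← h2, h1, ← hΦ]
      ring
  have hcard : Nat.card K = p ^ (2 * (b + 1)) := by
    have h1 := hcardi (b + 1) le_rfl
    have : (pw hcomm (p ^ (b + 1))).ker = ⊤ := by
      ext x
      rw [mem_ker_pw]
      exact ⟨fun _ => Subgroup.mem_top x, fun _ => hexp x⟩
    rw [this, Subgroup.index_top, one_mul] at h1
    exact h1.symm
  refine ⟨hcard, ?_⟩
  -- generators
  have hQcard : Nat.card (K ⧸ frattini K) = p ^ 2 := by
    rw [← Subgroup.index_eq_card, hidx]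
  have hQpow : ∀ q : K ⧸ frattini K, q ^ p = 1 := by
    intro q
    induction q using QuotientGroup.induction_on with
    | H x =>
      rw [← QuotientGroup.mk_pow, QuotientGroup.eq_one_iff]
      exact isPGroup_pow_mem_frattini hK x
  haveI : Nontrivial (K ⧸ frattini K) := by
    rw [← Finite.one_lt_card_iff_nontrivial, hQcard]
    exact Nat.one_lt_pow (by norm_num) hp1
  obtain ⟨q₁, hq₁⟩ := exists_ne (1 : K ⧸ frattini K)
  have hord₁ : orderOf q₁ = p := orderOf_eq_prime (hQpow q₁) hq₁
  have hz₁ : Nat.card (Subgroup.zpowers q₁) = p := by rw [Nat.card_zpowers, hord₁]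
  have hne₁ : Subgroup.zpowers q₁ ≠ ⊤ := by
    intro h
    have h2 : Nat.card (Subgroup.zpowers q₁) = Nat.card (K ⧸ frattini K) := by
      rw [h, Subgroup.card_top]
    rw [hz₁, hQcard] at h2
    have : p ^ 1 < p ^ 2 := Nat.pow_lt_pow_right hp1 (by norm_num)
    rw [pow_one] at this
    omega
  obtain ⟨q₂, hq₂⟩ : ∃ q₂, q₂ ∉ Subgroup.zpowers q₁ := by
    by_contra hcon
    push Not at hcon
    exact hne₁ (eq_top_iff.2 (fun q _ => hcon q))
  have hT : Subgroup.zpowers q₁ ⊔ Subgroup.zpowers q₂ = ⊤ := by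
    set T := Subgroup.zpowers q₁ ⊔ Subgroup.zpowers q₂ with hTdef
    have hdvd : Nat.card T ∣ p ^ 2 := by
      rw [← hQcard]; exact Subgroup.card_subgroup_dvd_card T
    obtain ⟨i, hi2, hi⟩ := (Nat.dvd_prime_pow hp.out).1 hdvd
    have hle : Subgroup.zpowers q₁ ≤ T := le_sup_left
    have hpi : p ≤ p ^ i := by
      rw [← hi, ← hz₁]
      exact Subgroup.card_le_of_le hle
    have hne : Nat.card T ≠ p := by
      intro h
      have : Subgroup.zpowers q₁ = T := by
        apply Subgroup.eq_of_le_of_card_ge hle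
        rw [h, hz₁]
      apply hq₂
      rw [this]
      exact (le_sup_right : Subgroup.zpowers q₂ ≤ T) (Subgroup.mem_zpowers q₂)
    have hi2' : i = 2 := by
      interval_cases i
      · rw [pow_zero] at hpi; omega
      · rw [pow_one] at hi; exact absurd hi hne
      · rfl
    apply (Subgroup.card_eq_iff_eq_top _).1
    rw [hi, hi2', hQcard]
  obtain ⟨x, rfl⟩ := QuotientGroup.mk_surjective q₁
  obtain ⟨y, rfl⟩ := QuotientGroup.mk_surjective q₂
  -- the map
  have hn1 : 1 < p ^ (b + 1) := Nat.one_lt_pow (by omega) hp1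
  apply iso_of_generators hcomm (p ^ (b + 1)) hn1 x y (hexp x) (hexp y)
  · intro R hxR hyR
    apply frattini_nongenerating
    rw [eq_top_iff]
    intro k _
    have hmap : R.map (QuotientGroup.mk' (frattini K)) = ⊤ := by
      rw [eq_top_iff, ← hT]
      apply sup_le
      · rw [Subgroup.zpowers_le]
        exact ⟨x, hxR, rfl⟩
      · rw [Subgroup.zpowers_le]
        exact ⟨y, hyR, rfl⟩
    have hk : (k : K ⧸ frattini K) ∈ R.map (QuotientGroup.mk' (frattini K)) := by
      rw [hmap]; exact Subgroup.mem_top _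
    obtain ⟨r, hr, hrk⟩ := hk
    have h1 : ((r : K) : K ⧸ frattini K) = (k : K ⧸ frattini K) := hrk
    rw [QuotientGroup.eq] at h1
    have h2 : k = r * (r⁻¹ * k) := by group
    rw [h2]
    exact Subgroup.mul_mem_sup hr h1
  · rw [hcard, ← pow_add]
    congr 1
    ring

/-- **Abelian `p`-groups with Frattini quotient of order at most `p²`.** -/
theorem rank_two [Finite K] [hp : Fact p.Prime] (hK : IsPGroup p K)
    (hcomm : ∀ a b : K, a * b = b * a) (hrk : (frattini K).index ≤ p ^ 2) :
    HasCharMid p K ∨ ∃ a : ℕ, 1 ≤ a ∧ (∀ x : K, x ^ p ^ a = 1) ∧ Nat.card K = p ^ (2 * a) ∧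
      Nonempty (K ≃* Multiplicative (ZMod (p ^ a) × ZMod (p ^ a))) ∧
      (frattini K).index = p ^ 2 ∧ (2 ≤ a → ∀ x : K, x ^ p = 1 → x ∈ frattini K) := by
  classical
  have hp1 : 1 < p := hp.out.one_lt
  have hppos : 0 < p := hp.out.pos
  obtain ⟨n, hn⟩ := hK.exists_card_eq
  have hdvd : (frattini K).index ∣ p ^ n := by
    rw [← hn]; exact Subgroup.index_dvd_card _
  obtain ⟨j, -, hj⟩ := (Nat.dvd_prime_pow hp.out).1 hdvd
  have hj2 : j ≤ 2 := pow_le_sq hp1 (hj ▸ hrk)
  have hΦ := frattini_eq_range hK hcomm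
  interval_cases j
  · left
    rw [pow_zero, Subgroup.index_eq_one] at hj
    exact ⟨⊤, inferInstance, le_top, Or.inr rfl, Or.inr hj.symm⟩
  · left
    rw [pow_one] at hj
    refine ⟨⊤, inferInstance, le_top, Or.inr rfl, Or.inl ?_⟩
    rw [Subgroup.relIndex_top_right]
    exact hj
  · -- index `p²`
    have hex : ∃ a : ℕ, ∀ x : K, x ^ p ^ a = 1 := by
      refine ⟨n, fun x => ?_⟩
      rw [← hn]
      exact pow_card_eq_one'
    set a := Nat.find hex with ha
    have hexp : ∀ x : K, x ^ p ^ a = 1 := Nat.find_spec hex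
    have ha1 : 1 ≤ a := by
      by_contra hlt
      have ha0 : a = 0 := by omega
      rw [ha0] at hexp
      have htop : frattini K = ⊤ := by
        rw [eq_top_iff]
        intro x _
        have := hexp x
        rw [pow_zero, pow_one] at this
        rw [this]
        exact Subgroup.one_mem _
      rw [htop, Subgroup.index_top] at hj
      have : 1 < p ^ 2 := Nat.one_lt_pow (by norm_num) hp1
      omega
    obtain ⟨b, hb⟩ : ∃ b, a = b + 1 := ⟨a - 1, by omega⟩
    set L := (pw hcomm (p ^ b)).ker with hL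
    have hΦL : frattini K ≤ L := by
      rw [hΦ]
      rintro _ ⟨y, rfl⟩
      rw [hL, mem_ker_pw, pw_apply, ← pow_mul, ← pow_succ', ← hb]
      exact hexp y
    have hLne : L ≠ ⊤ := by
      intro htop
      have hall : ∀ x : K, x ^ p ^ b = 1 := by
        intro x
        rw [← mem_ker_pw hcomm, ← hL, htop]
        exact Subgroup.mem_top x
      have := Nat.find_min hex (m := b) (by rw [← ha]; omega)
      exact this hall
    have hLdvd : L.index ∣ p ^ 2 := by
      rw [← hj]
      exact Subgroup.index_dvd_of_le hΦL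
    obtain ⟨i, hi2, hi⟩ := (Nat.dvd_prime_pow hp.out).1 hLdvd
    have hrel := Subgroup.relIndex_mul_index hΦL
    rw [hj, hi] at hrel
    interval_cases i
    · exfalso
      rw [pow_zero, Subgroup.index_eq_one] at hi
      exact hLne hi
    · left
      rw [pow_one] at hi hrel
      refine ⟨L, ker_pw_char hcomm _, hΦL, Or.inl hi, Or.inl ?_⟩
      have : (frattini K).relIndex L * p = p * p := by rw [hrel]; ring
      exact Nat.eq_of_mul_eq_mul_right hppos this
    · right
      have hrel1 : (frattini K).relIndex L = 1 := by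
        have : (frattini K).relIndex L * p ^ 2 = 1 * p ^ 2 := by rw [hrel]; ring
        exact Nat.eq_of_mul_eq_mul_right (pow_pos hppos 2) this
      have hLΦ : L ≤ frattini K := Subgroup.relIndex_eq_one.1 hrel1
      have hHC : ∀ x : K, x ^ p ^ b = 1 → x ∈ frattini K := by
        intro x hx
        apply hLΦ
        rw [hL, mem_ker_pw]
        exact hx
      have hexp' : ∀ x : K, x ^ p ^ (b + 1) = 1 := by
        intro x
        rw [← hb]
        exact hexp x
      obtain ⟨hcard, hiso⟩ := homocyclic_of_ker_le hK hcomm hj b hexp' hHC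
      refine ⟨a, ha1, hexp, ?_, ?_, hj, ?_⟩
      · rw [hb]; exact hcard
      · rw [hb]; exact hiso
      · intro ha2 x hx
        apply hHC
        obtain ⟨c, hc⟩ : ∃ c, b = c + 1 := ⟨b - 1, by omega⟩
        rw [hc, pow_succ', pow_mul, hx, one_pow]

end Cfsg.Agent.Lib.H25.AbPow
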