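import Mathlib.GroupTheory.PGroup
import Mathlib.GroupTheory.Nilpotent

set_option autoImplicit false

/-!
The stability group of a series of subgroups of a finite `p`-group is a `p`-group.
-/

namespace Cfsg.Agent.Lib.H25

variable {G : Type*} [Group G]

/-- The automorphisms in `A` acting trivially on the factors `U (i+1) / U i`, `i < m`, of a family of
`A`-invariant subgroups. -/
def stabSub (A : Subgroup (MulAut G)) (U : ℕ → Subgroup G) (m : ℕ)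
    (hinv : ∀ α ∈ A, ∀ i, ∀ x ∈ U i, α x ∈ U i) : Subgroup (MulAut G) where
  carrier := {β | β ∈ A ∧ ∀ i < m, ∀ x ∈ U (i + 1), x⁻¹ * β x ∈ U i}
  one_mem' := ⟨A.one_mem, fun i _ x _ => by simp⟩
  mul_mem' := by
    rintro β γ ⟨hβA, hβ⟩ ⟨hγA, hγ⟩
    refine ⟨A.mul_mem hβA hγA, fun i hi x hx => ?_⟩
    have h1 := hγ i hi x hx
    have h2 := hβ i hi (γ x) (hinv γ hγA _ x hx)
    have : x⁻¹ * (β * γ) x = (x⁻¹ * γ x) * ((γ x)⁻¹ * β (γ x)) := by
      rw [MulAut.mul_apply]; group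
    rw [this]
    exact (U i).mul_mem h1 h2
  inv_mem' := by
    rintro β ⟨hβA, hβ⟩
    refine ⟨A.inv_mem hβA, fun i hi x hx => ?_⟩
    have hy := hinv β⁻¹ (A.inv_mem hβA) _ x hx
    have h1 := hβ i hi (β⁻¹ x) hy
    have : x⁻¹ * β⁻¹ x = ((β⁻¹ x)⁻¹ * β (β⁻¹ x))⁻¹ := by
      rw [MulAut.apply_inv_self]; group
    rw [this]
    exact (U i).inv_mem h1

theorem mem_stabSub_iff (A : Subgroup (MulAut G)) (U : ℕ → Subgroup G) (m : ℕ)
    (hinv : ∀ α ∈ A, ∀ i, ∀ x ∈ U i, α x ∈ U i) (β : MulAut G) :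
    β ∈ stabSub A U m hinv ↔ β ∈ A ∧ ∀ i < m, ∀ x ∈ U (i + 1), x⁻¹ * β x ∈ U i := Iff.rfl

theorem stabSub_le (A : Subgroup (MulAut G)) (U : ℕ → Subgroup G) (m : ℕ)
    (hinv : ∀ α ∈ A, ∀ i, ∀ x ∈ U i, α x ∈ U i) : stabSub A U m hinv ≤ A :=
  fun _ h => h.1

theorem stabSub_conj_mem (A : Subgroup (MulAut G)) (U : ℕ → Subgroup G) (m : ℕ)
    (hinv : ∀ α ∈ A, ∀ i, ∀ x ∈ U i, α x ∈ U i) {α β : MulAut G} (hα : α ∈ A)
    (hβ : β ∈ stabSub A U m hinv) : α * β * α⁻¹ ∈ stabSub A U m hinv := by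
  obtain ⟨hβA, hβ⟩ := hβ
  refine ⟨A.mul_mem (A.mul_mem hα hβA) (A.inv_mem hα), fun i hi x hx => ?_⟩
  have hy := hinv α⁻¹ (A.inv_mem hα) _ x hx
  have h1 := hinv α hα _ _ (hβ i hi (α⁻¹ x) hy)
  have : x⁻¹ * (α * β * α⁻¹) x = α ((α⁻¹ x)⁻¹ * β (α⁻¹ x)) := by
    rw [map_mul, map_inv, MulAut.apply_inv_self]
    rfl
  rw [this]
  exact h1

/-- Powers of a stabilizing automorphism are stabilizing. -/
theorem pow_stab {V W : Subgroup G} (hVW : V ≤ W) {β : MulAut G}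
    (h : ∀ x ∈ W, x⁻¹ * β x ∈ V) (j : ℕ) : ∀ x ∈ W, x⁻¹ * (β ^ j) x ∈ V := by
  induction j with
  | zero => intro x _; simp
  | succ j ih =>
    intro x hx
    have h1 := ih x hx
    have hx' : (β ^ j) x ∈ W := by
      have : (β ^ j) x = x * (x⁻¹ * (β ^ j) x) := by group
      rw [this]
      exact W.mul_mem hx (hVW h1)
    have h2 := h _ hx'
    have : x⁻¹ * (β ^ (j + 1)) x = (x⁻¹ * (β ^ j) x) * (((β ^ j) x)⁻¹ * β ((β ^ j) x)) := by
      rw [pow_succ', MulAut.mul_apply]; group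
    rw [this]
    exact V.mul_mem h1 h2

/-- One step: if `γ` fixes `V` elementwise and stabilizes `W` modulo `V`, then a power of `γ`
fixes `W` elementwise. -/
theorem pow_card_fix [Finite G] {V W : Subgroup G} {γ : MulAut G} (hfix : ∀ y ∈ V, γ y = y)
    (h : ∀ x ∈ W, x⁻¹ * γ x ∈ V) : ∀ x ∈ W, (γ ^ Nat.card G) x = x := by
  intro x hx
  have hy := h x hx
  have key : ∀ j : ℕ, (γ ^ j) x = x * (x⁻¹ * γ x) ^ j := by
    intro j
    induction j with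
    | zero => simp
    | succ j ih =>
      rw [pow_succ', MulAut.mul_apply, ih, map_mul, map_pow, hfix _ hy, pow_succ', ← mul_assoc,
        ← mul_assoc, mul_inv_cancel, one_mul]
  rw [key, pow_card_eq_one', mul_one]

/-- An automorphism stabilizing a series `U 0 ≤ ⋯ ≤ U m = ⊤` of a finite `p`-group, a `p`-power of
which fixes `U 0` elementwise, has `p`-power order. -/
theorem stab_pow_eq_one [Finite G] {p : ℕ} [Fact p.Prime] (hG : IsPGroup p G)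
    (A : Subgroup (MulAut G)) (U : ℕ → Subgroup G) (m : ℕ)
    (hinv : ∀ α ∈ A, ∀ i, ∀ x ∈ U i, α x ∈ U i)
    (hmono : ∀ i < m, U i ≤ U (i + 1)) (hUm : U m = ⊤) {β : MulAut G}
    (hβ : β ∈ stabSub A U m hinv) (h0 : ∃ k : ℕ, ∀ x ∈ U 0, (β ^ (p ^ k)) x = x) :
    ∃ k : ℕ, β ^ (p ^ k) = 1 := by
  obtain ⟨e, he⟩ := hG.exists_card_eq
  obtain ⟨hβA, hβ⟩ := hβ
  have key : ∀ i ≤ m, ∃ k : ℕ, ∀ x ∈ U i, (β ^ (p ^ k)) x = x := by
    intro i
    induction i with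
    | zero => intro _; exact h0
    | succ i ih =>
      intro hi
      obtain ⟨k, hk⟩ := ih (by omega)
      refine ⟨k + e, fun x hx => ?_⟩
      have h1 := pow_stab (hmono i (by omega)) (hβ i (by omega)) (p ^ k)
      have h2 := pow_card_fix hk h1 x hx
      rw [he, ← pow_mul, ← pow_add] at h2
      exact h2
  obtain ⟨k, hk⟩ := key m le_rfl
  refine ⟨k, ?_⟩
  ext x
  exact hk x (by rw [hUm]; trivial)

/-- The stability group of a series `⊥ = U 0 ≤ ⋯ ≤ U m = ⊤` of a finite `p`-group is a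
`p`-group. -/
theorem stabSub_isPGroup [Finite G] {p : ℕ} [Fact p.Prime] (hG : IsPGroup p G)
    (A : Subgroup (MulAut G)) (U : ℕ → Subgroup G) (m : ℕ)
    (hinv : ∀ α ∈ A, ∀ i, ∀ x ∈ U i, α x ∈ U i) (hU0 : U 0 = ⊥)
    (hmono : ∀ i < m, U i ≤ U (i + 1)) (hUm : U m = ⊤) : IsPGroup p (stabSub A U m hinv) := by
  rintro ⟨β, hβ⟩
  obtain ⟨k, hk⟩ := stab_pow_eq_one hG A U m hinv hmono hUm hβ ⟨0, fun x hx => by
    rw [hU0, Subgroup.mem_bot] at hx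
    subst hx
    simp⟩
  exact ⟨k, Subtype.ext hk⟩

end Cfsg.Agent.Lib.H25
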