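import Cfsg.Agent.Lib.H25.Normal
import Cfsg.Agent.Lib.H25.Stability

set_option autoImplicit false

/-!
AKO Proposition I.4.6: a subgroup with a series of strongly closed subgroups with central
factors is normal in a saturated fusion system.
-/

namespace Cfsg.Agent.Lib.H25

open Cfsg Cfsg.FusionSystem
open scoped Pointwise commutatorElement

variable {Ω : Type*} [Group Ω] {S : Subgroup Ω}

/-- Automorphisms in the system of any subgroup `T ≤ S` leave `T ∩ Q` invariant, for `Q` strongly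
closed. -/
theorem stronglyClosed_aut_mem' {F : FusionSystem S} {Q T : Subgroup Ω} (hQ : F.StronglyClosed Q)
    (hTS : T ≤ S) {α : MulAut T} (hα : α ∈ F.autGroup T) (x : T)
    (hx : (x : Ω) ∈ Q) : ((α x : T) : Ω) ∈ Q := by
  have h1 := isIso_of_mem_autGroup F hTS hα
  obtain ⟨Q', -, hQ', -⟩ := h1.restrict (inf_le_left : T ⊓ Q ≤ T)
  have := stronglyClosed_map_mem hQ hQ' inf_le_right (⟨x.2, hx⟩ : (x : Ω) ∈ T ⊓ Q)
  rwa [ext1_apply_mem _ x.2] at this

theorem stronglyClosed_bot (F : FusionSystem S) : F.StronglyClosed ⊥ := by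
  refine ⟨bot_le, fun R hR φ _ x => ?_⟩
  have hx : (x : Ω) = 1 := by
    have := hR x.2
    rwa [Subgroup.mem_bot] at this
  have : x = 1 := Subtype.ext hx
  rw [this, map_one]
  exact Subgroup.one_mem _

theorem stronglyClosed_self (F : FusionSystem S) : F.StronglyClosed S :=
  ⟨le_rfl, fun _ _ _ hφ x => hom_mem_S F hφ x⟩

/-- A subgroup `Q` of `S` normalized by `S` is contained in the centric radical subgroup `T` as soon as
`N_Q(T)` induces on `T` automorphisms in a normal `p`-subgroup of `Aut_F(T)`. -/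
theorem le_of_centric_radical_of_normalizer [Finite S] {p : ℕ} [Fact p.Prime] (hS : IsPGroup p S)
    {F : FusionSystem S} {Q T : Subgroup Ω} (hQS : Q ≤ S)
    (hQn : S ≤ Subgroup.normalizer (Q : Set Ω)) (hc : F.IsCentric T) (hr : F.IsRadical p T)
    (B : Subgroup (MulAut T)) (hBA : B ≤ F.autGroup T)
    (hBn : ∀ α ∈ F.autGroup T, ∀ β ∈ B, α * β * α⁻¹ ∈ B) (hBp : IsPGroup p B)
    (hB : ∀ g ∈ Q, g ∈ Subgroup.normalizer (T : Set Ω) →
      ∃ β ∈ B, ∀ x : T, ((β x : T) : Ω) = g * (x : Ω) * g⁻¹) : Q ≤ T := by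
  have hTS := hc.1
  -- `N_Q(T) ≤ T`
  have hNQ : ∀ g ∈ Q, g ∈ Subgroup.normalizer (T : Set Ω) → g ∈ T := by
    intro g hgQ hgN
    obtain ⟨β, hβ, hβg⟩ := hB g hgQ hgN
    exact mem_of_centric_radical hc hr B hBA hBn hBp (hQS hgQ) hβ hβg
  set R := T ⊔ Q with hR
  have hRS : R ≤ S := sup_le hTS hQS
  have hfinR : Finite R := finite_of_le S hRS
  have hRp : IsPGroup p R := hS.to_le hRS
  by_contra hne
  have hTR : T ≠ R := by
    intro h
    apply hne
    rw [h]
    exact le_sup_right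
  obtain ⟨g, hgN, hgT⟩ := exists_mem_normalizerIn_not_mem hRp (le_sup_left : T ≤ R) hTR
  apply hgT
  have hmul : (↑(T ⊔ Q) : Set Ω) = (T : Set Ω) * (Q : Set Ω) :=
    Subgroup.coe_mul_of_left_le_normalizer_right T Q (hTS.trans hQn)
  have hg' : g ∈ (↑(T ⊔ Q) : Set Ω) := hgN.1
  rw [hmul] at hg'
  obtain ⟨t, ht, q, hq, rfl⟩ := hg'
  have hqN : q ∈ Subgroup.normalizer (T : Set Ω) := by
    have h1 : t⁻¹ ∈ Subgroup.normalizer (T : Set Ω) := Subgroup.le_normalizer (T.inv_mem ht)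
    have h2 := Subgroup.mul_mem _ h1 hgN.2
    simpa using h2
  exact T.mul_mem ht (hNQ q hq hqN)

/-- AKO Proposition I.4.6. -/
theorem isNormal_of_series [Finite S] {p : ℕ} [Fact p.Prime] (hS : IsPGroup p S)
    {F : FusionSystem S} (hF : F.IsSaturated p) {Q : Subgroup Ω} (U : ℕ → Subgroup Ω) (n : ℕ)
    (hU0 : U 0 = ⊥) (hUn : U n = Q) (hmono : ∀ i < n, U i ≤ U (i + 1))
    (hsc : ∀ i ≤ n, F.StronglyClosed (U i)) (hcomm : ∀ i < n, ⁅Q, U (i + 1)⁆ ≤ U i) :
    F.IsNormal Q := by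
  have hQsc : F.StronglyClosed Q := hUn ▸ hsc n le_rfl
  have hQS : Q ≤ S := hQsc.1
  have hQn := stronglyClosed_le_normalizer hQsc
  apply isNormal_of_stronglyClosed_of_le hS hF hQsc
  intro T hT
  have hc := hT.1
  have hr := Cfsg.Agent.S5080.result p hS F hF T hT
  have hTS := hc.1
  have hfinT : Finite T := finite_of_le S hTS
  have hTp : IsPGroup p T := hS.to_le hTS
  -- the extended series
  let V : ℕ → Subgroup Ω := fun i => if i ≤ n then U i else S
  have hV1 : ∀ i ≤ n, V i = U i := fun i hi => if_pos hi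
  have hV2 : V (n + 1) = S := if_neg (by omega)
  have hVsc : ∀ i, F.StronglyClosed (V i) := by
    intro i
    by_cases hi : i ≤ n
    · rw [hV1 i hi]; exact hsc i hi
    · have : V i = S := if_neg hi
      rw [this]; exact stronglyClosed_self F
  let W : ℕ → Subgroup T := fun i => (V i).subgroupOf T
  have hinv : ∀ α ∈ F.autGroup T, ∀ i, ∀ x ∈ W i, α x ∈ W i := by
    intro α hα i x hx
    exact Subgroup.mem_subgroupOf.2
      (stronglyClosed_aut_mem' (hVsc i) hTS hα x (Subgroup.mem_subgroupOf.1 hx))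
  have hW0 : W 0 = ⊥ := by
    show (V 0).subgroupOf T = ⊥
    rw [hV1 0 (Nat.zero_le n), hU0]
    exact Subgroup.bot_subgroupOf T
  have hWm : W (n + 1) = ⊤ := by
    show (V (n + 1)).subgroupOf T = ⊤
    rw [hV2]
    exact Subgroup.subgroupOf_eq_top.2 hTS
  have hWmono : ∀ i < n + 1, W i ≤ W (i + 1) := by
    intro i hi x hx
    rw [Subgroup.mem_subgroupOf] at hx ⊢
    rw [hV1 i (by omega)] at hx
    by_cases hin : i < n
    · rw [hV1 (i + 1) (by omega)]
      exact hmono i hin hx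
    · have : i = n := by omega
      subst this
      rw [hV2]
      exact hTS x.2
  refine le_of_centric_radical_of_normalizer hS hQS hQn hc hr
    (stabSub (F.autGroup T) W (n + 1) hinv) (stabSub_le _ _ _ _)
    (fun α hα β hβ => stabSub_conj_mem _ _ _ _ hα hβ)
    (stabSub_isPGroup hTp _ W (n + 1) hinv hW0 hWmono hWm) ?_
  intro g hgQ hgN
  have hgNS : g ∈ normalizerIn S T := ⟨hQS hgQ, hgN⟩
  obtain ⟨β, hβA, hβg⟩ := exists_mem_autGroup_of_isIso F (isIso_conj_normalizer F hTS hgNS)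
  refine ⟨β, ⟨hβA, fun i hi x hx => ?_⟩, hβg⟩
  rw [Subgroup.mem_subgroupOf] at hx ⊢
  have hval : ((x⁻¹ * β x : T) : Ω) = (x : Ω)⁻¹ * (g * (x : Ω) * g⁻¹) := by
    rw [Subgroup.coe_mul, Subgroup.coe_inv, hβg]
  rw [hval, hV1 i (by omega)]
  by_cases hin : i < n
  · rw [hV1 (i + 1) (by omega)] at hx
    apply hcomm i hin
    have hx' : (x : Ω)⁻¹ ∈ U (i + 1) := Subgroup.inv_mem _ hx
    have h4 : ⁅g, (x : Ω)⁻¹⁆ ∈ ⁅Q, U (i + 1)⁆ := Subgroup.commutator_mem_commutator hgQ hx'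
    have h5 := Subgroup.inv_mem _ h4
    have h6 : (⁅g, (x : Ω)⁻¹⁆)⁻¹ = (x : Ω)⁻¹ * (g * (x : Ω) * g⁻¹) := by
      rw [commutatorElement_def]; group
    rwa [h6] at h5
  · have : i = n := by omega
    subst this
    rw [hUn]
    have hxS : (x : Ω) ∈ S := hTS x.2
    have h1 : (x : Ω)⁻¹ * g * ((x : Ω)⁻¹)⁻¹ ∈ Q :=
      (Subgroup.mem_normalizer_iff.1 (hQn (S.inv_mem hxS)) g).1 hgQ
    have h2 : (x : Ω)⁻¹ * (g * (x : Ω) * g⁻¹) = ((x : Ω)⁻¹ * g * ((x : Ω)⁻¹)⁻¹) * g⁻¹ := by group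
    rw [h2]
    exact Q.mul_mem h1 (Q.inv_mem hgQ)

/-- The images in the ambient group of the terms of the upper central series of a subgroup. -/
theorem comm_upperCentralSeries_le (Q : Subgroup Ω) (i : ℕ) :
    ⁅Q, (Subgroup.upperCentralSeries Q (i + 1)).map Q.subtype⁆ ≤ (Subgroup.upperCentralSeries Q i).map Q.subtype := by
  have h1 : ⁅(⊤ : Subgroup Q), Subgroup.upperCentralSeries Q (i + 1)⁆ ≤
      Subgroup.upperCentralSeries Q i := by
    rw [Subgroup.commutator_comm]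
    exact Subgroup.commutator_upperCentralSeries_top_le Q i
  have h2 : (⊤ : Subgroup Q).map Q.subtype = Q := by
    rw [← MonoidHom.range_eq_map, Subgroup.range_subtype]
  have h3 : ⁅Q, (Subgroup.upperCentralSeries Q (i + 1)).map Q.subtype⁆ =
      ⁅(⊤ : Subgroup Q).map Q.subtype, (Subgroup.upperCentralSeries Q (i + 1)).map Q.subtype⁆ := by
    rw [h2]
  rw [h3, ← Subgroup.map_commutator]
  exact Subgroup.map_mono h1

end Cfsg.Agent.Lib.H25
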