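import Mathlib
import Cfsg.Prelude.Def_OddOrderLocal
import Cfsg.Prelude.Def_CaseTheorems
import Cfsg.Prelude.Def_PLocal
import Cfsg.Agent.Lib.H19.R2Defs

/-!
# S3888 piece R2 B1' (helper25): `mnm_agemo_max`

In a minimal nonmetacyclic `p`-group with `|G : LB| = p³` and `G^p ≤ LB`, every maximal subgroup `M`
has `℧₁(M) = LB`.
-/

set_option autoImplicit false

namespace Cfsg.Agent.Lib.H25.R2

open Cfsg Cfsg.Agent.Lib.H19.R2
open scoped commutatorElement

universe u

variable {p : ℕ} [Fact p.Prime] {G : Type u} [Group G] [Finite G]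

omit [Fact p.Prime] [Finite G] in
/-- `LB p G ≤ G'` -/
theorem b1p_LB_le_commutator : LB p G ≤ commutator G := by
  unfold LB
  refine sup_le ?_ ?_
  · exact agemoOf_le fun d hd => Subgroup.pow_mem _ hd p
  · rw [← Subgroup.top_lowerCentralSeries_one]
    exact Subgroup.lowerCentralSeries_antitone _ (by norm_num)

/-- a subgroup of index `p` of a finite `p`-group contains the derived subgroup -/
theorem b1p_commutator_le_of_index (hG : IsPGroup p G) (M : Subgroup G) (hM : M.index = p) :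
    commutator G ≤ M := by
  have hpp : p.Prime := Fact.out
  obtain ⟨n, hn⟩ := (IsPGroup.iff_card).mp hG
  have hn0 : n ≠ 0 := by
    rintro rfl
    have h1 : M.index ∣ Nat.card G := Subgroup.index_dvd_card M
    rw [hn, pow_zero, hM, Nat.dvd_one] at h1
    exact hpp.one_lt.ne' h1
  have hMn : M.Normal := by
    apply Subgroup.normal_of_index_eq_minFac_card
    rw [hM, hn, hpp.pow_minFac hn0]
  have hcard : Nat.card (G ⧸ M) = p := by rw [← Subgroup.index_eq_card, hM]
  have hcyc : IsCyclic (G ⧸ M) := isCyclic_of_prime_card hcard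
  have hcomm : ∀ a b : G ⧸ M, a * b = b * a := fun a b => (IsCyclic.commGroup).mul_comm a b
  rw [commutator_def, Subgroup.commutator_le]
  intro x _ y _
  rw [← QuotientGroup.eq_one_iff, commutatorElement_def]
  simp only [QuotientGroup.mk_mul, QuotientGroup.mk_inv]
  rw [hcomm (x : G ⧸ M) (y : G ⧸ M)]
  group

/-- **B1'.** -/
theorem mnm_agemo_max (hG : IsPGroup p G) (h : MNM G) (hidx : (LB p G).index = p ^ 3)
    (hpow : ∀ g : G, g ^ p ∈ LB p G)
    (hupe : ∀ M : Subgroup G, Cfsg.IsMetacyclic ↥M → (agemo p ↥M).index ≤ p ^ 2)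
    (M : Subgroup G) (hM : M.index = p) : agemoOf p M = LB p G := by
  have hpp : p.Prime := Fact.out
  have hle : agemoOf p M ≤ LB p G := agemoOf_le fun d _ => hpow d
  have hMne : M ≠ ⊤ := by
    intro h1
    rw [h1, Subgroup.index_top] at hM
    exact hpp.one_lt.ne hM
  have hMmc : Cfsg.IsMetacyclic ↥M := h.2 M hMne
  have h2 := hupe M hMmc
  have hmap : agemoOf p M = (agemo p ↥M).map M.subtype := by
    unfold agemo
    rw [map_agemoOf, ← MonoidHom.range_eq_map, Subgroup.range_subtype]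
  have hcA : Nat.card ↥(agemoOf p M) = Nat.card ↥(agemo p ↥M) := by
    rw [hmap]
    exact Subgroup.card_map_of_injective M.subtype_injective
  have hc1 : Nat.card ↥(agemo p ↥M) * (agemo p ↥M).index = Nat.card ↥M :=
    Subgroup.card_mul_index _
  have hc2 : Nat.card ↥M * p = Nat.card G := hM ▸ Subgroup.card_mul_index M
  have hc3 : Nat.card ↥(LB p G) * p ^ 3 = Nat.card G := hidx ▸ Subgroup.card_mul_index (LB p G)
  have hc4 : Nat.card ↥M = Nat.card ↥(LB p G) * p ^ 2 := by
    apply Nat.eq_of_mul_eq_mul_right hpp.pos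
    rw [hc2, ← hc3]; ring
  have hc5 : Nat.card ↥(LB p G) ≤ Nat.card ↥(agemoOf p M) := by
    rw [hcA]
    have h3 : Nat.card ↥(LB p G) * p ^ 2 ≤ Nat.card ↥(agemo p ↥M) * p ^ 2 := by
      rw [← hc4, ← hc1]
      exact Nat.mul_le_mul_left _ h2
    exact Nat.le_of_mul_le_mul_right h3 (pow_pos hpp.pos 2)
  exact Subgroup.eq_of_le_of_card_ge hle hc5

end Cfsg.Agent.Lib.H25.R2
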