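import Mathlib

/-!
# S3017 (Shult), CASE B (`N_G(H)` transitive on `H#`): the pure arithmetic endgame (helper25)

`s` = the principal 2-block as a Finset, `i₀` = the trivial character, `q = |H| ≥ 4`, `d i = χ(a)` (an integer,
`a ∈ H#`), `f i = χ(1)`, `R i` = the (real) average of `χ(a g a g⁻¹)` over the `g` with `a g a g⁻¹` of odd order.
* `hCS`  : the class-sum identity at `b = a`: `d²/f = ((q-2) d + R)/(q-1)`;
* `hEV`  : the eigenvalue bound `R ≥ 2 d - f`;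
* `hORTH`: block orthogonality `∑ d R = 0`;
* `hmult`: `(f - d)/q` is the multiplicity of a nontrivial linear character of `H` in `χ|_H`.
-/

set_option autoImplicit false

namespace Cfsg.Agent.Lib.H25.SH

/-- the integer inequality behind one term: `t = d² ((q-2) f - (q-1) d) / f > 1` when `d ≠ 0` -/
theorem term_gt_one (q : ℤ) (hq : 4 ≤ q) (d f : ℤ) (hf : 0 < f) (hd : d ≠ 0) (hlt : d < f)
    (hev : 0 ≤ ((q - 1) * d - f) * (d - f)) (hmult : q ∣ f - d) :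
    f < d ^ 2 * ((q - 2) * f - (q - 1) * d) := by
  -- `(q-1) d ≤ f`
  have hu : (q - 1) * d - f ≤ 0 := by
    by_contra hcon
    push Not at hcon
    have h1 : d - f < 0 := by linarith
    have := mul_neg_of_pos_of_neg hcon h1
    linarith
  have hd2 : 1 ≤ d ^ 2 := by
    have : 0 < d ^ 2 := by positivity
    linarith
  -- `(q-2) f - (q-1) d = (q-3) f + u`, `u = f - (q-1) d ≥ 0`
  have hbase : f ≤ (q - 2) * f - (q - 1) * d := by nlinarith
  rcases eq_or_lt_of_le hd2 with h1 | h2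
  · -- `d² = 1`
    rw [← h1, one_mul]
    rcases eq_or_lt_of_le hq with h4 | h5
    · -- `q = 4`
      subst h4
      by_contra hcon
      push Not at hcon
      -- `u = 0`, i.e. `f = 3 d`
      have hf3 : f = 3 * d := by linarith
      have hd1 : d = 1 := by
        have hdpos : 0 < d := by linarith
        have : d ^ 2 = 1 := h1.symm
        nlinarith
      subst hd1
      rw [hf3] at hmult
      norm_num at hmult
    · nlinarith
  · -- `d² ≥ 2`
    have h2' : 2 ≤ d ^ 2 := h2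
    nlinarith

/-- (ENDB) the arithmetic contradiction of CASE B -/
theorem endB_arith {ι : Type*} (s : Finset ι) (i₀ : ι) (hi₀ : i₀ ∈ s) (q : ℕ) (hq : 4 ≤ q)
    (d : ι → ℤ) (f : ι → ℕ) (R : ι → ℝ)
    (hf : ∀ i ∈ s, 0 < f i) (hd0 : d i₀ = 1) (hf0 : f i₀ = 1)
    (hdf : ∀ i ∈ s, i ≠ i₀ → d i ≠ f i) (hdle : ∀ i ∈ s, d i ≤ f i)
    (hmult : ∀ i ∈ s, (q : ℤ) ∣ (f i : ℤ) - d i)
    (hCS : ∀ i ∈ s, ((q : ℝ) - 1) * (d i : ℝ) ^ 2 = (f i : ℝ) * (((q : ℝ) - 2) * (d i : ℝ) + R i))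
    (hEV : ∀ i ∈ s, 2 * (d i : ℝ) - (f i : ℝ) ≤ R i)
    (hORTH : ∑ i ∈ s, (d i : ℝ) * R i = 0) : False := by
  classical
  have hqZ : (4 : ℤ) ≤ (q : ℤ) := by exact_mod_cast hq
  -- the trivial term
  have hR0 : (d i₀ : ℝ) * R i₀ = 1 := by
    have h := hCS i₀ hi₀
    rw [hd0, hf0] at h
    rw [hd0]
    push_cast at h ⊢
    linarith
  -- the other terms
  have hterm : ∀ i ∈ s.erase i₀, (d i : ℝ) * R i ≤ 0 ∧ ((d i : ℝ) * R i = 0 ∨ (d i : ℝ) * R i < -1) := by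
    intro i hi
    obtain ⟨hne, his⟩ := Finset.mem_erase.1 hi
    have hfpos : (0 : ℝ) < (f i : ℝ) := by exact_mod_cast hf i his
    have hcs := hCS i his
    have hev := hEV i his
    by_cases hd : d i = 0
    · simp [hd]
    · have hlt : d i < (f i : ℤ) := lt_of_le_of_ne (hdle i his) (hdf i his hne)
      -- `f R = (q-1) d² - (q-2) d f`
      have hfR : (f i : ℝ) * R i = ((q : ℝ) - 1) * (d i : ℝ) ^ 2 - ((q : ℝ) - 2) * (d i : ℝ) * (f i : ℝ) := by
        linarith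
      -- eigenvalue bound in integers
      have hevR : (0 : ℝ) ≤ (((q : ℝ) - 1) * (d i : ℝ) - (f i : ℝ)) * ((d i : ℝ) - (f i : ℝ)) := by
        have h1 : (f i : ℝ) * (2 * (d i : ℝ) - (f i : ℝ)) ≤ (f i : ℝ) * R i :=
          mul_le_mul_of_nonneg_left hev hfpos.le
        nlinarith
      have hevZ : (0 : ℤ) ≤ (((q : ℤ) - 1) * d i - (f i : ℤ)) * (d i - (f i : ℤ)) := by
        exact_mod_cast hevR
      have hkey := term_gt_one (q : ℤ) hqZ (d i) (f i : ℤ) (by exact_mod_cast hf i his) hd hlt hevZ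
        (hmult i his)
      have hkeyR : (f i : ℝ) < (d i : ℝ) ^ 2 * (((q : ℝ) - 2) * (f i : ℝ) - ((q : ℝ) - 1) * (d i : ℝ)) := by
        exact_mod_cast hkey
      -- `f * (d R) = - d² ((q-2) f - (q-1) d) < - f`
      have hfdR : (f i : ℝ) * ((d i : ℝ) * R i) =
          -((d i : ℝ) ^ 2 * (((q : ℝ) - 2) * (f i : ℝ) - ((q : ℝ) - 1) * (d i : ℝ))) := by
        have : (f i : ℝ) * ((d i : ℝ) * R i) = (d i : ℝ) * ((f i : ℝ) * R i) := by ring
        rw [this, hfR]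
        ring
      have hlt1 : (f i : ℝ) * ((d i : ℝ) * R i) < (f i : ℝ) * (-1) := by
        rw [hfdR]
        linarith
      have hlt2 : (d i : ℝ) * R i < -1 := lt_of_mul_lt_mul_left hlt1 hfpos.le
      exact ⟨by linarith, Or.inr hlt2⟩
  have hsum : ∑ i ∈ s.erase i₀, (d i : ℝ) * R i = -1 := by
    have h := Finset.add_sum_erase s (fun i => (d i : ℝ) * R i) hi₀
    rw [hORTH, hR0] at h
    linarith
  by_cases hall : ∀ i ∈ s.erase i₀, (d i : ℝ) * R i = 0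
  · rw [Finset.sum_eq_zero hall] at hsum
    norm_num at hsum
  · push Not at hall
    obtain ⟨i₁, hi₁, hne⟩ := hall
    have hlt : (d i₁ : ℝ) * R i₁ < -1 := by
      rcases (hterm i₁ hi₁).2 with h | h
      · exact absurd h hne
      · exact h
    have hrest : ∑ i ∈ (s.erase i₀).erase i₁, (d i : ℝ) * R i ≤ 0 :=
      Finset.sum_nonpos fun i hi => (hterm i (Finset.mem_of_mem_erase hi)).1
    have h := Finset.add_sum_erase (s.erase i₀) (fun i => (d i : ℝ) * R i) hi₁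
    rw [hsum] at h
    linarith

/-- (ENDB) the same over a set `B` of a finite type, with a `finsum` (the shape of sums over `principalBlock M G`) -/
theorem endB_arith_finsum {ι : Type*} [Finite ι] (B : Set ι) (i₀ : ι) (hi₀ : i₀ ∈ B) (q : ℕ) (hq : 4 ≤ q)
    (d : ι → ℤ) (f : ι → ℕ) (R : ι → ℝ)
    (hf : ∀ i ∈ B, 0 < f i) (hd0 : d i₀ = 1) (hf0 : f i₀ = 1)
    (hdf : ∀ i ∈ B, i ≠ i₀ → d i ≠ f i) (hdle : ∀ i ∈ B, d i ≤ f i)
    (hmult : ∀ i ∈ B, (q : ℤ) ∣ (f i : ℤ) - d i)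
    (hCS : ∀ i ∈ B, ((q : ℝ) - 1) * (d i : ℝ) ^ 2 = (f i : ℝ) * (((q : ℝ) - 2) * (d i : ℝ) + R i))
    (hEV : ∀ i ∈ B, 2 * (d i : ℝ) - (f i : ℝ) ≤ R i)
    (hORTH : ∑ᶠ i ∈ B, (d i : ℝ) * R i = 0) : False := by
  have hB : B.Finite := Set.toFinite B
  have hmem : ∀ i, i ∈ hB.toFinset ↔ i ∈ B := fun i => Set.Finite.mem_toFinset hB
  refine endB_arith hB.toFinset i₀ ((hmem i₀).2 hi₀) q hq d f R
    (fun i hi => hf i ((hmem i).1 hi)) hd0 hf0 (fun i hi => hdf i ((hmem i).1 hi))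
    (fun i hi => hdle i ((hmem i).1 hi)) (fun i hi => hmult i ((hmem i).1 hi))
    (fun i hi => hCS i ((hmem i).1 hi)) (fun i hi => hEV i ((hmem i).1 hi)) ?_
  rw [← finsum_mem_eq_finite_toFinset_sum _ hB]
  exact hORTH

end Cfsg.Agent.Lib.H25.SH
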