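import Cfsg.Agent.S0925
import Cfsg.Agent.Lib.H23.BlockPrincipal
import Cfsg.Agent.Lib.L0.PrincipalBrauerPair

/-!
# S1951 piece PSI (helper25): the class function `Ψ = ∑_{χ ∈ B₀} χ(a⁻¹) χ` of the principal block

For a `p`-element `a ≠ 1`: `Ψ` vanishes at the `p`-regular elements (block orthogonality, landed S0925 (ii));
if every `χ ∈ B₀` is constant `= χ a` on the `p`-singular elements and these number `|G| / t`, then
`Ψ(a) = ∑_{χ ∈ B₀} χ(a) χ(a⁻¹) = t` (inner product of `Ψ` with the trivial character).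
-/

set_option autoImplicit false

namespace Cfsg.Agent.Lib.H25.AE

open Cfsg
open scoped ComplexConjugate

variable {G : Type*} [Group G] [Finite G] {p : ℕ} [Fact p.Prime] {M : Ideal AlgInt}

/-- `Ψ` vanishes at the `p`-regular elements. -/
theorem psi_eq_zero_of_regular (hM : IsPModular p M) (a : G) (ha1 : a ≠ 1)
    (hap : ∃ k : ℕ, orderOf a = p ^ k) (g : G) (hg : ¬ p ∣ orderOf g) :
    ∑ᶠ χ ∈ principalBlock M G, (χ : G → ℂ) g * (χ : G → ℂ) a⁻¹ = 0 := by
  have hp : p.Prime := Fact.out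
  refine (Cfsg.Agent.S0925.result p M hM).2 g a 1 a ?_ ?_ ?_ (principalBlock M G)
    (Cfsg.Agent.Lib.L0.PrincipalBrauerPair.isPBlock_principalBlock M G)
  · exact ⟨g, one_mul g, Commute.one_left g, ⟨0, by simp⟩, hg⟩
  · refine ⟨1, mul_one a, Commute.one_right a, hap, ?_⟩
    rw [orderOf_one]
    exact hp.one_lt.ne' ∘ Nat.dvd_one.1
  · intro h
    apply ha1
    obtain ⟨c, hc⟩ := isConj_iff.1 h
    rw [← hc]
    group

/-- `Ψ(1) = 0`. -/
theorem psi_one_eq_zero (hM : IsPModular p M) (a : G) (ha1 : a ≠ 1)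
    (hap : ∃ k : ℕ, orderOf a = p ^ k) :
    ∑ᶠ χ ∈ principalBlock M G, (χ : G → ℂ) 1 * (χ : G → ℂ) a⁻¹ = 0 := by
  have hp : p.Prime := Fact.out
  refine psi_eq_zero_of_regular hM a ha1 hap 1 ?_
  rw [orderOf_one]
  exact hp.one_lt.ne' ∘ Nat.dvd_one.1

/-- `∑_{χ ∈ B₀} χ(a) χ(a⁻¹) = t`. -/
theorem psi_self_eq (hM : IsPModular p M) (a : G) (ha1 : a ≠ 1)
    (hap : ∃ k : ℕ, orderOf a = p ^ k) (t : ℕ)
    (hconst : ∀ χ ∈ principalBlock M G, ∀ g : G, p ∣ orderOf g → (χ : G → ℂ) g = (χ : G → ℂ) a)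
    (hcount : Nat.card {g : G // p ∣ orderOf g} * t = Nat.card G) :
    ∑ᶠ χ ∈ principalBlock M G, (χ : G → ℂ) a * (χ : G → ℂ) a⁻¹ = (t : ℂ) := by
  classical
  let _ : Fintype G := Fintype.ofFinite G
  let _ : Fintype (IrrCharacter G) := Fintype.ofFinite _
  have hp : p.Prime := Fact.out
  have hPr : M.IsPrime := Cfsg.Agent.Lib.H23.isPrime_of_isPModular hM
  set B := principalBlock M G with hB
  set c : ℂ := ∑ᶠ χ ∈ B, (χ : G → ℂ) a * (χ : G → ℂ) a⁻¹ with hc
  -- `Ψ` as a function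
  set Ψ : G → ℂ := fun g => ∑ᶠ χ ∈ B, (χ : G → ℂ) g * (χ : G → ℂ) a⁻¹ with hΨ
  have hΨreg : ∀ g : G, ¬ p ∣ orderOf g → Ψ g = 0 := fun g hg =>
    psi_eq_zero_of_regular hM a ha1 hap g hg
  have hΨsing : ∀ g : G, p ∣ orderOf g → Ψ g = c := by
    intro g hg
    simp only [hΨ, hc]
    refine finsum_mem_congr rfl fun χ hχ => ?_
    rw [hconst χ hχ g hg]
  -- the sum of `Ψ` over `G`, first way
  have hsum1 : ∑ g : G, Ψ g = (Nat.card {g : G // p ∣ orderOf g} : ℂ) * c := by
    have h1 : ∀ g : G, Ψ g = if p ∣ orderOf g then c else 0 := by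
      intro g
      split_ifs with h
      · exact hΨsing g h
      · exact hΨreg g h
    simp only [h1]
    rw [Finset.sum_ite, Finset.sum_const_zero, add_zero, Finset.sum_const, nsmul_eq_mul,
      Nat.card_eq_fintype_card, Fintype.card_subtype]
  -- second way
  have hΨfin : ∀ g : G, Ψ g = ∑ χ : IrrCharacter G,
      if χ ∈ B then (χ : G → ℂ) g * (χ : G → ℂ) a⁻¹ else 0 := by
    intro g
    simp only [hΨ]
    rw [finsum_eq_sum_of_fintype]
    exact Finset.sum_congr rfl fun χ _ => finsum_eq_if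
  have hortho : ∀ χ : IrrCharacter G, ∑ g : G, (χ : G → ℂ) g =
      if χ = Cfsg.Agent.Lib.H24.trivialIrr G then (Nat.card G : ℂ) else 0 := by
    intro χ
    have h := Cfsg.Agent.Lib.H24.irr_orthonormal χ (Cfsg.Agent.Lib.H24.trivialIrr G)
    unfold classInner at h
    have hG0 : (Nat.card G : ℂ) ≠ 0 := by exact_mod_cast (Nat.card_pos (α := G)).ne'
    have h2 : ∑ g : G, (χ : G → ℂ) g * conj ((Cfsg.Agent.Lib.H24.trivialIrr G : G → ℂ) g) =
        ∑ g : G, (χ : G → ℂ) g := by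
      refine Finset.sum_congr rfl fun g _ => ?_
      rw [Cfsg.Agent.Lib.H24.trivialIrr_apply, map_one, mul_one]
    rw [h2] at h
    split_ifs with hχ
    · rw [if_pos hχ] at h
      field_simp at h
      exact h
    · rw [if_neg hχ] at h
      rcases mul_eq_zero.1 h with h3 | h3
      · exact absurd (inv_eq_zero.1 h3) hG0
      · exact h3
  have hsum2 : ∑ g : G, Ψ g = (Nat.card G : ℂ) := by
    simp only [hΨfin]
    rw [Finset.sum_comm]
    have h1 : ∀ χ : IrrCharacter G, ∑ g : G,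
        (if χ ∈ B then (χ : G → ℂ) g * (χ : G → ℂ) a⁻¹ else 0) =
        if χ = Cfsg.Agent.Lib.H24.trivialIrr G then (Nat.card G : ℂ) else 0 := by
      intro χ
      by_cases hχ : χ ∈ B
      · simp only [if_pos hχ]
        rw [← Finset.sum_mul, hortho χ]
        split_ifs with h
        · rw [h, Cfsg.Agent.Lib.H24.trivialIrr_apply, mul_one]
        · rw [zero_mul]
      · simp only [if_neg hχ]
        rw [Finset.sum_const_zero, if_neg]
        intro h
        apply hχ
        rw [h]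
        exact Cfsg.Agent.Lib.H23.trivialIrr_mem_principalBlock
    simp only [h1]
    rw [Finset.sum_ite_eq' Finset.univ (Cfsg.Agent.Lib.H24.trivialIrr G), if_pos (Finset.mem_univ _)]
  -- compare
  have hN0 : (Nat.card {g : G // p ∣ orderOf g} : ℂ) ≠ 0 := by
    have hmem : p ∣ orderOf a := by
      obtain ⟨k, hk⟩ := hap
      rw [hk]
      refine dvd_pow_self p ?_
      rintro rfl
      rw [pow_zero, orderOf_eq_one_iff] at hk
      exact ha1 hk
    have : Nonempty {g : G // p ∣ orderOf g} := ⟨⟨a, hmem⟩⟩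
    exact_mod_cast (Nat.card_pos (α := {g : G // p ∣ orderOf g})).ne'
  have hcountC : (Nat.card {g : G // p ∣ orderOf g} : ℂ) * (t : ℂ) = (Nat.card G : ℂ) := by
    exact_mod_cast hcount
  have := hsum1.symm.trans hsum2
  rw [← hcountC] at this
  exact mul_left_cancel₀ hN0 this

end Cfsg.Agent.Lib.H25.AE
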