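import Mathlib
import Cfsg.Agent.Lib.H3.DF0

/-!
# S4316 piece D1 (helper25): two planes of `A` meet nontrivially
-/

set_option autoImplicit false

universe u

namespace Cfsg.Agent.Lib.H25.DF

open Subgroup Cfsg.Agent.Lib.H3.DF
open scoped commutatorElement Pointwise

variable {Γ : Type u} [Group Γ] [Finite Γ]

/-- D1. Two planes of `A` meet nontrivially (`|B ∩ B'| |B B'| = q^4`, `B B' ⊆ A`, `|A| = q^3`;
product formula: `Cfsg.Agent.Lib.H16.card_mul_set`). -/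
theorem exists_mem_inf_ne_one {q : ℕ} [Fact q.Prime] (A B B' : Subgroup Γ) (hA : IsE3 q A)
    (hB : IsPlane q A B) (hB' : IsPlane q A B') : ∃ c, c ∈ B ∧ c ∈ B' ∧ c ≠ 1 := by
  have hq : q.Prime := Fact.out
  have hq0 : 0 < q := hq.pos
  have hprod := Cfsg.Agent.Lib.H16.card_mul_set B B'
  rw [hB.2, hB'.2] at hprod
  have hsub : ((B : Set Γ) * (B' : Set Γ) : Set Γ) ⊆ (A : Set Γ) := by
    intro z hz
    obtain ⟨s, hs, t, ht, rfl⟩ := Set.mem_mul.1 hz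
    exact A.mul_mem (hB.1 hs) (hB'.1 ht)
  have hle : Nat.card ((B : Set Γ) * (B' : Set Γ) : Set Γ) ≤ q ^ 3 := by
    have h1 : Nat.card ((B : Set Γ) * (B' : Set Γ) : Set Γ) ≤ Nat.card ((A : Set Γ)) :=
      Nat.card_mono (Set.toFinite _) hsub
    have h2 : Nat.card ((A : Set Γ)) = q ^ 3 := hA.card
    omega
  -- `q^4 ≤ q^3 * |B ⊓ B'|`
  have hlt : 1 < Nat.card ↥(B ⊓ B') := by
    by_contra hcon
    have h1 : Nat.card ↥(B ⊓ B') ≤ 1 := by omega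
    have h2 : q ^ 2 * q ^ 2 ≤ q ^ 3 * 1 :=
      calc q ^ 2 * q ^ 2 = Nat.card ((B : Set Γ) * (B' : Set Γ) : Set Γ) * Nat.card ↥(B ⊓ B') := hprod.symm
        _ ≤ q ^ 3 * 1 := Nat.mul_le_mul hle h1
    have h3 : q ^ 3 * q ≤ q ^ 3 * 1 := by
      calc q ^ 3 * q = q ^ 2 * q ^ 2 := by ring
        _ ≤ q ^ 3 * 1 := h2
    have h4 : q ≤ 1 := Nat.le_of_mul_le_mul_left h3 (Nat.pow_pos hq0)
    exact absurd hq.one_lt (by omega)
  have hne : B ⊓ B' ≠ ⊥ := (Subgroup.one_lt_card_iff_ne_bot (B ⊓ B')).1 hlt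
  obtain ⟨a, ha⟩ : ∃ a : ↥(B ⊓ B'), a ≠ 1 := Subgroup.ne_bot_iff_exists_ne_one.1 hne
  exact ⟨(a : Γ), (Subgroup.mem_inf.1 a.2).1, (Subgroup.mem_inf.1 a.2).2,
    fun h => ha (Subtype.ext h)⟩

end Cfsg.Agent.Lib.H25.DF
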