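import Mathlib
import Cfsg.Agent.Lib.H3.DF0
import Cfsg.Agent.Lib.H25.DFD1

/-!
# S4316 piece D5 (helper25): commutators of `C_G(B)` and `C_G(B')` lie in one `K_c`
-/

set_option autoImplicit false

universe u

namespace Cfsg.Agent.Lib.H25.DF

open Subgroup Cfsg.Agent.Lib.H3.DF
open scoped commutatorElement

variable {Γ : Type u} [Group Γ] [Finite Γ]

omit [Finite Γ] in
/-- `C_G(B) ≤ C_G(c)` for `c ∈ B`. -/
theorem HB_le_Gc_of_mem (G : Subgroup Γ) {B : Subgroup Γ} {c : Γ} (hc : c ∈ B) : HB G B ≤ Gc G c := by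
  intro x hx
  have hx' := Subgroup.mem_inf.1 hx
  refine Subgroup.mem_inf.2 ⟨hx'.1, ?_⟩
  rw [Subgroup.mem_centralizer_iff]
  intro t ht
  rw [Set.mem_singleton_iff] at ht
  subst ht
  exact (Subgroup.mem_centralizer_iff.1 hx'.2) t hc

/-- D5. Commutators of elements of `C_G(B)` and `C_G(B')` lie in one `K_c`. (D1.) -/
theorem exists_commutator_mem_Kc {q m : ℕ} [Fact q.Prime] {G A : Subgroup Γ} (h : DHyp q m G A)
    {B B' : Subgroup Γ} (hB : IsPlane q A B) (hB' : IsPlane q A B') :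
    ∃ c ∈ A, c ≠ 1 ∧ ∀ x ∈ HB G B, ∀ k ∈ HB G B', ⁅x, k⁆ ∈ Kc G c := by
  obtain ⟨c, hcB, hcB', hc1⟩ := exists_mem_inf_ne_one A B B' h.e3 hB hB'
  refine ⟨c, hB.1 hcB, hc1, ?_⟩
  intro x hx k hk
  exact Subgroup.commutator_mem_commutator (HB_le_Gc_of_mem G hcB hx) (HB_le_Gc_of_mem G hcB' hk)

end Cfsg.Agent.Lib.H25.DF
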