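import Mathlib
import Cfsg.Agent.Lib.H3.DF0

/-!
# S4316 piece D7 (core, helper25): orbit-stabilizer count for `C_G(B)` acting on `k`

`card_le_card_mul_card_inf_of_fibres`: a map `f : H → β` whose fibres lie in left cosets of `C`
gives `|H| ≤ |β| |H ∩ C|`.  `card_HB_le_mul_centralizer_of`: D7 with the conclusion of D5 as a hypothesis.
-/

set_option autoImplicit false

universe u v

namespace Cfsg.Agent.Lib.H25.DF

open Subgroup Cfsg.Agent.Lib.H3.DF
open scoped commutatorElement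

variable {Γ : Type u} [Group Γ] [Finite Γ]

omit [Finite Γ] in
/-- If the fibres of `f : H → β` lie in left cosets of `C` then `|H| ≤ |β| |H ∩ C|`. -/
theorem card_le_card_mul_card_inf_of_fibres (H C : Subgroup Γ) {β : Type v} [Finite β] (f : ↥H → β)
    (hf : ∀ x y : ↥H, f x = f y → (x : Γ)⁻¹ * (y : Γ) ∈ C) :
    Nat.card ↥H ≤ Nat.card β * Nat.card ↥(H ⊓ C) := by
  classical
  have hcardK : Nat.card ↥(C.subgroupOf H) = Nat.card ↥(H ⊓ C) := by
    have h1 : C.subgroupOf H = (H ⊓ C).subgroupOf H := by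
      rw [Subgroup.inf_subgroupOf_left]
    rw [h1]
    exact Nat.card_congr (Subgroup.subgroupOfEquivOfLe (inf_le_left : H ⊓ C ≤ H)).toEquiv
  have hidx : (C.subgroupOf H).index ≤ Nat.card β := by
    rw [Subgroup.index]
    let g : (↥H ⧸ C.subgroupOf H) → β := fun t => f t.out
    have hg : Function.Injective g := by
      intro t t' htt
      have h2 : ((t.out : ↥H) : Γ)⁻¹ * ((t'.out : ↥H) : Γ) ∈ C := hf _ _ htt
      have h3 : (t.out : ↥H)⁻¹ * (t'.out : ↥H) ∈ C.subgroupOf H := by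
        rw [Subgroup.mem_subgroupOf]
        simpa using h2
      have h4 : ((t.out : ↥H) : ↥H ⧸ C.subgroupOf H) = ((t'.out : ↥H) : ↥H ⧸ C.subgroupOf H) :=
        QuotientGroup.eq.mpr h3
      simpa using h4
    exact Nat.card_le_card_of_injective g hg
  calc Nat.card ↥H = (C.subgroupOf H).index * Nat.card ↥(C.subgroupOf H) :=
        (Subgroup.index_mul_card (C.subgroupOf H)).symm
    _ ≤ Nat.card β * Nat.card ↥(H ⊓ C) := by
        rw [hcardK]; exact Nat.mul_le_mul_right _ hidx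

/-- D7 with the conclusion of D5 as a hypothesis. -/
theorem card_HB_le_mul_centralizer_of {q m : ℕ} {G A : Subgroup Γ} (h : DHyp q m G A)
    {B B' : Subgroup Γ}
    (hD5 : ∃ c ∈ A, c ≠ 1 ∧ ∀ x ∈ HB G B, ∀ k ∈ HB G B', ⁅x, k⁆ ∈ Kc G c)
    {k : Γ} (hk : k ∈ HB G B') :
    Nat.card ↥(HB G B) ≤ m * Nat.card ↥(HB G B ⊓ centralizer {k}) := by
  obtain ⟨c, hcA, hc1, hc⟩ := hD5
  have hsmall : Nat.card ↥(Kc G c) ≤ m := h.small c hcA hc1
  let f : ↥(HB G B) → ↥(Kc G c) := fun x => ⟨⁅(x : Γ), k⁆, hc x x.2 k hk⟩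
  have hf : ∀ x y : ↥(HB G B), f x = f y → (x : Γ)⁻¹ * (y : Γ) ∈ centralizer ({k} : Set Γ) := by
    intro x y hxy
    have h1 : ⁅(x : Γ), k⁆ = ⁅(y : Γ), k⁆ := congrArg Subtype.val hxy
    rw [commutatorElement_def, commutatorElement_def] at h1
    have h2 : (x : Γ) * k * (x : Γ)⁻¹ = (y : Γ) * k * (y : Γ)⁻¹ := mul_right_cancel h1
    rw [Subgroup.mem_centralizer_iff]
    intro t ht
    rw [Set.mem_singleton_iff] at ht
    subst ht
    -- `t * (x⁻¹ y) = (x⁻¹ y) * t`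
    have h3 : t = (x : Γ)⁻¹ * ((y : Γ) * t * (y : Γ)⁻¹) * (x : Γ) := by
      rw [← h2]; group
    calc t * ((x : Γ)⁻¹ * (y : Γ))
        = ((x : Γ)⁻¹ * ((y : Γ) * t * (y : Γ)⁻¹) * (x : Γ)) * ((x : Γ)⁻¹ * (y : Γ)) := by rw [← h3]
      _ = (x : Γ)⁻¹ * (y : Γ) * t := by group
  calc Nat.card ↥(HB G B)
      ≤ Nat.card ↥(Kc G c) * Nat.card ↥(HB G B ⊓ centralizer {k}) :=
        card_le_card_mul_card_inf_of_fibres (HB G B) (centralizer {k}) f hf
    _ ≤ m * Nat.card ↥(HB G B ⊓ centralizer {k}) := Nat.mul_le_mul_right _ hsmall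

end Cfsg.Agent.Lib.H25.DF
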