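import Mathlib
import Cfsg.Agent.Lib.H3.DF0
import Cfsg.Agent.Lib.H25.DFD5
import Cfsg.Agent.Lib.H25.DFD7Core

/-!
# S4316 piece D7 (helper25): `|C_G(B)| ≤ m |C_{C_G(B)}(k)|` for `k ∈ C_G(B')`
-/

set_option autoImplicit false

universe u

namespace Cfsg.Agent.Lib.H25.DF

open Subgroup Cfsg.Agent.Lib.H3.DF
open scoped commutatorElement

variable {Γ : Type u} [Group Γ] [Finite Γ]

/-- D7. The `C_G(B)`-orbit of `k ∈ K_c ∩ C_G(B')` lies in `K_c' k` (D5): orbit–stabilizer. -/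
theorem card_HB_le_mul_centralizer {q m : ℕ} [Fact q.Prime] {G A : Subgroup Γ} (h : DHyp q m G A)
    {B B' : Subgroup Γ} (hB : IsPlane q A B) (hB' : IsPlane q A B') {k : Γ} (hk : k ∈ HB G B') :
    Nat.card ↥(HB G B) ≤ m * Nat.card ↥(HB G B ⊓ centralizer {k}) :=
  card_HB_le_mul_centralizer_of h (exists_commutator_mem_Kc h hB hB') hk

end Cfsg.Agent.Lib.H25.DF
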