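/-
Towards Oliver's lemma, part 3 (after AOV Lemma 1.20): an `F`-centric subgroup `P` with `P ∩ T` not
`E`-centric has an `F`-conjugate `P'` and an element of `C_T(P' ∩ T)` normalizing `P'` outside
`P'`; such a `P'` is not radical in any subsystem of `F` over `S`.
-/
import Mathlib
import Cfsg.Prelude.Def_FusionSystem
import Cfsg.Agent.S5251
set_option autoImplicit false

namespace Cfsg.Agent.Lib.H25.Oliver

open Cfsg Cfsg.FusionSystem Cfsg.Agent.Lib.H25 Cfsg.Agent.Lib.H26 Cfsg.Agent.S5251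

variable {Ω : Type*} [Group Ω] {S : Subgroup Ω}

theorem exists_bad [Finite S] {p : ℕ} [Fact p.Prime] (hS : IsPGroup p S) {F : FusionSystem S}
    (hF : F.IsSaturated p) {T : Subgroup Ω} {E : FusionSystem T} (hinv : E.IsInvariantIn F)
    {P : Subgroup Ω} (hP : F.IsCentric P) (hPT : ¬ E.IsCentric (P ⊓ T)) :
    ∃ (P' : Subgroup Ω) (f : Ω → Ω) (x : Ω), IsIso F P P' f ∧ x ∈ centralizerIn T (P' ⊓ T) ∧
      x ∉ P' ∧ x ∈ Subgroup.normalizer (P' : Set Ω) := by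
  have hT : F.StronglyClosed T := hinv.2.1
  have hTS : T ≤ S := hT.1
  have hPS : P ≤ S := hP.1
  have hfinP : Finite P := finite_of_le S hPS
  set Q := P ⊓ T with hQdef
  have hQT : Q ≤ T := inf_le_right
  have hQP : Q ≤ P := inf_le_left
  have hQS : Q ≤ S := hQT.trans hTS
  have hex : ∃ Q'', E.IsConj Q Q'' ∧ ¬ centralizerIn T Q'' ≤ Q'' := by
    by_contra h
    push Not at h
    exact hPT ⟨hQT, h⟩
  obtain ⟨Q'', ⟨φ₀, hφ₀, hφ₀r⟩, hC''⟩ := hex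
  have hFQQ'' : F.IsConj Q Q'' := ⟨φ₀, hinv.1 Q hφ₀, hφ₀r⟩
  obtain ⟨Q₁, hQQ₁, hQ₁fn⟩ := exists_fullyNormalized_conj F hQS
  obtain ⟨hfc, hfa⟩ := fullyNormalized_props hS hF hQ₁fn
  have hrec : F.IsReceptive Q₁ := isReceptive_of_fullyCentralized hS hF hfc
  have hQ₁S : Q₁ ≤ S := hQ₁fn.1
  obtain ⟨f, N', hf, hN', hfQ⟩ := exists_normalizer_map hS hfa hrec hQQ₁
  have hTn : S ≤ Subgroup.normalizer (T : Set Ω) := stronglyClosed_le_normalizer hT
  have hPN : P ≤ normalizerIn S Q := by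
    intro g hg
    refine ⟨hPS hg, ?_⟩
    show g ∈ Subgroup.normalizer (Q : Set Ω)
    rw [Subgroup.mem_normalizer_iff]
    intro x
    have hgT := Subgroup.mem_normalizer_iff.1 (hTn (hPS hg)) x
    constructor
    · rintro ⟨hxP, hxT⟩
      exact ⟨P.mul_mem (P.mul_mem hg hxP) (P.inv_mem hg), hgT.1 hxT⟩
    · rintro ⟨hxP, hxT⟩
      refine ⟨?_, hgT.2 hxT⟩
      have : x = g⁻¹ * (g * x * g⁻¹) * g := by group
      rw [this]
      exact P.mul_mem (P.mul_mem (P.inv_mem hg) hxP) hg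
  obtain ⟨P', hP'N', hfP, hP'mem⟩ := hf.restrict hPN
  have hP'S : P' ≤ S := hfP.le_right
  have hfinP' : Finite P' := finite_of_le S hP'S
  obtain ⟨g', hg', hg'f, hfg'⟩ := hfP.symm
  have hQ₁T : Q₁ ≤ T := stronglyClosed_image_le hT hfQ hQT
  have hQ₁P' : Q₁ ≤ P' := by
    intro y hy
    obtain ⟨x, hx, rfl⟩ := hfQ.surjOn hy
    exact hfP.map_mem (hQP hx)
  have hP'T : ∀ y, y ∈ P' → y ∈ T → y ∈ Q₁ := by
    intro y hyP' hyT
    obtain ⟨x, hx, rfl⟩ := hfP.surjOn hyP'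
    have hle : P' ⊓ T ≤ P' := inf_le_left
    obtain ⟨R, -, hR, -⟩ := hg'.restrict hle
    have h1 := stronglyClosed_map_mem hT hR inf_le_right (x := f x) ⟨hyP', hyT⟩
    rw [hg'f x hx] at h1
    exact hfQ.map_mem ⟨hx, h1⟩
  have hCQ₁ : ¬ centralizerIn T Q₁ ≤ Q₁ := by
    intro hle
    apply hC''
    have hQ''Q₁ : F.IsConj Q'' Q₁ := isConj_trans F (isConj_symm F hFQQ'') hQQ₁
    obtain ⟨ψ₀, hψ₀, hψ₀r⟩ := hQ''Q₁
    have hQ''S : Q'' ≤ S := hom_le F hψ₀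
    obtain ⟨ψ, hψ, hψψ₀⟩ := hrec.2 Q'' ψ₀ hψ₀ hψ₀r
    have hQ''ext : Q'' ≤ extender S Q'' ψ₀ := le_extender F hψ₀
    intro c hc
    have hcext : c ∈ extender S Q'' ψ₀ :=
      centralizerIn_le_extender S Q'' ψ₀ ⟨hTS hc.1, hc.2⟩
    have hψcT : ψ ⟨c, hcext⟩ ∈ T := by
      have hzc : Subgroup.zpowers c ≤ extender S Q'' ψ₀ := Subgroup.zpowers_le.2 hcext
      have hzT : Subgroup.zpowers c ≤ T := Subgroup.zpowers_le.2 hc.1
      have := hT.2 (Subgroup.zpowers c) hzT _ (restrict_mem F hψ hzc)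
        ⟨c, Subgroup.mem_zpowers c⟩
      exact this
    have hψcC : ψ ⟨c, hcext⟩ ∈ Subgroup.centralizer (Q₁ : Set Ω) := by
      rw [Subgroup.mem_centralizer_iff]
      intro y hy
      have hy' : y ∈ ψ₀.range := by rw [hψ₀r]; exact hy
      obtain ⟨q, rfl⟩ := hy'
      rw [← hψψ₀ q q.2 (hQ''ext q.2), ← map_mul, ← map_mul]
      congr 1
      apply Subtype.ext
      exact (Subgroup.mem_centralizer_iff.1 hc.2) q q.2
    have h1 : ψ ⟨c, hcext⟩ ∈ Q₁ := hle ⟨hψcT, hψcC⟩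
    have h1' : ψ ⟨c, hcext⟩ ∈ ψ₀.range := by rw [hψ₀r]; exact h1
    obtain ⟨q, hq⟩ := h1'
    rw [← hψψ₀ q q.2 (hQ''ext q.2)] at hq
    have := F.injective_of_mem hψ hq
    have hcq : c = q := (congrArg Subtype.val this).symm
    rw [hcq]
    exact q.2
  have hCS : centralizerIn T Q₁ ≤ S := inf_le_left.trans hTS
  have hnorm : P' ≤ Subgroup.normalizer ((centralizerIn T Q₁ : Subgroup Ω) : Set Ω) := by
    intro y hy
    rw [Subgroup.mem_normalizer_iff]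
    have hyT := Subgroup.mem_normalizer_iff.1 (hTn (hP'S hy))
    have hyQ₁ : ∀ q, q ∈ Q₁ ↔ y * q * y⁻¹ ∈ Q₁ := by
      intro q
      constructor
      · intro hq
        exact hP'T _ (P'.mul_mem (P'.mul_mem hy (hQ₁P' hq)) (P'.inv_mem hy)) ((hyT q).1 (hQ₁T hq))
      · intro hq
        have h1 : q = y⁻¹ * (y * q * y⁻¹) * y := by group
        have h2 : q ∈ P' := by
          rw [h1]
          exact P'.mul_mem (P'.mul_mem (P'.inv_mem hy) (hQ₁P' hq)) hy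
        exact hP'T _ h2 ((hyT q).2 (hQ₁T hq))
    intro c
    constructor
    · rintro ⟨hcT, hcC⟩
      refine ⟨(hyT c).1 hcT, ?_⟩
      show y * c * y⁻¹ ∈ Subgroup.centralizer (Q₁ : Set Ω)
      have hcC : c ∈ Subgroup.centralizer (Q₁ : Set Ω) := hcC
      rw [Subgroup.mem_centralizer_iff] at hcC ⊢
      intro q hq
      have hq' : y⁻¹ * q * y ∈ Q₁ := by
        rw [hyQ₁]
        have : y * (y⁻¹ * q * y) * y⁻¹ = q := by group
        rw [this]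
        exact hq
      have h1 := hcC _ hq'
      calc q * (y * c * y⁻¹) = y * ((y⁻¹ * q * y) * c) * y⁻¹ := by group
        _ = y * (c * (y⁻¹ * q * y)) * y⁻¹ := by rw [h1]
        _ = y * c * y⁻¹ * q := by group
    · rintro ⟨hcT, hcC⟩
      refine ⟨(hyT c).2 hcT, ?_⟩
      show c ∈ Subgroup.centralizer (Q₁ : Set Ω)
      have hcC : y * c * y⁻¹ ∈ Subgroup.centralizer (Q₁ : Set Ω) := hcC
      rw [Subgroup.mem_centralizer_iff] at hcC ⊢
      intro q hq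
      have hq' : y * q * y⁻¹ ∈ Q₁ := (hyQ₁ q).1 hq
      have h1 := hcC _ hq'
      calc q * c = y⁻¹ * ((y * q * y⁻¹) * (y * c * y⁻¹)) * y := by group
        _ = y⁻¹ * ((y * c * y⁻¹) * (y * q * y⁻¹)) * y := by rw [h1]
        _ = c * q := by group
  have hCP' : ¬ centralizerIn T Q₁ ≤ P' := by
    intro hle
    apply hCQ₁
    intro c hc
    exact hP'T c (hle hc) hc.1
  obtain ⟨x, hxC, hxP', hxN⟩ := exists_mem_normalizer_of_normalizes hS hP'S hCS hnorm hCP'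
  have hQ₁eq : P' ⊓ T = Q₁ := by
    apply le_antisymm
    · rintro y ⟨hy1, hy2⟩
      exact hP'T y hy1 hy2
    · exact le_inf hQ₁P' hQ₁T
  refine ⟨P', f, x, hfP, ?_, hxP', hxN⟩
  rw [hQ₁eq]
  exact hxC

/-- A centric subgroup `Q` normalized by an element of `C_T(Q ∩ T)` outside `Q` is not radical in
any subsystem `D` of `F` over `S`, in the strong form: `Aut_S(Q) ∩ O_p(Aut_D(Q))` is not inner. -/
theorem bad_not_radical [Finite S] {p : ℕ} [Fact p.Prime] (hS : IsPGroup p S)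
    {F D : FusionSystem S} (hDF : D.IsSubsystemOf F) {T : Subgroup Ω} (hT : F.StronglyClosed T)
    {Q : Subgroup Ω} (hQ : F.IsCentric Q) {x : Ω} (hxC : x ∈ centralizerIn T (Q ⊓ T))
    (hxQ : x ∉ Q) (hxN : x ∈ Subgroup.normalizer (Q : Set Ω)) :
    ¬ (autInducedBy S Q ⊓ (pCore p ↥(D.autGroup Q)).map (D.autGroup Q).subtype ≤ Inn Q) := by
  have hTS : T ≤ S := hT.1
  have hQS : Q ≤ S := hQ.1
  have hxS : x ∈ S := hTS hxC.1
  have hTn : S ≤ Subgroup.normalizer (T : Set Ω) := stronglyClosed_le_normalizer hT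
  have hxNS : x ∈ normalizerIn S Q := ⟨hxS, hxN⟩
  have hcx : IsIso D Q Q (fun y => x * y * x⁻¹) := isIso_conj_normalizer D hQS hxNS
  obtain ⟨α, hα, hαx⟩ := exists_mem_autGroup_of_isIso D hcx
  have hQ₁Q : Q ⊓ T ≤ Q := inf_le_left
  have hfinQ₁ : Finite ↥(Q ⊓ T) := finite_of_le S (hQ₁Q.trans hQS)
  have hQ₁p : IsPGroup p ↥(Q ⊓ T) := hS.to_le (hQ₁Q.trans hQS)
  -- invariance of `Q ∩ T` under `Aut_D(Q)`
  have hinvQ₁ : ∀ γ ∈ D.autGroup Q, ∀ y : Q, (y : Ω) ∈ Q ⊓ T → ((γ y : Q) : Ω) ∈ Q ⊓ T := by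
    intro γ hγ y hy
    refine ⟨(γ y).2, ?_⟩
    have h1 := isIso_of_mem_autGroup D hQS hγ
    obtain ⟨φ, hφ, hφv, hr⟩ := h1
    have h1F := (show IsIso F Q Q _ from ⟨φ, hDF Q hφ, hφv, hr⟩)
    obtain ⟨R, -, hR, -⟩ := h1F.restrict hQ₁Q
    have := stronglyClosed_map_mem hT hR inf_le_right hy
    rwa [ext1_apply_mem _ (hQ₁Q hy)] at this
  have hαB : α ∈ stabChain D Q (Q ⊓ T) := by
    refine ⟨hα, fun y => ?_, fun y hy => ?_⟩
    · rw [hαx]
      refine ⟨Q.mul_mem (Q.inv_mem y.2) (hcx.map_mem y.2), ?_⟩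
      have h1 : (y : Ω)⁻¹ * x * y ∈ T := by
        have := (Subgroup.mem_normalizer_iff.1 (hTn (hQS (Q.inv_mem y.2))) x).1 hxC.1
        simpa using this
      have : (y : Ω)⁻¹ * (x * y * x⁻¹) = ((y : Ω)⁻¹ * x * y) * x⁻¹ := by group
      rw [this]
      exact T.mul_mem h1 (T.inv_mem hxC.1)
    · apply Subtype.ext
      rw [hαx]
      have := (Subgroup.mem_centralizer_iff.1 hxC.2) y hy
      calc x * (y : Ω) * x⁻¹ = ((y : Ω) * x) * x⁻¹ := by rw [this]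
        _ = y := by group
  have hBn : ((stabChain D Q (Q ⊓ T)).subgroupOf (D.autGroup Q)).Normal := by
    constructor
    intro β hβ γ
    rw [Subgroup.mem_subgroupOf] at hβ ⊢
    exact stabChain_normal D hQ₁Q hinvQ₁ γ γ.2 β hβ
  have hBp : IsPGroup p ((stabChain D Q (Q ⊓ T)).subgroupOf (D.autGroup Q)) :=
    (stabChain_isPGroup D hQ₁Q hQ₁p).comap_subtype
  have hle : (stabChain D Q (Q ⊓ T)).subgroupOf (D.autGroup Q) ≤ pCore p ↥(D.autGroup Q) :=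
    le_sSup ⟨hBn, hBp⟩
  intro hcon
  have hαS : α ∈ autInducedBy S Q := (mem_autInducedBy_iff S Q α).2 ⟨x, hxS, hαx⟩
  have hαO : α ∈ (pCore p ↥(D.autGroup Q)).map (D.autGroup Q).subtype :=
    ⟨⟨α, hα⟩, hle (Subgroup.mem_subgroupOf.2 hαB), rfl⟩
  obtain ⟨y, hy⟩ := hcon ⟨hαS, hαO⟩
  -- `y⁻¹ x` centralizes `Q`
  have hcent : (y : Ω)⁻¹ * x ∈ centralizerIn S Q := by
    refine ⟨S.mul_mem (S.inv_mem (hQS y.2)) hxS, ?_⟩
    show _ ∈ Subgroup.centralizer (Q : Set Ω)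
    rw [Subgroup.mem_centralizer_iff]
    intro w hw
    have h1 := hαx ⟨w, hw⟩
    rw [← hy] at h1
    have h2 : (y : Ω) * w * (y : Ω)⁻¹ = x * w * x⁻¹ := by
      rw [← h1]
      simp [MulAut.conj_apply]
    calc w * ((y : Ω)⁻¹ * x) = (y : Ω)⁻¹ * ((y : Ω) * w * (y : Ω)⁻¹) * x := by group
      _ = (y : Ω)⁻¹ * (x * w * x⁻¹) * x := by rw [h2]
      _ = (y : Ω)⁻¹ * x * w := by group
  have h3 := hQ.2 Q (isConj_refl F hQS) hcent
  apply hxQ
  have : x = (y : Ω) * ((y : Ω)⁻¹ * x) := by group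
  rw [this]
  exact Q.mul_mem y.2 h3

end Cfsg.Agent.Lib.H25.Oliver
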