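/-
Inductive form of the Alperin--Goldschmidt fusion theorem.
-/
import Mathlib
import Cfsg.Prelude.Def_FusionSystem
import Cfsg.Agent.Lib.H25.Alperin
set_option autoImplicit false

namespace Cfsg.Agent.Lib.H25

open Cfsg Cfsg.FusionSystem

variable {Ω : Type*} [Group Ω] {S : Subgroup Ω}

/-- **Alperin--Goldschmidt fusion theorem**, inductive form: to show that `E` contains `F` it
suffices to show `Aut_F(P) ≤ Aut_E(P)` for `P = S` or `P` essential, *assuming* that `E` already
contains all maps of `F` whose source has order larger than `|P|`. -/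
theorem alperin_ind [Finite S] {p : ℕ} [Fact p.Prime] (hS : IsPGroup p S) (F : FusionSystem S)
    (hF : F.IsSaturated p) (E : FusionSystem S)
    (hE : ∀ P : Subgroup Ω, (P = S ∨ F.IsEssential p P) →
      (∀ Q' : Subgroup Ω, Q' ≤ S → Nat.card P < Nat.card Q' → F.Hom Q' ⊆ E.Hom Q') →
      F.autGroup P ≤ E.autGroup P) :
    ∀ P : Subgroup Ω, F.Hom P ⊆ E.Hom P := by
  have key : ∀ n : ℕ, ∀ P : Subgroup Ω, P ≤ S → Nat.card S - Nat.card P = n →
      F.Hom P ⊆ E.Hom P := by
    intro n
    induction n using Nat.strong_induction_on with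
    | _ n ih =>
      intro P hPS hn
      -- the induction hypothesis, for larger subgroups
      have IH : ∀ Q' : Subgroup Ω, Q' ≤ S → Nat.card P < Nat.card Q' → F.Hom Q' ⊆ E.Hom Q' := by
        intro Q' hQ'S hlt
        have hle : Nat.card Q' ≤ Nat.card S := Subgroup.card_le_of_le hQ'S
        exact ih (Nat.card S - Nat.card Q') (by omega) Q' hQ'S rfl
      have IH' : ∀ (Q' Q'' : Subgroup Ω) (k : Ω → Ω), Nat.card P < Nat.card Q' →
          IsIso F Q' Q'' k → IsIso E Q' Q'' k := by
        intro Q' Q'' k hlt hk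
        obtain ⟨ψ, hψ, hψk, hr⟩ := hk
        exact ⟨ψ, IH Q' (hom_le F hψ) hlt hψ, hψk, hr⟩
      suffices hsuff : ∀ (Q : Subgroup Ω) (f : Ω → Ω), IsIso F P Q f → IsIso E P Q f by
        intro φ hφ
        exact mem_hom_of_isIso E (hsuff _ _ (isIso_of_mem F hφ)) (fun x => (ext1_apply φ x).symm)
      intro Q f hf
      by_cases hPeq : P = S
      · -- the case `P = S`
        have hQS : Q ≤ S := hf.le_right
        have hcard := hf.card_eq
        have hQeq : Q = S := by
          apply Subgroup.eq_of_le_of_card_ge hQS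
          rw [← hcard, hPeq]
        have hQP : Q = P := hQeq.trans hPeq.symm
        subst hQP
        exact isIso_of_autGroup_le (hE Q (Or.inl hPeq) IH) hf
      · -- the case `P < S`
        have hcardPQ := hf.card_eq
        have hQS : Q ≤ S := hf.le_right
        have hPlt : Nat.card P < Nat.card S :=
          card_lt_of_lt' le_rfl (lt_of_le_of_ne hPS hPeq)
        have hQne : Q ≠ S := by
          intro h
          rw [h] at hcardPQ
          omega
        obtain ⟨R, hPR, hRfa, hRrec⟩ := hF P hPS
        obtain ⟨f₀, hf₀⟩ := (isConj_iff F).1 hPR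
        have hcardPR := hf₀.card_eq
        have hRS : R ≤ S := hRrec.1
        have hRne : R ≠ S := by
          intro h
          rw [h] at hcardPR
          omega
        -- Claim A
        have claimA : F.autGroup R ≤ E.autGroup R := by
          by_cases hess : F.IsEssential p R
          · exact hE R (Or.inr hess) (fun Q' hQ'S hlt => IH Q' hQ'S (by rw [hcardPR]; exact hlt))
          · refine (autGroup_le_closure_extGens hS hRfa hRrec hRne hess).trans ?_
            rw [Subgroup.closure_le]
            rintro α ⟨Q', hlt, φ', hφ', hα⟩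
            apply extGens_subset_autGroup E R
            have hQ'S : Q' ≤ S := hom_le F hφ'
            have hc : Nat.card P < Nat.card Q' := by
              rw [hcardPR]
              exact card_lt_of_lt' hQ'S hlt
            exact ⟨Q', hlt, φ', IH Q' hQ'S hc hφ', hα⟩
        -- the two normalizer maps
        obtain ⟨f₁, N₁, hf₁N, -, hf₁⟩ := exists_normalizer_map hS hRfa hRrec hPR
        have hQR : F.IsConj Q R := isConj_trans F (isConj_symm F hf.isConj) hPR
        obtain ⟨f₂, N₂, hf₂N, -, hf₂⟩ := exists_normalizer_map hS hRfa hRrec hQR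
        have hPN : P < normalizerIn S P := by
          obtain ⟨g, hgN, hgP⟩ := exists_mem_normalizerIn_not_mem hS hPS hPeq
          refine lt_of_le_of_ne (fun x hx => ⟨hPS hx, Subgroup.le_normalizer hx⟩) ?_
          intro h
          exact hgP (h ▸ hgN)
        have hQN : Q < normalizerIn S Q := by
          obtain ⟨g, hgN, hgQ⟩ := exists_mem_normalizerIn_not_mem hS hQS hQne
          refine lt_of_le_of_ne (fun x hx => ⟨hQS hx, Subgroup.le_normalizer hx⟩) ?_
          intro h
          exact hgQ (h ▸ hgN)
        have hc₁ : Nat.card P < Nat.card (normalizerIn S P) := card_lt_of_lt' inf_le_left hPN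
        have hc₂ : Nat.card P < Nat.card (normalizerIn S Q) := by
          rw [hcardPQ]; exact card_lt_of_lt' inf_le_left hQN
        have hE₁ : IsIso E P R f₁ :=
          (IH' _ _ _ hc₁ hf₁N).restrict' hPN.le (fun x hx => hf₁.map_mem hx) (fun y hy => hf₁.surjOn hy)
        have hE₂ : IsIso E Q R f₂ :=
          (IH' _ _ _ hc₂ hf₂N).restrict' hQN.le (fun x hx => hf₂.map_mem hx) (fun y hy => hf₂.surjOn hy)
        obtain ⟨g₁, hg₁, hg₁f₁, hf₁g₁⟩ := hf₁.symm
        obtain ⟨g₂, hg₂, hg₂f₂, hf₂g₂⟩ := hE₂.symm
        have hα : IsIso F R R (f₂ ∘ f ∘ g₁) := (hg₁.trans hf).trans hf₂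
        have hαE : IsIso E R R (f₂ ∘ f ∘ g₁) := isIso_of_autGroup_le claimA hα
        have hfin : IsIso E P Q (g₂ ∘ (f₂ ∘ f ∘ g₁) ∘ f₁) := (hE₁.trans hαE).trans hg₂
        refine hfin.congr (fun x hx => ?_)
        show g₂ (f₂ (f (g₁ (f₁ x)))) = f x
        rw [hg₁f₁ x hx, hg₂f₂ _ (hf.map_mem hx)]
  intro P φ hφ
  exact key _ P (hom_le F hφ) rfl hφ

end Cfsg.Agent.Lib.H25
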