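import Cfsg.Agent.Lib.H25.KNorm

set_option autoImplicit false

/-!
Saturation of the `K`-normalizer fusion systems `N_F^{K₀}(Q)` (AKO, Theorem I.5.5), for a subgroup
`Q` fully `K₀`-normalized in a saturated fusion system.
-/

namespace Cfsg.Agent.Lib.H25

open Cfsg Cfsg.FusionSystem

variable {Ω : Type*} [Group Ω] {S : Subgroup Ω}

/-- `K_P`: the automorphisms of `P ⊔ Q` stabilizing `P` and inducing an element of `K₀` on `Q`. -/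
def KP {Q : Subgroup Ω} (K₀ : Subgroup (MulAut Q)) (P : Subgroup Ω) :
    Subgroup (MulAut ↥(P ⊔ Q)) where
  carrier := {α | (∀ x : ↥(P ⊔ Q), (x : Ω) ∈ P ↔ ((α x : ↥(P ⊔ Q)) : Ω) ∈ P) ∧
    ∃ k ∈ K₀, ∀ q : Q, ((α ⟨q, (le_sup_right : Q ≤ P ⊔ Q) q.2⟩ : ↥(P ⊔ Q)) : Ω) = ((k q : Q) : Ω)}
  one_mem' := ⟨fun x => Iff.rfl, 1, K₀.one_mem, fun q => rfl⟩
  mul_mem' := by
    rintro α β ⟨hα, k, hk, hkα⟩ ⟨hβ, l, hl, hlβ⟩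
    refine ⟨fun x => (hβ x).trans (hα (β x)), k * l, K₀.mul_mem hk hl, fun q => ?_⟩
    have e : β ⟨q, (le_sup_right : Q ≤ P ⊔ Q) q.2⟩ =
        ⟨((l q : Q) : Ω), (le_sup_right : Q ≤ P ⊔ Q) (l q).2⟩ := Subtype.ext (hlβ q)
    show ((α (β ⟨q, _⟩) : ↥(P ⊔ Q)) : Ω) = ((k (l q) : Q) : Ω)
    rw [e, hkα]
  inv_mem' := by
    rintro α ⟨hα, k, hk, hkα⟩
    refine ⟨fun x => ?_, k⁻¹, K₀.inv_mem hk, fun q => ?_⟩
    · have := hα (α⁻¹ x)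
      rw [show α (α⁻¹ x) = x by simp] at this
      exact this.symm
    · have h1 := hkα (k⁻¹ q)
      rw [show k (k⁻¹ q) = q by simp] at h1
      have h2 : α ⟨((k⁻¹ q : Q) : Ω), (le_sup_right : Q ≤ P ⊔ Q) (k⁻¹ q).2⟩ =
          ⟨q, (le_sup_right : Q ≤ P ⊔ Q) q.2⟩ := Subtype.ext h1
      rw [← h2]
      simp

theorem mem_KP {Q : Subgroup Ω} {K₀ : Subgroup (MulAut Q)} {P : Subgroup Ω}
    {α : MulAut ↥(P ⊔ Q)} : α ∈ KP K₀ P ↔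
      (∀ x : ↥(P ⊔ Q), (x : Ω) ∈ P ↔ ((α x : ↥(P ⊔ Q)) : Ω) ∈ P) ∧
      ∃ k ∈ K₀, ∀ q : Q,
        ((α ⟨q, (le_sup_right : Q ≤ P ⊔ Q) q.2⟩ : ↥(P ⊔ Q)) : Ω) = ((k q : Q) : Ω) := Iff.rfl

/-- Restriction to `P` of an automorphism of `P ⊔ Q` stabilizing `P`. -/
def resP {P Q : Subgroup Ω} (α : MulAut ↥(P ⊔ Q))
    (hα : ∀ x : ↥(P ⊔ Q), (x : Ω) ∈ P ↔ ((α x : ↥(P ⊔ Q)) : Ω) ∈ P) : MulAut P where
  toFun x := ⟨α ⟨x, (le_sup_left : P ≤ P ⊔ Q) x.2⟩, (hα _).1 x.2⟩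
  invFun y := ⟨α⁻¹ ⟨y, (le_sup_left : P ≤ P ⊔ Q) y.2⟩, (hα _).2 (by simp [y.2])⟩
  left_inv x := Subtype.ext (by simp)
  right_inv y := Subtype.ext (by simp)
  map_mul' x y := Subtype.ext (by
    show ((α ⟨(x * y : P), _⟩ : ↥(P ⊔ Q)) : Ω) = (α ⟨x, _⟩ : ↥(P ⊔ Q)) * (α ⟨y, _⟩ : ↥(P ⊔ Q))
    rw [← Subgroup.coe_mul, ← map_mul]
    rfl)

theorem resP_apply {P Q : Subgroup Ω} (α : MulAut ↥(P ⊔ Q))
    (hα : ∀ x : ↥(P ⊔ Q), (x : Ω) ∈ P ↔ ((α x : ↥(P ⊔ Q)) : Ω) ∈ P) (x : P) :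
    ((resP α hα x : P) : Ω) = ((α ⟨x, (le_sup_left : P ≤ P ⊔ Q) x.2⟩ : ↥(P ⊔ Q)) : Ω) := rfl

/-- Restriction to `P` as a homomorphism on `K_P`. -/
def resHom {Q : Subgroup Ω} (K₀ : Subgroup (MulAut Q)) (P : Subgroup Ω) :
    ↥(KP K₀ P) →* MulAut P where
  toFun α := resP α.1 α.2.1
  map_one' := by
    ext x
    rfl
  map_mul' α β := by
    ext x
    rfl

theorem resHom_apply {Q : Subgroup Ω} (K₀ : Subgroup (MulAut Q)) (P : Subgroup Ω)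
    (α : ↥(KP K₀ P)) (x : P) :
    ((resHom K₀ P α x : P) : Ω) =
      (((α : MulAut ↥(P ⊔ Q)) ⟨x, (le_sup_left : P ≤ P ⊔ Q) x.2⟩ : ↥(P ⊔ Q)) : Ω) := rfl

/-- `E` is the `K₀`-normalizer system `N_F^{K₀}(Q)` over `N_S^{K₀}(Q)`. -/
structure KSys (F : FusionSystem S) {Q : Subgroup Ω} (K₀ : Subgroup (MulAut Q))
    (E : FusionSystem (NK S K₀ (id : Ω → Ω))) : Prop where
  hom_iff : ∀ (P : Subgroup Ω) (φ : P →* Ω), φ ∈ E.Hom P ↔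
    (φ ∈ F.Hom P ∧ P ≤ NK S K₀ (id : Ω → Ω) ∧ (∀ x : P, φ x ∈ NK S K₀ (id : Ω → Ω)) ∧
      ∃ ψ ∈ F.Hom (P ⊔ Q), (∀ x : P, ψ (Subgroup.inclusion le_sup_left x) = φ x) ∧
        ∃ k ∈ K₀, ∀ q : Q, ψ (Subgroup.inclusion le_sup_right q) = ((k q : Q) : Ω))

/-- Function-level description of a "`K₀`-isomorphism" `P → P'`: an isomorphism of `F` from
`P ⊔ Q` onto `P' ⊔ Q` carrying `P` onto `P'` and inducing an element of `K₀` on `Q`. -/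
structure IsKIso (F : FusionSystem S) {Q : Subgroup Ω} (K₀ : Subgroup (MulAut Q))
    (P P' : Subgroup Ω) (θ : Ω → Ω) : Prop where
  sup : IsIso F (P ⊔ Q) (P' ⊔ Q) θ
  left : IsIso F P P' θ
  right : ∃ k ∈ K₀, ∀ q : Q, θ q = ((k q : Q) : Ω)

theorem IsKIso.isIso_right {F : FusionSystem S} {Q : Subgroup Ω} {K₀ : Subgroup (MulAut Q)}
    {P P' : Subgroup Ω} {θ : Ω → Ω} (h : IsKIso F K₀ P P' θ) : IsIso F Q Q θ := by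
  obtain ⟨k, -, hk⟩ := h.right
  refine h.sup.restrict' le_sup_right (fun q hq => ?_) (fun y hy => ?_)
  · rw [hk ⟨q, hq⟩]
    exact (k ⟨q, hq⟩).2
  · refine ⟨(k⁻¹ ⟨y, hy⟩ : Q), (k⁻¹ ⟨y, hy⟩).2, ?_⟩
    rw [hk]
    simp

/-- A `K₀`-isomorphism with source and target in `T = N_S^{K₀}(Q)` is an isomorphism of `E`. -/
theorem IsKIso.isIso {F : FusionSystem S} {Q : Subgroup Ω} {K₀ : Subgroup (MulAut Q)}
    {E : FusionSystem (NK S K₀ (id : Ω → Ω))} (hE : KSys F K₀ E)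
    {P P' : Subgroup Ω} {θ : Ω → Ω} (h : IsKIso F K₀ P P' θ) (hP : P ≤ NK S K₀ (id : Ω → Ω))
    (hP' : P' ≤ NK S K₀ (id : Ω → Ω)) : IsIso E P P' θ := by
  obtain ⟨φ, hφ, hφv, hr⟩ := h.left
  obtain ⟨ψ, hψ, hψv, -⟩ := h.sup
  obtain ⟨k, hk, hkv⟩ := h.right
  refine ⟨φ, (hE.hom_iff P φ).2 ⟨hφ, hP, fun x => ?_, ψ, hψ, fun x => ?_, k, hk, fun q => ?_⟩,
    hφv, hr⟩
  · apply hP'
    rw [← hr]
    exact ⟨x, rfl⟩
  · rw [hψv, hφv]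
    rfl
  · rw [hψv]
    exact hkv q

/-- An isomorphism of `E` is the restriction of a `K₀`-isomorphism. -/
theorem exists_isKIso {F : FusionSystem S} {Q : Subgroup Ω} {K₀ : Subgroup (MulAut Q)}
    {E : FusionSystem (NK S K₀ (id : Ω → Ω))} (hE : KSys F K₀ E)
    {P P' : Subgroup Ω} {θ : Ω → Ω} (h : IsIso E P P' θ) :
    P ≤ NK S K₀ (id : Ω → Ω) ∧ P' ≤ NK S K₀ (id : Ω → Ω) ∧
      ∃ θ' : Ω → Ω, (∀ x ∈ P, θ' x = θ x) ∧ IsKIso F K₀ P P' θ' := by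
  obtain ⟨φ, hφ, hφv, hr⟩ := h
  obtain ⟨hφF, hP, hval, ψ, hψ, hψφ, k, hk, hkv⟩ := (hE.hom_iff P φ).1 hφ
  have hP' : P' ≤ NK S K₀ (id : Ω → Ω) := by
    rw [← hr]
    rintro _ ⟨x, rfl⟩
    exact hval x
  refine ⟨hP, hP', ext1 ψ, fun x hx => ?_, ?_⟩
  · rw [ext1_apply_mem ψ ((le_sup_left : P ≤ P ⊔ Q) hx)]
    exact (hψφ ⟨x, hx⟩).trans (hφv ⟨x, hx⟩)
  · have h1 : IsIso F (P ⊔ Q) ψ.range (ext1 ψ) := isIso_of_mem F hψ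
    have hPiso : IsIso F P P' (ext1 ψ) := by
      refine h1.restrict' le_sup_left (fun x hx => ?_) (fun y hy => ?_)
      · rw [ext1_apply_mem ψ ((le_sup_left : P ≤ P ⊔ Q) hx)]
        have := hψφ ⟨x, hx⟩
        rw [show ψ ⟨x, _⟩ = φ ⟨x, hx⟩ from this, ← hr]
        exact ⟨_, rfl⟩
      · rw [← hr] at hy
        obtain ⟨x, rfl⟩ := hy
        refine ⟨x, x.2, ?_⟩
        rw [ext1_apply_mem ψ ((le_sup_left : P ≤ P ⊔ Q) x.2)]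
        exact hψφ x
    have hQv : ∀ q : Q, ext1 ψ q = ((k q : Q) : Ω) := by
      intro q
      rw [ext1_apply_mem ψ ((le_sup_right : Q ≤ P ⊔ Q) q.2)]
      exact hkv q
    have hQiso : IsIso F Q Q (ext1 ψ) := by
      refine h1.restrict' le_sup_right (fun q hq => ?_) (fun y hy => ?_)
      · rw [hQv ⟨q, hq⟩]
        exact (k ⟨q, hq⟩).2
      · refine ⟨(k⁻¹ ⟨y, hy⟩ : Q), (k⁻¹ ⟨y, hy⟩).2, ?_⟩
        rw [hQv]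
        simp
    have himg := h1.image_sup hPiso hQiso
    rw [himg] at h1
    exact ⟨h1, hPiso, k, hk, hQv⟩

/-- The inverse of a `K₀`-isomorphism is a `K₀`-isomorphism. -/
theorem IsKIso.symm {F : FusionSystem S} {Q : Subgroup Ω} {K₀ : Subgroup (MulAut Q)}
    {P P' : Subgroup Ω} {θ : Ω → Ω} (h : IsKIso F K₀ P P' θ) :
    ∃ g : Ω → Ω, IsKIso F K₀ P' P g ∧ (∀ x ∈ P ⊔ Q, g (θ x) = x) ∧ ∀ y ∈ P' ⊔ Q, θ (g y) = y := by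
  obtain ⟨g, hg, hgθ, hθg⟩ := h.sup.symm
  obtain ⟨k, hk, hkv⟩ := h.right
  refine ⟨g, ⟨hg, ?_, k⁻¹, K₀.inv_mem hk, fun q => ?_⟩, hgθ, hθg⟩
  · refine hg.restrict' le_sup_left (fun y hy => ?_) (fun x hx => ?_)
    · obtain ⟨x, hx, rfl⟩ := h.left.surjOn hy
      rw [hgθ x ((le_sup_left : P ≤ P ⊔ Q) hx)]
      exact hx
    · exact ⟨θ x, h.left.map_mem hx, hgθ x ((le_sup_left : P ≤ P ⊔ Q) hx)⟩
  · have h1 : θ ((k⁻¹ q : Q) : Ω) = q := by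
      rw [hkv]
      simp
    have h2 := hgθ ((k⁻¹ q : Q) : Ω) ((le_sup_right : Q ≤ P ⊔ Q) (k⁻¹ q).2)
    rw [h1] at h2
    exact h2

/-- Transport of `K_P` along a `K₀`-isomorphism. -/
theorem KP_transport' {F : FusionSystem S} {Q : Subgroup Ω} {K₀ : Subgroup (MulAut Q)}
    {P P' : Subgroup Ω} {θ : Ω → Ω} (h : IsKIso F K₀ P P' θ) {k : MulAut ↥(P ⊔ Q)}
    (hk : k ∈ KP K₀ P) :
    ∃ k' ∈ KP K₀ P', (k ∈ F.autGroup (P ⊔ Q) → k' ∈ F.autGroup (P' ⊔ Q)) ∧ ∀ x : ↥(P ⊔ Q),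
      ((k' ⟨θ x, h.sup.map_mem x.2⟩ : ↥(P' ⊔ Q)) : Ω) = θ ((k x : ↥(P ⊔ Q)) : Ω) := by
  obtain ⟨χ, hχ, hχv⟩ := h.right
  obtain ⟨hkP, k₀, hk₀, hk₀v⟩ := hk
  have hθP : ∀ x : ↥(P ⊔ Q), (x : Ω) ∈ P ↔ θ x ∈ P' := by
    intro x
    constructor
    · exact fun hx => h.left.map_mem hx
    · intro hx
      obtain ⟨x₁, hx₁, hx₁x⟩ := h.left.surjOn hx
      have := h.sup.injOn ((le_sup_left : P ≤ P ⊔ Q) hx₁) x.2 hx₁x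
      rw [← this]
      exact hx₁
  obtain ⟨e, he⟩ : ∃ e : ↥(P ⊔ Q) ≃* ↥(P' ⊔ Q), ∀ x, ((e x : ↥(P' ⊔ Q)) : Ω) = θ x :=
    ⟨h.sup.toMulEquiv, fun x => h.sup.toMulEquiv_apply x⟩
  have hee : ∀ x : ↥(P ⊔ Q), e x = ⟨θ x, h.sup.map_mem x.2⟩ := fun x => Subtype.ext (he x)
  have hk'v : ∀ x : ↥(P ⊔ Q), MulAut.congr e k (e x) = e (k x) := by
    intro x
    show e (k (e.symm (e x))) = e (k x)
    simp
  refine ⟨MulAut.congr e k, ⟨fun y => ?_, χ * k₀ * χ⁻¹,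
    K₀.mul_mem (K₀.mul_mem hχ hk₀) (K₀.inv_mem hχ), fun q => ?_⟩,
    fun hkF => congr_mem_autGroup h.sup e he hkF, fun x => ?_⟩
  · obtain ⟨x, rfl⟩ := e.surjective y
    rw [hk'v, he, he, ← hθP, ← hθP]
    exact hkP x
  · have h1 : e ⟨((χ⁻¹ q : Q) : Ω), (le_sup_right : Q ≤ P ⊔ Q) (χ⁻¹ q).2⟩ =
        ⟨q, (le_sup_right : Q ≤ P' ⊔ Q) q.2⟩ := by
      apply Subtype.ext
      rw [he]
      show θ ((χ⁻¹ q : Q) : Ω) = q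
      rw [hχv]
      simp
    rw [← h1, hk'v, he, hk₀v, hχv]
    rfl
  · rw [← hee, hk'v, he]

theorem KP_transport {F : FusionSystem S} {Q : Subgroup Ω} {K₀ : Subgroup (MulAut Q)}
    {P P' : Subgroup Ω} {θ : Ω → Ω} (h : IsKIso F K₀ P P' θ) {k : MulAut ↥(P ⊔ Q)}
    (hk : k ∈ KP K₀ P) :
    ∃ k' ∈ KP K₀ P', ∀ x : ↥(P ⊔ Q),
      ((k' ⟨θ x, h.sup.map_mem x.2⟩ : ↥(P' ⊔ Q)) : Ω) = θ ((k x : ↥(P ⊔ Q)) : Ω) := by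
  obtain ⟨k', hk', -, hk'v⟩ := KP_transport' h hk
  exact ⟨k', hk', hk'v⟩

/-- Transport of `K_{P'}` back along a `K₀`-isomorphism. -/
theorem KP_transport_symm {F : FusionSystem S} {Q : Subgroup Ω} {K₀ : Subgroup (MulAut Q)}
    {P P' : Subgroup Ω} {θ : Ω → Ω} (h : IsKIso F K₀ P P' θ) {k' : MulAut ↥(P' ⊔ Q)}
    (hk' : k' ∈ KP K₀ P') :
    ∃ k ∈ KP K₀ P, ∀ x : ↥(P ⊔ Q),
      θ ((k x : ↥(P ⊔ Q)) : Ω) = ((k' ⟨θ x, h.sup.map_mem x.2⟩ : ↥(P' ⊔ Q)) : Ω) := by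
  obtain ⟨g, hg, hgθ, hθg⟩ := h.symm
  obtain ⟨k, hk, hkv⟩ := KP_transport hg hk'
  refine ⟨k, hk, fun x => ?_⟩
  have h1 := hkv ⟨θ x, h.sup.map_mem x.2⟩
  have h2 : (⟨g (θ x), hg.sup.map_mem (h.sup.map_mem x.2)⟩ : ↥(P ⊔ Q)) = x :=
    Subtype.ext (hgθ x x.2)
  rw [show (⟨g ((⟨θ x, h.sup.map_mem x.2⟩ : ↥(P' ⊔ Q)) : Ω), hg.sup.map_mem
    (⟨θ x, h.sup.map_mem x.2⟩ : ↥(P' ⊔ Q)).2⟩ : ↥(P ⊔ Q)) = x from h2] at h1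
  rw [h1, hθg _ (k' ⟨θ x, h.sup.map_mem x.2⟩).2]

/-- AKO I.5.5, Step 1: every `P ≤ T = N_S^{K₀}(Q)` has a `K₀`-conjugate `P' ≤ T` such that
`P' ⊔ Q` is fully `K_{P'}`-normalized in `F`. -/
theorem KNorm_step1 [Finite S] {p : ℕ} [Fact p.Prime] (hS : IsPGroup p S) {F : FusionSystem S}
    (hF : F.IsSaturated p) {Q : Subgroup Ω} (hQ : Q ≤ S) {K₀ : Subgroup (MulAut Q)}
    (hQmax : IsKMax F K₀ (id : Ω → Ω)) {P : Subgroup Ω} (hP : P ≤ NK S K₀ (id : Ω → Ω)) :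
    ∃ (P' : Subgroup Ω) (θ : Ω → Ω), P' ≤ NK S K₀ (id : Ω → Ω) ∧ IsKIso F K₀ P P' θ ∧
      IsKMax F (KP K₀ P') (id : Ω → Ω) := by
  have hT : NK S K₀ (id : Ω → Ω) ≤ S := NK_le K₀ _
  have hXS : P ⊔ Q ≤ S := sup_le (hP.trans hT) hQ
  obtain ⟨Y, φ, hφ, hφmax⟩ : ∃ (Y : Subgroup Ω) (φ : Ω → Ω), IsIso F (P ⊔ Q) Y φ ∧
      IsKMax F (KP K₀ P) φ := by
    obtain ⟨s, hs⟩ : ∃ s : Set ℕ, s = {n | ∃ (Y : Subgroup Ω) (φ : Ω → Ω),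
        IsIso F (P ⊔ Q) Y φ ∧ n = Nat.card (NK S (KP K₀ P) φ)} := ⟨_, rfl⟩
    have hsmem : ∀ n, n ∈ s ↔ ∃ (Y : Subgroup Ω) (φ : Ω → Ω),
        IsIso F (P ⊔ Q) Y φ ∧ n = Nat.card (NK S (KP K₀ P) φ) := by
      intro n
      rw [hs]
      rfl
    have hne : s.Nonempty := ⟨_, (hsmem _).2 ⟨P ⊔ Q, id, IsIso.refl hXS, rfl⟩⟩
    have hbdd : BddAbove s := by
      refine ⟨Nat.card S, ?_⟩
      intro n hn
      obtain ⟨Y, φ, -, rfl⟩ := (hsmem n).1 hn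
      exact Subgroup.card_le_of_le (NK_le _ _)
    obtain ⟨Y, φ, hφ, hm⟩ := (hsmem _).1 (Nat.sSup_mem hne hbdd)
    refine ⟨Y, φ, hφ, fun Z g hg => ?_⟩
    rw [← hm]
    exact le_csSup hbdd ((hsmem _).2 ⟨Z, g, hg, rfl⟩)
  obtain ⟨Q₁, -, hφQ, -⟩ := hφ.restrict (le_sup_right : Q ≤ P ⊔ Q)
  obtain ⟨hQrec, hQcard⟩ := hQmax.props hS hF (IsIso.refl hQ)
  obtain ⟨χ, ψ, N, N', hχA, hψ, hNKle, hQ₁N, hψφ, hrel⟩ :=
    K_extend hS K₀ hQrec (IsIso.refl hQ) hQcard hφQ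
  have hmemT : ∀ z ∈ NK S K₀ φ, ψ z ∈ NK S K₀ (id : Ω → Ω) := fun z hz =>
    K_extend_mem hχA.1 hψ hrel hNKle hz
  have hφP : ∀ x ∈ P, φ x ∈ NK S K₀ φ := by
    intro x hx
    obtain ⟨hxS, k, hk, hkv⟩ := hP hx
    have hx' : x ∈ P ⊔ Q := (le_sup_left : P ≤ P ⊔ Q) hx
    refine ⟨hφ.le_right (hφ.map_mem hx'), k, hk, fun q => ?_⟩
    have hq : (q : Ω) ∈ P ⊔ Q := (le_sup_right : Q ≤ P ⊔ Q) q.2
    have h1 : ((k q : Q) : Ω) = x * q * x⁻¹ := hkv q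
    rw [h1, hφ.map_mul (mul_mem hx' hq) (inv_mem hx'), hφ.map_mul hx' hq, hφ.map_inv hx']
  have hYN : Y ≤ N := by
    intro y hy
    obtain ⟨x, hx, rfl⟩ := hφ.surjOn hy
    have : P ⊔ Q ≤ hφ.pre N := by
      apply sup_le
      · intro a ha
        exact ⟨(le_sup_left : P ≤ P ⊔ Q) ha, hNKle (hφP a ha)⟩
      · intro b hb
        exact ⟨(le_sup_right : Q ≤ P ⊔ Q) hb, hQ₁N (hφQ.map_mem hb)⟩
    exact (this hx).2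
  obtain ⟨X', -, hψY, -⟩ := hψ.restrict hYN
  have hθ : IsIso F (P ⊔ Q) X' (ψ ∘ φ) := hφ.trans hψY
  have hθQv : ∀ q : Q, (ψ ∘ φ) q = ((χ q : Q) : Ω) := fun q => hψφ q
  have hθQ : IsIso F Q Q (ψ ∘ φ) := by
    refine hθ.restrict' le_sup_right (fun q hq => ?_) (fun y hy => ?_)
    · rw [hθQv ⟨q, hq⟩]
      exact (χ ⟨q, hq⟩).2
    · refine ⟨(χ⁻¹ ⟨y, hy⟩ : Q), (χ⁻¹ ⟨y, hy⟩).2, ?_⟩
      rw [hθQv]
      simp
  obtain ⟨P', -, hθP, hP'mem⟩ := hθ.restrict (le_sup_left : P ≤ P ⊔ Q)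
  have himg := hθ.image_sup hθP hθQ
  subst himg
  have hP'T : P' ≤ NK S K₀ (id : Ω → Ω) := by
    intro y hy
    obtain ⟨x, hx, rfl⟩ := (hP'mem y).1 hy
    exact hmemT _ (hφP x hx)
  have hKθ : IsKIso F K₀ P P' (ψ ∘ φ) := ⟨hθ, hθP, χ, hχA.1, hθQv⟩
  refine ⟨P', ψ ∘ φ, hP'T, hKθ, ?_⟩
  intro Z g' hg'
  have hfin1 : Finite (NK S (KP K₀ P) (g' ∘ (ψ ∘ φ))) := finite_of_le S (NK_le _ _)
  have hfin2 : Finite (NK S (KP K₀ P') (id : Ω → Ω)) := finite_of_le S (NK_le _ _)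
  have hmem : ∀ y ∈ NK S (KP K₀ P) φ, ψ y ∈ NK S (KP K₀ P') (id : Ω → Ω) ∧ y ∈ N := by
    rintro y ⟨hyS, k, hk, hkv⟩
    have hyNK : y ∈ NK S K₀ φ := by
      obtain ⟨-, k₀, hk₀, hk₀v⟩ := hk
      refine ⟨hyS, k₀, hk₀, fun q => ?_⟩
      rw [← hk₀v]
      exact hkv ⟨q, (le_sup_right : Q ≤ P ⊔ Q) q.2⟩
    have hyN : y ∈ N := hNKle hyNK
    refine ⟨?_, hyN⟩
    obtain ⟨k'', hk'', hk''v⟩ := KP_transport hKθ hk
    refine ⟨hT (hmemT y hyNK), k'', hk'', fun x' => ?_⟩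
    obtain ⟨x, hx, hxe⟩ := hθ.surjOn x'.2
    have hx'e : x' = ⟨(ψ ∘ φ) x, hθ.map_mem hx⟩ := Subtype.ext hxe.symm
    rw [hx'e]
    show ((k'' ⟨(ψ ∘ φ) x, _⟩ : ↥(P' ⊔ Q)) : Ω) = ψ y * ψ (φ x) * (ψ y)⁻¹
    rw [hk''v ⟨x, hx⟩]
    show ψ (φ ((k ⟨x, hx⟩ : ↥(P ⊔ Q)) : Ω)) = _
    have hφxN : φ x ∈ N := hYN (hφ.map_mem hx)
    rw [hkv ⟨x, hx⟩, hψ.map_mul (mul_mem hyN hφxN) (inv_mem hyN), hψ.map_mul hyN hφxN,
      hψ.map_inv hyN]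
  calc Nat.card (NK S (KP K₀ P') g') ≤ Nat.card (NK S (KP K₀ P) (g' ∘ (ψ ∘ φ))) := by
        apply Subgroup.card_le_of_le
        rintro y ⟨hyS, k', hk', hk'v⟩
        obtain ⟨k, hk, hkv⟩ := KP_transport_symm hKθ hk'
        refine ⟨hyS, k, hk, fun x => ?_⟩
        show g' ((ψ ∘ φ) ((k x : ↥(P ⊔ Q)) : Ω)) = y * g' ((ψ ∘ φ) x) * y⁻¹
        rw [hkv x]
        exact hk'v ⟨(ψ ∘ φ) x, hθ.map_mem x.2⟩
    _ ≤ Nat.card (NK S (KP K₀ P) φ) := hφmax Z _ (hθ.trans hg')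
    _ ≤ Nat.card (NK S (KP K₀ P') (id : Ω → Ω)) := by
        apply Nat.card_le_card_of_injective
          (fun y : NK S (KP K₀ P) φ =>
            (⟨ψ y, (hmem y y.2).1⟩ : NK S (KP K₀ P') (id : Ω → Ω)))
        intro a b hab
        exact Subtype.ext (hψ.injOn (hmem a a.2).2 (hmem b b.2).2 (congrArg Subtype.val hab))

theorem IsKIso.mem_iff {F : FusionSystem S} {Q : Subgroup Ω} {K₀ : Subgroup (MulAut Q)}
    {P P' : Subgroup Ω} {θ : Ω → Ω} (h : IsKIso F K₀ P P' θ) {x : Ω} (hx : x ∈ P ⊔ Q) :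
    x ∈ P ↔ θ x ∈ P' := by
  constructor
  · exact fun hx => h.left.map_mem hx
  · intro hx'
    obtain ⟨x₁, hx₁, hx₁x⟩ := h.left.surjOn hx'
    have := h.sup.injOn ((le_sup_left : P ≤ P ⊔ Q) hx₁) hx hx₁x
    rw [← this]
    exact hx₁

/-- An element of `T = N_S^{K₀}(Q)` normalizing `P` gives an element of `Aut_S^{K_P}(P ⊔ Q)`. -/
theorem exists_mem_AS_of_mem [Finite S] {F : FusionSystem S} {Q : Subgroup Ω} (hQ : Q ≤ S)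
    {K₀ : Subgroup (MulAut Q)} {P : Subgroup Ω} (hPS : P ≤ S) {t : Ω}
    (htT : t ∈ NK S K₀ (id : Ω → Ω)) (htP : t ∈ Subgroup.normalizer (P : Set Ω)) :
    ∃ σ ∈ AS S (KP K₀ P) (id : Ω → Ω), σ ∈ F.autGroup (P ⊔ Q) ∧
      ∀ x : ↥(P ⊔ Q), ((σ x : ↥(P ⊔ Q)) : Ω) = t * x * t⁻¹ := by
  have hXS : P ⊔ Q ≤ S := sup_le hPS hQ
  have hfinX : Finite ↥(P ⊔ Q) := finite_of_le S hXS
  obtain ⟨htS, k, hk, hkv⟩ := htT
  have hkv' : ∀ q : Q, ((k q : Q) : Ω) = t * q * t⁻¹ := hkv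
  have htQ : t ∈ Subgroup.normalizer (Q : Set Ω) := mem_normalizer_of_induces hkv'
  have htX : t ∈ Subgroup.normalizer ((P ⊔ Q : Subgroup Ω) : Set Ω) := by
    apply mem_normalizer_of_conj_mem
    have : P ⊔ Q ≤ (P ⊔ Q).comap (MulAut.conj t).toMonoidHom := by
      apply sup_le
      · intro x hx
        exact (le_sup_left : P ≤ P ⊔ Q) ((Subgroup.mem_normalizer_iff.1 htP x).1 hx)
      · intro x hx
        exact (le_sup_right : Q ≤ P ⊔ Q) ((Subgroup.mem_normalizer_iff.1 htQ x).1 hx)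
    intro x hx
    exact this hx
  have hiso := isIso_conj_normalizer F hXS (⟨htS, htX⟩ : t ∈ normalizerIn S (P ⊔ Q))
  obtain ⟨σ, hσF, hσv⟩ := exists_mem_autGroup_of_isIso F hiso
  have hσK : σ ∈ KP K₀ P := by
    refine ⟨fun x => ?_, k, hk, fun q => ?_⟩
    · rw [hσv]
      exact Subgroup.mem_normalizer_iff.1 htP x
    · rw [hσv]
      exact (hkv' q).symm
  exact ⟨σ, ⟨hσK, t, htS, fun x => hσv x⟩, hσF, hσv⟩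

/-- AKO I.5.5, Step 2, first half: if `P ⊔ Q` is fully `K_P`-normalized in `F` then `P` is fully
automized in `E = N_F^{K₀}(Q)`. -/
theorem KNorm_step2a [Finite S] {p : ℕ} [Fact p.Prime] (hS : IsPGroup p S) {F : FusionSystem S}
    (hF : F.IsSaturated p) {Q : Subgroup Ω} (hQ : Q ≤ S) {K₀ : Subgroup (MulAut Q)}
    {E : FusionSystem (NK S K₀ (id : Ω → Ω))} (hE : KSys F K₀ E) {P : Subgroup Ω}
    (hP : P ≤ NK S K₀ (id : Ω → Ω)) (hmax : IsKMax F (KP K₀ P) (id : Ω → Ω)) :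
    E.IsFullyAutomized p P := by
  have hT : NK S K₀ (id : Ω → Ω) ≤ S := NK_le K₀ _
  have hPS : P ≤ S := hP.trans hT
  have hXS : P ⊔ Q ≤ S := sup_le hPS hQ
  have hfinX : Finite ↥(P ⊔ Q) := finite_of_le S hXS
  have hfinP : Finite P := finite_of_le S hPS
  obtain ⟨-, hcard⟩ := hmax.props hS hF (IsIso.refl hXS)
  obtain ⟨A, hAdef⟩ : ∃ A, A = KP K₀ P ⊓ F.autGroup (P ⊔ Q) := ⟨_, rfl⟩
  rw [← hAdef] at hcard
  have hAK : A ≤ KP K₀ P := hAdef ▸ inf_le_left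
  have hAF : A ≤ F.autGroup (P ⊔ Q) := hAdef ▸ inf_le_right
  have hSigA : AS S (KP K₀ P) (id : Ω → Ω) ≤ A :=
    hAdef ▸ le_inf (AS_le _ _) (AS_le_autGroup (IsIso.refl hXS) _)
  obtain ⟨resA, hresA⟩ : ∃ resA : ↥A →* MulAut P, ∀ (α : ↥A) (x : P), ((resA α x : P) : Ω) =
      (((α : MulAut ↥(P ⊔ Q)) ⟨x, (le_sup_left : P ≤ P ⊔ Q) x.2⟩ : ↥(P ⊔ Q)) : Ω) :=
    ⟨(resHom K₀ P).comp (Subgroup.inclusion hAK), fun α x => rfl⟩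
  -- `Aut_E(P)` is the image of `A`
  have hrange : (⊤ : Subgroup ↥A).map resA = E.autGroup P := by
    apply le_antisymm
    · rintro _ ⟨α, -, rfl⟩
      rw [mem_autGroup_iff E hP, hE.hom_iff]
      have hαF : (α : MulAut ↥(P ⊔ Q)) ∈ F.autGroup (P ⊔ Q) := hAF α.2
      have hαK : (α : MulAut ↥(P ⊔ Q)) ∈ KP K₀ P := hAK α.2
      have hψ : (P ⊔ Q).subtype.comp (α : MulAut ↥(P ⊔ Q)).toMonoidHom ∈ F.Hom (P ⊔ Q) :=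
        (mem_autGroup_iff F hXS _).1 hαF
      refine ⟨?_, hP, fun x => hP (resA α x).2, _, hψ, fun x => (hresA α x).symm, ?_⟩
      · have h1 := restrict_mem F hψ (le_sup_left : P ≤ P ⊔ Q)
        have h2 : ((P ⊔ Q).subtype.comp (α : MulAut ↥(P ⊔ Q)).toMonoidHom).comp
            (Subgroup.inclusion (le_sup_left : P ≤ P ⊔ Q)) =
            P.subtype.comp (resA α).toMonoidHom := by
          ext x
          exact (hresA α x).symm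
        rw [← h2]
        exact h1
      · obtain ⟨k, hk, hkv⟩ := hαK.2
        exact ⟨k, hk, fun q => hkv q⟩
    · intro β hβ
      have hβiso := isIso_of_mem_autGroup E hP hβ
      obtain ⟨-, -, θ', hθ'β, hθ'⟩ := exists_isKIso hE hβiso
      obtain ⟨α, hαF, hαv⟩ := exists_mem_autGroup_of_isIso F hθ'.sup
      have hαK : α ∈ KP K₀ P := by
        obtain ⟨k, hk, hkv⟩ := hθ'.right
        refine ⟨fun x => ?_, k, hk, fun q => ?_⟩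
        · rw [hαv]
          exact hθ'.mem_iff x.2
        · rw [hαv]
          exact hkv q
      have hαA : α ∈ A := hAdef ▸ ⟨hαK, hαF⟩
      refine ⟨⟨α, hαA⟩, Subgroup.mem_top _, ?_⟩
      ext x
      rw [hresA]
      show ((α ⟨x, _⟩ : ↥(P ⊔ Q)) : Ω) = β x
      rw [hαv]
      show θ' x = β x
      rw [hθ'β x x.2, ext1_apply]
      rfl
  -- `Aut_T(P)` is the image of `Aut_S^{K_P}(P ⊔ Q)`
  have hSigmap : ((AS S (KP K₀ P) (id : Ω → Ω)).subgroupOf A).map resA =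
      autInducedBy (NK S K₀ (id : Ω → Ω)) P := by
    apply le_antisymm
    · rintro _ ⟨α, hα, rfl⟩
      obtain ⟨hαK, y, hyS, hy⟩ := Subgroup.mem_subgroupOf.1 hα
      have hy' : ∀ x : ↥(P ⊔ Q), (((α : MulAut ↥(P ⊔ Q)) x : ↥(P ⊔ Q)) : Ω) = y * x * y⁻¹ := hy
      have hyT : y ∈ NK S K₀ (id : Ω → Ω) := by
        obtain ⟨k, hk, hkv⟩ := hαK.2
        refine ⟨hyS, k, hk, fun q => ?_⟩
        show ((k q : Q) : Ω) = y * q * y⁻¹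
        rw [← hkv, hy']
      rw [mem_autInducedBy_iff]
      exact ⟨y, hyT, fun x => (hresA α x).trans (hy' _)⟩
    · intro β hβ
      obtain ⟨t, htT, ht⟩ := (mem_autInducedBy_iff _ P β).1 hβ
      have htP : t ∈ Subgroup.normalizer (P : Set Ω) := mem_normalizer_of_induces ht
      obtain ⟨σ, hσSig, hσF, hσv⟩ := exists_mem_AS_of_mem (F := F) hQ hPS htT htP
      refine ⟨⟨σ, hSigA hσSig⟩, Subgroup.mem_subgroupOf.2 hσSig, ?_⟩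
      ext x
      rw [hresA]
      show ((σ ⟨x, _⟩ : ↥(P ⊔ Q)) : Ω) = β x
      rw [hσv, ht]
  have hfinA : Finite ↥A := inferInstance
  have hidx : ¬ p ∣ ((AS S (KP K₀ P) (id : Ω → Ω)).subgroupOf A).index := by
    have h1 := Subgroup.card_mul_index ((AS S (KP K₀ P) (id : Ω → Ω)).subgroupOf A)
    have h2 : Nat.card ((AS S (KP K₀ P) (id : Ω → Ω)).subgroupOf A) =
        Nat.card (AS S (KP K₀ P) (id : Ω → Ω)) :=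
      Nat.card_congr (Subgroup.subgroupOfEquivOfLe hSigA).toEquiv
    obtain ⟨v, hv⟩ : ∃ v, v = (Nat.card ↥A).factorization p := ⟨_, rfl⟩
    rw [h2, hcard, ← hv] at h1
    intro hdvd
    have : p ^ (v + 1) ∣ Nat.card ↥A := by
      rw [← h1, pow_succ]
      exact mul_dvd_mul_left _ hdvd
    rw [hv] at this
    exact Nat.pow_succ_factorization_not_dvd Nat.card_pos.ne' Fact.out this
  have hrel : (autInducedBy (NK S K₀ (id : Ω → Ω)) P).relIndex (E.autGroup P) ∣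
      ((AS S (KP K₀ P) (id : Ω → Ω)).subgroupOf A).index := by
    rw [← hrange, ← hSigmap, Subgroup.relIndex_map_map, top_sup_eq, Subgroup.relIndex_top_right]
    exact Subgroup.index_dvd_of_le le_sup_left
  have hpg : IsPGroup p ((autInducedBy (NK S K₀ (id : Ω → Ω)) P).subgroupOf (E.autGroup P)) :=
    (autInducedBy_isPGroup (hS.to_le hT) P).comap_subtype
  exact ⟨hP, hpg.toSylow (fun h => hidx (h.trans hrel)), rfl⟩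

/-- A subgroup of Sylow order in `A` has Sylow order in every intermediate subgroup. -/
theorem sylow_card_of_le {G : Type*} [Group G] [Finite G] {p : ℕ} [hp : Fact p.Prime]
    {H B A : Subgroup G} (hHB : H ≤ B) (hBA : B ≤ A)
    (hcard : Nat.card H = p ^ (Nat.card A).factorization p) :
    Nat.card H = p ^ (Nat.card B).factorization p := by
  have ha : Nat.card A ≠ 0 := Nat.card_pos.ne'
  have hb : Nat.card B ≠ 0 := Nat.card_pos.ne'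
  have h1 : Nat.card H ∣ Nat.card B := Subgroup.card_dvd_of_le hHB
  have h2 : Nat.card B ∣ Nat.card A := Subgroup.card_dvd_of_le hBA
  have h3 : (Nat.card B).factorization p ≤ (Nat.card A).factorization p :=
    (Nat.factorization_le_iff_dvd hb ha).2 h2 p
  have h4 : (Nat.card A).factorization p ≤ (Nat.card B).factorization p := by
    rw [hcard] at h1
    exact (hp.out.pow_dvd_iff_le_factorization hb).1 h1
  rw [hcard, le_antisymm h3 h4]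

/-- The automorphisms in `K_P ∩ Aut_F(P ⊔ Q)` inducing on `P` an element of `Aut_T(P)`, where
`T = N_S^{K₀}(Q)`. -/
def BP (F : FusionSystem S) {Q : Subgroup Ω} (K₀ : Subgroup (MulAut Q)) (P : Subgroup Ω) :
    Subgroup (MulAut ↥(P ⊔ Q)) where
  carrier := {α | α ∈ KP K₀ P ⊓ F.autGroup (P ⊔ Q) ∧ ∃ t ∈ NK S K₀ (id : Ω → Ω), ∀ x : P,
    ((α ⟨x, (le_sup_left : P ≤ P ⊔ Q) x.2⟩ : ↥(P ⊔ Q)) : Ω) = t * x * t⁻¹}
  one_mem' := ⟨Subgroup.one_mem _, 1, Subgroup.one_mem _, fun x => by simp⟩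
  mul_mem' := by
    rintro α β ⟨hα, t, ht, htv⟩ ⟨hβ, s, hs, hsv⟩
    refine ⟨Subgroup.mul_mem _ hα hβ, t * s, Subgroup.mul_mem _ ht hs, fun x => ?_⟩
    have hβx : ((β ⟨x, (le_sup_left : P ≤ P ⊔ Q) x.2⟩ : ↥(P ⊔ Q)) : Ω) ∈ P := (hβ.1.1 _).1 x.2
    have e : β ⟨x, (le_sup_left : P ≤ P ⊔ Q) x.2⟩ =
        ⟨((⟨_, hβx⟩ : P) : Ω), (le_sup_left : P ≤ P ⊔ Q) hβx⟩ := rfl
    show ((α (β ⟨x, _⟩) : ↥(P ⊔ Q)) : Ω) = _
    rw [e, htv ⟨_, hβx⟩]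
    show t * ((β ⟨x, _⟩ : ↥(P ⊔ Q)) : Ω) * t⁻¹ = _
    rw [hsv]
    group
  inv_mem' := by
    rintro α ⟨hα, t, ht, htv⟩
    refine ⟨Subgroup.inv_mem _ hα, t⁻¹, Subgroup.inv_mem _ ht, fun x => ?_⟩
    have hx' : ((α⁻¹ ⟨x, (le_sup_left : P ≤ P ⊔ Q) x.2⟩ : ↥(P ⊔ Q)) : Ω) ∈ P :=
      ((Subgroup.inv_mem _ hα.1).1 _).1 x.2
    have h1 := htv ⟨_, hx'⟩
    have e : (⟨((⟨_, hx'⟩ : P) : Ω), (le_sup_left : P ≤ P ⊔ Q) hx'⟩ : ↥(P ⊔ Q)) =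
        α⁻¹ ⟨x, (le_sup_left : P ≤ P ⊔ Q) x.2⟩ := rfl
    rw [e] at h1
    rw [show α (α⁻¹ ⟨x, (le_sup_left : P ≤ P ⊔ Q) x.2⟩) =
      ⟨x, (le_sup_left : P ≤ P ⊔ Q) x.2⟩ by simp] at h1
    have h2 : (x : Ω) = t * ((α⁻¹ ⟨x, (le_sup_left : P ≤ P ⊔ Q) x.2⟩ : ↥(P ⊔ Q)) : Ω) * t⁻¹ := h1
    obtain ⟨w, hw⟩ : ∃ w : Ω, w = ((α⁻¹ ⟨x, (le_sup_left : P ≤ P ⊔ Q) x.2⟩ : ↥(P ⊔ Q)) : Ω) :=
      ⟨_, rfl⟩
    rw [← hw] at h2 ⊢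
    rw [h2]
    group

theorem BP_le (F : FusionSystem S) {Q : Subgroup Ω} (K₀ : Subgroup (MulAut Q)) (P : Subgroup Ω) :
    BP F K₀ P ≤ KP K₀ P ⊓ F.autGroup (P ⊔ Q) := fun _ h => h.1

/-- `Aut_S^{K_P}(P ⊔ Q)` computed with `BP` in place of `K_P`. -/
theorem AS_BP [Finite S] (F : FusionSystem S) {Q : Subgroup Ω} (hQ : Q ≤ S)
    (K₀ : Subgroup (MulAut Q)) {P : Subgroup Ω} (hP : P ≤ S) :
    AS S (BP F K₀ P) (id : Ω → Ω) = AS S (KP K₀ P) (id : Ω → Ω) := by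
  have hXS : P ⊔ Q ≤ S := sup_le hP hQ
  apply le_antisymm
  · rintro σ ⟨hσB, y, hyS, hy⟩
    exact ⟨(BP_le F K₀ P hσB).1, y, hyS, hy⟩
  · rintro σ ⟨hσK, y, hyS, hy⟩
    have hy' : ∀ x : ↥(P ⊔ Q), ((σ x : ↥(P ⊔ Q)) : Ω) = y * x * y⁻¹ := hy
    have hσF : σ ∈ F.autGroup (P ⊔ Q) :=
      AS_le_autGroup (IsIso.refl hXS) (KP K₀ P) ⟨hσK, y, hyS, hy⟩
    have hyT : y ∈ NK S K₀ (id : Ω → Ω) := by
      obtain ⟨k, hk, hkv⟩ := hσK.2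
      refine ⟨hyS, k, hk, fun q => ?_⟩
      show ((k q : Q) : Ω) = y * q * y⁻¹
      rw [← hkv, hy']
    exact ⟨⟨⟨hσK, hσF⟩, y, hyT, fun x => hy' _⟩, y, hyS, hy⟩

/-- AKO I.5.5, Step 2, second half: if `P ⊔ Q` is fully `K_P`-normalized in `F` then `P` is
receptive in `E = N_F^{K₀}(Q)`. -/
theorem KNorm_step2b [Finite S] {p : ℕ} [Fact p.Prime] (hS : IsPGroup p S) {F : FusionSystem S}
    (hF : F.IsSaturated p) {Q : Subgroup Ω} (hQ : Q ≤ S) {K₀ : Subgroup (MulAut Q)}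
    {E : FusionSystem (NK S K₀ (id : Ω → Ω))} (hE : KSys F K₀ E) {P : Subgroup Ω}
    (hP : P ≤ NK S K₀ (id : Ω → Ω)) (hmax : IsKMax F (KP K₀ P) (id : Ω → Ω)) :
    E.IsReceptive P := by
  have hT : NK S K₀ (id : Ω → Ω) ≤ S := NK_le K₀ _
  have hPS : P ≤ S := hP.trans hT
  have hXS : P ⊔ Q ≤ S := sup_le hPS hQ
  have hfinX : Finite ↥(P ⊔ Q) := finite_of_le S hXS
  obtain ⟨hXrec, hcard⟩ := hmax.props hS hF (IsIso.refl hXS)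
  have hcardB : Nat.card (AS S (BP F K₀ P) (id : Ω → Ω)) =
      p ^ (Nat.card ↥(BP F K₀ P ⊓ F.autGroup (P ⊔ Q))).factorization p := by
    rw [AS_BP F hQ K₀ hPS]
    have hB : BP F K₀ P ⊓ F.autGroup (P ⊔ Q) = BP F K₀ P :=
      inf_eq_left.2 ((BP_le F K₀ P).trans inf_le_right)
    rw [hB]
    refine sylow_card_of_le ?_ (BP_le F K₀ P) hcard
    rw [← AS_BP F hQ K₀ hPS]
    exact AS_le _ _
  refine ⟨hP, fun R φ hφ hr => ?_⟩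
  have hφiso : IsIso E R P (ext1 φ) := by
    have := isIso_of_mem E hφ
    rwa [hr] at this
  obtain ⟨hR, -, θ, hθφ, hθ⟩ := exists_isKIso hE hφiso
  have hθφ' : ∀ x : R, φ x = θ x := fun x => by rw [hθφ x x.2, ext1_apply]
  have hRS : R ≤ S := hR.trans hT
  obtain ⟨g, hg, hgθ, hθg⟩ := hθ.symm
  obtain ⟨χ, ψ, N, N', hχA, hψ, hNKle, hRQN, hψg, hrel⟩ :=
    K_extend hS (BP F K₀ P) hXrec (IsIso.refl hXS) hcardB hg.sup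
  have hψg' : ∀ x : ↥(P ⊔ Q), ψ (g x) = ((χ x : ↥(P ⊔ Q)) : Ω) := hψg
  have hmemNK : ∀ z ∈ NK S (BP F K₀ P) g, ψ z ∈ NK S (BP F K₀ P) (id : Ω → Ω) := fun z hz =>
    K_extend_mem hχA.1 hψ hrel hNKle hz
  -- the extender of `φ` in `E` lies in `NK S B g`
  have hext : extender (NK S K₀ (id : Ω → Ω)) R φ ≤ NK S (BP F K₀ P) g := by
    intro n hn
    obtain ⟨hnT, hnR, t, htT, ht⟩ := (mem_extender_iff' hθφ' n).1 hn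
    obtain ⟨σ, hσS, hσF, hσv⟩ := exists_mem_AS_of_mem (F := F) hQ hRS hnT hnR
    obtain ⟨b, hbK, hbF, hbv⟩ := KP_transport' hθ hσS.1
    have key : ∀ (x₀ : Ω) (hx₀ : x₀ ∈ R ⊔ Q),
        ((b ⟨θ x₀, hθ.sup.map_mem hx₀⟩ : ↥(P ⊔ Q)) : Ω) = θ (n * x₀ * n⁻¹) := by
      intro x₀ hx₀
      rw [hbv ⟨x₀, hx₀⟩, hσv]
    have hconj : ∀ x₀ ∈ R ⊔ Q, n * x₀ * n⁻¹ ∈ R ⊔ Q := by
      intro x₀ hx₀
      rw [← hσv ⟨x₀, hx₀⟩]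
      exact (σ ⟨x₀, hx₀⟩).2
    have hbB : b ∈ BP F K₀ P := by
      refine ⟨⟨hbK, hbF hσF⟩, t, htT, fun x => ?_⟩
      have hxX : (x : Ω) ∈ P ⊔ Q := (le_sup_left : P ≤ P ⊔ Q) x.2
      have hgx : g x ∈ R := hg.left.map_mem x.2
      have hgxRQ : g x ∈ R ⊔ Q := (le_sup_left : R ≤ R ⊔ Q) hgx
      have h1 := key (g x) hgxRQ
      have e : (⟨θ (g x), hθ.sup.map_mem hgxRQ⟩ : ↥(P ⊔ Q)) = ⟨x, hxX⟩ :=
        Subtype.ext (hθg x hxX)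
      rw [e] at h1
      rw [h1, ht (g x) hgx, hθg x hxX]
    refine ⟨hT hnT, b, hbB, fun x => ?_⟩
    have hgxRQ : g x ∈ R ⊔ Q := hg.sup.map_mem x.2
    have h1 := key (g x) hgxRQ
    have e : (⟨θ (g x), hθ.sup.map_mem hgxRQ⟩ : ↥(P ⊔ Q)) = x := Subtype.ext (hθg x x.2)
    rw [e] at h1
    rw [h1, hgθ _ (hconj _ hgxRQ)]
  have hNE : extender (NK S K₀ (id : Ω → Ω)) R φ ≤ N := hext.trans hNKle
  have hNET : extender (NK S K₀ (id : Ω → Ω)) R φ ≤ NK S K₀ (id : Ω → Ω) :=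
    (extender_le_normalizerIn _ R φ).trans inf_le_left
  have hQN : Q ≤ N := le_sup_right.trans hRQN
  have hRN : R ≤ N := le_sup_left.trans hRQN
  -- `χ` acts on `P` as conjugation by some `t ∈ T`
  obtain ⟨⟨hχK, hχF⟩, t, htT, htv⟩ := hχA.1
  have htS : t ∈ S := hT htT
  obtain ⟨ψ', hψ'def⟩ : ∃ ψ' : Ω → Ω, ψ' = fun x => t⁻¹ * ψ x * t⁻¹⁻¹ := ⟨_, rfl⟩
  have hψ'v : ∀ x, ψ' x = t⁻¹ * ψ x * t := fun x => by rw [hψ'def]; simp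
  have hψ' : IsIso F N (N'.map (MulAut.conj t⁻¹).toMonoidHom) ψ' := by
    rw [hψ'def]
    exact hψ.trans (IsIso.conj hψ.le_right (S.inv_mem htS))
  -- values of `ψ'` on `R`
  have hψ'R : ∀ r ∈ R, ψ' r = θ r := by
    intro r hr'
    have hrRQ : r ∈ R ⊔ Q := (le_sup_left : R ≤ R ⊔ Q) hr'
    have hθrP : θ r ∈ P := hθ.left.map_mem hr'
    have h1 := hψg' ⟨θ r, (le_sup_left : P ≤ P ⊔ Q) hθrP⟩
    have h2 : g ((⟨θ r, (le_sup_left : P ≤ P ⊔ Q) hθrP⟩ : ↥(P ⊔ Q)) : Ω) = r := hgθ r hrRQ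
    rw [h2] at h1
    rw [hψ'v, h1, htv ⟨θ r, hθrP⟩]
    group
  -- values of `ψ'` on `Q`
  obtain ⟨kθ, hkθ, hkθv⟩ := hθ.right
  obtain ⟨kχ, hkχ, hkχv⟩ := hχK.2
  obtain ⟨-, kt, hkt, hktv⟩ := htT
  have hktv' : ∀ q : Q, ((kt q : Q) : Ω) = t * q * t⁻¹ := hktv
  have hψ'Q : ∀ q : Q, ψ' q = (((kt⁻¹ * kχ * kθ) q : Q) : Ω) := by
    intro q
    have hqRQ : (q : Ω) ∈ R ⊔ Q := (le_sup_right : Q ≤ R ⊔ Q) q.2
    have hθqQ : θ q ∈ Q := by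
      rw [hkθv]
      exact (kθ q).2
    have h1 := hψg' ⟨θ q, (le_sup_right : Q ≤ P ⊔ Q) hθqQ⟩
    have h2 : g ((⟨θ q, (le_sup_right : Q ≤ P ⊔ Q) hθqQ⟩ : ↥(P ⊔ Q)) : Ω) = q := hgθ q hqRQ
    rw [h2] at h1
    have e : (⟨θ q, (le_sup_right : Q ≤ P ⊔ Q) hθqQ⟩ : ↥(P ⊔ Q)) =
        ⟨((kθ q : Q) : Ω), (le_sup_right : Q ≤ P ⊔ Q) (kθ q).2⟩ := Subtype.ext (hkθv q)
    rw [e, hkχv] at h1
    rw [hψ'v, h1]
    have h3 := hktv' (kt⁻¹ (kχ (kθ q)))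
    rw [show kt (kt⁻¹ (kχ (kθ q))) = kχ (kθ q) by simp] at h3
    show _ = ((kt⁻¹ (kχ (kθ q)) : Q) : Ω)
    rw [h3]
    group
  have hkmem : kt⁻¹ * kχ * kθ ∈ K₀ := K₀.mul_mem (K₀.mul_mem (K₀.inv_mem hkt) hkχ) hkθ
  -- restrictions of `ψ'`
  obtain ⟨M, -, hM, -⟩ := hψ'.restrict (sup_le hNE hQN)
  obtain ⟨NE', -, hNE', hNE'mem⟩ := hψ'.restrict hNE
  have hQQ : IsIso F Q Q ψ' := by
    refine hψ'.restrict' hQN (fun q hq => ?_) (fun y hy => ?_)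
    · rw [hψ'Q ⟨q, hq⟩]
      exact ((kt⁻¹ * kχ * kθ) ⟨q, hq⟩).2
    · refine ⟨(((kt⁻¹ * kχ * kθ)⁻¹ ⟨y, hy⟩ : Q) : Ω), ((kt⁻¹ * kχ * kθ)⁻¹ ⟨y, hy⟩).2, ?_⟩
      rw [hψ'Q]
      simp
  have himg := hM.image_sup hNE' hQQ
  subst himg
  have hKiso : IsKIso F K₀ (extender (NK S K₀ (id : Ω → Ω)) R φ) NE' ψ' :=
    ⟨hM, hNE', _, hkmem, hψ'Q⟩
  have hNE'T : NE' ≤ NK S K₀ (id : Ω → Ω) := by
    intro y hy
    obtain ⟨n, hn, rfl⟩ := (hNE'mem y).1 hy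
    obtain ⟨hψnS, b, hbB, hbv⟩ := hmemNK n (hext hn)
    have hbv' : ∀ x : ↥(P ⊔ Q), ((b x : ↥(P ⊔ Q)) : Ω) = ψ n * x * (ψ n)⁻¹ := hbv
    obtain ⟨kb, hkb, hkbv⟩ := (BP_le F K₀ P hbB).1.2
    have hψnT : ψ n ∈ NK S K₀ (id : Ω → Ω) := by
      refine ⟨hψnS, kb, hkb, fun q => ?_⟩
      show ((kb q : Q) : Ω) = ψ n * q * (ψ n)⁻¹
      rw [← hkbv, hbv']
    rw [hψ'v]
    have htT' : t ∈ NK S K₀ (id : Ω → Ω) := ⟨htS, kt, hkt, hktv⟩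
    exact Subgroup.mul_mem _ (Subgroup.mul_mem _ (Subgroup.inv_mem _ htT') hψnT) htT'
  obtain ⟨ψE, hψE, hψEv, -⟩ := hKiso.isIso hE hNET hNE'T
  refine ⟨ψE, hψE, fun x hxR hxN => ?_⟩
  rw [hψEv ⟨x, hxN⟩, hψ'R x hxR, hθφ' ⟨x, hxR⟩]

/-- AKO Theorem I.5.5: if `Q` is fully `K₀`-normalized in the saturated fusion system `F`, then the
`K₀`-normalizer system `N_F^{K₀}(Q)` is saturated. -/
theorem KNorm_saturated [Finite S] {p : ℕ} [Fact p.Prime] (hS : IsPGroup p S) {F : FusionSystem S}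
    (hF : F.IsSaturated p) {Q : Subgroup Ω} (hQ : Q ≤ S) {K₀ : Subgroup (MulAut Q)}
    (hQmax : IsKMax F K₀ (id : Ω → Ω)) {E : FusionSystem (NK S K₀ (id : Ω → Ω))}
    (hE : KSys F K₀ E) : E.IsSaturated p := by
  intro P hP
  obtain ⟨P', θ, hP', hθ, hmax⟩ := KNorm_step1 hS hF hQ hQmax hP
  exact ⟨P', (hθ.isIso hE hP hP').isConj, KNorm_step2a hS hF hQ hE hP' hmax,
    KNorm_step2b hS hF hQ hE hP' hmax⟩

/-- The same, for a system over a subgroup `T` known to be equal to `N_S^{K₀}(Q)`. -/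
theorem KNorm_saturated' [Finite S] {p : ℕ} [Fact p.Prime] (hS : IsPGroup p S)
    {F : FusionSystem S} (hF : F.IsSaturated p) {Q : Subgroup Ω} (hQ : Q ≤ S)
    {K₀ : Subgroup (MulAut Q)} (hQmax : IsKMax F K₀ (id : Ω → Ω)) {T : Subgroup Ω}
    (hT : T = NK S K₀ (id : Ω → Ω)) (E : FusionSystem T)
    (hE : ∀ (P : Subgroup Ω) (φ : P →* Ω), φ ∈ E.Hom P ↔
      (φ ∈ F.Hom P ∧ P ≤ T ∧ (∀ x : P, φ x ∈ T) ∧
        ∃ ψ ∈ F.Hom (P ⊔ Q), (∀ x : P, ψ (Subgroup.inclusion le_sup_left x) = φ x) ∧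
          ∃ k ∈ K₀, ∀ q : Q, ψ (Subgroup.inclusion le_sup_right q) = ((k q : Q) : Ω))) :
    E.IsSaturated p := by
  subst hT
  exact KNorm_saturated hS hF hQ hQmax ⟨hE⟩

end Cfsg.Agent.Lib.H25
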