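import Cfsg.Agent.Lib.H25.SatEquiv

set_option autoImplicit false

/-!
`K`-normalizers in saturated fusion systems (AKO, Proposition I.5.2), in a form relative to a base
subgroup `X` and a group `K` of automorphisms of `X`: for an isomorphism `f : X → Y` of the system
the subgroup `NK S K f` of `S` is `N_S^{fK}(Y)` and `AS S K f` is `Aut_S^{fK}(Y)` transported back
to `X`.
-/

namespace Cfsg.Agent.Lib.H25

open Cfsg Cfsg.FusionSystem

variable {Ω : Type*} [Group Ω] {S : Subgroup Ω}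

/-- An automorphism of the subgroup `X` as a function on `Ω`. -/
noncomputable def aut1 {X : Subgroup Ω} (k : MulAut X) : Ω → Ω :=
  ext1 (X.subtype.comp k.toMonoidHom)

theorem aut1_apply {X : Subgroup Ω} (k : MulAut X) (x : X) : aut1 k x = ((k x : X) : Ω) := by
  unfold aut1
  rw [ext1_apply]
  rfl

theorem aut1_apply_mem {X : Subgroup Ω} (k : MulAut X) {x : Ω} (hx : x ∈ X) :
    aut1 k x = ((k ⟨x, hx⟩ : X) : Ω) := aut1_apply k ⟨x, hx⟩

theorem isIso_aut1 (F : FusionSystem S) {X : Subgroup Ω} (hX : X ≤ S) {k : MulAut X}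
    (hk : k ∈ F.autGroup X) : IsIso F X X (aut1 k) := isIso_of_mem_autGroup F hX hk

/-- `N_S^{fK}(f X)`: the elements of `S` whose conjugation action on `f X`, transported back to
`X` through `f`, lies in `K`. -/
def NK (S : Subgroup Ω) {X : Subgroup Ω} (K : Subgroup (MulAut X)) (f : Ω → Ω) : Subgroup Ω where
  carrier := {y | y ∈ S ∧ ∃ k ∈ K, ∀ x : X, f ((k x : X) : Ω) = y * f x * y⁻¹}
  one_mem' := ⟨S.one_mem, 1, K.one_mem, fun x => by simp⟩
  mul_mem' := by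
    rintro a b ⟨ha, k, hk, hka⟩ ⟨hb, l, hl, hlb⟩
    refine ⟨S.mul_mem ha hb, k * l, K.mul_mem hk hl, fun x => ?_⟩
    rw [MulAut.mul_apply, hka, hlb]
    group
  inv_mem' := by
    rintro a ⟨ha, k, hk, hka⟩
    refine ⟨S.inv_mem ha, k⁻¹, K.inv_mem hk, fun x => ?_⟩
    have h := hka (k⁻¹ x)
    rw [show k (k⁻¹ x) = x by simp] at h
    rw [h]
    group

theorem mem_NK {X : Subgroup Ω} {K : Subgroup (MulAut X)} {f : Ω → Ω} {y : Ω} :
    y ∈ NK S K f ↔ y ∈ S ∧ ∃ k ∈ K, ∀ x : X, f ((k x : X) : Ω) = y * f x * y⁻¹ := Iff.rfl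

/-- `Aut_S^{fK}(f X)` transported back to `X`. -/
def AS (S : Subgroup Ω) {X : Subgroup Ω} (K : Subgroup (MulAut X)) (f : Ω → Ω) :
    Subgroup (MulAut X) where
  carrier := {k | k ∈ K ∧ ∃ y ∈ S, ∀ x : X, f ((k x : X) : Ω) = y * f x * y⁻¹}
  one_mem' := ⟨K.one_mem, 1, S.one_mem, fun x => by simp⟩
  mul_mem' := by
    rintro k l ⟨hk, a, ha, hka⟩ ⟨hl, b, hb, hlb⟩
    refine ⟨K.mul_mem hk hl, a * b, S.mul_mem ha hb, fun x => ?_⟩
    rw [MulAut.mul_apply, hka, hlb]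
    group
  inv_mem' := by
    rintro k ⟨hk, a, ha, hka⟩
    refine ⟨K.inv_mem hk, a⁻¹, S.inv_mem ha, fun x => ?_⟩
    have h := hka (k⁻¹ x)
    rw [show k (k⁻¹ x) = x by simp] at h
    rw [h]
    group

theorem mem_AS {X : Subgroup Ω} {K : Subgroup (MulAut X)} {f : Ω → Ω} {k : MulAut X} :
    k ∈ AS S K f ↔ k ∈ K ∧ ∃ y ∈ S, ∀ x : X, f ((k x : X) : Ω) = y * f x * y⁻¹ := Iff.rfl

theorem AS_le {X : Subgroup Ω} (K : Subgroup (MulAut X)) (f : Ω → Ω) : AS S K f ≤ K :=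
  fun _ hk => hk.1

theorem NK_le {X : Subgroup Ω} (K : Subgroup (MulAut X)) (f : Ω → Ω) : NK S K f ≤ S :=
  fun _ hy => hy.1

/-- An element acting on `f X = Y` like an automorphism of `X` normalizes `Y`. -/
theorem mem_normalizer_of_rel [Finite S] {F : FusionSystem S} {X Y : Subgroup Ω} {f : Ω → Ω}
    (h : IsIso F X Y f) {k : MulAut X} {y : Ω}
    (hy : ∀ x : X, f ((k x : X) : Ω) = y * f x * y⁻¹) :
    y ∈ Subgroup.normalizer (Y : Set Ω) := by
  have : Finite Y := finite_of_le S h.le_right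
  apply mem_normalizer_of_conj_mem
  intro z hz
  obtain ⟨x, hx, rfl⟩ := h.surjOn hz
  rw [← hy ⟨x, hx⟩]
  exact h.map_mem (k ⟨x, hx⟩).2

theorem NK_le_normalizerIn [Finite S] {F : FusionSystem S} {X Y : Subgroup Ω} {f : Ω → Ω}
    (h : IsIso F X Y f) (K : Subgroup (MulAut X)) : NK S K f ≤ normalizerIn S Y := by
  rintro y ⟨hyS, k, -, hk⟩
  exact ⟨hyS, mem_normalizer_of_rel h hk⟩

theorem centralizerIn_le_NK {F : FusionSystem S} {X Y : Subgroup Ω} {f : Ω → Ω}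
    (h : IsIso F X Y f) (K : Subgroup (MulAut X)) : centralizerIn S Y ≤ NK S K f := by
  intro c hc
  refine ⟨hc.1, 1, K.one_mem, fun x => ?_⟩
  have := hc.2 (f x) (h.map_mem x.2)
  show f x = c * f x * c⁻¹
  rw [← this]
  group

theorem AS_le_autGroup [Finite S] {F : FusionSystem S} {X Y : Subgroup Ω} {f : Ω → Ω}
    (h : IsIso F X Y f) (K : Subgroup (MulAut X)) : AS S K f ≤ F.autGroup X := by
  rintro k ⟨-, y, hyS, hy⟩
  have hyN : y ∈ normalizerIn S Y := ⟨hyS, mem_normalizer_of_rel h hy⟩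
  obtain ⟨g, hg, hgf, hfg⟩ := h.symm
  have hiso : IsIso F X X (fun x => g (y * f x * y⁻¹)) :=
    (h.trans (isIso_conj_normalizer F h.le_right hyN)).trans hg
  obtain ⟨β, hβ, hβv⟩ := exists_mem_autGroup_of_isIso F hiso
  have : k = β := by
    ext x
    rw [hβv]
    show ((k x : X) : Ω) = g (y * f x * y⁻¹)
    rw [← hy x, hgf _ (k x).2]
  rw [this]
  exact hβ

theorem AS_isPGroup {p : ℕ} (hS : IsPGroup p S) {F : FusionSystem S} {X Y : Subgroup Ω}
    {f : Ω → Ω} (h : IsIso F X Y f) (K : Subgroup (MulAut X)) : IsPGroup p (AS S K f) := by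
  rintro ⟨k, -, y, hyS, hy⟩
  obtain ⟨n, hn⟩ := hS ⟨y, hyS⟩
  refine ⟨n, Subtype.ext ?_⟩
  have hpow : ∀ m : ℕ, ∀ x : X, f (((k ^ m) x : X) : Ω) = y ^ m * f x * (y ^ m)⁻¹ := by
    intro m
    induction m with
    | zero => intro x; simp
    | succ m ih =>
      intro x
      rw [pow_succ, MulAut.mul_apply, ih, hy, pow_succ]
      group
  have hy1 : y ^ p ^ n = 1 := by
    have := congrArg Subtype.val hn
    simpa using this
  show k ^ p ^ n = 1
  ext x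
  apply h.injOn ((k ^ p ^ n) x).2 ((1 : MulAut X) x).2
  rw [hpow, hy1]
  simp

/-- Sylow conjugation inside a subgroup `A`, for a subgroup `H` of `A` of Sylow order. -/
theorem sylow_conj {G : Type*} [Group G] [Finite G] {p : ℕ} [Fact p.Prime] {A H D : Subgroup G}
    (hH : H ≤ A) (hcard : Nat.card H = p ^ (Nat.card A).factorization p) (hD : D ≤ A)
    (hDp : IsPGroup p D) : ∃ a ∈ A, ∀ d ∈ D, a * d * a⁻¹ ∈ H := by
  have hc : Nat.card (H.subgroupOf A) = p ^ (Nat.card A).factorization p := by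
    rw [← hcard]
    exact Nat.card_congr (Subgroup.subgroupOfEquivOfLe hH).toEquiv
  have hD' : IsPGroup p (D.subgroupOf A) := hDp.comap_subtype
  obtain ⟨R', hR'⟩ := hD'.exists_le_sylow
  obtain ⟨a, ha⟩ := MulAction.exists_smul_eq A R' (Sylow.ofCard _ hc)
  refine ⟨a, a.2, fun d hd => ?_⟩
  have hd' : (⟨d, hD hd⟩ : A) ∈ (R' : Subgroup A) := hR' (Subgroup.mem_subgroupOf.2 hd)
  have h2 : a * ⟨d, hD hd⟩ * a⁻¹ ∈ ((Sylow.ofCard _ hc : Sylow p A) : Subgroup A) := by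
    rw [← ha]
    show a * ⟨d, hD hd⟩ * a⁻¹ ∈ ((a • R' : Sylow p A) : Subgroup A)
    rw [Sylow.smul_def, Sylow.pointwise_smul_def]
    exact ⟨⟨d, hD hd⟩, hd', rfl⟩
  rw [Sylow.coe_ofCard] at h2
  exact Subgroup.mem_subgroupOf.1 h2

/-- AKO I.5.2, existence part: some isomorphism `h : X → W` of the system has `W` receptive and
`Aut_S^{hK}(W)` of Sylow order in `K ∩ Aut_F(X)`. -/
theorem exists_good [Finite S] {p : ℕ} [Fact p.Prime] (hS : IsPGroup p S) {F : FusionSystem S}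
    (hF : F.IsSaturated p) {X : Subgroup Ω} (hX : X ≤ S) (K : Subgroup (MulAut X)) :
    ∃ (W : Subgroup Ω) (h : Ω → Ω), IsIso F X W h ∧ F.IsReceptive W ∧
      Nat.card (AS S K h) = p ^ (Nat.card ↥(K ⊓ F.autGroup X)).factorization p := by
  have hfinX : Finite X := finite_of_le S hX
  obtain ⟨W, hXW, hWfa, hWrec⟩ := hF X hX
  obtain ⟨h₀, hh₀⟩ := (isConj_iff F).1 hXW
  obtain ⟨D⟩ : Nonempty (Sylow p ↥(K ⊓ F.autGroup X)) := inferInstance
  obtain ⟨D', hD'def⟩ : ∃ D' : Subgroup (MulAut X),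
      D' = (D : Subgroup ↥(K ⊓ F.autGroup X)).map (K ⊓ F.autGroup X).subtype := ⟨_, rfl⟩
  have hD'A : D' ≤ K ⊓ F.autGroup X := by
    rw [hD'def]
    rintro _ ⟨d, -, rfl⟩
    exact d.2
  have hD'p : IsPGroup p D' := by
    rw [hD'def]
    exact D.2.map _
  have hD'card : Nat.card D' = p ^ (Nat.card ↥(K ⊓ F.autGroup X)).factorization p := by
    rw [hD'def, Subgroup.card_map_of_injective (Subgroup.subtype_injective _)]
    exact D.card_eq_multiplicity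
  obtain ⟨e₀, he₀⟩ : ∃ e₀ : X ≃* W, ∀ x : X, ((e₀ x : W) : Ω) = h₀ x :=
    ⟨hh₀.toMulEquiv, fun x => hh₀.toMulEquiv_apply x⟩
  have hD''p : IsPGroup p (D'.map (MulAut.congr e₀).toMonoidHom) := hD'p.map _
  have hD''le : D'.map (MulAut.congr e₀).toMonoidHom ≤ F.autGroup W := by
    rintro _ ⟨d, hd, rfl⟩
    exact congr_mem_autGroup hh₀ e₀ he₀ (hD'A hd).2
  obtain ⟨a, ha, hconj⟩ := IsFullyAutomized_exists_conj hWfa _ hD''p hD''le
  have hiso : IsIso F X W (aut1 a ∘ h₀) := hh₀.trans (isIso_aut1 F hWrec.1 ha)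
  refine ⟨W, aut1 a ∘ h₀, hiso, hWrec, ?_⟩
  have hle : D' ≤ AS S K (aut1 a ∘ h₀) := by
    intro d hd
    refine ⟨(hD'A hd).1, ?_⟩
    have hmem := hconj _ ⟨d, hd, rfl⟩
    obtain ⟨w, hwS, hw⟩ := (mem_autInducedBy_iff S W _).1 hmem
    refine ⟨w, hwS, fun x => ?_⟩
    have h1 := hw (a (e₀ x))
    have h2 : (a * (MulAut.congr e₀).toMonoidHom d * a⁻¹) (a (e₀ x)) = a (e₀ (d x)) := by
      show a ((MulAut.congr e₀ d) (a⁻¹ (a (e₀ x)))) = a (e₀ (d x))
      rw [show a⁻¹ (a (e₀ x)) = e₀ x by simp]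
      show a (e₀ (d (e₀.symm (e₀ x)))) = a (e₀ (d x))
      simp
    rw [h2] at h1
    show aut1 a (h₀ ((d x : X) : Ω)) = w * aut1 a (h₀ x) * w⁻¹
    rw [← he₀, ← he₀, aut1_apply, aut1_apply]
    exact h1
  have hASA : AS S K (aut1 a ∘ h₀) ≤ K ⊓ F.autGroup X :=
    le_inf (AS_le K _) (AS_le_autGroup hiso K)
  have hASp : IsPGroup p (AS S K (aut1 a ∘ h₀)) := AS_isPGroup hS hiso K
  have heq : (AS S K (aut1 a ∘ h₀)).subgroupOf (K ⊓ F.autGroup X) =
      (D : Subgroup ↥(K ⊓ F.autGroup X)) := by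
    apply D.is_maximal' hASp.comap_subtype
    intro d hd
    show (d : MulAut X) ∈ AS S K (aut1 a ∘ h₀)
    apply hle
    rw [hD'def]
    exact ⟨d, hd, rfl⟩
  have hc1 : Nat.card ((AS S K (aut1 a ∘ h₀)).subgroupOf (K ⊓ F.autGroup X)) =
      Nat.card (AS S K (aut1 a ∘ h₀)) :=
    Nat.card_congr (Subgroup.subgroupOfEquivOfLe hASA).toEquiv
  rw [← hc1, heq]
  exact D.card_eq_multiplicity

/-- AKO I.5.2(b): if `W` is receptive and `Aut_S^{hK}(W)` has Sylow order in `K ∩ Aut_F(X)`, then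
for every isomorphism `g : X → Z` some `h ∘ χ ∘ g⁻¹` with `χ ∈ K ∩ Aut_F(X)` extends to a map of the
system defined on `N_S^{gK}(Z)`, carrying it into `N_S^{hK}(W)`. -/
theorem K_extend [Finite S] {p : ℕ} [Fact p.Prime] (hS : IsPGroup p S) {F : FusionSystem S}
    {X W Z : Subgroup Ω} {h g : Ω → Ω} (K : Subgroup (MulAut X)) (hW : F.IsReceptive W)
    (hh : IsIso F X W h)
    (hcard : Nat.card (AS S K h) = p ^ (Nat.card ↥(K ⊓ F.autGroup X)).factorization p)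
    (hg : IsIso F X Z g) :
    ∃ (χ : MulAut X) (ψ : Ω → Ω) (N N' : Subgroup Ω), χ ∈ K ⊓ F.autGroup X ∧ IsIso F N N' ψ ∧
      NK S K g ≤ N ∧ Z ≤ N ∧ (∀ x : X, ψ (g x) = h ((χ x : X) : Ω)) ∧
      (∀ z ∈ NK S K g, ∀ k ∈ K, (∀ x : X, g ((k x : X) : Ω) = z * g x * z⁻¹) →
        ∀ x : X, h (((χ * k * χ⁻¹) x : X) : Ω) = ψ z * h x * (ψ z)⁻¹) := by
  have hX : X ≤ S := hh.le_left
  have hfinX : Finite X := finite_of_le S hX
  have hASA : AS S K h ≤ K ⊓ F.autGroup X := le_inf (AS_le K _) (AS_le_autGroup hh K)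
  have hDA : AS S K g ≤ K ⊓ F.autGroup X := le_inf (AS_le K _) (AS_le_autGroup hg K)
  obtain ⟨χ, hχA, hχ⟩ := sylow_conj hASA hcard hDA (AS_isPGroup hS hg K)
  obtain ⟨g', hg', hg'g, hgg'⟩ := hg.symm
  have hiso : IsIso F Z W (h ∘ (aut1 χ ∘ g')) := (hg'.trans (isIso_aut1 F hX hχA.2)).trans hh
  obtain ⟨φ₀, hφ₀, hφ₀f, hr⟩ := hiso
  have hiso : IsIso F Z W (h ∘ (aut1 χ ∘ g')) := ⟨φ₀, hφ₀, hφ₀f, hr⟩
  have hval : ∀ x : X, (h ∘ (aut1 χ ∘ g')) (g x) = h ((χ x : X) : Ω) := by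
    intro x
    show h (aut1 χ (g' (g x))) = _
    rw [hg'g x x.2, aut1_apply]
  have hNKle : NK S K g ≤ extender S Z φ₀ := by
    rintro z₀ ⟨hz₀S, k, hkK, hk⟩
    rw [mem_extender_iff' hφ₀f]
    refine ⟨hz₀S, mem_normalizer_of_rel hg hk, ?_⟩
    obtain ⟨-, w, hwS, hw⟩ := hχ k ⟨hkK, z₀, hz₀S, hk⟩
    refine ⟨w, hwS, fun z hz => ?_⟩
    obtain ⟨x, hx, rfl⟩ := hg.surjOn hz
    have e1 : z₀ * g x * z₀⁻¹ = g ((k ⟨x, hx⟩ : X) : Ω) := (hk ⟨x, hx⟩).symm
    rw [e1, hval, hval ⟨x, hx⟩]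
    have := hw (χ ⟨x, hx⟩)
    rw [← this]
    congr 2
    simp
  have hZle : Z ≤ extender S Z φ₀ := le_extender F hφ₀
  obtain ⟨ψ, N', hψ, hψv⟩ := IsReceptive_extend hW hiso (extender S Z φ₀)
    (fun n hn => (mem_extender_iff' hφ₀f n).1 hn)
  have hψg : ∀ x : X, ψ (g x) = h ((χ x : X) : Ω) := by
    intro x
    rw [hψv (g x) (hg.map_mem x.2) (hZle (hg.map_mem x.2)), hval]
  refine ⟨χ, ψ, extender S Z φ₀, N', hχA, hψ, hNKle, hZle, hψg, ?_⟩
  intro z₀ hz₀ k hkK hk x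
  have hz₀N := hNKle hz₀
  have hgN : ∀ x : X, g x ∈ extender S Z φ₀ := fun x => hZle (hg.map_mem x.2)
  have e1 : (χ * k * χ⁻¹) x = χ (k (χ⁻¹ x)) := rfl
  rw [e1, ← hψg, hk, hψ.map_mul (Subgroup.mul_mem _ hz₀N (hgN _)) (Subgroup.inv_mem _ hz₀N),
    hψ.map_mul hz₀N (hgN _), hψ.map_inv hz₀N, hψg]
  simp

theorem K_extend_mem {F : FusionSystem S}
    {X : Subgroup Ω} {h g : Ω → Ω} {K : Subgroup (MulAut X)} {χ : MulAut X} {ψ : Ω → Ω}
    {N N' : Subgroup Ω} (hχ : χ ∈ K) (hψ : IsIso F N N' ψ)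
    (hrel : ∀ z ∈ NK S K g, ∀ k ∈ K, (∀ x : X, g ((k x : X) : Ω) = z * g x * z⁻¹) →
        ∀ x : X, h (((χ * k * χ⁻¹) x : X) : Ω) = ψ z * h x * (ψ z)⁻¹)
    (hle : NK S K g ≤ N) {z : Ω} (hz : z ∈ NK S K g) : ψ z ∈ NK S K h := by
  obtain ⟨hzS, k, hkK, hk⟩ := hz
  refine ⟨hψ.le_right (hψ.map_mem (hle ⟨hzS, k, hkK, hk⟩)), χ * k * χ⁻¹,
    K.mul_mem (K.mul_mem hχ hkK) (K.inv_mem hχ), ?_⟩
  exact hrel z ⟨hzS, k, hkK, hk⟩ k hkK hk

/-- `f : X → Y` realizes the maximum of `|N_S^{gK}(g X)|` over all isomorphisms `g` of the system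
with source `X` (i.e. `Y` is fully `fK`-normalized). -/
def IsKMax (F : FusionSystem S) {X : Subgroup Ω} (K : Subgroup (MulAut X)) (f : Ω → Ω) : Prop :=
  ∀ (Z : Subgroup Ω) (g : Ω → Ω), IsIso F X Z g → Nat.card (NK S K g) ≤ Nat.card (NK S K f)

/-- AKO I.5.2(a), one direction: if `Y = f X` is fully `fK`-normalized then `Y` is receptive and
`Aut_S^{fK}(Y)` has Sylow order in `K ∩ Aut_F(X)`. -/
theorem IsKMax.props [Finite S] {p : ℕ} [Fact p.Prime] (hS : IsPGroup p S) {F : FusionSystem S}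
    (hF : F.IsSaturated p) {X Y : Subgroup Ω} {f : Ω → Ω} {K : Subgroup (MulAut X)}
    (hf : IsIso F X Y f) (hmax : IsKMax F K f) :
    F.IsReceptive Y ∧
      Nat.card (AS S K f) = p ^ (Nat.card ↥(K ⊓ F.autGroup X)).factorization p := by
  have hX : X ≤ S := hf.le_left
  have hfinX : Finite X := finite_of_le S hX
  obtain ⟨W, h, hh, hWrec, hcard⟩ := exists_good hS hF hX K
  obtain ⟨χ, ψ, N, N', hχA, hψ, hNKle, hYN, hψf, hrel⟩ := K_extend hS K hWrec hh hcard hf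
  have hmem : ∀ z ∈ NK S K f, ψ z ∈ NK S K h := fun z hz =>
    K_extend_mem hχA.1 hψ hrel hNKle hz
  have hfinNKh : Finite (NK S K h) := finite_of_le S (NK_le K h)
  have hfinNKf : Finite (NK S K f) := finite_of_le S (NK_le K f)
  -- `ψ` is a bijection `NK f → NK h`
  have hbij : Function.Bijective (fun z : NK S K f => (⟨ψ z, hmem z z.2⟩ : NK S K h)) := by
    apply Function.Injective.bijective_of_nat_card_le
    · intro a b hab
      exact Subtype.ext (hψ.injOn (hNKle a.2) (hNKle b.2) (congrArg Subtype.val hab))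
    · exact hmax W h hh
  have hsurj : ∀ w ∈ NK S K h, ∃ z ∈ NK S K f, ψ z = w := by
    intro w hw
    obtain ⟨z, hz⟩ := hbij.2 ⟨w, hw⟩
    exact ⟨z, z.2, congrArg Subtype.val hz⟩
  constructor
  · -- `Y` is fully centralized, hence receptive
    apply isReceptive_of_fullyCentralized hS hF
    refine ⟨hf.le_right, fun Q' hQ' => ?_⟩
    have hWfc := isFullyCentralized_of_receptive hWrec
    have hYW : F.IsConj Y W := isConj_trans F (isConj_symm F hf.isConj) hh.isConj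
    have h1 := hWfc.2 Q' (isConj_trans F (isConj_symm F hYW) hQ')
    refine h1.trans ?_
    have hcs : ∀ c ∈ centralizerIn S W, ∃ z ∈ NK S K f, ψ z = c := fun c hc =>
      hsurj c (centralizerIn_le_NK hh K hc)
    choose! ζ hζ using hcs
    have hζmem : ∀ c ∈ centralizerIn S W, ζ c ∈ centralizerIn S Y := by
      intro c hc
      obtain ⟨hζN, hζc⟩ := hζ c hc
      refine ⟨NK_le K f hζN, ?_⟩
      show ζ c ∈ Subgroup.centralizer (Y : Set Ω)
      rw [Subgroup.mem_centralizer_iff]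
      intro y hy
      have hyN : y ∈ N := hYN hy
      have hζNN : ζ c ∈ N := hNKle hζN
      apply hψ.injOn (Subgroup.mul_mem _ hyN hζNN) (Subgroup.mul_mem _ hζNN hyN)
      rw [hψ.map_mul hyN hζNN, hψ.map_mul hζNN hyN, hζc]
      obtain ⟨x, hx, rfl⟩ := hf.surjOn hy
      have : ψ (f x) ∈ W := by
        rw [hψf ⟨x, hx⟩]
        exact hh.map_mem (χ ⟨x, hx⟩).2
      exact hc.2 _ this
    have : Finite (centralizerIn S Y) := finite_of_le S inf_le_left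
    apply Nat.card_le_card_of_injective
      (fun c : centralizerIn S W => (⟨ζ c, hζmem c c.2⟩ : centralizerIn S Y))
    intro a b hab
    have h2 : ζ a = ζ b := congrArg Subtype.val hab
    apply Subtype.ext
    rw [← (hζ a a.2).2, ← (hζ b b.2).2, h2]
  · -- `|AS f| = |AS h|`
    rw [← hcard]
    have hfinASh : Finite (AS S K h) := inferInstance
    have hfinASf : Finite (AS S K f) := inferInstance
    apply le_antisymm
    · have hmap : ∀ k ∈ AS S K f, χ * k * χ⁻¹ ∈ AS S K h := by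
        rintro k ⟨hkK, y, hyS, hy⟩
        refine ⟨K.mul_mem (K.mul_mem hχA.1 hkK) (K.inv_mem hχA.1), ψ y, ?_, ?_⟩
        · exact NK_le K h (hmem y ⟨hyS, k, hkK, hy⟩)
        · exact hrel y ⟨hyS, k, hkK, hy⟩ k hkK hy
      apply Nat.card_le_card_of_injective
        (fun k : AS S K f => (⟨χ * k * χ⁻¹, hmap k k.2⟩ : AS S K h))
      intro a b hab
      have : χ * (a : MulAut X) * χ⁻¹ = χ * b * χ⁻¹ := congrArg Subtype.val hab
      exact Subtype.ext (mul_left_cancel (mul_right_cancel this))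
    · have hmap : ∀ k' ∈ AS S K h, χ⁻¹ * k' * χ ∈ AS S K f := by
        rintro k' ⟨hk'K, w, hwS, hw⟩
        obtain ⟨z, ⟨hzS, k, hkK, hk⟩, rfl⟩ := hsurj w ⟨hwS, k', hk'K, hw⟩
        have h3 := hrel z ⟨hzS, k, hkK, hk⟩ k hkK hk
        have : k' = χ * k * χ⁻¹ := by
          ext x
          apply hh.injOn (k' x).2 ((χ * k * χ⁻¹) x).2
          rw [hw, h3]
        rw [this]
        have : χ⁻¹ * (χ * k * χ⁻¹) * χ = k := by group
        rw [this]
        exact ⟨hkK, z, hzS, hk⟩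
      apply Nat.card_le_card_of_injective
        (fun k : AS S K h => (⟨χ⁻¹ * k * χ, hmap k k.2⟩ : AS S K f))
      intro a b hab
      have : χ⁻¹ * (a : MulAut X) * χ = χ⁻¹ * b * χ := congrArg Subtype.val hab
      exact Subtype.ext (mul_left_cancel (mul_right_cancel this))

end Cfsg.Agent.Lib.H25
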