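/-
Products of saturated fusion systems are saturated (AKO, Theorem I.6.6).
-/
import Mathlib
import Cfsg.Prelude.Def_FusionSystem
import Cfsg.Prelude.Def_FusionComponents
import Cfsg.Agent.Lib.H25.Fusion
import Cfsg.Agent.Lib.H25.Saturation
import Cfsg.Agent.Lib.H25.KNorm
set_option autoImplicit false

namespace Cfsg.Agent.Lib.H25

open Cfsg Cfsg.FusionSystem

variable {Ω₁ Ω₂ : Type*} [Group Ω₁] [Group Ω₂] {S₁ : Subgroup Ω₁} {S₂ : Subgroup Ω₂}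

theorem map_fst_le {P : Subgroup (Ω₁ × Ω₂)} (hP : P ≤ S₁.prod S₂) :
    P.map (MonoidHom.fst Ω₁ Ω₂) ≤ S₁ := by
  rintro y ⟨x, hx, rfl⟩
  exact (Subgroup.mem_prod.1 (hP hx)).1

theorem map_snd_le {P : Subgroup (Ω₁ × Ω₂)} (hP : P ≤ S₁.prod S₂) :
    P.map (MonoidHom.snd Ω₁ Ω₂) ≤ S₂ := by
  rintro y ⟨x, hx, rfl⟩
  exact (Subgroup.mem_prod.1 (hP hx)).2

/-- Componentwise isomorphisms assemble to an isomorphism of the product system. -/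
theorem prod_exists_iso {F₁ : FusionSystem S₁} {F₂ : FusionSystem S₂}
    {E : FusionSystem (S₁.prod S₂)} (hE : IsProductSystem F₁ F₂ E)
    {P : Subgroup (Ω₁ × Ω₂)} (hP : P ≤ S₁.prod S₂)
    {f₁ : Ω₁ → Ω₁} {f₂ : Ω₂ → Ω₂} {R₁ : Subgroup Ω₁} {R₂ : Subgroup Ω₂}
    (h₁ : IsIso F₁ (P.map (MonoidHom.fst Ω₁ Ω₂)) R₁ f₁)
    (h₂ : IsIso F₂ (P.map (MonoidHom.snd Ω₁ Ω₂)) R₂ f₂) :
    ∃ Q : Subgroup (Ω₁ × Ω₂), IsIso E P Q (Prod.map f₁ f₂) ∧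
      Q.map (MonoidHom.fst Ω₁ Ω₂) = R₁ ∧ Q.map (MonoidHom.snd Ω₁ Ω₂) = R₂ ∧
      ∀ y, y ∈ Q ↔ ∃ x ∈ P, Prod.map f₁ f₂ x = y := by
  obtain ⟨φ₁, hφ₁, hf₁, hr₁⟩ := h₁
  obtain ⟨φ₂, hφ₂, hf₂, hr₂⟩ := h₂
  let φ : P →* Ω₁ × Ω₂ := MonoidHom.prod (φ₁.comp ((MonoidHom.fst Ω₁ Ω₂).subgroupMap P))
    (φ₂.comp ((MonoidHom.snd Ω₁ Ω₂).subgroupMap P))
  have hφ : φ ∈ E.Hom P := (hE P φ).2 ⟨hP, φ₁, hφ₁, φ₂, hφ₂, fun x h₁ h₂ => rfl⟩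
  have hval : ∀ x : P, φ x = Prod.map f₁ f₂ (x : Ω₁ × Ω₂) := by
    intro x
    show (φ₁ _, φ₂ _) = _
    rw [hf₁, hf₂]
    rfl
  refine ⟨φ.range, ⟨φ, hφ, hval, rfl⟩, ?_, ?_, ?_⟩
  · rw [← hr₁]
    ext y
    constructor
    · rintro ⟨_, ⟨x, rfl⟩, rfl⟩
      exact ⟨_, rfl⟩
    · rintro ⟨⟨x₁, hx₁⟩, rfl⟩
      obtain ⟨x, hxP, hx⟩ := hx₁
      subst hx
      exact ⟨φ ⟨x, hxP⟩, ⟨_, rfl⟩, rfl⟩
  · rw [← hr₂]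
    ext y
    constructor
    · rintro ⟨_, ⟨x, rfl⟩, rfl⟩
      exact ⟨_, rfl⟩
    · rintro ⟨⟨x₂, hx₂⟩, rfl⟩
      obtain ⟨x, hxP, hx⟩ := hx₂
      subst hx
      exact ⟨φ ⟨x, hxP⟩, ⟨_, rfl⟩, rfl⟩
  · intro y
    constructor
    · rintro ⟨x, rfl⟩
      exact ⟨x, x.2, (hval x).symm⟩
    · rintro ⟨x, hx, rfl⟩
      exact ⟨⟨x, hx⟩, hval _⟩

/-- Every isomorphism of the product system is componentwise. -/
theorem prod_decomp {F₁ : FusionSystem S₁} {F₂ : FusionSystem S₂}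
    {E : FusionSystem (S₁.prod S₂)} (hE : IsProductSystem F₁ F₂ E)
    {P Q : Subgroup (Ω₁ × Ω₂)} {f : Ω₁ × Ω₂ → Ω₁ × Ω₂} (h : IsIso E P Q f) :
    ∃ (f₁ : Ω₁ → Ω₁) (f₂ : Ω₂ → Ω₂),
      IsIso F₁ (P.map (MonoidHom.fst Ω₁ Ω₂)) (Q.map (MonoidHom.fst Ω₁ Ω₂)) f₁ ∧
      IsIso F₂ (P.map (MonoidHom.snd Ω₁ Ω₂)) (Q.map (MonoidHom.snd Ω₁ Ω₂)) f₂ ∧
      ∀ x ∈ P, f x = (f₁ x.1, f₂ x.2) := by
  obtain ⟨φ, hφ, hf, hr⟩ := h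
  obtain ⟨hP, φ₁, hφ₁, φ₂, hφ₂, hv⟩ := (hE P φ).1 hφ
  subst hr
  refine ⟨ext1 φ₁, ext1 φ₂, ⟨φ₁, hφ₁, fun x => (ext1_apply _ x).symm, ?_⟩,
    ⟨φ₂, hφ₂, fun x => (ext1_apply _ x).symm, ?_⟩, fun x hx => ?_⟩
  · ext y
    constructor
    · rintro ⟨⟨x₁, hx₁⟩, rfl⟩
      obtain ⟨x, hxP, hx⟩ := hx₁
      subst hx
      refine ⟨φ ⟨x, hxP⟩, ⟨_, rfl⟩, ?_⟩
      rw [hv ⟨x, hxP⟩ ⟨x, hxP, rfl⟩ ⟨x, hxP, rfl⟩]
      rfl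
    · rintro ⟨_, ⟨x, rfl⟩, rfl⟩
      rw [hv x ⟨x, x.2, rfl⟩ ⟨x, x.2, rfl⟩]
      exact ⟨_, rfl⟩
  · ext y
    constructor
    · rintro ⟨⟨x₂, hx₂⟩, rfl⟩
      obtain ⟨x, hxP, hx⟩ := hx₂
      subst hx
      refine ⟨φ ⟨x, hxP⟩, ⟨_, rfl⟩, ?_⟩
      rw [hv ⟨x, hxP⟩ ⟨x, hxP, rfl⟩ ⟨x, hxP, rfl⟩]
      rfl
    · rintro ⟨_, ⟨x, rfl⟩, rfl⟩
      rw [hv x ⟨x, x.2, rfl⟩ ⟨x, x.2, rfl⟩]
      exact ⟨_, rfl⟩
  · rw [← hf ⟨x, hx⟩, hv ⟨x, hx⟩ ⟨x, hx, rfl⟩ ⟨x, hx, rfl⟩,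
      ext1_apply_mem φ₁ (⟨x, hx, rfl⟩ : x.1 ∈ P.map (MonoidHom.fst Ω₁ Ω₂)),
      ext1_apply_mem φ₂ (⟨x, hx, rfl⟩ : x.2 ∈ P.map (MonoidHom.snd Ω₁ Ω₂))]

/-- In a product system, a subgroup whose two projections are receptive is receptive. -/
theorem prod_isReceptive {F₁ : FusionSystem S₁} {F₂ : FusionSystem S₂}
    {E : FusionSystem (S₁.prod S₂)} (hE : IsProductSystem F₁ F₂ E)
    {Q : Subgroup (Ω₁ × Ω₂)} (hQ : Q ≤ S₁.prod S₂)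
    (hr₁ : F₁.IsReceptive (Q.map (MonoidHom.fst Ω₁ Ω₂)))
    (hr₂ : F₂.IsReceptive (Q.map (MonoidHom.snd Ω₁ Ω₂))) : E.IsReceptive Q := by
  refine ⟨hQ, fun R ψ hψ hrange => ?_⟩
  have hiso : IsIso E R Q (ext1 ψ) := hrange ▸ isIso_of_mem E hψ
  have hR : R ≤ S₁.prod S₂ := hiso.le_left
  obtain ⟨f₁, f₂, h₁, h₂, hv⟩ := prod_decomp hE hiso
  have hN : ∀ g ∈ extender (S₁.prod S₂) R ψ, g ∈ S₁.prod S₂ ∧
      g ∈ Subgroup.normalizer (R : Set (Ω₁ × Ω₂)) ∧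
      ∃ h ∈ S₁.prod S₂, ∀ x ∈ R, ext1 ψ (g * x * g⁻¹) = h * ext1 ψ x * h⁻¹ := fun g hg =>
    (mem_extender_iff' (fun x => (ext1_apply ψ x).symm) g).1 hg
  have hNS : extender (S₁.prod S₂) R ψ ≤ S₁.prod S₂ := fun g hg => (hN g hg).1
  -- first component
  have hN₁ : ∀ g₁ ∈ (extender (S₁.prod S₂) R ψ).map (MonoidHom.fst Ω₁ Ω₂), g₁ ∈ S₁ ∧
      g₁ ∈ Subgroup.normalizer ((R.map (MonoidHom.fst Ω₁ Ω₂) : Subgroup Ω₁) : Set Ω₁) ∧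
      ∃ h₁ ∈ S₁, ∀ x₁ ∈ R.map (MonoidHom.fst Ω₁ Ω₂),
        f₁ (g₁ * x₁ * g₁⁻¹) = h₁ * f₁ x₁ * h₁⁻¹ := by
    rintro _ ⟨g, hg, rfl⟩
    obtain ⟨hgS, hgn, h, hhS, hh⟩ := hN g hg
    refine ⟨(Subgroup.mem_prod.1 hgS).1, ?_, h.1, (Subgroup.mem_prod.1 hhS).1, ?_⟩
    · rw [Subgroup.mem_normalizer_iff]
      intro y
      constructor
      · rintro ⟨x, hx, rfl⟩
        exact ⟨g * x * g⁻¹, (Subgroup.mem_normalizer_iff.1 hgn x).1 hx, rfl⟩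
      · rintro ⟨x, hx, hxy⟩
        refine ⟨g⁻¹ * x * g, ?_, ?_⟩
        · have := (Subgroup.mem_normalizer_iff.1 (Subgroup.inv_mem _ hgn) x).1 hx
          simpa using this
        · show g.1⁻¹ * x.1 * g.1 = y
          have hxy' : x.1 = g.1 * y * g.1⁻¹ := hxy
          rw [hxy']
          group
    · rintro _ ⟨x, hx, rfl⟩
      have hx' : g * x * g⁻¹ ∈ R := (Subgroup.mem_normalizer_iff.1 hgn x).1 hx
      have e := hh x hx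
      rw [hv _ hx', hv _ hx] at e
      exact congrArg Prod.fst e
  have hN₂ : ∀ g₂ ∈ (extender (S₁.prod S₂) R ψ).map (MonoidHom.snd Ω₁ Ω₂), g₂ ∈ S₂ ∧
      g₂ ∈ Subgroup.normalizer ((R.map (MonoidHom.snd Ω₁ Ω₂) : Subgroup Ω₂) : Set Ω₂) ∧
      ∃ h₂ ∈ S₂, ∀ x₂ ∈ R.map (MonoidHom.snd Ω₁ Ω₂),
        f₂ (g₂ * x₂ * g₂⁻¹) = h₂ * f₂ x₂ * h₂⁻¹ := by
    rintro _ ⟨g, hg, rfl⟩
    obtain ⟨hgS, hgn, h, hhS, hh⟩ := hN g hg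
    refine ⟨(Subgroup.mem_prod.1 hgS).2, ?_, h.2, (Subgroup.mem_prod.1 hhS).2, ?_⟩
    · rw [Subgroup.mem_normalizer_iff]
      intro y
      constructor
      · rintro ⟨x, hx, rfl⟩
        exact ⟨g * x * g⁻¹, (Subgroup.mem_normalizer_iff.1 hgn x).1 hx, rfl⟩
      · rintro ⟨x, hx, hxy⟩
        refine ⟨g⁻¹ * x * g, ?_, ?_⟩
        · have := (Subgroup.mem_normalizer_iff.1 (Subgroup.inv_mem _ hgn) x).1 hx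
          simpa using this
        · show g.2⁻¹ * x.2 * g.2 = y
          have hxy' : x.2 = g.2 * y * g.2⁻¹ := hxy
          rw [hxy']
          group
    · rintro _ ⟨x, hx, rfl⟩
      have hx' : g * x * g⁻¹ ∈ R := (Subgroup.mem_normalizer_iff.1 hgn x).1 hx
      have e := hh x hx
      rw [hv _ hx', hv _ hx] at e
      exact congrArg Prod.snd e
  obtain ⟨f₁', N₁', hi₁, he₁⟩ := IsReceptive_extend hr₁ h₁ _ hN₁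
  obtain ⟨f₂', N₂', hi₂, he₂⟩ := IsReceptive_extend hr₂ h₂ _ hN₂
  obtain ⟨Q'', ⟨Ψ, hΨ, hΨv, -⟩, -, -, -⟩ := prod_exists_iso hE hNS hi₁ hi₂
  refine ⟨Ψ, hΨ, fun x hP hNx => ?_⟩
  rw [hΨv ⟨x, hNx⟩, ← ext1_apply_mem ψ hP, hv x hP]
  show (f₁' x.1, f₂' x.2) = _
  rw [he₁ x.1 ⟨x, hP, rfl⟩ ⟨x, hNx, rfl⟩, he₂ x.2 ⟨x, hP, rfl⟩ ⟨x, hNx, rfl⟩]

/-- The pairs of automorphisms of `Q₁`, `Q₂` that stabilize the subgroup `Q` of `Q₁ × Q₂`. -/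
def pStab (Q₁ : Subgroup Ω₁) (Q₂ : Subgroup Ω₂) (Q : Subgroup (Ω₁ × Ω₂)) :
    Subgroup (MulAut Q₁ × MulAut Q₂) where
  carrier := {b | ∀ (x₁ : Q₁) (x₂ : Q₂), ((x₁ : Ω₁), (x₂ : Ω₂)) ∈ Q ↔
    (((b.1 x₁ : Q₁) : Ω₁), ((b.2 x₂ : Q₂) : Ω₂)) ∈ Q}
  one_mem' := fun _ _ => Iff.rfl
  mul_mem' := fun {a b} ha hb x₁ x₂ => (hb x₁ x₂).trans (ha (b.1 x₁) (b.2 x₂))
  inv_mem' := fun {a} ha x₁ x₂ => by
    have h := ha (a.1⁻¹ x₁) (a.2⁻¹ x₂)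
    rw [show a.1 (a.1⁻¹ x₁) = x₁ by simp, show a.2 (a.2⁻¹ x₂) = x₂ by simp] at h
    exact h.symm

theorem mem_pStab {Q₁ : Subgroup Ω₁} {Q₂ : Subgroup Ω₂} {Q : Subgroup (Ω₁ × Ω₂)}
    {b : MulAut Q₁ × MulAut Q₂} : b ∈ pStab Q₁ Q₂ Q ↔
      ∀ (x₁ : Q₁) (x₂ : Q₂), ((x₁ : Ω₁), (x₂ : Ω₂)) ∈ Q ↔
        (((b.1 x₁ : Q₁) : Ω₁), ((b.2 x₂ : Q₂) : Ω₂)) ∈ Q := Iff.rfl

theorem prod_isPGroup {p : ℕ} (hS₁ : IsPGroup p S₁) (hS₂ : IsPGroup p S₂) :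
    IsPGroup p ↥(S₁.prod S₂) := by
  intro x
  obtain ⟨k₁, hk₁⟩ := hS₁ ⟨x.1.1, (Subgroup.mem_prod.1 x.2).1⟩
  obtain ⟨k₂, hk₂⟩ := hS₂ ⟨x.1.2, (Subgroup.mem_prod.1 x.2).2⟩
  refine ⟨k₁ + k₂, Subtype.ext (Prod.ext ?_ ?_)⟩
  · have h : (x.1.1) ^ p ^ k₁ = 1 := congrArg Subtype.val hk₁
    show (x.1.1) ^ p ^ (k₁ + k₂) = 1
    rw [pow_add, pow_mul, h, one_pow]
  · have h : (x.1.2) ^ p ^ k₂ = 1 := congrArg Subtype.val hk₂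
    show (x.1.2) ^ p ^ (k₁ + k₂) = 1
    rw [pow_add, mul_comm, pow_mul, h, one_pow]

/-- An element of `pStab ⊓ (Aut_{F₁}(Q₁) × Aut_{F₂}(Q₂))` induces an automorphism of `Q` in the
product system. -/
theorem prod_exists_aut {F₁ : FusionSystem S₁} {F₂ : FusionSystem S₂}
    {E : FusionSystem (S₁.prod S₂)} (hE : IsProductSystem F₁ F₂ E)
    {Q : Subgroup (Ω₁ × Ω₂)} (hQ : Q ≤ S₁.prod S₂) {Q₁ : Subgroup Ω₁} {Q₂ : Subgroup Ω₂}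
    (hQ₁ : Q.map (MonoidHom.fst Ω₁ Ω₂) = Q₁) (hQ₂ : Q.map (MonoidHom.snd Ω₁ Ω₂) = Q₂)
    (b : MulAut Q₁ × MulAut Q₂)
    (hb : b ∈ pStab Q₁ Q₂ Q ⊓ (F₁.autGroup Q₁).prod (F₂.autGroup Q₂)) :
    ∃ α ∈ E.autGroup Q, ∀ x : Q, ((α x : Q) : Ω₁ × Ω₂) =
      (aut1 b.1 (x : Ω₁ × Ω₂).1, aut1 b.2 (x : Ω₁ × Ω₂).2) := by
  obtain ⟨hbs, hbA⟩ := hb
  have hbA' := Subgroup.mem_prod.1 hbA
  have hQ₁S : Q₁ ≤ S₁ := hQ₁ ▸ map_fst_le hQ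
  have hQ₂S : Q₂ ≤ S₂ := hQ₂ ▸ map_snd_le hQ
  have i₁ : IsIso F₁ (Q.map (MonoidHom.fst Ω₁ Ω₂)) Q₁ (aut1 b.1) := by
    rw [hQ₁]; exact isIso_aut1 F₁ hQ₁S hbA'.1
  have i₂ : IsIso F₂ (Q.map (MonoidHom.snd Ω₁ Ω₂)) Q₂ (aut1 b.2) := by
    rw [hQ₂]; exact isIso_aut1 F₂ hQ₂S hbA'.2
  obtain ⟨Q'', hiso, -, -, hmem⟩ := prod_exists_iso hE hQ i₁ i₂
  have hm₁ : ∀ {x : Ω₁ × Ω₂}, x ∈ Q → x.1 ∈ Q₁ := fun {x} hx => hQ₁ ▸ ⟨x, hx, rfl⟩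
  have hm₂ : ∀ {x : Ω₁ × Ω₂}, x ∈ Q → x.2 ∈ Q₂ := fun {x} hx => hQ₂ ▸ ⟨x, hx, rfl⟩
  have hQ'' : Q'' = Q := by
    ext y
    rw [hmem]
    constructor
    · rintro ⟨x, hx, rfl⟩
      show (aut1 b.1 x.1, aut1 b.2 x.2) ∈ Q
      rw [aut1_apply_mem _ (hm₁ hx), aut1_apply_mem _ (hm₂ hx)]
      exact (hbs ⟨x.1, hm₁ hx⟩ ⟨x.2, hm₂ hx⟩).1 hx
    · intro hy
      refine ⟨(((b.1⁻¹ ⟨y.1, hm₁ hy⟩ : Q₁) : Ω₁), ((b.2⁻¹ ⟨y.2, hm₂ hy⟩ : Q₂) : Ω₂)), ?_, ?_⟩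
      · exact ((Subgroup.inv_mem _ hbs) ⟨y.1, hm₁ hy⟩ ⟨y.2, hm₂ hy⟩).1 hy
      · show (aut1 b.1 _, aut1 b.2 _) = y
        rw [aut1_apply, aut1_apply]
        simp
  rw [hQ''] at hiso
  exact exists_mem_autGroup_of_isIso E hiso

/-- The Sylow condition on the stabilizer makes `Q` fully automized in the product system. -/
theorem prod_isFullyAutomized [Finite S₁] [Finite S₂] {p : ℕ} [hp : Fact p.Prime]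
    (hS₁ : IsPGroup p S₁) (hS₂ : IsPGroup p S₂)
    {F₁ : FusionSystem S₁} {F₂ : FusionSystem S₂}
    {E : FusionSystem (S₁.prod S₂)} (hE : IsProductSystem F₁ F₂ E)
    {Q : Subgroup (Ω₁ × Ω₂)} (hQ : Q ≤ S₁.prod S₂) {Q₁ : Subgroup Ω₁} {Q₂ : Subgroup Ω₂}
    (hQ₁ : Q.map (MonoidHom.fst Ω₁ Ω₂) = Q₁) (hQ₂ : Q.map (MonoidHom.snd Ω₁ Ω₂) = Q₂)
    (D : Subgroup (MulAut Q₁ × MulAut Q₂))
    (hD : D ≤ pStab Q₁ Q₂ Q ⊓ (autInducedBy S₁ Q₁).prod (autInducedBy S₂ Q₂))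
    (hcard : Nat.card D = p ^ (Nat.card
      ↥(pStab Q₁ Q₂ Q ⊓ (F₁.autGroup Q₁).prod (F₂.autGroup Q₂))).factorization p) :
    E.IsFullyAutomized p Q := by
  have hQ₁S : Q₁ ≤ S₁ := hQ₁ ▸ map_fst_le hQ
  have hQ₂S : Q₂ ≤ S₂ := hQ₂ ▸ map_snd_le hQ
  have hfin₁ : Finite Q₁ := finite_of_le S₁ hQ₁S
  have hfin₂ : Finite Q₂ := finite_of_le S₂ hQ₂S
  have hfinS : Finite ↥(S₁.prod S₂) :=
    Finite.of_injective (fun x : ↥(S₁.prod S₂) =>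
      ((⟨x.1.1, (Subgroup.mem_prod.1 x.2).1⟩ : S₁), (⟨x.1.2, (Subgroup.mem_prod.1 x.2).2⟩ : S₂)))
      (fun x y h => by
        have h1 := congrArg (fun z : S₁ × S₂ => (z.1 : Ω₁)) h
        have h2 := congrArg (fun z : S₁ × S₂ => (z.2 : Ω₂)) h
        exact Subtype.ext (Prod.ext h1 h2))
  have hfinQ : Finite Q := finite_of_le _ hQ
  have hm₁ : ∀ {x : Ω₁ × Ω₂}, x ∈ Q → x.1 ∈ Q₁ := fun {x} hx => hQ₁ ▸ ⟨x, hx, rfl⟩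
  have hm₂ : ∀ {x : Ω₁ × Ω₂}, x ∈ Q → x.2 ∈ Q₂ := fun {x} hx => hQ₂ ▸ ⟨x, hx, rfl⟩
  have hl₁ : ∀ x₁ : Q₁, ∃ x ∈ Q, x.1 = (x₁ : Ω₁) := fun x₁ => by
    have : (x₁ : Ω₁) ∈ Q.map (MonoidHom.fst Ω₁ Ω₂) := by rw [hQ₁]; exact x₁.2
    exact this
  have hl₂ : ∀ x₂ : Q₂, ∃ x ∈ Q, x.2 = (x₂ : Ω₂) := fun x₂ => by
    have : (x₂ : Ω₂) ∈ Q.map (MonoidHom.snd Ω₁ Ω₂) := by rw [hQ₂]; exact x₂.2
    exact this
  have key := prod_exists_aut hE hQ hQ₁ hQ₂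
  let ρ : ↥(pStab Q₁ Q₂ Q ⊓ (F₁.autGroup Q₁).prod (F₂.autGroup Q₂)) → ↥(E.autGroup Q) :=
    fun b => ⟨(key b.1 b.2).choose, (key b.1 b.2).choose_spec.1⟩
  have hρ : ∀ (b : ↥(pStab Q₁ Q₂ Q ⊓ (F₁.autGroup Q₁).prod (F₂.autGroup Q₂))) (x : Q),
      (((ρ b : MulAut Q) x : Q) : Ω₁ × Ω₂) =
        (aut1 b.1.1 (x : Ω₁ × Ω₂).1, aut1 b.1.2 (x : Ω₁ × Ω₂).2) :=
    fun b x => (key b.1 b.2).choose_spec.2 x
  have hinj : Function.Injective ρ := by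
    intro b c hbc
    apply Subtype.ext
    apply Prod.ext
    · apply MulEquiv.ext
      intro x₁
      obtain ⟨x, hx, hx₁⟩ := hl₁ x₁
      have e1 := hρ b ⟨x, hx⟩
      have e2 := hρ c ⟨x, hx⟩
      rw [hbc] at e1
      have e3 := congrArg Prod.fst (e1.symm.trans e2)
      simp only at e3
      rw [hx₁, aut1_apply, aut1_apply] at e3
      exact Subtype.ext e3
    · apply MulEquiv.ext
      intro x₂
      obtain ⟨x, hx, hx₂⟩ := hl₂ x₂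
      have e1 := hρ b ⟨x, hx⟩
      have e2 := hρ c ⟨x, hx⟩
      rw [hbc] at e1
      have e3 := congrArg Prod.snd (e1.symm.trans e2)
      simp only at e3
      rw [hx₂, aut1_apply, aut1_apply] at e3
      exact Subtype.ext e3
  have hsurj : Function.Surjective ρ := by
    rintro ⟨α, hα⟩
    have hiso : IsIso E Q Q (aut1 α) := isIso_aut1 E hQ hα
    obtain ⟨f₁, f₂, i₁, i₂, hv⟩ := prod_decomp hE hiso
    rw [hQ₁] at i₁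
    rw [hQ₂] at i₂
    obtain ⟨b₁, hb₁, hb₁v⟩ := exists_mem_autGroup_of_isIso F₁ i₁
    obtain ⟨b₂, hb₂, hb₂v⟩ := exists_mem_autGroup_of_isIso F₂ i₂
    have hαv : ∀ x : Q, ((α x : Q) : Ω₁ × Ω₂) =
        (((b₁ ⟨x.1.1, hm₁ x.2⟩ : Q₁) : Ω₁), ((b₂ ⟨x.1.2, hm₂ x.2⟩ : Q₂) : Ω₂)) := by
      intro x
      rw [← aut1_apply α x, hv x x.2, hb₁v, hb₂v]
    have hbs : ((b₁, b₂) : MulAut Q₁ × MulAut Q₂) ∈ pStab Q₁ Q₂ Q := by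
      intro x₁ x₂
      constructor
      · intro h
        have := (α ⟨_, h⟩).2
        rw [hαv] at this
        exact this
      · intro h
        obtain ⟨w, hw⟩ : ∃ w : Q, α w = ⟨_, h⟩ := ⟨α⁻¹ ⟨_, h⟩, by simp⟩
        have e := hαv w
        rw [hw] at e
        have e₁ : b₁ x₁ = b₁ ⟨w.1.1, hm₁ w.2⟩ := Subtype.ext (congrArg Prod.fst e)
        have e₂ : b₂ x₂ = b₂ ⟨w.1.2, hm₂ w.2⟩ := Subtype.ext (congrArg Prod.snd e)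
        have e₁' := b₁.injective e₁
        have e₂' := b₂.injective e₂
        have : ((x₁ : Ω₁), (x₂ : Ω₂)) = (w : Ω₁ × Ω₂) := by
          rw [e₁', e₂']
        rw [this]
        exact w.2
    refine ⟨⟨(b₁, b₂), hbs, Subgroup.mem_prod.2 ⟨hb₁, hb₂⟩⟩, ?_⟩
    apply Subtype.ext
    apply MulEquiv.ext
    intro x
    apply Subtype.ext
    rw [hρ, hαv]
    show (aut1 b₁ _, aut1 b₂ _) = _
    rw [aut1_apply_mem b₁ (hm₁ x.2), aut1_apply_mem b₂ (hm₂ x.2)]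
  have hcardE : Nat.card ↥(pStab Q₁ Q₂ Q ⊓ (F₁.autGroup Q₁).prod (F₂.autGroup Q₂)) =
      Nat.card ↥(E.autGroup Q) := Nat.card_congr (Equiv.ofBijective ρ ⟨hinj, hsurj⟩)
  -- the injection of `D` into `Aut_S(Q)`
  have hHA : (autInducedBy S₁ Q₁).prod (autInducedBy S₂ Q₂) ≤
      (F₁.autGroup Q₁).prod (F₂.autGroup Q₂) := fun b hb =>
    Subgroup.mem_prod.2 ⟨autInducedBy_le_autGroup F₁ hQ₁S (Subgroup.mem_prod.1 hb).1,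
      autInducedBy_le_autGroup F₂ hQ₂S (Subgroup.mem_prod.1 hb).2⟩
  have hDA : ∀ d ∈ D, d ∈ pStab Q₁ Q₂ Q ⊓ (F₁.autGroup Q₁).prod (F₂.autGroup Q₂) := fun d hd =>
    ⟨(hD hd).1, hHA (hD hd).2⟩
  have hDS : ∀ (d : MulAut Q₁ × MulAut Q₂) (hd : d ∈ D),
      (ρ ⟨d, hDA d hd⟩ : MulAut Q) ∈ autInducedBy (S₁.prod S₂) Q := by
    intro d hd
    obtain ⟨hd₁, hd₂⟩ := Subgroup.mem_prod.1 (hD hd).2
    obtain ⟨s₁, hs₁, hs₁v⟩ := (mem_autInducedBy_iff S₁ Q₁ d.1).1 hd₁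
    obtain ⟨s₂, hs₂, hs₂v⟩ := (mem_autInducedBy_iff S₂ Q₂ d.2).1 hd₂
    refine (mem_autInducedBy_iff _ Q _).2 ⟨(s₁, s₂), Subgroup.mem_prod.2 ⟨hs₁, hs₂⟩, fun x => ?_⟩
    rw [hρ]
    show (aut1 d.1 _, aut1 d.2 _) = _
    rw [aut1_apply_mem d.1 (hm₁ x.2), aut1_apply_mem d.2 (hm₂ x.2), hs₁v, hs₂v]
    rfl
  have hle : Nat.card D ≤ Nat.card (autInducedBy (S₁.prod S₂) Q) := by
    refine Nat.card_le_card_of_injective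
      (fun d : D => (⟨(ρ ⟨d.1, hDA d.1 d.2⟩ : MulAut Q), hDS d.1 d.2⟩ :
        autInducedBy (S₁.prod S₂) Q)) ?_
    intro d d' h
    have h1 : (ρ ⟨d.1, hDA d.1 d.2⟩ : MulAut Q) = ρ ⟨d'.1, hDA d'.1 d'.2⟩ :=
      congrArg (fun z : autInducedBy (S₁.prod S₂) Q => (z : MulAut Q)) h
    have h2 := hinj (Subtype.ext h1)
    have h3 : d.1 = d'.1 := congrArg
      (fun z : ↥(pStab Q₁ Q₂ Q ⊓ (F₁.autGroup Q₁).prod (F₂.autGroup Q₂)) =>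
        (z : MulAut Q₁ × MulAut Q₂)) h2
    exact Subtype.ext h3
  -- conclusion
  have hAS : autInducedBy (S₁.prod S₂) Q ≤ E.autGroup Q := autInducedBy_le_autGroup E hQ
  have hpT : IsPGroup p ((autInducedBy (S₁.prod S₂) Q).subgroupOf (E.autGroup Q)) :=
    (autInducedBy_isPGroup (prod_isPGroup hS₁ hS₂) Q).comap_subtype
  have hcT : Nat.card ((autInducedBy (S₁.prod S₂) Q).subgroupOf (E.autGroup Q)) =
      Nat.card (autInducedBy (S₁.prod S₂) Q) :=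
    Nat.card_congr (Subgroup.subgroupOfEquivOfLe hAS).toEquiv
  obtain ⟨k, hk⟩ := IsPGroup.iff_card.1 hpT
  have hne : Nat.card ↥(E.autGroup Q) ≠ 0 := Nat.card_pos.ne'
  have h1 : k ≤ (Nat.card ↥(E.autGroup Q)).factorization p := by
    rw [← hp.out.pow_dvd_iff_le_factorization hne, ← hk]
    exact Subgroup.card_subgroup_dvd_card _
  have h2 : (Nat.card ↥(E.autGroup Q)).factorization p ≤ k := by
    rw [← Nat.pow_le_pow_iff_right hp.out.one_lt, ← hk, hcT, ← hcardE, ← hcard]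
    exact hle
  have hT : Nat.card ((autInducedBy (S₁.prod S₂) Q).subgroupOf (E.autGroup Q)) =
      p ^ (Nat.card ↥(E.autGroup Q)).factorization p := by
    rw [hk, le_antisymm h1 h2]
  exact ⟨hQ, Sylow.ofCard _ hT, Sylow.coe_ofCard _ hT⟩

theorem card_autInducedBy_of_fullyAutomized {Ω : Type*} [Group Ω] {S : Subgroup Ω} [Finite S]
    {p : ℕ} [hp : Fact p.Prime] {F : FusionSystem S} {P : Subgroup Ω}
    (h : F.IsFullyAutomized p P) :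
    Nat.card (autInducedBy S P) = p ^ (Nat.card ↥(F.autGroup P)).factorization p := by
  obtain ⟨hP, R, hR⟩ := h
  have hfin : Finite P := finite_of_le S hP
  have h1 : Nat.card (R : Subgroup (F.autGroup P)) =
      p ^ (Nat.card ↥(F.autGroup P)).factorization p := R.card_eq_multiplicity
  rw [hR] at h1
  rw [← h1]
  exact (Nat.card_congr (Subgroup.subgroupOfEquivOfLe (autInducedBy_le_autGroup F hP)).toEquiv).symm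

theorem card_subgroup_prod {G N : Type*} [Group G] [Group N] (H : Subgroup G) (K : Subgroup N) :
    Nat.card ↥(H.prod K) = Nat.card H * Nat.card K := by
  rw [Nat.card_congr (Subgroup.prodEquiv H K).toEquiv, Nat.card_prod]

/-- Sylow adjustment: an `E`-conjugate of `Q` with the same projections whose stabilizer meets
`Aut_{S₁}(Q₁) × Aut_{S₂}(Q₂)` in a subgroup of Sylow order. -/
theorem prod_sylow_adjust [Finite S₁] [Finite S₂] {p : ℕ} [hp : Fact p.Prime]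
    {F₁ : FusionSystem S₁} {F₂ : FusionSystem S₂}
    {E : FusionSystem (S₁.prod S₂)} (hE : IsProductSystem F₁ F₂ E)
    {Q : Subgroup (Ω₁ × Ω₂)} (hQ : Q ≤ S₁.prod S₂) {Q₁ : Subgroup Ω₁} {Q₂ : Subgroup Ω₂}
    (hQ₁ : Q.map (MonoidHom.fst Ω₁ Ω₂) = Q₁) (hQ₂ : Q.map (MonoidHom.snd Ω₁ Ω₂) = Q₂)
    (hfa₁ : F₁.IsFullyAutomized p Q₁) (hfa₂ : F₂.IsFullyAutomized p Q₂) :
    ∃ (Q' : Subgroup (Ω₁ × Ω₂)) (a : Ω₁ × Ω₂ → Ω₁ × Ω₂), IsIso E Q Q' a ∧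
      Q'.map (MonoidHom.fst Ω₁ Ω₂) = Q₁ ∧ Q'.map (MonoidHom.snd Ω₁ Ω₂) = Q₂ ∧
      ∃ D : Subgroup (MulAut Q₁ × MulAut Q₂),
        D ≤ pStab Q₁ Q₂ Q' ⊓ (autInducedBy S₁ Q₁).prod (autInducedBy S₂ Q₂) ∧
        Nat.card D = p ^ (Nat.card
          ↥(pStab Q₁ Q₂ Q' ⊓ (F₁.autGroup Q₁).prod (F₂.autGroup Q₂))).factorization p := by
  have hQ₁S : Q₁ ≤ S₁ := hQ₁ ▸ map_fst_le hQ
  have hQ₂S : Q₂ ≤ S₂ := hQ₂ ▸ map_snd_le hQ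
  have hfin₁ : Finite Q₁ := finite_of_le S₁ hQ₁S
  have hfin₂ : Finite Q₂ := finite_of_le S₂ hQ₂S
  have hm₁ : ∀ {x : Ω₁ × Ω₂}, x ∈ Q → x.1 ∈ Q₁ := fun {x} hx => hQ₁ ▸ ⟨x, hx, rfl⟩
  have hm₂ : ∀ {x : Ω₁ × Ω₂}, x ∈ Q → x.2 ∈ Q₂ := fun {x} hx => hQ₂ ▸ ⟨x, hx, rfl⟩
  have hHA : (autInducedBy S₁ Q₁).prod (autInducedBy S₂ Q₂) ≤
      (F₁.autGroup Q₁).prod (F₂.autGroup Q₂) := fun b hb =>
    Subgroup.mem_prod.2 ⟨autInducedBy_le_autGroup F₁ hQ₁S (Subgroup.mem_prod.1 hb).1,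
      autInducedBy_le_autGroup F₂ hQ₂S (Subgroup.mem_prod.1 hb).2⟩
  have hcardH : Nat.card ↥((autInducedBy S₁ Q₁).prod (autInducedBy S₂ Q₂)) =
      p ^ (Nat.card ↥((F₁.autGroup Q₁).prod (F₂.autGroup Q₂))).factorization p := by
    rw [card_subgroup_prod, card_subgroup_prod,
      Nat.factorization_mul Nat.card_pos.ne' Nat.card_pos.ne', Finsupp.add_apply, pow_add,
      card_autInducedBy_of_fullyAutomized hfa₁, card_autInducedBy_of_fullyAutomized hfa₂]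
  obtain ⟨D₀⟩ : Nonempty (Sylow p
    ↥(pStab Q₁ Q₂ Q ⊓ (F₁.autGroup Q₁).prod (F₂.autGroup Q₂))) := inferInstance
  have hDA : (D₀ : Subgroup _).map
      (pStab Q₁ Q₂ Q ⊓ (F₁.autGroup Q₁).prod (F₂.autGroup Q₂)).subtype ≤
      (F₁.autGroup Q₁).prod (F₂.autGroup Q₂) := by
    rintro _ ⟨d, -, rfl⟩
    exact d.2.2
  have hDB : (D₀ : Subgroup _).map
      (pStab Q₁ Q₂ Q ⊓ (F₁.autGroup Q₁).prod (F₂.autGroup Q₂)).subtype ≤ pStab Q₁ Q₂ Q := by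
    rintro _ ⟨d, -, rfl⟩
    exact d.2.1
  have hDp : IsPGroup p ((D₀ : Subgroup _).map
      (pStab Q₁ Q₂ Q ⊓ (F₁.autGroup Q₁).prod (F₂.autGroup Q₂)).subtype) := D₀.isPGroup'.map _
  have hDcard : Nat.card ((D₀ : Subgroup _).map
      (pStab Q₁ Q₂ Q ⊓ (F₁.autGroup Q₁).prod (F₂.autGroup Q₂)).subtype) =
      p ^ (Nat.card ↥(pStab Q₁ Q₂ Q ⊓ (F₁.autGroup Q₁).prod (F₂.autGroup Q₂))).factorization p := by
    rw [Subgroup.card_map_of_injective (Subgroup.subtype_injective _)]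
    exact D₀.card_eq_multiplicity
  obtain ⟨a, haA, hconj⟩ := sylow_conj hHA hcardH hDA hDp
  have haA' := Subgroup.mem_prod.1 haA
  have i₁ : IsIso F₁ (Q.map (MonoidHom.fst Ω₁ Ω₂)) Q₁ (aut1 a.1) := by
    rw [hQ₁]; exact isIso_aut1 F₁ hQ₁S haA'.1
  have i₂ : IsIso F₂ (Q.map (MonoidHom.snd Ω₁ Ω₂)) Q₂ (aut1 a.2) := by
    rw [hQ₂]; exact isIso_aut1 F₂ hQ₂S haA'.2
  obtain ⟨Q', hiso, hQ'₁, hQ'₂, hmem⟩ := prod_exists_iso hE hQ i₁ i₂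
  have hmemQ' : ∀ (x₁ : Q₁) (x₂ : Q₂), ((x₁ : Ω₁), (x₂ : Ω₂)) ∈ Q' ↔
      (((a.1⁻¹ x₁ : Q₁) : Ω₁), ((a.2⁻¹ x₂ : Q₂) : Ω₂)) ∈ Q := by
    intro x₁ x₂
    rw [hmem]
    constructor
    · rintro ⟨x, hx, hxe⟩
      have e₁ : aut1 a.1 x.1 = x₁ := congrArg Prod.fst hxe
      have e₂ : aut1 a.2 x.2 = x₂ := congrArg Prod.snd hxe
      rw [aut1_apply_mem _ (hm₁ hx)] at e₁
      rw [aut1_apply_mem _ (hm₂ hx)] at e₂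
      have e₁' : a.1⁻¹ x₁ = ⟨x.1, hm₁ hx⟩ := by
        rw [← Subtype.ext e₁]; simp
      have e₂' : a.2⁻¹ x₂ = ⟨x.2, hm₂ hx⟩ := by
        rw [← Subtype.ext e₂]; simp
      rw [e₁', e₂']
      exact hx
    · intro h
      refine ⟨_, h, ?_⟩
      show (aut1 a.1 _, aut1 a.2 _) = _
      rw [aut1_apply, aut1_apply]
      simp
  have hstab : ∀ c : MulAut Q₁ × MulAut Q₂,
      c ∈ pStab Q₁ Q₂ Q' ↔ a⁻¹ * c * a ∈ pStab Q₁ Q₂ Q := by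
    intro c
    constructor
    · intro hc z₁ z₂
      have h := hc (a.1 z₁) (a.2 z₂)
      rw [hmemQ', hmemQ'] at h
      rw [show a.1⁻¹ (a.1 z₁) = z₁ by simp, show a.2⁻¹ (a.2 z₂) = z₂ by simp] at h
      exact h
    · intro hc x₁ x₂
      rw [hmemQ', hmemQ']
      have h := hc (a.1⁻¹ x₁) (a.2⁻¹ x₂)
      have e₁ : (a⁻¹ * c * a).1 (a.1⁻¹ x₁) = a.1⁻¹ (c.1 x₁) := by
        show a.1⁻¹ (c.1 (a.1 (a.1⁻¹ x₁))) = _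
        simp
      have e₂ : (a⁻¹ * c * a).2 (a.2⁻¹ x₂) = a.2⁻¹ (c.2 x₂) := by
        show a.2⁻¹ (c.2 (a.2 (a.2⁻¹ x₂))) = _
        simp
      rw [e₁, e₂] at h
      exact h
  refine ⟨Q', _, hiso, hQ'₁, hQ'₂, ((D₀ : Subgroup _).map
      (pStab Q₁ Q₂ Q ⊓ (F₁.autGroup Q₁).prod (F₂.autGroup Q₂)).subtype).map
      (MulAut.conj a).toMonoidHom, ?_, ?_⟩
  · rintro _ ⟨d, hd, rfl⟩
    refine ⟨(hstab _).2 ?_, hconj d hd⟩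
    have : a⁻¹ * ((MulAut.conj a).toMonoidHom d) * a = d := by
      show a⁻¹ * (a * d * a⁻¹) * a = d
      group
    rw [this]
    exact hDB hd
  · rw [Subgroup.card_map_of_injective (MulAut.conj a).injective, hDcard]
    have hB : pStab Q₁ Q₂ Q' ⊓ (F₁.autGroup Q₁).prod (F₂.autGroup Q₂) =
        (pStab Q₁ Q₂ Q ⊓ (F₁.autGroup Q₁).prod (F₂.autGroup Q₂)).map
          (MulAut.conj a).toMonoidHom := by
      ext c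
      constructor
      · rintro ⟨hc1, hc2⟩
        refine ⟨a⁻¹ * c * a, ⟨(hstab c).1 hc1,
          Subgroup.mul_mem _ (Subgroup.mul_mem _ (Subgroup.inv_mem _ haA) hc2) haA⟩, ?_⟩
        show a * (a⁻¹ * c * a) * a⁻¹ = c
        group
      · rintro ⟨b, ⟨hb1, hb2⟩, rfl⟩
        refine ⟨(hstab _).2 ?_,
          Subgroup.mul_mem _ (Subgroup.mul_mem _ haA hb2) (Subgroup.inv_mem _ haA)⟩
        have : a⁻¹ * ((MulAut.conj a).toMonoidHom b) * a = b := by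
          show a⁻¹ * (a * b * a⁻¹) * a = b
          group
        rw [this]
        exact hb1
    rw [hB, Subgroup.card_map_of_injective (MulAut.conj a).injective]

/-- AKO Theorem I.6.6: the product of two saturated fusion systems is saturated. -/
theorem prod_isSaturated [Finite S₁] [Finite S₂] {p : ℕ} [hp : Fact p.Prime]
    (hS₁ : IsPGroup p S₁) (hS₂ : IsPGroup p S₂)
    {F₁ : FusionSystem S₁} {F₂ : FusionSystem S₂} (hF₁ : F₁.IsSaturated p)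
    (hF₂ : F₂.IsSaturated p)
    {E : FusionSystem (S₁.prod S₂)} (hE : IsProductSystem F₁ F₂ E) : E.IsSaturated p := by
  intro P hP
  obtain ⟨Q₁, hc₁, hfa₁, hr₁⟩ := hF₁ _ (map_fst_le hP)
  obtain ⟨Q₂, hc₂, hfa₂, hr₂⟩ := hF₂ _ (map_snd_le hP)
  obtain ⟨f₁, i₁⟩ := (isConj_iff F₁).1 hc₁
  obtain ⟨f₂, i₂⟩ := (isConj_iff F₂).1 hc₂
  obtain ⟨Q, hiso, hQ₁, hQ₂, -⟩ := prod_exists_iso hE hP i₁ i₂
  obtain ⟨Q', a, hiso', hQ'₁, hQ'₂, D, hD, hcard⟩ :=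
    prod_sylow_adjust hE hiso.le_right hQ₁ hQ₂ hfa₁ hfa₂
  refine ⟨Q', (hiso.trans hiso').isConj,
    prod_isFullyAutomized hS₁ hS₂ hE hiso'.le_right hQ'₁ hQ'₂ D hD hcard,
    prod_isReceptive hE hiso'.le_right ?_ ?_⟩
  · rw [hQ'₁]; exact hr₁
  · rw [hQ'₂]; exact hr₂

end Cfsg.Agent.Lib.H25
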