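import Cfsg.Agent.Lib.H25.SatEquiv
import Cfsg.Agent.Lib.H25.Alperin

set_option autoImplicit false

/-!
The Roberts--Shpectorov form of saturation: `S` fully automized and fully normalized subgroups
receptive.
-/

namespace Cfsg.Agent.Lib.H25

open Cfsg Cfsg.FusionSystem

variable {Ω : Type*} [Group Ω] {S : Subgroup Ω}

/-- A power of an element of finite order which has `p`-power order, chosen so that it still
"restricts" to a given element of `p`-power order. -/
theorem exists_pow_pPower_and_fix {G G' : Type*} [Group G] [Group G'] {p : ℕ} [hp : Fact p.Prime]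
    (g : G) (hg : IsOfFinOrder g) (a : G') {b : ℕ} (ha : a ^ (p ^ b) = 1) :
    ∃ j c : ℕ, (g ^ j) ^ (p ^ c) = 1 ∧ a ^ j = a := by
  have ho : orderOf g ≠ 0 := hg.orderOf_pos.ne'
  obtain ⟨c, m, hm, hcm⟩ := Nat.exists_eq_pow_mul_and_not_dvd ho p hp.out.ne_one
  have hcop : Nat.Coprime m (p ^ b) :=
    Nat.Coprime.pow_right b ((Nat.Prime.coprime_iff_not_dvd hp.out).2 hm).symm
  obtain ⟨m', -, hm'⟩ := Nat.exists_mul_mod_eq_of_coprime 1 hcop (pow_pos hp.out.pos b).ne'
  refine ⟨m * m', c, ?_, ?_⟩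
  · rw [← pow_mul]
    have : m * m' * p ^ c = orderOf g * m' := by rw [hcm]; ring
    rw [this, pow_mul, pow_orderOf_eq_one, one_pow]
  · rw [pow_eq_pow_mod (m * m') ha, hm', ← pow_eq_pow_mod 1 ha, pow_one]

/-- Powers of an automorphism and of its restriction. -/
theorem restrict_pow {Q N : Subgroup Ω} (hQN : Q ≤ N) (β : MulAut N) (α : MulAut Q)
    (h : ∀ x : Q, ((β ⟨x, hQN x.2⟩ : N) : Ω) = ((α x : Q) : Ω)) (j : ℕ) :
    ∀ x : Q, (((β ^ j) ⟨x, hQN x.2⟩ : N) : Ω) = (((α ^ j) x : Q) : Ω) := by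
  induction j with
  | zero => intro x; simp
  | succ j ih =>
    intro x
    rw [pow_succ', pow_succ', MulAut.mul_apply, MulAut.mul_apply, ← h]
    have : (β ^ j) ⟨x, hQN x.2⟩ = ⟨(((α ^ j) x : Q) : Ω), hQN ((α ^ j) x).2⟩ := Subtype.ext (ih x)
    rw [this]

/-- If `S` is fully automized and fully normalized subgroups are receptive, then fully normalized
subgroups are fully automized. -/
theorem isFullyAutomized_of_fullyNormalized' [Finite S] {p : ℕ} [Fact p.Prime] (hS : IsPGroup p S)
    {F : FusionSystem S} (hA : F.IsFullyAutomized p S)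
    (hB : ∀ P : Subgroup Ω, F.IsFullyNormalized P → F.IsReceptive P) :
    ∀ Q : Subgroup Ω, F.IsFullyNormalized Q → F.IsFullyAutomized p Q := by
  have key : ∀ n : ℕ, ∀ Q : Subgroup Ω, F.IsFullyNormalized Q → Nat.card S - Nat.card Q = n →
      F.IsFullyAutomized p Q := by
    intro n
    induction n using Nat.strong_induction_on with
    | _ n ih =>
      intro Q hQfn hn
      have hQS := hQfn.1
      have hfinQ : Finite Q := finite_of_le S hQS
      by_cases hQeq : Q = S
      · rw [hQeq]; exact hA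
      have hrecQ := hB Q hQfn
      set A := F.autGroup Q with hAdef
      set AS := autInducedBy S Q with hASdef
      have hASA : AS ≤ A := autInducedBy_le_autGroup F hQS
      have hASp : IsPGroup p AS := autInducedBy_isPGroup hS Q
      have hASp' : IsPGroup p (AS.subgroupOf A) := hASp.comap_subtype
      obtain ⟨R, hR⟩ := hASp'.exists_le_sylow
      set R' : Subgroup (MulAut Q) := (R : Subgroup A).map A.subtype with hR'def
      have hASR' : AS ≤ R' := by
        intro β hβ
        exact ⟨⟨β, hASA hβ⟩, hR (Subgroup.mem_subgroupOf.2 hβ), rfl⟩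
      have hR'A : R' ≤ A := Subgroup.map_subtype_le _
      by_cases hEq : AS = R'
      · refine ⟨hQS, R, ?_⟩
        have h1 : (R : Subgroup A) = R'.subgroupOf A :=
          (Subgroup.comap_map_eq_self_of_injective A.subtype_injective _).symm
        rw [h1, ← hEq]
      exfalso
      have hR'p : IsPGroup p R' := R.isPGroup'.map A.subtype
      have hfinR' : Finite R' := inferInstance
      obtain ⟨α, hαN, hαAS⟩ := exists_mem_normalizerIn_not_mem hR'p hASR' hEq
      have hαA : α ∈ A := hR'A hαN.1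
      have hαnorm : α ∈ Subgroup.normalizer (AS : Set (MulAut Q)) := hαN.2
      obtain ⟨b, hb⟩ := hR'p ⟨α, hαN.1⟩
      have hαb : α ^ (p ^ b) = 1 := by
        have := congrArg Subtype.val hb
        simpa using this
      -- `α` extends to `N = N_S(Q)`
      set N := normalizerIn S Q with hNdef
      have hQN : Q ≤ N := le_normalizerIn (S := S) hQS
      have hNS : N ≤ S := inf_le_left
      have hfinN : Finite N := finite_of_le S hNS
      have ha := isIso_of_mem_autGroup F hQS hαA
      set a := ext1 (Q.subtype.comp α.toMonoidHom) with hadef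
      have haα : ∀ x : Q, a x = ((α x : Q) : Ω) := fun x => ext1_apply _ x
      obtain ⟨f', N', hf', hf'a⟩ := IsReceptive_extend hrecQ ha N (by
        intro g hg
        refine ⟨hg.1, hg.2, ?_⟩
        obtain ⟨β, hβA, hβg⟩ := exists_mem_autGroup_of_isIso F (isIso_conj_normalizer F hQS hg)
        have hβS : β ∈ AS := (mem_autInducedBy_iff S Q β).2 ⟨g, hg.1, hβg⟩
        have h1 : α * β * α⁻¹ ∈ AS := (Subgroup.mem_normalizer_iff.1 hαnorm β).1 hβS
        obtain ⟨h, hhS, hh⟩ := (mem_autInducedBy_iff S Q _).1 h1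
        refine ⟨h, hhS, fun x hx => ?_⟩
        have h2 := hh (α ⟨x, hx⟩)
        have h3 : (α * β * α⁻¹) (α ⟨x, hx⟩) = α (β ⟨x, hx⟩) := by
          show α (β (α⁻¹ (α ⟨x, hx⟩))) = _
          simp
        rw [h3] at h2
        have hgx : g * x * g⁻¹ ∈ Q := (Subgroup.mem_normalizer_iff.1 hg.2 x).1 hx
        have h4 : β ⟨x, hx⟩ = ⟨g * x * g⁻¹, hgx⟩ := Subtype.ext (hβg ⟨x, hx⟩)
        rw [h4] at h2
        rw [hadef, ext1_apply_mem _ hgx, ext1_apply_mem _ hx]
        exact h2)
      have hf'Q : ∀ x ∈ Q, f' x = a x := fun x hx => hf'a x hx (hQN hx)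
      have hf'QQ : IsIso F Q Q f' := by
        have := ha.congr (fun x hx => (hf'Q x hx).symm)
        exact this
      -- `f'` maps `N` into `N`
      have hN'N : N' ≤ N := by
        intro y hy
        obtain ⟨n, hn, rfl⟩ := hf'.surjOn hy
        refine ⟨hf'.le_right (hf'.map_mem hn), ?_⟩
        apply mem_normalizer_of_conj_mem
        intro q hq
        obtain ⟨q₀, hq₀, rfl⟩ := hf'QQ.surjOn hq
        have hnq : n * q₀ * n⁻¹ ∈ Q := (Subgroup.mem_normalizer_iff.1 hn.2 q₀).1 hq₀
        rw [← hf'.map_inv hn, ← hf'.map_mul hn (hQN hq₀),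
          ← hf'.map_mul (N.mul_mem hn (hQN hq₀)) (N.inv_mem hn)]
        exact hf'QQ.map_mem hnq
      have hN'eq : N' = N :=
        Subgroup.eq_of_le_of_card_ge hN'N (le_of_eq hf'.card_eq)
      rw [hN'eq] at hf'
      obtain ⟨β, hβA, hβf'⟩ := exists_mem_autGroup_of_isIso F hf'
      have hβα : ∀ x : Q, ((β ⟨x, hQN x.2⟩ : N) : Ω) = ((α x : Q) : Ω) := by
        intro x
        rw [hβf', hf'Q x x.2, haα]
      -- replace `β` by a power of `p`-power order still restricting to `α`
      have hβfin : IsOfFinOrder β := isOfFinOrder_of_finite β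
      obtain ⟨j, c, hjc, hαj⟩ := exists_pow_pPower_and_fix (p := p) β hβfin α hαb
      set γ := β ^ j with hγdef
      have hγA : γ ∈ F.autGroup N := Subgroup.pow_mem _ hβA j
      have hγα : ∀ x : Q, ((γ ⟨x, hQN x.2⟩ : N) : Ω) = ((α x : Q) : Ω) := by
        intro x
        have := restrict_pow hQN β α hβα j x
        rw [hαj] at this
        exact this
      have hKp : IsPGroup p (Subgroup.zpowers γ) := by
        rintro ⟨y, hy⟩
        obtain ⟨z, rfl⟩ := Subgroup.mem_zpowers_iff.1 hy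
        refine ⟨c, Subtype.ext ?_⟩
        show (γ ^ z) ^ (p ^ c) = 1
        rw [← zpow_natCast, ← zpow_mul, mul_comm, zpow_mul, zpow_natCast, hjc, one_zpow]
      -- a fully normalized conjugate `N₁` of `N`
      obtain ⟨N₁, hNN₁, hN₁fn⟩ := exists_fullyNormalized_conj F hNS
      obtain ⟨f, hf⟩ := (isConj_iff F).1 hNN₁
      have hN₁S := hf.le_right
      have hcardN : Nat.card Q < Nat.card N := by
        obtain ⟨g, hgN, hgQ⟩ := exists_mem_normalizerIn_not_mem hS hQS hQeq
        exact card_lt_of_lt' hNS (lt_of_le_of_ne hQN (fun h => hgQ (h ▸ hgN)))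
      have hN₁fa : F.IsFullyAutomized p N₁ := by
        have hc1 : Nat.card N₁ = Nat.card N := hf.card_eq.symm
        have hc2 : Nat.card N₁ ≤ Nat.card S := Subgroup.card_le_of_le hN₁S
        have hc3 : Nat.card Q ≤ Nat.card S := Subgroup.card_le_of_le hQS
        exact ih (Nat.card S - Nat.card N₁) (by omega) N₁ hN₁fn rfl
      -- transport `γ` to `N₁`
      set e := hf.toMulEquiv with hedef
      have he : ∀ x : N, ((e x : N₁) : Ω) = f x := fun x => hf.toMulEquiv_apply x
      have hγ₁A : MulAut.congr e γ ∈ F.autGroup N₁ := congr_mem_autGroup hf e he hγA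
      have hK₁p : IsPGroup p (Subgroup.zpowers (MulAut.congr e γ)) := by
        have h1 : Subgroup.zpowers (MulAut.congr e γ) =
            (Subgroup.zpowers γ).map (MulAut.congr e).toMonoidHom := by
          rw [MonoidHom.map_zpowers]
          rfl
        rw [h1]
        exact hKp.map _
      obtain ⟨u, huA, hu⟩ := IsFullyAutomized_exists_conj hN₁fa _ hK₁p
        (Subgroup.zpowers_le.2 hγ₁A)
      have hu1 := hu _ (Subgroup.mem_zpowers _)
      obtain ⟨h, hhS, hh⟩ := (mem_autInducedBy_iff S N₁ _).1 hu1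
      -- the composite isomorphism `χ = u ∘ f : N → N₁`
      have huiso := isIso_of_mem_autGroup F hN₁S huA
      set uf := ext1 (N₁.subtype.comp u.toMonoidHom) with hufdef
      have hχ : IsIso F N N₁ (uf ∘ f) := hf.trans huiso
      set χ := uf ∘ f with hχdef
      have hχval : ∀ x : N, χ x = ((u (e x) : N₁) : Ω) := by
        intro x
        show uf (f x) = _
        rw [← he x, hufdef, ext1_apply]
        rfl
      -- the key relation: `χ (γ x) = h χ(x) h⁻¹`
      have hrel : ∀ x : N, χ ((γ x : N) : Ω) = h * χ x * h⁻¹ := by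
        intro x
        have h1 := hh (u (e x))
        have h2 : (u * MulAut.congr e γ * u⁻¹) (u (e x)) = u (e (γ x)) := by
          show u ((MulAut.congr e γ) (u⁻¹ (u (e x)))) = _
          rw [MulAut.inv_apply_self]
          show u (e (γ (e.symm (e x)))) = _
          rw [e.symm_apply_apply]
        rw [h2] at h1
        rw [hχval, hχval]
        exact h1
      -- `Q₁ = χ(Q)`
      obtain ⟨Q₁, hQ₁N₁, hχQ, hQ₁mem⟩ := hχ.restrict hQN
      have hQ₁S : Q₁ ≤ S := hQ₁N₁.trans hN₁S
      have hfinQ₁ : Finite Q₁ := finite_of_le S hQ₁S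
      -- `N₁ ≤ N_S(Q₁)`
      have hN₁le : N₁ ≤ normalizerIn S Q₁ := by
        intro y hy
        obtain ⟨n, hn, rfl⟩ := hχ.surjOn hy
        refine ⟨hN₁S (hχ.map_mem hn), ?_⟩
        apply mem_normalizer_of_conj_mem
        intro q hq
        obtain ⟨q₀, hq₀, rfl⟩ := hχQ.surjOn hq
        have hnq : n * q₀ * n⁻¹ ∈ Q := (Subgroup.mem_normalizer_iff.1 hn.2 q₀).1 hq₀
        rw [← hχ.map_inv hn, ← hχ.map_mul hn (hQN hq₀),
          ← hχ.map_mul (N.mul_mem hn (hQN hq₀)) (N.inv_mem hn)]
        exact hχQ.map_mem hnq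
      have hN₁eq : N₁ = normalizerIn S Q₁ := by
        have hfin : Finite (normalizerIn S Q₁) := finite_of_le S inf_le_left
        apply Subgroup.eq_of_le_of_card_ge hN₁le
        rw [← hχ.card_eq]
        exact hQfn.2 Q₁ hχQ.isConj
      -- `h` normalizes `Q₁`
      have hhN : h ∈ normalizerIn S Q₁ := by
        refine ⟨hhS, ?_⟩
        apply mem_normalizer_of_conj_mem
        intro q hq
        obtain ⟨q₀, hq₀, rfl⟩ := hχQ.surjOn hq
        have h1 := hrel ⟨q₀, hQN hq₀⟩
        rw [← h1]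
        have h2 : ((γ ⟨q₀, hQN hq₀⟩ : N) : Ω) = ((α ⟨q₀, hq₀⟩ : Q) : Ω) := hγα ⟨q₀, hq₀⟩
        rw [h2]
        exact hχQ.map_mem (α ⟨q₀, hq₀⟩).2
      rw [← hN₁eq] at hhN
      obtain ⟨n₀, hn₀, hn₀h⟩ := hχ.surjOn hhN
      -- conclude `α ∈ Aut_S(Q)`
      apply hαAS
      rw [hASdef, mem_autInducedBy_iff]
      refine ⟨n₀, hNS hn₀, fun x => ?_⟩
      have h1 := hrel ⟨x, hQN x.2⟩
      have h2 : ((γ ⟨x, hQN x.2⟩ : N) : Ω) = ((α x : Q) : Ω) := hγα x
      rw [h2, ← hn₀h, ← hχ.map_inv hn₀, ← hχ.map_mul hn₀ (hQN x.2),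
        ← hχ.map_mul (N.mul_mem hn₀ (hQN x.2)) (N.inv_mem hn₀)] at h1
      have hnx : n₀ * (x : Ω) * n₀⁻¹ ∈ N := N.mul_mem (N.mul_mem hn₀ (hQN x.2)) (N.inv_mem hn₀)
      exact hχ.injOn (hQN (α x).2) hnx h1
  intro Q hQ
  exact key _ Q hQ rfl

end Cfsg.Agent.Lib.H25
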