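/-
A fusion subsystem of `F` from a function-level predicate on isomorphisms with the usual closure
properties.
-/
import Mathlib
import Cfsg.Prelude.Def_FusionSystem
import Cfsg.Agent.Lib.H25.Fusion
set_option autoImplicit false

namespace Cfsg.Agent.Lib.H25

open Cfsg Cfsg.FusionSystem

variable {Ω : Type*} [Group Ω] {S : Subgroup Ω}

/-- A family of isomorphisms of `F`, given at function level, closed under the operations of a
fusion system. -/
structure IsoPred (F : FusionSystem S)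
    (M : Subgroup Ω → Subgroup Ω → (Ω → Ω) → Prop) : Prop where
  sub : ∀ {P Q : Subgroup Ω} {f : Ω → Ω}, M P Q f → IsIso F P Q f
  congr : ∀ {P Q : Subgroup Ω} {f g : Ω → Ω}, M P Q f → (∀ x ∈ P, f x = g x) → M P Q g
  conj : ∀ {P : Subgroup Ω}, P ≤ S → ∀ {s : Ω}, s ∈ S → ∃ Q, M P Q (fun x => s * x * s⁻¹)
  restrict : ∀ {P Q P' Q' : Subgroup Ω} {f : Ω → Ω}, M P Q f → P' ≤ P → IsIso F P' Q' f →
    M P' Q' f
  trans : ∀ {P Q R : Subgroup Ω} {f g : Ω → Ω}, M P Q f → M Q R g → M P R (g ∘ f)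
  symm : ∀ {P Q : Subgroup Ω} {f g : Ω → Ω}, M P Q f → IsIso F Q P g →
    (∀ x ∈ P, g (f x) = x) → M Q P g

/-- Two isomorphisms with the same source and the same values have the same target. -/
theorem IsIso.target_eq {F : FusionSystem S} {P Q Q' : Subgroup Ω} {f g : Ω → Ω}
    (h : IsIso F P Q f) (h' : IsIso F P Q' g) (hfg : ∀ x ∈ P, f x = g x) : Q = Q' := by
  ext y
  constructor
  · intro hy
    obtain ⟨x, hx, rfl⟩ := h.surjOn hy
    rw [hfg x hx]
    exact h'.map_mem hx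
  · intro hy
    obtain ⟨x, hx, rfl⟩ := h'.surjOn hy
    rw [← hfg x hx]
    exact h.map_mem hx

/-- A map of `F` is determined by its function-level values. -/
theorem hom_eq_of_isIso {P : Subgroup Ω} {φ φ' : P →* Ω}
    (h : ∀ x : P, φ' x = ext1 φ x) : φ' = φ := by
  ext x
  rw [h, ext1_apply]

/-- The fusion system whose maps are the members of the family `M`. -/
def sysOfPred {F : FusionSystem S} {M : Subgroup Ω → Subgroup Ω → (Ω → Ω) → Prop}
    (h : IsoPred F M) : FusionSystem S where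
  Hom P := {φ | M P φ.range (ext1 φ)}
  le_of_mem := by
    intro P φ hφ
    obtain ⟨φ', hφ', hv, -⟩ := h.sub hφ
    have : φ' = φ := hom_eq_of_isIso hv
    subst this
    exact F.le_of_mem hφ'
  injective_of_mem := by
    intro P φ hφ
    obtain ⟨φ', hφ', hv, -⟩ := h.sub hφ
    have : φ' = φ := hom_eq_of_isIso hv
    subst this
    exact F.injective_of_mem hφ'
  conj_mem := by
    intro P g hP hg
    obtain ⟨Q, hQ⟩ := h.conj hP hg
    have h1 : IsIso F P (conjHom P g).range (ext1 (conjHom P g)) :=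
      isIso_of_mem F (F.conj_mem hP hg)
    have hv : ∀ x ∈ P, (fun x => g * x * g⁻¹) x = ext1 (conjHom P g) x := by
      intro x hx
      rw [ext1_apply_mem _ hx]
      rfl
    have hQe : Q = (conjHom P g).range := IsIso.target_eq (h.sub hQ) h1 hv
    show M P (conjHom P g).range (ext1 (conjHom P g))
    rw [← hQe]
    exact h.congr hQ hv
  comp_mem := by
    intro P Q φ ψ hφ hψ hPQ
    have hle : φ.range ≤ Q := by
      rintro _ ⟨x, rfl⟩
      exact hPQ x
    obtain ⟨Q', -, hQ', -⟩ := (h.sub hψ).restrict hle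
    have h1 := h.restrict hψ hle hQ'
    have h2 := h.trans hφ h1
    have hF : IsIso F P (ψ.comp (φ.codRestrict Q hPQ)).range
        (ext1 (ψ.comp (φ.codRestrict Q hPQ))) := by
      have hφF : φ ∈ F.Hom P := by
        obtain ⟨φ', hφ', hv, -⟩ := h.sub hφ
        have : φ' = φ := hom_eq_of_isIso hv
        subst this
        exact hφ'
      have hψF : ψ ∈ F.Hom Q := by
        obtain ⟨ψ', hψ', hv, -⟩ := h.sub hψ
        have : ψ' = ψ := hom_eq_of_isIso hv
        subst this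
        exact hψ'
      exact isIso_of_mem F (F.comp_mem hφF hψF hPQ)
    have hv : ∀ x ∈ P, (ext1 ψ ∘ ext1 φ) x = ext1 (ψ.comp (φ.codRestrict Q hPQ)) x := by
      intro x hx
      show ext1 ψ (ext1 φ x) = _
      rw [ext1_apply_mem φ hx, ext1_apply_mem ψ (hPQ ⟨x, hx⟩), ext1_apply_mem _ hx]
      rfl
    have hQe : Q' = (ψ.comp (φ.codRestrict Q hPQ)).range := IsIso.target_eq (h.sub h2) hF hv
    show M P (ψ.comp (φ.codRestrict Q hPQ)).range (ext1 (ψ.comp (φ.codRestrict Q hPQ)))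
    rw [← hQe]
    exact h.congr h2 hv
  inv_mem := by
    intro P φ hφ
    have hφF : φ ∈ F.Hom P := by
      obtain ⟨φ', hφ', hv, -⟩ := h.sub hφ
      have : φ' = φ := hom_eq_of_isIso hv
      subst this
      exact hφ'
    obtain ⟨ψ, hψ, hψv⟩ := F.inv_mem hφF
    refine ⟨ψ, ?_, hψv⟩
    have hr : ψ.range = P := by
      ext y
      constructor
      · rintro ⟨⟨_, x, rfl⟩, rfl⟩
        rw [hψv]
        exact x.2
      · intro hy
        exact ⟨⟨φ ⟨y, hy⟩, ⟨y, hy⟩, rfl⟩, hψv ⟨y, hy⟩⟩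
    have hi : IsIso F φ.range P (ext1 ψ) := by
      have := isIso_of_mem F hψ
      rwa [hr] at this
    show M φ.range ψ.range (ext1 ψ)
    rw [hr]
    refine h.symm hφ hi (fun x hx => ?_)
    rw [ext1_apply_mem φ hx, ext1_apply_mem ψ ⟨⟨x, hx⟩, rfl⟩]
    exact hψv ⟨x, hx⟩

theorem isIso_sysOfPred_iff {F : FusionSystem S}
    {M : Subgroup Ω → Subgroup Ω → (Ω → Ω) → Prop} (h : IsoPred F M) {P Q : Subgroup Ω}
    {f : Ω → Ω} : IsIso (sysOfPred h) P Q f ↔ M P Q f := by
  constructor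
  · rintro ⟨φ, hφ, hφf, hr⟩
    have h1 : M P φ.range (ext1 φ) := hφ
    rw [hr] at h1
    exact h.congr h1 (fun x hx => by rw [ext1_apply_mem φ hx, hφf])
  · intro hM
    obtain ⟨φ, hφ, hφf, hr⟩ := h.sub hM
    refine ⟨φ, ?_, hφf, hr⟩
    show M P φ.range (ext1 φ)
    rw [hr]
    exact h.congr hM (fun x hx => by rw [ext1_apply_mem φ hx, hφf])

theorem sysOfPred_le {F : FusionSystem S}
    {M : Subgroup Ω → Subgroup Ω → (Ω → Ω) → Prop} (h : IsoPred F M) (P : Subgroup Ω) :
    (sysOfPred h).Hom P ⊆ F.Hom P := by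
  intro φ hφ
  obtain ⟨φ', hφ', hv, -⟩ := h.sub hφ
  have : φ' = φ := hom_eq_of_isIso hv
  subst this
  exact hφ'

end Cfsg.Agent.Lib.H25
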