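/-
Uniqueness of extensions from centric subgroups in saturated fusion systems (BLO2 Prop. A.8, AKO
Lemma I.5.6): two maps of `F` defined on `Q` that agree on a normal `F`-centric subgroup `P` of
`Q` differ by conjugation by an element of `Z(P)`; consequence for automorphisms of `S` whose
restriction to a centric subgroup lies in a saturated subsystem (AKO Lemma I.7.6(b)).
-/
import Mathlib
import Cfsg.Prelude.Def_FusionSystem
import Cfsg.Agent.S5114
import Cfsg.Agent.Lib.H25.SatCritB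
set_option autoImplicit false

namespace Cfsg.Agent.Lib.H25

open Cfsg Cfsg.FusionSystem Cfsg.Agent.S5114

variable {Ω : Type*} [Group Ω] {S : Subgroup Ω}

theorem IsIso.of_subsystem {D F : FusionSystem S} (hDF : D.IsSubsystemOf F) {P Q : Subgroup Ω}
    {f : Ω → Ω} (h : IsIso D P Q f) : IsIso F P Q f := by
  obtain ⟨φ, hφ, hv, hr⟩ := h
  exact ⟨φ, hDF P hφ, hv, hr⟩

/-- Overgroups of centric subgroups are centric. -/
theorem isCentric_of_le {F : FusionSystem S} {P Q : Subgroup Ω} (hP : F.IsCentric P)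
    (hPQ : P ≤ Q) (hQS : Q ≤ S) : F.IsCentric Q := by
  refine ⟨hQS, fun R hR => ?_⟩
  obtain ⟨g, hg⟩ := (isConj_iff F).1 hR
  obtain ⟨P₁, hP₁R, hgP, -⟩ := hg.restrict hPQ
  have h1 : centralizerIn S P₁ ≤ P₁ := hP.2 P₁ hgP.isConj
  intro c hc
  apply hP₁R
  apply h1
  refine ⟨hc.1, ?_⟩
  show c ∈ Subgroup.centralizer (P₁ : Set Ω)
  rw [Subgroup.mem_centralizer_iff]
  intro y hy
  exact hc.2 y (hP₁R hy)

/-- Centric subgroups are fully centralized. -/
theorem isFullyCentralized_of_isCentric [Finite S] {F : FusionSystem S} {P : Subgroup Ω}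
    (hP : F.IsCentric P) : F.IsFullyCentralized P := by
  refine ⟨hP.1, fun R hR => ?_⟩
  obtain ⟨g, hg⟩ := (isConj_iff F).1 hR
  obtain ⟨k, hk, hkg, hgk⟩ := hg.symm
  have hCR : centralizerIn S R ≤ R := hP.2 R hR
  have key : ∀ c : centralizerIn S R, k c ∈ centralizerIn S P := by
    intro c
    have hcR : (c : Ω) ∈ R := hCR c.2
    refine ⟨hP.1 (hk.map_mem hcR), ?_⟩
    show _ ∈ Subgroup.centralizer (P : Set Ω)
    rw [Subgroup.mem_centralizer_iff]
    intro y hy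
    obtain ⟨u, hu, rfl⟩ := hk.surjOn hy
    rw [← hk.map_mul hu hcR, ← hk.map_mul hcR hu]
    congr 1
    exact c.2.2 u hu
  have hfin : Finite (centralizerIn S P) := finite_of_le S inf_le_left
  apply Nat.card_le_card_of_injective (fun c : centralizerIn S R => (⟨k c, key c⟩ :
    centralizerIn S P))
  intro a b hab
  have h1 : k a = k b := congrArg Subtype.val hab
  exact Subtype.ext (hk.injOn (hCR a.2) (hCR b.2) h1)

section

variable [Finite S] {p : ℕ} [Fact p.Prime] (hS : IsPGroup p S) {F : FusionSystem S}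
  (hF : F.IsSaturated p)

include hS hF

/-- An automorphism in `F` of `Q` fixing a normal `F`-centric subgroup `P` of `Q` elementwise is
conjugation by an element of `Z(P)`. -/
theorem aut_eq_conj_of_fix {P Q : Subgroup Ω} (hPQ : P ≤ Q) (hQN : Q ≤ normalizerIn S P)
    (hP : F.IsCentric P) {φ : Ω → Ω} (hφ : IsIso F Q Q φ) (hfix : ∀ x ∈ P, φ x = x) :
    ∃ z ∈ P, (∀ x ∈ P, z * x = x * z) ∧ ∀ g ∈ Q, φ g = z * g * z⁻¹ := by
  have hQS : Q ≤ S := hφ.le_left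
  have hPS : P ≤ S := hP.1
  have hfinP : Finite P := finite_of_le S hPS
  have hfinQ : Finite Q := finite_of_le S hQS
  have hCP : centralizerIn S P ≤ P := hP.2 P (isConj_refl F hPS)
  -- `g⁻¹ φ(g) ∈ P`
  have hζ : ∀ g ∈ Q, g⁻¹ * φ g ∈ P := by
    intro g hg
    apply hCP
    refine ⟨S.mul_mem (S.inv_mem (hQS hg)) (hQS (hφ.map_mem hg)), ?_⟩
    show _ ∈ Subgroup.centralizer (P : Set Ω)
    rw [Subgroup.mem_centralizer_iff]
    intro x hx
    have hgx : g * x * g⁻¹ ∈ P := (Subgroup.mem_normalizer_iff.1 (hQN hg).2 x).1 hx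
    have h1 : φ (g * x * g⁻¹) = φ g * x * (φ g)⁻¹ := by
      rw [hφ.map_mul (Q.mul_mem hg (hPQ hx)) (Q.inv_mem hg), hφ.map_mul hg (hPQ hx),
        hφ.map_inv hg, hfix x hx]
    rw [hfix _ hgx] at h1
    calc x * (g⁻¹ * φ g) = g⁻¹ * (g * x * g⁻¹) * φ g := by group
      _ = g⁻¹ * (φ g * x * (φ g)⁻¹) * φ g := by rw [h1]
      _ = g⁻¹ * φ g * x := by group
  obtain ⟨α, hα, hαv⟩ := exists_mem_autGroup_of_isIso F hφ
  -- `α ^ n` maps `g` to `g * (g⁻¹ φ g) ^ n`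
  have hpow : ∀ (n : ℕ) (g : Q), (((α ^ n) g : Q) : Ω) = g * ((g : Ω)⁻¹ * φ g) ^ n := by
    intro n
    induction n with
    | zero => intro g; simp
    | succ n ih =>
      intro g
      rw [pow_succ', MulAut.mul_apply, hαv, ih]
      have hζg := hζ g g.2
      have hζn : ((g : Ω)⁻¹ * φ g) ^ n ∈ P := P.pow_mem hζg n
      rw [hφ.map_mul g.2 (hPQ hζn), hfix _ hζn, pow_succ', ← mul_assoc, mul_inv_cancel_left]
  have hαpow : α ^ Nat.card P = 1 := by
    ext g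
    rw [hpow]
    have h1 : (⟨(g : Ω)⁻¹ * φ g, hζ g g.2⟩ : P) ^ Nat.card P = 1 := pow_card_eq_one'
    have h2 : ((g : Ω)⁻¹ * φ g) ^ Nat.card P = 1 := by
      have := congrArg Subtype.val h1
      rw [Subgroup.coe_pow] at this
      exact this
    rw [h2]
    simp
  obtain ⟨k, hk⟩ := IsPGroup.iff_card.1 (hS.to_le hPS)
  have hord : orderOf α ∣ p ^ k := by
    rw [← hk]
    exact orderOf_dvd_of_pow_eq_one hαpow
  obtain ⟨j, -, hj⟩ := (Nat.dvd_prime_pow Fact.out).1 hord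
  have hzp : IsPGroup p (Subgroup.zpowers α) := by
    apply IsPGroup.of_card (n := j)
    rw [Nat.card_zpowers, hj]
  -- transport to a fully automized conjugate
  obtain ⟨Q'', hQQ'', hfa'', -⟩ := hF Q hQS
  obtain ⟨ψ, hψ⟩ := (isConj_iff F).1 hQQ''
  have hQ''S : Q'' ≤ S := hψ.le_right
  have he : ∀ x : Q, ((hψ.toMulEquiv x : Q'') : Ω) = ψ x := fun x => hψ.toMulEquiv_apply x
  have hK''p : IsPGroup p ((Subgroup.zpowers α).map (MulAut.congr hψ.toMulEquiv).toMonoidHom) :=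
    hzp.map _
  have hK''le : (Subgroup.zpowers α).map (MulAut.congr hψ.toMulEquiv).toMonoidHom ≤
      F.autGroup Q'' := by
    rintro _ ⟨d, hd, rfl⟩
    have hdA : d ∈ F.autGroup Q := (Subgroup.zpowers_le.2 hα) hd
    exact congr_mem_autGroup hψ hψ.toMulEquiv he hdA
  obtain ⟨a'', ha'', hconj⟩ := IsFullyAutomized_exists_conj hfa'' _ hK''p hK''le
  have hmem := hconj _ ⟨α, Subgroup.mem_zpowers α, rfl⟩
  obtain ⟨w, hwS, hw⟩ := (mem_autInducedBy_iff S Q'' _).1 hmem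
  have hρ : IsIso F Q Q'' (aut1 a'' ∘ ψ) := hψ.trans (isIso_aut1 F hQ''S ha'')
  have hρφ : ∀ g ∈ Q, (aut1 a'' ∘ ψ) (φ g) = w * (aut1 a'' ∘ ψ) g * w⁻¹ := by
    intro g hg
    have h1 := hw (a'' (hψ.toMulEquiv ⟨g, hg⟩))
    have h2 : (a'' * (MulAut.congr hψ.toMulEquiv).toMonoidHom α * a''⁻¹)
        (a'' (hψ.toMulEquiv ⟨g, hg⟩)) = a'' (hψ.toMulEquiv (α ⟨g, hg⟩)) := by
      show a'' ((MulAut.congr hψ.toMulEquiv α) (a''⁻¹ (a'' (hψ.toMulEquiv ⟨g, hg⟩)))) = _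
      rw [show a''⁻¹ (a'' (hψ.toMulEquiv ⟨g, hg⟩)) = hψ.toMulEquiv ⟨g, hg⟩ by simp]
      show a'' (hψ.toMulEquiv (α (hψ.toMulEquiv.symm (hψ.toMulEquiv ⟨g, hg⟩)))) = _
      simp
    rw [h2] at h1
    show aut1 a'' (ψ (φ g)) = w * aut1 a'' (ψ g) * w⁻¹
    have e1 : ψ (φ g) = ((hψ.toMulEquiv (α ⟨g, hg⟩) : Q'') : Ω) := by
      rw [he, hαv]
    have e2 : ψ g = ((hψ.toMulEquiv ⟨g, hg⟩ : Q'') : Ω) := (he ⟨g, hg⟩).symm
    rw [e1, e2, aut1_apply, aut1_apply]
    exact h1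
  obtain ⟨P'', hP''Q'', hρP, -⟩ := hρ.restrict hPQ
  have hP''cen : F.IsCentric P'' := isCentric_of_isIso hP hρP
  have hwP'' : w ∈ P'' := by
    apply hP''cen.2 P'' (isConj_refl F hP''cen.1)
    refine ⟨hwS, ?_⟩
    show w ∈ Subgroup.centralizer (P'' : Set Ω)
    rw [Subgroup.mem_centralizer_iff]
    intro y hy
    obtain ⟨x, hx, rfl⟩ := hρP.surjOn hy
    have h1 := hρφ x (hPQ hx)
    rw [hfix x hx] at h1
    calc (aut1 a'' ∘ ψ) x * w = w * (aut1 a'' ∘ ψ) x * w⁻¹ * w := by rw [← h1]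
      _ = w * (aut1 a'' ∘ ψ) x := by group
  obtain ⟨z, hz, hzw⟩ := hρP.surjOn hwP''
  have hφz : ∀ g ∈ Q, φ g = z * g * z⁻¹ := by
    intro g hg
    have hzQ := hPQ hz
    apply hρ.injOn (hφ.map_mem hg) (Q.mul_mem (Q.mul_mem hzQ hg) (Q.inv_mem hzQ))
    rw [hρφ g hg, hρ.map_mul (Q.mul_mem hzQ hg) (Q.inv_mem hzQ), hρ.map_mul hzQ hg,
      hρ.map_inv hzQ, hzw]
  refine ⟨z, hz, fun x hx => ?_, hφz⟩
  have h1 := hφz x (hPQ hx)
  rw [hfix x hx] at h1
  calc z * x = z * x * z⁻¹ * z := by group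
    _ = x * z := by rw [← h1]

/-- Two maps of `F` defined on `Q` agreeing on a normal `F`-centric subgroup `P` of `Q` differ by
conjugation by an element of `Z(P)`. -/
theorem iso_eq_comp_conj {P Q Q₁ Q₂ : Subgroup Ω} (hPQ : P ≤ Q) (hQN : Q ≤ normalizerIn S P)
    (hP : F.IsCentric P) {f f' : Ω → Ω} (hf : IsIso F Q Q₁ f) (hf' : IsIso F Q Q₂ f')
    (hagree : ∀ x ∈ P, f x = f' x) :
    ∃ z ∈ P, (∀ x ∈ P, z * x = x * z) ∧ ∀ g ∈ Q, f' g = f (z * g * z⁻¹) := by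
  have hQS : Q ≤ S := hf.le_left
  have hQ₁S : Q₁ ≤ S := hf.le_right
  have hQ₂S : Q₂ ≤ S := hf'.le_right
  obtain ⟨P₁, hP₁Q₁, hfP, -⟩ := hf.restrict hPQ
  have hP₁cen : F.IsCentric P₁ := isCentric_of_isIso hP hfP
  have hCP₁ : centralizerIn S P₁ ≤ P₁ := hP₁cen.2 P₁ (isConj_refl F hP₁cen.1)
  have hle : Q₂ ≤ Q₁ := by
    intro y hy
    obtain ⟨g, hg, rfl⟩ := hf'.surjOn hy
    have hc : (f g)⁻¹ * f' g ∈ P₁ := by
      apply hCP₁
      refine ⟨S.mul_mem (S.inv_mem (hQ₁S (hf.map_mem hg))) (hQ₂S (hf'.map_mem hg)), ?_⟩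
      show _ ∈ Subgroup.centralizer (P₁ : Set Ω)
      rw [Subgroup.mem_centralizer_iff]
      intro y hy
      obtain ⟨x, hx, rfl⟩ := hfP.surjOn hy
      have hgx : g * x * g⁻¹ ∈ P := (Subgroup.mem_normalizer_iff.1 (hQN hg).2 x).1 hx
      have h1 : f (g * x * g⁻¹) = f g * f x * (f g)⁻¹ := by
        rw [hf.map_mul (Q.mul_mem hg (hPQ hx)) (Q.inv_mem hg), hf.map_mul hg (hPQ hx),
          hf.map_inv hg]
      have h2 : f' (g * x * g⁻¹) = f' g * f x * (f' g)⁻¹ := by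
        rw [hf'.map_mul (Q.mul_mem hg (hPQ hx)) (Q.inv_mem hg), hf'.map_mul hg (hPQ hx),
          hf'.map_inv hg, hagree x hx]
      rw [hagree _ hgx, h2] at h1
      calc f x * ((f g)⁻¹ * f' g) = (f g)⁻¹ * (f g * f x * (f g)⁻¹) * f' g := by group
        _ = (f g)⁻¹ * (f' g * f x * (f' g)⁻¹) * f' g := by rw [h1]
        _ = (f g)⁻¹ * f' g * f x := by group
    have : f' g = f g * ((f g)⁻¹ * f' g) := by group
    rw [this]
    exact Q₁.mul_mem (hf.map_mem hg) (hP₁Q₁ hc)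
  have hfinQ₁ : Finite Q₁ := finite_of_le S hQ₁S
  have hQeq : Q₂ = Q₁ := by
    apply Subgroup.eq_of_le_of_card_ge hle
    rw [← hf.card_eq, ← hf'.card_eq]
  rw [hQeq] at hf'
  obtain ⟨k, hk, hkf, hfk⟩ := hf.symm
  have hφ : IsIso F Q Q (k ∘ f') := hf'.trans hk
  have hfix : ∀ x ∈ P, (k ∘ f') x = x := by
    intro x hx
    show k (f' x) = x
    rw [← hagree x hx, hkf x (hPQ hx)]
  obtain ⟨z, hz, hzc, hzφ⟩ := aut_eq_conj_of_fix hS hF hPQ hQN hP hφ hfix
  refine ⟨z, hz, hzc, fun g hg => ?_⟩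
  rw [← hzφ g hg]
  show f' g = f (k (f' g))
  rw [hfk _ (hf'.map_mem hg)]

/-- AKO Lemma I.7.6(b): an automorphism of `S` in `F` whose restriction to some `F`-centric
subgroup lies in a saturated subsystem `D` of `F` over `S` lies in `D`. -/
theorem autS_isIso_of_restrict {D : FusionSystem S} (hD : D.IsSaturated p)
    (hDF : D.IsSubsystemOf F) {b b' : Ω → Ω} (hb : AutS F b b') :
    ∀ (m : ℕ) (P P' : Subgroup Ω), Nat.card S - Nat.card P = m → F.IsCentric P →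
      IsIso D P P' b → IsIso D S S b := by
  intro m
  induction m using Nat.strong_induction_on with
  | _ m ih =>
  intro P P' hm hP hbP
  have hPS : P ≤ S := hP.1
  by_cases hPeq : P = S
  · subst hPeq
    have : P' = P := IsIso.target_eq (hbP.of_subsystem hDF) hb.1 (fun _ _ => rfl)
    rwa [this] at hbP
  have hbPF : IsIso F P P' b := hbP.of_subsystem hDF
  have hP'cen : F.IsCentric P' := isCentric_of_isIso hP hbPF
  have hP'cenD : D.IsCentric P' :=
    ⟨hP'cen.1, fun R hR => hP'cen.2 R (by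
      obtain ⟨φ, hφ, hr⟩ := hR
      exact ⟨φ, hDF _ hφ, hr⟩)⟩
  have hrecD : D.IsReceptive P' :=
    isReceptive_of_fullyCentralized hS hD (isFullyCentralized_of_isCentric hP'cenD)
  have hNS : normalizerIn S P ≤ S := inf_le_left
  have hPN : P ≤ normalizerIn S P := le_normalizerIn hPS
  obtain ⟨β, N', hβ, hβv⟩ := IsReceptive_extend hrecD hbP (normalizerIn S P) (by
    intro g hg
    refine ⟨hg.1, hg.2, b g, hb.1.map_mem hg.1, fun x hx => ?_⟩
    rw [hb.1.map_mul (S.mul_mem hg.1 (hPS hx)) (S.inv_mem hg.1), hb.1.map_mul hg.1 (hPS hx),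
      hb.1.map_inv hg.1])
  obtain ⟨Q₁, -, hbQ, -⟩ := hb.1.restrict hNS
  obtain ⟨z, hz, -, hzv⟩ := iso_eq_comp_conj hS hF hPN le_rfl hP (hβ.of_subsystem hDF) hbQ
    (fun x hx => hβv x hx (hPN hx))
  have hzN : z ∈ normalizerIn S (normalizerIn S P) := le_normalizerIn hNS (hPN hz)
  have hcz : IsIso D (normalizerIn S P) (normalizerIn S P) (fun x => z * x * z⁻¹) :=
    isIso_conj_normalizer D hNS hzN
  have hbN : IsIso D (normalizerIn S P) N' b :=
    (hcz.trans hβ).congr (fun g hg => (hzv g hg).symm)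
  have hNcen : F.IsCentric (normalizerIn S P) := isCentric_of_le hP hPN hNS
  obtain ⟨y, hy, hyP⟩ := exists_mem_normalizerIn_not_mem hS hPS hPeq
  have hlt : Nat.card P < Nat.card (normalizerIn S P) :=
    card_lt_of_lt' hNS (lt_of_le_of_ne hPN (fun h => hyP (h ▸ hy)))
  have hfinN : Finite (normalizerIn S P) := finite_of_le S hNS
  have hle : Nat.card (normalizerIn S P) ≤ Nat.card S := Subgroup.card_le_of_le hNS
  exact ih (Nat.card S - Nat.card (normalizerIn S P)) (by omega) (normalizerIn S P) N' rfl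
    hNcen hbN

end

end Cfsg.Agent.Lib.H25
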