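import Cfsg.Agent.Lib.H25.KNorm

set_option autoImplicit false

/-!
Existence of fully `K`-normalized conjugates.
-/

namespace Cfsg.Agent.Lib.H25

open Cfsg Cfsg.FusionSystem

variable {Ω : Type*} [Group Ω] {S : Subgroup Ω}

/-- Some isomorphism of the system with source `X` realizes the maximum of `|N_S^{gK}(g X)|`. -/
theorem exists_isKMax [Finite S] (F : FusionSystem S) {X : Subgroup Ω} (hX : X ≤ S)
    (K : Subgroup (MulAut X)) :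
    ∃ (Y : Subgroup Ω) (h : Ω → Ω), IsIso F X Y h ∧ IsKMax F K h := by
  obtain ⟨s, hs⟩ : ∃ s : Set ℕ, s = {n | ∃ (Y : Subgroup Ω) (φ : Ω → Ω),
      IsIso F X Y φ ∧ n = Nat.card (NK S K φ)} := ⟨_, rfl⟩
  have hsmem : ∀ n, n ∈ s ↔ ∃ (Y : Subgroup Ω) (φ : Ω → Ω),
      IsIso F X Y φ ∧ n = Nat.card (NK S K φ) := by
    intro n
    rw [hs]
    rfl
  have hne : s.Nonempty := ⟨_, (hsmem _).2 ⟨X, id, IsIso.refl hX, rfl⟩⟩
  have hbdd : BddAbove s := by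
    refine ⟨Nat.card S, ?_⟩
    intro n hn
    obtain ⟨Y, φ, -, rfl⟩ := (hsmem n).1 hn
    exact Subgroup.card_le_of_le (NK_le _ _)
  obtain ⟨Y, φ, hφ, hm⟩ := (hsmem _).1 (Nat.sSup_mem hne hbdd)
  refine ⟨Y, φ, hφ, fun Z g hg => ?_⟩
  rw [← hm]
  exact le_csSup hbdd ((hsmem _).2 ⟨Z, g, hg, rfl⟩)

end Cfsg.Agent.Lib.H25
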