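/-
Towards Oliver's lemma (Reductions to simple fusion systems, Lemma 1.26): for `E` invariant in `F`
over `T` and a homomorphism `χ` from `Aut_F(T)` to a finite group `Δ` of order prime to `p` that
kills `Aut_E(T)`, the value of `χ` on (the restriction to `T` of) a function, and the degree of a
map of `F` between subgroups of `T`.
-/
import Mathlib
import Cfsg.Prelude.Def_FusionSystem
import Cfsg.Agent.S5119
import Cfsg.Agent.Lib.H25.ExtUnique
set_option autoImplicit false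

namespace Cfsg.Agent.Lib.H25.Oliver

open Cfsg Cfsg.FusionSystem Cfsg.Agent.Lib.H25 Cfsg.Agent.S5114 Cfsg.Agent.S5119

variable {Ω : Type*} [Group Ω] {S : Subgroup Ω} {F : FusionSystem S} {T : Subgroup Ω}
  {Δ : Type*} [Group Δ]

/-- The function `a` restricts on `T` to an element of `Aut_F(T)` on which `χ` takes the value
`d`. -/
def ChiVal (χ : ↥(F.autGroup T) →* Δ) (a : Ω → Ω) (d : Δ) : Prop :=
  ∃ β : ↥(F.autGroup T), χ β = d ∧ ∀ t : T, (((β : MulAut T) t : T) : Ω) = a t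

namespace ChiVal

variable {χ : ↥(F.autGroup T) →* Δ} {a b : Ω → Ω} {d e : Δ}

theorem isIso (hTS : T ≤ S) (h : ChiVal χ a d) : IsIso F T T a := by
  obtain ⟨β, -, hβ⟩ := h
  refine (isIso_aut1 F hTS β.2).congr (fun x hx => ?_)
  rw [aut1_apply_mem _ hx]
  exact hβ ⟨x, hx⟩

theorem unique (h : ChiVal χ a d) (h' : ChiVal χ a e) : d = e := by
  obtain ⟨β, hβd, hβ⟩ := h
  obtain ⟨β', hβ'd, hβ'⟩ := h'
  have : β = β' := by
    apply Subtype.ext
    ext t
    rw [hβ, hβ']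
  rw [← hβd, ← hβ'd, this]

theorem congr (h : ChiVal χ a d) (hab : ∀ x ∈ T, a x = b x) : ChiVal χ b d := by
  obtain ⟨β, hβd, hβ⟩ := h
  exact ⟨β, hβd, fun t => by rw [hβ, hab t t.2]⟩

theorem comp (h : ChiVal χ a d) (h' : ChiVal χ b e) : ChiVal χ (a ∘ b) (d * e) := by
  obtain ⟨β, hβd, hβ⟩ := h
  obtain ⟨β', hβ'd, hβ'⟩ := h'
  refine ⟨β * β', by rw [map_mul, hβd, hβ'd], fun t => ?_⟩
  show (((β : MulAut T) ((β' : MulAut T) t) : T) : Ω) = a (b t)
  rw [hβ, hβ']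

theorem one : ChiVal χ (id : Ω → Ω) (1 : Δ) :=
  ⟨1, map_one χ, fun _ => rfl⟩

theorem inv {a' : Ω → Ω} (h : ChiVal χ a d) (ha' : ∀ x ∈ T, a' (a x) = x) :
    ChiVal χ a' d⁻¹ := by
  obtain ⟨β, hβd, hβ⟩ := h
  refine ⟨β⁻¹, by rw [map_inv, hβd], fun t => ?_⟩
  have h1 := ha' (((β : MulAut T)⁻¹ t : T) : Ω) ((β : MulAut T)⁻¹ t).2
  rw [← hβ] at h1
  have h2 : (β : MulAut T) ((β : MulAut T)⁻¹ t) = t := by simp
  rw [h2] at h1
  exact h1.symm

theorem of_mem (hTS : T ≤ S) {α : MulAut T} (hα : α ∈ F.autGroup T) :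
    ChiVal χ (aut1 α) (χ ⟨α, hα⟩) :=
  ⟨⟨α, hα⟩, rfl, fun t => (aut1_apply α t).symm⟩

theorem exists_of_isIso (h : IsIso F T T a) : ∃ d, ChiVal χ a d := by
  obtain ⟨α, hα, hαv⟩ := exists_mem_autGroup_of_isIso F h
  exact ⟨χ ⟨α, hα⟩, ⟨α, hα⟩, rfl, hαv⟩

theorem pow (h : ChiVal χ a d) : ∀ m : ℕ, ChiVal χ (a^[m]) (d ^ m) := by
  intro m
  induction m with
  | zero => simpa using (one : ChiVal χ (id : Ω → Ω) (1 : Δ))
  | succ m ih =>
    rw [Function.iterate_succ', pow_succ']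
    exact h.comp ih

end ChiVal

/-- An element of a finite group of order prime to `p` killed by a power of `p` is trivial. -/
theorem eq_one_of_pow_prime_pow [Finite Δ] {p : ℕ} [hp : Fact p.Prime]
    (hΔ : (Nat.card Δ).Coprime p) {d : Δ} {k : ℕ} (h : d ^ (p ^ k) = 1) : d = 1 := by
  have h1 : orderOf d ∣ p ^ k := orderOf_dvd_of_pow_eq_one h
  have h2 : orderOf d ∣ Nat.card Δ := orderOf_dvd_natCard d
  have h3 : (orderOf d).Coprime (orderOf d) :=
    Nat.Coprime.coprime_dvd_left h2 (Nat.Coprime.coprime_dvd_right h1 (hΔ.pow_right k))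
  rw [Nat.coprime_self] at h3
  exact orderOf_eq_one_iff.1 h3

section

variable [Finite S] [Finite Δ] {p : ℕ} [Fact p.Prime] {E : FusionSystem T}
  {χ : ↥(F.autGroup T) →* Δ}

/-- `χ` is trivial on the automorphisms of `T` induced by elements of `S`. -/
theorem chiVal_conj (hS : IsPGroup p S) (hΔ : (Nat.card Δ).Coprime p) (hT : F.StronglyClosed T)
    {s : Ω} (hs : s ∈ S) : ChiVal χ (fun x => s * x * s⁻¹) 1 := by
  have hTS := hT.1
  have hsN : s ∈ normalizerIn S T := ⟨hs, stronglyClosed_le_normalizer hT hs⟩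
  have hc : IsIso F T T (fun x => s * x * s⁻¹) := isIso_conj_normalizer F hTS hsN
  obtain ⟨d, hd⟩ := ChiVal.exists_of_isIso (χ := χ) hc
  obtain ⟨k, hk⟩ := hS ⟨s, hs⟩
  have hk' : s ^ (p ^ k) = 1 := by
    have := congrArg Subtype.val hk
    simpa using this
  have hpow := hd.pow (p ^ k)
  have hit : ∀ m : ℕ, ∀ x : Ω, (fun x => s * x * s⁻¹)^[m] x = s ^ m * x * (s ^ m)⁻¹ := by
    intro m
    induction m with
    | zero => intro x; simp
    | succ m ih =>
      intro x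
      rw [Function.iterate_succ_apply', ih, pow_succ']
      group
  have h1 : ChiVal χ (id : Ω → Ω) (d ^ (p ^ k)) := by
    refine hpow.congr (fun x _ => ?_)
    rw [hit, hk']
    simp
  have h2 : d ^ (p ^ k) = 1 := h1.unique ChiVal.one
  rw [eq_one_of_pow_prime_pow hΔ h2] at hd
  exact hd

/-- `χ` is trivial on `Aut_E(T)`. -/
theorem chiVal_of_E (hker : (E.autGroup T).subgroupOf (F.autGroup T) ≤ χ.ker) {a : Ω → Ω}
    {d : Δ} (h : ChiVal χ a d) (ha : IsIso E T T a) : d = 1 := by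
  obtain ⟨β, hβd, hβ⟩ := h
  obtain ⟨α, hα, hαv⟩ := exists_mem_autGroup_of_isIso E ha
  have : (β : MulAut T) = α := by
    ext t
    rw [hβ, hαv]
  have hmem : β ∈ (E.autGroup T).subgroupOf (F.autGroup T) := by
    rw [Subgroup.mem_subgroupOf, this]
    exact hα
  rw [← hβd]
  exact hker hmem

end

end Cfsg.Agent.Lib.H25.Oliver
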