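/-
Towards Oliver's lemma, part 2: the degree of a map of `F` between subgroups of `T`, and the key
lemma: an automorphism of `T` in `F` whose restriction to an `E`-centric subgroup is a map of `E`
lies in the kernel of `χ`.
-/
import Mathlib
import Cfsg.Prelude.Def_FusionSystem
import Cfsg.Agent.Lib.H25.OliverChi
set_option autoImplicit false

namespace Cfsg.Agent.Lib.H25.Oliver

open Cfsg Cfsg.FusionSystem Cfsg.Agent.Lib.H25 Cfsg.Agent.S5114 Cfsg.Agent.S5119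

variable {Ω : Type*} [Group Ω] {S : Subgroup Ω} {F : FusionSystem S} {T : Subgroup Ω}
  {Δ : Type*} [Group Δ]

/-- The map `f` with source `U ≤ T` is an automorphism of `T` of `χ`-value `d` composed with a map
of `E`. -/
def Deg (E : FusionSystem T) (χ : ↥(F.autGroup T) →* Δ) (U : Subgroup Ω) (f : Ω → Ω) (d : Δ) :
    Prop :=
  ∃ (a e : Ω → Ω) (U₀ : Subgroup Ω), ChiVal χ a d ∧ IsIso E U U₀ e ∧ ∀ x ∈ U, f x = a (e x)

namespace Deg

variable {E : FusionSystem T} {χ : ↥(F.autGroup T) →* Δ} {U U' V : Subgroup Ω} {f g : Ω → Ω}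
  {d d' : Δ}

theorem congr (h : Deg E χ U f d) (hfg : ∀ x ∈ U, f x = g x) : Deg E χ U g d := by
  obtain ⟨a, e, U₀, hc, he, hv⟩ := h
  exact ⟨a, e, U₀, hc, he, fun x hx => by rw [← hfg x hx, hv x hx]⟩

theorem restrict (h : Deg E χ U f d) (hVU : V ≤ U) : Deg E χ V f d := by
  obtain ⟨a, e, U₀, hc, he, hv⟩ := h
  obtain ⟨V₀, -, hV₀, -⟩ := he.restrict hVU
  exact ⟨a, e, V₀, hc, hV₀, fun x hx => hv x (hVU hx)⟩

theorem of_chi {a : Ω → Ω} (h : ChiVal χ a d) (hU : U ≤ T) : Deg E χ U a d :=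
  ⟨a, id, U, h, IsIso.refl hU, fun _ _ => rfl⟩

theorem of_E {U₀ : Subgroup Ω} {e : Ω → Ω} (h : IsIso E U U₀ e) : Deg E χ U e 1 :=
  ⟨id, e, U₀, ChiVal.one, h, fun _ _ => rfl⟩

theorem exists_of_isIso (hinv : E.IsInvariantIn F) (hU : U ≤ T) (hf : IsIso F U U' f) :
    ∃ d, Deg E χ U f d := by
  have hTS := hinv.2.1.1
  obtain ⟨φ, hφ, hφf, -⟩ := hf
  obtain ⟨α, hα, φ₀, hφ₀, hv⟩ := hinv.2.2.2 U hU φ hφ
  refine ⟨χ ⟨α, hα⟩, aut1 α, ext1 φ₀, φ₀.range, ChiVal.of_mem hTS hα, isIso_of_mem E hφ₀,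
    fun x hx => ?_⟩
  have hT : φ₀ ⟨x, hx⟩ ∈ T := hom_mem_S E hφ₀ _
  rw [← hφf ⟨x, hx⟩, hv ⟨x, hx⟩ hT, ext1_apply_mem φ₀ hx, aut1_apply_mem α hT]

theorem comp (hinv : E.IsInvariantIn F) (hU : U ≤ T) (hf : IsIso F U U' f)
    (h1 : Deg E χ U f d) (h2 : Deg E χ U' g d') : Deg E χ U (g ∘ f) (d' * d) := by
  have hTS := hinv.2.1.1
  obtain ⟨a₁, e₁, U₀, hc₁, he₁, hv₁⟩ := h1
  obtain ⟨a₂, e₂, U₀', hc₂, he₂, hv₂⟩ := h2
  have ha₁ := hc₁.isIso hTS
  obtain ⟨c, hc, hca, hac⟩ := ha₁.symm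
  have hU'T : U' ≤ T := stronglyClosed_image_le hinv.2.1 hf hU
  have hU₀T : U₀ ≤ T := he₁.le_right
  have hU₀'T : U₀' ≤ T := he₂.le_right
  obtain ⟨χ', R, R₁, hχ', hR, hχ'v⟩ := (si_of_inv hinv).fn hU'T hU₀'T le_rfl he₂ hc
  have hcf : ∀ x ∈ U, c (f x) = e₁ x := by
    intro x hx
    rw [hv₁ x hx, hca _ (hU₀T (he₁.map_mem hx))]
  have hRU₀ : R = U₀ := by
    ext y
    rw [hR]
    constructor
    · rintro ⟨x, hx, rfl⟩
      obtain ⟨u, hu, rfl⟩ := hf.surjOn hx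
      rw [hcf u hu]
      exact he₁.map_mem hu
    · intro hy
      obtain ⟨u, hu, rfl⟩ := he₁.surjOn hy
      exact ⟨f u, hf.map_mem hu, hcf u hu⟩
  rw [hRU₀] at hχ'
  refine ⟨a₂ ∘ a₁, χ' ∘ e₁, R₁, hc₂.comp hc₁, he₁.trans hχ', fun x hx => ?_⟩
  show g (f x) = a₂ (a₁ (χ' (e₁ x)))
  have hfx : f x ∈ U' := hf.map_mem hx
  rw [hv₂ _ hfx, ← hcf x hx, hχ'v _ hfx, hac _ (hU₀'T (he₂.map_mem hfx))]

theorem iterate (hinv : E.IsInvariantIn F) (hU : U ≤ T) (hf : IsIso F U U f)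
    (h : Deg E χ U f d) : ∀ m : ℕ, IsIso F U U (f^[m]) ∧ Deg E χ U (f^[m]) (d ^ m) := by
  have hTS := hinv.2.1.1
  intro m
  induction m with
  | zero =>
    refine ⟨by simpa using IsIso.refl (F := F) (hU.trans hTS), ?_⟩
    simpa using (of_chi (E := E) (ChiVal.one (χ := χ)) hU)
  | succ m ih =>
    rw [Function.iterate_succ', pow_succ']
    exact ⟨ih.1.trans hf, comp hinv hU ih.1 ih.2 h⟩

end Deg

/-- The key lemma, for `E`-centric subgroups of index `n` in `T`. -/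
def LX (E : FusionSystem T) (χ : ↥(F.autGroup T) →* Δ) (n : ℕ) : Prop :=
  ∀ R : Subgroup Ω, E.IsCentric R → Nat.card T - Nat.card R = n →
    ∀ (a : Ω → Ω) (d : Δ) (R' : Subgroup Ω), ChiVal χ a d → IsIso E R R' a → d = 1

section

variable [Finite S] {E : FusionSystem T} {χ : ↥(F.autGroup T) →* Δ}

/-- The degree at an `E`-centric subgroup is unique, given the key lemma at its index. -/
theorem Deg.unique_of_LX (hTS : T ≤ S) {U : Subgroup Ω} (hUc : E.IsCentric U)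
    (hLX : LX E χ (Nat.card T - Nat.card U)) {f : Ω → Ω} {d d' : Δ}
    (h1 : Deg E χ U f d) (h2 : Deg E χ U f d') : d = d' := by
  haveI : Finite T := finite_of_le S hTS
  obtain ⟨a, e, U₀, hc, he, hv⟩ := h1
  obtain ⟨a₁, e₁, U₁, hc₁, he₁, hv₁⟩ := h2
  have ha₁ := hc₁.isIso hTS
  obtain ⟨c₁, hc₁', hca, hac⟩ := ha₁.symm
  obtain ⟨k, hk, hke, hek⟩ := he.symm
  have hU₀T : U₀ ≤ T := he.le_right
  have hU₁T : U₁ ≤ T := he₁.le_right
  have hiso : IsIso E U₀ U₁ (c₁ ∘ a) := by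
    refine (hk.trans he₁).congr (fun y hy => ?_)
    obtain ⟨u, hu, rfl⟩ := he.surjOn hy
    show e₁ (k (e u)) = c₁ (a (e u))
    rw [hke u hu, ← hv u hu, hv₁ u hu, hca _ (hU₁T (he₁.map_mem hu))]
  have hchi : ChiVal χ (c₁ ∘ a) (d'⁻¹ * d) := (hc₁.inv hca).comp hc
  have hU₀c : E.IsCentric U₀ := isCentric_of_isIso hUc he
  have hcard : Nat.card T - Nat.card U₀ = Nat.card T - Nat.card U := by rw [he.card_eq]
  have := hLX U₀ hU₀c hcard _ _ _ hchi hiso
  exact (inv_mul_eq_one.1 this).symm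

end

section

variable [Finite S] [Finite Δ] {p : ℕ} [Fact p.Prime] {E : FusionSystem T}
  {χ : ↥(F.autGroup T) →* Δ}

/-- **Key lemma**: an automorphism of `T` in `F` whose restriction to an `E`-centric subgroup is a
map of `E` lies in the kernel of `χ`. -/
theorem lx_all (hS : IsPGroup p S) (hEs : E.IsSaturated p) (hinv : E.IsInvariantIn F)
    (hΔ : (Nat.card Δ).Coprime p) (hker : (E.autGroup T).subgroupOf (F.autGroup T) ≤ χ.ker) :
    ∀ n : ℕ, LX E χ n := by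
  have hTsc := hinv.2.1
  have hTS : T ≤ S := hTsc.1
  have hfinT : Finite T := finite_of_le S hTS
  have hTp : IsPGroup p T := hS.to_le hTS
  intro n
  induction n using Nat.strong_induction_on with
  | _ n IH =>
  intro R hRc hn a d R' hchi hε
  have hRT : R ≤ T := hRc.1
  have hfinR : Finite R := finite_of_le T hRT
  have haT : IsIso F T T a := hchi.isIso hTS
  by_cases hRe : R = T
  · subst hRe
    have hR' : R' = R := by
      have hle : R' ≤ R := hε.le_right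
      exact Subgroup.eq_of_le_of_card_ge hle (le_of_eq hε.card_eq)
    rw [hR'] at hε
    exact chiVal_of_E hker hchi hε
  -- the normalizer of `R` in `T`
  obtain ⟨g₀, hg₀N, hg₀R⟩ := exists_mem_normalizerIn_not_mem hTp hRT hRe
  have hRN : R ≤ normalizerIn T R := le_normalizerIn hRT
  have hNT : normalizerIn T R ≤ T := inf_le_left
  have hfinN : Finite (normalizerIn T R) := finite_of_le T hNT
  have hlt : Nat.card R < Nat.card (normalizerIn T R) := by
    apply lt_of_le_of_ne (Subgroup.card_le_of_le hRN)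
    intro h
    have := Subgroup.eq_of_le_of_card_ge hRN (le_of_eq h.symm)
    exact hg₀R (this ▸ hg₀N)
  have hNle : Nat.card (normalizerIn T R) ≤ Nat.card T := Subgroup.card_le_of_le hNT
  have hNc : E.IsCentric (normalizerIn T R) := isCentric_of_le hRc hRN hNT
  have hR'c : E.IsCentric R' := isCentric_of_isIso hRc hε
  have hrec : E.IsReceptive R' :=
    isReceptive_of_fullyCentralized hTp hEs (isFullyCentralized_of_isCentric hR'c)
  -- extend `a|_R` to the normalizer inside `E`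
  obtain ⟨f', N', hf', hf'v⟩ := IsReceptive_extend hrec hε (normalizerIn T R) (by
    intro g hg
    refine ⟨hg.1, hg.2, a g, haT.map_mem hg.1, fun x hx => ?_⟩
    rw [haT.map_mul (T.mul_mem hg.1 (hRT hx)) (T.inv_mem hg.1), haT.map_mul hg.1 (hRT hx),
      haT.map_inv hg.1])
  have hf'R : ∀ x ∈ R, f' x = a x := fun x hx => hf'v x hx (hRN hx)
  have hN'T : N' ≤ T := hf'.le_right
  obtain ⟨c, hc, hca, hac⟩ := haT.symm
  -- `γ = a⁻¹ ∘ f'`
  have hf'F : IsIso F (normalizerIn T R) N' f' := by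
    obtain ⟨φ, hφ, hφv, hr⟩ := hf'
    exact ⟨φ, hinv.1 _ hφ, hφv, hr⟩
  obtain ⟨N₂, hN₂T, hcN', -⟩ := hc.restrict hN'T
  have hγ₀ : IsIso F (normalizerIn T R) N₂ (c ∘ f') := hf'F.trans hcN'
  have hγR : ∀ x ∈ R, (c ∘ f') x = x := by
    intro x hx
    show c (f' x) = x
    rw [hf'R x hx, hca x (hRT hx)]
  -- conjugation by `γ x` agrees with conjugation by `x` on `R`
  have hconj : ∀ x ∈ normalizerIn T R, ∀ r ∈ R,
      (c ∘ f') x * r * ((c ∘ f') x)⁻¹ = x * r * x⁻¹ := by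
    intro x hx r hr
    have hxr : x * r * x⁻¹ ∈ R := (Subgroup.mem_normalizer_iff.1 hx.2 r).1 hr
    have h1 : (c ∘ f') (x * r * x⁻¹) = (c ∘ f') x * r * ((c ∘ f') x)⁻¹ := by
      rw [hγ₀.map_mul ((normalizerIn T R).mul_mem hx (hRN hr)) ((normalizerIn T R).inv_mem hx),
        hγ₀.map_mul hx (hRN hr), hγ₀.map_inv hx, hγR r hr]
    rw [← h1, hγR _ hxr]
  have hN₂N : N₂ ≤ normalizerIn T R := by
    intro y hy
    obtain ⟨x, hx, rfl⟩ := hγ₀.surjOn hy
    refine ⟨hN₂T (hγ₀.map_mem hx), ?_⟩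
    show (c ∘ f') x ∈ Subgroup.normalizer (R : Set Ω)
    rw [Subgroup.mem_normalizer_iff]
    intro h
    constructor
    · intro hh
      rw [hconj x hx h hh]
      exact (Subgroup.mem_normalizer_iff.1 hx.2 h).1 hh
    · intro hh
      -- `hh : γx h γx⁻¹ ∈ R`
      have hx' : x⁻¹ ∈ Subgroup.normalizer (R : Set Ω) := Subgroup.inv_mem _ hx.2
      have hr : x⁻¹ * ((c ∘ f') x * h * ((c ∘ f') x)⁻¹) * x ∈ R := by
        have := (Subgroup.mem_normalizer_iff.1 hx' _).1 hh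
        simpa using this
      have h2 := hconj x hx _ hr
      have h3 : x * (x⁻¹ * ((c ∘ f') x * h * ((c ∘ f') x)⁻¹) * x) * x⁻¹ =
          (c ∘ f') x * h * ((c ∘ f') x)⁻¹ := by group
      rw [h3] at h2
      have h4 : x⁻¹ * ((c ∘ f') x * h * ((c ∘ f') x)⁻¹) * x = h := by
        have := mul_left_cancel (mul_right_cancel h2)
        exact this
      rw [← h4]
      exact hr
  have hN₂e : N₂ = normalizerIn T R :=
    Subgroup.eq_of_le_of_card_ge hN₂N (le_of_eq hγ₀.card_eq)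
  rw [hN₂e] at hγ₀
  -- `γ x x⁻¹ ∈ R`
  have hz : ∀ x ∈ normalizerIn T R, (c ∘ f') x * x⁻¹ ∈ R := by
    intro x hx
    apply hRc.2 R (isConj_refl E hRT)
    refine ⟨T.mul_mem (hNT (hγ₀.map_mem hx)) (T.inv_mem hx.1), ?_⟩
    show _ ∈ Subgroup.centralizer (R : Set Ω)
    rw [Subgroup.mem_centralizer_iff]
    intro r hr
    have hx' : x⁻¹ ∈ Subgroup.normalizer (R : Set Ω) := Subgroup.inv_mem _ hx.2
    have hr₁ : x⁻¹ * r * x ∈ R := by
      have := (Subgroup.mem_normalizer_iff.1 hx' r).1 hr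
      simpa using this
    have h1 := hconj x hx _ hr₁
    have h2 : x * (x⁻¹ * r * x) * x⁻¹ = r := by group
    rw [h2] at h1
    -- `γx (x⁻¹ r x) γx⁻¹ = r`
    calc r * ((c ∘ f') x * x⁻¹)
        = ((c ∘ f') x * (x⁻¹ * r * x) * ((c ∘ f') x)⁻¹) * ((c ∘ f') x * x⁻¹) := by rw [h1]
      _ = (c ∘ f') x * x⁻¹ * r := by group
  -- iterates of `γ`
  have hiter : ∀ m : ℕ, ∀ x ∈ normalizerIn T R,
      (c ∘ f')^[m] x = ((c ∘ f') x * x⁻¹) ^ m * x := by
    intro m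
    induction m with
    | zero => intro x _; simp
    | succ m ih =>
      intro x hx
      have hzm : ((c ∘ f') x * x⁻¹) ^ m ∈ R := R.pow_mem (hz x hx) m
      rw [Function.iterate_succ_apply', ih x hx, hγ₀.map_mul (hRN hzm) hx, hγR _ hzm, pow_succ]
      group
  have hcardR : ∃ k : ℕ, Nat.card R = p ^ k := (IsPGroup.iff_card.1 (hTp.to_le hRT))
  obtain ⟨k, hk⟩ := hcardR
  have hiterid : ∀ x ∈ normalizerIn T R, (c ∘ f')^[p ^ k] x = x := by
    intro x hx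
    rw [hiter _ x hx]
    have h1 : (⟨(c ∘ f') x * x⁻¹, hz x hx⟩ : R) ^ (p ^ k) = 1 := by
      rw [← hk]
      exact pow_card_eq_one'
    have h2 : ((c ∘ f') x * x⁻¹) ^ (p ^ k) = 1 := by
      have := congrArg Subtype.val h1
      simpa using this
    rw [h2, one_mul]
  -- the index of the normalizer is smaller
  have hidx : Nat.card T - Nat.card (normalizerIn T R) < n := by
    have := Subgroup.card_le_of_le hRT
    omega
  have hLXN : LX E χ (Nat.card T - Nat.card (normalizerIn T R)) := IH _ hidx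
  -- the degree of `γ` is one
  obtain ⟨dγ, hdγ⟩ := Deg.exists_of_isIso (χ := χ) hinv hNT hγ₀
  have hpow := (Deg.iterate hinv hNT hγ₀ hdγ (p ^ k)).2
  have hid : Deg E χ (normalizerIn T R) (id : Ω → Ω) (dγ ^ (p ^ k)) :=
    hpow.congr (fun x hx => hiterid x hx)
  have hid1 : Deg E χ (normalizerIn T R) (id : Ω → Ω) 1 := Deg.of_chi ChiVal.one hNT
  have hdγ1 : dγ = 1 :=
    eq_one_of_pow_prime_pow hΔ (Deg.unique_of_LX hTS hNc hLXN hid hid1)
  rw [hdγ1] at hdγ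
  obtain ⟨aγ, eγ, N₃, hcγ, heγ, hvγ⟩ := hdγ
  -- `f' = a ∘ aγ ∘ eγ` on the normalizer
  have hN₃T : N₃ ≤ T := heγ.le_right
  have hf'eq : ∀ x ∈ normalizerIn T R, f' x = a (aγ (eγ x)) := by
    intro x hx
    rw [← hvγ x hx]
    show f' x = a (c (f' x))
    rw [hac _ (hN'T (hf'.map_mem hx))]
  obtain ⟨kγ, hkγ, hkγ1, hkγ2⟩ := heγ.symm
  have hiso : IsIso E N₃ N' (a ∘ aγ) := by
    refine (hkγ.trans hf').congr (fun y hy => ?_)
    obtain ⟨x, hx, rfl⟩ := heγ.surjOn hy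
    show f' (kγ (eγ x)) = a (aγ (eγ x))
    rw [hkγ1 x hx, hf'eq x hx]
  have hN₃c : E.IsCentric N₃ := isCentric_of_isIso hNc heγ
  have hcard3 : Nat.card T - Nat.card N₃ = Nat.card T - Nat.card (normalizerIn T R) := by
    rw [heγ.card_eq]
  have hfin := hLXN N₃ hN₃c hcard3 _ _ _ (hchi.comp hcγ) hiso
  rwa [mul_one] at hfin

end

end Cfsg.Agent.Lib.H25.Oliver
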