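/-
The Frattini factorization `F = Aut_F(S) · E` (AKO Lemma I.7.6 / BCGLO2 Lemma 3.4) under a
hypothesis restricted to a class `ℋ` of centric subgroups that is invariant under `F`-conjugation
and contains the essential subgroups; consequences for automorphisms of `p`-power order.
-/
import Mathlib
import Cfsg.Prelude.Def_FusionSystem
import Cfsg.Agent.S5114
set_option autoImplicit false

namespace Cfsg.Agent.Lib.H25.FrG

open Cfsg Cfsg.FusionSystem Cfsg.Agent.Lib.H25 Cfsg.Agent.S5114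

variable {Ω : Type*} [Group Ω] {S : Subgroup Ω}

/-- `Aut_D(P)` contains the automorphisms of `p`-power order of `Aut_F(P)` for all `F`-centric
`P` in the class `ℋ`. -/
def PPHypC (F : FusionSystem S) (p : ℕ) (ℋ : Subgroup Ω → Prop) (D : FusionSystem S) : Prop :=
  ∀ P : Subgroup Ω, F.IsCentric P → ℋ P →
    (Subgroup.closure {α : ↥(F.autGroup P) | ∃ k : ℕ, orderOf α = p ^ k}).map
      (F.autGroup P).subtype ≤ D.autGroup P

/-- The class `ℋ` is invariant under isomorphisms of `F`. -/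
def ClassInv (F : FusionSystem S) (ℋ : Subgroup Ω → Prop) : Prop :=
  ∀ (P P' : Subgroup Ω) (f : Ω → Ω), ℋ P → IsIso F P P' f → ℋ P'

theorem iso₀_of_pPowerC {p : ℕ} {F E : FusionSystem S} {ℋ : Subgroup Ω → Prop}
    (h : PPHypC F p ℋ E) (hinv : ClassInv F ℋ)
    {R : Subgroup Ω} (hR : F.IsCentric R) (hRℋ : ℋ R) {γ : MulAut R} (hγ : γ ∈ F.autGroup R)
    {k : ℕ} (hk : orderOf γ = p ^ k) : Iso₀ F E R R (aut1 γ) := by
  have hRS := hR.1
  refine ⟨isIso_aut1 F hRS hγ, fun b b' hb R' R'' hR' hR'' => ?_⟩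
  have hRe : R' = R'' := IsIso.target_eq hR' hR'' (fun _ _ => rfl)
  subst hRe
  have hcen : F.IsCentric R' := isCentric_of_isIso hR hR'
  have hR'ℋ : ℋ R' := hinv R R' b hRℋ hR'
  have hγ' : MulAut.congr hR'.toMulEquiv γ ∈ F.autGroup R' :=
    congr_mem_autGroup hR' hR'.toMulEquiv (fun x => hR'.toMulEquiv_apply x) hγ
  have hord : orderOf (MulAut.congr hR'.toMulEquiv γ) = p ^ k := by
    rw [MulEquiv.orderOf_eq]
    exact hk
  have hmemE : MulAut.congr hR'.toMulEquiv γ ∈ E.autGroup R' := by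
    apply h R' hcen hR'ℋ
    refine ⟨⟨_, hγ'⟩, Subgroup.subset_closure ⟨k, ?_⟩, rfl⟩
    rw [← hord]
    exact Subgroup.orderOf_mk _ hγ'
  have hiso := isIso_aut1 E hR'.le_right hmemE
  refine hiso.congr (fun y hy => ?_)
  obtain ⟨x, hx, rfl⟩ := hR'.surjOn hy
  rw [aut1_apply_mem _ hy]
  show ((hR'.toMulEquiv (γ (hR'.toMulEquiv.symm ⟨b x, hy⟩)) : R') : Ω) = b (aut1 γ (b' (b x)))
  have e1 : hR'.toMulEquiv.symm ⟨b x, hy⟩ = ⟨x, hx⟩ := by
    rw [MulEquiv.symm_apply_eq]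
    exact Subtype.ext (hR'.toMulEquiv_apply ⟨x, hx⟩).symm
  rw [e1, hb.2.2.1 x (hRS hx), hR'.toMulEquiv_apply, aut1_apply_mem γ hx]

/-- The Frattini step for an essential subgroup in the class. -/
theorem fiso_essentialC [Finite S] {p : ℕ} [hp : Fact p.Prime] (hS : IsPGroup p S)
    {F : FusionSystem S} (hF : F.IsSaturated p) (E : FusionSystem S) {ℋ : Subgroup Ω → Prop}
    (h : PPHypC F p ℋ E) (hinv : ClassInv F ℋ)
    {P : Subgroup Ω} (hcen : F.IsCentric P) (hPℋ : ℋ P) (hfn : F.IsFullyNormalized P)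
    (hne : P ≠ S)
    (IH : ∀ (Q' Q'' : Subgroup Ω) (k : Ω → Ω), Nat.card P < Nat.card Q' → IsIso F Q' Q'' k →
      FIso F E Q' Q'' k)
    {β : MulAut P} (hβ : β ∈ F.autGroup P) : FIso F E P P (aut1 β) := by
  have hPS : P ≤ S := hcen.1
  have hfinP : Finite P := finite_of_le S hPS
  obtain ⟨hfc, hfa⟩ := fullyNormalized_props hS hF hfn
  have hrec : F.IsReceptive P := isReceptive_of_fullyCentralized hS hF hfc
  obtain ⟨N, hN⟩ : ∃ N : Subgroup (MulAut P), N =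
      (Subgroup.closure {α : ↥(F.autGroup P) | ∃ k : ℕ, orderOf α = p ^ k}).map
        (F.autGroup P).subtype := ⟨_, rfl⟩
  have hNA : N ≤ F.autGroup P := by
    rw [hN]
    rintro _ ⟨α, -, rfl⟩
    exact α.2
  have hgenN : ∀ γ : MulAut P, γ ∈ F.autGroup P → (∃ k : ℕ, orderOf γ = p ^ k) → γ ∈ N := by
    intro γ hγ ⟨k, hk⟩
    rw [hN]
    refine ⟨⟨γ, hγ⟩, Subgroup.subset_closure ⟨k, ?_⟩, rfl⟩
    rw [← hk]
    exact Subgroup.orderOf_mk _ hγ
  have hNf : N ≤ fAut F E P hPS := by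
    rw [hN, Subgroup.map_le_iff_le_comap, Subgroup.closure_le]
    rintro γ ⟨k, hk⟩
    have hk' : orderOf (γ : MulAut P) = p ^ k := by rw [Subgroup.orderOf_coe]; exact hk
    exact ⟨γ.2, fiso_of_iso₀ (iso₀_of_pPowerC h hinv hcen hPℋ γ.2 hk')⟩
  have hTp : IsPGroup p (autInducedBy S P) := autInducedBy_isPGroup hS P
  have hTA : autInducedBy S P ≤ F.autGroup P := autInducedBy_le_autGroup F hPS
  have hTN : autInducedBy S P ≤ N := by
    intro t ht
    obtain ⟨k, hk⟩ := (IsPGroup.iff_orderOf.1 hTp) ⟨t, ht⟩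
    refine hgenN t (hTA ht) ⟨k, ?_⟩
    rw [← hk]
    exact (Subgroup.orderOf_mk _ ht).symm
  have hcardT : Nat.card (autInducedBy S P) = p ^ (Nat.card N).factorization p :=
    sylow_card_of_le hTN hNA (card_autInducedBy_of_fullyAutomized hfa)
  have hDN : (autInducedBy S P).map (MulAut.conj β).toMonoidHom ≤ N := by
    rintro _ ⟨t, ht, rfl⟩
    obtain ⟨k, hk⟩ := (IsPGroup.iff_orderOf.1 hTp) ⟨t, ht⟩
    refine hgenN _ ?_ ⟨k, ?_⟩
    · exact Subgroup.mul_mem _ (Subgroup.mul_mem _ hβ (hTA ht)) (Subgroup.inv_mem _ hβ)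
    · rw [← hk]
      show orderOf ((MulAut.conj β) t) = _
      rw [MulEquiv.orderOf_eq]
      exact (Subgroup.orderOf_mk _ ht).symm
  obtain ⟨η, hηN, hη⟩ := sylow_conj hTN hcardT hDN (hTp.map _)
  have hνA : η * β ∈ F.autGroup P := Subgroup.mul_mem _ (hNA hηN) hβ
  have hνT : ∀ t ∈ autInducedBy S P, (η * β) * t * (η * β)⁻¹ ∈ autInducedBy S P := by
    intro t ht
    have := hη _ ⟨t, ht, rfl⟩
    have e : η * ((MulAut.conj β).toMonoidHom t) * η⁻¹ = (η * β) * t * (η * β)⁻¹ := by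
      show η * (β * t * β⁻¹) * η⁻¹ = _
      group
    rwa [e] at this
  obtain ⟨g, hgN, hgP⟩ := exists_mem_normalizerIn_not_mem hS hPS hne
  have hgext : g ∈ extender S P (P.subtype.comp (η * β).toMonoidHom) := by
    rw [mem_extender_iff]
    obtain ⟨t, htA, htv⟩ := exists_mem_autGroup_of_isIso F (isIso_conj_normalizer F hPS hgN)
    have htT : t ∈ autInducedBy S P := (mem_autInducedBy_iff S P t).2 ⟨g, hgN.1, htv⟩
    obtain ⟨h', hh'S, hh'v⟩ := (mem_autInducedBy_iff S P _).1 (hνT t htT)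
    refine ⟨hgN.1, hgN.2, h', hh'S, fun x hx => ?_⟩
    have e1 := hh'v ((η * β) x)
    have e2 : ((η * β) * t * (η * β)⁻¹) ((η * β) x) = (η * β) (t x) := by
      simp [MulAut.mul_apply]
    rw [e2] at e1
    have e3 : t x = ⟨g * (x : Ω) * g⁻¹, hx⟩ := Subtype.ext (htv x)
    rw [e3] at e1
    exact e1
  have hνext : η * β ∈ extGens F P := mem_extGens_of_extender hrec hνA hgext hgP
  obtain ⟨Q', hPQ', φ', hφ', hφ'v⟩ := hνext
  have hQ'S : Q' ≤ S := hom_le F hφ'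
  have hfisoQ' : FIso F E Q' φ'.range (ext1 φ') :=
    IH _ _ _ (card_lt_of_lt' hQ'S hPQ') (isIso_of_mem F hφ')
  have hval : ∀ x ∈ P, aut1 (η * β) x = ext1 φ' x := by
    intro x hx
    rw [aut1_apply_mem _ hx, ext1_apply_mem φ' (hPQ'.le hx), ← hφ'v ⟨x, hx⟩]
    rfl
  have hνF : FIso F E P P (aut1 (η * β)) := by
    have h1 : IsIso F P P (ext1 φ') := (isIso_aut1 F hPS hνA).congr hval
    have h2 := (isoPred_fiso F E).restrict hfisoQ' hPQ'.le h1
    exact (isoPred_fiso F E).congr h2 (fun x hx => (hval x hx).symm)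
  have hηf : η⁻¹ ∈ fAut F E P hPS := Subgroup.inv_mem _ (hNf hηN)
  have hνf : η * β ∈ fAut F E P hPS := ⟨hνA, hνF⟩
  have hβf : η⁻¹ * (η * β) ∈ fAut F E P hPS := Subgroup.mul_mem _ hηf hνf
  rw [inv_mul_cancel_left] at hβf
  exact hβf.2

/-- Every isomorphism of `F` is factorable. -/
theorem fiso_allC [Finite S] {p : ℕ} [hp : Fact p.Prime] (hS : IsPGroup p S)
    {F : FusionSystem S} (hF : F.IsSaturated p) (E : FusionSystem S) {ℋ : Subgroup Ω → Prop}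
    (h : PPHypC F p ℋ E) (hinv : ClassInv F ℋ) (hess : ∀ P, F.IsEssential p P → ℋ P) :
    ∀ (P Q : Subgroup Ω) (f : Ω → Ω), IsIso F P Q f → FIso F E P Q f := by
  have hM := alperin_ind hS F hF (sysOfPred (isoPred_fiso F E)) (fun P hP IH => ?_)
  · intro P Q f hf
    obtain ⟨φ, hφ, hφf, hr⟩ := hf
    exact (isIso_sysOfPred_iff (isoPred_fiso F E)).1 ⟨φ, hM P hφ, hφf, hr⟩
  · have hPS : P ≤ S := by
      rcases hP with rfl | hP
      · exact le_rfl
      · exact hP.1.1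
    apply autGroup_le_of_isIso hPS
    intro f hf
    rw [isIso_sysOfPred_iff]
    by_cases hPeq : P = S
    · rw [hPeq] at hf ⊢
      exact fiso_of_autS E hf
    · rcases hP with hP | hP
      · exact absurd hP hPeq
      · have hPℋ := hess P hP
        obtain ⟨hcen, hfn, -⟩ := hP
        obtain ⟨β, hβ, hβv⟩ := exists_mem_autGroup_of_isIso F hf
        have IH' : ∀ (Q' Q'' : Subgroup Ω) (k : Ω → Ω), Nat.card P < Nat.card Q' →
            IsIso F Q' Q'' k → FIso F E Q' Q'' k := by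
          intro Q' Q'' k hlt hk
          obtain ⟨ψ, hψ, hψk, hr⟩ := hk
          exact (isIso_sysOfPred_iff (isoPred_fiso F E)).1
            ⟨ψ, IH Q' (hom_le F hψ) hlt hψ, hψk, hr⟩
        have := fiso_essentialC hS hF E h hinv hcen hPℋ hfn hPeq IH' hβ
        refine (isoPred_fiso F E).congr this (fun x hx => ?_)
        rw [aut1_apply_mem β hx]
        exact hβv ⟨x, hx⟩

theorem mem_autGroup_of_isIso_aut1' {E : FusionSystem S} {P : Subgroup Ω} {γ : MulAut P}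
    (h : IsIso E P P (aut1 γ)) : γ ∈ E.autGroup P := by
  obtain ⟨β, hβ, hβv⟩ := exists_mem_autGroup_of_isIso E h
  have : β = γ := by
    ext x
    rw [hβv, aut1_apply]
  rw [← this]
  exact hβ

/-- Automorphisms of `p`-power order of any subgroup of `S` lie in `⋂ β E β⁻¹`. -/
theorem iso₀_of_pPower_all [Finite S] {p : ℕ} [hp : Fact p.Prime] (hS : IsPGroup p S)
    {F : FusionSystem S} (hF : F.IsSaturated p) (E : FusionSystem S) {ℋ : Subgroup Ω → Prop}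
    (h : PPHypC F p ℋ E) (hinv : ClassInv F ℋ) (hess : ∀ P, F.IsEssential p P → ℋ P)
    {P : Subgroup Ω} (hP : P ≤ S) {γ : MulAut P} (hγ : γ ∈ F.autGroup P) {k : ℕ}
    (hk : orderOf γ = p ^ k) : Iso₀ F E P P (aut1 γ) := by
  have hfinP : Finite P := finite_of_le S hP
  have hg : IsIso F P P (aut1 γ) := isIso_aut1 F hP hγ
  obtain ⟨P', hPP', hP'fn⟩ := exists_fullyNormalized_conj F hP
  obtain ⟨f₀, hf₀⟩ := (isConj_iff F).1 hPP'
  have hP'S : P' ≤ S := hf₀.le_right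
  have hfinP' : Finite P' := finite_of_le S hP'S
  obtain ⟨-, hfa⟩ := fullyNormalized_props hS hF hP'fn
  have he : ∀ x : P, ((hf₀.toMulEquiv x : P') : Ω) = f₀ x := fun x => hf₀.toMulEquiv_apply x
  have hγ' : MulAut.congr hf₀.toMulEquiv γ ∈ F.autGroup P' :=
    congr_mem_autGroup hf₀ hf₀.toMulEquiv he hγ
  have hord : orderOf (MulAut.congr hf₀.toMulEquiv γ) = p ^ k := by
    rw [MulEquiv.orderOf_eq]
    exact hk
  -- Sylow conjugation of `⟨γ'⟩` into `Aut_S(P')`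
  have hTA : autInducedBy S P' ≤ F.autGroup P' := autInducedBy_le_autGroup F hP'S
  have hcardT := card_autInducedBy_of_fullyAutomized hfa
  have hDle : Subgroup.zpowers (MulAut.congr hf₀.toMulEquiv γ) ≤ F.autGroup P' :=
    Subgroup.zpowers_le.2 hγ'
  have hDp : IsPGroup p (Subgroup.zpowers (MulAut.congr hf₀.toMulEquiv γ)) := by
    apply IsPGroup.of_card (n := k)
    rw [Nat.card_zpowers, hord]
  obtain ⟨η, hηA, hη⟩ := sylow_conj hTA hcardT hDle hDp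
  have hc := hη _ (Subgroup.mem_zpowers _)
  obtain ⟨s, hsS, hsv⟩ := (mem_autInducedBy_iff S P' _).1 hc
  -- `ρ = η ∘ f₀`
  have hηiso : IsIso F P' P' (aut1 η) := isIso_aut1 F hP'S hηA
  have hρ : IsIso F P P' (aut1 η ∘ f₀) := hf₀.trans hηiso
  have hρg : ∀ x ∈ P, (aut1 η ∘ f₀) (aut1 γ x) = s * (aut1 η ∘ f₀) x * s⁻¹ := by
    intro x hx
    have h1 := hsv (η (hf₀.toMulEquiv ⟨x, hx⟩))
    have h2 : (η * MulAut.congr hf₀.toMulEquiv γ * η⁻¹) (η (hf₀.toMulEquiv ⟨x, hx⟩)) =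
        η (hf₀.toMulEquiv (γ ⟨x, hx⟩)) := by
      simp [MulAut.mul_apply, MulAut.congr]
    rw [h2] at h1
    show aut1 η (f₀ (aut1 γ x)) = s * aut1 η (f₀ x) * s⁻¹
    rw [aut1_apply_mem γ hx, ← he (γ ⟨x, hx⟩), aut1_apply, h1, ← he ⟨x, hx⟩, aut1_apply]
  obtain ⟨-, a, a', ρ₀, P₀, ha, h₀, hv⟩ := fiso_allC hS hF E h hinv hess P P' _ hρ
  obtain ⟨haP₀, ha'P'⟩ := factor_images hρ ha h₀ hv
  have hP₀S : P₀ ≤ S := h₀.1.le_right
  have hs' : a' s ∈ S := ha.2.1.map_mem hsS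
  obtain ⟨k₀, hk₀, hk1, hk2⟩ := h₀.1.symm
  -- `ρ₀ ∘ g = c_{a' s} ∘ ρ₀` on `P`
  have hkey : ∀ x ∈ P, ρ₀ (aut1 γ x) = a' s * ρ₀ x * (a' s)⁻¹ := by
    intro x hx
    have hgx : aut1 γ x ∈ P := hg.map_mem hx
    have e1 : ρ₀ (aut1 γ x) = a' ((aut1 η ∘ f₀) (aut1 γ x)) := by
      rw [hv _ hgx, ha.2.2.1 _ (hP₀S (h₀.1.map_mem hgx))]
    have e2 : ρ₀ x = a' ((aut1 η ∘ f₀) x) := by
      rw [hv x hx, ha.2.2.1 _ (hP₀S (h₀.1.map_mem hx))]
    have hρxS : (aut1 η ∘ f₀) x ∈ S := hP'S (hρ.map_mem hx)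
    rw [e1, e2, hρg x hx, ha.2.1.map_mul (S.mul_mem hsS hρxS) (S.inv_mem hsS),
      ha.2.1.map_mul hsS hρxS, ha.2.1.map_inv hsS]
  obtain ⟨Q, hQ⟩ := iso₀_conj F E hP₀S hs'
  have hcP₀ : IsIso F P₀ P₀ (fun y => a' s * y * (a' s)⁻¹) := by
    refine ((hk₀.trans hg).trans h₀.1).congr (fun y hy => ?_)
    show ρ₀ (aut1 γ (k₀ y)) = a' s * y * (a' s)⁻¹
    rw [hkey _ (hk₀.map_mem hy), hk2 y hy]
  have hQe : Q = P₀ := IsIso.target_eq hQ.1 hcP₀ (fun _ _ => rfl)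
  rw [hQe] at hQ
  have hk₀' : Iso₀ F E P₀ P k₀ := h₀.symm hk₀ hk1
  refine ((h₀.trans hQ).trans hk₀').congr (fun x hx => ?_)
  show k₀ (a' s * ρ₀ x * (a' s)⁻¹) = aut1 γ x
  rw [← hkey x hx, hk1 _ (hg.map_mem hx)]

/-- The restricted hypothesis implies the hypothesis for all centric subgroups. -/
theorem pPHyp_of_pPHypC [Finite S] {p : ℕ} [hp : Fact p.Prime] (hS : IsPGroup p S)
    {F : FusionSystem S} (hF : F.IsSaturated p) (E : FusionSystem S) {ℋ : Subgroup Ω → Prop}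
    (h : PPHypC F p ℋ E) (hinv : ClassInv F ℋ) (hess : ∀ P, F.IsEssential p P → ℋ P) :
    ∀ P : Subgroup Ω, P ≤ S →
      (Subgroup.closure {α : ↥(F.autGroup P) | ∃ k : ℕ, orderOf α = p ^ k}).map
        (F.autGroup P).subtype ≤ E.autGroup P := by
  intro P hP
  rw [Subgroup.map_le_iff_le_comap, Subgroup.closure_le]
  rintro γ ⟨k, hk⟩
  have hk' : orderOf (γ : MulAut P) = p ^ k := by rw [Subgroup.orderOf_coe]; exact hk
  show (γ : MulAut P) ∈ E.autGroup P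
  exact mem_autGroup_of_isIso_aut1' (iso₀_of_pPower_all hS hF E h hinv hess hP γ.2 hk').toE

end Cfsg.Agent.Lib.H25.FrG
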