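/-
Subsystems of index prime to `p` of a saturated fusion system `F` over `S` (AKO Theorem I.7.7):
the system `E₀` generated by the automorphisms of `p`-power order of the `F`-centric subgroups, and
for a family `H` of automorphisms of `S` containing `Aut⁰_F(S)` the system `E_H` of the maps
`β ∘ φ₀` with `β ∈ H` and `φ₀ ∈ E₀`.
-/
import Mathlib
import Cfsg.Prelude.Def_FusionSystem
import Cfsg.Agent.S5114
set_option autoImplicit false

namespace Cfsg.Agent.Lib.H25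

open Cfsg Cfsg.FusionSystem Cfsg.Agent.S5114

variable {Ω : Type*} [Group Ω] {S : Subgroup Ω}

/-- `Aut_D(P)` contains the automorphisms of `p`-power order of `Aut_F(P)` for all `F`-centric
`P`. -/
def PPHyp (F : FusionSystem S) (p : ℕ) (D : FusionSystem S) : Prop :=
  ∀ P : Subgroup Ω, F.IsCentric P →
    (Subgroup.closure {α : ↥(F.autGroup P) | ∃ k : ℕ, orderOf α = p ^ k}).map
      (F.autGroup P).subtype ≤ D.autGroup P

/-- The isomorphisms of `F` all of whose `Aut_F(S)`-conjugates lie in every fusion system over `S`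
containing the automorphisms of `p`-power order of the `F`-centric subgroups. -/
def JIso (F : FusionSystem S) (p : ℕ) (P Q : Subgroup Ω) (f : Ω → Ω) : Prop :=
  ∀ D : FusionSystem S, PPHyp F p D → Iso₀ F D P Q f

theorem pPHyp_self (F : FusionSystem S) (p : ℕ) : PPHyp F p F := by
  intro P _
  rintro _ ⟨α, -, rfl⟩
  exact α.2

namespace JIso

variable {F : FusionSystem S} {p : ℕ} {P Q R : Subgroup Ω} {f g : Ω → Ω}

theorem toF (h : JIso F p P Q f) : IsIso F P Q f := (h F (pPHyp_self F p)).1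

theorem congr (h : JIso F p P Q f) (hfg : ∀ x ∈ P, f x = g x) : JIso F p P Q g :=
  fun D hD => (h D hD).congr hfg

theorem trans (h1 : JIso F p P Q f) (h2 : JIso F p Q R g) : JIso F p P R (g ∘ f) :=
  fun D hD => (h1 D hD).trans (h2 D hD)

theorem symm (h : JIso F p P Q f) (hg : IsIso F Q P g) (hgf : ∀ x ∈ P, g (f x) = x) :
    JIso F p Q P g :=
  fun D hD => (h D hD).symm hg hgf

theorem restrict (h : JIso F p P Q f) {P₁ Q₁ : Subgroup Ω} (hP₁ : P₁ ≤ P)
    (h₁ : IsIso F P₁ Q₁ f) : JIso F p P₁ Q₁ f :=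
  fun D hD => (h D hD).restrict hP₁ h₁

theorem conj (h : JIso F p P Q f) {a a' : Ω → Ω} (ha : AutS F a a') {P₁ Q₁ : Subgroup Ω}
    (hP₁ : IsIso F P P₁ a) (hQ₁ : IsIso F Q Q₁ a) : JIso F p P₁ Q₁ (a ∘ f ∘ a') :=
  fun D hD => (h D hD).conj ha hP₁ hQ₁

theorem refl (hP : P ≤ S) : JIso F p P P id := fun D _ => iso₀_refl F D hP

end JIso

theorem isoPred_jIso (F : FusionSystem S) (p : ℕ) : IsoPred F (JIso F p) where
  sub := fun h => h.toF
  congr := fun h hfg => h.congr hfg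
  conj := by
    intro P hP s hs
    refine ⟨P.map (MulAut.conj s).toMonoidHom, fun D hD => ?_⟩
    obtain ⟨Q, hQ⟩ := iso₀_conj F D hP hs
    have e : Q = P.map (MulAut.conj s).toMonoidHom :=
      IsIso.target_eq hQ.1 (IsIso.conj (F := F) hP hs) (fun _ _ => rfl)
    rwa [e] at hQ
  restrict := fun h hP' hf' => h.restrict hP' hf'
  trans := fun h1 h2 => h1.trans h2
  symm := fun h hg hgf => h.symm hg hgf

/-- The fusion system over `S` generated by the automorphisms of `p`-power order of the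
`F`-centric subgroups. -/
def E0 (F : FusionSystem S) (p : ℕ) : FusionSystem S := sysOfPred (isoPred_jIso F p)

theorem isIso_E0_iff {F : FusionSystem S} {p : ℕ} {P Q : Subgroup Ω} {f : Ω → Ω} :
    IsIso (E0 F p) P Q f ↔ JIso F p P Q f := isIso_sysOfPred_iff _

theorem mem_autGroup_of_isIso_aut1 {E : FusionSystem S} {P : Subgroup Ω} {γ : MulAut P}
    (h : IsIso E P P (aut1 γ)) : γ ∈ E.autGroup P := by
  obtain ⟨β, hβ, hβv⟩ := exists_mem_autGroup_of_isIso E h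
  have : β = γ := by
    ext x
    rw [hβv, aut1_apply]
  rw [← this]
  exact hβ

theorem pPHyp_E0 (F : FusionSystem S) (p : ℕ) : PPHyp F p (E0 F p) := by
  intro P hP
  rw [Subgroup.map_le_iff_le_comap, Subgroup.closure_le]
  rintro γ ⟨k, hk⟩
  have hk' : orderOf (γ : MulAut P) = p ^ k := by rw [Subgroup.orderOf_coe]; exact hk
  show (γ : MulAut P) ∈ (E0 F p).autGroup P
  apply mem_autGroup_of_isIso_aut1
  rw [isIso_E0_iff]
  intro D hD
  exact iso₀_of_pPower hD hP γ.2 hk'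

theorem JIso.of_iso₀ {F : FusionSystem S} {p : ℕ} {P Q : Subgroup Ω} {f : Ω → Ω}
    (h : Iso₀ F (E0 F p) P Q f) : JIso F p P Q f := isIso_E0_iff.1 h.toE

theorem JIso.isIso_of_pPHyp {F : FusionSystem S} {p : ℕ} {P Q : Subgroup Ω} {f : Ω → Ω}
    (h : JIso F p P Q f) {D : FusionSystem S} (hD : PPHyp F p D) : IsIso D P Q f :=
  (h D hD).toE

/-- A family of automorphisms of `S` in `F` (given as pairs of mutually inverse functions), closed
under composition and inverses and containing every automorphism whose restriction to some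
`F`-centric subgroup lies in `E₀`. -/
structure AutFam (F : FusionSystem S) (p : ℕ) (H : (Ω → Ω) → (Ω → Ω) → Prop) : Prop where
  autS : ∀ {b b' : Ω → Ω}, H b b' → AutS F b b'
  congr : ∀ {b b' c c' : Ω → Ω}, H b b' → (∀ x ∈ S, b x = c x) → (∀ x ∈ S, b' x = c' x) → H c c'
  symm : ∀ {b b' : Ω → Ω}, H b b' → H b' b
  trans : ∀ {a a' b b' : Ω → Ω}, H a a' → H b b' → H (a ∘ b) (b' ∘ a')
  gen : ∀ {b b' : Ω → Ω} {P P' : Subgroup Ω}, AutS F b b' → F.IsCentric P → JIso F p P P' b →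
    H b b'

/-- The isomorphisms `β ∘ φ₀` with `β ∈ H` and `φ₀ ∈ E₀`. -/
def HIso (F : FusionSystem S) (p : ℕ) (H : (Ω → Ω) → (Ω → Ω) → Prop) (P Q : Subgroup Ω)
    (f : Ω → Ω) : Prop :=
  IsIso F P Q f ∧ ∃ (a a' f₀ : Ω → Ω) (P₀ : Subgroup Ω), H a a' ∧ JIso F p P P₀ f₀ ∧
    ∀ x ∈ P, f x = a (f₀ x)

theorem isCentric_top [Finite S] (F : FusionSystem S) : F.IsCentric S := by
  refine ⟨le_rfl, fun Q hQ => ?_⟩
  obtain ⟨f, hf⟩ := (isConj_iff F).1 hQ
  have h1 := hf.card_eq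
  have : Q = S := Subgroup.eq_of_le_of_card_ge hf.le_right (le_of_eq h1)
  rw [this]
  exact inf_le_left

theorem AutFam.refl [Finite S] {F : FusionSystem S} {p : ℕ} {H : (Ω → Ω) → (Ω → Ω) → Prop}
    (hH : AutFam F p H) : H id id :=
  hH.gen (AutS.refl F) (isCentric_top F) (JIso.refl le_rfl)

theorem hIso_of_jIso [Finite S] {F : FusionSystem S} {p : ℕ} {H : (Ω → Ω) → (Ω → Ω) → Prop}
    (hH : AutFam F p H) {P Q : Subgroup Ω} {f : Ω → Ω} (h : JIso F p P Q f) : HIso F p H P Q f :=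
  ⟨h.toF, id, id, f, Q, hH.refl, h, fun _ _ => rfl⟩

theorem hIso_of_mem [Finite S] {F : FusionSystem S} {p : ℕ} {H : (Ω → Ω) → (Ω → Ω) → Prop}
    (hH : AutFam F p H) {a a' : Ω → Ω} (h : H a a') : HIso F p H S S a :=
  ⟨(hH.autS h).1, a, a', id, S, h, JIso.refl le_rfl, fun _ _ => rfl⟩

theorem isoPred_hIso [Finite S] (F : FusionSystem S) (p : ℕ) {H : (Ω → Ω) → (Ω → Ω) → Prop}
    (hH : AutFam F p H) : IsoPred F (HIso F p H) where
  sub := fun h => h.1
  congr := by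
    rintro P Q f g ⟨hf, a, a', f₀, P₀, ha, h₀, hv⟩ hfg
    exact ⟨hf.congr hfg, a, a', f₀, P₀, ha, h₀, fun x hx => by rw [← hfg x hx, hv x hx]⟩
  conj := by
    intro P hP s hs
    obtain ⟨Q, hQ⟩ := (isoPred_jIso F p).conj hP hs
    exact ⟨Q, hIso_of_jIso hH hQ⟩
  restrict := by
    rintro P Q P' Q' f ⟨hf, a, a', f₀, P₀, ha, h₀, hv⟩ hP' hf'
    obtain ⟨P₀', -, hP₀', -⟩ := h₀.toF.restrict hP'
    exact ⟨hf', a, a', f₀, P₀', ha, h₀.restrict hP' hP₀', fun x hx => hv x (hP' hx)⟩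
  trans := by
    rintro P Q R f g ⟨hf, a, a', f₀, P₀, ha, h₀, hv⟩ ⟨hg, b, b', g₀, Q₀, hb, k₀, hw⟩
    have haS := hH.autS ha
    have hPS := hf.le_left
    have hQS := hf.le_right
    have hP₀S := h₀.toF.le_right
    have hQ₀S := k₀.toF.le_right
    have haP₀ : IsIso F P₀ Q a := by
      refine haS.1.restrict' hP₀S (fun y hy => ?_) (fun z hz => ?_)
      · obtain ⟨x, hx, rfl⟩ := h₀.toF.surjOn hy
        rw [← hv x hx]
        exact hf.map_mem hx
      · obtain ⟨x, hx, rfl⟩ := hf.surjOn hz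
        exact ⟨f₀ x, h₀.toF.map_mem hx, (hv x hx).symm⟩
    have ha'Q : IsIso F Q P₀ a' := by
      refine haS.2.1.restrict' hQS (fun y hy => ?_) (fun z hz => ?_)
      · obtain ⟨x, hx, rfl⟩ := haP₀.surjOn hy
        rw [haS.2.2.1 x (hP₀S hx)]
        exact hx
      · exact ⟨a z, haP₀.map_mem hz, haS.2.2.1 z (hP₀S hz)⟩
    obtain ⟨Q₀', hQ₀'⟩ := haS.symm.exists_image hQ₀S
    have hconj : JIso F p P₀ Q₀' (a' ∘ g₀ ∘ a) := k₀.conj haS.symm ha'Q hQ₀'
    have htr : JIso F p P Q₀' ((a' ∘ g₀ ∘ a) ∘ f₀) := h₀.trans hconj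
    refine ⟨hf.trans hg, b ∘ a, a' ∘ b', (a' ∘ g₀ ∘ a) ∘ f₀, Q₀', hH.trans hb ha, htr,
      fun x hx => ?_⟩
    show g (f x) = b (a (a' (g₀ (a (f₀ x)))))
    rw [← hv x hx, haS.2.2.2 _ (hQ₀S (k₀.toF.map_mem (hf.map_mem hx))), hw _ (hf.map_mem hx)]
  symm := by
    rintro P Q f g ⟨hf, a, a', f₀, P₀, ha, h₀, hv⟩ hg hgf
    have haS := hH.autS ha
    have hPS := hf.le_left
    have hQS := hf.le_right
    have hP₀S := h₀.toF.le_right
    have haP₀ : IsIso F P₀ Q a := by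
      refine haS.1.restrict' hP₀S (fun y hy => ?_) (fun z hz => ?_)
      · obtain ⟨x, hx, rfl⟩ := h₀.toF.surjOn hy
        rw [← hv x hx]
        exact hf.map_mem hx
      · obtain ⟨x, hx, rfl⟩ := hf.surjOn hz
        exact ⟨f₀ x, h₀.toF.map_mem hx, (hv x hx).symm⟩
    obtain ⟨k₀, hk₀, hk1, hk2⟩ := h₀.toF.symm
    have hk₀' : JIso F p P₀ P k₀ := h₀.symm hk₀ hk1
    obtain ⟨P₁, hP₁⟩ := haS.exists_image hPS
    have hconj : JIso F p Q P₁ (a ∘ k₀ ∘ a') := hk₀'.conj haS haP₀ hP₁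
    refine ⟨hg, a', a, a ∘ k₀ ∘ a', P₁, hH.symm ha, hconj, fun y hy => ?_⟩
    obtain ⟨x, hx, rfl⟩ := hf.surjOn hy
    show g (f x) = a' (a (k₀ (a' (f x))))
    rw [hgf x hx, hv x hx, haS.2.2.1 _ (hP₀S (h₀.toF.map_mem hx)), hk1 x hx,
      haS.2.2.1 x (hPS hx)]

/-- The fusion system `E_H`. -/
def EH [Finite S] (F : FusionSystem S) (p : ℕ) {H : (Ω → Ω) → (Ω → Ω) → Prop}
    (hH : AutFam F p H) : FusionSystem S := sysOfPred (isoPred_hIso F p hH)

theorem isIso_EH_iff [Finite S] {F : FusionSystem S} {p : ℕ} {H : (Ω → Ω) → (Ω → Ω) → Prop}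
    (hH : AutFam F p H) {P Q : Subgroup Ω} {f : Ω → Ω} :
    IsIso (EH F p hH) P Q f ↔ HIso F p H P Q f := isIso_sysOfPred_iff _

theorem EH_le [Finite S] {F : FusionSystem S} {p : ℕ} {H : (Ω → Ω) → (Ω → Ω) → Prop}
    (hH : AutFam F p H) : (EH F p hH).IsSubsystemOf F := sysOfPred_le _

theorem pPHyp_EH [Finite S] {F : FusionSystem S} {p : ℕ} {H : (Ω → Ω) → (Ω → Ω) → Prop}
    (hH : AutFam F p H) : PPHyp F p (EH F p hH) := by
  intro P hP
  refine (pPHyp_E0 F p P hP).trans ?_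
  apply autGroup_le_of_isIso hP.1
  intro f hf
  rw [isIso_EH_iff]
  exact hIso_of_jIso hH (isIso_E0_iff.1 hf)

end Cfsg.Agent.Lib.H25
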