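/-
Fusion systems generated by the maps with source in a family of subgroups: every isomorphism is a
composite of restrictions of isomorphisms with source in the family and conjugations by `S`
(first step in the proof of AKO Theorem I.3.10).
-/
import Mathlib
import Cfsg.Prelude.Def_FusionSystem
import Cfsg.Agent.Lib.H25.Fusion
import Cfsg.Agent.Lib.H25.Saturation
import Cfsg.Agent.Lib.H25.Alperin
import Cfsg.Agent.Lib.H25.Hyperfocal
import Cfsg.Agent.Lib.H25.SysOfPred
set_option autoImplicit false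

namespace Cfsg.Agent.Lib.H25

open Cfsg Cfsg.FusionSystem

variable {Ω : Type*} [Group Ω] {S : Subgroup Ω}

/-- Isomorphisms of `F` that are composites of restrictions of isomorphisms with source in `ℋ`
and of conjugations by elements of `S`. -/
inductive GenChain (F : FusionSystem S) (ℋ : Set (Subgroup Ω)) :
    Subgroup Ω → Subgroup Ω → (Ω → Ω) → Prop
  | base {P Q U U' : Subgroup Ω} {f g : Ω → Ω} (hU : U ∈ ℋ) (hg : IsIso F U U' g) (hPU : P ≤ U)
      (hf : IsIso F P Q f) (hfg : ∀ x ∈ P, f x = g x) : GenChain F ℋ P Q f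
  | conj {P Q : Subgroup Ω} {f : Ω → Ω} {s : Ω} (hs : s ∈ S) (hf : IsIso F P Q f)
      (hfs : ∀ x ∈ P, f x = s * x * s⁻¹) : GenChain F ℋ P Q f
  | trans {P Q R : Subgroup Ω} {f g h : Ω → Ω} (h1 : GenChain F ℋ P Q f)
      (h2 : GenChain F ℋ Q R g) (hh : ∀ x ∈ P, h x = g (f x)) : GenChain F ℋ P R h

namespace GenChain

variable {F : FusionSystem S} {ℋ : Set (Subgroup Ω)}

theorem isIso {P Q : Subgroup Ω} {f : Ω → Ω} (h : GenChain F ℋ P Q f) : IsIso F P Q f := by
  induction h with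
  | base _ _ _ hf _ => exact hf
  | conj _ hf _ => exact hf
  | trans _ _ hh ih1 ih2 => exact (ih1.trans ih2).congr (fun x hx => (hh x hx).symm)

theorem congr {P Q : Subgroup Ω} {f f' : Ω → Ω} (h : GenChain F ℋ P Q f)
    (hff' : ∀ x ∈ P, f x = f' x) : GenChain F ℋ P Q f' := by
  cases h with
  | base hU hg hPU hf hfg =>
    exact base hU hg hPU (hf.congr hff') (fun x hx => (hff' x hx).symm.trans (hfg x hx))
  | conj hs hf hfs =>
    exact conj hs (hf.congr hff') (fun x hx => (hff' x hx).symm.trans (hfs x hx))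
  | trans h1 h2 hh =>
    exact trans h1 h2 (fun x hx => (hff' x hx).symm.trans (hh x hx))

theorem restrict {P Q : Subgroup Ω} {f : Ω → Ω} (h : GenChain F ℋ P Q f) :
    ∀ {P' Q' : Subgroup Ω}, P' ≤ P → IsIso F P' Q' f → GenChain F ℋ P' Q' f := by
  induction h with
  | base hU hg hPU hf hfg =>
    intro P' Q' hP' hf'
    exact base hU hg (hP'.trans hPU) hf' (fun x hx => hfg x (hP' hx))
  | conj hs hf hfs =>
    intro P' Q' hP' hf'
    exact conj hs hf' (fun x hx => hfs x (hP' hx))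
  | @trans P Q R f g h h1 h2 hh ih1 ih2 =>
    intro P' Q' hP' hf'
    obtain ⟨Q'', hQ''Q, hf'', -⟩ := h1.isIso.restrict hP'
    obtain ⟨R'', -, hg'', -⟩ := h2.isIso.restrict hQ''Q
    have h3 := (ih1 hP' hf'').trans (ih2 hQ''Q hg'') (h := h) (fun x hx => hh x (hP' hx))
    have e : R'' = Q' := IsIso.target_eq h3.isIso hf' (fun _ _ => rfl)
    rwa [e] at h3

theorem symm (hℋ : ∀ P ∈ ℋ, ∀ Q, F.IsConj P Q → Q ∈ ℋ) {P Q : Subgroup Ω} {f : Ω → Ω}
    (h : GenChain F ℋ P Q f) :
    ∀ g : Ω → Ω, IsIso F Q P g → (∀ x ∈ P, g (f x) = x) → GenChain F ℋ Q P g := by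
  induction h with
  | @base P Q U U' f g₀ hU hg hPU hf hfg =>
    intro g hgiso hgf
    obtain ⟨g', hg', hg'g, hgg'⟩ := hg.symm
    have hU' : U' ∈ ℋ := hℋ U hU U' hg.isConj
    have hQU' : Q ≤ U' := by
      intro y hy
      obtain ⟨x, hx, rfl⟩ := hf.surjOn hy
      rw [hfg x hx]
      exact hg.map_mem (hPU hx)
    refine base hU' hg' hQU' hgiso (fun y hy => ?_)
    obtain ⟨x, hx, rfl⟩ := hf.surjOn hy
    rw [hgf x hx, hfg x hx, hg'g x (hPU hx)]
  | @conj P Q f s hs hf hfs =>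
    intro g hgiso hgf
    refine conj (S.inv_mem hs) hgiso (fun y hy => ?_)
    obtain ⟨x, hx, rfl⟩ := hf.surjOn hy
    rw [hgf x hx, hfs x hx]
    group
  | @trans P Q R f g h h1 h2 hh ih1 ih2 =>
    intro k hkiso hkh
    obtain ⟨f', hf', hf'f, hff'⟩ := h1.isIso.symm
    obtain ⟨g', hg', hg'g, hgg'⟩ := h2.isIso.symm
    refine trans (ih2 g' hg' hg'g) (ih1 f' hf' hf'f) (fun z hz => ?_)
    obtain ⟨y, hy, rfl⟩ := h2.isIso.surjOn hz
    obtain ⟨x, hx, rfl⟩ := h1.isIso.surjOn hy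
    rw [hg'g _ (h1.isIso.map_mem hx), hf'f x hx, ← hh x hx, hkh x hx]

end GenChain

/-- If `F` is generated by its maps with source in the conjugation-closed family `ℋ`, then every
isomorphism of `F` is a `GenChain`. -/
theorem genChain_of_generated (F : FusionSystem S) (ℋ : Set (Subgroup Ω))
    (hℋconj : ∀ P ∈ ℋ, ∀ Q, F.IsConj P Q → Q ∈ ℋ)
    (hgen : ∀ E : FusionSystem S, (∀ P ∈ ℋ, F.Hom P ⊆ E.Hom P) → F ≤ E)
    {P Q : Subgroup Ω} {f : Ω → Ω} (hf : IsIso F P Q f) : GenChain F ℋ P Q f := by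
  set E : FusionSystem S := subSys F (fun P φ => GenChain F ℋ P φ.range (ext1 φ))
    (by
      intro P g hP hg
      refine GenChain.conj hg (isIso_of_mem F (F.conj_mem hP hg)) (fun x hx => ?_)
      rw [ext1_apply_mem _ hx]
      rfl)
    (by
      intro P Q φ ψ h hφ hψ h1 h2
      have hle : φ.range ≤ Q := by
        rintro _ ⟨x, rfl⟩
        exact h x
      obtain ⟨R', -, hR', -⟩ := (isIso_of_mem F hψ).restrict hle
      have h3 := h2.restrict hle hR'
      have h4 := h1.trans h3 (h := ext1 (ψ.comp (φ.codRestrict Q h))) (fun x hx => by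
        rw [ext1_apply_mem _ hx, ext1_apply_mem φ hx, ext1_apply_mem ψ (h ⟨x, hx⟩)]
        rfl)
      have e : R' = (ψ.comp (φ.codRestrict Q h)).range :=
        IsIso.target_eq h4.isIso (isIso_of_mem F (F.comp_mem hφ hψ h)) (fun _ _ => rfl)
      rwa [e] at h4)
    (by
      intro P φ ψ hφ hψ hψφ h1
      have hr : ψ.range = P := by
        ext y
        constructor
        · rintro ⟨⟨_, x, rfl⟩, rfl⟩
          rw [hψφ]
          exact x.2
        · intro hy
          exact ⟨⟨φ ⟨y, hy⟩, ⟨y, hy⟩, rfl⟩, hψφ ⟨y, hy⟩⟩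
      have hi : IsIso F φ.range P (ext1 ψ) := by
        have := isIso_of_mem F hψ
        rwa [hr] at this
      rw [hr]
      refine h1.symm hℋconj (ext1 ψ) hi (fun x hx => ?_)
      rw [ext1_apply_mem φ hx, ext1_apply_mem ψ ⟨⟨x, hx⟩, rfl⟩]
      exact hψφ ⟨x, hx⟩) with hE
  have hle : F ≤ E := by
    apply hgen
    intro P hP φ hφ
    refine ⟨hφ, ?_⟩
    exact GenChain.base hP (isIso_of_mem F hφ) le_rfl (isIso_of_mem F hφ) (fun _ _ => rfl)
  obtain ⟨φ, hφ, hφf, hr⟩ := hf
  have h1 : GenChain F ℋ P φ.range (ext1 φ) := (hle P hφ).2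
  rw [hr] at h1
  exact h1.congr (fun x hx => by rw [ext1_apply_mem φ hx, hφf])

/-- Chains of isomorphisms each of which extends to an isomorphism defined on a strictly larger
subgroup of the normalizer of its source. -/
inductive BigChain (F : FusionSystem S) : Subgroup Ω → Subgroup Ω → (Ω → Ω) → Prop
  | step {P Q U U' : Subgroup Ω} {f g : Ω → Ω} (hg : IsIso F U U' g) (hPU : P ≤ U) (hne : P ≠ U)
      (hUN : U ≤ normalizerIn S P) (hf : IsIso F P Q f) (hfg : ∀ x ∈ P, f x = g x) :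
      BigChain F P Q f
  | trans {P Q R : Subgroup Ω} {f g h : Ω → Ω} (h1 : BigChain F P Q f) (h2 : BigChain F Q R g)
      (hh : ∀ x ∈ P, h x = g (f x)) : BigChain F P R h

theorem BigChain.isIso {F : FusionSystem S} {P Q : Subgroup Ω} {f : Ω → Ω}
    (h : BigChain F P Q f) : IsIso F P Q f := by
  induction h with
  | step _ _ _ _ hf _ => exact hf
  | trans _ _ hh ih1 ih2 => exact (ih1.trans ih2).congr (fun x hx => (hh x hx).symm)

/-- A `GenChain` starting at a proper subgroup of `S` outside `ℋ` is a `BigChain`. -/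
theorem GenChain.bigChain [Finite S] {p : ℕ} [Fact p.Prime] (hS : IsPGroup p S)
    {F : FusionSystem S} {ℋ : Set (Subgroup Ω)}
    (hℋconj : ∀ P ∈ ℋ, ∀ Q, F.IsConj P Q → Q ∈ ℋ) {P Q : Subgroup Ω} {f : Ω → Ω}
    (h : GenChain F ℋ P Q f) : P ∉ ℋ → P ≠ S → BigChain F P Q f := by
  induction h with
  | @base P Q U U' f g hU hg hPU hf hfg =>
    intro hP _
    have hUS : U ≤ S := hg.le_left
    have hne : P ≠ U := fun h => hP (h ▸ hU)
    have : Finite U := finite_of_le S hUS
    obtain ⟨y, hy, hyP⟩ := exists_mem_normalizerIn_not_mem (S := U) (hS.to_le hUS) hPU hne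
    set V : Subgroup Ω := U ⊓ normalizerIn S P with hV
    have hPV : P ≤ V := fun x hx => ⟨hPU hx, (hPU.trans hUS) hx, Subgroup.le_normalizer hx⟩
    have hyV : y ∈ V := ⟨hy.1, hUS hy.1, hy.2⟩
    obtain ⟨V', -, hgV, -⟩ := hg.restrict (inf_le_left : V ≤ U)
    exact BigChain.step hgV hPV (fun h => hyP (h ▸ hyV)) inf_le_right hf hfg
  | @conj P Q f s hs hf hfs =>
    intro _ hPS
    have hPleS : P ≤ S := hf.le_left
    obtain ⟨y, hy, hyP⟩ := exists_mem_normalizerIn_not_mem hS hPleS hPS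
    have hN : normalizerIn S P ≤ S := inf_le_left
    have hPN : P ≤ normalizerIn S P := fun x hx => ⟨hPleS hx, Subgroup.le_normalizer hx⟩
    have hc := IsIso.conj (F := F) hN hs
    exact BigChain.step hc hPN (fun h => hyP (h ▸ hy)) le_rfl hf hfs
  | @trans P Q R f g h h1 h2 hh ih1 ih2 =>
    intro hP hPS
    have hPQ : F.IsConj P Q := h1.isIso.isConj
    have hQ : Q ∉ ℋ := fun hQ => hP (hℋconj Q hQ P (isConj_symm F hPQ))
    have hQS : Q ≠ S := by
      intro hQS
      apply hPS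
      have hcard := IsIso.card_eq h1.isIso
      have hPleS : P ≤ S := h1.isIso.le_left
      rw [hQS] at hcard
      exact Subgroup.eq_of_le_of_card_ge hPleS (le_of_eq hcard.symm)
    exact BigChain.trans (ih1 hP hPS) (ih2 hQ hQS) hh

end Cfsg.Agent.Lib.H25
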