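/-
Tools for the saturation criterion AKO Theorem I.3.10: class-level versions of the `K`-normalizer
lemmas, automorphisms of a subgroup `U` stabilizing a subgroup `Q ≤ U` and restricting to an element
of a given group of automorphisms of `Q`.
-/
import Mathlib
import Cfsg.Prelude.Def_FusionSystem
import Cfsg.Agent.Lib.H25.KNorm
import Cfsg.Agent.Lib.H25.GenChain
set_option autoImplicit false

namespace Cfsg.Agent.Lib.H25

open Cfsg Cfsg.FusionSystem

variable {Ω : Type*} [Group Ω] {S : Subgroup Ω}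

/-- AKO I.5.2, existence part, for a single subgroup `X` having a fully automized receptive
conjugate. -/
theorem exists_good' [Finite S] {p : ℕ} [Fact p.Prime] (hS : IsPGroup p S) {F : FusionSystem S}
    {X : Subgroup Ω} (hX : X ≤ S)
    (hsat : ∃ W, F.IsConj X W ∧ F.IsFullyAutomized p W ∧ F.IsReceptive W)
    (K : Subgroup (MulAut X)) :
    ∃ (W : Subgroup Ω) (h : Ω → Ω), IsIso F X W h ∧ F.IsReceptive W ∧ F.IsFullyAutomized p W ∧
      Nat.card (AS S K h) = p ^ (Nat.card ↥(K ⊓ F.autGroup X)).factorization p := by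
  have hfinX : Finite X := finite_of_le S hX
  obtain ⟨W, hXW, hWfa, hWrec⟩ := hsat
  obtain ⟨h₀, hh₀⟩ := (isConj_iff F).1 hXW
  obtain ⟨D⟩ : Nonempty (Sylow p ↥(K ⊓ F.autGroup X)) := inferInstance
  obtain ⟨D', hD'def⟩ : ∃ D' : Subgroup (MulAut X),
      D' = (D : Subgroup ↥(K ⊓ F.autGroup X)).map (K ⊓ F.autGroup X).subtype := ⟨_, rfl⟩
  have hD'A : D' ≤ K ⊓ F.autGroup X := by
    rw [hD'def]
    rintro _ ⟨d, -, rfl⟩
    exact d.2
  have hD'p : IsPGroup p D' := by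
    rw [hD'def]
    exact D.2.map _
  have hD'card : Nat.card D' = p ^ (Nat.card ↥(K ⊓ F.autGroup X)).factorization p := by
    rw [hD'def, Subgroup.card_map_of_injective (Subgroup.subtype_injective _)]
    exact D.card_eq_multiplicity
  obtain ⟨e₀, he₀⟩ : ∃ e₀ : X ≃* W, ∀ x : X, ((e₀ x : W) : Ω) = h₀ x :=
    ⟨hh₀.toMulEquiv, fun x => hh₀.toMulEquiv_apply x⟩
  have hD''p : IsPGroup p (D'.map (MulAut.congr e₀).toMonoidHom) := hD'p.map _
  have hD''le : D'.map (MulAut.congr e₀).toMonoidHom ≤ F.autGroup W := by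
    rintro _ ⟨d, hd, rfl⟩
    exact congr_mem_autGroup hh₀ e₀ he₀ (hD'A hd).2
  obtain ⟨a, ha, hconj⟩ := IsFullyAutomized_exists_conj hWfa _ hD''p hD''le
  have hiso : IsIso F X W (aut1 a ∘ h₀) := hh₀.trans (isIso_aut1 F hWrec.1 ha)
  refine ⟨W, aut1 a ∘ h₀, hiso, hWrec, hWfa, ?_⟩
  have hle : D' ≤ AS S K (aut1 a ∘ h₀) := by
    intro d hd
    refine ⟨(hD'A hd).1, ?_⟩
    have hmem := hconj _ ⟨d, hd, rfl⟩
    obtain ⟨w, hwS, hw⟩ := (mem_autInducedBy_iff S W _).1 hmem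
    refine ⟨w, hwS, fun x => ?_⟩
    have h1 := hw (a (e₀ x))
    have h2 : (a * (MulAut.congr e₀).toMonoidHom d * a⁻¹) (a (e₀ x)) = a (e₀ (d x)) := by
      show a ((MulAut.congr e₀ d) (a⁻¹ (a (e₀ x)))) = a (e₀ (d x))
      rw [show a⁻¹ (a (e₀ x)) = e₀ x by simp]
      show a (e₀ (d (e₀.symm (e₀ x)))) = a (e₀ (d x))
      simp
    rw [h2] at h1
    show aut1 a (h₀ ((d x : X) : Ω)) = w * aut1 a (h₀ x) * w⁻¹
    rw [← he₀, ← he₀, aut1_apply, aut1_apply]
    exact h1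
  have hASA : AS S K (aut1 a ∘ h₀) ≤ K ⊓ F.autGroup X :=
    le_inf (AS_le K _) (AS_le_autGroup hiso K)
  have hASp : IsPGroup p (AS S K (aut1 a ∘ h₀)) := AS_isPGroup hS hiso K
  have heq : (AS S K (aut1 a ∘ h₀)).subgroupOf (K ⊓ F.autGroup X) =
      (D : Subgroup ↥(K ⊓ F.autGroup X)) := by
    apply D.is_maximal' hASp.comap_subtype
    intro d hd
    show (d : MulAut X) ∈ AS S K (aut1 a ∘ h₀)
    apply hle
    rw [hD'def]
    exact ⟨d, hd, rfl⟩
  have hc1 : Nat.card ((AS S K (aut1 a ∘ h₀)).subgroupOf (K ⊓ F.autGroup X)) =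
      Nat.card (AS S K (aut1 a ∘ h₀)) :=
    Nat.card_congr (Subgroup.subgroupOfEquivOfLe hASA).toEquiv
  rw [← hc1, heq]
  exact D.card_eq_multiplicity

/-- If `Aut_S^{hK}(W)` has Sylow order for a receptive `W`, then so has `Aut_S^{fK}(Y)` for every
isomorphism `f : X → Y` with `|N_S^{hK}(W)| ≤ |N_S^{fK}(Y)|`. -/
theorem card_AS_of_card_NK_le [Finite S] {p : ℕ} [Fact p.Prime] (hS : IsPGroup p S)
    {F : FusionSystem S} {X W Y : Subgroup Ω} {h f : Ω → Ω} (K : Subgroup (MulAut X))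
    (hW : F.IsReceptive W) (hh : IsIso F X W h)
    (hcard : Nat.card (AS S K h) = p ^ (Nat.card ↥(K ⊓ F.autGroup X)).factorization p)
    (hf : IsIso F X Y f) (hle : Nat.card (NK S K h) ≤ Nat.card (NK S K f)) :
    Nat.card (AS S K f) = p ^ (Nat.card ↥(K ⊓ F.autGroup X)).factorization p := by
  have hX : X ≤ S := hf.le_left
  have hfinX : Finite X := finite_of_le S hX
  obtain ⟨χ, ψ, N, N', hχA, hψ, hNKle, hYN, hψf, hrel⟩ := K_extend hS K hW hh hcard hf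
  have hmem : ∀ z ∈ NK S K f, ψ z ∈ NK S K h := fun z hz =>
    K_extend_mem hχA.1 hψ hrel hNKle hz
  have hfinNKh : Finite (NK S K h) := finite_of_le S (NK_le K h)
  have hfinNKf : Finite (NK S K f) := finite_of_le S (NK_le K f)
  have hbij : Function.Bijective (fun z : NK S K f => (⟨ψ z, hmem z z.2⟩ : NK S K h)) := by
    apply Function.Injective.bijective_of_nat_card_le
    · intro a b hab
      exact Subtype.ext (hψ.injOn (hNKle a.2) (hNKle b.2) (congrArg Subtype.val hab))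
    · exact hle
  have hsurj : ∀ w ∈ NK S K h, ∃ z ∈ NK S K f, ψ z = w := by
    intro w hw
    obtain ⟨z, hz⟩ := hbij.2 ⟨w, hw⟩
    exact ⟨z, z.2, congrArg Subtype.val hz⟩
  rw [← hcard]
  have hfinASh : Finite (AS S K h) := inferInstance
  have hfinASf : Finite (AS S K f) := inferInstance
  apply le_antisymm
  · have hmap : ∀ k ∈ AS S K f, χ * k * χ⁻¹ ∈ AS S K h := by
      rintro k ⟨hkK, y, hyS, hy⟩
      refine ⟨K.mul_mem (K.mul_mem hχA.1 hkK) (K.inv_mem hχA.1), ψ y, ?_, ?_⟩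
      · exact NK_le K h (hmem y ⟨hyS, k, hkK, hy⟩)
      · exact hrel y ⟨hyS, k, hkK, hy⟩ k hkK hy
    apply Nat.card_le_card_of_injective
      (fun k : AS S K f => (⟨χ * k * χ⁻¹, hmap k k.2⟩ : AS S K h))
    intro a b hab
    have : χ * (a : MulAut X) * χ⁻¹ = χ * b * χ⁻¹ := congrArg Subtype.val hab
    exact Subtype.ext (mul_left_cancel (mul_right_cancel this))
  · have hmap : ∀ k' ∈ AS S K h, χ⁻¹ * k' * χ ∈ AS S K f := by
      rintro k' ⟨hk'K, w, hwS, hw⟩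
      obtain ⟨z, ⟨hzS, k, hkK, hk⟩, rfl⟩ := hsurj w ⟨hwS, k', hk'K, hw⟩
      have h3 := hrel z ⟨hzS, k, hkK, hk⟩ k hkK hk
      have : k' = χ * k * χ⁻¹ := by
        ext x
        apply hh.injOn (k' x).2 ((χ * k * χ⁻¹) x).2
        rw [hw, h3]
      rw [this]
      have : χ⁻¹ * (χ * k * χ⁻¹) * χ = k := by group
      rw [this]
      exact ⟨hkK, z, hzS, hk⟩
    apply Nat.card_le_card_of_injective
      (fun k : AS S K h => (⟨χ⁻¹ * k * χ, hmap k k.2⟩ : AS S K f))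
    intro a b hab
    have : χ⁻¹ * (a : MulAut X) * χ = χ⁻¹ * b * χ := congrArg Subtype.val hab
    exact Subtype.ext (mul_left_cancel (mul_right_cancel this))

/-- An isomorphism of the system maps elements normalizing `Q` to elements normalizing the image
of `Q`. -/
theorem IsIso.map_mem_normalizerIn {F : FusionSystem S} {N N' Q R : Subgroup Ω} {f : Ω → Ω}
    (hf : IsIso F N N' f) (hQN : Q ≤ N) (hfQ : IsIso F Q R f) {n : Ω} (hn : n ∈ N)
    (hnQ : n ∈ Subgroup.normalizer (Q : Set Ω)) : f n ∈ normalizerIn S R := by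
  refine ⟨hf.le_right (hf.map_mem hn), ?_⟩
  show f n ∈ Subgroup.normalizer (R : Set Ω)
  rw [Subgroup.mem_normalizer_iff]
  have hconj : ∀ m ∈ N, m ∈ Subgroup.normalizer (Q : Set Ω) → ∀ z ∈ R,
      f m * z * (f m)⁻¹ ∈ R := by
    intro m hm hmQ z hz
    obtain ⟨x, hx, rfl⟩ := hfQ.surjOn hz
    have hx' : m * x * m⁻¹ ∈ Q := (Subgroup.mem_normalizer_iff.1 hmQ x).1 hx
    have : f (m * x * m⁻¹) = f m * f x * (f m)⁻¹ := by
      rw [hf.map_mul (Subgroup.mul_mem _ hm (hQN hx)) (Subgroup.inv_mem _ hm),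
        hf.map_mul hm (hQN hx), hf.map_inv hm]
    rw [← this]
    exact hfQ.map_mem hx'
  intro z
  constructor
  · exact hconj n hn hnQ z
  · intro hz
    have h1 := hconj n⁻¹ (Subgroup.inv_mem _ hn) (Subgroup.inv_mem _ hnQ) _ hz
    rw [hf.map_inv hn] at h1
    have : (f n)⁻¹ * (f n * z * (f n)⁻¹) * (f n)⁻¹⁻¹ = z := by group
    rwa [this] at h1

/-- An element of `N_S(Z)` acts on `Z = g U` as an element of `Aut_F(U)` transported by `g`. -/
theorem exists_pull {F : FusionSystem S} {U Z : Subgroup Ω} {g : Ω → Ω} (hg : IsIso F U Z g)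
    {y : Ω} (hy : y ∈ normalizerIn S Z) :
    ∃ k ∈ F.autGroup U, ∀ x : U, g ((k x : U) : Ω) = y * g x * y⁻¹ := by
  obtain ⟨g', hg', hg'g, hgg'⟩ := hg.symm
  have hiso : IsIso F U U (fun x => g' (y * g x * y⁻¹)) :=
    (hg.trans (isIso_conj_normalizer F hg.le_right hy)).trans hg'
  obtain ⟨β, hβ, hβv⟩ := exists_mem_autGroup_of_isIso F hiso
  refine ⟨β, hβ, fun x => ?_⟩
  rw [hβv]
  apply hgg'
  exact (Subgroup.mem_normalizer_iff.1 hy.2 _).1 (hg.map_mem x.2)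

/-! ### Automorphisms stabilizing a subgroup -/

/-- The automorphisms of `U` mapping the subgroup `Q` onto itself. -/
def stab (U Q : Subgroup Ω) : Subgroup (MulAut U) where
  carrier := {k | ∀ x : U, (x : Ω) ∈ Q ↔ ((k x : U) : Ω) ∈ Q}
  one_mem' := fun _ => Iff.rfl
  mul_mem' := fun {a b} ha hb x => (hb x).trans (ha (b x))
  inv_mem' := fun {a} ha x => by
    have := ha (a⁻¹ x)
    rw [show a (a⁻¹ x) = x by simp] at this
    exact this.symm

theorem mem_stab {U Q : Subgroup Ω} {k : MulAut U} :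
    k ∈ stab U Q ↔ ∀ x : U, (x : Ω) ∈ Q ↔ ((k x : U) : Ω) ∈ Q := Iff.rfl

/-- Restriction of an automorphism of `U` stabilizing `Q` to `Q`. -/
def stabResAut {U Q : Subgroup Ω} (hQU : Q ≤ U) (k : stab U Q) : MulAut Q where
  toFun x := ⟨(((k : MulAut U) ⟨x, hQU x.2⟩ : U) : Ω), (k.2 ⟨x, hQU x.2⟩).1 x.2⟩
  invFun x := ⟨((((k : MulAut U)⁻¹) ⟨x, hQU x.2⟩ : U) : Ω),
    (((stab U Q).inv_mem k.2) ⟨x, hQU x.2⟩).1 x.2⟩
  left_inv x := by
    apply Subtype.ext
    show ((((k : MulAut U)⁻¹) ⟨(((k : MulAut U) ⟨x, hQU x.2⟩ : U) : Ω), _⟩ : U) : Ω) = x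
    have : (⟨(((k : MulAut U) ⟨x, hQU x.2⟩ : U) : Ω), ((k : MulAut U) ⟨x, hQU x.2⟩).2⟩ : U) =
        (k : MulAut U) ⟨x, hQU x.2⟩ := rfl
    rw [this]
    simp
  right_inv x := by
    apply Subtype.ext
    show (((k : MulAut U) ⟨((((k : MulAut U)⁻¹) ⟨x, hQU x.2⟩ : U) : Ω), _⟩ : U) : Ω) = x
    have : (⟨((((k : MulAut U)⁻¹) ⟨x, hQU x.2⟩ : U) : Ω),
        (((k : MulAut U)⁻¹) ⟨x, hQU x.2⟩).2⟩ : U) = ((k : MulAut U)⁻¹) ⟨x, hQU x.2⟩ := rfl
    rw [this]
    simp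
  map_mul' x y := by
    apply Subtype.ext
    show (((k : MulAut U) ⟨((x * y : Q) : Ω), _⟩ : U) : Ω) =
      (((k : MulAut U) ⟨x, hQU x.2⟩ : U) : Ω) * (((k : MulAut U) ⟨y, hQU y.2⟩ : U) : Ω)
    have : (⟨((x * y : Q) : Ω), hQU (x * y).2⟩ : U) = ⟨x, hQU x.2⟩ * ⟨y, hQU y.2⟩ := rfl
    rw [this, map_mul]
    rfl

theorem stabResAut_apply {U Q : Subgroup Ω} (hQU : Q ≤ U) (k : stab U Q) (x : Q) :
    ((stabResAut hQU k x : Q) : Ω) = (((k : MulAut U) ⟨x, hQU x.2⟩ : U) : Ω) := rfl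

/-- Restriction to `Q` as a homomorphism on the stabilizer of `Q`. -/
def stabRes {U Q : Subgroup Ω} (hQU : Q ≤ U) : stab U Q →* MulAut Q :=
  MonoidHom.mk' (stabResAut hQU) (fun a b => by
    ext x
    rfl)

theorem stabRes_apply {U Q : Subgroup Ω} (hQU : Q ≤ U) (k : stab U Q) (x : Q) :
    ((stabRes hQU k x : Q) : Ω) = (((k : MulAut U) ⟨x, hQU x.2⟩ : U) : Ω) := rfl

/-- The automorphisms of `U` stabilizing `Q` whose restriction to `Q` lies in `L`. -/
def stabK {U Q : Subgroup Ω} (hQU : Q ≤ U) (L : Subgroup (MulAut Q)) : Subgroup (MulAut U) :=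
  (L.comap (stabRes hQU)).map (stab U Q).subtype

theorem mem_stabK_iff {U Q : Subgroup Ω} (hQU : Q ≤ U) (L : Subgroup (MulAut Q))
    (k : MulAut U) : k ∈ stabK hQU L ↔ ∃ hk : k ∈ stab U Q, stabRes hQU ⟨k, hk⟩ ∈ L := by
  constructor
  · rintro ⟨k', hk', rfl⟩
    exact ⟨k'.2, hk'⟩
  · rintro ⟨hk, hkL⟩
    exact ⟨⟨k, hk⟩, hkL, rfl⟩

theorem stabK_le_stab {U Q : Subgroup Ω} (hQU : Q ≤ U) (L : Subgroup (MulAut Q)) :
    stabK hQU L ≤ stab U Q := fun k hk => ((mem_stabK_iff hQU L k).1 hk).1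

theorem exists_of_mem_stabK {U Q : Subgroup Ω} (hQU : Q ≤ U) {L : Subgroup (MulAut Q)}
    {k : MulAut U} (hk : k ∈ stabK hQU L) :
    ∃ l ∈ L, ∀ x : Q, ((k ⟨x, hQU x.2⟩ : U) : Ω) = ((l x : Q) : Ω) := by
  obtain ⟨hk', hkL⟩ := (mem_stabK_iff hQU L k).1 hk
  exact ⟨_, hkL, fun x => rfl⟩

theorem mem_stabK_of {U Q : Subgroup Ω} (hQU : Q ≤ U) {L : Subgroup (MulAut Q)}
    {k : MulAut U} {l : MulAut Q} (hl : l ∈ L)
    (hkl : ∀ x : Q, ((k ⟨x, hQU x.2⟩ : U) : Ω) = ((l x : Q) : Ω)) : k ∈ stabK hQU L := by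
  have hk : k ∈ stab U Q := by
    intro x
    constructor
    · intro hx
      have := hkl ⟨x, hx⟩
      have e : (⟨((⟨x, hx⟩ : Q) : Ω), hQU hx⟩ : U) = x := rfl
      rw [e] at this
      rw [this]
      exact (l ⟨x, hx⟩).2
    · intro hx
      have h1 := hkl (l⁻¹ ⟨k x, hx⟩)
      rw [show l (l⁻¹ ⟨(k x : Ω), hx⟩) = ⟨(k x : Ω), hx⟩ by simp] at h1
      have h2 : k ⟨((l⁻¹ ⟨(k x : Ω), hx⟩ : Q) : Ω), hQU (l⁻¹ ⟨(k x : Ω), hx⟩).2⟩ = k x :=
        Subtype.ext h1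
      have h3 := k.injective h2
      have h4 : ((l⁻¹ ⟨(k x : Ω), hx⟩ : Q) : Ω) = x := congrArg Subtype.val h3
      rw [← h4]
      exact (l⁻¹ ⟨(k x : Ω), hx⟩).2
  rw [mem_stabK_iff]
  refine ⟨hk, ?_⟩
  have : stabRes hQU ⟨k, hk⟩ = l := by
    ext x
    exact hkl x
  rw [this]
  exact hl

/-- Elements of `N_S(g U)` acting on `g Q` like (the transport of) an element of `L` lie in
`N_S^{gK}(g U)` for `K = stabK L`. -/
theorem mem_NK_stabK_of {F : FusionSystem S} {U Q Z : Subgroup Ω} (hQU : Q ≤ U)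
    {L : Subgroup (MulAut Q)} {g : Ω → Ω} (hg : IsIso F U Z g) {y : Ω}
    (hy : y ∈ normalizerIn S Z) {l : MulAut Q} (hl : l ∈ L)
    (hly : ∀ x : Q, g ((l x : Q) : Ω) = y * g x * y⁻¹) : y ∈ NK S (stabK hQU L) g := by
  obtain ⟨k, -, hk⟩ := exists_pull hg hy
  refine ⟨hy.1, k, mem_stabK_of hQU hl (fun x => ?_), hk⟩
  apply hg.injOn (k ⟨x, hQU x.2⟩).2 (hQU (l x).2)
  rw [hk, hly]

/-- Elements of `N_S(g U) ∩ N_S(g Q)` lie in `N_S^{gK}(g U)` for `K` the stabilizer of `Q`. -/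
theorem mem_NK_stab_of {F : FusionSystem S} {U Q Z Q' : Subgroup Ω} (hQU : Q ≤ U)
    {g : Ω → Ω} (hg : IsIso F U Z g) (hgQ : IsIso F Q Q' g) {y : Ω}
    (hy : y ∈ normalizerIn S Z) (hy' : y ∈ normalizerIn S Q') :
    y ∈ NK S (stabK hQU ⊤) g := by
  obtain ⟨l, -, hl⟩ := exists_pull hgQ hy'
  exact mem_NK_stabK_of hQU hg hy (Subgroup.mem_top l) hl

/-- Conversely, elements of `N_S^{gK}(g U)` for `K = stabK L` normalize `g Q` and act on it like
the transport of an element of `L`. -/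
theorem NK_stabK_le [Finite S] {F : FusionSystem S} {U Q Q' : Subgroup Ω} (hQU : Q ≤ U)
    {L : Subgroup (MulAut Q)} {g : Ω → Ω} (hgQ : IsIso F Q Q' g) {y : Ω}
    (hy : y ∈ NK S (stabK hQU L) g) :
    y ∈ normalizerIn S Q' ∧ ∃ l ∈ L, ∀ x : Q, g ((l x : Q) : Ω) = y * g x * y⁻¹ := by
  obtain ⟨hyS, k, hk, hky⟩ := hy
  obtain ⟨l, hl, hkl⟩ := exists_of_mem_stabK hQU hk
  have h1 : ∀ x : Q, g ((l x : Q) : Ω) = y * g x * y⁻¹ := by
    intro x
    rw [← hkl x]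
    exact hky ⟨x, hQU x.2⟩
  exact ⟨⟨hyS, mem_normalizer_of_rel hgQ h1⟩, l, hl, h1⟩

/-- In a finite group whose image under a homomorphism is a `p`-group, a subgroup of Sylow order
has the same image as the whole group. -/
theorem map_eq_map_of_card {G H : Type*} [Group G] [Group H] [Finite G] {p : ℕ} [Fact p.Prime]
    (f : G →* H) (hf : IsPGroup p f.range) {T : Subgroup G}
    (hT : Nat.card T = p ^ (Nat.card G).factorization p) (x : G) : ∃ t ∈ T, f t = f x := by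
  classical
  -- index of `T ⊔ ker f` is coprime to `p` and a power of `p`
  have hTk : T ⊔ f.ker = ⊤ := by
    have hidx1 : (T ⊔ f.ker).index ∣ T.index := Subgroup.index_dvd_of_le le_sup_left
    have hidx2 : (T ⊔ f.ker).index ∣ f.ker.index := Subgroup.index_dvd_of_le le_sup_right
    have hker : ∃ n, f.ker.index = p ^ n := by
      have : Finite f.range := Finite.of_surjective f.rangeRestrict f.rangeRestrict_surjective
      rw [Subgroup.index_ker]
      exact IsPGroup.iff_card.1 hf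
    obtain ⟨n, hn⟩ := hker
    have hcop : ¬ p ∣ T.index := by
      have hpr : p.Prime := Fact.out
      have hmul := T.card_mul_index
      intro hdvd
      obtain ⟨a, ha⟩ : ∃ a, a = (Nat.card G).factorization p := ⟨_, rfl⟩
      rw [← ha] at hT
      have h1 : p ^ (a + 1) ∣ Nat.card G := by
        rw [← hmul, hT, pow_succ]
        exact Nat.mul_dvd_mul_left _ hdvd
      have hpos : Nat.card G ≠ 0 := Nat.card_pos.ne'
      have := (hpr.pow_dvd_iff_le_factorization hpos).1 h1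
      omega
    rw [hn] at hidx2
    obtain ⟨m, -, hm⟩ := (Nat.dvd_prime_pow Fact.out).1 hidx2
    have hm0 : m = 0 := by
      by_contra h0
      apply hcop
      have : p ∣ (T ⊔ f.ker).index := by
        rw [hm]
        exact dvd_pow_self p h0
      exact this.trans hidx1
    rw [hm0, pow_zero] at hm
    exact Subgroup.index_eq_one.1 hm
  have hx : x ∈ T ⊔ f.ker := by rw [hTk]; trivial
  have hnorm : f.ker.Normal := inferInstance
  rw [sup_comm, Subgroup.mem_sup_of_normal_left] at hx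
  · obtain ⟨z, hz, t, ht, rfl⟩ := hx
    refine ⟨t, ht, ?_⟩
    rw [map_mul, (MonoidHom.mem_ker).1 hz, one_mul]

end Cfsg.Agent.Lib.H25
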