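/-
Saturation criterion AKO Theorem I.3.10, step B: in a conjugacy class all of whose strictly
larger subgroups have fully automized receptive conjugates, every member maps to a fully
normalized member by a map defined on its normalizer.
-/
import Mathlib
import Cfsg.Prelude.Def_FusionSystem
import Cfsg.Agent.Lib.H25.PairNorm
set_option autoImplicit false

namespace Cfsg.Agent.Lib.H25

open Cfsg Cfsg.FusionSystem

variable {Ω : Type*} [Group Ω] {S : Subgroup Ω}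

/-- Some map of the system defined on `N_S(Q)` carries `Q` onto `P`. -/
def UMap (F : FusionSystem S) (Q P : Subgroup Ω) : Prop :=
  ∃ (ψ : Ω → Ω) (N' : Subgroup Ω), IsIso F (normalizerIn S Q) N' ψ ∧ IsIso F Q P ψ

theorem UMap.refl {F : FusionSystem S} {P : Subgroup Ω} (hP : P ≤ S) : UMap F P P :=
  ⟨id, normalizerIn S P, IsIso.refl inf_le_left, IsIso.refl hP⟩

/-- The inverse of an isomorphism restricts to the inverse of its restriction. -/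
theorem IsIso.symm_restrict {F : FusionSystem S} {N N' Q R : Subgroup Ω} {f g : Ω → Ω}
    (hg : IsIso F N' N g) (hgf : ∀ x ∈ N, g (f x) = x) (hQ : Q ≤ N)
    (hfQ : IsIso F Q R f) (hRN' : R ≤ N') : IsIso F R Q g := by
  refine hg.restrict' hRN' (fun y hy => ?_) (fun x hx => ?_)
  · obtain ⟨x, hx, rfl⟩ := hfQ.surjOn hy
    rw [hgf x (hQ hx)]
    exact hx
  · exact ⟨f x, hfQ.map_mem hx, hgf x (hQ hx)⟩

/-- If `ψ ∘ g = h ∘ χ` on `U` with `χ` stabilizing `Q`, then `ψ` carries `g Q` onto `h Q`. -/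
theorem isIso_of_stab {F : FusionSystem S} {N N' U Z Q Q' Q₁ : Subgroup Ω} {ψ g h : Ω → Ω}
    {χ : MulAut U} (hψ : IsIso F N N' ψ) (hZN : Z ≤ N) (hQU : Q ≤ U) (hg : IsIso F U Z g)
    (hgQ : IsIso F Q Q' g) (hhQ : IsIso F Q Q₁ h) (hχ : χ ∈ stab U Q)
    (hv : ∀ x : U, ψ (g x) = h ((χ x : U) : Ω)) : IsIso F Q' Q₁ ψ := by
  have hQ'Z : Q' ≤ Z := by
    intro y hy
    obtain ⟨x, hx, rfl⟩ := hgQ.surjOn hy
    exact hg.map_mem (hQU hx)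
  refine hψ.restrict' (hQ'Z.trans hZN) (fun y hy => ?_) (fun z hz => ?_)
  · obtain ⟨x, hx, rfl⟩ := hgQ.surjOn hy
    rw [hv ⟨x, hQU hx⟩]
    exact hhQ.map_mem ((hχ ⟨x, hQU hx⟩).1 hx)
  · obtain ⟨x', hx', rfl⟩ := hhQ.surjOn hz
    have hmem : ((χ⁻¹ ⟨x', hQU hx'⟩ : U) : Ω) ∈ Q :=
      (((stab U Q).inv_mem hχ) ⟨x', hQU hx'⟩).1 hx'
    refine ⟨g ((χ⁻¹ ⟨x', hQU hx'⟩ : U) : Ω), hgQ.map_mem hmem, ?_⟩
    rw [hv (χ⁻¹ ⟨x', hQU hx'⟩)]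
    simp

/-- The image of a subgroup of `N_S(Q)` normalizes the image of `Q`. -/
theorem image_le_normalizerIn {F : FusionSystem S} {U U' Q R : Subgroup Ω} {f : Ω → Ω}
    (hf : IsIso F U U' f) (hQU : Q ≤ U) (hfQ : IsIso F Q R f) (hUN : U ≤ normalizerIn S Q) :
    U' ≤ normalizerIn S R := by
  intro y hy
  obtain ⟨u, hu, rfl⟩ := hf.surjOn hy
  exact hf.map_mem_normalizerIn hQU hfQ hu (hUN hu).2

theorem image_le_of_le {F : FusionSystem S} {U U' Q R : Subgroup Ω} {f : Ω → Ω}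
    (hf : IsIso F U U' f) (hQU : Q ≤ U) (hfQ : IsIso F Q R f) : R ≤ U' := by
  intro y hy
  obtain ⟨x, hx, rfl⟩ := hfQ.surjOn hy
  exact hf.map_mem (hQU hx)

section

variable [Finite S] {p : ℕ} [Fact p.Prime] (hS : IsPGroup p S) {F : FusionSystem S} {n : ℕ}
  (hgood : ∀ X : Subgroup Ω, X ≤ S → n < Nat.card X →
    ∃ W, F.IsConj X W ∧ F.IsFullyAutomized p W ∧ F.IsReceptive W)
  {P : Subgroup Ω} (hPn : Nat.card P = n)
  (hmax : ∀ Q, F.IsConj P Q → Nat.card (normalizerIn S Q) ≤ Nat.card (normalizerIn S P))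

include hS hgood hPn hmax

/-- Step B, main claim: an isomorphism defined on a subgroup `U` with `Q < U ≤ N_S(Q)` carrying
`Q` to the fully normalized `P` can be replaced by one defined on all of `N_S(Q)`. -/
theorem claimC : ∀ (m : ℕ) (Q U V : Subgroup Ω) (ψ₀ : Ω → Ω), Nat.card S - Nat.card U = m →
    Q ≤ U → Q ≠ U → U ≤ normalizerIn S Q → IsIso F U V ψ₀ → IsIso F Q P ψ₀ → UMap F Q P := by
  intro m
  induction m using Nat.strong_induction_on with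
  | _ m ih =>
  intro Q U V ψ₀ hm hQU hne hUN hψ₀ hψ₀Q
  have hQS : Q ≤ S := hψ₀Q.le_left
  have hPS : P ≤ S := hψ₀Q.le_right
  have hUS : U ≤ S := hψ₀.le_left
  have hVS : V ≤ S := hψ₀.le_right
  by_cases hUeq : U = normalizerIn S Q
  · rw [hUeq] at hψ₀
    exact ⟨ψ₀, V, hψ₀, hψ₀Q⟩
  have hNQS : normalizerIn S Q ≤ S := inf_le_left
  have hNPS : normalizerIn S P ≤ S := inf_le_left
  have hfinNP : Finite (normalizerIn S P) := finite_of_le S hNPS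
  have hfinNQ : Finite (normalizerIn S Q) := finite_of_le S hNQS
  have hVN : V ≤ normalizerIn S P := image_le_normalizerIn hψ₀ hQU hψ₀Q hUN
  have hPV : P ≤ V := image_le_of_le hψ₀ hQU hψ₀Q
  have hcUV : Nat.card U = Nat.card V := hψ₀.card_eq
  have hcQP : Nat.card Q = Nat.card P := hψ₀Q.card_eq
  have hcU_lt : Nat.card U < Nat.card (normalizerIn S Q) :=
    card_lt_of_lt' hNQS (lt_of_le_of_ne hUN hUeq)
  have hcN_le : Nat.card (normalizerIn S Q) ≤ Nat.card (normalizerIn S P) :=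
    hmax Q (isConj_symm F hψ₀Q.isConj)
  have hVne : V ≠ normalizerIn S P := by
    intro h
    rw [h] at hcUV
    omega
  have hnU : n < Nat.card U := by
    rw [← hPn, ← hcQP]
    exact card_lt_of_lt' hUS (lt_of_le_of_ne hQU hne)
  obtain ⟨y₁, hy₁, hy₁U⟩ := exists_mem_normalizerIn_not_mem (S := normalizerIn S Q)
    (hS.to_le hNQS) hUN hUeq
  obtain ⟨y₂, hy₂, hy₂V⟩ := exists_mem_normalizerIn_not_mem (S := normalizerIn S P)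
    (hS.to_le hNPS) hVN hVne
  -- the good pair
  obtain ⟨W, h, hh, hWrec, -, hcard⟩ := exists_good' hS hUS (hgood U hUS hnU) (stabK hQU ⊤)
  obtain ⟨Q₁, hQ₁W, hhQ, -⟩ := hh.restrict hQU
  have hcQQ₁ : Nat.card Q = Nat.card Q₁ := hhQ.card_eq
  -- first extension
  obtain ⟨χ₁, ψ₁, N₁, N₁', hχ₁, hψ₁, hNK₁, hUN₁, hψ₁v, -⟩ :=
    K_extend hS (stabK hQU ⊤) hWrec hh hcard (IsIso.refl hUS)
  have hψ₁Q : IsIso F Q Q₁ ψ₁ :=
    isIso_of_stab hψ₁ hUN₁ hQU (IsIso.refl hUS) (IsIso.refl hQS) hhQ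
      (stabK_le_stab hQU ⊤ hχ₁.1) hψ₁v
  have hy₁NK : y₁ ∈ NK S (stabK hQU ⊤) id :=
    mem_NK_stab_of (F := F) hQU (IsIso.refl hUS) (IsIso.refl hQS) ⟨hNQS hy₁.1, hy₁.2⟩ hy₁.1
  -- second extension
  obtain ⟨χ₂, ψ₂, N₂, N₂', hχ₂, hψ₂, hNK₂, hVN₂, hψ₂v, -⟩ :=
    K_extend hS (stabK hQU ⊤) hWrec hh hcard hψ₀
  have hψ₂P : IsIso F P Q₁ ψ₂ :=
    isIso_of_stab hψ₂ hVN₂ hQU hψ₀ hψ₀Q hhQ (stabK_le_stab hQU ⊤ hχ₂.1) hψ₂v
  have hy₂NK : y₂ ∈ NK S (stabK hQU ⊤) ψ₀ :=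
    mem_NK_stab_of hQU hψ₀ hψ₀Q ⟨hNPS hy₂.1, hy₂.2⟩ hy₂.1
  -- `Q₁` maps to `P`
  have hQ₁P : UMap F Q₁ P := by
    obtain ⟨U₂, hU₂def⟩ : ∃ U₂ : Subgroup Ω, U₂ = N₂ ⊓ normalizerIn S P := ⟨_, rfl⟩
    have hU₂N₂ : U₂ ≤ N₂ := hU₂def ▸ inf_le_left
    have hU₂N : U₂ ≤ normalizerIn S P := hU₂def ▸ inf_le_right
    have hVU₂ : V ≤ U₂ := hU₂def ▸ le_inf hVN₂ hVN
    have hy₂U₂ : y₂ ∈ U₂ := by
      rw [hU₂def]
      exact ⟨hNK₂ hy₂NK, hy₂.1⟩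
    have hPU₂ : P ≤ U₂ := hPV.trans hVU₂
    obtain ⟨U₂', -, hψ₂U₂, -⟩ := hψ₂.restrict hU₂N₂
    obtain ⟨ψ₂', hψ₂', hψ₂'ψ₂, -⟩ := hψ₂U₂.symm
    have hQ₁U₂' : Q₁ ≤ U₂' := image_le_of_le hψ₂U₂ hPU₂ hψ₂P
    have hψ₂'Q₁ : IsIso F Q₁ P ψ₂' := IsIso.symm_restrict hψ₂' hψ₂'ψ₂ hPU₂ hψ₂P hQ₁U₂'
    have hU₂'N : U₂' ≤ normalizerIn S Q₁ := image_le_normalizerIn hψ₂U₂ hPU₂ hψ₂P hU₂N
    have hcU₂ : Nat.card U₂ = Nat.card U₂' := hψ₂U₂.card_eq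
    have hcVU₂ : Nat.card V < Nat.card U₂ :=
      card_lt_of_lt' (hU₂N.trans hNPS) (lt_of_le_of_ne hVU₂ (fun h => hy₂V (h ▸ hy₂U₂)))
    have hU₂'S : U₂' ≤ S := hψ₂U₂.le_right
    have hfinU₂' : Finite U₂' := finite_of_le S hU₂'S
    have hcU₂'S : Nat.card U₂' ≤ Nat.card S := Subgroup.card_le_of_le hU₂'S
    have hcQU : Nat.card Q < Nat.card U := card_lt_of_lt' hUS (lt_of_le_of_ne hQU hne)
    refine ih (Nat.card S - Nat.card U₂') (by omega) Q₁ U₂' U₂ ψ₂' rfl hQ₁U₂' ?_ hU₂'N hψ₂'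
      hψ₂'Q₁
    intro h
    rw [← h] at hcU₂
    omega
  obtain ⟨χ, Nχ, hχ, hχQ₁⟩ := hQ₁P
  -- composite
  obtain ⟨U₁, hU₁def⟩ : ∃ U₁ : Subgroup Ω, U₁ = N₁ ⊓ normalizerIn S Q := ⟨_, rfl⟩
  have hU₁N₁ : U₁ ≤ N₁ := hU₁def ▸ inf_le_left
  have hU₁N : U₁ ≤ normalizerIn S Q := hU₁def ▸ inf_le_right
  have hUU₁ : U ≤ U₁ := hU₁def ▸ le_inf hUN₁ hUN
  have hy₁U₁ : y₁ ∈ U₁ := by
    rw [hU₁def]
    exact ⟨hNK₁ hy₁NK, hy₁.1⟩
  have hQU₁ : Q ≤ U₁ := hQU.trans hUU₁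
  obtain ⟨U₁', -, hψ₁U₁, -⟩ := hψ₁.restrict hU₁N₁
  have hU₁'N : U₁' ≤ normalizerIn S Q₁ := image_le_normalizerIn hψ₁U₁ hQU₁ hψ₁Q hU₁N
  obtain ⟨V₃, -, hχU₁', -⟩ := hχ.restrict hU₁'N
  have hcomp : IsIso F U₁ V₃ (χ ∘ ψ₁) := hψ₁U₁.trans hχU₁'
  have hcompQ : IsIso F Q P (χ ∘ ψ₁) := hψ₁Q.trans hχQ₁
  have hcUU₁ : Nat.card U < Nat.card U₁ :=
    card_lt_of_lt' (hU₁N.trans hNQS) (lt_of_le_of_ne hUU₁ (fun h => hy₁U (h ▸ hy₁U₁)))
  have hU₁S : U₁ ≤ S := hU₁N.trans hNQS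
  have hfinU₁ : Finite U₁ := finite_of_le S hU₁S
  have hcU₁S : Nat.card U₁ ≤ Nat.card S := Subgroup.card_le_of_le hU₁S
  refine ih (Nat.card S - Nat.card U₁) (by omega) Q U₁ V₃ (χ ∘ ψ₁) rfl hQU₁ ?_ hU₁N hcomp hcompQ
  intro h
  have hcQU : Nat.card Q < Nat.card U := card_lt_of_lt' hUS (lt_of_le_of_ne hQU hne)
  rw [← h] at hcUU₁
  omega

/-- `UMap` propagates backwards along a `BigChain`. -/
theorem umap_of_bigChain {P' Q : Subgroup Ω} {f : Ω → Ω} (hc : BigChain F P' Q f) :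
    UMap F Q P → UMap F P' P := by
  induction hc with
  | @step P' Q U U' f g hg hPU hne hUN hf hfg =>
    rintro ⟨χ, N', hχ, hχQ⟩
    have hgP : IsIso F P' Q g := hf.congr hfg
    have hU'N : U' ≤ normalizerIn S Q := image_le_normalizerIn hg hPU hgP hUN
    obtain ⟨V₃, -, hχU', -⟩ := hχ.restrict hU'N
    exact claimC hS hgood hPn hmax _ P' U V₃ (χ ∘ g) rfl hPU hne hUN (hg.trans hχU')
      (hgP.trans hχQ)
  | trans _ _ _ ih1 ih2 => exact fun h => ih1 (ih2 h)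

/-- Step B: every member of the class reachable by a `BigChain` maps to `P` on its normalizer. -/
theorem stepB (hchain : ∀ (Q : Subgroup Ω) (f : Ω → Ω), IsIso F Q P f → BigChain F Q P f)
    {Q : Subgroup Ω} (hQ : F.IsConj Q P) : UMap F Q P := by
  obtain ⟨f, hf⟩ := (isConj_iff F).1 hQ
  exact umap_of_bigChain hS hgood hPn hmax (hchain Q f hf) (UMap.refl hf.le_right)

end

end Cfsg.Agent.Lib.H25
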