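/-
Saturation criterion AKO Theorem I.3.10, step C: the subgroups `D(Q) = N_S^{K₀(Q)}(Q)` for a
conjugation-invariant family `K₀(Q)` of normal `p`-subgroups of `Aut_F(Q)`.
-/
import Mathlib
import Cfsg.Prelude.Def_FusionSystem
import Cfsg.Agent.Lib.H25.SatCritB
set_option autoImplicit false

namespace Cfsg.Agent.Lib.H25

open Cfsg Cfsg.FusionSystem

variable {Ω : Type*} [Group Ω] {S : Subgroup Ω}

/-- In a finite `p`-group, if `V` normalizes `D` and `D ≰ V` then some element of `D` outside `V`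
normalizes `V`. -/
theorem exists_mem_normalizer_not_mem_of_not_le [Finite S] {p : ℕ} [Fact p.Prime]
    (hS : IsPGroup p S) {V D : Subgroup Ω} (hVS : V ≤ S) (hDS : D ≤ S)
    (hVD : V ≤ Subgroup.normalizer (D : Set Ω)) (hDV : ¬ D ≤ V) :
    ∃ d ∈ D, d ∈ Subgroup.normalizer (V : Set Ω) ∧ d ∉ V := by
  have hXS : V ⊔ D ≤ S := sup_le hVS hDS
  have hfinX : Finite ↥(V ⊔ D) := finite_of_le S hXS
  have hne : V ≠ V ⊔ D := by
    intro h
    apply hDV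
    rw [h]
    exact le_sup_right
  obtain ⟨y, hy, hyV⟩ := exists_mem_normalizerIn_not_mem (S := V ⊔ D) (hS.to_le hXS)
    le_sup_left hne
  have hy' : y ∈ ((V ⊔ D : Subgroup Ω) : Set Ω) := hy.1
  rw [Subgroup.coe_mul_of_left_le_normalizer_right V D hVD] at hy'
  obtain ⟨v, hv, d, hd, rfl⟩ := hy'
  have hvN : v ∈ Subgroup.normalizer (V : Set Ω) := Subgroup.le_normalizer hv
  refine ⟨d, hd, ?_, ?_⟩
  · have : d = v⁻¹ * (v * d) := by group
    rw [this]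
    exact Subgroup.mul_mem _ (Subgroup.inv_mem _ hvN) hy.2
  · intro hdV
    exact hyV (V.mul_mem hv hdV)

/-- A subgroup of Sylow order in a finite group has Sylow order in every intermediate subgroup. -/
theorem card_eq_of_le_of_le {G : Type*} [Group G] [Finite G] {p : ℕ} [Fact p.Prime]
    {T M A : Subgroup G} (hTM : T ≤ M) (hMA : M ≤ A)
    (hT : Nat.card T = p ^ (Nat.card A).factorization p) :
    Nat.card T = p ^ (Nat.card M).factorization p := by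
  have hpr : p.Prime := Fact.out
  have h1 : Nat.card T ∣ Nat.card M := Subgroup.card_dvd_of_le hTM
  have h2 : Nat.card M ∣ Nat.card A := Subgroup.card_dvd_of_le hMA
  have hM0 : Nat.card M ≠ 0 := Nat.card_pos.ne'
  have hA0 : Nat.card A ≠ 0 := Nat.card_pos.ne'
  have h3 : (Nat.card A).factorization p ≤ (Nat.card M).factorization p := by
    rw [hT] at h1
    exact (hpr.pow_dvd_iff_le_factorization hM0).1 h1
  have h4 : (Nat.card M).factorization p ≤ (Nat.card A).factorization p :=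
    (Nat.factorization_le_iff_dvd hM0 hA0).2 h2 p
  rw [hT, le_antisymm h4 h3]

/-- Receptivity from function-level extensions. -/
theorem isReceptive_of_extend {F : FusionSystem S} {P : Subgroup Ω} (hPS : P ≤ S)
    (h : ∀ (Q : Subgroup Ω) (f : Ω → Ω), IsIso F Q P f → ∀ N : Subgroup Ω, Q ≤ N →
      (∀ g ∈ N, g ∈ S ∧ g ∈ Subgroup.normalizer (Q : Set Ω) ∧
        ∃ h ∈ S, ∀ x ∈ Q, f (g * x * g⁻¹) = h * f x * h⁻¹) →
      ∃ (f' : Ω → Ω) (N' : Subgroup Ω), IsIso F N N' f' ∧ ∀ x ∈ Q, f' x = f x) :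
    F.IsReceptive P := by
  refine ⟨hPS, fun Q ψ₀ hψ₀ hr => ?_⟩
  have hψ : IsIso F Q P (ext1 ψ₀) := hr ▸ isIso_of_mem F hψ₀
  have hψ₀ψ : ∀ x : Q, ψ₀ x = ext1 ψ₀ x := fun x => (ext1_apply ψ₀ x).symm
  obtain ⟨f', N', hf', hf'v⟩ := h Q (ext1 ψ₀) hψ (extender S Q ψ₀) (le_extender F hψ₀)
    (fun g hg => (mem_extender_iff' hψ₀ψ g).1 hg)
  obtain ⟨ψ', hψ', hψ'v, -⟩ := hf'
  refine ⟨ψ', hψ', fun x hxQ hxN => ?_⟩
  rw [hψ'v, hf'v x hxQ, ext1_apply_mem ψ₀ hxQ]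

section

variable [Finite S] {p : ℕ} [Fact p.Prime] (hS : IsPGroup p S) {F : FusionSystem S} {n : ℕ}
  (hgood : ∀ X : Subgroup Ω, X ≤ S → n < Nat.card X →
    ∃ W, F.IsConj X W ∧ F.IsFullyAutomized p W ∧ F.IsReceptive W)
  (K₀ : (Q : Subgroup Ω) → Subgroup (MulAut Q))
  (hKp : ∀ Q : Subgroup Ω, IsPGroup p (K₀ Q))
  (hKle : ∀ Q : Subgroup Ω, K₀ Q ≤ F.autGroup Q)
  (hKinv : ∀ (Q Q' : Subgroup Ω) (f : Ω → Ω), IsIso F Q Q' f → ∀ e : Q ≃* Q',
    (∀ x : Q, ((e x : Q') : Ω) = f x) → ∀ k ∈ K₀ Q, MulAut.congr e k ∈ K₀ Q')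
  (hKinn : ∀ Q : Subgroup Ω, Q ≤ S → ∀ g ∈ Q, ∃ k ∈ K₀ Q, ∀ x : Q, ((k x : Q) : Ω) = g * x * g⁻¹)

/-- `D(Q)`: the elements of `S` inducing on `Q` an element of `K₀(Q)`. -/
def DD (S : Subgroup Ω) (K₀ : (Q : Subgroup Ω) → Subgroup (MulAut Q)) (Q : Subgroup Ω) :
    Subgroup Ω := NK S (K₀ Q) id

omit [Finite S] [Fact p.Prime] in
theorem mem_DD {Q : Subgroup Ω} {g : Ω} :
    g ∈ DD S K₀ Q ↔ g ∈ S ∧ ∃ k ∈ K₀ Q, ∀ x : Q, ((k x : Q) : Ω) = g * x * g⁻¹ := Iff.rfl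

include hKinv in
omit [Finite S] [Fact p.Prime] in
/-- Isomorphisms of the system defined on a subgroup containing `Q` map `D(Q)` into `D` of the
image. -/
theorem map_DD {N N' Q R : Subgroup Ω} {ψ : Ω → Ω} (hψ : IsIso F N N' ψ) (hQN : Q ≤ N)
    (hψQ : IsIso F Q R ψ) {g : Ω} (hgN : g ∈ N) (hg : g ∈ DD S K₀ Q) : ψ g ∈ DD S K₀ R := by
  obtain ⟨-, k, hk, hkg⟩ := hg
  refine ⟨hψ.le_right (hψ.map_mem hgN), MulAut.congr hψQ.toMulEquiv k,
    hKinv Q R ψ hψQ hψQ.toMulEquiv (fun x => hψQ.toMulEquiv_apply x) k hk, fun y => ?_⟩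
  show ((hψQ.toMulEquiv (k (hψQ.toMulEquiv.symm y)) : R) : Ω) = ψ g * y * (ψ g)⁻¹
  have hx : ((hψQ.toMulEquiv.symm y : Q) : Ω) ∈ N := hQN (hψQ.toMulEquiv.symm y).2
  rw [hψQ.toMulEquiv_apply]
  have hkg' : ((k (hψQ.toMulEquiv.symm y) : Q) : Ω) = g * (hψQ.toMulEquiv.symm y : Q) * g⁻¹ :=
    hkg _
  rw [hkg', hψ.map_mul (Subgroup.mul_mem _ hgN hx) (Subgroup.inv_mem _ hgN), hψ.map_mul hgN hx,
    hψ.map_inv hgN, hψQ.toMulEquiv_symm_apply]

include hKinn in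
omit [Finite S] [Fact p.Prime] in
theorem le_DD {Q : Subgroup Ω} (hQ : Q ≤ S) : Q ≤ DD S K₀ Q := by
  intro g hg
  obtain ⟨k, hk, hkg⟩ := hKinn Q hQ g hg
  exact ⟨hQ hg, k, hk, hkg⟩

omit [Finite S] [Fact p.Prime] in
theorem DD_le_normalizerIn {Q : Subgroup Ω} : DD S K₀ Q ≤ normalizerIn S Q := by
  rintro g ⟨hgS, k, -, hk⟩
  exact ⟨hgS, mem_normalizer_of_induces hk⟩

include hKinv in
omit [Finite S] [Fact p.Prime] in
theorem conj_mem_DD {Q : Subgroup Ω} (hQ : Q ≤ S) {y d : Ω} (hy : y ∈ normalizerIn S Q)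
    (hd : d ∈ DD S K₀ Q) : y * d * y⁻¹ ∈ DD S K₀ Q := by
  have hNS : normalizerIn S Q ≤ S := inf_le_left
  have h1 := IsIso.conj (F := F) hNS hy.1
  have h2 : IsIso F Q Q (fun x => y * x * y⁻¹) := isIso_conj_normalizer F hQ hy
  have hdN : d ∈ normalizerIn S Q := DD_le_normalizerIn K₀ hd
  exact map_DD K₀ hKinv h1 (le_normalizerIn hQ) h2 hdN hd

include hKinv in
omit [Finite S] [Fact p.Prime] in
theorem normalizerIn_le_normalizer_DD {Q : Subgroup Ω} (hQ : Q ≤ S) :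
    normalizerIn S Q ≤ normalizerIn S (DD S K₀ Q) := by
  intro y hy
  refine ⟨hy.1, ?_⟩
  show y ∈ Subgroup.normalizer ((DD S K₀ Q : Subgroup Ω) : Set Ω)
  rw [Subgroup.mem_normalizer_iff]
  intro d
  constructor
  · exact fun hd => conj_mem_DD K₀ hKinv hQ hy hd
  · intro hd
    have := conj_mem_DD K₀ hKinv hQ (Subgroup.inv_mem _ hy) hd
    have e : y⁻¹ * (y * d * y⁻¹) * y⁻¹⁻¹ = d := by group
    rwa [e] at this

include hS hgood hKinv hKinn in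
/-- Step C0: some fully normalized member `P₁` of the class has `D(P₁)` receptive. -/
theorem exists_receptive_DD {P : Subgroup Ω} (hPS : P ≤ S) (hPn : Nat.card P = n)
    (hmax : ∀ Q, F.IsConj P Q → Nat.card (normalizerIn S Q) ≤ Nat.card (normalizerIn S P))
    (hD : DD S K₀ P ≠ P) :
    ∃ P₁, F.IsConj P P₁ ∧ Nat.card (normalizerIn S P₁) = Nat.card (normalizerIn S P) ∧
      DD S K₀ P₁ ≠ P₁ ∧ F.IsReceptive (DD S K₀ P₁) := by
  obtain ⟨D, hDdef⟩ : ∃ D, D = DD S K₀ P := ⟨_, rfl⟩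
  have hPD : P ≤ D := hDdef ▸ le_DD K₀ hKinn hPS
  have hDN : D ≤ normalizerIn S P := hDdef ▸ DD_le_normalizerIn K₀
  have hNS : normalizerIn S P ≤ S := inf_le_left
  have hDS : D ≤ S := hDN.trans hNS
  have hnD : n < Nat.card D := by
    rw [← hPn]
    exact card_lt_of_lt' hDS (lt_of_le_of_ne hPD (hDdef ▸ hD.symm))
  obtain ⟨W, h, hh, hWrec, -, hcard⟩ := exists_good' hS hDS (hgood D hDS hnD) (stabK hPD ⊤)
  obtain ⟨P₁, hP₁W, hhP, -⟩ := hh.restrict hPD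
  obtain ⟨χ, ψ, N, N', hχ, hψ, hNK, hDNle, hψv, -⟩ :=
    K_extend hS (stabK hPD ⊤) hWrec hh hcard (IsIso.refl hDS)
  have hψP : IsIso F P P₁ ψ :=
    isIso_of_stab hψ hDNle hPD (IsIso.refl hDS) (IsIso.refl hPS) hhP
      (stabK_le_stab hPD ⊤ hχ.1) hψv
  have hNle : normalizerIn S P ≤ N := by
    intro y hy
    apply hNK
    have hyD : y ∈ normalizerIn S D := hDdef ▸ normalizerIn_le_normalizer_DD K₀ hKinv hPS hy
    exact mem_NK_stab_of (F := F) hPD (IsIso.refl hDS) (IsIso.refl hPS) hyD hy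
  obtain ⟨N₁, -, hψN, -⟩ := hψ.restrict hNle
  have hPN : P ≤ normalizerIn S P := le_normalizerIn hPS
  have hN₁le : N₁ ≤ normalizerIn S P₁ := image_le_normalizerIn hψN hPN hψP le_rfl
  have hc1 : Nat.card (normalizerIn S P) = Nat.card N₁ := hψN.card_eq
  have hc2 : Nat.card (normalizerIn S P₁) ≤ Nat.card (normalizerIn S P) := hmax P₁ hψP.isConj
  have hfin : Finite (normalizerIn S P₁) := finite_of_le S inf_le_left
  have hN₁eq : N₁ = normalizerIn S P₁ := Subgroup.eq_of_le_of_card_ge hN₁le (by omega)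
  subst hN₁eq
  -- `ψ D = W`
  have hψD : IsIso F D W ψ := by
    refine hψ.restrict' hDNle (fun x hx => ?_) (fun y hy => ?_)
    · have := hψv ⟨x, hx⟩
      rw [show ψ x = ψ (id ((⟨x, hx⟩ : D) : Ω)) from rfl, this]
      exact hh.map_mem (χ ⟨x, hx⟩).2
    · obtain ⟨x', hx', rfl⟩ := hh.surjOn hy
      refine ⟨((χ⁻¹ ⟨x', hx'⟩ : D) : Ω), (χ⁻¹ ⟨x', hx'⟩).2, ?_⟩
      have := hψv (χ⁻¹ ⟨x', hx'⟩)
      rw [show ψ ((χ⁻¹ ⟨x', hx'⟩ : D) : Ω) = ψ (id ((χ⁻¹ ⟨x', hx'⟩ : D) : Ω)) from rfl, this]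
      simp
  have hDDeq : DD S K₀ P₁ = W := by
    apply le_antisymm
    · intro z hz
      have hzN : z ∈ normalizerIn S P₁ := DD_le_normalizerIn K₀ hz
      obtain ⟨ψ', hψ', hψ'ψ, hψψ'⟩ := hψN.symm
      have hP₁N : P₁ ≤ normalizerIn S P₁ := le_normalizerIn hψP.le_right
      have hψ'P : IsIso F P₁ P ψ' := IsIso.symm_restrict hψ' hψ'ψ hPN hψP hP₁N
      have h1 : ψ' z ∈ DD S K₀ P := map_DD K₀ hKinv hψ' hP₁N hψ'P hzN hz
      rw [← hψψ' z hzN]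
      exact hψD.map_mem (hDdef ▸ h1)
    · intro w hw
      obtain ⟨d, hd, rfl⟩ := hψD.surjOn hw
      exact map_DD K₀ hKinv hψN hPN hψP (hDN hd) (hDdef ▸ hd)
  refine ⟨P₁, hψP.isConj, ?_, ?_, ?_⟩
  · omega
  · rw [hDDeq]
    intro h
    have h1 := hψD.card_eq
    rw [h] at h1
    have h2 := hψP.card_eq
    omega
  · rw [hDDeq]
    exact hWrec

include hS hgood hKinv in
/-- For a fully normalized `P` with `D(P) > P` receptive, `Aut_S(D(P)) ∩ N(P)` has Sylow order in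
`Aut_F(D(P)) ∩ N(P)`. -/
theorem card_AS_stab {P : Subgroup Ω} (hPS : P ≤ S) (hPn : Nat.card P = n)
    (hmax : ∀ Q, F.IsConj P Q → Nat.card (normalizerIn S Q) ≤ Nat.card (normalizerIn S P))
    (hD : DD S K₀ P ≠ P) (hPD : P ≤ DD S K₀ P) :
    Nat.card (AS S (stabK hPD ⊤) id) =
      p ^ (Nat.card ↥(stabK hPD ⊤ ⊓ F.autGroup (DD S K₀ P))).factorization p := by
  have hDN : DD S K₀ P ≤ normalizerIn S P := DD_le_normalizerIn K₀
  have hNS : normalizerIn S P ≤ S := inf_le_left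
  have hDS : DD S K₀ P ≤ S := hDN.trans hNS
  have hnD : n < Nat.card (DD S K₀ P) := by
    rw [← hPn]
    exact card_lt_of_lt' hDS (lt_of_le_of_ne hPD hD.symm)
  obtain ⟨W, h, hh, hWrec, -, hcard⟩ := exists_good' hS hDS (hgood _ hDS hnD) (stabK hPD ⊤)
  obtain ⟨P₂, -, hhP, -⟩ := hh.restrict hPD
  refine card_AS_of_card_NK_le hS (stabK hPD ⊤) hWrec hh hcard (IsIso.refl hDS) ?_
  have h1 : NK S (stabK hPD ⊤) h ≤ normalizerIn S P₂ := fun y hy => (NK_stabK_le hPD hhP hy).1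
  have h2 : normalizerIn S P ≤ NK S (stabK hPD ⊤) id := by
    intro y hy
    have hyD : y ∈ normalizerIn S (DD S K₀ P) := normalizerIn_le_normalizer_DD K₀ hKinv hPS hy
    exact mem_NK_stab_of (F := F) hPD (IsIso.refl hDS) (IsIso.refl hPS) hyD hy
  have h3 := hmax P₂ hhP.isConj
  have hfin1 : Finite (normalizerIn S P₂) := finite_of_le S inf_le_left
  have hfin2 : Finite (NK S (stabK hPD ⊤) id) := finite_of_le S (NK_le _ _)
  exact ((Subgroup.card_le_of_le h1).trans h3).trans (Subgroup.card_le_of_le h2)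

end

end Cfsg.Agent.Lib.H25
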