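/-
Saturation criterion AKO Theorem I.3.10, step C1: every automorphism of a fully normalized member
`P` of the class extends to an automorphism of `D(P)`.
-/
import Mathlib
import Cfsg.Prelude.Def_FusionSystem
import Cfsg.Agent.Lib.H25.SatCritC
set_option autoImplicit false

namespace Cfsg.Agent.Lib.H25

open Cfsg Cfsg.FusionSystem

variable {Ω : Type*} [Group Ω] {S : Subgroup Ω}

/-- `f` agrees on `P` with an automorphism of `D` in the system. -/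
def InB (F : FusionSystem S) (D P : Subgroup Ω) (f : Ω → Ω) : Prop :=
  ∃ β : Ω → Ω, IsIso F D D β ∧ ∀ x ∈ P, β x = f x

namespace InB

variable {F : FusionSystem S} {D P : Subgroup Ω} {f g : Ω → Ω}

theorem congr (h : InB F D P f) (hfg : ∀ x ∈ P, f x = g x) : InB F D P g := by
  obtain ⟨β, hβ, hβf⟩ := h
  exact ⟨β, hβ, fun x hx => (hβf x hx).trans (hfg x hx)⟩

theorem comp (h1 : InB F D P f) (h2 : InB F D P g) (hf : ∀ x ∈ P, f x ∈ P) :
    InB F D P (g ∘ f) := by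
  obtain ⟨β₁, hβ₁, hβ₁f⟩ := h1
  obtain ⟨β₂, hβ₂, hβ₂g⟩ := h2
  refine ⟨β₂ ∘ β₁, hβ₁.trans hβ₂, fun x hx => ?_⟩
  show β₂ (β₁ x) = g (f x)
  rw [hβ₁f x hx, hβ₂g _ (hf x hx)]

theorem symm (h : InB F D P f) (hPD : P ≤ D) (hf : IsIso F P P f) (hgf : ∀ x ∈ P, g (f x) = x) :
    InB F D P g := by
  obtain ⟨β, hβ, hβf⟩ := h
  obtain ⟨β', hβ', hβ'β, -⟩ := hβ.symm
  refine ⟨β', hβ', fun x hx => ?_⟩
  obtain ⟨x₀, hx₀, rfl⟩ := hf.surjOn hx
  rw [hgf x₀ hx₀, ← hβf x₀ hx₀, hβ'β x₀ (hPD hx₀)]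

theorem conj (hD : D ≤ S) {y : Ω} (hy : y ∈ normalizerIn S D) :
    InB F D P (fun x => y * x * y⁻¹) :=
  ⟨_, isIso_conj_normalizer F hD hy, fun _ _ => rfl⟩

end InB

/-- For a good pair `(W, h)` for `K = stabK L` with `L` a `p`-group, every `χ ∈ K ∩ Aut_F(V)`
satisfies `h ∘ χ = c_w ∘ h` on `P` for some `w ∈ S`. -/
theorem exists_conj_of_good [Finite S] {p : ℕ} [Fact p.Prime] {F : FusionSystem S}
    {V P W : Subgroup Ω} (hPV : P ≤ V) {L : Subgroup (MulAut P)} (hL : IsPGroup p L)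
    {h : Ω → Ω} (hh : IsIso F V W h)
    (hcard : Nat.card (AS S (stabK hPV L) h) =
      p ^ (Nat.card ↥(stabK hPV L ⊓ F.autGroup V)).factorization p)
    {χ : MulAut V} (hχ : χ ∈ stabK hPV L ⊓ F.autGroup V) :
    ∃ w ∈ S, ∀ x : P, h ((χ ⟨x, hPV x.2⟩ : V) : Ω) = w * h x * w⁻¹ := by
  have hVS : V ≤ S := hh.le_left
  have hfinV : Finite V := finite_of_le S hVS
  have hle : stabK hPV L ⊓ F.autGroup V ≤ stab V P := inf_le_left.trans (stabK_le_stab hPV L)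
  let f : ↥(stabK hPV L ⊓ F.autGroup V) →* MulAut P := (stabRes hPV).comp (Subgroup.inclusion hle)
  have hfr : f.range ≤ L := by
    rintro _ ⟨g, rfl⟩
    obtain ⟨hg', hgL⟩ := (mem_stabK_iff hPV L g).1 g.2.1
    exact hgL
  have hfp : IsPGroup p f.range := hL.to_le hfr
  have hASA : AS S (stabK hPV L) h ≤ stabK hPV L ⊓ F.autGroup V :=
    le_inf (AS_le _ _) (AS_le_autGroup hh _)
  have hc1 : Nat.card ((AS S (stabK hPV L) h).subgroupOf (stabK hPV L ⊓ F.autGroup V)) =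
      p ^ (Nat.card ↥(stabK hPV L ⊓ F.autGroup V)).factorization p := by
    rw [← hcard]
    exact Nat.card_congr (Subgroup.subgroupOfEquivOfLe hASA).toEquiv
  obtain ⟨t, ht, hft⟩ := map_eq_map_of_card f hfp hc1 ⟨χ, hχ⟩
  obtain ⟨-, w, hwS, hw⟩ := (Subgroup.mem_subgroupOf.1 ht : (t : MulAut V) ∈ AS S _ h)
  refine ⟨w, hwS, fun x => ?_⟩
  have h1 : ((f t x : P) : Ω) = ((f ⟨χ, hχ⟩ x : P) : Ω) := by rw [hft]
  have h2 : (((t : MulAut V) ⟨x, hPV x.2⟩ : V) : Ω) = ((χ ⟨x, hPV x.2⟩ : V) : Ω) := h1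
  rw [← h2]
  exact hw ⟨x, hPV x.2⟩

section

variable [Finite S] {p : ℕ} [Fact p.Prime] (hS : IsPGroup p S) {F : FusionSystem S} {n : ℕ}
  (hgood : ∀ X : Subgroup Ω, X ≤ S → n < Nat.card X →
    ∃ W, F.IsConj X W ∧ F.IsFullyAutomized p W ∧ F.IsReceptive W)
  (K₀ : (Q : Subgroup Ω) → Subgroup (MulAut Q))
  (hKp : ∀ Q : Subgroup Ω, IsPGroup p (K₀ Q))
  (hKinv : ∀ (Q Q' : Subgroup Ω) (f : Ω → Ω), IsIso F Q Q' f → ∀ e : Q ≃* Q',
    (∀ x : Q, ((e x : Q') : Ω) = f x) → ∀ k ∈ K₀ Q, MulAut.congr e k ∈ K₀ Q')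
  (hKinn : ∀ Q : Subgroup Ω, Q ≤ S → ∀ g ∈ Q, ∃ k ∈ K₀ Q, ∀ x : Q, ((k x : Q) : Ω) = g * x * g⁻¹)
  {P : Subgroup Ω} (hPS : P ≤ S) (hPn : Nat.card P = n)
  (univ : ∀ Q, F.IsConj Q P → UMap F Q P)

include hS hgood hKp hKinv hKinn hPS hPn univ

/-- Step C1, main claim: an isomorphism between subgroups of `N_S(P)` strictly containing `P`
that stabilizes `P` restricts on `P` to the restriction of an automorphism of `D(P)`. -/
theorem claimA : ∀ (m : ℕ) (V V' : Subgroup Ω) (a : Ω → Ω), Nat.card S - Nat.card V = m →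
    P ≤ V → P ≠ V → V ≤ normalizerIn S P → IsIso F V V' a → IsIso F P P a →
    InB F (DD S K₀ P) P a := by
  intro m
  induction m using Nat.strong_induction_on with
  | _ m ih =>
  intro V V' a hm hPV hne hVN ha haP
  have hPD : P ≤ DD S K₀ P := le_DD K₀ hKinn hPS
  have hDN : DD S K₀ P ≤ normalizerIn S P := DD_le_normalizerIn K₀
  have hNS : normalizerIn S P ≤ S := inf_le_left
  have hDS : DD S K₀ P ≤ S := hDN.trans hNS
  have hVS : V ≤ S := ha.le_left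
  have hV'S : V' ≤ S := ha.le_right
  have hV'N : V' ≤ normalizerIn S P := image_le_normalizerIn ha hPV haP hVN
  have hPV' : P ≤ V' := image_le_of_le ha hPV haP
  have hfinD : Finite (DD S K₀ P) := finite_of_le S hDS
  have hfinP : Finite P := finite_of_le S hPS
  have hPN : P ≤ normalizerIn S P := le_normalizerIn hPS
  -- restriction to `D`
  have hkey : ∀ (V V' : Subgroup Ω) (a : Ω → Ω), IsIso F V V' a → IsIso F P P a → P ≤ V →
      DD S K₀ P ≤ V → IsIso F (DD S K₀ P) (DD S K₀ P) a := by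
    intro V V' a ha haP hPV hDV
    obtain ⟨D', -, haD, -⟩ := ha.restrict hDV
    have hD'D : D' ≤ DD S K₀ P := by
      intro z hz
      obtain ⟨d, hd, rfl⟩ := haD.surjOn hz
      exact map_DD K₀ hKinv ha hPV haP (hDV hd) hd
    have hc := haD.card_eq
    have : D' = DD S K₀ P := Subgroup.eq_of_le_of_card_ge hD'D (by omega)
    rwa [this] at haD
  by_cases hDV : DD S K₀ P ≤ V
  · exact ⟨a, hkey V V' a ha haP hPV hDV, fun _ _ => rfl⟩
  have hDV' : ¬ DD S K₀ P ≤ V' := by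
    intro hDV'
    obtain ⟨a', ha', ha'a, haa'⟩ := ha.symm
    have ha'P : IsIso F P P a' := IsIso.symm_restrict ha' ha'a hPV haP hPV'
    have h1 := hkey V' V a' ha' ha'P hPV' hDV'
    apply hDV
    intro d hd
    obtain ⟨d', hd', rfl⟩ := h1.surjOn hd
    exact ha'.map_mem (hDV' hd')
  have hnormD : normalizerIn S P ≤ Subgroup.normalizer ((DD S K₀ P : Subgroup Ω) : Set Ω) :=
    fun y hy => (normalizerIn_le_normalizer_DD K₀ hKinv hPS hy).2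
  obtain ⟨ya, hyaD, hyaV, hyaV'⟩ :=
    exists_mem_normalizer_not_mem_of_not_le hS hVS hDS (hVN.trans hnormD) hDV
  obtain ⟨yb, hybD, hybV, hybV'⟩ :=
    exists_mem_normalizer_not_mem_of_not_le hS hV'S hDS (hV'N.trans hnormD) hDV'
  have hcPV : Nat.card P < Nat.card V := card_lt_of_lt' hVS (lt_of_le_of_ne hPV hne)
  have hnV : n < Nat.card V := hPn ▸ hcPV
  obtain ⟨W₀, h₀, hh, hWrec, -, hcard⟩ :=
    exists_good' hS hVS (hgood V hVS hnV) (stabK hPV (K₀ P))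
  obtain ⟨P₂, -, hhP, -⟩ := hh.restrict hPV
  obtain ⟨χa, ψa, Na, Na', hχa, hψa, hNKa, hVNa, hψav, -⟩ :=
    K_extend hS (stabK hPV (K₀ P)) hWrec hh hcard (IsIso.refl hVS)
  obtain ⟨χb, ψb, Nb, Nb', hχb, hψb, hNKb, hV'Nb, hψbv, -⟩ :=
    K_extend hS (stabK hPV (K₀ P)) hWrec hh hcard ha
  have hψaP : IsIso F P P₂ ψa :=
    isIso_of_stab hψa hVNa hPV (IsIso.refl hVS) (IsIso.refl hPS) hhP
      (stabK_le_stab hPV _ hχa.1) hψav
  have hψbP : IsIso F P P₂ ψb :=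
    isIso_of_stab hψb hV'Nb hPV ha haP hhP (stabK_le_stab hPV _ hχb.1) hψbv
  have hyaNK : ya ∈ NK S (stabK hPV (K₀ P)) id := by
    obtain ⟨hyaS, la, hla, hlav⟩ := hyaD
    exact mem_NK_stabK_of (F := F) hPV (IsIso.refl hVS) ⟨hyaS, hyaV⟩ hla hlav
  have hybNK : yb ∈ NK S (stabK hPV (K₀ P)) a := by
    obtain ⟨hybS, l₀, hl₀, hl₀v⟩ := hybD
    obtain ⟨g, hg, heg, -, -⟩ := haP.symm_equiv haP.toMulEquiv (fun x => haP.toMulEquiv_apply x)
    have hl := hKinv P P g hg haP.toMulEquiv.symm heg l₀ hl₀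
    refine mem_NK_stabK_of hPV ha ⟨hybS, hybV⟩ hl (fun x => ?_)
    show a ((haP.toMulEquiv.symm (l₀ (haP.toMulEquiv.symm.symm x)) : P) : Ω) = _
    rw [haP.toMulEquiv_symm_apply]
    have h1 := hl₀v (haP.toMulEquiv x)
    have h2 : ((l₀ (haP.toMulEquiv x) : P) : Ω) =
        yb * ((haP.toMulEquiv x : P) : Ω) * yb⁻¹ := h1
    rw [haP.toMulEquiv_apply] at h2
    exact h2
  -- the universal map for `P₂`
  obtain ⟨χ₂, N₂', hχ₂, hχ₂P⟩ := univ P₂ (isConj_symm F hhP.isConj)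
  have hP₂S : P₂ ≤ S := hhP.le_right
  have hfinP₂ : Finite P₂ := finite_of_le S hP₂S
  have hP₂N : P₂ ≤ normalizerIn S P₂ := le_normalizerIn hP₂S
  have hN₂'N : N₂' ≤ normalizerIn S P := image_le_normalizerIn hχ₂ hP₂N hχ₂P le_rfl
  -- induction step for the two extensions
  have hstep : ∀ (N N' : Subgroup Ω) (ψ : Ω → Ω) (V₀ : Subgroup Ω) (y : Ω), IsIso F N N' ψ →
      IsIso F P P₂ ψ → V₀ ≤ N → V₀ ≤ normalizerIn S P → P ≤ V₀ → Nat.card V₀ = Nat.card V →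
      y ∈ N → y ∈ normalizerIn S P → y ∉ V₀ → InB F (DD S K₀ P) P (χ₂ ∘ ψ) := by
    intro N N' ψ V₀ y hψ hψP hV₀N hV₀NP hPV₀ hcV₀ hyN hyNP hyV₀
    obtain ⟨Y, hYdef⟩ : ∃ Y : Subgroup Ω, Y = N ⊓ normalizerIn S P := ⟨_, rfl⟩
    have hYN : Y ≤ N := hYdef ▸ inf_le_left
    have hYNP : Y ≤ normalizerIn S P := hYdef ▸ inf_le_right
    have hV₀Y : V₀ ≤ Y := hYdef ▸ le_inf hV₀N hV₀NP
    have hyY : y ∈ Y := by
      rw [hYdef]
      exact ⟨hyN, hyNP⟩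
    have hPY : P ≤ Y := hPV₀.trans hV₀Y
    obtain ⟨Y', -, hψY, -⟩ := hψ.restrict hYN
    have hY'N : Y' ≤ normalizerIn S P₂ := image_le_normalizerIn hψY hPY hψP hYNP
    obtain ⟨V₃, -, hχY', -⟩ := hχ₂.restrict hY'N
    have hYS : Y ≤ S := hYNP.trans hNS
    have hfinY : Finite Y := finite_of_le S hYS
    have hcY : Nat.card V₀ < Nat.card Y :=
      card_lt_of_lt' hYS (lt_of_le_of_ne hV₀Y (fun h => hyV₀ (h ▸ hyY)))
    have hcYS : Nat.card Y ≤ Nat.card S := Subgroup.card_le_of_le hYS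
    refine ih (Nat.card S - Nat.card Y) (by omega) Y V₃ (χ₂ ∘ ψ) rfl hPY ?_ hYNP
      (hψY.trans hχY') (hψP.trans hχ₂P)
    intro h
    rw [← h] at hcY
    omega
  have hη : InB F (DD S K₀ P) P (χ₂ ∘ ψa) :=
    hstep Na Na' ψa V ya hψa hψaP hVNa hVN hPV rfl (hNKa hyaNK) (hDN hyaD) hyaV'
  have hω : InB F (DD S K₀ P) P (χ₂ ∘ ψb) :=
    hstep Nb Nb' ψb V' yb hψb hψbP hV'Nb hV'N hPV' ha.card_eq.symm (hNKb hybNK) (hDN hybD) hybV'
  -- the twists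
  obtain ⟨wa, hwaS, hwa⟩ := exists_conj_of_good hPV (hKp P) hh hcard hχa
  obtain ⟨wb, hwbS, hwb⟩ := exists_conj_of_good hPV (hKp P) hh hcard hχb
  have hwN : ∀ (χ : MulAut V) (w : Ω), χ ∈ stab V P → w ∈ S →
      (∀ x : P, h₀ ((χ ⟨x, hPV x.2⟩ : V) : Ω) = w * h₀ x * w⁻¹) → w ∈ normalizerIn S P₂ := by
    intro χ w hχ hwS hw
    refine ⟨hwS, mem_normalizer_of_conj_mem (fun z hz => ?_)⟩
    obtain ⟨x, hx, rfl⟩ := hhP.surjOn hz
    rw [← hw ⟨x, hx⟩]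
    exact hhP.map_mem ((hχ ⟨x, hPV hx⟩).1 hx)
  have hwaN : wa ∈ normalizerIn S P₂ := hwN χa wa (stabK_le_stab hPV _ hχa.1) hwaS hwa
  have hwbN : wb ∈ normalizerIn S P₂ := hwN χb wb (stabK_le_stab hPV _ hχb.1) hwbS hwb
  have hcaN : χ₂ wa ∈ normalizerIn S P := hN₂'N (hχ₂.map_mem hwaN)
  have hcbN : χ₂ wb ∈ normalizerIn S P := hN₂'N (hχ₂.map_mem hwbN)
  have hχ₂conj : ∀ w ∈ normalizerIn S P₂, ∀ z ∈ P₂,
      χ₂ (w * z * w⁻¹) = χ₂ w * χ₂ z * (χ₂ w)⁻¹ := by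
    intro w hw z hz
    have hzN := hP₂N hz
    rw [hχ₂.map_mul (Subgroup.mul_mem _ hw hzN) (Subgroup.inv_mem _ hw), hχ₂.map_mul hw hzN,
      hχ₂.map_inv hw]
  have hηv : ∀ x ∈ P, (χ₂ ∘ ψa) x = χ₂ wa * χ₂ (h₀ x) * (χ₂ wa)⁻¹ := by
    intro x hx
    show χ₂ (ψa (id x)) = _
    rw [hψav ⟨x, hPV hx⟩, hwa ⟨x, hx⟩, hχ₂conj wa hwaN _ (hhP.map_mem hx)]
  have hωv : ∀ x ∈ P, (χ₂ ∘ ψb) (a x) = χ₂ wb * χ₂ (h₀ x) * (χ₂ wb)⁻¹ := by
    intro x hx
    show χ₂ (ψb (a x)) = _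
    rw [hψbv ⟨x, hPV hx⟩, hwb ⟨x, hx⟩, hχ₂conj wb hwbN _ (hhP.map_mem hx)]
  obtain ⟨y, hydef⟩ : ∃ y : Ω, y = χ₂ wb * (χ₂ wa)⁻¹ := ⟨_, rfl⟩
  have hyN : y ∈ normalizerIn S P := by
    rw [hydef]
    exact Subgroup.mul_mem _ hcbN (Subgroup.inv_mem _ hcaN)
  have hrel : ∀ x ∈ P, (χ₂ ∘ ψb) (a x) = y * (χ₂ ∘ ψa) x * y⁻¹ := by
    intro x hx
    rw [hωv x hx, hηv x hx, hydef]
    group
  have hcy : InB F (DD S K₀ P) P (fun x => y * x * y⁻¹) :=
    InB.conj hDS (normalizerIn_le_normalizer_DD K₀ hKinv hPS hyN)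
  have hηP : IsIso F P P (χ₂ ∘ ψa) := hψaP.trans hχ₂P
  have hωP : IsIso F P P (χ₂ ∘ ψb) := hψbP.trans hχ₂P
  obtain ⟨ω', hω', hω'ω, -⟩ := hωP.symm
  have hω'B : InB F (DD S K₀ P) P ω' := hω.symm hPD hωP hω'ω
  have h1 : InB F (DD S K₀ P) P ((fun x => y * x * y⁻¹) ∘ (χ₂ ∘ ψa)) :=
    hη.comp hcy (fun x hx => hηP.map_mem hx)
  have h2 : InB F (DD S K₀ P) P (ω' ∘ ((fun x => y * x * y⁻¹) ∘ (χ₂ ∘ ψa))) := by
    refine h1.comp hω'B (fun x hx => ?_)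
    show y * (χ₂ ∘ ψa) x * y⁻¹ ∈ P
    exact (Subgroup.mem_normalizer_iff.1 hyN.2 _).1 (hηP.map_mem hx)
  refine h2.congr (fun x hx => ?_)
  show ω' (y * (χ₂ ∘ ψa) x * y⁻¹) = a x
  rw [← hrel x hx]
  exact hω'ω _ (haP.map_mem hx)

/-- Step C1 along a `BigChain`: an isomorphism between members of the class, transported to `P`
by maps defined on normalizers, agrees on `P` with an automorphism of `D(P)`. -/
theorem inB_of_bigChain {P' Q : Subgroup Ω} {f : Ω → Ω} (hc : BigChain F P' Q f) :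
    ∀ (χP χP' χQ : Ω → Ω) (NP NQ : Subgroup Ω), IsIso F (normalizerIn S P') NP χP →
      IsIso F P' P χP → IsIso F NP (normalizerIn S P') χP' →
      (∀ x ∈ normalizerIn S P', χP' (χP x) = x) →
      IsIso F (normalizerIn S Q) NQ χQ → IsIso F Q P χQ →
      InB F (DD S K₀ P) P (χQ ∘ f ∘ χP') := by
  induction hc with
  | @step P' Q U U' f g hg hPU hne hUN hf hfg =>
    intro χP χP' χQ NP NQ hχP hχPP hχP' hinv hχQ hχQP
    obtain ⟨V, hVNP, hχPU, -⟩ := hχP.restrict hUN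
    have hχP'V : IsIso F V U χP' := IsIso.symm_restrict hχP' hinv hUN hχPU hVNP
    have hgP : IsIso F P' Q g := hf.congr hfg
    have hU'N : U' ≤ normalizerIn S Q := image_le_normalizerIn hg hPU hgP hUN
    obtain ⟨V'', -, hχQU', -⟩ := hχQ.restrict hU'N
    have hP'N : P' ≤ normalizerIn S P' := le_normalizerIn hf.le_left
    have hNPN : NP ≤ normalizerIn S P := image_le_normalizerIn hχP hP'N hχPP le_rfl
    have hPNP : P ≤ NP := image_le_of_le hχP hP'N hχPP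
    have hχP'P : IsIso F P P' χP' := IsIso.symm_restrict hχP' hinv hP'N hχPP hPNP
    have hPV : P ≤ V := image_le_of_le hχPU hPU hχPP
    have hUS : U ≤ S := hg.le_left
    have hc1 : Nat.card P' < Nat.card U := card_lt_of_lt' hUS (lt_of_le_of_ne hPU hne)
    have hc2 : Nat.card P' = Nat.card P := hχPP.card_eq
    have hc3 : Nat.card U = Nat.card V := hχPU.card_eq
    have hne' : P ≠ V := by
      intro h
      rw [← h] at hc3
      omega
    have hA := claimA hS hgood K₀ hKp hKinv hKinn hPS hPn univ _ V V'' (χQ ∘ g ∘ χP') rfl hPV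
      hne' (hVNP.trans hNPN) ((hχP'V.trans hg).trans hχQU') ((hχP'P.trans hgP).trans hχQP)
    refine hA.congr (fun x hx => ?_)
    show χQ (g (χP' x)) = χQ (f (χP' x))
    rw [hfg _ (hχP'P.map_mem hx)]
  | @trans P' Q R f g h h1 h2 hh ih1 ih2 =>
    intro χP χP' χR NP NR hχP hχPP hχP' hinv hχR hχRP
    have hQP : F.IsConj Q P := (h2.isIso.trans hχRP).isConj
    obtain ⟨χQ, NQ, hχQ, hχQP⟩ := univ Q hQP
    obtain ⟨χQ', hχQ', hinvQ, -⟩ := hχQ.symm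
    have hA := ih1 χP χP' χQ NP NQ hχP hχPP hχP' hinv hχQ hχQP
    have hB := ih2 χQ χQ' χR NQ NR hχQ hχQP hχQ' hinvQ hχR hχRP
    have hP'N : P' ≤ normalizerIn S P' := le_normalizerIn h1.isIso.le_left
    have hPNP : P ≤ NP := image_le_of_le hχP hP'N hχPP
    have hχP'P : IsIso F P P' χP' := IsIso.symm_restrict hχP' hinv hP'N hχPP hPNP
    have hQN : Q ≤ normalizerIn S Q := le_normalizerIn h1.isIso.le_right
    have hfP : ∀ x ∈ P, f (χP' x) ∈ Q := fun x hx => h1.isIso.map_mem (hχP'P.map_mem hx)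
    have hC := hA.comp hB (fun x hx => hχQP.map_mem (hfP x hx))
    refine hC.congr (fun x hx => ?_)
    show χR (g (χQ' (χQ (f (χP' x))))) = χR (h (χP' x))
    rw [hinvQ _ (hQN (hfP x hx)), hh _ (hχP'P.map_mem hx)]

/-- Step C1: every automorphism of `P` in the system is the restriction of an automorphism of
`D(P)` in the system. -/
theorem exists_extension_aut (hchain : ∀ f : Ω → Ω, IsIso F P P f → BigChain F P P f)
    {α : Ω → Ω} (hα : IsIso F P P α) : InB F (DD S K₀ P) P α := by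
  have hNS : normalizerIn S P ≤ S := inf_le_left
  have h := inB_of_bigChain hS hgood K₀ hKp hKinv hKinn hPS hPn univ (hchain α hα) id id id
    (normalizerIn S P) (normalizerIn S P) (IsIso.refl hNS) (IsIso.refl hPS) (IsIso.refl hNS)
    (fun _ _ => rfl) (IsIso.refl hNS) (IsIso.refl hPS)
  exact h.congr (fun _ _ => rfl)

end

end Cfsg.Agent.Lib.H25
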