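/-
Saturation criterion AKO Theorem I.3.10, steps C2 and C3: a fully normalized member `P` of the
class with `D(P) > P` receptive is fully automized and receptive.
-/
import Mathlib
import Cfsg.Prelude.Def_FusionSystem
import Cfsg.Agent.Lib.H25.SatCritC1
set_option autoImplicit false

namespace Cfsg.Agent.Lib.H25

open Cfsg Cfsg.FusionSystem

variable {Ω : Type*} [Group Ω] {S : Subgroup Ω}

theorem stabK_mono {U Q : Subgroup Ω} (hQU : Q ≤ U) {L L' : Subgroup (MulAut Q)} (h : L ≤ L') :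
    stabK hQU L ≤ stabK hQU L' :=
  Subgroup.map_mono (Subgroup.comap_mono h)

/-- Step C2: if every automorphism of `P` extends to `D` and `Aut_S(D) ∩ N(P)` has Sylow order in
`Aut_F(D) ∩ N(P)`, then `P` is fully automized. -/
theorem fullyAutomized_of_ext [Finite S] {p : ℕ} [Fact p.Prime] {F : FusionSystem S}
    {P D : Subgroup Ω} (hPS : P ≤ S) (hPD : P ≤ D) (hDS : D ≤ S)
    (hND : normalizerIn S P ≤ normalizerIn S D)
    (hext : ∀ α : Ω → Ω, IsIso F P P α → InB F D P α)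
    (hT : Nat.card (AS S (stabK hPD ⊤) id) =
      p ^ (Nat.card ↥(stabK hPD ⊤ ⊓ F.autGroup D)).factorization p) :
    F.IsFullyAutomized p P := by
  have hfinD : Finite D := finite_of_le S hDS
  have hle : stabK hPD ⊤ ⊓ F.autGroup D ≤ stab D P := inf_le_left.trans (stabK_le_stab hPD ⊤)
  have hres : ∀ σ : ↥(stabK hPD ⊤ ⊓ F.autGroup D),
      ((stabRes hPD).comp (Subgroup.inclusion hle)) σ ∈ F.autGroup P := by
    intro σ
    have h1 : IsIso F D D (aut1 (σ : MulAut D)) := isIso_aut1 F hDS σ.2.2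
    have h2 : IsIso F P P (aut1 (σ : MulAut D)) := by
      refine h1.restrict' hPD (fun x hx => ?_) (fun y hy => ?_)
      · rw [aut1_apply_mem _ (hPD hx)]
        exact ((hle σ.2) ⟨x, hPD hx⟩).1 hx
      · refine ⟨(((σ : MulAut D)⁻¹ ⟨y, hPD hy⟩ : D) : Ω),
          (((stab D P).inv_mem (hle σ.2)) ⟨y, hPD hy⟩).1 hy, ?_⟩
        rw [aut1_apply]
        simp
    obtain ⟨α, hα, hαv⟩ := exists_mem_autGroup_of_isIso F h2
    have : ((stabRes hPD).comp (Subgroup.inclusion hle)) σ = α := by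
      ext x
      rw [hαv, aut1_apply_mem _ (hPD x.2)]
      rfl
    rw [this]
    exact hα
  let ρ : ↥(stabK hPD ⊤ ⊓ F.autGroup D) →* ↥(F.autGroup P) :=
    ((stabRes hPD).comp (Subgroup.inclusion hle)).codRestrict (F.autGroup P) hres
  have hρsurj : Function.Surjective ρ := by
    rintro ⟨α, hα⟩
    have hαiso := isIso_of_mem_autGroup F hPS hα
    obtain ⟨β, hβ, hβα⟩ := hext _ hαiso
    obtain ⟨σ, hσ, hσv⟩ := exists_mem_autGroup_of_isIso F hβ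
    have hval : ∀ x : P, ((σ ⟨x, hPD x.2⟩ : D) : Ω) = ((α x : P) : Ω) := by
      intro x
      rw [hσv, hβα x x.2, ext1_apply]
      rfl
    have hσK : σ ∈ stabK hPD ⊤ := mem_stabK_of hPD (Subgroup.mem_top α) hval
    refine ⟨⟨σ, hσK, hσ⟩, Subtype.ext ?_⟩
    ext x
    exact hval x
  have hTle : AS S (stabK hPD ⊤) id ≤ stabK hPD ⊤ ⊓ F.autGroup D :=
    le_inf (AS_le _ _) (AS_le_autGroup (IsIso.refl hDS) _)
  have hc : Nat.card ((AS S (stabK hPD ⊤) id).subgroupOf (stabK hPD ⊤ ⊓ F.autGroup D)) =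
      p ^ (Nat.card ↥(stabK hPD ⊤ ⊓ F.autGroup D)).factorization p := by
    rw [← hT]
    exact Nat.card_congr (Subgroup.subgroupOfEquivOfLe hTle).toEquiv
  refine ⟨hPS, (Sylow.ofCard _ hc).mapSurjective hρsurj, ?_⟩
  rw [Sylow.coe_mapSurjective, Sylow.coe_ofCard]
  ext α
  rw [Subgroup.mem_subgroupOf, mem_autInducedBy_iff]
  constructor
  · rintro ⟨t, ht, rfl⟩
    obtain ⟨-, y, hyS, hy⟩ := Subgroup.mem_subgroupOf.1 ht
    exact ⟨y, hyS, fun x => hy ⟨x, hPD x.2⟩⟩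
  · rintro ⟨g, hgS, hg⟩
    have hgN : g ∈ normalizerIn S P := ⟨hgS, mem_normalizer_of_induces hg⟩
    obtain ⟨k, hk, hkv⟩ := exists_pull (F := F) (IsIso.refl hDS) (hND hgN)
    have hval : ∀ x : P, ((k ⟨x, hPD x.2⟩ : D) : Ω) = (((α : MulAut P) x : P) : Ω) := by
      intro x
      rw [hg]
      exact hkv ⟨x, hPD x.2⟩
    have hkK : k ∈ stabK hPD ⊤ := mem_stabK_of hPD (Subgroup.mem_top (α : MulAut P)) hval
    refine ⟨⟨k, hkK, hk⟩, ?_, Subtype.ext ?_⟩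
    · exact Subgroup.mem_subgroupOf.2 ⟨hkK, g, hgS, hkv⟩
    · ext x
      exact hval x

section

variable [Finite S] {p : ℕ} [Fact p.Prime] (hS : IsPGroup p S) {F : FusionSystem S}
  (K₀ : (Q : Subgroup Ω) → Subgroup (MulAut Q))
  (hKp : ∀ Q : Subgroup Ω, IsPGroup p (K₀ Q))
  (hKle : ∀ Q : Subgroup Ω, K₀ Q ≤ F.autGroup Q)
  (hKinv : ∀ (Q Q' : Subgroup Ω) (f : Ω → Ω), IsIso F Q Q' f → ∀ e : Q ≃* Q',
    (∀ x : Q, ((e x : Q') : Ω) = f x) → ∀ k ∈ K₀ Q, MulAut.congr e k ∈ K₀ Q')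

include hKp hKle hKinv in
/-- If `P` is fully automized then `K₀(P) ≤ Aut_S(P)`. -/
theorem K0_le_autInducedBy {P : Subgroup Ω} (hfa : F.IsFullyAutomized p P) :
    K₀ P ≤ autInducedBy S P := by
  have hPS : P ≤ S := hfa.1
  obtain ⟨a, ha, hconj⟩ := IsFullyAutomized_exists_conj hfa (K₀ P) (hKp P) (hKle P)
  intro k hk
  have ha' : a⁻¹ ∈ F.autGroup P := Subgroup.inv_mem _ ha
  have h1 := hKinv P P (aut1 a⁻¹) (isIso_aut1 F hPS ha') (a⁻¹ : MulAut P)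
    (fun x => (aut1_apply a⁻¹ x).symm) k hk
  have h2 : MulAut.congr (a⁻¹ : MulAut P) k = a⁻¹ * k * a := by
    ext x
    rfl
  rw [h2] at h1
  have h3 := hconj _ h1
  have h4 : a * (a⁻¹ * k * a) * a⁻¹ = k := by group
  rwa [h4] at h3

include hS hKinv in
/-- Step C3 for automorphisms: an automorphism `α` of `P` extends to every subgroup `V` of
`N_S(P)` containing `P` whose action on `P`, transported by `α`, is induced by `S`. -/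
theorem aut_extend {P : Subgroup Ω} (hPS : P ≤ S) (hPD : P ≤ DD S K₀ P)
    (hKS : K₀ P ≤ autInducedBy S P)
    (hext : ∀ α : Ω → Ω, IsIso F P P α → InB F (DD S K₀ P) P α)
    (hT : Nat.card (AS S (stabK hPD ⊤) id) =
      p ^ (Nat.card ↥(stabK hPD ⊤ ⊓ F.autGroup (DD S K₀ P))).factorization p)
    (hrec : F.IsReceptive (DD S K₀ P))
    {α : Ω → Ω} (hα : IsIso F P P α) {V : Subgroup Ω} (hPV : P ≤ V)
    (hVα : ∀ v ∈ V, v ∈ S ∧ v ∈ Subgroup.normalizer (P : Set Ω) ∧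
      ∃ h ∈ S, ∀ x ∈ P, α (v * x * v⁻¹) = h * α x * h⁻¹) :
    ∃ (a : Ω → Ω) (V' : Subgroup Ω), IsIso F V V' a ∧ ∀ x ∈ P, a x = α x := by
  have hDN : DD S K₀ P ≤ normalizerIn S P := DD_le_normalizerIn K₀
  have hNS : normalizerIn S P ≤ S := inf_le_left
  have hDS : DD S K₀ P ≤ S := hDN.trans hNS
  have hND : normalizerIn S P ≤ normalizerIn S (DD S K₀ P) :=
    normalizerIn_le_normalizer_DD K₀ hKinv hPS
  have hfinD : Finite (DD S K₀ P) := finite_of_le S hDS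
  have hfinP : Finite P := finite_of_le S hPS
  obtain ⟨φα, hφα, hφαf, hφαr⟩ := hα
  have hα : IsIso F P P α := ⟨φα, hφα, hφαf, hφαr⟩
  obtain ⟨V₁, hV₁def⟩ : ∃ V₁ : Subgroup Ω, V₁ = extender S P φα := ⟨_, rfl⟩
  have hV₁mem : ∀ g, g ∈ V₁ ↔ g ∈ S ∧ g ∈ Subgroup.normalizer (P : Set Ω) ∧
      ∃ h ∈ S, ∀ x ∈ P, α (g * x * g⁻¹) = h * α x * h⁻¹ := by
    intro g
    rw [hV₁def]
    exact mem_extender_iff' hφαf g
  have hVV₁ : V ≤ V₁ := fun v hv => (hV₁mem v).2 (hVα v hv)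
  have hV₁N : V₁ ≤ normalizerIn S P := fun g hg => ⟨((hV₁mem g).1 hg).1, ((hV₁mem g).1 hg).2.1⟩
  have hV₁S : V₁ ≤ S := hV₁N.trans hNS
  have hDV₁ : DD S K₀ P ≤ V₁ := by
    intro d hd
    have hdN := hDN hd
    rw [hV₁mem]
    refine ⟨hdN.1, hdN.2, ?_⟩
    obtain ⟨-, k, hk, hkd⟩ := hd
    have h1 := hKS (hKinv P P α hα hα.toMulEquiv (fun x => hα.toMulEquiv_apply x) k hk)
    obtain ⟨h, hhS, hh⟩ := (mem_autInducedBy_iff S P _).1 h1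
    refine ⟨h, hhS, fun x hx => ?_⟩
    have h2 := hh (hα.toMulEquiv ⟨x, hx⟩)
    have h3 : ((MulAut.congr hα.toMulEquiv k (hα.toMulEquiv ⟨x, hx⟩) : P) : Ω) =
        α ((k ⟨x, hx⟩ : P) : Ω) := by
      show ((hα.toMulEquiv (k (hα.toMulEquiv.symm (hα.toMulEquiv ⟨x, hx⟩))) : P) : Ω) = _
      rw [hα.toMulEquiv_apply]
      simp
    rw [h3, hα.toMulEquiv_apply] at h2
    have h4 : ((k ⟨x, hx⟩ : P) : Ω) = d * x * d⁻¹ := hkd ⟨x, hx⟩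
    rw [h4] at h2
    exact h2
  -- lift `α` to `D`
  obtain ⟨β, hβ, hβα⟩ := hext α hα
  obtain ⟨σβ, hσβ, hσβv⟩ := exists_mem_autGroup_of_isIso F hβ
  obtain ⟨αa, hαa, hαav⟩ := exists_mem_autGroup_of_isIso F hα
  have hσβval : ∀ x : P, ((σβ ⟨x, hPD x.2⟩ : DD S K₀ P) : Ω) = ((αa x : P) : Ω) := by
    intro x
    rw [hσβv, hβα x x.2, hαav]
  have hσβK : σβ ∈ stabK hPD ⊤ := mem_stabK_of hPD (Subgroup.mem_top αa) hσβval
  have hσβstab : σβ ∈ stab (DD S K₀ P) P := stabK_le_stab hPD ⊤ hσβK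
  -- the groups `A`, `D₀`, `M`
  have hAp : IsPGroup p (autInducedBy V₁ (DD S K₀ P)) :=
    autInducedBy_isPGroup (hS.to_le hV₁S) _
  have hAle : autInducedBy V₁ (DD S K₀ P) ≤ F.autGroup (DD S K₀ P) := by
    intro c hc
    obtain ⟨v, hv, hcv⟩ := (mem_autInducedBy_iff _ _ c).1 hc
    exact autInducedBy_le_autGroup F hDS ((mem_autInducedBy_iff _ _ c).2 ⟨v, hV₁S hv, hcv⟩)
  have hD₀p : IsPGroup p
      ((autInducedBy V₁ (DD S K₀ P)).map (MulAut.conj σβ).toMonoidHom) := hAp.map _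
  have hMSg : stabK hPD (autInducedBy S P) ⊓ F.autGroup (DD S K₀ P) ≤
      stabK hPD ⊤ ⊓ F.autGroup (DD S K₀ P) :=
    inf_le_inf_right _ (stabK_mono hPD le_top)
  have hTM : AS S (stabK hPD ⊤) id ≤
      stabK hPD (autInducedBy S P) ⊓ F.autGroup (DD S K₀ P) := by
    intro t ht
    refine ⟨?_, AS_le_autGroup (IsIso.refl hDS) _ ht⟩
    obtain ⟨htK, y, hyS, hy⟩ := ht
    have htstab := stabK_le_stab hPD ⊤ htK
    refine mem_stabK_of hPD (l := stabRes hPD ⟨t, htstab⟩) ?_ (fun x => rfl)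
    rw [mem_autInducedBy_iff]
    exact ⟨y, hyS, fun x => hy ⟨x, hPD x.2⟩⟩
  have hD₀M : (autInducedBy V₁ (DD S K₀ P)).map (MulAut.conj σβ).toMonoidHom ≤
      stabK hPD (autInducedBy S P) ⊓ F.autGroup (DD S K₀ P) := by
    rintro _ ⟨c, hc, rfl⟩
    have hcF := hAle hc
    refine ⟨?_, ?_⟩
    · obtain ⟨v, hv, hcv⟩ := (mem_autInducedBy_iff _ _ c).1 hc
      obtain ⟨hvS, hvN, h, hhS, hh⟩ := (hV₁mem v).1 hv
      have hhN : h ∈ normalizerIn S P := by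
        refine ⟨hhS, mem_normalizer_of_conj_mem (fun y hy => ?_)⟩
        obtain ⟨x, hx, rfl⟩ := hα.surjOn hy
        rw [← hh x hx]
        exact hα.map_mem ((Subgroup.mem_normalizer_iff.1 hvN x).1 hx)
      obtain ⟨l, -, hl⟩ := exists_pull (F := F) (IsIso.refl hPS) hhN
      have hlS : l ∈ autInducedBy S P := (mem_autInducedBy_iff S P l).2 ⟨h, hhS, hl⟩
      refine mem_stabK_of hPD hlS (fun y => ?_)
      show ((σβ (c (σβ⁻¹ ⟨y, hPD y.2⟩)) : DD S K₀ P) : Ω) = _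
      have hx'P : ((σβ⁻¹ ⟨y, hPD y.2⟩ : DD S K₀ P) : Ω) ∈ P :=
        (((stab _ P).inv_mem hσβstab) ⟨y, hPD y.2⟩).1 y.2
      have hαx' : α ((σβ⁻¹ ⟨y, hPD y.2⟩ : DD S K₀ P) : Ω) = y := by
        rw [← hβα _ hx'P, ← hσβv]
        simp
      have hcx' : ((c (σβ⁻¹ ⟨y, hPD y.2⟩) : DD S K₀ P) : Ω) =
          v * ((σβ⁻¹ ⟨y, hPD y.2⟩ : DD S K₀ P) : Ω) * v⁻¹ := hcv _
      have hcx'P : ((c (σβ⁻¹ ⟨y, hPD y.2⟩) : DD S K₀ P) : Ω) ∈ P := by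
        rw [hcx']
        exact (Subgroup.mem_normalizer_iff.1 hvN _).1 hx'P
      rw [hσβv, hβα _ hcx'P, hcx', hh _ hx'P, hαx']
      exact (hl y).symm
    · exact Subgroup.mul_mem _ (Subgroup.mul_mem _ hσβ hcF) (Subgroup.inv_mem _ hσβ)
  have hcardM := card_eq_of_le_of_le hTM hMSg hT
  obtain ⟨m, hm, hmconj⟩ := sylow_conj hTM hcardM hD₀M hD₀p
  -- decompose `m = t * z`
  obtain ⟨l, hl, hml⟩ := exists_of_mem_stabK hPD hm.1
  obtain ⟨y, hyS, hy⟩ := (mem_autInducedBy_iff S P l).1 hl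
  have hyN : y ∈ normalizerIn S P := ⟨hyS, mem_normalizer_of_induces hy⟩
  obtain ⟨t, htF, htv⟩ := exists_pull (F := F) (IsIso.refl hDS) (hND hyN)
  have htval : ∀ x : P, ((t ⟨x, hPD x.2⟩ : DD S K₀ P) : Ω) = ((l x : P) : Ω) := by
    intro x
    rw [hy]
    exact htv ⟨x, hPD x.2⟩
  have htK : t ∈ stabK hPD ⊤ := mem_stabK_of hPD (Subgroup.mem_top l) htval
  have htT : t ∈ AS S (stabK hPD ⊤) id := ⟨htK, y, hyS, htv⟩
  have hzfix : ∀ x : P, (t⁻¹ * m) ⟨x, hPD x.2⟩ = ⟨x, hPD x.2⟩ := by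
    intro x
    show t⁻¹ (m ⟨x, hPD x.2⟩) = _
    have : m ⟨x, hPD x.2⟩ = t ⟨x, hPD x.2⟩ := Subtype.ext ((hml x).trans (htval x).symm)
    rw [this]
    simp
  have hzF : t⁻¹ * m ∈ F.autGroup (DD S K₀ P) :=
    Subgroup.mul_mem _ (Subgroup.inv_mem _ htF) hm.2
  have hzconj : ∀ d ∈ (autInducedBy V₁ (DD S K₀ P)).map (MulAut.conj σβ).toMonoidHom,
      (t⁻¹ * m) * d * (t⁻¹ * m)⁻¹ ∈ AS S (stabK hPD ⊤) id := by
    intro d hd
    have h1 := hmconj d hd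
    have h2 : (t⁻¹ * m) * d * (t⁻¹ * m)⁻¹ = t⁻¹ * (m * d * m⁻¹) * t := by group
    rw [h2]
    exact Subgroup.mul_mem _ (Subgroup.mul_mem _ (Subgroup.inv_mem _ htT) h1) htT
  -- the adjusted lift
  have hγF : t⁻¹ * m * σβ ∈ F.autGroup (DD S K₀ P) := Subgroup.mul_mem _ hzF hσβ
  have hf₀ : IsIso F (DD S K₀ P) (DD S K₀ P) (aut1 (t⁻¹ * m * σβ)) := isIso_aut1 F hDS hγF
  have hf₀P : ∀ x ∈ P, aut1 (t⁻¹ * m * σβ) x = α x := by
    intro x hx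
    rw [aut1_apply_mem _ (hPD hx)]
    show (((t⁻¹ * m) (σβ ⟨x, hPD hx⟩) : DD S K₀ P) : Ω) = α x
    have h1 : σβ ⟨x, hPD hx⟩ = ⟨((αa ⟨x, hx⟩ : P) : Ω), hPD (αa ⟨x, hx⟩).2⟩ :=
      Subtype.ext (hσβval ⟨x, hx⟩)
    rw [h1, hzfix (αa ⟨x, hx⟩)]
    exact hαav ⟨x, hx⟩
  obtain ⟨f', N', hf', hf'v⟩ := IsReceptive_extend hrec hf₀ V₁ (by
    intro v hv
    have hvN := hV₁N hv
    have hvND := hND hvN
    refine ⟨hvN.1, hvND.2, ?_⟩
    obtain ⟨c, hcF, hcv⟩ := exists_pull (F := F) (IsIso.refl hDS) hvND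
    have hcA : c ∈ autInducedBy V₁ (DD S K₀ P) :=
      (mem_autInducedBy_iff _ _ c).2 ⟨v, hv, hcv⟩
    have h1 := hzconj _ ⟨c, hcA, rfl⟩
    obtain ⟨-, w, hwS, hw⟩ := h1
    refine ⟨w, hwS, fun d hd => ?_⟩
    have hvd : v * d * v⁻¹ ∈ DD S K₀ P := (Subgroup.mem_normalizer_iff.1 hvND.2 d).1 hd
    rw [aut1_apply_mem _ hvd, aut1_apply_mem _ hd]
    have h2 := hw ((t⁻¹ * m * σβ) ⟨d, hd⟩)
    have h3 : (t⁻¹ * m * (MulAut.conj σβ).toMonoidHom c * (t⁻¹ * m)⁻¹)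
        ((t⁻¹ * m * σβ) ⟨d, hd⟩) = (t⁻¹ * m * σβ) (c ⟨d, hd⟩) := by
      have : (t⁻¹ * m * (MulAut.conj σβ).toMonoidHom c * (t⁻¹ * m)⁻¹) * (t⁻¹ * m * σβ) =
          (t⁻¹ * m * σβ) * c := by
        show (t⁻¹ * m * (σβ * c * σβ⁻¹) * (t⁻¹ * m)⁻¹) * (t⁻¹ * m * σβ) = (t⁻¹ * m * σβ) * c
        group
      rw [← MulAut.mul_apply, this, MulAut.mul_apply]
    rw [h3] at h2
    have h4 : c ⟨d, hd⟩ = ⟨v * d * v⁻¹, hvd⟩ := Subtype.ext (hcv ⟨d, hd⟩)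
    rw [h4] at h2
    exact h2)
  obtain ⟨V', -, hf'V, -⟩ := hf'.restrict hVV₁
  exact ⟨f', V', hf'V, fun x hx => (hf'v x (hPD hx) (hVV₁ (hPV hx))).trans (hf₀P x hx)⟩

include hS hKinv in
/-- Step C3: `P` is receptive. -/
theorem receptive_of_ext {P : Subgroup Ω} (hPS : P ≤ S) (hPD : P ≤ DD S K₀ P)
    (hKS : K₀ P ≤ autInducedBy S P)
    (univ : ∀ Q, F.IsConj Q P → UMap F Q P)
    (hext : ∀ α : Ω → Ω, IsIso F P P α → InB F (DD S K₀ P) P α)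
    (hT : Nat.card (AS S (stabK hPD ⊤) id) =
      p ^ (Nat.card ↥(stabK hPD ⊤ ⊓ F.autGroup (DD S K₀ P))).factorization p)
    (hrec : F.IsReceptive (DD S K₀ P)) : F.IsReceptive P := by
  refine isReceptive_of_extend hPS (fun Q f hf N hQN hN => ?_)
  obtain ⟨χ, Nχ, hχ, hχQ⟩ := univ Q hf.isConj
  obtain ⟨χ', hχ', hχ'χ, hχχ'⟩ := hχQ.symm
  have hαiso : IsIso F P P (f ∘ χ') := hχ'.trans hf
  have hQS : Q ≤ S := hf.le_left
  have hQNQ : Q ≤ normalizerIn S Q := le_normalizerIn hQS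
  have hNle : N ≤ normalizerIn S Q := fun g hg => ⟨(hN g hg).1, (hN g hg).2.1⟩
  obtain ⟨V, -, hχN, -⟩ := hχ.restrict hNle
  have hVN : V ≤ normalizerIn S P := image_le_normalizerIn hχN hQN hχQ hNle
  have hPV : P ≤ V := image_le_of_le hχN hQN hχQ
  have hVα : ∀ v ∈ V, v ∈ S ∧ v ∈ Subgroup.normalizer (P : Set Ω) ∧
      ∃ h ∈ S, ∀ x ∈ P, (f ∘ χ') (v * x * v⁻¹) = h * (f ∘ χ') x * h⁻¹ := by
    intro v hv
    refine ⟨(hVN hv).1, (hVN hv).2, ?_⟩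
    obtain ⟨g, hg, rfl⟩ := hχN.surjOn hv
    obtain ⟨-, hgNQ, h, hhS, hh⟩ := hN g hg
    refine ⟨h, hhS, fun x hx => ?_⟩
    have hx₀ : χ' x ∈ Q := hχ'.map_mem hx
    have hgx₀ : g * χ' x * g⁻¹ ∈ Q := (Subgroup.mem_normalizer_iff.1 hgNQ _).1 hx₀
    have hgN := hNle hg
    have h1 : χ g * x * (χ g)⁻¹ = χ (g * χ' x * g⁻¹) := by
      rw [hχ.map_mul (Subgroup.mul_mem _ hgN (hQNQ hx₀)) (Subgroup.inv_mem _ hgN),
        hχ.map_mul hgN (hQNQ hx₀), hχ.map_inv hgN, hχχ' x hx]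
    show f (χ' (χ g * x * (χ g)⁻¹)) = h * f (χ' x) * h⁻¹
    rw [h1, hχ'χ _ hgx₀]
    exact hh _ hx₀
  obtain ⟨a, V', ha, hav⟩ :=
    aut_extend hS K₀ hKinv hPS hPD hKS hext hT hrec hαiso hPV hVα
  refine ⟨a ∘ χ, V', hχN.trans ha, fun x hx => ?_⟩
  show a (χ x) = f x
  rw [hav _ (hχQ.map_mem hx)]
  show f (χ' (χ x)) = f x
  rw [hχ'χ x hx]

end

end Cfsg.Agent.Lib.H25
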