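/-
Saturation criterion AKO Theorem I.3.10 (BCGLO): a fusion system generated by its maps with source
in a conjugation-closed family `ℋ`, saturated on `ℋ`, and such that every centric subgroup outside
`ℋ` is conjugate to some `P` with `Aut_S(P) ∩ O_p(Aut_F(P)) ≰ Inn(P)`, is saturated.
-/
import Mathlib
import Cfsg.Prelude.Def_FusionSystem
import Cfsg.Agent.Lib.H25.SatCritC2
set_option autoImplicit false

namespace Cfsg.Agent.Lib.H25

open Cfsg Cfsg.FusionSystem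

variable {Ω : Type*} [Group Ω] {S : Subgroup Ω}

/-- `O_p(Aut_F(Q))` as a subgroup of `Aut(Q)`. -/
def K0 (F : FusionSystem S) (p : ℕ) (Q : Subgroup Ω) : Subgroup (MulAut Q) :=
  (pCore p ↥(F.autGroup Q)).map (F.autGroup Q).subtype

theorem K0_isPGroup (F : FusionSystem S) (p : ℕ) (Q : Subgroup Ω) : IsPGroup p (K0 F p Q) :=
  (pCore_isPGroup p _).map _

theorem K0_le (F : FusionSystem S) (p : ℕ) (Q : Subgroup Ω) : K0 F p Q ≤ F.autGroup Q := by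
  rintro _ ⟨k, -, rfl⟩
  exact k.2

theorem K0_inv (F : FusionSystem S) (p : ℕ) (Q Q' : Subgroup Ω) (f : Ω → Ω)
    (hf : IsIso F Q Q' f) (e : Q ≃* Q') (he : ∀ x : Q, ((e x : Q') : Ω) = f x) :
    ∀ k ∈ K0 F p Q, MulAut.congr e k ∈ K0 F p Q' := by
  rintro _ ⟨k, hk, rfl⟩
  let φ : ↥(F.autGroup Q) →* ↥(F.autGroup Q') :=
    ((MulAut.congr e).toMonoidHom.comp (F.autGroup Q).subtype).codRestrict (F.autGroup Q')
      (fun a => congr_mem_autGroup hf e he a.2)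
  have hφsurj : Function.Surjective φ := by
    rintro ⟨b, hb⟩
    rw [← map_congr_autGroup hf e he] at hb
    obtain ⟨a, ha, hab⟩ := hb
    exact ⟨⟨a, ha⟩, Subtype.ext hab⟩
  have hnorm : (pCore p ↥(F.autGroup Q)).Normal := Subgroup.sSup_normal _ (fun _ h => h.1)
  have hN : ((pCore p ↥(F.autGroup Q)).map φ).Normal := Subgroup.Normal.map hnorm φ hφsurj
  have hP : IsPGroup p ((pCore p ↥(F.autGroup Q)).map φ) := (pCore_isPGroup p _).map φ
  have hmem : φ k ∈ pCore p ↥(F.autGroup Q') := le_pCore hN hP ⟨k, hk, rfl⟩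
  exact ⟨φ k, hmem, rfl⟩

theorem K0_inn {p : ℕ} (hS : IsPGroup p S) (F : FusionSystem S) (Q : Subgroup Ω) (hQ : Q ≤ S) :
    ∀ g ∈ Q, ∃ k ∈ K0 F p Q, ∀ x : Q, ((k x : Q) : Ω) = g * x * g⁻¹ := by
  intro g hg
  have hInnF : Inn Q ≤ F.autGroup Q := by
    rintro _ ⟨q, rfl⟩
    apply autInducedBy_le_autGroup F hQ
    rw [mem_autInducedBy_iff]
    exact ⟨q, hQ q.2, fun x => rfl⟩
  have hInnp : IsPGroup p (Inn Q) :=
    IsPGroup.of_surjective (hS.to_le hQ) (MulAut.conj : Q →* MulAut Q).rangeRestrict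
      (MonoidHom.rangeRestrict_surjective _)
  have hN : ((Inn Q).subgroupOf (F.autGroup Q)).Normal := inferInstance
  have hP : IsPGroup p ((Inn Q).subgroupOf (F.autGroup Q)) := hInnp.comap_subtype
  have hk : MulAut.conj (⟨g, hg⟩ : Q) ∈ Inn Q := ⟨⟨g, hg⟩, rfl⟩
  have hmem : (⟨MulAut.conj (⟨g, hg⟩ : Q), hInnF hk⟩ : F.autGroup Q) ∈
      pCore p ↥(F.autGroup Q) := le_pCore hN hP (Subgroup.mem_subgroupOf.2 hk)
  exact ⟨MulAut.conj (⟨g, hg⟩ : Q), ⟨_, hmem, rfl⟩, fun x => rfl⟩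

/-! ### The case `P = S` -/

theorem genChain_top [Finite S] {F : FusionSystem S} {ℋ : Set (Subgroup Ω)} (hSℋ : S ∉ ℋ)
    {P Q : Subgroup Ω} {f : Ω → Ω} (h : GenChain F ℋ P Q f) :
    P = S → Q = S ∧ ∃ s ∈ S, ∀ x ∈ P, f x = s * x * s⁻¹ := by
  have hcard : ∀ {P Q : Subgroup Ω} {f : Ω → Ω}, IsIso F P Q f → P = S → Q = S := by
    intro P Q f hf hP
    have h1 := hf.card_eq
    rw [hP] at h1
    exact Subgroup.eq_of_le_of_card_ge hf.le_right (le_of_eq h1)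
  induction h with
  | @base P Q U U' f g hU hg hPU hf hfg =>
    intro hP
    exfalso
    apply hSℋ
    have : U = S := le_antisymm hg.le_left (hP ▸ hPU)
    rwa [← this]
  | @conj P Q f s hs hf hfs =>
    intro hP
    exact ⟨hcard hf hP, s, hs, hfs⟩
  | @trans P Q R f g h h1 h2 hh ih1 ih2 =>
    intro hP
    obtain ⟨hQ, s, hs, hfs⟩ := ih1 hP
    obtain ⟨hR, t, ht, hgt⟩ := ih2 hQ
    refine ⟨hR, t * s, S.mul_mem ht hs, fun x hx => ?_⟩
    rw [hh x hx, hgt _ (h1.isIso.map_mem hx), hfs x hx]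
    group

theorem top_case [Finite S] {p : ℕ} [Fact p.Prime] (hS : IsPGroup p S) (F : FusionSystem S)
    (ℋ : Set (Subgroup Ω)) (hℋconj : ∀ P ∈ ℋ, ∀ Q, F.IsConj P Q → Q ∈ ℋ)
    (hgen : ∀ E : FusionSystem S, (∀ P ∈ ℋ, F.Hom P ⊆ E.Hom P) → F ≤ E) (hSℋ : S ∉ ℋ) :
    F.IsFullyAutomized p S ∧ F.IsReceptive S := by
  have hle : F.autGroup S ≤ autInducedBy S S := by
    intro α hα
    have hiso := isIso_of_mem_autGroup F le_rfl hα
    obtain ⟨-, s, hs, hfs⟩ := genChain_top hSℋ (genChain_of_generated F ℋ hℋconj hgen hiso) rfl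
    rw [mem_autInducedBy_iff]
    refine ⟨s, hs, fun x => ?_⟩
    rw [← hfs x x.2, ext1_apply]
    rfl
  constructor
  · have hp : IsPGroup p ↥(F.autGroup S) := (autInducedBy_isPGroup hS S).to_le hle
    let R : Sylow p ↥(F.autGroup S) :=
      { toSubgroup := ⊤
        isPGroup' := hp.to_subgroup ⊤
        is_maximal' := fun _ h => top_le_iff.1 h }
    refine ⟨le_rfl, R, ?_⟩
    show (⊤ : Subgroup ↥(F.autGroup S)) = _
    symm
    rw [eq_top_iff]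
    intro a _
    exact Subgroup.mem_subgroupOf.2 (hle a.2)
  · refine isReceptive_of_extend le_rfl (fun Q f hf N hQN hN => ?_)
    have hQS : Q = S := by
      have h1 := hf.card_eq
      exact Subgroup.eq_of_le_of_card_ge hf.le_left (le_of_eq h1.symm)
    have hNS : N ≤ S := fun g hg => (hN g hg).1
    have hNQ : N = Q := le_antisymm (hQS ▸ hNS) hQN
    rw [hNQ]
    exact ⟨f, S, hf, fun _ _ => rfl⟩

/-! ### The main step -/

theorem core_step [Finite S] {p : ℕ} [Fact p.Prime] (hS : IsPGroup p S) (F : FusionSystem S)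
    (ℋ : Set (Subgroup Ω)) (hℋconj : ∀ P ∈ ℋ, ∀ Q, F.IsConj P Q → Q ∈ ℋ)
    (hsat : ∀ P ∈ ℋ, ∃ Q, F.IsConj P Q ∧ F.IsFullyAutomized p Q ∧ F.IsReceptive Q)
    (hgen : ∀ E : FusionSystem S, (∀ P ∈ ℋ, F.Hom P ⊆ E.Hom P) → F ≤ E)
    {P : Subgroup Ω} (hPS : P ≤ S) (hPℋ : P ∉ ℋ)
    (hbig : ∀ Q : Subgroup Ω, Q ≤ S → Nat.card P < Nat.card Q → Q ∈ ℋ)
    (hstar : F.IsCentric P → ∃ Q, F.IsConj P Q ∧ ¬ (autInducedBy S Q ⊓ K0 F p Q ≤ Inn Q)) :
    ∃ Q, F.IsConj P Q ∧ F.IsFullyAutomized p Q ∧ F.IsReceptive Q := by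
  by_cases hPeq : P = S
  · subst hPeq
    obtain ⟨h1, h2⟩ := top_case hS F ℋ hℋconj hgen hPℋ
    exact ⟨P, isConj_refl F le_rfl, h1, h2⟩
  have hcPS : Nat.card P < Nat.card S := card_lt_of_lt' le_rfl (lt_of_le_of_ne hPS hPeq)
  have hgood : ∀ X : Subgroup Ω, X ≤ S → Nat.card P < Nat.card X →
      ∃ W, F.IsConj X W ∧ F.IsFullyAutomized p W ∧ F.IsReceptive W :=
    fun X hX hn => hsat X (hbig X hX hn)
  have hchain : ∀ (Q Q' : Subgroup Ω) (f : Ω → Ω), F.IsConj P Q → IsIso F Q Q' f →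
      BigChain F Q Q' f := by
    intro Q Q' f hPQ hf
    have hQℋ : Q ∉ ℋ := fun h => hPℋ (hℋconj Q h P (isConj_symm F hPQ))
    have hQS : Q ≠ S := by
      intro h
      obtain ⟨f₀, hf₀⟩ := (isConj_iff F).1 hPQ
      have := hf₀.card_eq
      rw [h] at this
      omega
    exact (genChain_of_generated F ℋ hℋconj hgen hf).bigChain hS hℋconj hQℋ hQS
  have hKp := K0_isPGroup F p
  have hKle := K0_le F p
  have hKinv := K0_inv F p
  have hKinn := K0_inn hS F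
  obtain ⟨P₀, hPP₀, hP₀S, hmax⟩ := exists_fullyNormalized_conj F hPS
  obtain ⟨f₀, hf₀⟩ := (isConj_iff F).1 hPP₀
  have hP₀n : Nat.card P₀ = Nat.card P := hf₀.card_eq.symm
  have univ : ∀ Q, F.IsConj Q P₀ → UMap F Q P₀ := fun Q hQ =>
    stepB hS hgood hP₀n hmax
      (fun Q f hf => hchain Q P₀ f (isConj_trans F hPP₀ (isConj_symm F hf.isConj)) hf) hQ
  -- `D(P₀) ≠ P₀`
  have hex : ∃ Q, F.IsConj P Q ∧ ∃ g ∈ DD S (K0 F p) Q, g ∉ Q := by
    by_cases hcen : F.IsCentric P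
    · obtain ⟨Q, hPQ, hnot⟩ := hstar hcen
      obtain ⟨k, hk, hkI⟩ := SetLike.not_le_iff_exists.1 hnot
      obtain ⟨g, hgS, hg⟩ := (mem_autInducedBy_iff S Q k).1 hk.1
      refine ⟨Q, hPQ, g, ⟨hgS, k, hk.2, hg⟩, fun hgQ => hkI ?_⟩
      refine ⟨⟨g, hgQ⟩, ?_⟩
      ext x
      exact (hg x).symm
    · have : ∃ Q, F.IsConj P Q ∧ ¬ centralizerIn S Q ≤ Q := by
        by_contra hno
        apply hcen
        refine ⟨hPS, fun Q hQ => ?_⟩
        by_contra hn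
        exact hno ⟨Q, hQ, hn⟩
      obtain ⟨Q, hPQ, hnot⟩ := this
      obtain ⟨g, hgC, hgQ⟩ := SetLike.not_le_iff_exists.1 hnot
      refine ⟨Q, hPQ, g, ⟨hgC.1, 1, Subgroup.one_mem _, fun x => ?_⟩, hgQ⟩
      have h1 : (x : Ω) * g = g * x := hgC.2 x x.2
      show (x : Ω) = g * x * g⁻¹
      rw [← h1]
      group
  have hDne : DD S (K0 F p) P₀ ≠ P₀ := by
    obtain ⟨Q, hPQ, g, hgD, hgQ⟩ := hex
    have hQS : Q ≤ S := isConj_le_right F hPQ
    obtain ⟨χ, Nχ, hχ, hχQ⟩ := univ Q (isConj_trans F (isConj_symm F hPQ) hPP₀)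
    have hgN : g ∈ normalizerIn S Q := DD_le_normalizerIn (K0 F p) hgD
    have h1 : χ g ∈ DD S (K0 F p) P₀ :=
      map_DD (K0 F p) hKinv hχ (le_normalizerIn hQS) hχQ hgN hgD
    intro h
    rw [h] at h1
    obtain ⟨q, hq, hqg⟩ := hχQ.surjOn h1
    have := hχ.injOn (le_normalizerIn hQS hq) hgN hqg
    exact hgQ (this ▸ hq)
  obtain ⟨P₁, hP₀P₁, hcardN, hD₁ne, hD₁rec⟩ :=
    exists_receptive_DD hS hgood (K0 F p) hKinv hKinn hP₀S hP₀n hmax hDne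
  have hPP₁ : F.IsConj P P₁ := isConj_trans F hPP₀ hP₀P₁
  have hP₁S : P₁ ≤ S := isConj_le_right F hP₀P₁
  obtain ⟨f₁, hf₁⟩ := (isConj_iff F).1 hPP₁
  have hP₁n : Nat.card P₁ = Nat.card P := hf₁.card_eq.symm
  have hmax₁ : ∀ Q, F.IsConj P₁ Q →
      Nat.card (normalizerIn S Q) ≤ Nat.card (normalizerIn S P₁) := by
    intro Q hQ
    rw [hcardN]
    exact hmax Q (isConj_trans F hP₀P₁ hQ)
  have univ₁ : ∀ Q, F.IsConj Q P₁ → UMap F Q P₁ := fun Q hQ =>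
    stepB hS hgood hP₁n hmax₁
      (fun Q f hf => hchain Q P₁ f (isConj_trans F hPP₁ (isConj_symm F hf.isConj)) hf) hQ
  have hPD₁ : P₁ ≤ DD S (K0 F p) P₁ := le_DD (K0 F p) hKinn hP₁S
  have hD₁S : DD S (K0 F p) P₁ ≤ S :=
    (DD_le_normalizerIn (K0 F p)).trans inf_le_left
  have hT := card_AS_stab hS hgood (K0 F p) hKinv hP₁S hP₁n hmax₁ hD₁ne hPD₁
  have hext : ∀ α : Ω → Ω, IsIso F P₁ P₁ α → InB F (DD S (K0 F p) P₁) P₁ α := fun α hα =>
    exists_extension_aut hS hgood (K0 F p) hKp hKinv hKinn hP₁S hP₁n univ₁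
      (fun f hf => hchain P₁ P₁ f hPP₁ hf) hα
  have hfa : F.IsFullyAutomized p P₁ :=
    fullyAutomized_of_ext hP₁S hPD₁ hD₁S
      (normalizerIn_le_normalizer_DD (K0 F p) hKinv hP₁S) hext hT
  have hKS := K0_le_autInducedBy (K0 F p) hKp hKle hKinv hfa
  have hrec : F.IsReceptive P₁ :=
    receptive_of_ext hS (K0 F p) hKinv hP₁S hPD₁ hKS univ₁ hext hT hD₁rec
  exact ⟨P₁, hPP₁, hfa, hrec⟩

/-- **AKO Theorem I.3.10** (Broto–Castellana–Grodal–Levi–Oliver). -/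
theorem saturated_of_generated [Finite S] (p : ℕ) [Fact p.Prime] (hS : IsPGroup p S)
    (F : FusionSystem S) (ℋ : Set (Subgroup Ω))
    (hℋconj : ∀ P ∈ ℋ, ∀ Q, F.IsConj P Q → Q ∈ ℋ)
    (hsat : ∀ P ∈ ℋ, ∃ Q, F.IsConj P Q ∧ F.IsFullyAutomized p Q ∧ F.IsReceptive Q)
    (hgen : ∀ E : FusionSystem S, (∀ P ∈ ℋ, F.Hom P ⊆ E.Hom P) → F ≤ E)
    (hstar : ∀ P : Subgroup Ω, F.IsCentric P → P ∉ ℋ → ∃ Q, F.IsConj P Q ∧
      ¬ (autInducedBy S Q ⊓ (pCore p ↥(F.autGroup Q)).map (F.autGroup Q).subtype ≤ Inn Q)) :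
    F.IsSaturated p := by
  have key : ∀ d : ℕ, ∀ P : Subgroup Ω, P ≤ S → Nat.card S - Nat.card P = d →
      ∃ Q, F.IsConj P Q ∧ F.IsFullyAutomized p Q ∧ F.IsReceptive Q := by
    intro d
    induction d using Nat.strong_induction_on with
    | _ d ih =>
    intro P hPS hd
    by_cases hPℋ : P ∈ ℋ
    · exact hsat P hPℋ
    have hcle : ∀ Q : Subgroup Ω, Q ≤ S → Nat.card Q ≤ Nat.card S :=
      fun Q hQ => Subgroup.card_le_of_le hQ
    refine core_step hS F (ℋ ∪ {Q | Q ≤ S ∧ Nat.card P < Nat.card Q}) ?_ ?_ ?_ hPS ?_ ?_ ?_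
    · rintro Q (hQ | ⟨hQS, hQc⟩) R hQR
      · exact Or.inl (hℋconj Q hQ R hQR)
      · obtain ⟨f, hf⟩ := (isConj_iff F).1 hQR
        refine Or.inr ⟨hf.le_right, ?_⟩
        rw [← hf.card_eq]
        exact hQc
    · rintro Q (hQ | ⟨hQS, hQc⟩)
      · exact hsat Q hQ
      · have := hcle Q hQS
        exact ih (Nat.card S - Nat.card Q) (by omega) Q hQS rfl
    · intro E hE
      exact hgen E (fun Q hQ => hE Q (Or.inl hQ))
    · rintro (h | ⟨-, h⟩)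
      · exact hPℋ h
      · exact lt_irrefl _ h
    · intro Q hQS hQc
      exact Or.inr ⟨hQS, hQc⟩
    · intro hcen
      exact hstar P hcen hPℋ
  intro P hPS
  exact key _ P hPS rfl

end Cfsg.Agent.Lib.H25
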