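/-
Subsystems of index prime to `p` (AKO Theorem I.7.7): the systems `E_H` are saturated.
-/
import Mathlib
import Cfsg.Prelude.Def_FusionSystem
import Cfsg.Agent.Lib.H25.PPrimeRes
import Cfsg.Agent.Lib.H25.SatCritMain
set_option autoImplicit false

namespace Cfsg.Agent.Lib.H25

open Cfsg Cfsg.FusionSystem Cfsg.Agent.S5114

variable {Ω : Type*} [Group Ω] {S : Subgroup Ω}

section

variable [Finite S] {p : ℕ} [Fact p.Prime] (hS : IsPGroup p S) {F : FusionSystem S}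
  (hF : F.IsSaturated p) {H : (Ω → Ω) → (Ω → Ω) → Prop} (hH : AutFam F p H)

include hS hF in
/-- A map of `F` whose restriction to an `F`-centric subgroup lies in `E_H` lies in `E_H`. -/
theorem EH_ext_mem {Q N N' Q' : Subgroup Ω} {f' : Ω → Ω} (hQ : F.IsCentric Q) (hQN : Q ≤ N)
    (hf' : IsIso F N N' f') (hfQ : IsIso (EH F p hH) Q Q' f') : IsIso (EH F p hH) N N' f' := by
  obtain ⟨-, a, a', f₀, N₀, ha, h₀, hv⟩ := fiso_all hS hF (E0 F p) (pPHyp_E0 F p) N N' f' hf'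
  have hJ₀ : JIso F p N N₀ f₀ := JIso.of_iso₀ h₀
  obtain ⟨R, -, hf₀Q, -⟩ := hJ₀.toF.restrict hQN
  have hJQ : JIso F p Q R f₀ := hJ₀.restrict hQN hf₀Q
  have hRcen : F.IsCentric R := isCentric_of_isIso hQ hf₀Q
  obtain ⟨-, b, b', g₀, R₀, hb, hg₀, hw⟩ := (isIso_EH_iff hH).1 hfQ
  have hbS := hH.autS hb
  obtain ⟨k₀, hk₀, hk1, hk2⟩ := hf₀Q.symm
  have hJk : JIso F p R Q k₀ := hJQ.symm hk₀ hk1
  have hJ : JIso F p R R₀ (g₀ ∘ k₀) := hJk.trans hg₀
  have hval : ∀ y ∈ R, (g₀ ∘ k₀) y = (b' ∘ a) y := by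
    intro y hy
    obtain ⟨x, hx, rfl⟩ := hf₀Q.surjOn hy
    show g₀ (k₀ (f₀ x)) = b' (a (f₀ x))
    rw [hk1 x hx, ← hv x (hQN hx), hw x hx, hbS.2.2.1 _ (hg₀.toF.le_right (hg₀.toF.map_mem hx))]
  have hJ' : JIso F p R R₀ (b' ∘ a) := hJ.congr hval
  have hba : H (b' ∘ a) (a' ∘ b) := hH.gen (hbS.symm.trans ha) hRcen hJ'
  have h1 : H (b ∘ (b' ∘ a)) ((a' ∘ b) ∘ b') := hH.trans hb hba
  have haH : H a a' := by
    refine hH.congr h1 (fun x hx => ?_) (fun x hx => ?_)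
    · show b (b' (a x)) = a x
      exact hbS.2.2.2 _ (ha.1.map_mem hx)
    · show a' (b (b' x)) = a' x
      rw [hbS.2.2.2 x hx]
  exact (isIso_EH_iff hH).2 ⟨hf', a, a', f₀, N₀, haH, hJ₀, hv⟩

include hS hF in
/-- Every `F`-centric subgroup is `E_H`-conjugate to a subgroup fully automized and receptive in
`E_H`. -/
theorem EH_sat_centric {P : Subgroup Ω} (hP : F.IsCentric P) :
    ∃ Q, (EH F p hH).IsConj P Q ∧ (EH F p hH).IsFullyAutomized p Q ∧
      (EH F p hH).IsReceptive Q := by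
  obtain ⟨P', hPP', hP'fn⟩ := exists_fullyNormalized_conj F hP.1
  obtain ⟨f, hf⟩ := (isConj_iff F).1 hPP'
  obtain ⟨-, a, a', f₀, P₀, ha, h₀, hv⟩ := fiso_all hS hF (E0 F p) (pPHyp_E0 F p) P P' f hf
  obtain ⟨haP₀, ha'P'⟩ := factor_images hf ha h₀ hv
  have hP₀S : P₀ ≤ S := haP₀.le_left
  have hP'S : P' ≤ S := hf.le_right
  have hJ₀ : JIso F p P P₀ f₀ := JIso.of_iso₀ h₀
  have hP₀cen : F.IsCentric P₀ := isCentric_of_isIso hP hJ₀.toF
  -- `P₀` is fully normalized in `F`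
  have hP₀fn : F.IsFullyNormalized P₀ := by
    refine ⟨hP₀S, fun Q hQ => ?_⟩
    have h1 := hP'fn.2 Q (isConj_trans F (isConj_symm F haP₀.isConj) hQ)
    obtain ⟨N₁, -, ha'N, -⟩ := ha.2.1.restrict (inf_le_left : normalizerIn S P' ≤ S)
    have h2 : N₁ ≤ normalizerIn S P₀ :=
      image_le_normalizerIn ha'N (le_normalizerIn hP'S) ha'P' le_rfl
    have h3 : Nat.card (normalizerIn S P') = Nat.card N₁ := ha'N.card_eq
    have hfin : Finite (normalizerIn S P₀) := finite_of_le S inf_le_left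
    have h4 := Subgroup.card_le_of_le h2
    omega
  obtain ⟨hfc, hfa⟩ := fullyNormalized_props hS hF hP₀fn
  have hrec := isReceptive_of_fullyCentralized hS hF hfc
  have hconj : IsIso (EH F p hH) P P₀ f₀ := (isIso_EH_iff hH).2 (hIso_of_jIso hH hJ₀)
  refine ⟨P₀, hconj.isConj, ?_, ?_⟩
  · -- fully automized in `E_H`
    obtain ⟨-, R, hR⟩ := hfa
    have hfinP₀ : Finite P₀ := finite_of_le S hP₀S
    have hSE : autInducedBy S P₀ ≤ (EH F p hH).autGroup P₀ :=
      autInducedBy_le_autGroup _ hP₀S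
    have hEF : (EH F p hH).autGroup P₀ ≤ F.autGroup P₀ := by
      apply autGroup_le_of_isIso hP₀S
      intro g hg
      exact ((isIso_EH_iff hH).1 hg).1
    have hcardS : Nat.card (autInducedBy S P₀) =
        p ^ (Nat.card ↥(F.autGroup P₀)).factorization p := by
      rw [← R.card_eq_multiplicity, hR]
      exact (Nat.card_congr (Subgroup.subgroupOfEquivOfLe (hSE.trans hEF)).toEquiv).symm
    have hcardE := card_eq_of_le_of_le hSE hEF hcardS
    have hc : Nat.card ((autInducedBy S P₀).subgroupOf ((EH F p hH).autGroup P₀)) =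
        p ^ (Nat.card ↥((EH F p hH).autGroup P₀)).factorization p := by
      rw [← hcardE]
      exact Nat.card_congr (Subgroup.subgroupOfEquivOfLe hSE).toEquiv
    exact ⟨hP₀S, Sylow.ofCard _ hc, rfl⟩
  · -- receptive in `E_H`
    refine isReceptive_of_extend hP₀S (fun Q g hg N hQN hN => ?_)
    have hgF : IsIso F Q P₀ g := ((isIso_EH_iff hH).1 hg).1
    have hQcen : F.IsCentric Q := by
      obtain ⟨g', hg', -, -⟩ := hgF.symm
      exact isCentric_of_isIso hP₀cen hg'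
    obtain ⟨g', N', hg', hg'v⟩ := IsReceptive_extend hrec hgF N hN
    have hgQ : IsIso (EH F p hH) Q P₀ g' := hg.congr (fun x hx => (hg'v x hx (hQN hx)).symm)
    exact ⟨g', N', EH_ext_mem hS hF hH hQcen hQN hg' hgQ, fun x hx => hg'v x hx (hQN hx)⟩

include hS hF in
/-- The systems `E_H` are saturated. -/
theorem EH_saturated : (EH F p hH).IsSaturated p := by
  have hcen : ∀ P : Subgroup Ω, (EH F p hH).IsCentric P ↔ F.IsCentric P :=
    (Cfsg.Agent.S5114.result p hS F hF (EH F p hH) (EH_le hH) (pPHyp_EH hH)).2.2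
  refine saturated_of_generated p hS (EH F p hH) {P | F.IsCentric P} ?_ ?_ ?_ ?_
  · intro P hP Q hQ
    obtain ⟨g, hg⟩ := (isConj_iff _).1 hQ
    exact isCentric_of_isIso hP ((isIso_EH_iff hH).1 hg).1
  · intro P hP
    exact EH_sat_centric hS hF hH hP
  · intro E' hE'
    have hD : PPHyp F p E' := by
      intro P hP
      refine (pPHyp_EH hH P hP).trans ?_
      apply autGroup_le_of_isIso hP.1
      intro g hg
      obtain ⟨φ, hφ, hφg, hr⟩ := hg
      exact ⟨φ, hE' P hP hφ, hφg, hr⟩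
    intro P φ hφ
    have hiso : IsIso (EH F p hH) P φ.range (ext1 φ) := isIso_of_mem _ hφ
    obtain ⟨hφF, a, a', f₀, P₀, ha, h₀, hv⟩ := (isIso_EH_iff hH).1 hiso
    have h1 : IsIso E' P P₀ f₀ := h₀.isIso_of_pPHyp hD
    have h2 : IsIso E' S S a := by
      have h3 : IsIso (EH F p hH) S S a := (isIso_EH_iff hH).2 (hIso_of_mem hH ha)
      obtain ⟨ψ, hψ, hψa, hr⟩ := h3
      exact ⟨ψ, hE' S (isCentric_top F) hψ, hψa, hr⟩
    obtain ⟨Q', -, h4, -⟩ := h2.restrict h₀.toF.le_right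
    have h5 : IsIso E' P Q' (ext1 φ) := (h1.trans h4).congr (fun x hx => (hv x hx).symm)
    exact mem_hom_of_isIso E' h5 (fun x => (ext1_apply φ x).symm)
  · intro P hPE hPF
    exact absurd ((hcen P).1 hPE) hPF

end

end Cfsg.Agent.Lib.H25
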