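/-
The `p'`-residual subsystem `O^{p'}(F)` of a saturated fusion system (AKO Theorem I.7.7): the system
`E_H` for `H = Aut⁰_F(S)` is saturated, of index prime to `p`, and contained in every saturated
subsystem of index prime to `p`.
-/
import Mathlib
import Cfsg.Prelude.Def_FusionSystem
import Cfsg.Prelude.Def_FusionComponents
import Cfsg.Agent.Lib.H25.PPrimeResSat
import Cfsg.Agent.Lib.H25.ExtUnique
set_option autoImplicit false

namespace Cfsg.Agent.Lib.H25

open Cfsg Cfsg.FusionSystem Cfsg.Agent.S5114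

variable {Ω : Type*} [Group Ω] {S : Subgroup Ω}

/-- `Aut⁰_F(S)`, as pairs of mutually inverse functions: generated by the automorphisms of `S` in
`F` whose restriction to some `F`-centric subgroup lies in `E₀`. -/
inductive A0 (F : FusionSystem S) (p : ℕ) : (Ω → Ω) → (Ω → Ω) → Prop
  | gen {b b' : Ω → Ω} {P P' : Subgroup Ω} : AutS F b b' → F.IsCentric P → JIso F p P P' b →
      A0 F p b b'
  | symm {b b' : Ω → Ω} : A0 F p b b' → A0 F p b' b
  | trans {a a' b b' : Ω → Ω} : A0 F p a a' → A0 F p b b' → A0 F p (a ∘ b) (b' ∘ a')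
  | congr {b b' c c' : Ω → Ω} : A0 F p b b' → (∀ x ∈ S, b x = c x) → (∀ x ∈ S, b' x = c' x) →
      A0 F p c c'

theorem autS_congr {F : FusionSystem S} {b b' c c' : Ω → Ω} (h : AutS F b b')
    (hbc : ∀ x ∈ S, b x = c x) (hbc' : ∀ x ∈ S, b' x = c' x) : AutS F c c' := by
  refine ⟨h.1.congr hbc, h.2.1.congr hbc', fun x hx => ?_, fun x hx => ?_⟩
  · rw [← hbc x hx, ← hbc' _ (h.1.map_mem hx)]
    exact h.2.2.1 x hx
  · rw [← hbc' x hx, ← hbc _ (h.2.1.map_mem hx)]
    exact h.2.2.2 x hx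

theorem A0.autS {F : FusionSystem S} {p : ℕ} {b b' : Ω → Ω} (h : A0 F p b b') : AutS F b b' := by
  induction h with
  | gen h _ _ => exact h
  | symm _ ih => exact ih.symm
  | trans _ _ ih1 ih2 => exact ih1.trans ih2
  | congr _ h1 h2 ih => exact autS_congr ih h1 h2

theorem autFam_A0 (F : FusionSystem S) (p : ℕ) : AutFam F p (A0 F p) where
  autS := A0.autS
  congr := A0.congr
  symm := A0.symm
  trans := A0.trans
  gen := A0.gen

/-- `E_H` is contained in every saturated subsystem of index prime to `p` containing `H`. -/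
theorem EH_le_of_le [Finite S] {p : ℕ} {F : FusionSystem S} {H : (Ω → Ω) → (Ω → Ω) → Prop} (hH : AutFam F p H) {D : FusionSystem S}
    (hDhyp : PPHyp F p D) (hHD : ∀ b b' : Ω → Ω, H b b' → IsIso D S S b) :
    (EH F p hH).IsSubsystemOf D := by
  intro P φ hφ
  have hiso : IsIso (EH F p hH) P φ.range (ext1 φ) := isIso_of_mem _ hφ
  obtain ⟨hφF, a, a', f₀, P₀, ha, h₀, hv⟩ := (isIso_EH_iff hH).1 hiso
  have h1 : IsIso D P P₀ f₀ := h₀.isIso_of_pPHyp hDhyp
  obtain ⟨Q', -, h4, -⟩ := (hHD a a' ha).restrict h₀.toF.le_right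
  have h5 : IsIso D P Q' (ext1 φ) := (h1.trans h4).congr (fun x hx => (hv x hx).symm)
  exact mem_hom_of_isIso D h5 (fun x => (ext1_apply φ x).symm)

section

variable [Finite S] {p : ℕ} [Fact p.Prime] (hS : IsPGroup p S) {F : FusionSystem S}
  (hF : F.IsSaturated p)

include hS hF

/-- `Aut⁰_F(S)` is contained in every saturated subsystem of index prime to `p`. -/
theorem A0_isIso {D : FusionSystem S} (hDsat : D.IsSaturated p) (hDF : D.IsSubsystemOf F)
    (hDhyp : PPHyp F p D) {b b' : Ω → Ω} (h : A0 F p b b') :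
    IsIso D S S b ∧ IsIso D S S b' := by
  induction h with
  | @gen b b' P P' hb hP hJ =>
    have h1 : IsIso D S S b :=
      autS_isIso_of_restrict hS hF hDsat hDF hb _ P P' rfl hP (hJ.isIso_of_pPHyp hDhyp)
    refine ⟨h1, ?_⟩
    obtain ⟨k, hk, hkb, -⟩ := h1.symm
    refine hk.congr (fun y hy => ?_)
    obtain ⟨x, hx, rfl⟩ := hb.1.surjOn hy
    rw [hkb x hx, hb.2.2.1 x hx]
  | symm _ ih => exact ⟨ih.2, ih.1⟩
  | trans _ _ ih1 ih2 => exact ⟨ih2.1.trans ih1.1, ih1.2.trans ih2.2⟩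
  | congr _ h1 h2 ih => exact ⟨ih.1.congr h1, ih.2.congr h2⟩

/-- **AKO Theorem I.7.7**, existence of `O^{p'}(F)`. -/
theorem exists_pPrimeResidual : ∃ E : FusionSystem S, F.IsPPrimeResidual p E := by
  refine ⟨EH F p (autFam_A0 F p), EH_saturated hS hF _, ?_, fun D hDsat hD => ?_⟩
  · exact (Cfsg.Agent.S5114.result p hS F hF _ (EH_le _) (pPHyp_EH _)).1
  · have hDhyp : PPHyp F p D := fun P hP => hD.2 P hP.1
    exact EH_le_of_le _ hDhyp (fun b b' h => (A0_isIso hS hF hDsat hD.1 hDhyp h).1)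

end

end Cfsg.Agent.Lib.H25
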