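/-
Subsystems of index prime to `p` (AKO Theorem I.7.7), version relative to a class `ℋ` of
`F`-centric subgroups invariant under `F`-conjugation, containing `S` and the essential subgroups:
for a family `H` of automorphisms of `S` containing the automorphisms whose restriction to some
member of `ℋ` lies in `E₀`, the system `E_H` of the maps `β ∘ φ₀` with `β ∈ H` and `φ₀ ∈ E₀` is
saturated as soon as the centric subgroups outside `ℋ` are not radical in it.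
-/
import Mathlib
import Cfsg.Prelude.Def_FusionSystem
import Cfsg.Agent.Lib.H25.PPrimeResMin
import Cfsg.Agent.Lib.H25.FrattiniG
set_option autoImplicit false

namespace Cfsg.Agent.Lib.H25.FrG

open Cfsg Cfsg.FusionSystem Cfsg.Agent.Lib.H25 Cfsg.Agent.S5114

variable {Ω : Type*} [Group Ω] {S : Subgroup Ω}

/-- A family of automorphisms of `S` in `F`, closed under composition and inverses and containing
every automorphism whose restriction to some `F`-centric subgroup in `ℋ` lies in `E₀`. -/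
structure AutFamC (F : FusionSystem S) (p : ℕ) (ℋ : Subgroup Ω → Prop)
    (H : (Ω → Ω) → (Ω → Ω) → Prop) : Prop where
  autS : ∀ {b b' : Ω → Ω}, H b b' → AutS F b b'
  congr : ∀ {b b' c c' : Ω → Ω}, H b b' → (∀ x ∈ S, b x = c x) → (∀ x ∈ S, b' x = c' x) → H c c'
  symm : ∀ {b b' : Ω → Ω}, H b b' → H b' b
  trans : ∀ {a a' b b' : Ω → Ω}, H a a' → H b b' → H (a ∘ b) (b' ∘ a')
  gen : ∀ {b b' : Ω → Ω} {P P' : Subgroup Ω}, AutS F b b' → F.IsCentric P → ℋ P →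
    JIso F p P P' b → H b b'

section

variable [Finite S] {F : FusionSystem S} {p : ℕ} {ℋ : Subgroup Ω → Prop}
  {H : (Ω → Ω) → (Ω → Ω) → Prop}

theorem AutFamC.refl (hH : AutFamC F p ℋ H) (hℋS : ℋ S) : H id id :=
  hH.gen (AutS.refl F) (isCentric_top F) hℋS (JIso.refl le_rfl)

theorem hIso_of_jIsoC (hH : AutFamC F p ℋ H) (hℋS : ℋ S) {P Q : Subgroup Ω} {f : Ω → Ω}
    (h : JIso F p P Q f) : HIso F p H P Q f :=
  ⟨h.toF, id, id, f, Q, hH.refl hℋS, h, fun _ _ => rfl⟩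

theorem hIso_of_memC (hH : AutFamC F p ℋ H) {a a' : Ω → Ω} (h : H a a') : HIso F p H S S a :=
  ⟨(hH.autS h).1, a, a', id, S, h, JIso.refl le_rfl, fun _ _ => rfl⟩

theorem isoPred_hIsoC (hH : AutFamC F p ℋ H) (hℋS : ℋ S) : IsoPred F (HIso F p H) where
  sub := fun h => h.1
  congr := by
    rintro P Q f g ⟨hf, a, a', f₀, P₀, ha, h₀, hv⟩ hfg
    exact ⟨hf.congr hfg, a, a', f₀, P₀, ha, h₀, fun x hx => by rw [← hfg x hx, hv x hx]⟩
  conj := by
    intro P hP s hs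
    obtain ⟨Q, hQ⟩ := (isoPred_jIso F p).conj hP hs
    exact ⟨Q, hIso_of_jIsoC hH hℋS hQ⟩
  restrict := by
    rintro P Q P' Q' f ⟨hf, a, a', f₀, P₀, ha, h₀, hv⟩ hP' hf'
    obtain ⟨P₀', -, hP₀', -⟩ := h₀.toF.restrict hP'
    exact ⟨hf', a, a', f₀, P₀', ha, h₀.restrict hP' hP₀', fun x hx => hv x (hP' hx)⟩
  trans := by
    rintro P Q R f g ⟨hf, a, a', f₀, P₀, ha, h₀, hv⟩ ⟨hg, b, b', g₀, Q₀, hb, k₀, hw⟩
    have haS := hH.autS ha
    have hPS := hf.le_left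
    have hQS := hf.le_right
    have hP₀S := h₀.toF.le_right
    have hQ₀S := k₀.toF.le_right
    have haP₀ : IsIso F P₀ Q a := by
      refine haS.1.restrict' hP₀S (fun y hy => ?_) (fun z hz => ?_)
      · obtain ⟨x, hx, rfl⟩ := h₀.toF.surjOn hy
        rw [← hv x hx]
        exact hf.map_mem hx
      · obtain ⟨x, hx, rfl⟩ := hf.surjOn hz
        exact ⟨f₀ x, h₀.toF.map_mem hx, (hv x hx).symm⟩
    have ha'Q : IsIso F Q P₀ a' := by
      refine haS.2.1.restrict' hQS (fun y hy => ?_) (fun z hz => ?_)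
      · obtain ⟨x, hx, rfl⟩ := haP₀.surjOn hy
        rw [haS.2.2.1 x (hP₀S hx)]
        exact hx
      · exact ⟨a z, haP₀.map_mem hz, haS.2.2.1 z (hP₀S hz)⟩
    obtain ⟨Q₀', hQ₀'⟩ := haS.symm.exists_image hQ₀S
    have hconj : JIso F p P₀ Q₀' (a' ∘ g₀ ∘ a) := k₀.conj haS.symm ha'Q hQ₀'
    have htr : JIso F p P Q₀' ((a' ∘ g₀ ∘ a) ∘ f₀) := h₀.trans hconj
    refine ⟨hf.trans hg, b ∘ a, a' ∘ b', (a' ∘ g₀ ∘ a) ∘ f₀, Q₀', hH.trans hb ha, htr,
      fun x hx => ?_⟩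
    show g (f x) = b (a (a' (g₀ (a (f₀ x)))))
    rw [← hv x hx, haS.2.2.2 _ (hQ₀S (k₀.toF.map_mem (hf.map_mem hx))), hw _ (hf.map_mem hx)]
  symm := by
    rintro P Q f g ⟨hf, a, a', f₀, P₀, ha, h₀, hv⟩ hg hgf
    have haS := hH.autS ha
    have hPS := hf.le_left
    have hQS := hf.le_right
    have hP₀S := h₀.toF.le_right
    have haP₀ : IsIso F P₀ Q a := by
      refine haS.1.restrict' hP₀S (fun y hy => ?_) (fun z hz => ?_)
      · obtain ⟨x, hx, rfl⟩ := h₀.toF.surjOn hy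
        rw [← hv x hx]
        exact hf.map_mem hx
      · obtain ⟨x, hx, rfl⟩ := hf.surjOn hz
        exact ⟨f₀ x, h₀.toF.map_mem hx, (hv x hx).symm⟩
    obtain ⟨k₀, hk₀, hk1, hk2⟩ := h₀.toF.symm
    have hk₀' : JIso F p P₀ P k₀ := h₀.symm hk₀ hk1
    obtain ⟨P₁, hP₁⟩ := haS.exists_image hPS
    have hconj : JIso F p Q P₁ (a ∘ k₀ ∘ a') := hk₀'.conj haS haP₀ hP₁
    refine ⟨hg, a', a, a ∘ k₀ ∘ a', P₁, hH.symm ha, hconj, fun y hy => ?_⟩
    obtain ⟨x, hx, rfl⟩ := hf.surjOn hy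
    show g (f x) = a' (a (k₀ (a' (f x))))
    rw [hgf x hx, hv x hx, haS.2.2.1 _ (hP₀S (h₀.toF.map_mem hx)), hk1 x hx,
      haS.2.2.1 x (hPS hx)]

/-- The fusion system `E_H`. -/
def EHC (F : FusionSystem S) (p : ℕ) (hH : AutFamC F p ℋ H) (hℋS : ℋ S) : FusionSystem S :=
  sysOfPred (isoPred_hIsoC hH hℋS)

theorem isIso_EHC_iff (hH : AutFamC F p ℋ H) (hℋS : ℋ S) {P Q : Subgroup Ω} {f : Ω → Ω} :
    IsIso (EHC F p hH hℋS) P Q f ↔ HIso F p H P Q f := isIso_sysOfPred_iff _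

theorem EHC_le (hH : AutFamC F p ℋ H) (hℋS : ℋ S) : (EHC F p hH hℋS).IsSubsystemOf F :=
  sysOfPred_le _

theorem pPHyp_EHC (hH : AutFamC F p ℋ H) (hℋS : ℋ S) : PPHyp F p (EHC F p hH hℋS) := by
  intro P hP
  refine (pPHyp_E0 F p P hP).trans ?_
  apply autGroup_le_of_isIso hP.1
  intro f hf
  rw [isIso_EHC_iff]
  exact hIso_of_jIsoC hH hℋS (isIso_E0_iff.1 hf)

end

section

variable [Finite S] {p : ℕ} [Fact p.Prime] (hS : IsPGroup p S) {F : FusionSystem S}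
  (hF : F.IsSaturated p) {ℋ : Subgroup Ω → Prop} {H : (Ω → Ω) → (Ω → Ω) → Prop}
  (hH : AutFamC F p ℋ H) (hℋS : ℋ S) (hinv : ClassInv F ℋ)

include hS hF hinv in
/-- A map of `F` whose restriction to an `F`-centric subgroup in `ℋ` lies in `E_H` lies in
`E_H`. -/
theorem EHC_ext_mem {Q N N' Q' : Subgroup Ω} {f' : Ω → Ω} (hQ : F.IsCentric Q) (hQℋ : ℋ Q)
    (hQN : Q ≤ N) (hf' : IsIso F N N' f') (hfQ : IsIso (EHC F p hH hℋS) Q Q' f') :
    IsIso (EHC F p hH hℋS) N N' f' := by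
  obtain ⟨-, a, a', f₀, N₀, ha, h₀, hv⟩ := fiso_all hS hF (E0 F p) (pPHyp_E0 F p) N N' f' hf'
  have hJ₀ : JIso F p N N₀ f₀ := JIso.of_iso₀ h₀
  obtain ⟨R, -, hf₀Q, -⟩ := hJ₀.toF.restrict hQN
  have hJQ : JIso F p Q R f₀ := hJ₀.restrict hQN hf₀Q
  have hRcen : F.IsCentric R := isCentric_of_isIso hQ hf₀Q
  have hRℋ : ℋ R := hinv Q R f₀ hQℋ hf₀Q
  obtain ⟨-, b, b', g₀, R₀, hb, hg₀, hw⟩ := (isIso_EHC_iff hH hℋS).1 hfQ
  have hbS := hH.autS hb
  obtain ⟨k₀, hk₀, hk1, hk2⟩ := hf₀Q.symm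
  have hJk : JIso F p R Q k₀ := hJQ.symm hk₀ hk1
  have hJ : JIso F p R R₀ (g₀ ∘ k₀) := hJk.trans hg₀
  have hval : ∀ y ∈ R, (g₀ ∘ k₀) y = (b' ∘ a) y := by
    intro y hy
    obtain ⟨x, hx, rfl⟩ := hf₀Q.surjOn hy
    show g₀ (k₀ (f₀ x)) = b' (a (f₀ x))
    rw [hk1 x hx, ← hv x (hQN hx), hw x hx, hbS.2.2.1 _ (hg₀.toF.le_right (hg₀.toF.map_mem hx))]
  have hJ' : JIso F p R R₀ (b' ∘ a) := hJ.congr hval
  have hba : H (b' ∘ a) (a' ∘ b) := hH.gen (hbS.symm.trans ha) hRcen hRℋ hJ'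
  have h1 : H (b ∘ (b' ∘ a)) ((a' ∘ b) ∘ b') := hH.trans hb hba
  have haH : H a a' := by
    refine hH.congr h1 (fun x hx => ?_) (fun x hx => ?_)
    · show b (b' (a x)) = a x
      exact hbS.2.2.2 _ (ha.1.map_mem hx)
    · show a' (b (b' x)) = a' x
      rw [hbS.2.2.2 x hx]
  exact (isIso_EHC_iff hH hℋS).2 ⟨hf', a, a', f₀, N₀, haH, hJ₀, hv⟩

include hS hF hinv in
/-- Every `F`-centric subgroup in `ℋ` is `E_H`-conjugate to a subgroup fully automized and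
receptive in `E_H`. -/
theorem EHC_sat_centric {P : Subgroup Ω} (hP : F.IsCentric P) (hPℋ : ℋ P) :
    ∃ Q, (EHC F p hH hℋS).IsConj P Q ∧ (EHC F p hH hℋS).IsFullyAutomized p Q ∧
      (EHC F p hH hℋS).IsReceptive Q := by
  obtain ⟨P', hPP', hP'fn⟩ := exists_fullyNormalized_conj F hP.1
  obtain ⟨f, hf⟩ := (isConj_iff F).1 hPP'
  obtain ⟨-, a, a', f₀, P₀, ha, h₀, hv⟩ := fiso_all hS hF (E0 F p) (pPHyp_E0 F p) P P' f hf
  obtain ⟨haP₀, ha'P'⟩ := factor_images hf ha h₀ hv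
  have hP₀S : P₀ ≤ S := haP₀.le_left
  have hP'S : P' ≤ S := hf.le_right
  have hJ₀ : JIso F p P P₀ f₀ := JIso.of_iso₀ h₀
  have hP₀cen : F.IsCentric P₀ := isCentric_of_isIso hP hJ₀.toF
  have hP₀ℋ : ℋ P₀ := hinv P P₀ f₀ hPℋ hJ₀.toF
  have hP₀fn : F.IsFullyNormalized P₀ := by
    refine ⟨hP₀S, fun Q hQ => ?_⟩
    have h1 := hP'fn.2 Q (isConj_trans F (isConj_symm F haP₀.isConj) hQ)
    obtain ⟨N₁, -, ha'N, -⟩ := ha.2.1.restrict (inf_le_left : normalizerIn S P' ≤ S)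
    have h2 : N₁ ≤ normalizerIn S P₀ :=
      image_le_normalizerIn ha'N (le_normalizerIn hP'S) ha'P' le_rfl
    have h3 : Nat.card (normalizerIn S P') = Nat.card N₁ := ha'N.card_eq
    have hfin : Finite (normalizerIn S P₀) := finite_of_le S inf_le_left
    have h4 := Subgroup.card_le_of_le h2
    omega
  obtain ⟨hfc, hfa⟩ := fullyNormalized_props hS hF hP₀fn
  have hrec := isReceptive_of_fullyCentralized hS hF hfc
  have hconj : IsIso (EHC F p hH hℋS) P P₀ f₀ :=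
    (isIso_EHC_iff hH hℋS).2 (hIso_of_jIsoC hH hℋS hJ₀)
  refine ⟨P₀, hconj.isConj, ?_, ?_⟩
  · obtain ⟨-, R, hR⟩ := hfa
    have hfinP₀ : Finite P₀ := finite_of_le S hP₀S
    have hSE : autInducedBy S P₀ ≤ (EHC F p hH hℋS).autGroup P₀ :=
      autInducedBy_le_autGroup _ hP₀S
    have hEF : (EHC F p hH hℋS).autGroup P₀ ≤ F.autGroup P₀ := by
      apply autGroup_le_of_isIso hP₀S
      intro g hg
      exact ((isIso_EHC_iff hH hℋS).1 hg).1
    have hcardS : Nat.card (autInducedBy S P₀) =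
        p ^ (Nat.card ↥(F.autGroup P₀)).factorization p := by
      rw [← R.card_eq_multiplicity, hR]
      exact (Nat.card_congr (Subgroup.subgroupOfEquivOfLe (hSE.trans hEF)).toEquiv).symm
    have hcardE := card_eq_of_le_of_le hSE hEF hcardS
    have hc : Nat.card ((autInducedBy S P₀).subgroupOf ((EHC F p hH hℋS).autGroup P₀)) =
        p ^ (Nat.card ↥((EHC F p hH hℋS).autGroup P₀)).factorization p := by
      rw [← hcardE]
      exact Nat.card_congr (Subgroup.subgroupOfEquivOfLe hSE).toEquiv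
    exact ⟨hP₀S, Sylow.ofCard _ hc, rfl⟩
  · refine isReceptive_of_extend hP₀S (fun Q g hg N hQN hN => ?_)
    have hgF : IsIso F Q P₀ g := ((isIso_EHC_iff hH hℋS).1 hg).1
    obtain ⟨g₁, hg₁, -, -⟩ := hgF.symm
    have hQcen : F.IsCentric Q := isCentric_of_isIso hP₀cen hg₁
    have hQℋ : ℋ Q := hinv P₀ Q g₁ hP₀ℋ hg₁
    obtain ⟨g', N', hg', hg'v⟩ := IsReceptive_extend hrec hgF N hN
    have hgQ : IsIso (EHC F p hH hℋS) Q P₀ g' :=
      hg.congr (fun x hx => (hg'v x hx (hQN hx)).symm)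
    exact ⟨g', N', EHC_ext_mem hS hF hH hℋS hinv hQcen hQℋ hQN hg' hgQ,
      fun x hx => hg'v x hx (hQN hx)⟩

include hS hF hinv in
/-- The systems `E_H` are saturated, provided that the `F`-centric subgroups outside `ℋ` are not
radical in `E_H` (in the strong form of AKO Theorem I.3.10). -/
theorem EHC_saturated (hess : ∀ P, F.IsEssential p P → ℋ P)
    (hstar : ∀ P : Subgroup Ω, F.IsCentric P → ¬ ℋ P → ∃ Q, (EHC F p hH hℋS).IsConj P Q ∧
      ¬ (autInducedBy S Q ⊓ (pCore p ↥((EHC F p hH hℋS).autGroup Q)).map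
        ((EHC F p hH hℋS).autGroup Q).subtype ≤ Inn Q)) :
    (EHC F p hH hℋS).IsSaturated p := by
  have hcen : ∀ P : Subgroup Ω, (EHC F p hH hℋS).IsCentric P ↔ F.IsCentric P :=
    (Cfsg.Agent.S5114.result p hS F hF (EHC F p hH hℋS) (EHC_le hH hℋS)
      (pPHyp_EHC hH hℋS)).2.2
  refine saturated_of_generated p hS (EHC F p hH hℋS) {P | F.IsCentric P ∧ ℋ P} ?_ ?_ ?_ ?_
  · rintro P ⟨hP, hPℋ⟩ Q hQ
    obtain ⟨g, hg⟩ := (isConj_iff _).1 hQ
    have hgF := ((isIso_EHC_iff hH hℋS).1 hg).1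
    exact ⟨isCentric_of_isIso hP hgF, hinv P Q g hPℋ hgF⟩
  · rintro P ⟨hP, hPℋ⟩
    exact EHC_sat_centric hS hF hH hℋS hinv hP hPℋ
  · intro E' hE'
    have hDC : PPHypC F p ℋ E' := by
      intro P hP hPℋ
      refine (pPHyp_EHC hH hℋS P hP).trans ?_
      apply autGroup_le_of_isIso hP.1
      intro g hg
      obtain ⟨φ, hφ, hφg, hr⟩ := hg
      exact ⟨φ, hE' P ⟨hP, hPℋ⟩ hφ, hφg, hr⟩
    have hD : PPHyp F p E' := fun P hP =>
      pPHyp_of_pPHypC hS hF E' hDC hinv hess P hP.1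
    intro P φ hφ
    have hiso : IsIso (EHC F p hH hℋS) P φ.range (ext1 φ) := isIso_of_mem _ hφ
    obtain ⟨hφF, a, a', f₀, P₀, ha, h₀, hv⟩ := (isIso_EHC_iff hH hℋS).1 hiso
    have h1 : IsIso E' P P₀ f₀ := h₀.isIso_of_pPHyp hD
    have h2 : IsIso E' S S a := by
      have h3 : IsIso (EHC F p hH hℋS) S S a := (isIso_EHC_iff hH hℋS).2 (hIso_of_memC hH ha)
      obtain ⟨ψ, hψ, hψa, hr⟩ := h3
      exact ⟨ψ, hE' S ⟨isCentric_top F, hℋS⟩ hψ, hψa, hr⟩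
    obtain ⟨Q', -, h4, -⟩ := h2.restrict h₀.toF.le_right
    have h5 : IsIso E' P Q' (ext1 φ) := (h1.trans h4).congr (fun x hx => (hv x hx).symm)
    exact mem_hom_of_isIso E' h5 (fun x => (ext1_apply φ x).symm)
  · intro P hPE hPℋ
    have hPF := (hcen P).1 hPE
    exact hstar P hPF (fun h => hPℋ ⟨hPF, h⟩)

end

end Cfsg.Agent.Lib.H25.FrG
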