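/-
Towards Oliver's lemma, part 4: the class of subgroups `P` with `P ∩ T` centric in `E`, the system
of maps of degree one, the family `H_χ` of automorphisms of `S` whose restriction to `T` lies in
the kernel of `χ`, and the saturated subsystem `F₀` of index prime to `p` with
`Aut_{F₀}(S) = H_χ`.
-/
import Mathlib
import Cfsg.Prelude.Def_FusionSystem
import Cfsg.Agent.Lib.H25.OliverDeg
import Cfsg.Agent.Lib.H25.OliverBad
import Cfsg.Agent.Lib.H25.PPrimeResG
import Cfsg.Agent.S5080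
set_option autoImplicit false

namespace Cfsg.Agent.Lib.H25.Oliver

open Cfsg Cfsg.FusionSystem Cfsg.Agent.Lib.H25 Cfsg.Agent.S5114 Cfsg.Agent.S5119
  Cfsg.Agent.Lib.H25.FrG

variable {Ω : Type*} [Group Ω] {S : Subgroup Ω} {F : FusionSystem S} {T : Subgroup Ω}
  {Δ : Type*} [Group Δ]

/-- An isomorphism of `F` restricts to an isomorphism between the intersections with a strongly
closed subgroup. -/
theorem inter_iso (hT : F.StronglyClosed T) {P Q : Subgroup Ω} {f : Ω → Ω}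
    (hf : IsIso F P Q f) : IsIso F (P ⊓ T) (Q ⊓ T) f := by
  obtain ⟨g, hg, hgf, hfg⟩ := hf.symm
  refine hf.restrict' inf_le_left (fun x hx => ?_) (fun y hy => ?_)
  · obtain ⟨R, -, hR, -⟩ := hf.restrict (inf_le_left : P ⊓ T ≤ P)
    exact ⟨hf.map_mem hx.1, stronglyClosed_map_mem hT hR inf_le_right hx⟩
  · obtain ⟨R, -, hR, -⟩ := hg.restrict (inf_le_left : Q ⊓ T ≤ Q)
    have h1 := stronglyClosed_map_mem hT hR inf_le_right hy
    exact ⟨g y, ⟨hg.map_mem hy.1, h1⟩, hfg y hy.1⟩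

/-- Being centric in `E` is invariant under the isomorphisms of `F`. -/
theorem eCentric_of_isIso {E : FusionSystem T} (hinv : E.IsInvariantIn F) {U U' : Subgroup Ω}
    {f : Ω → Ω} (hUc : E.IsCentric U) (hf : IsIso F U U' f) : E.IsCentric U' := by
  have hTsc := hinv.2.1
  have hTS := hTsc.1
  have hUT : U ≤ T := hUc.1
  have hU'T : U' ≤ T := stronglyClosed_image_le hTsc hf hUT
  have hf' := hf
  obtain ⟨φ, hφ, hφf, -⟩ := hf'
  obtain ⟨α, hα, φ₀, hφ₀, hv⟩ := hinv.2.2.2 U hUT φ hφ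
  have he : IsIso E U φ₀.range (ext1 φ₀) := isIso_of_mem E hφ₀
  have hU₀c : E.IsCentric φ₀.range := isCentric_of_isIso hUc he
  have haT : IsIso F T T (aut1 α) := isIso_aut1 F hTS hα
  obtain ⟨c, hc, hca, hac⟩ := haT.symm
  have hfv : ∀ x ∈ U, f x = aut1 α (ext1 φ₀ x) := by
    intro x hx
    have hT' : φ₀ ⟨x, hx⟩ ∈ T := hom_mem_S E hφ₀ _
    rw [← hφf ⟨x, hx⟩, hv ⟨x, hx⟩ hT', ext1_apply_mem φ₀ hx, aut1_apply_mem α hT']
  have hcf : ∀ x ∈ U, c (f x) = ext1 φ₀ x := by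
    intro x hx
    rw [hfv x hx, hca _ (he.le_right (he.map_mem hx))]
  refine ⟨hU'T, fun Q hQ => ?_⟩
  obtain ⟨ψ, hψ⟩ := (isConj_iff E).1 hQ
  have hQT : Q ≤ T := hψ.le_right
  obtain ⟨χ', R, R₁, hχ', hR, hχ'v⟩ := (si_of_inv hinv).fn hU'T hQT le_rfl hψ hc
  have hRU₀ : R = φ₀.range := by
    ext y
    rw [hR]
    constructor
    · rintro ⟨x, hx, rfl⟩
      obtain ⟨u, hu, rfl⟩ := hf.surjOn hx
      rw [hcf u hu]
      exact he.map_mem hu
    · intro hy
      obtain ⟨u, hu, rfl⟩ := he.surjOn hy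
      exact ⟨f u, hf.map_mem hu, hcf u hu⟩
  rw [hRU₀] at hχ'
  have hR₁c : centralizerIn T R₁ ≤ R₁ := hU₀c.2 R₁ hχ'.isConj
  intro z hz
  -- `c z` centralizes `R₁ = c(Q)`
  have hczC : c z ∈ centralizerIn T R₁ := by
    refine ⟨hc.map_mem hz.1, ?_⟩
    show c z ∈ Subgroup.centralizer (R₁ : Set Ω)
    rw [Subgroup.mem_centralizer_iff]
    intro w hw
    obtain ⟨v, hv', rfl⟩ := hχ'.surjOn hw
    obtain ⟨u, hu, rfl⟩ := he.surjOn hv'
    rw [← hcf u hu, hχ'v _ (hf.map_mem hu)]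
    have hq : ψ (f u) ∈ Q := hψ.map_mem (hf.map_mem hu)
    rw [← hc.map_mul (hQT hq) hz.1, ← hc.map_mul hz.1 (hQT hq)]
    congr 1
    exact hz.2 _ hq
  obtain ⟨v, hv', hvz⟩ := hχ'.surjOn (hR₁c hczC)
  obtain ⟨u, hu, rfl⟩ := he.surjOn hv'
  rw [← hcf u hu, hχ'v _ (hf.map_mem hu)] at hvz
  have hq : ψ (f u) ∈ Q := hψ.map_mem (hf.map_mem hu)
  have := hc.injOn (hQT hq) hz.1 hvz
  rw [← this]
  exact hq

/-- The class of subgroups `P` with `P ∩ T` centric in `E`. -/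
def Good (E : FusionSystem T) (P : Subgroup Ω) : Prop := E.IsCentric (P ⊓ T)

theorem good_classInv {E : FusionSystem T} (hinv : E.IsInvariantIn F) : ClassInv F (Good E) :=
  fun _ _ _ hP hf => eCentric_of_isIso hinv hP (inter_iso hinv.2.1 hf)

theorem good_top [Finite S] {E : FusionSystem T} (hTS : T ≤ S) : Good E S := by
  haveI : Finite T := finite_of_le S hTS
  have : S ⊓ T = T := inf_eq_right.2 hTS
  show E.IsCentric (S ⊓ T)
  rw [this]
  exact isCentric_top E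

theorem good_of_essential [Finite S] {p : ℕ} [Fact p.Prime] (hS : IsPGroup p S)
    (hF : F.IsSaturated p) {E : FusionSystem T} (hE : E.IsNormalIn F p) {P : Subgroup Ω}
    (hP : F.IsEssential p P) : Good E P := by
  by_contra hcon
  exact (Cfsg.Agent.S5251.result p hS F hF E hE P hP.1 hcon).2
    (Cfsg.Agent.S5080.result p hS F hF P hP)

section

variable [Finite S] [Finite Δ] {p : ℕ} [Fact p.Prime] {E : FusionSystem T}
  {χ : ↥(F.autGroup T) →* Δ}

/-- The degree at an `E`-centric subgroup is unique. -/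
theorem Deg.unique (hS : IsPGroup p S) (hEs : E.IsSaturated p) (hinv : E.IsInvariantIn F)
    (hΔ : (Nat.card Δ).Coprime p) (hker : (E.autGroup T).subgroupOf (F.autGroup T) ≤ χ.ker)
    {U : Subgroup Ω} (hUc : E.IsCentric U) {f : Ω → Ω} {d d' : Δ}
    (h1 : Deg E χ U f d) (h2 : Deg E χ U f d') : d = d' :=
  Deg.unique_of_LX hinv.2.1.1 hUc (lx_all hS hEs hinv hΔ hker _) h1 h2

/-- The maps of `F` of degree one (on the subgroups in the class). -/
def DIso (F : FusionSystem S) (E : FusionSystem T) (χ : ↥(F.autGroup T) →* Δ)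
    (P Q : Subgroup Ω) (f : Ω → Ω) : Prop :=
  IsIso F P Q f ∧ (E.IsCentric (P ⊓ T) → Deg E χ (P ⊓ T) f 1)

theorem isoPred_dIso (hS : IsPGroup p S) (hEs : E.IsSaturated p) (hinv : E.IsInvariantIn F)
    (hΔ : (Nat.card Δ).Coprime p) (hker : (E.autGroup T).subgroupOf (F.autGroup T) ≤ χ.ker) :
    IsoPred F (DIso F E χ) where
  sub := fun h => h.1
  congr := by
    rintro P Q f g ⟨hf, hd⟩ hfg
    exact ⟨hf.congr hfg, fun hc => (hd hc).congr (fun x hx => hfg x hx.1)⟩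
  conj := by
    intro P hP s hs
    exact ⟨_, IsIso.conj hP hs, fun _ => Deg.of_chi (chiVal_conj hS hΔ hinv.2.1 hs) inf_le_right⟩
  restrict := by
    rintro P Q P' Q' f ⟨hf, hd⟩ hP' hf'
    refine ⟨hf', fun hc => ?_⟩
    have hle : P' ⊓ T ≤ P ⊓ T := inf_le_inf_right T hP'
    exact (hd (isCentric_of_le hc hle inf_le_right)).restrict hle
  trans := by
    rintro P Q R f g ⟨hf, hdf⟩ ⟨hg, hdg⟩
    refine ⟨hf.trans hg, fun hc => ?_⟩
    have hfT := inter_iso hinv.2.1 hf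
    have hcQ : E.IsCentric (Q ⊓ T) := eCentric_of_isIso hinv hc hfT
    have := Deg.comp hinv inf_le_right hfT (hdf hc) (hdg hcQ)
    rwa [mul_one] at this
  symm := by
    rintro P Q f g ⟨hf, hdf⟩ hg hgf
    refine ⟨hg, fun hc => ?_⟩
    have hgT := inter_iso hinv.2.1 hg
    have hfT := inter_iso hinv.2.1 hf
    have hcP : E.IsCentric (P ⊓ T) := eCentric_of_isIso hinv hc hgT
    obtain ⟨d, hd⟩ := Deg.exists_of_isIso (χ := χ) hinv inf_le_right hgT
    have h1 := Deg.comp hinv inf_le_right hfT (hdf hcP) hd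
    have h2 : Deg E χ (P ⊓ T) (id : Ω → Ω) (d * 1) := h1.congr (fun x hx => hgf x hx.1)
    have h3 : Deg E χ (P ⊓ T) (id : Ω → Ω) 1 := Deg.of_chi ChiVal.one inf_le_right
    have h4 := Deg.unique hS hEs hinv hΔ hker hcP h2 h3
    rw [mul_one] at h4
    rwa [h4] at hd

theorem aut1_iterate {P : Subgroup Ω} (γ : MulAut P) :
    ∀ m : ℕ, ∀ x ∈ P, (aut1 γ)^[m] x = aut1 (γ ^ m) x := by
  intro m
  induction m with
  | zero =>
    intro x hx
    rw [pow_zero, aut1_apply_mem _ hx]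
    rfl
  | succ m ih =>
    intro x hx
    rw [Function.iterate_succ_apply', ih x hx, aut1_apply_mem _ hx, aut1_apply, pow_succ',
      aut1_apply_mem _ hx]
    rfl

/-- The system of maps of degree one contains the automorphisms of `p`-power order of the
subgroups in the class. -/
theorem pPHypC_dIso (hS : IsPGroup p S) (hEs : E.IsSaturated p) (hinv : E.IsInvariantIn F)
    (hΔ : (Nat.card Δ).Coprime p) (hker : (E.autGroup T).subgroupOf (F.autGroup T) ≤ χ.ker) :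
    PPHypC F p (Good E) (sysOfPred (isoPred_dIso hS hEs hinv hΔ hker)) := by
  intro P hP hPg
  rw [Subgroup.map_le_iff_le_comap, Subgroup.closure_le]
  rintro γ ⟨k, hk⟩
  show (γ : MulAut P) ∈ (sysOfPred (isoPred_dIso hS hEs hinv hΔ hker)).autGroup P
  apply mem_autGroup_of_isIso_aut1'
  rw [isIso_sysOfPred_iff]
  have hg : IsIso F P P (aut1 (γ : MulAut P)) := isIso_aut1 F hP.1 γ.2
  refine ⟨hg, fun hc => ?_⟩
  have hgT := inter_iso hinv.2.1 hg
  obtain ⟨d, hd⟩ := Deg.exists_of_isIso (χ := χ) hinv inf_le_right hgT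
  have hpow := (Deg.iterate hinv inf_le_right hgT hd (p ^ k)).2
  have hγpow : (γ : MulAut P) ^ (p ^ k) = 1 := by
    have : γ ^ (p ^ k) = 1 := by rw [← hk]; exact pow_orderOf_eq_one γ
    have := congrArg Subtype.val this
    simpa using this
  have h2 : Deg E χ (P ⊓ T) (id : Ω → Ω) (d ^ (p ^ k)) := by
    refine hpow.congr (fun x hx => ?_)
    rw [aut1_iterate _ _ x hx.1, hγpow, aut1_apply_mem _ hx.1]
    rfl
  have h3 : Deg E χ (P ⊓ T) (id : Ω → Ω) 1 := Deg.of_chi ChiVal.one inf_le_right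
  have h4 := eq_one_of_pow_prime_pow hΔ (Deg.unique hS hEs hinv hΔ hker hc h2 h3)
  rwa [h4] at hd

/-- The automorphisms of `S` in `F` whose restriction to `T` lies in the kernel of `χ`. -/
def HChi (F : FusionSystem S) (χ : ↥(F.autGroup T) →* Δ) (b b' : Ω → Ω) : Prop :=
  AutS F b b' ∧ ChiVal χ b 1

theorem autFamC_hChi (hS : IsPGroup p S) (hF : F.IsSaturated p) (hE : E.IsNormalIn F p)
    (hΔ : (Nat.card Δ).Coprime p) (hker : (E.autGroup T).subgroupOf (F.autGroup T) ≤ χ.ker) :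
    AutFamC F p (Good E) (HChi F χ) where
  autS := fun h => h.1
  congr := by
    rintro b b' c c' ⟨hb, hχ⟩ h1 h2
    have hTS := hE.1.2.2.2.1.1
    exact ⟨autS_congr hb h1 h2, hχ.congr (fun x hx => h1 x (hTS hx))⟩
  symm := by
    rintro b b' ⟨hb, hχ⟩
    have hTS := hE.1.2.2.2.1.1
    refine ⟨hb.symm, ?_⟩
    have := hχ.inv (a' := b') (fun x hx => hb.2.2.1 x (hTS hx))
    rwa [inv_one] at this
  trans := by
    rintro a a' b b' ⟨ha, hχa⟩ ⟨hb, hχb⟩
    refine ⟨ha.trans hb, ?_⟩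
    have := hχa.comp hχb
    rwa [mul_one] at this
  gen := by
    intro b b' P P' hb hP hPg hJ
    have hEs := hE.1.1
    have hinv := hE.1.2.2
    have hTsc := hinv.2.1
    refine ⟨hb, ?_⟩
    have hDC := pPHypC_dIso (χ := χ) hS hEs hinv hΔ hker
    have hD : PPHyp F p (sysOfPred (isoPred_dIso hS hEs hinv hΔ hker)) := fun Q hQ =>
      pPHyp_of_pPHypC hS hF _ hDC (good_classInv hinv)
        (fun R hR => good_of_essential hS hF hE hR) Q hQ.1
    have h1 := (isIso_sysOfPred_iff _).1 (hJ.isIso_of_pPHyp hD)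
    have h2 : Deg E χ (P ⊓ T) b 1 := h1.2 hPg
    have hbT : IsIso F T T b := stronglyClosed_isIso_self hTsc hb.1 hTsc.1
    obtain ⟨d, hd⟩ := ChiVal.exists_of_isIso (χ := χ) hbT
    have h3 : Deg E χ (P ⊓ T) b d := Deg.of_chi hd inf_le_right
    have := Deg.unique hS hEs hinv hΔ hker hPg h3 h2
    rwa [this] at hd

end

end Cfsg.Agent.Lib.H25.Oliver
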