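/-
The `p'`-residual subsystem of a weakly normal subsystem `E` of `F` over `T` is contained in every
weakly normal subsystem `D` of `F` over `T`: the automorphisms of `p`-power order of the subgroups
of `T` in `E` lie in `D`, and the key lemma of `OliverDeg`, applied to the system `Aut_E(T) · D`
over `T`, shows `Aut⁰_E(T) ≤ Aut_D(T)`.
-/
import Mathlib
import Cfsg.Prelude.Def_FusionSystem
import Cfsg.Agent.Lib.H25.OliverSys
import Cfsg.Agent.Lib.H25.PPSys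
set_option autoImplicit false

namespace Cfsg.Agent.Lib.H25.NormalRes

open Cfsg Cfsg.FusionSystem Cfsg.Agent.Lib.H25 Cfsg.Agent.S5114 Cfsg.Agent.S5119
  Cfsg.Agent.Lib.H25.FrG Cfsg.Agent.Lib.H25.Oliver

variable {Ω : Type*} [Group Ω] {S : Subgroup Ω} {F : FusionSystem S} {T : Subgroup Ω}

theorem isIso_of_le {E : FusionSystem T} (hEF : E.IsSubsystemOf F) {P Q : Subgroup Ω}
    {f : Ω → Ω} (h : IsIso E P Q f) : IsIso F P Q f := by
  obtain ⟨φ, hφ, hv, hr⟩ := h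
  exact ⟨φ, hEF P hφ, hv, hr⟩

section

variable [Finite S] {p : ℕ} [Fact p.Prime] {E D : FusionSystem T}

/-- The automorphisms of `p`-power order in `E` of the subgroups of `T` lie in `D`. -/
theorem pPower_mem_of_invariant (hS : IsPGroup p S) (hEs : E.IsSaturated p)
    (hEF : E.IsSubsystemOf F) (hinvD : D.IsInvariantIn F) {U : Subgroup Ω} (hUT : U ≤ T)
    {γ : MulAut U} (hγ : γ ∈ E.autGroup U) {k : ℕ} (hk : orderOf γ = p ^ k) :
    γ ∈ D.autGroup U := by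
  have hTS : T ≤ S := hinvD.2.1.1
  have hDF : D.IsSubsystemOf F := hinvD.1
  have hfinT : Finite T := finite_of_le S hTS
  have hTp : IsPGroup p T := hS.to_le hTS
  have hfinU : Finite U := finite_of_le T hUT
  apply mem_autGroup_of_isIso_aut1'
  have hg : IsIso E U U (aut1 γ) := isIso_aut1 E hUT hγ
  obtain ⟨U', hUU', hU'fn⟩ := exists_fullyNormalized_conj E hUT
  obtain ⟨f₀, hf₀⟩ := (isConj_iff E).1 hUU'
  have hU'T : U' ≤ T := hf₀.le_right
  have hfinU' : Finite U' := finite_of_le T hU'T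
  obtain ⟨-, hfa⟩ := fullyNormalized_props hTp hEs hU'fn
  have he : ∀ x : U, ((hf₀.toMulEquiv x : U') : Ω) = f₀ x := fun x => hf₀.toMulEquiv_apply x
  have hγ' : MulAut.congr hf₀.toMulEquiv γ ∈ E.autGroup U' :=
    congr_mem_autGroup hf₀ hf₀.toMulEquiv he hγ
  have hord : orderOf (MulAut.congr hf₀.toMulEquiv γ) = p ^ k := by
    rw [MulEquiv.orderOf_eq]
    exact hk
  have hTA : autInducedBy T U' ≤ E.autGroup U' := autInducedBy_le_autGroup E hU'T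
  have hcardT := card_autInducedBy_of_fullyAutomized hfa
  have hDle : Subgroup.zpowers (MulAut.congr hf₀.toMulEquiv γ) ≤ E.autGroup U' :=
    Subgroup.zpowers_le.2 hγ'
  have hDp : IsPGroup p (Subgroup.zpowers (MulAut.congr hf₀.toMulEquiv γ)) := by
    apply IsPGroup.of_card (n := k)
    rw [Nat.card_zpowers, hord]
  obtain ⟨η, hηA, hη⟩ := sylow_conj hTA hcardT hDle hDp
  have hc := hη _ (Subgroup.mem_zpowers _)
  obtain ⟨t, htT, htv⟩ := (mem_autInducedBy_iff T U' _).1 hc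
  have hηiso : IsIso E U' U' (aut1 η) := isIso_aut1 E hU'T hηA
  have hρ : IsIso E U U' (aut1 η ∘ f₀) := hf₀.trans hηiso
  have hρg : ∀ x ∈ U, (aut1 η ∘ f₀) (aut1 γ x) = t * (aut1 η ∘ f₀) x * t⁻¹ := by
    intro x hx
    have h1 := htv (η (hf₀.toMulEquiv ⟨x, hx⟩))
    have h2 : (η * MulAut.congr hf₀.toMulEquiv γ * η⁻¹) (η (hf₀.toMulEquiv ⟨x, hx⟩)) =
        η (hf₀.toMulEquiv (γ ⟨x, hx⟩)) := by
      simp [MulAut.mul_apply, MulAut.congr]
    rw [h2] at h1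
    show aut1 η (f₀ (aut1 γ x)) = t * aut1 η (f₀ x) * t⁻¹
    rw [aut1_apply_mem γ hx, ← he (γ ⟨x, hx⟩), aut1_apply, h1, ← he ⟨x, hx⟩, aut1_apply]
  -- conjugation by `t` on `U'` lies in `D`
  have hcE : IsIso E U' U' (fun y => t * y * t⁻¹) := by
    obtain ⟨ρ', hρ', hρ'1, hρ'2⟩ := hρ.symm
    refine ((hρ'.trans hg).trans hρ).congr (fun y hy => ?_)
    show (aut1 η ∘ f₀) (aut1 γ (ρ' y)) = t * y * t⁻¹
    rw [hρg _ (hρ'.map_mem hy), hρ'2 y hy]
  have hcD0 : IsIso D U' (U'.map (MulAut.conj t).toMonoidHom) (fun y => t * y * t⁻¹) :=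
    IsIso.conj hU'T htT
  have hXe : U'.map (MulAut.conj t).toMonoidHom = U' :=
    IsIso.target_eq (isIso_of_le hDF hcD0) (isIso_of_le hEF hcE) (fun _ _ => rfl)
  rw [hXe] at hcD0
  -- transport along `ρ⁻¹`
  obtain ⟨ρ', hρ', hρ'1, hρ'2⟩ := hρ.symm
  have hρ'F : IsIso F U' U ρ' := isIso_of_le hEF hρ'
  obtain ⟨χ', R, R₁, hχ', hR, hχ'v⟩ := (si_of_inv hinvD).fn le_rfl le_rfl hU'T hcD0 hρ'F
  have hRU : R = U := by
    ext y
    rw [hR]
    constructor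
    · rintro ⟨x, hx, rfl⟩
      exact hρ'.map_mem hx
    · intro hy
      exact ⟨(aut1 η ∘ f₀) y, hρ.map_mem hy, hρ'1 y hy⟩
  rw [hRU] at hχ'
  have hval : ∀ x ∈ U, χ' x = aut1 γ x := by
    intro x hx
    have h1 := hχ'v _ (hρ.map_mem hx)
    rw [hρ'1 x hx] at h1
    rw [h1, ← hρg x hx, hρ'1 _ (hg.map_mem hx)]
  have hχ'' : IsIso D U R₁ (aut1 γ) := hχ'.congr hval
  have hR₁ : R₁ = U :=
    IsIso.target_eq (isIso_of_le hDF hχ'') (isIso_of_le hEF hg) (fun _ _ => rfl)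
  rwa [hR₁] at hχ''

theorem pPHyp_of_invariant (hS : IsPGroup p S) (hEs : E.IsSaturated p)
    (hEF : E.IsSubsystemOf F) (hinvD : D.IsInvariantIn F) : PPHyp E p D := by
  intro P hP
  rw [Subgroup.map_le_iff_le_comap, Subgroup.closure_le]
  rintro γ ⟨k, hk⟩
  have hk' : orderOf (γ : MulAut P) = p ^ k := by rw [Subgroup.orderOf_coe]; exact hk
  exact pPower_mem_of_invariant hS hEs hEF hinvD hP.1 γ.2 hk'

end

/-- The isomorphisms `a ∘ ε` with `a ∈ Aut_E(T)` and `ε` in `D`. -/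
def ProdIso (F : FusionSystem S) (E D : FusionSystem T) (P Q : Subgroup Ω) (f : Ω → Ω) : Prop :=
  IsIso F P Q f ∧ P ≤ T ∧ ∃ (a ε : Ω → Ω) (P₀ : Subgroup Ω), IsIso E T T a ∧ IsIso D P P₀ ε ∧
    ∀ x ∈ P, f x = a (ε x)

theorem ProdIso.le_right {E D : FusionSystem T} {P Q : Subgroup Ω} {f : Ω → Ω}
    (h : ProdIso F E D P Q f) : Q ≤ T := by
  obtain ⟨hf, -, a, ε, P₀, ha, hε, hv⟩ := h
  intro y hy
  obtain ⟨x, hx, rfl⟩ := hf.surjOn hy
  rw [hv x hx]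
  exact ha.map_mem (hε.le_right (hε.map_mem hx))

theorem isoPred_prodIso {E D : FusionSystem T} (hEF : E.IsSubsystemOf F)
    (hinvD : D.IsInvariantIn F) :
    IsoPred (PP.resSys F T hinvD.2.1.1) (ProdIso F E D) where
  sub := fun h => PP.isIso_resSys_iff.2 ⟨h.1, h.2.1, h.le_right⟩
  congr := by
    rintro P Q f g ⟨hf, hP, a, ε, P₀, ha, hε, hv⟩ hfg
    exact ⟨hf.congr hfg, hP, a, ε, P₀, ha, hε, fun x hx => by rw [← hfg x hx, hv x hx]⟩
  conj := by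
    intro P hP s hs
    have hTS := hinvD.2.1.1
    exact ⟨_, IsIso.conj (hP.trans hTS) (hTS hs), hP, id, _, _, IsIso.refl le_rfl,
      IsIso.conj (F := D) hP hs, fun _ _ => rfl⟩
  restrict := by
    rintro P Q P' Q' f ⟨hf, hP, a, ε, P₀, ha, hε, hv⟩ hP' hf'
    obtain ⟨P₀', -, hP₀', -⟩ := hε.restrict hP'
    exact ⟨(PP.isIso_resSys_iff.1 hf').1, hP'.trans hP, a, ε, P₀', ha, hP₀',
      fun x hx => hv x (hP' hx)⟩
  trans := by
    rintro P Q R f g ⟨hf, hP, a₁, e₁, U₀, ha₁, he₁, hv₁⟩ hg'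
    have hQT : Q ≤ T := ProdIso.le_right ⟨hf, hP, a₁, e₁, U₀, ha₁, he₁, hv₁⟩
    obtain ⟨hg, -, a₂, e₂, U₀', ha₂, he₂, hv₂⟩ := hg'
    obtain ⟨c, hc, hca, hac⟩ := ha₁.symm
    have hU₀T : U₀ ≤ T := he₁.le_right
    have hU₀'T : U₀' ≤ T := he₂.le_right
    have hcF : IsIso F T T c := isIso_of_le hEF hc
    obtain ⟨χ', R', R₁, hχ', hR, hχ'v⟩ := (si_of_inv hinvD).fn hQT hU₀'T le_rfl he₂ hcF
    have hcf : ∀ x ∈ P, c (f x) = e₁ x := by
      intro x hx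
      rw [hv₁ x hx, hca _ (hU₀T (he₁.map_mem hx))]
    have hRU₀ : R' = U₀ := by
      ext y
      rw [hR]
      constructor
      · rintro ⟨x, hx, rfl⟩
        obtain ⟨u, hu, rfl⟩ := hf.surjOn hx
        rw [hcf u hu]
        exact he₁.map_mem hu
      · intro hy
        obtain ⟨u, hu, rfl⟩ := he₁.surjOn hy
        exact ⟨f u, hf.map_mem hu, hcf u hu⟩
    rw [hRU₀] at hχ'
    refine ⟨hf.trans hg, hP, a₂ ∘ a₁, χ' ∘ e₁, R₁, ha₁.trans ha₂, he₁.trans hχ',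
      fun x hx => ?_⟩
    show g (f x) = a₂ (a₁ (χ' (e₁ x)))
    have hfx : f x ∈ Q := hf.map_mem hx
    rw [hv₂ _ hfx, ← hcf x hx, hχ'v _ hfx, hac _ (hU₀'T (he₂.map_mem hfx))]
  symm := by
    rintro P Q f g hf' hg hgf
    have hQT : Q ≤ T := hf'.le_right
    obtain ⟨hf, hP, a, ε, P₀, ha, hε, hv⟩ := hf'
    have hgF := (PP.isIso_resSys_iff.1 hg).1
    obtain ⟨c, hc, hca, hac⟩ := ha.symm
    obtain ⟨k, hk, hkε, hεk⟩ := hε.symm
    have hP₀T : P₀ ≤ T := hε.le_right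
    have haF : IsIso F T T a := isIso_of_le hEF ha
    obtain ⟨χ', R', R₁, hχ', hR, hχ'v⟩ := (si_of_inv hinvD).fn hP₀T hP le_rfl hk haF
    have hRQ : R' = Q := by
      ext y
      rw [hR]
      constructor
      · rintro ⟨x, hx, rfl⟩
        obtain ⟨u, hu, rfl⟩ := hε.surjOn hx
        rw [← hv u hu]
        exact hf.map_mem hu
      · intro hy
        obtain ⟨u, hu, rfl⟩ := hf.surjOn hy
        exact ⟨ε u, hε.map_mem hu, (hv u hu).symm⟩
    rw [hRQ] at hχ'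
    refine ⟨hgF, hQT, c, χ', R₁, hc, hχ', fun y hy => ?_⟩
    obtain ⟨u, hu, rfl⟩ := hf.surjOn hy
    rw [hgf u hu, hv u hu, hχ'v _ (hε.map_mem hu), hkε u hu, hca u (hP hu)]

/-- The system `Aut_E(T) · D` over `T`. -/
def prodSys {E D : FusionSystem T} (hEF : E.IsSubsystemOf F) (hinvD : D.IsInvariantIn F) :
    FusionSystem T := sysOfPred (isoPred_prodIso hEF hinvD)

theorem isIso_prodSys_iff {E D : FusionSystem T} (hEF : E.IsSubsystemOf F)
    (hinvD : D.IsInvariantIn F) {P Q : Subgroup Ω} {f : Ω → Ω} :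
    IsIso (prodSys hEF hinvD) P Q f ↔ ProdIso F E D P Q f := isIso_sysOfPred_iff _

theorem autGroup_prodSys_le {E D : FusionSystem T} (hEF : E.IsSubsystemOf F)
    (hinvD : D.IsInvariantIn F) : (prodSys hEF hinvD).autGroup T ≤ F.autGroup T := by
  intro α hα
  apply mem_autGroup_of_isIso_aut1'
  exact ((isIso_prodSys_iff hEF hinvD).1 (isIso_aut1 _ le_rfl hα)).1

theorem autGroup_le_prodSys {E D : FusionSystem T} (hEF : E.IsSubsystemOf F)
    (hinvD : D.IsInvariantIn F) : E.autGroup T ≤ (prodSys hEF hinvD).autGroup T := by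
  intro α hα
  apply mem_autGroup_of_isIso_aut1'
  rw [isIso_prodSys_iff]
  have h := isIso_aut1 E le_rfl hα
  exact ⟨isIso_of_le hEF h, le_rfl, aut1 α, id, T, h, IsIso.refl le_rfl, fun _ _ => rfl⟩

/-- `D` is invariant in `Aut_E(T) · D`. -/
theorem invariant_prodSys {E D : FusionSystem T} (hEF : E.IsSubsystemOf F)
    (hinvD : D.IsInvariantIn F) : D.IsInvariantIn (prodSys hEF hinvD) := by
  refine ⟨fun P φ hφ => ?_, ⟨le_rfl, fun R _ φ hφ x => hom_mem_S _ hφ x⟩, ?_, ?_⟩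
  · have h : IsIso D P φ.range (ext1 φ) := isIso_of_mem D hφ
    have h' : IsIso (prodSys hEF hinvD) P φ.range (ext1 φ) :=
      (isIso_prodSys_iff hEF hinvD).2 ⟨isIso_of_le hinvD.1 h, hom_le D hφ, id, ext1 φ, _,
        IsIso.refl le_rfl, h, fun _ _ => rfl⟩
    exact mem_hom_of_isIso _ h' (fun x => (ext1_apply φ x).symm)
  · intro P hPT φ hφ α hα
    exact hinvD.2.2.1 P hPT φ hφ α (autGroup_prodSys_le hEF hinvD hα)
  · intro P hPT φ hφ
    have h := (isIso_prodSys_iff hEF hinvD).1 (isIso_of_mem _ hφ)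
    obtain ⟨-, -, a, ε, P₀, ha, hε, hv⟩ := h
    obtain ⟨α, hα, hαv⟩ := exists_mem_autGroup_of_isIso E ha
    obtain ⟨φ₀, hφ₀, hφ₀v, -⟩ := hε
    refine ⟨α, autGroup_le_prodSys hEF hinvD hα, φ₀, hφ₀, fun x hx => ?_⟩
    rw [hαv]
    show φ x = a (φ₀ x)
    rw [hφ₀v, ← hv x x.2, ext1_apply]

end Cfsg.Agent.Lib.H25.NormalRes
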