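/-
The `p'`-residual subsystem of a weakly normal subsystem `E` of `F` over `T` is contained in every
weakly normal subsystem `D` of `F` over `T` (main part).
-/
import Mathlib
import Cfsg.Prelude.Def_FusionSystem
import Cfsg.Prelude.Def_FusionComponents
import Cfsg.Agent.Lib.H25.NormalRes
set_option autoImplicit false

namespace Cfsg.Agent.Lib.H25.NormalRes

open Cfsg Cfsg.FusionSystem Cfsg.Agent.Lib.H25 Cfsg.Agent.S5114 Cfsg.Agent.S5119
  Cfsg.Agent.Lib.H25.FrG Cfsg.Agent.Lib.H25.Oliver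

variable {Ω : Type*} [Group Ω] {S : Subgroup Ω} {F : FusionSystem S} {T : Subgroup Ω}

/-- `Aut_D(T)` is normal in `Aut_F(T)` for `D` invariant in `F`. -/
theorem normal_autGroup [Finite S] {D : FusionSystem T} (hinv : D.IsInvariantIn F) :
    ((D.autGroup T).subgroupOf (F.autGroup T)).Normal := by
  have hTS := hinv.2.1.1
  have hfinT : Finite T := finite_of_le S hTS
  constructor
  intro n hn g
  rw [Subgroup.mem_subgroupOf] at hn ⊢
  show (g : MulAut T) * (n : MulAut T) * (g : MulAut T)⁻¹ ∈ D.autGroup T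
  have hnD : IsIso D T T (aut1 (n : MulAut T)) := isIso_aut1 D le_rfl hn
  have hgF : IsIso F T T (aut1 (g : MulAut T)) := isIso_aut1 F hTS g.2
  obtain ⟨χ', R, R₁, hχ', hR, hχ'v⟩ := (si_of_inv hinv).fn le_rfl le_rfl le_rfl hnD hgF
  have hRT : R = T := by
    ext y
    rw [hR]
    constructor
    · rintro ⟨x, hx, rfl⟩
      exact hgF.map_mem hx
    · intro hy
      exact hgF.surjOn hy
  rw [hRT] at hχ'
  have hR₁ : R₁ = T :=
    Subgroup.eq_of_le_of_card_ge hχ'.le_right (le_of_eq hχ'.card_eq)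
  rw [hR₁] at hχ'
  obtain ⟨δ, hδ, hδv⟩ := exists_mem_autGroup_of_isIso D hχ'
  have : δ = (g : MulAut T) * (n : MulAut T) * (g : MulAut T)⁻¹ := by
    ext y
    rw [hδv]
    have h1 := hχ'v (((g : MulAut T)⁻¹ y : T) : Ω) ((g : MulAut T)⁻¹ y).2
    rw [aut1_apply (g : MulAut T) ((g : MulAut T)⁻¹ y), aut1_apply (n : MulAut T)] at h1
    have h2 : (g : MulAut T) ((g : MulAut T)⁻¹ y) = y := by simp
    rw [h2, aut1_apply] at h1
    rw [h1]
    rfl
  rw [← this]
  exact hδ

section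

variable [Finite S] {p : ℕ} [hp : Fact p.Prime] {E D : FusionSystem T}

/-- The index of `Aut_D(T)` in `Aut_{Aut_E(T) · D}(T)` is prime to `p`. -/
theorem coprime_card_quot (hS : IsPGroup p S) (hEs : E.IsSaturated p)
    (hEF : E.IsSubsystemOf F) (hinvD : D.IsInvariantIn F)
    [hn : ((D.autGroup T).subgroupOf ((prodSys hEF hinvD).autGroup T)).Normal] :
    (Nat.card (↥((prodSys hEF hinvD).autGroup T) ⧸
      (D.autGroup T).subgroupOf ((prodSys hEF hinvD).autGroup T))).Coprime p := by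
  have hTS : T ≤ S := hinvD.2.1.1
  have hfinT : Finite T := finite_of_le S hTS
  have hTp : IsPGroup p T := hS.to_le hTS
  set A' := (prodSys hEF hinvD).autGroup T with hA'
  set B' := (D.autGroup T).subgroupOf A' with hB'
  let ψ : ↥(E.autGroup T) →* ↥A' ⧸ B' :=
    (QuotientGroup.mk' B').comp (Subgroup.inclusion (autGroup_le_prodSys hEF hinvD))
  have hψ : Function.Surjective ψ := by
    intro δ
    obtain ⟨a', rfl⟩ := QuotientGroup.mk_surjective δ
    have h1 := (isIso_prodSys_iff hEF hinvD).1 (isIso_aut1 _ le_rfl a'.2)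
    obtain ⟨-, -, a, ε, P₀, ha, hε, hv⟩ := h1
    have hP₀ : P₀ = T := Subgroup.eq_of_le_of_card_ge hε.le_right (le_of_eq hε.card_eq)
    rw [hP₀] at hε
    obtain ⟨α, hα, hαv⟩ := exists_mem_autGroup_of_isIso E ha
    obtain ⟨β, hβ, hβv⟩ := exists_mem_autGroup_of_isIso D hε
    have hβA : β ∈ A' := by
      apply mem_autGroup_of_isIso_aut1'
      rw [isIso_prodSys_iff]
      have h := isIso_aut1 D le_rfl hβ
      exact ⟨isIso_of_le hinvD.1 h, le_rfl, id, aut1 β, T, IsIso.refl le_rfl, h,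
        fun _ _ => rfl⟩
    have hprod : (a' : MulAut T) = α * β := by
      ext x
      have := hv x x.2
      rw [aut1_apply] at this
      rw [this, MulAut.mul_apply, hαv, hβv]
    refine ⟨⟨α, hα⟩, ?_⟩
    show QuotientGroup.mk' B' (Subgroup.inclusion (autGroup_le_prodSys hEF hinvD) ⟨α, hα⟩) =
      QuotientGroup.mk' B' a'
    rw [QuotientGroup.mk'_eq_mk']
    refine ⟨⟨β, hβA⟩, Subgroup.mem_subgroupOf.2 hβ, ?_⟩
    apply Subtype.ext
    show α * β = (a' : MulAut T)
    exact hprod.symm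
  obtain ⟨-, hfa⟩ := fullyNormalized_props hTp hEs (isFullyNormalized_self E)
  obtain ⟨-, R, hR⟩ := hfa
  have hmap : (R : Subgroup ↥(E.autGroup T)).map ψ = ⊥ := by
    rw [eq_bot_iff]
    rintro _ ⟨r, hr, rfl⟩
    have hr' : r ∈ (autInducedBy T T).subgroupOf (E.autGroup T) := by
      have := hr
      rw [hR] at this
      exact this
    rw [Subgroup.mem_subgroupOf] at hr'
    rw [Subgroup.mem_bot]
    show QuotientGroup.mk' B' (Subgroup.inclusion (autGroup_le_prodSys hEF hinvD) r) = 1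
    rw [QuotientGroup.mk'_apply, QuotientGroup.eq_one_iff]
    exact Subgroup.mem_subgroupOf.2 (autInducedBy_le_autGroup D le_rfl hr')
  have hcard := (R.mapSurjective hψ).card_eq_multiplicity
  have hbot : Nat.card ↥((R.mapSurjective hψ : Sylow p (↥A' ⧸ B')) : Subgroup (↥A' ⧸ B')) = 1 := by
    rw [Sylow.coe_mapSurjective, hmap]
    exact Subgroup.card_bot
  rw [hbot] at hcard
  have hfac : (Nat.card (↥A' ⧸ B')).factorization p = 0 := by
    by_contra h0
    have : 1 < p ^ (Nat.card (↥A' ⧸ B')).factorization p :=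
      Nat.one_lt_pow h0 hp.out.one_lt
    omega
  have hnd : ¬ p ∣ Nat.card (↥A' ⧸ B') := by
    intro hdvd
    have hpos : Nat.card (↥A' ⧸ B') ≠ 0 := Nat.card_pos.ne'
    have := (hp.out.dvd_iff_one_le_factorization hpos).1 hdvd
    omega
  exact ((Nat.Prime.coprime_iff_not_dvd hp.out).2 hnd).symm

/-- `Aut⁰_E(T) ≤ Aut_D(T)`. -/
theorem A0_le (hS : IsPGroup p S) (hEs : E.IsSaturated p) (hEinv : E.IsInvariantIn F)
    (hDs : D.IsSaturated p) (hDinv : D.IsInvariantIn F) {b b' : Ω → Ω} (h : A0 E p b b') :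
    IsIso D T T b ∧ IsIso D T T b' := by
  have hTS : T ≤ S := hDinv.2.1.1
  have hfinT : Finite T := finite_of_le S hTS
  have hTp : IsPGroup p T := hS.to_le hTS
  induction h with
  | @gen b b' P P' hb hP hJ =>
    have hEF := hEinv.1
    have hPD : IsIso D P P' b :=
      hJ.isIso_of_pPHyp (pPHyp_of_invariant hS hEs hEF hDinv)
    have hPc' : D.IsCentric P := by
      refine ⟨hP.1, fun Q hQ => ?_⟩
      obtain ⟨g, hg⟩ := (isConj_iff D).1 hQ
      have hQc : E.IsCentric Q := eCentric_of_isIso hEinv hP (isIso_of_le hDinv.1 hg)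
      exact hQc.2 Q (isConj_refl E hQc.1)
    have hinv' := invariant_prodSys hEF hDinv
    haveI hn : ((D.autGroup T).subgroupOf ((prodSys hEF hDinv).autGroup T)).Normal :=
      normal_autGroup hinv'
    have hΔ := coprime_card_quot hS hEs hEF hDinv
    have hker : (D.autGroup T).subgroupOf ((prodSys hEF hDinv).autGroup T) ≤
        (QuotientGroup.mk' ((D.autGroup T).subgroupOf ((prodSys hEF hDinv).autGroup T))).ker := by
      rw [QuotientGroup.ker_mk']
    have hbF' : IsIso (prodSys hEF hDinv) T T b :=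
      (isIso_prodSys_iff hEF hDinv).2 ⟨isIso_of_le hEF hb.1, le_rfl, b, id, T, hb.1,
        IsIso.refl le_rfl, fun _ _ => rfl⟩
    obtain ⟨d, hd⟩ := ChiVal.exists_of_isIso
      (χ := QuotientGroup.mk' ((D.autGroup T).subgroupOf ((prodSys hEF hDinv).autGroup T))) hbF'
    have hd1 : d = 1 := lx_all hTp hDs hinv' hΔ hker _ P hPc' rfl b d P' hd hPD
    obtain ⟨β, hβ1, hβv⟩ := hd
    rw [hd1, QuotientGroup.mk'_apply, QuotientGroup.eq_one_iff, Subgroup.mem_subgroupOf] at hβ1
    have h1 : IsIso D T T b := by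
      refine (isIso_aut1 D le_rfl hβ1).congr (fun x hx => ?_)
      rw [aut1_apply_mem _ hx]
      exact hβv ⟨x, hx⟩
    refine ⟨h1, ?_⟩
    obtain ⟨k, hk, hkb, -⟩ := h1.symm
    refine hk.congr (fun y hy => ?_)
    obtain ⟨x, hx, rfl⟩ := hb.1.surjOn hy
    rw [hkb x hx, hb.2.2.1 x hx]
  | symm _ ih => exact ⟨ih.2, ih.1⟩
  | trans _ _ ih1 ih2 => exact ⟨ih2.1.trans ih1.1, ih1.2.trans ih2.2⟩
  | congr _ h1 h2 ih => exact ⟨ih.1.congr h1, ih.2.congr h2⟩

/-- The `p'`-residual subsystem of `E` is contained in `D`. -/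
theorem pPrimeResidual_le (hS : IsPGroup p S) (hEs : E.IsSaturated p)
    (hEinv : E.IsInvariantIn F) (hDs : D.IsSaturated p) (hDinv : D.IsInvariantIn F)
    {R : FusionSystem T} (hR : E.IsPPrimeResidual p R) : R.IsSubsystemOf D := by
  have hTS : T ≤ S := hDinv.2.1.1
  have hfinT : Finite T := finite_of_le S hTS
  have hTp : IsPGroup p T := hS.to_le hTS
  have hH := autFam_A0 E p
  have h1 : (EH E p hH).IsSaturated p := EH_saturated hTp hEs hH
  have h2 : (EH E p hH).HasPrimeToPIndexIn E p :=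
    (Cfsg.Agent.S5114.result p hTp E hEs _ (EH_le hH) (pPHyp_EH hH)).1
  have h3 : R.IsSubsystemOf (EH E p hH) := hR.2.2 _ h1 h2
  have h4 : (EH E p hH).IsSubsystemOf D :=
    EH_le_of_le hH (pPHyp_of_invariant hS hEs hEinv.1 hDinv)
      (fun b b' h => (A0_le hS hEs hEinv hDs hDinv h).1)
  exact fun P φ hφ => h4 P (h3 P hφ)

end

end Cfsg.Agent.Lib.H25.NormalRes
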