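import Mathlib
import Cfsg.Prelude.Def_FusionSystem
import Cfsg.Prelude.Def_TwoFusion
import Cfsg.Agent.Lib.H25.Fusion
import Cfsg.Agent.Lib.H25.Hyperfocal
import Cfsg.Agent.Lib.H25.SatEquiv
import Cfsg.Agent.Lib.H26.GroupSaturated

set_option autoImplicit false

/-!
# Criteria for a fusion system to be simple (helper25)
-/

namespace Cfsg.Agent.Lib.H25.SimpleCrit

open Cfsg Cfsg.FusionSystem Cfsg.Agent.Lib.H25

variable {Ω : Type*} [Group Ω] {S : Subgroup Ω}

/-- An invariant subsystem over the whole of `S` containing `Aut_F(S)` is all of `F`. -/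
theorem hom_eq_of_invariant_of_aut_le {F E : FusionSystem S} (hinv : E.IsInvariantIn F)
    (haut : F.autGroup S ≤ E.autGroup S) (P : Subgroup Ω) : E.Hom P = F.Hom P := by
  apply Set.Subset.antisymm (hinv.1 P)
  intro φ hφ
  have hPS : P ≤ S := hom_le F hφ
  obtain ⟨α, hα, φ₀, hφ₀, hfr⟩ := hinv.2.2.2 P hPS φ hφ
  have hαE : S.subtype.comp α.toMonoidHom ∈ E.Hom S := (mem_autGroup_iff E le_rfl α).1 (haut hα)
  have hmem : ∀ x : P, φ₀ x ∈ S := fun x => hom_mem_S E hφ₀ x
  have hcomp := E.comp_mem hφ₀ hαE hmem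
  have : φ = (S.subtype.comp α.toMonoidHom).comp (φ₀.codRestrict S hmem) := by
    ext x
    rw [hfr x (hmem x)]
    rfl
  rw [this]
  exact hcomp

/-- If `Aut(S)` is a `p`-group then `Aut_F(S) = Inn(S)` for a saturated system. -/
theorem autGroup_le_of_isPGroup_mulAut [Finite S] {p : ℕ} [Fact p.Prime] (hS : IsPGroup p S)
    {F : FusionSystem S} (hF : F.IsSaturated p) (haut : IsPGroup p (MulAut S)) :
    F.autGroup S ≤ autInducedBy S S := by
  obtain ⟨-, -, R, hR⟩ := fullyNormalized_props hS hF (isFullyNormalized_self F)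
  have hpg : IsPGroup p (F.autGroup S) := haut.to_subgroup _
  have htop : (R : Subgroup (F.autGroup S)) = ⊤ := by
    exact (R.is_maximal' (hpg.to_subgroup ⊤) le_top).symm
  intro α hα
  have : (⟨α, hα⟩ : F.autGroup S) ∈ (R : Subgroup (F.autGroup S)) := by rw [htop]; trivial
  rw [hR, Subgroup.mem_subgroupOf] at this
  exact this

/-- Criterion for simplicity: no proper nontrivial strongly closed subgroups, and `Aut(S)` a
`p`-group. -/
theorem isSimple_of_isPGroup_mulAut [Finite S] {p : ℕ} [Fact p.Prime] (hS : IsPGroup p S)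
    {F : FusionSystem S} (hF : F.IsSaturated p) (hne : S ≠ ⊥)
    (hsc : ∀ T : Subgroup Ω, F.StronglyClosed T → T = ⊥ ∨ T = S)
    (haut : IsPGroup p (MulAut S)) : F.IsSimple p := by
  refine ⟨hF, hne, ?_⟩
  intro T E hE
  rcases hsc T hE.1.2.2.2.1 with h | h
  · exact Or.inl h
  · right
    subst h
    refine ⟨rfl, fun P => ?_⟩
    apply hom_eq_of_invariant_of_aut_le hE.1.2.2
    exact (autGroup_le_of_isPGroup_mulAut hS hF haut).trans (autInducedBy_le_autGroup E le_rfl)

section Group

variable {G : Type*} [Group G]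

/-- Strong closure in `F_S(G)` gives strong closure with respect to `G`. -/
theorem isStronglyClosed_of_stronglyClosed {S T : Subgroup G}
    (h : (groupFusionSystem S).StronglyClosed T) : Cfsg.IsStronglyClosed T S := by
  refine ⟨h.1, fun x hx g hg => ?_⟩
  have hR : Subgroup.zpowers x ≤ T := by
    rw [Subgroup.zpowers_le]; exact hx
  have hφ : conjHom (Subgroup.zpowers x) g ∈ (groupFusionSystem S).Hom (Subgroup.zpowers x) := by
    refine ⟨hR.trans h.1, fun y => ?_, g, fun y => rfl⟩
    obtain ⟨k, hk⟩ := Subgroup.mem_zpowers_iff.1 y.2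
    show g * (y : G) * g⁻¹ ∈ S
    rw [← hk]
    have : g * x ^ k * g⁻¹ = (g * x * g⁻¹) ^ k := by
      rw [conj_zpow]
    rw [this]
    exact S.zpow_mem hg k
  exact h.2 _ hR _ hφ ⟨x, Subgroup.mem_zpowers x⟩

/-- Group-theoretic criterion for the simplicity of `F_S(G)`. -/
theorem groupFusionSystem_isSimple [Finite G] {p : ℕ} [Fact p.Prime] (S : Sylow p G)
    (hne : (S : Subgroup G) ≠ ⊥)
    (hsc : ∀ T : Subgroup G, Cfsg.IsStronglyClosed T (S : Subgroup G) →
      T = ⊥ ∨ T = (S : Subgroup G))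
    (haut : IsPGroup p (MulAut (S : Subgroup G))) :
    (groupFusionSystem (S : Subgroup G)).IsSimple p :=
  isSimple_of_isPGroup_mulAut S.isPGroup'
    (Cfsg.Agent.Lib.H26.groupFusionSystem_isSaturated S) hne
    (fun T hT => hsc T (isStronglyClosed_of_stronglyClosed hT)) haut

end Group

end Cfsg.Agent.Lib.H25.SimpleCrit
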