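import Cfsg.Agent.Lib.H25.KNormSat

set_option autoImplicit false

/-!
Saturation of the normalizer system `N_F(Q)` (for `Q` fully normalized) and of the centralizer
system `C_F(Q)` (for `Q` fully centralized) of a saturated fusion system (AKO, Theorem I.5.5 with
`K = Aut(Q)` and `K = 1`).
-/

namespace Cfsg.Agent.Lib.H25

open Cfsg Cfsg.FusionSystem

variable {Ω : Type*} [Group Ω] {S : Subgroup Ω}

theorem normalizerIn_eq_NK_top (F : FusionSystem S) {Q : Subgroup Ω} (hQ : Q ≤ S) :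
    normalizerIn S Q = NK S (⊤ : Subgroup (MulAut Q)) (id : Ω → Ω) := by
  ext y
  constructor
  · intro hy
    obtain ⟨α, -, hα⟩ := exists_mem_autGroup_of_isIso F (isIso_conj_normalizer F hQ hy)
    exact ⟨hy.1, α, Subgroup.mem_top _, fun q => hα q⟩
  · rintro ⟨hyS, k, -, hk⟩
    have hk' : ∀ q : Q, ((k q : Q) : Ω) = y * q * y⁻¹ := hk
    exact ⟨hyS, mem_normalizer_of_induces hk'⟩

theorem isKMax_top_of_fullyNormalized [Finite S] {F : FusionSystem S} {Q : Subgroup Ω}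
    (hQ : F.IsFullyNormalized Q) : IsKMax F (⊤ : Subgroup (MulAut Q)) (id : Ω → Ω) := by
  intro Z g hg
  have h1 : NK S (⊤ : Subgroup (MulAut Q)) g ≤ normalizerIn S Z := NK_le_normalizerIn hg _
  have hfin : Finite (normalizerIn S Z) := finite_of_le S inf_le_left
  have hfin' : Finite (NK S (⊤ : Subgroup (MulAut Q)) (id : Ω → Ω)) :=
    finite_of_le S (NK_le _ _)
  calc Nat.card (NK S (⊤ : Subgroup (MulAut Q)) g) ≤ Nat.card (normalizerIn S Z) :=
        Subgroup.card_le_of_le h1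
    _ ≤ Nat.card (normalizerIn S Q) := hQ.2 Z hg.isConj
    _ ≤ Nat.card (NK S (⊤ : Subgroup (MulAut Q)) (id : Ω → Ω)) :=
        Subgroup.card_le_of_le (normalizerIn_eq_NK_top F hQ.1).le

/-- AKO Theorem I.5.5 for `K = Aut(Q)`: the normalizer system of a fully normalized subgroup of a
saturated fusion system is saturated. -/
theorem normalizerSystem_isSaturated [Finite S] {p : ℕ} [Fact p.Prime] (hS : IsPGroup p S)
    {F : FusionSystem S} (hF : F.IsSaturated p) {Q : Subgroup Ω} (hQ : F.IsFullyNormalized Q)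
    (E : FusionSystem (normalizerIn S Q)) (hE : F.IsNormalizerSystem Q E) : E.IsSaturated p := by
  refine KNorm_saturated' hS hF hQ.1 (isKMax_top_of_fullyNormalized hQ)
    (normalizerIn_eq_NK_top F hQ.1) E (fun P φ => ?_)
  rw [hE P]
  constructor
  · rintro ⟨hφ, hP, hval, ψ, hψ, hψφ, hmap⟩
    refine ⟨hφ, hP, hval, ψ, hψ, hψφ, ?_⟩
    have h1 : IsIso F (P ⊔ Q) ψ.range (ext1 ψ) := isIso_of_mem F hψ
    have hQQ : IsIso F Q Q (ext1 ψ) := by
      refine h1.restrict' le_sup_right (fun q hq => ?_) (fun y hy => ?_)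
      · rw [ext1_apply_mem ψ ((le_sup_right : Q ≤ P ⊔ Q) hq)]
        have : ψ ⟨q, (le_sup_right : Q ≤ P ⊔ Q) hq⟩ ∈ (Q.subgroupOf (P ⊔ Q)).map ψ :=
          ⟨⟨q, (le_sup_right : Q ≤ P ⊔ Q) hq⟩, Subgroup.mem_subgroupOf.2 hq, rfl⟩
        exact hmap.le this
      · have hy' : y ∈ (Q.subgroupOf (P ⊔ Q)).map ψ := hmap.ge hy
        obtain ⟨x, hx, rfl⟩ := hy'
        exact ⟨x, Subgroup.mem_subgroupOf.1 hx, ext1_apply ψ x⟩
    obtain ⟨α, -, hα⟩ := exists_mem_autGroup_of_isIso F hQQ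
    refine ⟨α, Subgroup.mem_top _, fun q => ?_⟩
    rw [hα, ext1_apply_mem ψ ((le_sup_right : Q ≤ P ⊔ Q) q.2)]
    rfl
  · rintro ⟨hφ, hP, hval, ψ, hψ, hψφ, k, -, hk⟩
    refine ⟨hφ, hP, hval, ψ, hψ, hψφ, ?_⟩
    ext y
    constructor
    · rintro ⟨x, hx, rfl⟩
      have hxQ : (x : Ω) ∈ Q := Subgroup.mem_subgroupOf.1 hx
      have := hk ⟨x, hxQ⟩
      rw [show Subgroup.inclusion (le_sup_right : Q ≤ P ⊔ Q) ⟨x, hxQ⟩ = x from rfl] at this
      rw [this]
      exact (k ⟨x, hxQ⟩).2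
    · intro hy
      refine ⟨Subgroup.inclusion (le_sup_right : Q ≤ P ⊔ Q) (k⁻¹ ⟨y, hy⟩),
        Subgroup.mem_subgroupOf.2 (k⁻¹ ⟨y, hy⟩).2, ?_⟩
      rw [hk]
      simp

theorem centralizerIn_eq_NK_bot (Q : Subgroup Ω) :
    centralizerIn S Q = NK S (⊥ : Subgroup (MulAut Q)) (id : Ω → Ω) := by
  ext y
  constructor
  · intro hy
    refine ⟨hy.1, 1, Subgroup.one_mem _, fun q => ?_⟩
    have := hy.2 q q.2
    show (q : Ω) = y * q * y⁻¹
    rw [← this]
    group
  · rintro ⟨hyS, k, hk, hkv⟩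
    rw [Subgroup.mem_bot] at hk
    subst hk
    refine ⟨hyS, ?_⟩
    show y ∈ Subgroup.centralizer (Q : Set Ω)
    rw [Subgroup.mem_centralizer_iff]
    intro q hq
    have h1 : q = y * q * y⁻¹ := hkv ⟨q, hq⟩
    calc q * y = y * q * y⁻¹ * y := by rw [← h1]
      _ = y * q := by group

theorem isKMax_bot_of_fullyCentralized [Finite S] {F : FusionSystem S} {Q : Subgroup Ω}
    (hQ : F.IsFullyCentralized Q) : IsKMax F (⊥ : Subgroup (MulAut Q)) (id : Ω → Ω) := by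
  intro Z g hg
  have h1 : NK S (⊥ : Subgroup (MulAut Q)) g ≤ centralizerIn S Z := by
    rintro z ⟨hzS, k, hk, hkv⟩
    rw [Subgroup.mem_bot] at hk
    subst hk
    refine ⟨hzS, ?_⟩
    show z ∈ Subgroup.centralizer (Z : Set Ω)
    rw [Subgroup.mem_centralizer_iff]
    intro w hw
    obtain ⟨q, hq, rfl⟩ := hg.surjOn hw
    have h2 : g q = z * g q * z⁻¹ := hkv ⟨q, hq⟩
    calc g q * z = z * g q * z⁻¹ * z := by rw [← h2]
      _ = z * g q := by group
  have hfin : Finite (centralizerIn S Z) := finite_of_le S inf_le_left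
  have hfin' : Finite (NK S (⊥ : Subgroup (MulAut Q)) (id : Ω → Ω)) :=
    finite_of_le S (NK_le _ _)
  calc Nat.card (NK S (⊥ : Subgroup (MulAut Q)) g) ≤ Nat.card (centralizerIn S Z) :=
        Subgroup.card_le_of_le h1
    _ ≤ Nat.card (centralizerIn S Q) := hQ.2 Z hg.isConj
    _ ≤ Nat.card (NK S (⊥ : Subgroup (MulAut Q)) (id : Ω → Ω)) :=
        Subgroup.card_le_of_le (centralizerIn_eq_NK_bot Q).le

/-- AKO Theorem I.5.5 for `K = 1`: the centralizer system of a fully centralized subgroup of a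
saturated fusion system is saturated. -/
theorem centralizerSystem_isSaturated [Finite S] {p : ℕ} [Fact p.Prime] (hS : IsPGroup p S)
    {F : FusionSystem S} (hF : F.IsSaturated p) {Q : Subgroup Ω} (hQ : F.IsFullyCentralized Q)
    (E : FusionSystem (centralizerIn S Q)) (hE : F.IsCentralizerSystem Q E) : E.IsSaturated p := by
  refine KNorm_saturated' hS hF hQ.1 (isKMax_bot_of_fullyCentralized hQ)
    (centralizerIn_eq_NK_bot Q) E (fun P φ => ?_)
  rw [hE P]
  constructor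
  · rintro ⟨hφ, hP, hval, ψ, hψ, hψφ, hfix⟩
    exact ⟨hφ, hP, hval, ψ, hψ, hψφ, 1, Subgroup.one_mem _, fun q => hfix q⟩
  · rintro ⟨hφ, hP, hval, ψ, hψ, hψφ, k, hk, hkv⟩
    rw [Subgroup.mem_bot] at hk
    subst hk
    exact ⟨hφ, hP, hval, ψ, hψ, hψφ, fun q => hkv q⟩

end Cfsg.Agent.Lib.H25
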