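import Cfsg.Agent.Lib.H25.KNormSpecial

set_option autoImplicit false

/-!
Basic properties of the normalizer system `N_F(R)`: `R` is normal in it, and centric in it as soon
as it is centric in `F`.
-/

namespace Cfsg.Agent.Lib.H25

open Cfsg Cfsg.FusionSystem

variable {Ω : Type*} [Group Ω] {S : Subgroup Ω}

/-- `R` is normal in its normalizer system. -/
theorem normalizerSystem_isNormal {F : FusionSystem S} {R : Subgroup Ω} (hR : R ≤ S)
    {E : FusionSystem (normalizerIn S R)} (hE : F.IsNormalizerSystem R E) : E.IsNormal R := by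
  have hRT : R ≤ normalizerIn S R := le_normalizerIn hR
  refine ⟨hRT, fun P φ hφ => ?_⟩
  rw [hE P] at hφ
  obtain ⟨hφF, hPT, hval, ψ, hψ, hψφ, hmap⟩ := hφ
  refine ⟨ψ, ?_, hψφ, hmap⟩
  rw [hE (P ⊔ R)]
  have h1 : IsIso F (P ⊔ R) ψ.range (ext1 ψ) := isIso_of_mem F hψ
  have hvalψ : ∀ x : ↥(P ⊔ R), ψ x ∈ normalizerIn S R := by
    have hle : P ⊔ R ≤ h1.pre (normalizerIn S R) := by
      apply sup_le
      · intro x hx
        refine ⟨(le_sup_left : P ≤ P ⊔ R) hx, ?_⟩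
        rw [ext1_apply_mem ψ ((le_sup_left : P ≤ P ⊔ R) hx)]
        have := hψφ ⟨x, hx⟩
        rw [show ψ ⟨x, _⟩ = φ ⟨x, hx⟩ from this]
        exact hval _
      · intro x hx
        refine ⟨(le_sup_right : R ≤ P ⊔ R) hx, ?_⟩
        rw [ext1_apply_mem ψ ((le_sup_right : R ≤ P ⊔ R) hx)]
        apply hRT
        have : ψ ⟨x, (le_sup_right : R ≤ P ⊔ R) hx⟩ ∈ (R.subgroupOf (P ⊔ R)).map ψ :=
          ⟨_, Subgroup.mem_subgroupOf.2 hx, rfl⟩
        exact hmap.le this
    intro x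
    have := (hle x.2).2
    rwa [ext1_apply] at this
  have heq : P ⊔ R = P ⊔ R ⊔ R := by rw [sup_assoc, sup_idem]
  refine ⟨hψ, sup_le hPT hRT, hvalψ, _, hom_cast F heq hψ, fun x => rfl, ?_⟩
  ext y
  constructor
  · rintro ⟨x, hx, rfl⟩
    have hxR : (x : Ω) ∈ R := Subgroup.mem_subgroupOf.1 hx
    have : ψ ⟨x, (le_sup_right : R ≤ P ⊔ R) hxR⟩ ∈ (R.subgroupOf (P ⊔ R)).map ψ :=
      ⟨_, Subgroup.mem_subgroupOf.2 hxR, rfl⟩
    exact hmap.le this
  · intro hy
    obtain ⟨x, hx, rfl⟩ := hmap.ge hy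
    have hxR : (x : Ω) ∈ R := Subgroup.mem_subgroupOf.1 hx
    exact ⟨⟨x, (le_sup_right : R ≤ P ⊔ R ⊔ R) hxR⟩, Subgroup.mem_subgroupOf.2 hxR, rfl⟩

/-- Every map of the normalizer system `N_F(R)` with source `R` has image `R`. -/
theorem normalizerSystem_range_eq {F : FusionSystem S} {R : Subgroup Ω}
    {E : FusionSystem (normalizerIn S R)} (hE : F.IsNormalizerSystem R E) {φ : R →* Ω}
    (hφ : φ ∈ E.Hom R) : φ.range = R := by
  rw [hE R] at hφ
  obtain ⟨-, -, -, ψ, -, hψφ, hmap⟩ := hφ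
  ext y
  constructor
  · rintro ⟨x, rfl⟩
    rw [← hψφ x]
    have : ψ (Subgroup.inclusion (le_sup_left : R ≤ R ⊔ R) x) ∈ (R.subgroupOf (R ⊔ R)).map ψ :=
      ⟨_, Subgroup.mem_subgroupOf.2 x.2, rfl⟩
    exact hmap.le this
  · intro hy
    obtain ⟨x, hx, rfl⟩ := hmap.ge hy
    have hxR : (x : Ω) ∈ R := Subgroup.mem_subgroupOf.1 hx
    exact ⟨⟨x, hxR⟩, (hψφ ⟨x, hxR⟩).symm⟩

/-- If `R` is centric in `F` then it is centric in its normalizer system. -/
theorem normalizerSystem_isCentric {F : FusionSystem S} {R : Subgroup Ω} (hRc : F.IsCentric R)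
    {E : FusionSystem (normalizerIn S R)} (hE : F.IsNormalizerSystem R E) : E.IsCentric R := by
  have hRT : R ≤ normalizerIn S R := le_normalizerIn hRc.1
  refine ⟨hRT, ?_⟩
  rintro Q' ⟨φ, hφ, hr⟩
  rw [normalizerSystem_range_eq hE hφ] at hr
  subst hr
  intro c hc
  exact hRc.2 R (isConj_refl F hRc.1) ⟨hc.1.1, hc.2⟩

/-- The normalizer system of a fully normalized centric subgroup of a saturated fusion system is
constrained. -/
theorem normalizerSystem_isConstrained [Finite S] {p : ℕ} [Fact p.Prime] (hS : IsPGroup p S)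
    {F : FusionSystem S} (hF : F.IsSaturated p) {R : Subgroup Ω} (hRn : F.IsFullyNormalized R)
    (hRc : F.IsCentric R) (E : FusionSystem (normalizerIn S R))
    (hE : F.IsNormalizerSystem R E) : E.IsConstrained p :=
  ⟨normalizerSystem_isSaturated hS hF hRn E hE, R, normalizerSystem_isNormal hRn.1 hE,
    normalizerSystem_isCentric hRc hE⟩

end Cfsg.Agent.Lib.H25
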