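import Cfsg.Agent.Lib.H25.FactorSystem
import Cfsg.Agent.S5131

set_option autoImplicit false

/-!
Surjective morphisms of fusion systems `α : F → F'`: correspondence between the subgroups of `S'`
and the subgroups of `S` containing the kernel, pushing and lifting isomorphisms.
-/

namespace Cfsg.Agent.Lib.H25

open Cfsg Cfsg.FusionSystem

variable {Ω : Type*} [Group Ω] {S : Subgroup Ω} {Ω' : Type*} [Group Ω'] {S' : Subgroup Ω'}

section Basic

variable (α : S →* Ω')

/-- `α` extended by `1` outside `S`. -/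
noncomputable abbrev al : Ω → Ω' := extTo α

theorem al_apply {x : Ω} (hx : x ∈ S) : al α x = α ⟨x, hx⟩ := extTo_mem α hx

theorem al_mul {x y : Ω} (hx : x ∈ S) (hy : y ∈ S) : al α (x * y) = al α x * al α y :=
  extTo_mul α hx hy

theorem al_inv {x : Ω} (hx : x ∈ S) : al α x⁻¹ = (al α x)⁻¹ := extTo_inv α hx

theorem al_one : al α 1 = 1 := by
  rw [al_apply α S.one_mem]
  exact map_one α

theorem al_conj {g x : Ω} (hg : g ∈ S) (hx : x ∈ S) :
    al α (g * x * g⁻¹) = al α g * al α x * (al α g)⁻¹ := by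
  rw [al_mul α (S.mul_mem hg hx) (S.inv_mem hg), al_mul α hg hx, al_inv α hg]

theorem mem_pre_iff (P' : Subgroup Ω') (x : Ω) :
    x ∈ preimageAlong α P' ↔ x ∈ S ∧ al α x ∈ P' := by
  rw [mem_preimageAlong_iff]
  constructor
  · rintro ⟨hxS, h⟩
    exact ⟨hxS, by rw [al_apply α hxS]; exact h⟩
  · rintro ⟨hxS, h⟩
    exact ⟨hxS, by rw [← al_apply α hxS]; exact h⟩

theorem mem_image_iff (P : Subgroup Ω) (y : Ω') :
    y ∈ imageAlong α P ↔ ∃ x ∈ P, x ∈ S ∧ al α x = y := by
  rw [mem_imageAlong_iff]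
  constructor
  · rintro ⟨x, hxS, hxP, h⟩
    exact ⟨x, hxP, hxS, by rw [al_apply α hxS]; exact h⟩
  · rintro ⟨x, hxP, hxS, h⟩
    exact ⟨x, hxS, hxP, by rw [← al_apply α hxS]; exact h⟩

theorem pre_mono {P' Q' : Subgroup Ω'} (h : P' ≤ Q') : preimageAlong α P' ≤ preimageAlong α Q' := by
  intro x hx
  rw [mem_pre_iff] at hx ⊢
  exact ⟨hx.1, h hx.2⟩

/-- The kernel of `α`, as a subgroup of `Ω`. -/
def kerSub : Subgroup Ω := preimageAlong α ⊥

theorem mem_kerSub_iff (x : Ω) : x ∈ kerSub α ↔ x ∈ S ∧ al α x = 1 := by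
  unfold kerSub
  rw [mem_pre_iff, Subgroup.mem_bot]

theorem kerSub_le_pre (P' : Subgroup Ω') : kerSub α ≤ preimageAlong α P' :=
  pre_mono α bot_le

theorem kerSub_le : kerSub α ≤ S := preimageAlong_le α ⊥

theorem kerSub_eq : kerSub α = (α.ker).map S.subtype := by
  ext x
  rw [mem_kerSub_iff]
  constructor
  · rintro ⟨hxS, h⟩
    refine ⟨⟨x, hxS⟩, ?_, rfl⟩
    rw [SetLike.mem_coe, MonoidHom.mem_ker, ← al_apply α hxS]
    exact h
  · rintro ⟨s, hs, rfl⟩
    refine ⟨s.2, ?_⟩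
    show al α (s : Ω) = 1
    rw [al_apply α s.2]
    exact hs

/-- Two elements of `S` with the same image differ by an element of the kernel. -/
theorem inv_mul_mem_kerSub {x y : Ω} (hx : x ∈ S) (hy : y ∈ S) (h : al α x = al α y) :
    x⁻¹ * y ∈ kerSub α := by
  rw [mem_kerSub_iff]
  refine ⟨S.mul_mem (S.inv_mem hx) hy, ?_⟩
  rw [al_mul α (S.inv_mem hx) hy, al_inv α hx, h, inv_mul_cancel]

theorem al_eq_of_inv_mul_mem {x y : Ω} (hx : x ∈ S) (h : x⁻¹ * y ∈ kerSub α) :
    al α x = al α y := by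
  have hk := (mem_kerSub_iff α _).1 h
  have hy : y ∈ S := by
    have := S.mul_mem hx hk.1
    simpa using this
  have := hk.2
  rw [al_mul α (S.inv_mem hx) hy, al_inv α hx] at this
  exact (inv_mul_eq_one.mp this)

end Basic

section Surj

variable {α : S →* Ω'} (hrange : α.range = S')

include hrange in
theorem al_mem_S' {x : Ω} (hx : x ∈ S) : al α x ∈ S' := by
  rw [al_apply α hx, ← hrange]
  exact ⟨_, rfl⟩

include hrange in
theorem exists_al_eq {y : Ω'} (hy : y ∈ S') : ∃ x ∈ S, al α x = y := by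
  rw [← hrange] at hy
  obtain ⟨s, rfl⟩ := hy
  exact ⟨s, s.2, al_apply α s.2⟩

include hrange in
theorem exists_al_eq_of_mem {P' : Subgroup Ω'} (hP' : P' ≤ S') {y : Ω'} (hy : y ∈ P') :
    ∃ x ∈ preimageAlong α P', al α x = y := by
  obtain ⟨x, hx, rfl⟩ := exists_al_eq hrange (hP' hy)
  exact ⟨x, (mem_pre_iff α P' x).2 ⟨hx, hy⟩, rfl⟩

include hrange in
theorem image_pre {P' : Subgroup Ω'} (hP' : P' ≤ S') : imageAlong α (preimageAlong α P') = P' := by
  ext y
  rw [mem_image_iff]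
  constructor
  · rintro ⟨x, hx, -, rfl⟩
    exact ((mem_pre_iff α P' x).1 hx).2
  · intro hy
    obtain ⟨x, hx, rfl⟩ := exists_al_eq_of_mem hrange hP' hy
    exact ⟨x, hx, ((mem_pre_iff α P' x).1 hx).1, rfl⟩

include hrange in
theorem image_le_S' (P : Subgroup Ω) : imageAlong α P ≤ S' := by
  intro y hy
  obtain ⟨x, -, hxS, rfl⟩ := (mem_image_iff α P y).1 hy
  exact al_mem_S' hrange hxS

theorem pre_image {P : Subgroup Ω} (hP : P ≤ S) (hK : kerSub α ≤ P) :
    preimageAlong α (imageAlong α P) = P := by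
  apply le_antisymm
  · intro x hx
    obtain ⟨hxS, hx'⟩ := (mem_pre_iff α _ x).1 hx
    obtain ⟨y, hyP, hyS, hy⟩ := (mem_image_iff α P _).1 hx'
    have h1 : y⁻¹ * x ∈ kerSub α := inv_mul_mem_kerSub α hyS hxS hy
    have : x = y * (y⁻¹ * x) := by group
    rw [this]
    exact P.mul_mem hyP (hK h1)
  · intro x hx
    exact (mem_pre_iff α _ x).2 ⟨hP hx, (mem_image_iff α P _).2 ⟨x, hx, hP hx, rfl⟩⟩

include hrange in
theorem pre_injective {P' Q' : Subgroup Ω'} (hP' : P' ≤ S') (hQ' : Q' ≤ S')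
    (h : preimageAlong α P' = preimageAlong α Q') : P' = Q' := by
  rw [← image_pre hrange hP', ← image_pre hrange hQ', h]

end Surj

section Iso

variable {F : FusionSystem S} {F' : FusionSystem S'} {α : S →* Ω'}

/-- Push an isomorphism of `F` forward along a morphism. -/
theorem push_iso (hmor : F.IsMorphism F' α) {P Q : Subgroup Ω} {f : Ω → Ω} (hf : IsIso F P Q f) :
    ∃ f' : Ω' → Ω', IsIso F' (imageAlong α P) (imageAlong α Q) f' ∧
      ∀ x ∈ P, f' (al α x) = al α (f x) := by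
  have hPS := hf.le_left
  have hQS := hf.le_right
  obtain ⟨φ, hφ, hφf, hr⟩ := hf
  obtain ⟨φ', hφ', hind⟩ := hmor.2 P φ hφ
  have hφS : ∀ x : P, φ x ∈ S := fun x => hom_mem_S F hφ x
  have hmemI : ∀ x ∈ P, al α x ∈ imageAlong α P := fun x hx =>
    (mem_image_iff α P _).2 ⟨x, hx, hPS hx, rfl⟩
  have key : ∀ x (hx : x ∈ P), φ' ⟨al α x, hmemI x hx⟩ = al α (f x) := by
    intro x hx
    have h1 := inducedAlong_apply hind hx (hPS hx) (hφS ⟨x, hx⟩)
      (by rw [← al_apply α (hPS hx)]; exact hmemI x hx)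
    have h2 : (⟨al α x, hmemI x hx⟩ : imageAlong α P) =
        ⟨α ⟨x, hPS hx⟩, by rw [← al_apply α (hPS hx)]; exact hmemI x hx⟩ :=
      Subtype.ext (al_apply α (hPS hx))
    rw [h2, h1, ← hφf ⟨x, hx⟩, al_apply α (hφS ⟨x, hx⟩)]
  have hrange : φ'.range = imageAlong α Q := by
    ext y
    constructor
    · rintro ⟨z, rfl⟩
      obtain ⟨x, hxP, hxS, hxz⟩ := (mem_image_iff α P _).1 z.2
      have : z = ⟨al α x, hmemI x hxP⟩ := Subtype.ext hxz.symm
      rw [this, key x hxP]
      have hfx : f x ∈ Q := by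
        rw [← hr, ← hφf ⟨x, hxP⟩]; exact ⟨_, rfl⟩
      exact (mem_image_iff α Q _).2 ⟨f x, hfx, hQS hfx, rfl⟩
    · intro hy
      obtain ⟨q, hqQ, hqS, rfl⟩ := (mem_image_iff α Q _).1 hy
      rw [← hr] at hqQ
      obtain ⟨x, rfl⟩ := hqQ
      refine ⟨⟨al α x, hmemI x x.2⟩, ?_⟩
      rw [key x x.2, ← hφf x]
  refine ⟨ext1 φ', ⟨φ', hφ', fun z => (ext1_apply φ' z).symm, hrange⟩, fun x hx => ?_⟩
  rw [ext1_apply_mem φ' (hmemI x hx), key x hx]

/-- Lift an isomorphism of `F'` along a surjective morphism to the full preimages. -/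
theorem lift_iso [Finite S] (hsm : F.IsSurjectiveMorphism F' α)
    (hK : F.StronglyClosed (kerSub α)) {P' Q' : Subgroup Ω'} {f' : Ω' → Ω'}
    (hf' : IsIso F' P' Q' f') :
    ∃ f : Ω → Ω, IsIso F (preimageAlong α P') (preimageAlong α Q') f ∧
      ∀ x ∈ preimageAlong α P', f' (al α x) = al α (f x) := by
  have hP'S := hf'.le_left
  have hQ'S := hf'.le_right
  have hrange := hsm.2.1
  obtain ⟨φ', hφ', hφ'f, hr'⟩ := hf'
  obtain ⟨φ, hφ, hind⟩ := hsm.2.2 P' hP'S φ' hφ'
  have hPS : preimageAlong α P' ≤ S := preimageAlong_le α P'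
  have hφS : ∀ x : preimageAlong α P', φ x ∈ S := fun x => hom_mem_S F hφ x
  have hmem' : ∀ x ∈ preimageAlong α P', al α x ∈ P' := fun x hx => ((mem_pre_iff α P' x).1 hx).2
  have key : ∀ x (hx : x ∈ preimageAlong α P'), f' (al α x) = al α (φ ⟨x, hx⟩) := by
    intro x hx
    have h1 := inducedAlong_apply hind hx (hPS hx) (hφS ⟨x, hx⟩)
      (by rw [← al_apply α (hPS hx)]; exact hmem' x hx)
    rw [← hφ'f ⟨al α x, hmem' x hx⟩, al_apply α (hφS ⟨x, hx⟩), ← h1]
    congr 1
    exact Subtype.ext (al_apply α (hPS hx))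
  have hKP : kerSub α ≤ preimageAlong α P' := kerSub_le_pre α P'
  have hrangeφ : φ.range = preimageAlong α Q' := by
    ext y
    constructor
    · rintro ⟨x, rfl⟩
      refine (mem_pre_iff α Q' _).2 ⟨hφS x, ?_⟩
      rw [← key x x.2, ← hr', ← hφ'f ⟨al α x, hmem' x x.2⟩]
      exact ⟨_, rfl⟩
    · intro hy
      obtain ⟨hyS, hy'⟩ := (mem_pre_iff α Q' y).1 hy
      rw [← hr'] at hy'
      obtain ⟨z, hz⟩ := hy'
      obtain ⟨x, hx, hxz⟩ := exists_al_eq_of_mem hrange hP'S z.2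
      have h1 : al α (φ ⟨x, hx⟩) = al α y := by
        rw [← key x hx, ← hz, hφ'f z, hxz]
      have h2 : (φ ⟨x, hx⟩)⁻¹ * y ∈ kerSub α := inv_mul_mem_kerSub α (hφS _) hyS h1
      have hiso : IsIso F (kerSub α) (kerSub α) (ext1 φ) :=
        stronglyClosed_isIso_self hK (isIso_of_mem F hφ) hKP
      obtain ⟨k, hk, hkeq⟩ := hiso.surjOn h2
      rw [ext1_apply_mem φ (hKP hk)] at hkeq
      refine ⟨⟨x, hx⟩ * ⟨k, hKP hk⟩, ?_⟩
      rw [map_mul, hkeq]
      group
  refine ⟨ext1 φ, ⟨φ, hφ, fun z => (ext1_apply φ z).symm, hrangeφ⟩, fun x hx => ?_⟩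
  rw [ext1_apply_mem φ hx, key x hx]

end Iso

section Card

variable {α : S →* Ω'} (hrange : α.range = S')

include hrange in
theorem pre_top : preimageAlong α S' = S := by
  apply le_antisymm (preimageAlong_le α S')
  intro x hx
  exact (mem_pre_iff α S' x).2 ⟨hx, al_mem_S' hrange hx⟩

include hrange in
theorem finite_S' [Finite S] : Finite S' := by
  rw [← hrange]
  exact Finite.of_surjective (fun s : S => (⟨α s, ⟨s, rfl⟩⟩ : α.range))
    (fun ⟨_, s, hs⟩ => ⟨s, Subtype.ext hs⟩)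

include hrange in
theorem isPGroup_S' {p : ℕ} (hS : IsPGroup p S) : IsPGroup p S' := by
  rw [← hrange]
  exact hS.of_surjective α.rangeRestrict α.rangeRestrict_surjective

/-- The restriction of `α` to a full preimage. -/
noncomputable def preHom (α : S →* Ω') (P' : Subgroup Ω') : preimageAlong α P' →* P' :=
  MonoidHom.mk' (fun x => ⟨al α x, ((mem_pre_iff α P' x).1 x.2).2⟩) (fun a b =>
    Subtype.ext (al_mul α ((mem_pre_iff α P' a).1 a.2).1 ((mem_pre_iff α P' b).1 b.2).1))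

theorem preHom_apply (P' : Subgroup Ω') (x : preimageAlong α P') :
    ((preHom α P' x : P') : Ω') = al α x := rfl

include hrange in
theorem card_pre [Finite S] {P' : Subgroup Ω'} (hP' : P' ≤ S') :
    Nat.card (preimageAlong α P') = Nat.card (kerSub α) * Nat.card P' := by
  have hsurj : Function.Surjective (preHom α P') := by
    intro y
    obtain ⟨x, hx, hxy⟩ := exists_al_eq_of_mem hrange hP' y.2
    exact ⟨⟨x, hx⟩, Subtype.ext hxy⟩
  have hker : (preHom α P').ker = (kerSub α).subgroupOf (preimageAlong α P') := by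
    ext x
    rw [MonoidHom.mem_ker, Subgroup.mem_subgroupOf, mem_kerSub_iff]
    constructor
    · intro h
      exact ⟨((mem_pre_iff α P' x).1 x.2).1, congrArg Subtype.val h⟩
    · intro h
      exact Subtype.ext h.2
  have h1 := Subgroup.card_mul_index (preHom α P').ker
  rw [Subgroup.index_ker, MonoidHom.range_eq_top.2 hsurj, Subgroup.card_top, hker] at h1
  rw [← h1]
  congr 1
  exact Nat.card_congr (Subgroup.subgroupOfEquivOfLe (kerSub_le_pre α P')).toEquiv

include hrange in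
theorem normalizerIn_pre [Finite S] {P' : Subgroup Ω'} (hP' : P' ≤ S') :
    normalizerIn S (preimageAlong α P') = preimageAlong α (normalizerIn S' P') := by
  have hfS' : Finite S' := finite_S' hrange
  have hfP' : Finite P' := finite_of_le S' hP'
  have hfP : Finite (preimageAlong α P') := finite_of_le S (preimageAlong_le α P')
  ext g
  rw [mem_pre_iff]
  constructor
  · rintro ⟨hgS, hgN⟩
    refine ⟨hgS, al_mem_S' hrange hgS, ?_⟩
    apply mem_normalizer_of_conj_mem
    intro y hy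
    obtain ⟨x, hx, rfl⟩ := exists_al_eq_of_mem hrange hP' hy
    have hxS := ((mem_pre_iff α P' x).1 hx).1
    rw [← al_conj α hgS hxS]
    exact ((mem_pre_iff α P' _).1 ((Subgroup.mem_normalizer_iff.1 hgN x).1 hx)).2
  · rintro ⟨hgS, -, hgN⟩
    refine ⟨hgS, ?_⟩
    apply mem_normalizer_of_conj_mem
    intro x hx
    obtain ⟨hxS, hx'⟩ := (mem_pre_iff α P' x).1 hx
    refine (mem_pre_iff α P' _).2 ⟨S.mul_mem (S.mul_mem hgS hxS) (S.inv_mem hgS), ?_⟩
    rw [al_conj α hgS hxS]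
    exact (Subgroup.mem_normalizer_iff.1 hgN _).1 hx'

end Card

section FullyNormalized

variable {F : FusionSystem S} {F' : FusionSystem S'} {α : S →* Ω'}

/-- The full preimage of a fully normalized subgroup is fully normalized. -/
theorem isFullyNormalized_pre [Finite S] (hsm : F.IsSurjectiveMorphism F' α)
    (hK : F.StronglyClosed (kerSub α)) {P' : Subgroup Ω'} (hP' : F'.IsFullyNormalized P') :
    F.IsFullyNormalized (preimageAlong α P') := by
  have hrange := hsm.2.1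
  refine ⟨preimageAlong_le α P', fun Q hQ => ?_⟩
  obtain ⟨f, hf⟩ := (isConj_iff F).1 hQ
  have hQS := hf.le_right
  have hKP : kerSub α ≤ preimageAlong α P' := kerSub_le_pre α P'
  have hKQ : kerSub α ≤ Q := by
    intro k hk
    obtain ⟨x, hx, rfl⟩ := (stronglyClosed_isIso_self hK hf hKP).surjOn hk
    exact hf.map_mem (hKP hx)
  obtain ⟨f', hf', -⟩ := push_iso hsm.1 hf
  rw [image_pre hrange hP'.1] at hf'
  have h1 := hP'.2 _ hf'.isConj
  have hQ'S : imageAlong α Q ≤ S' := image_le_S' hrange Q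
  have hN1 : normalizerIn S' (imageAlong α Q) ≤ S' := inf_le_left
  have hN2 : normalizerIn S' P' ≤ S' := inf_le_left
  rw [← pre_image hQS hKQ, normalizerIn_pre hrange hQ'S, normalizerIn_pre hrange hP'.1,
    card_pre hrange hN1, card_pre hrange hN2]
  exact Nat.mul_le_mul_left _ h1

end FullyNormalized

end Cfsg.Agent.Lib.H25
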