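import Cfsg.Agent.Lib.H25.Factor
import Cfsg.Agent.Lib.H25.Normal

set_option autoImplicit false

/-!
Construction of the factor system of a fusion system modulo a strongly closed subgroup,
read through a surjective homomorphism `θ : S →* Ω'` with kernel `S₀`.
-/

namespace Cfsg.Agent.Lib.H25

open Cfsg Cfsg.FusionSystem

variable {Ω : Type*} [Group Ω] {S : Subgroup Ω} {Ω' : Type*} [Group Ω']

/-- Proof-irrelevant unpacking of `InducedAlong`. -/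
theorem inducedAlong_apply {θ : S →* Ω'} {P : Subgroup Ω} {φ : P →* Ω} {P' : Subgroup Ω'}
    {φ' : P' →* Ω'} (h : InducedAlong θ φ φ') {x : Ω} (hx : x ∈ P) (hxS : x ∈ S)
    (hφS : φ ⟨x, hx⟩ ∈ S) (h' : θ ⟨x, hxS⟩ ∈ P') :
    φ' ⟨θ ⟨x, hxS⟩, h'⟩ = θ ⟨φ ⟨x, hx⟩, hφS⟩ := by
  obtain ⟨hP, hφ, hP', heq⟩ := h
  exact heq ⟨x, hx⟩

theorem inducedAlong_mk {θ : S →* Ω'} {P : Subgroup Ω} {φ : P →* Ω} {P' : Subgroup Ω'}
    {φ' : P' →* Ω'} (hP : P ≤ S) (hφ : ∀ x : P, φ x ∈ S) (hP' : ∀ x : P, θ ⟨x, hP x.2⟩ ∈ P')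
    (heq : ∀ x : P, φ' ⟨θ ⟨x, hP x.2⟩, hP' x⟩ = θ ⟨φ x, hφ x⟩) : InducedAlong θ φ φ' :=
  ⟨hP, hφ, hP', heq⟩

section

variable (F : FusionSystem S) {S₀ : Subgroup Ω} (θ : S →* Ω')

/-- A map of `F` defined on a subgroup containing the strongly closed `S₀` reflects membership
in `S₀`. -/
theorem stronglyClosed_mem_iff {F : FusionSystem S} (hS₀ : F.StronglyClosed S₀) {P : Subgroup Ω}
    {φ : P →* Ω} (hφ : φ ∈ F.Hom P) (x : P) : φ x ∈ S₀ ↔ (x : Ω) ∈ S₀ := by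
  constructor
  · intro h
    obtain ⟨ψ, hψ, hinv⟩ := F.inv_mem hφ
    have hle : S₀ ⊓ φ.range ≤ φ.range := inf_le_right
    have hψ' := restrict_mem F hψ hle
    have := hS₀.2 (S₀ ⊓ φ.range) inf_le_left _ hψ' ⟨φ x, ⟨h, ⟨x, rfl⟩⟩⟩
    have e : (ψ.comp (Subgroup.inclusion hle)) ⟨φ x, ⟨h, ⟨x, rfl⟩⟩⟩ = ψ ⟨φ x, ⟨x, rfl⟩⟩ := rfl
    rw [e, hinv x] at this
    exact this
  · intro h
    have hle : S₀ ⊓ P ≤ P := inf_le_right
    have hφ' := restrict_mem F hφ hle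
    have := hS₀.2 (S₀ ⊓ P) inf_le_left _ hφ' ⟨x, ⟨h, x.2⟩⟩
    exact this

/-- The maps of the factor system with source `P'`. -/
def IsFacHom (P' : Subgroup Ω') (φ' : P' →* Ω') : Prop :=
  ∃ φ ∈ F.Hom (preimageAlong θ P'), InducedAlong θ φ φ'

end

section Construct

variable [Finite S] (F : FusionSystem S) {S₀ : Subgroup Ω} (hS₀ : F.StronglyClosed S₀)
  (θ : S →* Ω') (hsurj : Function.Surjective θ) (hker : ∀ s : S, θ s = 1 ↔ (s : Ω) ∈ S₀)

include hsurj in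
theorem exists_preimage {P' : Subgroup Ω'} (y : P') :
    ∃ (x : Ω) (hx : x ∈ preimageAlong θ P') (hxS : x ∈ S), θ ⟨x, hxS⟩ = y := by
  obtain ⟨s, hs⟩ := hsurj y
  refine ⟨s, (mem_preimageAlong_iff θ P' s).2 ⟨s.2, ?_⟩, s.2, hs⟩
  rw [show (⟨(s : Ω), s.2⟩ : S) = s from rfl, hs]
  exact y.2

include hker in
theorem ker_le_preimage (P' : Subgroup Ω') (hle : S₀ ≤ S) : S₀ ≤ preimageAlong θ P' := by
  intro x hx
  refine (mem_preimageAlong_iff θ P' x).2 ⟨hle hx, ?_⟩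
  rw [(hker ⟨x, hle hx⟩).2 hx]
  exact P'.one_mem

/-- The factor system. -/
def factorSystem : FusionSystem (⊤ : Subgroup Ω') where
  Hom P' := {φ' | IsFacHom F θ P' φ'}
  le_of_mem := by
    intro P' φ' _
    exact ⟨le_top, fun _ => Subgroup.mem_top _⟩
  injective_of_mem := by
    rintro P' φ' ⟨φ, hφ, hind⟩
    rw [injective_iff_map_eq_one]
    intro y hy
    obtain ⟨x, hx, hxS, hxy⟩ := exists_preimage θ hsurj y
    have hφS : φ ⟨x, hx⟩ ∈ S := hom_mem_S F hφ _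
    have h1 := inducedAlong_apply hind hx hxS hφS (by rw [hxy]; exact y.2)
    have h2 : (⟨θ ⟨x, hxS⟩, by rw [hxy]; exact y.2⟩ : P') = y := Subtype.ext hxy
    rw [h2, hy] at h1
    have h3 : φ ⟨x, hx⟩ ∈ S₀ := (hker _).1 h1.symm
    have h4 : x ∈ S₀ := (stronglyClosed_mem_iff hS₀ hφ ⟨x, hx⟩).1 h3
    apply Subtype.ext
    rw [← hxy]
    exact (hker ⟨x, hxS⟩).2 h4
  conj_mem := by
    intro P' g' _ _
    obtain ⟨g, rfl⟩ := hsurj g'
    have hP : preimageAlong θ P' ≤ S := preimageAlong_le θ P'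
    refine ⟨conjHom _ (g : Ω), F.conj_mem hP g.2, ?_⟩
    have hφS : ∀ x : preimageAlong θ P', conjHom (preimageAlong θ P') (g : Ω) x ∈ S := by
      intro x
      rw [conjHom_apply]
      exact S.mul_mem (S.mul_mem g.2 (hP x.2)) (S.inv_mem g.2)
    have hP' : ∀ x : preimageAlong θ P', θ ⟨x, hP x.2⟩ ∈ P' := by
      intro x
      obtain ⟨_, h⟩ := (mem_preimageAlong_iff θ P' x).1 x.2
      exact h
    refine inducedAlong_mk hP hφS hP' ?_
    intro x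
    rw [conjHom_apply]
    have e : (⟨conjHom (preimageAlong θ P') (g : Ω) x, hφS x⟩ : S) = g * ⟨x, hP x.2⟩ * g⁻¹ :=
      Subtype.ext rfl
    rw [e, map_mul, map_mul, map_inv]
  comp_mem := by
    rintro P' Q' φ' ψ' ⟨φ, hφ, hindφ⟩ ⟨ψ, hψ, hindψ⟩ hmap
    have hP : preimageAlong θ P' ≤ S := preimageAlong_le θ P'
    have hP' : ∀ x : preimageAlong θ P', θ ⟨x, hP x.2⟩ ∈ P' := by
      intro x
      obtain ⟨_, h⟩ := (mem_preimageAlong_iff θ P' x).1 x.2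
      exact h
    have hφS : ∀ x : preimageAlong θ P', φ x ∈ S := fun x => hom_mem_S F hφ x
    have hφeq : ∀ x : preimageAlong θ P', φ' ⟨θ ⟨x, hP x.2⟩, hP' x⟩ = θ ⟨φ x, hφS x⟩ :=
      fun x => inducedAlong_apply hindφ x.2 (hP x.2) (hφS x) (hP' x)
    have hm : ∀ x : preimageAlong θ P', φ x ∈ preimageAlong θ Q' := by
      intro x
      refine (mem_preimageAlong_iff θ Q' _).2 ⟨hφS x, ?_⟩
      rw [← hφeq x]
      exact hmap _
    refine ⟨ψ.comp (φ.codRestrict _ hm), F.comp_mem hφ hψ hm, ?_⟩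
    have hχS : ∀ x : preimageAlong θ P', (ψ.comp (φ.codRestrict _ hm)) x ∈ S :=
      fun x => hom_mem_S F hψ _
    refine inducedAlong_mk hP hχS hP' ?_
    intro x
    show ψ' ⟨φ' ⟨θ ⟨x, hP x.2⟩, hP' x⟩, hmap _⟩ = θ ⟨ψ ⟨φ x, hm x⟩, hχS x⟩
    have h1 := inducedAlong_apply hindψ (hm x) (hφS x) (hχS x) (by rw [← hφeq x]; exact hmap _)
    rw [← h1]
    congr 1
    exact Subtype.ext (hφeq x)
  inv_mem := by
    rintro P' φ' ⟨φ, hφ, hind⟩
    have hP : preimageAlong θ P' ≤ S := preimageAlong_le θ P'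
    have hP' : ∀ x : preimageAlong θ P', θ ⟨x, hP x.2⟩ ∈ P' := by
      intro x
      obtain ⟨_, h⟩ := (mem_preimageAlong_iff θ P' x).1 x.2
      exact h
    have hφS : ∀ x : preimageAlong θ P', φ x ∈ S := fun x => hom_mem_S F hφ x
    have hφeq : ∀ x : preimageAlong θ P', φ' ⟨θ ⟨x, hP x.2⟩, hP' x⟩ = θ ⟨φ x, hφS x⟩ :=
      fun x => inducedAlong_apply hind x.2 (hP x.2) (hφS x) (hP' x)
    -- injectivity of `φ'`
    have hinj : Function.Injective φ' := by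
      rw [injective_iff_map_eq_one]
      intro y hy
      obtain ⟨x, hx, hxS, hxy⟩ := exists_preimage θ hsurj y
      have h1 := hφeq ⟨x, hx⟩
      have h2 : (⟨θ ⟨x, hxS⟩, hP' ⟨x, hx⟩⟩ : P') = y := Subtype.ext hxy
      rw [h2, hy] at h1
      have h3 : φ ⟨x, hx⟩ ∈ S₀ := (hker _).1 h1.symm
      have h4 : x ∈ S₀ := (stronglyClosed_mem_iff hS₀ hφ ⟨x, hx⟩).1 h3
      apply Subtype.ext
      rw [← hxy]
      exact (hker ⟨x, hxS⟩).2 h4
    -- the preimage of the range of `φ'` is the range of `φ`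
    have hS₀P : S₀ ≤ preimageAlong θ P' := ker_le_preimage θ hker P' hS₀.1
    have hR : φ.range = preimageAlong θ φ'.range := by
      ext z
      constructor
      · rintro ⟨x, rfl⟩
        refine (mem_preimageAlong_iff θ _ _).2 ⟨hφS x, ?_⟩
        rw [← hφeq x]
        exact ⟨_, rfl⟩
      · intro hz
        obtain ⟨hzS, ⟨y, hy⟩⟩ := (mem_preimageAlong_iff θ _ z).1 hz
        obtain ⟨x, hx, hxS, hxy⟩ := exists_preimage θ hsurj y
        have h1 := hφeq ⟨x, hx⟩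
        have h2 : (⟨θ ⟨x, hxS⟩, hP' ⟨x, hx⟩⟩ : P') = y := Subtype.ext hxy
        rw [h2, hy] at h1
        -- θ z = θ (φ x), so z (φ x)⁻¹ ∈ S₀
        have h3 : θ (⟨z, hzS⟩ * ⟨φ ⟨x, hx⟩, hφS _⟩⁻¹) = 1 := by
          rw [map_mul, map_inv, h1, mul_inv_cancel]
        have h4 : z * (φ ⟨x, hx⟩)⁻¹ ∈ S₀ := (hker _).1 h3
        -- S₀ ⊆ φ(S₀)
        have hiso : IsIso F S₀ S₀ (ext1 φ) :=
          stronglyClosed_isIso_self hS₀ (isIso_of_mem F hφ) hS₀P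
        obtain ⟨x₀, hx₀, hx₀eq⟩ := hiso.surjOn h4
        rw [ext1_apply_mem φ (hS₀P hx₀)] at hx₀eq
        refine ⟨⟨x₀, hS₀P hx₀⟩ * ⟨x, hx⟩, ?_⟩
        rw [map_mul, hx₀eq]
        group
    obtain ⟨ψ, hψ, hinv⟩ := F.inv_mem hφ
    have hψ₀ := hom_cast F hR hψ
    let e := MonoidHom.ofInjective hinj
    refine ⟨P'.subtype.comp e.symm.toMonoidHom, ⟨_, hψ₀, ?_⟩, ?_⟩
    · have hRS : preimageAlong θ φ'.range ≤ S := preimageAlong_le θ _
      have hR' : ∀ z : preimageAlong θ φ'.range, θ ⟨z, hRS z.2⟩ ∈ φ'.range := by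
        intro z
        obtain ⟨_, h⟩ := (mem_preimageAlong_iff θ _ z).1 z.2
        exact h
      have hψS : ∀ z : preimageAlong θ φ'.range,
          (ψ.comp (MulEquiv.subgroupCongr hR.symm).toMonoidHom) z ∈ S :=
        fun z => hom_mem_S F hψ₀ z
      refine inducedAlong_mk hRS hψS hR' ?_
      intro z
      have hz : (z : Ω) ∈ φ.range := by rw [hR]; exact z.2
      obtain ⟨x, hx⟩ := hz
      have h1 : (ψ.comp (MulEquiv.subgroupCongr hR.symm).toMonoidHom) z = (x : Ω) := by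
        have : (MulEquiv.subgroupCongr hR.symm) z = ⟨φ x, ⟨x, rfl⟩⟩ := Subtype.ext hx.symm
        show ψ ((MulEquiv.subgroupCongr hR.symm) z) = x
        rw [this, hinv x]
      have h2 : (⟨θ ⟨z, hRS z.2⟩, hR' z⟩ : φ'.range) = e ⟨θ ⟨x, hP x.2⟩, hP' x⟩ := by
        apply Subtype.ext
        show θ ⟨z, hRS z.2⟩ = φ' ⟨θ ⟨x, hP x.2⟩, hP' x⟩
        rw [hφeq x]
        congr 1
        exact Subtype.ext hx.symm
      show ((e.symm ⟨θ ⟨z, hRS z.2⟩, hR' z⟩ : P') : Ω') = θ ⟨_, hψS z⟩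
      rw [h2, MulEquiv.symm_apply_apply]
      show θ ⟨x, hP x.2⟩ = θ ⟨_, hψS z⟩
      congr 1
      exact Subtype.ext h1.symm
    · intro y
      show ((e.symm ⟨φ' y, ⟨y, rfl⟩⟩ : P') : Ω') = y
      have : (⟨φ' y, ⟨y, rfl⟩⟩ : φ'.range) = e y := rfl
      rw [this, MulEquiv.symm_apply_apply]

theorem factorSystem_isFactorSystem :
    F.IsFactorSystem S₀ θ (factorSystem F hS₀ θ hsurj hker) := by
  refine ⟨hS₀.1, hker, MonoidHom.range_eq_top.2 hsurj, ?_⟩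
  intro P' φ'
  constructor
  · intro h
    exact ⟨le_top, h⟩
  · rintro ⟨-, h⟩
    exact h

end Construct

end Cfsg.Agent.Lib.H25
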