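import Cfsg.Agent.Lib.H25.Hyperfocal
import Cfsg.Agent.Lib.H25.NormalSeries
import Cfsg.Agent.Lib.H26.Basic

set_option autoImplicit false

/-!
Extension of the maps of a saturated fusion system modulo a strongly closed subgroup `T`:
every map `φ : P → S` of the system has an extension `ψ : PT → S` in the system with
`ψ(x) ∈ φ(x)T` for all `x ∈ P` (Puig; see Craven, Theorem 5.14, AKO II.5).
-/

namespace Cfsg.Agent.Lib.H25

open Cfsg Cfsg.FusionSystem
open scoped Pointwise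

variable {Ω : Type*} [Group Ω] {S : Subgroup Ω}

/-- Sylow conjugation by an element of a normal subgroup `C` of `Aut_F(U)`, for `U` fully automized:
a `p`-subgroup of `C` is conjugate by an element of `C` into `Aut_S(U)`. -/
theorem IsFullyAutomized_exists_conj_in [Finite S] {p : ℕ} [Fact p.Prime] {F : FusionSystem S}
    {U : Subgroup Ω} (hU : F.IsFullyAutomized p U) (C : Subgroup (MulAut U))
    (hCA : C ≤ F.autGroup U) (hCn : ∀ α ∈ F.autGroup U, ∀ β ∈ C, α * β * α⁻¹ ∈ C)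
    (K : Subgroup (MulAut U)) (hKC : K ≤ C) (hK : IsPGroup p K) :
    ∃ γ ∈ C, ∀ k ∈ K, γ * k * γ⁻¹ ∈ autInducedBy S U := by
  set A := F.autGroup U with hA
  obtain ⟨hUS, R, hR⟩ := hU
  have : Finite U := finite_of_le S hUS
  have hC'n : (C.subgroupOf A).Normal := by
    constructor
    intro β hβ α
    rw [Subgroup.mem_subgroupOf] at hβ ⊢
    exact hCn α α.2 β hβ
  have hK' : IsPGroup p (K.subgroupOf A) := hK.comap_subtype
  have hK'H : K.subgroupOf A ≤ (R : Subgroup A) ⊔ C.subgroupOf A := by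
    intro k hk
    exact (le_sup_right : C.subgroupOf A ≤ _) (Subgroup.mem_subgroupOf.2 (hKC (Subgroup.mem_subgroupOf.1 hk)))
  obtain ⟨δ, hδH, hδ⟩ := Cfsg.Agent.Lib.H26.exists_conj_mem_sylow_of_le R
    ((R : Subgroup A) ⊔ C.subgroupOf A) (K.subgroupOf A) le_sup_left hK'H hK'
  have hmul : (↑((R : Subgroup A) ⊔ C.subgroupOf A) : Set A) =
      ((R : Subgroup A) : Set A) * (C.subgroupOf A : Set A) := Subgroup.mul_normal _ _
  have hδ' : δ ∈ (↑((R : Subgroup A) ⊔ C.subgroupOf A) : Set A) := hδH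
  rw [hmul] at hδ'
  obtain ⟨s, hs, c, hc, rfl⟩ := hδ'
  refine ⟨(c : MulAut U), Subgroup.mem_subgroupOf.1 hc, fun k hk => ?_⟩
  have hkA : k ∈ A := hCA (hKC hk)
  have h1 := hδ ⟨k, hkA⟩ (Subgroup.mem_subgroupOf.2 hk)
  have h2 : c * ⟨k, hkA⟩ * c⁻¹ ∈ (R : Subgroup A) := by
    have h3 := (R : Subgroup A).mul_mem ((R : Subgroup A).mul_mem ((R : Subgroup A).inv_mem hs) h1) hs
    have h4 : s⁻¹ * (s * c * ⟨k, hkA⟩ * (s * c)⁻¹) * s = c * ⟨k, hkA⟩ * c⁻¹ := by group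
    rwa [h4] at h3
  rw [hR] at h2
  exact Subgroup.mem_subgroupOf.1 h2

/-- The maps `f` on `P` which extend, modulo the subgroup `T`, to `P ⊔ T`. -/
def ExtMod (F : FusionSystem S) (T P : Subgroup Ω) (f : Ω → Ω) : Prop :=
  ∃ (g : Ω → Ω) (R : Subgroup Ω), IsIso F (P ⊔ T) R g ∧ ∀ x ∈ P, (f x)⁻¹ * g x ∈ T

/-- The essential step: extension modulo `T` of an automorphism of a fully normalized subgroup,
given the extension property for all larger subgroups. -/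
theorem extMod_of_fullyNormalized [Finite S] {p : ℕ} [Fact p.Prime] (hS : IsPGroup p S)
    {F : FusionSystem S} (hF : F.IsSaturated p) {T : Subgroup Ω} (hT : F.StronglyClosed T)
    {U : Subgroup Ω} (hfn : F.IsFullyNormalized U)
    (IH : ∀ (P P' : Subgroup Ω) (f : Ω → Ω), IsIso F P P' f → Nat.card U < Nat.card P →
      ExtMod F T P f)
    {α : MulAut U} (hα : α ∈ F.autGroup U) :
    ExtMod F T U (ext1 (U.subtype.comp α.toMonoidHom)) := by
  have hUS := hfn.1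
  have hTS := hT.1
  have hfinU : Finite U := finite_of_le S hUS
  obtain ⟨hfc, hfa⟩ := fullyNormalized_props hS hF hfn
  have hrec := isReceptive_of_fullyCentralized hS hF hfc
  set a := ext1 (U.subtype.comp α.toMonoidHom) with hadef
  have ha : IsIso F U U a := isIso_of_mem_autGroup F hUS hα
  by_cases hTU : T ≤ U
  · refine ⟨a, U, ?_, fun x _ => ?_⟩
    · rw [sup_eq_left.2 hTU]; exact ha
    · rw [inv_mul_cancel]; exact T.one_mem
  set A := F.autGroup U with hAdef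
  -- the subgroup `C` of automorphisms acting trivially modulo `T`
  let W : ℕ → Subgroup U := fun i => if i = 0 then T.subgroupOf U else ⊤
  have hW0 : W 0 = T.subgroupOf U := rfl
  have hW1 : W 1 = ⊤ := rfl
  have hinv : ∀ β ∈ A, ∀ i, ∀ x ∈ W i, β x ∈ W i := by
    intro β hβ i x hx
    by_cases hi : i = 0
    · subst hi
      exact Subgroup.mem_subgroupOf.2
        (stronglyClosed_aut_mem' hT hUS hβ x (Subgroup.mem_subgroupOf.1 hx))
    · have : W i = ⊤ := if_neg hi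
      rw [this]; trivial
  set C := stabSub A W 1 hinv with hCdef
  have hCmem : ∀ β : MulAut U, β ∈ C ↔ β ∈ A ∧ ∀ x : U, (x : Ω)⁻¹ * ((β x : U) : Ω) ∈ T := by
    intro β
    rw [hCdef, mem_stabSub_iff]
    constructor
    · rintro ⟨h1, h2⟩
      refine ⟨h1, fun x => ?_⟩
      have := h2 0 Nat.zero_lt_one x (by rw [hW1]; trivial)
      exact Subgroup.mem_subgroupOf.1 this
    · rintro ⟨h1, h2⟩
      refine ⟨h1, fun i hi x _ => ?_⟩
      have hi0 : i = 0 := by omega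
      subst hi0
      exact Subgroup.mem_subgroupOf.2 (h2 x)
  -- the automorphisms induced by `N_T(U)`
  set NT := normalizerIn T U with hNTdef
  have hNTS : NT ≤ normalizerIn S U := fun g hg => ⟨hTS hg.1, hg.2⟩
  set AT := autInducedBy NT U with hATdef
  have hATA : AT ≤ A := (autInducedBy_mono (hNTS.trans inf_le_left) U).trans
    (autInducedBy_le_autGroup F hUS)
  have hATC : AT ≤ C := by
    intro β hβ
    rw [hCmem]
    refine ⟨hATA hβ, fun x => ?_⟩
    obtain ⟨g, hg, hβg⟩ := (mem_autInducedBy_iff NT U β).1 hβ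
    rw [hβg]
    have hxS : (x : Ω) ∈ S := hUS x.2
    have h1 : (x : Ω)⁻¹ * g * ((x : Ω)⁻¹)⁻¹ ∈ T := stronglyClosed_conj_mem hT (S.inv_mem hxS) hg.1
    have h2 : (x : Ω)⁻¹ * (g * (x : Ω) * g⁻¹) = ((x : Ω)⁻¹ * g * ((x : Ω)⁻¹)⁻¹) * g⁻¹ := by group
    rw [h2]
    exact T.mul_mem h1 (T.inv_mem hg.1)
  have hATp : IsPGroup p AT :=
    autInducedBy_isPGroup (hS.to_le ((inf_le_left : NT ≤ T).trans hTS)) U
  set K := AT.map (MulAut.conj α).toMonoidHom with hKdef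
  have hKC : K ≤ C := by
    rintro _ ⟨β, hβ, rfl⟩
    exact stabSub_conj_mem A W 1 hinv hα (hATC hβ)
  have hKp : IsPGroup p K := hATp.map _
  obtain ⟨γ, hγC, hγ⟩ := IsFullyAutomized_exists_conj_in hfa C (stabSub_le _ _ _ _)
    (fun α' hα' β hβ => stabSub_conj_mem A W 1 hinv hα' hβ) K hKC hKp
  have hγA : γ ∈ A := ((hCmem γ).1 hγC).1
  -- `β = γ α`
  set β := γ * α with hβdef
  have hβA : β ∈ A := A.mul_mem hγA hα
  set b := ext1 (U.subtype.comp β.toMonoidHom) with hbdef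
  have hb : IsIso F U U b := isIso_of_mem_autGroup F hUS hβA
  have hbβ : ∀ x : U, b x = ((β x : U) : Ω) := fun x => ext1_apply _ x
  -- the subgroup `N₁ = N_{UT}(U)`
  set N₁ := normalizerIn (U ⊔ T) U with hN₁def
  have hUTS : U ⊔ T ≤ S := sup_le hUS hTS
  have hN₁le : N₁ ≤ U ⊔ T := inf_le_left
  have hUN₁ : U ≤ N₁ := fun x hx => ⟨(le_sup_left : U ≤ U ⊔ T) hx, Subgroup.le_normalizer hx⟩
  have hfinUT : Finite (U ⊔ T : Subgroup Ω) := finite_of_le S hUTS
  have hUTp : IsPGroup p (U ⊔ T : Subgroup Ω) := hS.to_le hUTS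
  have hUneUT : U ≠ U ⊔ T := fun h => hTU (h ▸ le_sup_right)
  obtain ⟨g₀, hg₀N, hg₀U⟩ := exists_mem_normalizerIn_not_mem hUTp (le_sup_left : U ≤ U ⊔ T) hUneUT
  have hN₁S : N₁ ≤ S := hN₁le.trans hUTS
  have hcard : Nat.card U < Nat.card N₁ :=
    card_lt_of_lt' hN₁S (lt_of_le_of_ne hUN₁ (fun h => hg₀U (h ▸ hg₀N)))
  have hmul : (↑(U ⊔ T) : Set Ω) = (U : Set Ω) * (T : Set Ω) :=
    Subgroup.coe_mul_of_left_le_normalizer_right U T (hUS.trans (stronglyClosed_le_normalizer hT))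
  obtain ⟨f', N', hf', hf'b⟩ := IsReceptive_extend hrec hb N₁ (by
    intro g hg
    refine ⟨hN₁S hg, hg.2, ?_⟩
    have hg' : g ∈ (↑(U ⊔ T) : Set Ω) := hg.1
    rw [hmul] at hg'
    obtain ⟨u, hu, t, ht, rfl⟩ := hg'
    have htN : t ∈ Subgroup.normalizer (U : Set Ω) := by
      have h1 : u⁻¹ ∈ Subgroup.normalizer (U : Set Ω) := Subgroup.le_normalizer (U.inv_mem hu)
      have h2 := Subgroup.mul_mem _ h1 hg.2
      simpa using h2
    have htNT : t ∈ NT := ⟨ht, htN⟩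
    obtain ⟨τ, hτA, hτt⟩ := exists_mem_autGroup_of_isIso F (isIso_conj_normalizer F hUS (hNTS htNT))
    have hτAT : τ ∈ AT := (mem_autInducedBy_iff NT U τ).2 ⟨t, htNT, hτt⟩
    have h1 := hγ _ (Subgroup.mem_map_of_mem _ hτAT)
    obtain ⟨h, hhS, hh⟩ := (mem_autInducedBy_iff S U _).1 h1
    refine ⟨b u * h, S.mul_mem (hb.le_right (hb.map_mem hu)) hhS, fun x hx => ?_⟩
    have htx : t * x * t⁻¹ ∈ U := (Subgroup.mem_normalizer_iff.1 htN x).1 hx
    have e1 : u * t * x * (u * t)⁻¹ = u * (t * x * t⁻¹) * u⁻¹ := by group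
    rw [e1, hb.map_mul (U.mul_mem hu htx) (U.inv_mem hu), hb.map_mul hu htx, hb.map_inv hu]
    -- `b (t x t⁻¹) = h b(x) h⁻¹`
    have h2 := hh (β ⟨x, hx⟩)
    have h3 : (γ * (MulAut.conj α).toMonoidHom τ * γ⁻¹) (β ⟨x, hx⟩) = β (τ ⟨x, hx⟩) := by
      show γ (α (τ (α⁻¹ (γ⁻¹ (γ (α ⟨x, hx⟩)))))) = γ (α (τ ⟨x, hx⟩))
      simp
    rw [h3] at h2
    have h4 : τ ⟨x, hx⟩ = ⟨t * x * t⁻¹, htx⟩ := Subtype.ext (hτt ⟨x, hx⟩)
    rw [h4] at h2
    have h5 : b (t * x * t⁻¹) = h * b x * h⁻¹ := by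
      rw [hbdef, ext1_apply_mem _ htx, ext1_apply_mem _ hx]
      exact h2
    rw [h5]
    group)
  obtain ⟨g₁, R₁, hg₁, hg₁f'⟩ := IH N₁ N' f' hf' hcard
  have hsup : N₁ ⊔ T = U ⊔ T :=
    le_antisymm (sup_le hN₁le le_sup_right) (sup_le_sup_right hUN₁ T)
  rw [hsup] at hg₁
  refine ⟨g₁, R₁, hg₁, fun x hx => ?_⟩
  have h1 := hg₁f' x (hUN₁ hx)
  rw [hf'b x hx (hUN₁ hx)] at h1
  -- `α x = γ⁻¹ (β x)`
  have hax : a x = ((α ⟨x, hx⟩ : U) : Ω) := by rw [hadef, ext1_apply_mem _ hx]; rfl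
  have hbx : b x = ((β ⟨x, hx⟩ : U) : Ω) := by rw [hbdef, ext1_apply_mem _ hx]; rfl
  have h2 := ((hCmem γ).1 hγC).2 (α ⟨x, hx⟩)
  have h3 : ((γ (α ⟨x, hx⟩) : U) : Ω) = b x := by rw [hbx]; rfl
  rw [h3] at h2
  have e : (a x)⁻¹ * g₁ x = ((a x)⁻¹ * b x) * ((b x)⁻¹ * g₁ x) := by group
  rw [e, hax]
  exact T.mul_mem h2 h1

/-- Every map of a saturated fusion system extends, modulo a strongly closed subgroup `T`, to the
product of its source with `T`. -/
theorem exists_extMod [Finite S] {p : ℕ} [Fact p.Prime] (hS : IsPGroup p S)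
    {F : FusionSystem S} (hF : F.IsSaturated p) {T : Subgroup Ω} (hT : F.StronglyClosed T)
    {P P' : Subgroup Ω} {f : Ω → Ω} (hf : IsIso F P P' f) : ExtMod F T P f := by
  have hTS := hT.1
  have key : ∀ k m : ℕ, m + k = Nat.card S → ∀ (P : Subgroup Ω) (φ : P →* Ω), φ ∈ F.Hom P →
      m < Nat.card P → ∃ (g : Ω → Ω) (R : Subgroup Ω), IsIso F (P ⊔ T) R g ∧
        ∀ x : P, (φ x)⁻¹ * g x ∈ T := by
    intro k
    induction k with
    | zero =>
      intro m hm P φ hφ hlt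
      exfalso
      have := Subgroup.card_le_of_le (hom_le F hφ)
      omega
    | succ k ih =>
      intro m hm
      have IH := ih (m + 1) (by omega)
      refine alperin_pred hS F hF (fun P φ => m < Nat.card P → ∃ (g : Ω → Ω) (R : Subgroup Ω),
        IsIso F (P ⊔ T) R g ∧ ∀ x : P, (φ x)⁻¹ * g x ∈ T) ?_ ?_ ?_ ?_
      · -- conjugations
        intro P g hP hg _
        refine ⟨fun x => g * x * g⁻¹, _, IsIso.conj (F := F) (sup_le hP hTS) hg, fun x => ?_⟩
        rw [conjHom_apply, inv_mul_cancel]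
        exact T.one_mem
      · -- composition
        intro P Q φ ψ hPQ hφ hψ h1 h2 hlt
        have hQS : Q ≤ S := hom_le F hψ
        have hfinQ : Finite Q := finite_of_le S hQS
        have hcard : Nat.card P ≤ Nat.card Q := by
          apply Nat.card_le_card_of_injective (fun x : P => (⟨φ x, hPQ x⟩ : Q))
          intro x y hxy
          exact F.injective_of_mem hφ (congrArg Subtype.val hxy)
        obtain ⟨g₁, R₁, hg₁, hg₁φ⟩ := h1 hlt
        obtain ⟨g₂, R₂, hg₂, hg₂ψ⟩ := h2 (lt_of_lt_of_le hlt hcard)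
        have hg₁P : ∀ x ∈ P, g₁ x ∈ Q ⊔ T := by
          intro x hx
          have e : g₁ x = φ ⟨x, hx⟩ * ((φ ⟨x, hx⟩)⁻¹ * g₁ x) := by group
          rw [e]
          exact Subgroup.mul_mem _ ((le_sup_left : Q ≤ Q ⊔ T) (hPQ ⟨x, hx⟩))
            ((le_sup_right : T ≤ Q ⊔ T) (hg₁φ ⟨x, hx⟩))
        have hg₁T : ∀ x ∈ T, g₁ x ∈ T := fun x hx =>
          (stronglyClosed_isIso_self hT hg₁ le_sup_right).map_mem hx
        have hg₂T : ∀ x ∈ T, g₂ x ∈ T := fun x hx =>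
          (stronglyClosed_isIso_self hT hg₂ le_sup_right).map_mem hx
        have hR₁ : R₁ ≤ Q ⊔ T := by
          intro y hy
          obtain ⟨x, hx, rfl⟩ := hg₁.surjOn hy
          have : P ⊔ T ≤ hg₁.pre (Q ⊔ T) := by
            apply sup_le
            · intro a ha
              exact ⟨(le_sup_left : P ≤ P ⊔ T) ha, hg₁P a ha⟩
            · intro a ha
              exact ⟨(le_sup_right : T ≤ P ⊔ T) ha, (le_sup_right : T ≤ Q ⊔ T) (hg₁T a ha)⟩
          exact (this hx).2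
        obtain ⟨R', -, hg₂', -⟩ := hg₂.restrict hR₁
        refine ⟨g₂ ∘ g₁, R', hg₁.trans hg₂', fun x => ?_⟩
        show (ψ ⟨φ x, hPQ x⟩)⁻¹ * g₂ (g₁ x) ∈ T
        have ht : (φ x)⁻¹ * g₁ x ∈ T := hg₁φ x
        have e : g₁ x = φ x * ((φ x)⁻¹ * g₁ x) := by group
        rw [e, hg₂.map_mul ((le_sup_left : Q ≤ Q ⊔ T) (hPQ x)) ((le_sup_right : T ≤ Q ⊔ T) ht),
          ← mul_assoc]
        exact T.mul_mem (hg₂ψ ⟨φ x, hPQ x⟩) (hg₂T _ ht)
      · -- inverses
        intro P φ ψ hφ hψ hψφ h1 hlt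
        have hPS : P ≤ S := hom_le F hφ
        have hcard : Nat.card φ.range = Nat.card P := (isIso_of_mem F hφ).card_eq.symm
        rw [hcard] at hlt
        obtain ⟨g₁, R₁, hg₁, hg₁φ⟩ := h1 hlt
        have hg₁TT := stronglyClosed_isIso_self hT hg₁ le_sup_right
        obtain ⟨P₁, -, hg₁P, hP₁mem⟩ := hg₁.restrict (le_sup_left : P ≤ P ⊔ T)
        have hR₁ : R₁ = P₁ ⊔ T := hg₁.image_sup hg₁P hg₁TT
        have hsup : P₁ ⊔ T = φ.range ⊔ T := by
          apply le_antisymm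
          · apply sup_le _ le_sup_right
            intro y hy
            obtain ⟨x, hx, rfl⟩ := (hP₁mem y).1 hy
            have e : g₁ x = φ ⟨x, hx⟩ * ((φ ⟨x, hx⟩)⁻¹ * g₁ x) := by group
            rw [e]
            exact Subgroup.mul_mem _ ((le_sup_left : φ.range ≤ φ.range ⊔ T) ⟨⟨x, hx⟩, rfl⟩)
              ((le_sup_right : T ≤ φ.range ⊔ T) (hg₁φ ⟨x, hx⟩))
          · apply sup_le _ le_sup_right
            rintro _ ⟨x, rfl⟩
            have e : φ x = g₁ x * ((φ x)⁻¹ * g₁ x)⁻¹ := by group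
            rw [e]
            exact Subgroup.mul_mem _ ((le_sup_left : P₁ ≤ P₁ ⊔ T) (hg₁P.map_mem x.2))
              ((le_sup_right : T ≤ P₁ ⊔ T) (T.inv_mem (hg₁φ x)))
        rw [hR₁, hsup] at hg₁
        obtain ⟨g₁', hg₁', hg₁'g₁, hg₁g₁'⟩ := hg₁.symm
        have hg₁'T : ∀ x ∈ T, g₁' x ∈ T := fun x hx =>
          (stronglyClosed_isIso_self hT hg₁' le_sup_right).map_mem hx
        refine ⟨g₁', _, hg₁', fun y => ?_⟩
        obtain ⟨y, x, rfl⟩ := y
        rw [hψφ x]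
        have ht : ((φ x)⁻¹ * g₁ x)⁻¹ ∈ T := T.inv_mem (hg₁φ x)
        have e : φ x = g₁ x * ((φ x)⁻¹ * g₁ x)⁻¹ := by group
        show (x : Ω)⁻¹ * g₁' (φ x) ∈ T
        rw [e, hg₁'.map_mul (hg₁.map_mem ((le_sup_left : P ≤ P ⊔ T) x.2))
          ((le_sup_right : T ≤ φ.range ⊔ T) ht), hg₁'g₁ _ ((le_sup_left : P ≤ P ⊔ T) x.2),
          ← mul_assoc, inv_mul_cancel, one_mul]
        exact hg₁'T _ ht
      · -- `S` and the essential subgroups
        intro U hU α hα hlt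
        have hfn := isFullyNormalized_of_eq_or_essential hU
        have hUS := hfn.1
        obtain ⟨g, R, hg, hgα⟩ := extMod_of_fullyNormalized hS hF hT hfn (by
          intro P P' f hf hcard
          obtain ⟨φ, hφ, hφf, -⟩ := hf
          obtain ⟨g, R, hg, hgφ⟩ := IH P φ hφ (by omega)
          refine ⟨g, R, hg, fun x hx => ?_⟩
          rw [← hφf ⟨x, hx⟩]
          exact hgφ ⟨x, hx⟩) hα
        refine ⟨g, R, hg, fun x => ?_⟩
        have := hgα x x.2
        rwa [ext1_apply] at this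
  obtain ⟨φ, hφ, hφf, -⟩ := hf
  have hfinP : Finite P := finite_of_le S (hom_le F hφ)
  obtain ⟨g, R, hg, hgφ⟩ := key (Nat.card S) 0 (by omega) P φ hφ Nat.card_pos
  refine ⟨g, R, hg, fun x hx => ?_⟩
  rw [← hφf ⟨x, hx⟩]
  exact hgφ ⟨x, hx⟩

end Cfsg.Agent.Lib.H25
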