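import Cfsg.Agent.Lib.H25.Morphism
import Cfsg.Agent.Lib.H25.ExtMod
import Cfsg.Agent.Lib.H25.SatCriteria
import Cfsg.Agent.S5111

set_option autoImplicit false

/-!
The image of a saturated fusion system under a surjective morphism is saturated.
-/

namespace Cfsg.Agent.Lib.H25

open Cfsg Cfsg.FusionSystem
open scoped Pointwise

section Conj

variable {Ω : Type*} [Group Ω] {S : Subgroup Ω}

/-- Sylow conjugation by an element of a normal subgroup `C` of `Aut_F(U)`, for `U` fully automized: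
a `p`-subgroup of `Aut_S(U) C` is conjugate by an element of `C` into `Aut_S(U)`. -/
theorem IsFullyAutomized_exists_conj_mul [Finite S] {p : ℕ} [Fact p.Prime] {F : FusionSystem S}
    {U : Subgroup Ω} (hU : F.IsFullyAutomized p U) (C : Subgroup (MulAut U))
    (hCA : C ≤ F.autGroup U) (hCn : ∀ α ∈ F.autGroup U, ∀ β ∈ C, α * β * α⁻¹ ∈ C)
    (K : Subgroup (MulAut U)) (hKA : K ≤ F.autGroup U)
    (hKC : ∀ k ∈ K, ∃ a ∈ autInducedBy S U, ∃ c ∈ C, k = a * c) (hK : IsPGroup p K) :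
    ∃ γ ∈ C, ∀ k ∈ K, γ * k * γ⁻¹ ∈ autInducedBy S U := by
  set A := F.autGroup U with hA
  obtain ⟨hUS, R, hR⟩ := hU
  have : Finite U := finite_of_le S hUS
  have hIA : autInducedBy S U ≤ A := autInducedBy_le_autGroup F hUS
  have hC'n : (C.subgroupOf A).Normal := by
    constructor
    intro β hβ α
    rw [Subgroup.mem_subgroupOf] at hβ ⊢
    exact hCn α α.2 β hβ
  have hK' : IsPGroup p (K.subgroupOf A) := hK.comap_subtype
  have hK'H : K.subgroupOf A ≤ (R : Subgroup A) ⊔ C.subgroupOf A := by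
    intro k hk
    obtain ⟨a, ha, c, hc, hkac⟩ := hKC k.1 (Subgroup.mem_subgroupOf.1 hk)
    have haR : (⟨a, hIA ha⟩ : A) ∈ (R : Subgroup A) := by
      rw [hR]; exact Subgroup.mem_subgroupOf.2 ha
    have hcC : (⟨c, hCA hc⟩ : A) ∈ C.subgroupOf A := Subgroup.mem_subgroupOf.2 hc
    have : k = ⟨a, hIA ha⟩ * ⟨c, hCA hc⟩ := Subtype.ext hkac
    rw [this]
    exact Subgroup.mul_mem_sup haR hcC
  obtain ⟨δ, hδH, hδ⟩ := Cfsg.Agent.Lib.H26.exists_conj_mem_sylow_of_le R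
    ((R : Subgroup A) ⊔ C.subgroupOf A) (K.subgroupOf A) le_sup_left hK'H hK'
  have hmul : (↑((R : Subgroup A) ⊔ C.subgroupOf A) : Set A) =
      ((R : Subgroup A) : Set A) * (C.subgroupOf A : Set A) := Subgroup.mul_normal _ _
  have hδ' : δ ∈ (↑((R : Subgroup A) ⊔ C.subgroupOf A) : Set A) := hδH
  rw [hmul] at hδ'
  obtain ⟨s, hs, c, hc, rfl⟩ := hδ'
  refine ⟨(c : MulAut U), Subgroup.mem_subgroupOf.1 hc, fun k hk => ?_⟩
  have hkA : k ∈ A := hKA hk
  have h1 := hδ ⟨k, hkA⟩ (Subgroup.mem_subgroupOf.2 hk)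
  have h2 : c * ⟨k, hkA⟩ * c⁻¹ ∈ (R : Subgroup A) := by
    have h3 := (R : Subgroup A).mul_mem ((R : Subgroup A).mul_mem ((R : Subgroup A).inv_mem hs) h1) hs
    have h4 : s⁻¹ * (s * c * ⟨k, hkA⟩ * (s * c)⁻¹) * s = c * ⟨k, hkA⟩ * c⁻¹ := by group
    rwa [h4] at h3
  rw [hR] at h2
  exact Subgroup.mem_subgroupOf.1 h2

end Conj

variable {Ω : Type*} [Group Ω] {S : Subgroup Ω} {Ω' : Type*} [Group Ω'] {S' : Subgroup Ω'}
variable {F : FusionSystem S} {F' : FusionSystem S'} {α : S →* Ω'}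

/-- Compatibility of powers of automorphisms compatible along `α`. -/
theorem pow_compat {P : Subgroup Ω} {P' : Subgroup Ω'} {β : MulAut P} {β' : MulAut P'}
    (h : ∀ (x : P) (hx : al α (x : Ω) ∈ P'),
      ((β' ⟨al α x, hx⟩ : P') : Ω') = al α ((β x : P) : Ω)) (j : ℕ) :
    ∀ (x : P) (hx : al α (x : Ω) ∈ P'),
      (((β' ^ j) ⟨al α x, hx⟩ : P') : Ω') = al α (((β ^ j) x : P) : Ω) := by
  induction j with
  | zero => intro x hx; simp
  | succ j ih =>
    intro x hx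
    rw [pow_succ', pow_succ', MulAut.mul_apply, MulAut.mul_apply]
    have h1 := ih x hx
    have hmem : al α (((β ^ j) x : P) : Ω) ∈ P' := by rw [← h1]; exact ((β' ^ j) ⟨al α x, hx⟩).2
    have h2 : (β' ^ j) ⟨al α x, hx⟩ = ⟨al α (((β ^ j) x : P) : Ω), hmem⟩ := Subtype.ext h1
    rw [h2]
    exact h _ hmem

/-- `S'` is fully automized in the image of a saturated system. -/
theorem isFullyAutomized_top_of_surj [Finite S] {p : ℕ} [Fact p.Prime] (hS : IsPGroup p S)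
    (hF : F.IsSaturated p) (hsm : F.IsSurjectiveMorphism F' α)
    (hK : F.StronglyClosed (kerSub α)) : F'.IsFullyAutomized p S' := by
  have hrange := hsm.2.1
  have hfS' : Finite S' := finite_S' hrange
  have hS' : IsPGroup p S' := isPGroup_S' hrange hS
  have hAS : F.IsFullyAutomized p S := ((Cfsg.Agent.S5111.result p hS F).1 hF).1
  refine ⟨le_rfl, ?_⟩
  have hI'p : IsPGroup p ((autInducedBy S' S').subgroupOf (F'.autGroup S')) :=
    (autInducedBy_isPGroup hS' S').comap_subtype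
  obtain ⟨R, hR⟩ := hI'p.exists_le_sylow
  refine ⟨R, le_antisymm ?_ hR⟩
  intro β' hβ'
  rw [Subgroup.mem_subgroupOf]
  -- `β'` is a `p`-element
  obtain ⟨b, hb⟩ := R.isPGroup' ⟨β', hβ'⟩
  have hb' : (β' : MulAut S') ^ (p ^ b) = 1 := by
    have := congrArg (fun g : (R : Subgroup (F'.autGroup S')) => ((g : F'.autGroup S') : MulAut S')) hb
    simpa using this
  have hiso' := isIso_of_mem_autGroup F' le_rfl β'.2
  obtain ⟨f, hf, hff'⟩ := lift_iso hsm hK hiso'
  rw [pre_top hrange] at hf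
  obtain ⟨β, hβA, hβf⟩ := exists_mem_autGroup_of_isIso F hf
  have hcompat : ∀ (x : S) (hx : al α (x : Ω) ∈ S'),
      (((β' : MulAut S') ⟨al α x, hx⟩ : S') : Ω') = al α ((β x : S) : Ω) := by
    intro x hx
    rw [hβf, ← hff' x (by rw [pre_top hrange]; exact x.2), ext1_apply_mem _ hx]
    rfl
  have hfin : Finite (MulAut S) := inferInstance
  obtain ⟨j, c, hjc, hj⟩ := exists_pow_pPower_and_fix (p := p) β (isOfFinOrder_of_finite β)
    (β' : MulAut S') hb'
  have hcompat' := pow_compat hcompat j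
  rw [hj] at hcompat'
  -- `β ^ j` is a `p`-element of `Aut_F(S)`, hence inner
  have hβjA : β ^ j ∈ F.autGroup S := Subgroup.pow_mem _ hβA j
  have hKp : IsPGroup p (Subgroup.zpowers (β ^ j)) := by
    rintro ⟨g, hg⟩
    obtain ⟨n, rfl⟩ := Subgroup.mem_zpowers_iff.1 hg
    refine ⟨c, Subtype.ext ?_⟩
    show ((β ^ j) ^ n) ^ (p ^ c) = 1
    rw [← zpow_natCast, ← zpow_mul, mul_comm, zpow_mul, zpow_natCast, hjc, one_zpow]
  obtain ⟨a, haA, ha⟩ := IsFullyAutomized_exists_conj hAS (Subgroup.zpowers (β ^ j)) hKp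
    (by rw [Subgroup.zpowers_le]; exact hβjA)
  obtain ⟨s, hsS, hs⟩ := (mem_autInducedBy_iff S S _).1 (ha _ (Subgroup.mem_zpowers (β ^ j)))
  -- `β ^ j = c_t` with `t = a⁻¹ s`
  set t : S := a⁻¹ ⟨s, hsS⟩ with ht
  have hβt : ∀ x : S, (((β ^ j) x : S) : Ω) = (t : Ω) * x * (t : Ω)⁻¹ := by
    intro x
    have h1 := hs (a x)
    have h2 : (a * β ^ j * a⁻¹) (a x) = a ((β ^ j) x) := by
      simp [MulAut.mul_apply]
    rw [h2] at h1
    have h3 : a ((β ^ j) x) = ⟨s, hsS⟩ * a x * ⟨s, hsS⟩⁻¹ := Subtype.ext h1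
    have h4 : (β ^ j) x = t * x * t⁻¹ := by
      apply a.injective
      rw [h3, map_mul, map_mul, map_inv, ht]
      simp
    rw [h4]
    rfl
  rw [mem_autInducedBy_iff]
  refine ⟨al α t, al_mem_S' hrange t.2, fun y => ?_⟩
  obtain ⟨x, hxS, hxy⟩ := exists_al_eq hrange y.2
  have h5 := hcompat' ⟨x, hxS⟩ (by rw [hxy]; exact y.2)
  have h6 : (⟨al α x, by rw [hxy]; exact y.2⟩ : S') = y := Subtype.ext hxy
  rw [h6] at h5
  rw [h5, hβt, al_conj α t.2 hxS, hxy]

/-- Fully normalized subgroups of the image of a saturated system are receptive. -/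
theorem isReceptive_of_surj [Finite S] {p : ℕ} [Fact p.Prime] (hS : IsPGroup p S)
    (hF : F.IsSaturated p) (hsm : F.IsSurjectiveMorphism F' α)
    (hK : F.StronglyClosed (kerSub α)) {Q' : Subgroup Ω'} (hQ' : F'.IsFullyNormalized Q') :
    F'.IsReceptive Q' := by
  have hrange := hsm.2.1
  have hfS' : Finite S' := finite_S' hrange
  have hQ'S := hQ'.1
  have hfQ' : Finite Q' := finite_of_le S' hQ'S
  have hQfn : F.IsFullyNormalized (preimageAlong α Q') := isFullyNormalized_pre hsm hK hQ'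
  set Q := preimageAlong α Q' with hQdef
  have hQS : Q ≤ S := preimageAlong_le α Q'
  have hfQ : Finite Q := finite_of_le S hQS
  obtain ⟨hfc, hfa⟩ := fullyNormalized_props hS hF hQfn
  have hrec := isReceptive_of_fullyCentralized hS hF hfc
  refine ⟨hQ'S, fun R' φ' hφ' hr' => ?_⟩
  have hR'S : R' ≤ S' := hom_le F' hφ'
  have hfR' : Finite R' := finite_of_le S' hR'S
  have hiso' : IsIso F' R' Q' (ext1 φ') := ⟨φ', hφ', fun x => (ext1_apply φ' x).symm, hr'⟩
  obtain ⟨f, hf, hff'⟩ := lift_iso hsm hK hiso'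
  have hnormR : normalizerIn S (preimageAlong α R') = preimageAlong α (normalizerIn S' R') :=
    normalizerIn_pre hrange hR'S
  set R := preimageAlong α R' with hRdef
  have hRS : R ≤ S := preimageAlong_le α R'
  have hN'S : extender S' R' φ' ≤ S' := (extender_le_normalizerIn S' R' φ').trans inf_le_left
  have hR'N' : R' ≤ extender S' R' φ' := le_extender F' hφ'
  have himN : imageAlong α (preimageAlong α (extender S' R' φ')) = extender S' R' φ' :=
    image_pre hrange hN'S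
  have hNmem : ∀ g, g ∈ preimageAlong α (extender S' R' φ') ↔
      g ∈ S ∧ al α g ∈ extender S' R' φ' := mem_pre_iff α _
  have hRN : R ≤ preimageAlong α (extender S' R' φ') := pre_mono α hR'N'
  have hNnorm : preimageAlong α (extender S' R' φ') ≤ normalizerIn S R := by
    rw [hnormR]
    exact pre_mono α (extender_le_normalizerIn S' R' φ')
  set N := preimageAlong α (extender S' R' φ') with hNdef
  have hNS : N ≤ S := preimageAlong_le α _
  -- the subgroup `C` of automorphisms acting trivially modulo the kernel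
  set A := F.autGroup Q with hAdef
  let W : ℕ → Subgroup Q := fun i => if i = 0 then (kerSub α).subgroupOf Q else ⊤
  have hW0 : W 0 = (kerSub α).subgroupOf Q := rfl
  have hW1 : W 1 = ⊤ := rfl
  have hinv : ∀ β ∈ A, ∀ i, ∀ x ∈ W i, β x ∈ W i := by
    intro β hβ i x hx
    by_cases hi : i = 0
    · subst hi
      exact Subgroup.mem_subgroupOf.2
        (stronglyClosed_aut_mem' hK hQS hβ x (Subgroup.mem_subgroupOf.1 hx))
    · have : W i = ⊤ := if_neg hi
      rw [this]; trivial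
  set C := stabSub A W 1 hinv with hCdef
  have hCmem : ∀ β : MulAut Q, β ∈ C ↔
      β ∈ A ∧ ∀ x : Q, (x : Ω)⁻¹ * ((β x : Q) : Ω) ∈ kerSub α := by
    intro β
    rw [hCdef, mem_stabSub_iff]
    constructor
    · rintro ⟨h1, h2⟩
      refine ⟨h1, fun x => ?_⟩
      have := h2 0 Nat.zero_lt_one x (by rw [hW1]; trivial)
      exact Subgroup.mem_subgroupOf.1 this
    · rintro ⟨h1, h2⟩
      refine ⟨h1, fun i hi x _ => ?_⟩
      have hi0 : i = 0 := by omega
      subst hi0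
      exact Subgroup.mem_subgroupOf.2 (h2 x)
  -- transport of `Aut_N(R)` to `Q`
  set e : R ≃* Q := hf.toMulEquiv with hedef
  have he : ∀ x : R, ((e x : Q) : Ω) = f x := hf.toMulEquiv_apply
  set D := (autInducedBy N R).map (MulAut.congr e).toMonoidHom with hDdef
  have hDp : IsPGroup p D := (autInducedBy_isPGroup (hS.to_le hNS) R).map _
  have hDA : D ≤ A := by
    rintro _ ⟨κ, hκ, rfl⟩
    exact congr_mem_autGroup hf e he (autInducedBy_le_autGroup F hRS (autInducedBy_mono hNS R hκ))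
  have hDC : ∀ d ∈ D, ∃ a ∈ autInducedBy S Q, ∃ c ∈ C, d = a * c := by
    rintro _ ⟨κ, hκ, rfl⟩
    have hdA : (MulAut.congr e).toMonoidHom κ ∈ A := hDA ⟨κ, hκ, rfl⟩
    obtain ⟨g, hgN, hκg⟩ := (mem_autInducedBy_iff N R κ).1 hκ
    obtain ⟨hgS, hg'N'⟩ := (hNmem g).1 hgN
    obtain ⟨hg'S', hg'norm, h', hh'S', hh'⟩ := (mem_extender_iff S' R' φ' _).1 hg'N'
    obtain ⟨h, hhS, hhh'⟩ := exists_al_eq hrange hh'S'
    obtain ⟨d, hd⟩ : ∃ d, d = (MulAut.congr e).toMonoidHom κ := ⟨_, rfl⟩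
    rw [← hd] at hdA ⊢
    have hdv : ∀ y : Q, al α ((d y : Q) : Ω) = h' * al α (y : Ω) * h'⁻¹ := by
      intro y
      obtain ⟨x, hx⟩ : ∃ x, x = e.symm y := ⟨_, rfl⟩
      have hdy : d y = e (κ x) := by rw [hd, hx]; rfl
      have hyx : y = e x := by rw [hx]; simp
      rw [hdy, he, hκg]
      have hgx : g * x * g⁻¹ ∈ R := by rw [← hκg]; exact (κ x).2
      rw [← hff' _ hgx]
      have hxS : (x : Ω) ∈ S := hRS x.2
      rw [al_conj α hgS hxS]
      have hx' : al α x ∈ R' := ((mem_pre_iff α R' _).1 x.2).2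
      have hconj : al α g * al α x * (al α g)⁻¹ ∈ R' := by
        rw [← al_conj α hgS hxS]; exact ((mem_pre_iff α R' _).1 hgx).2
      rw [ext1_apply_mem φ' hconj]
      have h1 := hh' ⟨al α x, hx'⟩ hconj
      rw [h1]
      have h2 : φ' ⟨al α x, hx'⟩ = al α (y : Ω) := by
        rw [← ext1_apply_mem φ' hx', hff' _ x.2, ← he, hyx]
      rw [h2]
    have hh'norm : h' ∈ Subgroup.normalizer (Q' : Set Ω') := by
      apply mem_normalizer_of_conj_mem
      intro y' hy'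
      obtain ⟨y, hy, rfl⟩ := exists_al_eq_of_mem hrange hQ'S hy'
      rw [← hdv ⟨y, hy⟩]
      exact ((mem_pre_iff α Q' _).1 (d ⟨y, hy⟩).2).2
    have hhN : h ∈ normalizerIn S Q := by
      rw [hQdef, normalizerIn_pre hrange hQ'S, mem_pre_iff]
      exact ⟨hhS, by rw [hhh']; exact ⟨hh'S', hh'norm⟩⟩
    obtain ⟨a, haA, hah⟩ := exists_mem_autGroup_of_isIso F (isIso_conj_normalizer F hQS hhN)
    have haI : a ∈ autInducedBy S Q := (mem_autInducedBy_iff S Q a).2 ⟨h, hhS, hah⟩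
    refine ⟨a, haI, a⁻¹ * d, ?_, by group⟩
    rw [hCmem]
    refine ⟨A.mul_mem (A.inv_mem haA) hdA, fun y => ?_⟩
    apply inv_mul_mem_kerSub α (hQS y.2) (hQS ((a⁻¹ * d) y).2)
    obtain ⟨z, hz⟩ : ∃ z, z = (a⁻¹ * d) y := ⟨_, rfl⟩
    rw [← hz]
    have haz : a z = d y := by rw [hz]; simp [MulAut.mul_apply]
    have h1 := hdv y
    rw [← haz, hah, al_conj α hhS (hQS z.2), hhh'] at h1
    have h2 := mul_left_cancel (mul_right_cancel h1)
    exact h2.symm
  obtain ⟨γ, hγC, hγ⟩ := IsFullyAutomized_exists_conj_mul hfa C (stabSub_le _ _ _ _)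
    (fun α' hα' β hβ => stabSub_conj_mem A W 1 hinv hα' hβ) D hDA hDC hDp
  obtain ⟨hγA, hγK⟩ := (hCmem γ).1 hγC
  have hγiso := isIso_of_mem_autGroup F hQS hγA
  obtain ⟨gf, hgf⟩ : ∃ gf, gf = ext1 (Q.subtype.comp γ.toMonoidHom) := ⟨_, rfl⟩
  rw [← hgf] at hγiso
  have hgfv : ∀ y : Q, gf y = ((γ y : Q) : Ω) := fun y => by rw [hgf]; exact ext1_apply _ y
  have hf2 : IsIso F R Q (gf ∘ f) := hf.trans hγiso
  obtain ⟨f3, N3, hf3, hf3f⟩ := IsReceptive_extend hrec hf2 N (by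
    intro g hgN
    have hgS := hNS hgN
    have hgnorm := (hNnorm hgN).2
    refine ⟨hgS, hgnorm, ?_⟩
    obtain ⟨κ, hκA, hκg⟩ := exists_mem_autGroup_of_isIso F
      (isIso_conj_normalizer F hRS (hNnorm hgN))
    have hκN : κ ∈ autInducedBy N R := (mem_autInducedBy_iff N R κ).2 ⟨g, hgN, hκg⟩
    have h1 := hγ _ (Subgroup.mem_map_of_mem _ hκN)
    obtain ⟨h, hhS, hh⟩ := (mem_autInducedBy_iff S Q _).1 h1
    refine ⟨h, hhS, fun x hx => ?_⟩
    have hgx : g * x * g⁻¹ ∈ R := (Subgroup.mem_normalizer_iff.1 hgnorm x).1 hx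
    have h2 := hh (γ (e ⟨x, hx⟩))
    have h3 : (γ * (MulAut.congr e).toMonoidHom κ * γ⁻¹) (γ (e ⟨x, hx⟩)) =
        γ (e (κ ⟨x, hx⟩)) := by
      show γ (e (κ (e.symm (γ⁻¹ (γ (e ⟨x, hx⟩)))))) = _
      simp
    rw [h3] at h2
    have h4 : κ ⟨x, hx⟩ = ⟨g * x * g⁻¹, hgx⟩ := Subtype.ext (hκg ⟨x, hx⟩)
    rw [h4] at h2
    show gf (f (g * x * g⁻¹)) = h * gf (f x) * h⁻¹
    have h5 : f (g * x * g⁻¹) = ((e ⟨g * x * g⁻¹, hgx⟩ : Q) : Ω) := (he ⟨g * x * g⁻¹, hgx⟩).symm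
    have h6 : f x = ((e ⟨x, hx⟩ : Q) : Ω) := (he ⟨x, hx⟩).symm
    rw [h5, h6, hgfv, hgfv]
    exact h2)
  obtain ⟨f3', hf3', hf3c⟩ := push_iso hsm.1 hf3
  rw [hNdef, himN] at hf3'
  obtain ⟨ψ', hψ', hψ'v, -⟩ := hf3'.exists_hom
  refine ⟨ψ', hψ', fun x' hx'R hx'N => ?_⟩
  rw [hψ'v]
  obtain ⟨x, hx, rfl⟩ := exists_al_eq_of_mem hrange hR'S hx'R
  show f3' (al α x) = _
  rw [hf3c x (hRN hx), hf3f x hx (hRN hx)]
  show al α (gf (f x)) = _
  have hfx : f x = ((e ⟨x, hx⟩ : Q) : Ω) := (he ⟨x, hx⟩).symm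
  rw [hfx, hgfv, ← al_eq_of_inv_mul_mem α (hQS (e ⟨x, hx⟩).2) (hγK (e ⟨x, hx⟩)), ← hfx,
    ← hff' x hx, ext1_apply_mem φ' hx'R]

/-- The image of a saturated fusion system under a surjective morphism is saturated. -/
theorem isSaturated_of_surjectiveMorphism [Finite S] {p : ℕ} [Fact p.Prime] (hS : IsPGroup p S)
    (hF : F.IsSaturated p) (hsm : F.IsSurjectiveMorphism F' α) : F'.IsSaturated p := by
  have hrange := hsm.2.1
  have hfS' : Finite S' := finite_S' hrange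
  have hS' : IsPGroup p S' := isPGroup_S' hrange hS
  have hK : F.StronglyClosed (kerSub α) := by
    rw [kerSub_eq]
    exact Cfsg.Agent.S5131.result p hS F F' α hsm.1
  rw [Cfsg.Agent.S5111.result p hS' F']
  exact ⟨isFullyAutomized_top_of_surj hS hF hsm hK,
    fun P hP => isReceptive_of_surj hS hF hsm hK hP⟩

end Cfsg.Agent.Lib.H25
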