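import Cfsg.Agent.Lib.H25.ExtMod
import Cfsg.Prelude.Def_FusionComponents

set_option autoImplicit false

/-!
Homomorphisms induced along a homomorphism `θ : S →* Ω'`, factor systems.
-/

namespace Cfsg.Agent.Lib.H25

open Cfsg Cfsg.FusionSystem

variable {Ω : Type*} [Group Ω] {S : Subgroup Ω} {Ω' : Type*} [Group Ω']

theorem mem_imageAlong_iff (θ : S →* Ω') (P : Subgroup Ω) (y : Ω') :
    y ∈ imageAlong θ P ↔ ∃ (x : Ω) (hxS : x ∈ S), x ∈ P ∧ θ ⟨x, hxS⟩ = y := by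
  constructor
  · rintro ⟨s, hs, rfl⟩
    exact ⟨s, s.2, Subgroup.mem_subgroupOf.1 hs, rfl⟩
  · rintro ⟨x, hxS, hxP, rfl⟩
    exact ⟨⟨x, hxS⟩, Subgroup.mem_subgroupOf.2 hxP, rfl⟩

theorem mem_preimageAlong_iff (θ : S →* Ω') (P' : Subgroup Ω') (x : Ω) :
    x ∈ preimageAlong θ P' ↔ ∃ hxS : x ∈ S, θ ⟨x, hxS⟩ ∈ P' := by
  constructor
  · rintro ⟨s, hs, rfl⟩
    exact ⟨s.2, hs⟩
  · rintro ⟨hxS, hx⟩
    exact ⟨⟨x, hxS⟩, hx, rfl⟩

theorem preimageAlong_le (θ : S →* Ω') (P' : Subgroup Ω') : preimageAlong θ P' ≤ S := by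
  intro x hx
  obtain ⟨hxS, -⟩ := (mem_preimageAlong_iff θ P' x).1 hx
  exact hxS

/-- The full preimage of the image of `P` is `P S₀`, where `S₀` is the kernel. -/
theorem preimageAlong_imageAlong (θ : S →* Ω') {S₀ : Subgroup Ω}
    (hker : ∀ s : S, θ s = 1 ↔ (s : Ω) ∈ S₀) (hS₀ : S₀ ≤ S) {P : Subgroup Ω} (hP : P ≤ S) :
    preimageAlong θ (imageAlong θ P) = P ⊔ S₀ := by
  apply le_antisymm
  · intro x hx
    obtain ⟨hxS, hx'⟩ := (mem_preimageAlong_iff θ _ x).1 hx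
    obtain ⟨y, hyS, hyP, hy⟩ := (mem_imageAlong_iff θ P _).1 hx'
    have h1 : θ (⟨y, hyS⟩⁻¹ * ⟨x, hxS⟩) = 1 := by rw [map_mul, map_inv, hy, inv_mul_cancel]
    have h2 : y⁻¹ * x ∈ S₀ := (hker _).1 h1
    have e : x = y * (y⁻¹ * x) := by group
    rw [e]
    exact Subgroup.mul_mem _ ((le_sup_left : P ≤ P ⊔ S₀) hyP) ((le_sup_right : S₀ ≤ P ⊔ S₀) h2)
  · apply sup_le
    · intro x hx
      exact (mem_preimageAlong_iff θ _ x).2 ⟨hP hx, (mem_imageAlong_iff θ P _).2 ⟨x, hP hx, hx, rfl⟩⟩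
    · intro x hx
      refine (mem_preimageAlong_iff θ _ x).2 ⟨hS₀ hx, ?_⟩
      rw [(hker ⟨x, hS₀ hx⟩).2 hx]
      exact Subgroup.one_mem _

/-- The homomorphism induced on the image of `P` along `θ` by a homomorphism `φ` on `P` with values in
`S` carrying the kernel of `θ` into itself. -/
noncomputable def inducedHom (θ : S →* Ω') {P : Subgroup Ω} (hP : P ≤ S) (φ : P →* Ω)
    (hφS : ∀ x : P, φ x ∈ S)
    (hk : ∀ x : P, θ ⟨x, hP x.2⟩ = 1 → θ ⟨φ x, hφS x⟩ = 1) : ↥(imageAlong θ P) →* Ω' :=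
  (θ.subgroupMap (P.subgroupOf S)).liftOfSurjective (θ.subgroupMap_surjective (P.subgroupOf S))
    ⟨θ.comp ((φ.comp (Subgroup.subgroupOfEquivOfLe hP).toMonoidHom).codRestrict S
        (fun z => hφS _)), by
      intro z hz
      rw [MonoidHom.mem_ker] at hz ⊢
      have h1 : θ (z : S) = 1 := by
        have := congrArg Subtype.val hz
        exact this
      have h2 := hk (Subgroup.subgroupOfEquivOfLe hP z) (by
        have : (⟨((Subgroup.subgroupOfEquivOfLe hP z : P) : Ω), hP (Subgroup.subgroupOfEquivOfLe hP z).2⟩ : S) = (z : S) :=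
          Subtype.ext rfl
        rw [this]; exact h1)
      exact h2⟩

theorem inducedHom_apply (θ : S →* Ω') {P : Subgroup Ω} (hP : P ≤ S) (φ : P →* Ω)
    (hφS : ∀ x : P, φ x ∈ S)
    (hk : ∀ x : P, θ ⟨x, hP x.2⟩ = 1 → θ ⟨φ x, hφS x⟩ = 1) (x : P)
    (hx' : θ ⟨x, hP x.2⟩ ∈ imageAlong θ P) :
    inducedHom θ hP φ hφS hk ⟨θ ⟨x, hP x.2⟩, hx'⟩ = θ ⟨φ x, hφS x⟩ := by
  have h1 : (⟨θ ⟨x, hP x.2⟩, hx'⟩ : ↥(imageAlong θ P)) =
      θ.subgroupMap (P.subgroupOf S) ⟨⟨x, hP x.2⟩, Subgroup.mem_subgroupOf.2 x.2⟩ := Subtype.ext rfl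
  rw [h1]
  exact MonoidHom.liftOfRightInverse_comp_apply (θ.subgroupMap (P.subgroupOf S)) _ _ _ _

/-- Extension of a homomorphism defined on a subgroup (with values in another group) by `1`. -/
noncomputable def extTo {P : Subgroup Ω} (θ : P →* Ω') : Ω → Ω' := by
  classical
  exact fun x => if h : x ∈ P then θ ⟨x, h⟩ else 1

theorem extTo_mem {P : Subgroup Ω} (θ : P →* Ω') {x : Ω} (hx : x ∈ P) :
    extTo θ x = θ ⟨x, hx⟩ := by
  classical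
  simp [extTo, hx]

theorem extTo_mul {P : Subgroup Ω} (θ : P →* Ω') {x y : Ω} (hx : x ∈ P) (hy : y ∈ P) :
    extTo θ (x * y) = extTo θ x * extTo θ y := by
  rw [extTo_mem θ hx, extTo_mem θ hy, extTo_mem θ (P.mul_mem hx hy), ← map_mul]
  rfl

theorem extTo_inv {P : Subgroup Ω} (θ : P →* Ω') {x : Ω} (hx : x ∈ P) :
    extTo θ x⁻¹ = (extTo θ x)⁻¹ := by
  rw [extTo_mem θ hx, extTo_mem θ (P.inv_mem hx), ← map_inv]
  rfl

end Cfsg.Agent.Lib.H25
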