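import Mathlib
import Cfsg.Agent.Lib.H25.SimpleCrit
import Cfsg.Agent.Lib.H25.NormalResMain
import Cfsg.Agent.Lib.H25.NormalSeries
import Cfsg.Agent.Lib.H25.Saturation
import Cfsg.Agent.Lib.H26.NormalSubgroupFusion
import Cfsg.Agent.Lib.H26.NormCtl
import Cfsg.Agent.S5119

set_option autoImplicit false

/-!
# A simplicity criterion for the `p`-fusion system of a finite group (helper25)

If the only strongly closed subgroups of a Sylow `p`-subgroup `S` of `G` are `1` and `S`, and
`N_G(S)` is generated by `S`, `C_G(S)` and elements `h` which, for some normal subgroup `P` of `S`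
with `C_S(P) ≤ P`, are products of `p`-elements of `N_G(P)`, then the fusion system of `G` on `S`
is simple.
-/

namespace Cfsg.Agent.Lib.H25.LieCrit

open Cfsg Cfsg.FusionSystem Cfsg.Agent.Lib.H25 Cfsg.Agent.Lib.H26 Cfsg.Agent.S5114
  Cfsg.Agent.S5119

section General

variable {Ω : Type*} [Group Ω] {S : Subgroup Ω}

/-- A fusion system is strongly invariant in itself. -/
theorem si_self (F : FusionSystem S) : SI F F := by
  intro P Q hPQ hQS φ hφ hφQ ψ hψ
  have hf : IsIso F P φ.range (ext1 φ) := isIso_of_mem F hφ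
  have hg : IsIso F Q ψ.range (ext1 ψ) := isIso_of_mem F hψ
  have hP₁Q : φ.range ≤ Q := by
    rintro _ ⟨x, rfl⟩
    exact hφQ x
  obtain ⟨P', -, hgP, hP'mem⟩ := hg.restrict hPQ
  obtain ⟨P₁', -, hgP₁, -⟩ := hg.restrict hP₁Q
  obtain ⟨g', hg', hg'g, -⟩ := hgP.symm
  have hρ : IsIso F P' P₁' (ext1 ψ ∘ (ext1 φ ∘ g')) := (hg'.trans hf).trans hgP₁
  have heq : P' = (P.subgroupOf Q).map ψ := by
    ext z
    rw [hP'mem]
    constructor
    · rintro ⟨x, hx, rfl⟩
      exact ⟨⟨x, hPQ hx⟩, Subgroup.mem_subgroupOf.2 hx, (ext1_apply_mem ψ (hPQ hx)).symm⟩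
    · rintro ⟨x, hx, rfl⟩
      exact ⟨x, Subgroup.mem_subgroupOf.1 hx, ext1_apply ψ x⟩
  subst heq
  obtain ⟨χ, hχ, hχv, -⟩ := hρ
  refine ⟨χ, hχ, fun x hx => ?_⟩
  rw [hχv]
  show ext1 ψ (ext1 φ (g' (ψ (Subgroup.inclusion hPQ x)))) = _
  have h1 : ψ (Subgroup.inclusion hPQ x) = ext1 ψ (x : Ω) := (ext1_apply_mem ψ (hPQ x.2)).symm
  rw [h1, hg'g x x.2, ext1_apply φ x, ext1_apply_mem ψ (hφQ x)]

theorem invariant_self [Finite S] {p : ℕ} [Fact p.Prime] (hS : IsPGroup p S)
    {F : FusionSystem S} (hF : F.IsSaturated p) : F.IsInvariantIn F :=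
  (Cfsg.Agent.S5119.result p hS F hF F (fun _ _ h => h) (stronglyClosed_self F)).2 (si_self F)

end General

variable {G : Type*} [Group G] [Finite G] {p : ℕ} [Fact p.Prime]

/-- The generators allowed for `N_G(S)`. -/
def GoodElt (p : ℕ) (S : Subgroup G) (h : G) : Prop :=
  h ∈ S ∨ h ∈ Subgroup.centralizer (S : Set G) ∨
    (h ∈ Subgroup.normalizer (S : Set G) ∧ ∃ P : Subgroup G, P ≤ S ∧
      S ≤ Subgroup.normalizer (P : Set G) ∧ Subgroup.centralizer (P : Set G) ⊓ S ≤ P ∧
      h ∈ Subgroup.closure {x : G | x ∈ Subgroup.normalizer (P : Set G) ∧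
        ∃ k : ℕ, orderOf x = p ^ k})

/-- conjugation by a normalizing element, as an automorphism in the fusion system -/
theorem isIso_conj_self {S P : Subgroup G} (hP : P ≤ S) {g : G}
    (hg : g ∈ Subgroup.normalizer (P : Set G)) :
    IsIso (groupFusionSystem S) P P (fun x => g * x * g⁻¹) := by
  have h := isIso_conj_groupFusionSystem hP (g := g)
    (by rw [cj_eq_self_of_mem_normalizer hg]; exact hP)
  rwa [cj_eq_self_of_mem_normalizer hg] at h

theorem centric_of_normal (S : Sylow p G) {P : Subgroup G} (hPS : P ≤ (S : Subgroup G))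
    (hn : (S : Subgroup G) ≤ Subgroup.normalizer (P : Set G))
    (hc : Subgroup.centralizer (P : Set G) ⊓ (S : Subgroup G) ≤ P) :
    (groupFusionSystem (S : Subgroup G)).IsCentric P := by
  have hS : IsPGroup p (S : Subgroup G) := S.isPGroup'
  have hF := groupFusionSystem_isSaturated S
  have hN : normalizerIn (S : Subgroup G) P = (S : Subgroup G) := by
    unfold normalizerIn
    exact inf_of_le_left hn
  have hfn : (groupFusionSystem (S : Subgroup G)).IsFullyNormalized P :=
    Cfsg.Agent.Lib.H26.ZJ.isFullyNormalized_of_normalizerIn_eq hPS hN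
  obtain ⟨hfc, -⟩ := fullyNormalized_props hS hF hfn
  apply isCentric_of_fullyCentralized hfc
  unfold centralizerIn
  rw [inf_comm]
  exact hc

/-- `p`-elements of `N_G(P)` give automorphisms in `O^{p'}(Aut_F(P))`. -/
theorem jIso_of_mem_closure (S : Sylow p G) {P : Subgroup G}
    (hPc : (groupFusionSystem (S : Subgroup G)).IsCentric P) {h : G}
    (hh : h ∈ Subgroup.closure {x : G | x ∈ Subgroup.normalizer (P : Set G) ∧
        ∃ k : ℕ, orderOf x = p ^ k}) :
    h ∈ Subgroup.normalizer (P : Set G) ∧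
      JIso (groupFusionSystem (S : Subgroup G)) p P P (fun x => h * x * h⁻¹) := by
  have hPS : P ≤ (S : Subgroup G) := hPc.1
  induction hh using Subgroup.closure_induction with
  | mem x hx =>
    obtain ⟨hxN, k, hk⟩ := hx
    refine ⟨hxN, ?_⟩
    obtain ⟨α, hα, hαv⟩ := exists_aut_of_normalizer (S := (S : Subgroup G)) hPS hxN
    have hpow : ∀ m : ℕ, ∀ y : P, (((α ^ m) y : P) : G) = x ^ m * y * (x ^ m)⁻¹ := by
      intro m
      induction m with
      | zero => intro y; simp
      | succ m ih =>
        intro y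
        rw [pow_succ', MulAut.mul_apply, hαv, ih, pow_succ']
        group
    have hα1 : α ^ (p ^ k) = 1 := by
      ext y
      rw [hpow, ← hk, pow_orderOf_eq_one]
      simp
    have hdvd : orderOf α ∣ p ^ k := orderOf_dvd_of_pow_eq_one hα1
    obtain ⟨j, -, hj⟩ := (Nat.dvd_prime_pow (Fact.out : p.Prime)).1 hdvd
    have hJ : JIso (groupFusionSystem (S : Subgroup G)) p P P (aut1 α) :=
      fun D hD => iso₀_of_pPower hD hPc hα hj
    exact hJ.congr (fun y hy => by rw [aut1_apply_mem α hy, hαv])
  | one =>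
    refine ⟨Subgroup.one_mem _, ?_⟩
    exact (JIso.refl hPS).congr (fun y _ => by simp)
  | mul a b _ _ iha ihb =>
    refine ⟨Subgroup.mul_mem _ iha.1 ihb.1, ?_⟩
    refine (ihb.2.trans iha.2).congr (fun y _ => ?_)
    show a * (b * y * b⁻¹) * a⁻¹ = a * b * y * (a * b)⁻¹
    group
  | inv a _ iha =>
    refine ⟨Subgroup.inv_mem _ iha.1, ?_⟩
    apply iha.2.symm (isIso_conj_self hPS (Subgroup.inv_mem _ iha.1))
    intro y _
    group

theorem isSimple_of_gen (S : Sylow p G) (hne : (S : Subgroup G) ≠ ⊥)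
    (hsc : ∀ T : Subgroup G, Cfsg.IsStronglyClosed T (S : Subgroup G) →
      T = ⊥ ∨ T = (S : Subgroup G))
    (hgen : Subgroup.normalizer ((S : Subgroup G) : Set G) ≤
      Subgroup.closure {h : G | GoodElt p (S : Subgroup G) h}) :
    (groupFusionSystem (S : Subgroup G)).IsSimple p := by
  have hS : IsPGroup p (S : Subgroup G) := S.isPGroup'
  have hF := groupFusionSystem_isSaturated S
  refine ⟨hF, hne, ?_⟩
  intro T E hE
  obtain ⟨⟨hEs, -, hinv⟩, -⟩ := hE
  rcases hsc T (SimpleCrit.isStronglyClosed_of_stronglyClosed hinv.2.1) with h | h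
  · exact Or.inl h
  right
  subst h
  refine ⟨rfl, ?_⟩
  apply SimpleCrit.hom_eq_of_invariant_of_aut_le hinv
  -- every element of `N_G(S)` induces an automorphism in `E`
  have key : ∀ g ∈ Subgroup.closure {h : G | GoodElt p (S : Subgroup G) h},
      g ∈ Subgroup.normalizer ((S : Subgroup G) : Set G) ∧
        IsIso E (S : Subgroup G) (S : Subgroup G) (fun x => g * x * g⁻¹) := by
    intro g hg
    induction hg using Subgroup.closure_induction with
    | mem h hh =>
      rcases hh with hh | hh | ⟨hhN, P, hPS, hPn, hPc, hcl⟩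
      · refine ⟨Subgroup.le_normalizer hh, ?_⟩
        have := IsIso.conj (F := E) (le_refl (S : Subgroup G)) hh
        have e : (S : Subgroup G).map (MulAut.conj h).toMonoidHom = (S : Subgroup G) := by
          ext y
          constructor
          · rintro ⟨x, hx, rfl⟩
            exact Subgroup.mul_mem _ (Subgroup.mul_mem _ hh hx) (Subgroup.inv_mem _ hh)
          · intro hy
            refine ⟨h⁻¹ * y * h, Subgroup.mul_mem _ (Subgroup.mul_mem _ (Subgroup.inv_mem _ hh) hy) hh, ?_⟩
            simp [MulAut.conj_apply]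
            group
        rwa [e] at this
      · have hcomm : ∀ x ∈ (S : Subgroup G), h * x * h⁻¹ = x := by
          intro x hx
          have := Subgroup.mem_centralizer_iff.1 hh x hx
          rw [← this, mul_inv_cancel_right]
        refine ⟨?_, ?_⟩
        · apply mem_normalizer_of_conj_mem
          intro x hx
          rw [hcomm x hx]; exact hx
        · exact (IsIso.refl (F := E) (le_refl _)).congr (fun x hx => (hcomm x hx).symm)
      · refine ⟨hhN, ?_⟩
        have hPcen := centric_of_normal S hPS hPn hPc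
        obtain ⟨-, hJ⟩ := jIso_of_mem_closure S hPcen hcl
        have hb : IsIso (groupFusionSystem (S : Subgroup G)) (S : Subgroup G) (S : Subgroup G)
            (fun x => h * x * h⁻¹) := isIso_conj_self le_rfl hhN
        have hb' : IsIso (groupFusionSystem (S : Subgroup G)) (S : Subgroup G) (S : Subgroup G)
            (fun x => h⁻¹ * x * h⁻¹⁻¹) := isIso_conj_self le_rfl (Subgroup.inv_mem _ hhN)
        have hA : AutS (groupFusionSystem (S : Subgroup G)) (fun x => h * x * h⁻¹)
            (fun x => h⁻¹ * x * h⁻¹⁻¹) :=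
          ⟨hb, hb', fun x _ => by group, fun x _ => by group⟩
        have hA0 : A0 (groupFusionSystem (S : Subgroup G)) p (fun x => h * x * h⁻¹)
            (fun x => h⁻¹ * x * h⁻¹⁻¹) := A0.gen hA hPcen hJ
        exact (NormalRes.A0_le hS hF (invariant_self hS hF) hEs hinv hA0).1
    | one =>
      refine ⟨Subgroup.one_mem _, ?_⟩
      exact (IsIso.refl (F := E) (le_refl _)).congr (fun y _ => by simp)
    | mul a b _ _ iha ihb =>
      refine ⟨Subgroup.mul_mem _ iha.1 ihb.1, ?_⟩
      refine (ihb.2.trans iha.2).congr (fun y _ => ?_)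
      show a * (b * y * b⁻¹) * a⁻¹ = a * b * y * (a * b)⁻¹
      group
    | inv a _ iha =>
      refine ⟨Subgroup.inv_mem _ iha.1, ?_⟩
      obtain ⟨k, hk, hk1, -⟩ := iha.2.symm
      refine hk.congr (fun y hy => ?_)
      obtain ⟨x, hx, rfl⟩ := iha.2.surjOn hy
      rw [hk1 x hx]
      group
  intro α hα
  rw [groupFusionSystem_autGroup_eq le_rfl, mem_autInducedBy_iff] at hα
  obtain ⟨g, -, hg⟩ := hα
  have hgN : g ∈ Subgroup.normalizer ((S : Subgroup G) : Set G) := by
    apply mem_normalizer_of_conj_mem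
    intro x hx
    rw [← hg ⟨x, hx⟩]
    exact (α ⟨x, hx⟩).2
  obtain ⟨-, hiso⟩ := key g (hgen hgN)
  apply FrG.mem_autGroup_of_isIso_aut1'
  exact hiso.congr (fun x hx => by rw [aut1_apply_mem α hx, hg])

/-! ### Transport along conjugation -/

omit [Finite G] [Fact p.Prime] in
theorem goodElt_cj (g : G) {S : Subgroup G} {h : G} (hh : GoodElt p S h) :
    GoodElt p (cj g S) (g * h * g⁻¹) := by
  rcases hh with hh | hh | ⟨hhN, P, hPS, hPn, hPc, hcl⟩
  · exact Or.inl (conj_mem_cj hh)
  · right; left
    rw [← cj_centralizer]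
    exact conj_mem_cj hh
  · right; right
    refine ⟨?_, cj g P, cj_mono g hPS, ?_, ?_, ?_⟩
    · rw [← cj_normalizer]; exact conj_mem_cj hhN
    · rw [← cj_normalizer]; exact cj_mono g hPn
    · rw [← cj_centralizer, ← cj_inf]; exact cj_mono g hPc
    · have hle : Subgroup.closure {x : G | x ∈ Subgroup.normalizer (P : Set G) ∧
          ∃ k : ℕ, orderOf x = p ^ k} ≤
          (Subgroup.closure {x : G | x ∈ Subgroup.normalizer ((cj g P : Subgroup G) : Set G) ∧
            ∃ k : ℕ, orderOf x = p ^ k}).comap (MulAut.conj g).toMonoidHom := by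
        rw [Subgroup.closure_le]
        rintro x ⟨hxN, k, hk⟩
        apply Subgroup.subset_closure
        refine ⟨?_, k, ?_⟩
        · rw [← cj_normalizer]; exact conj_mem_cj hxN
        · have := (MulAut.conj g).orderOf_eq x
          rw [MulAut.conj_apply] at this
          rw [← hk]
          exact this
      exact hle hcl

/-- The hypotheses of `isSimple_of_gen` are invariant under conjugation. -/
theorem isSimple_of_gen_conj (S : Sylow p G) (S₀ : Subgroup G) (g : G)
    (hS : (S : Subgroup G) = cj g S₀) (hne : S₀ ≠ ⊥)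
    (hsc : ∀ T : Subgroup G, Cfsg.IsStronglyClosed T S₀ → T = ⊥ ∨ T = S₀)
    (hgen : Subgroup.normalizer (S₀ : Set G) ≤ Subgroup.closure {h : G | GoodElt p S₀ h}) :
    (groupFusionSystem (S : Subgroup G)).IsSimple p := by
  apply isSimple_of_gen S
  · rw [hS]
    intro h
    apply hne
    have := congrArg (cj g⁻¹) h
    rw [cj_inv_cj] at this
    rw [this]
    exact Subgroup.map_bot _
  · intro T hT
    rw [hS] at hT ⊢
    have hT' : Cfsg.IsStronglyClosed (cj g⁻¹ T) S₀ := by
      refine ⟨?_, ?_⟩
      · have := cj_mono g⁻¹ hT.1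
        rwa [cj_inv_cj] at this
      · intro x hx k hk
        rw [mem_cj, inv_inv] at hx ⊢
        have h1 := hT.2 _ hx (g * k * g⁻¹)
        have e : g * k * g⁻¹ * (g * x * g⁻¹) * (g * k * g⁻¹)⁻¹ = g * (k * x * k⁻¹) * g⁻¹ := by
          group
        rw [e] at h1
        exact h1 (conj_mem_cj hk)
    rcases hsc _ hT' with h | h
    · left
      have := congrArg (cj g) h
      rw [cj_cj_inv] at this
      rw [this]
      exact Subgroup.map_bot _
    · right
      have := congrArg (cj g) h
      rwa [cj_cj_inv] at this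
  · rw [hS, ← cj_normalizer]
    rintro x hx
    rw [mem_cj] at hx
    have h1 := hgen hx
    have hle : Subgroup.closure {h : G | GoodElt p S₀ h} ≤
        (Subgroup.closure {h : G | GoodElt p (cj g S₀) h}).comap (MulAut.conj g).toMonoidHom := by
      rw [Subgroup.closure_le]
      intro h hh
      exact Subgroup.subset_closure (goodElt_cj g hh)
    have h2 := hle h1
    rw [Subgroup.mem_comap] at h2
    have e : (MulAut.conj g).toMonoidHom (g⁻¹ * x * g) = x := by
      show g * (g⁻¹ * x * g) * g⁻¹ = x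
      group
    rwa [e] at h2

end Cfsg.Agent.Lib.H25.LieCrit
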