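import Mathlib
import Cfsg.Agent.Lib.H14.A8Sylow

set_option autoImplicit false

namespace Cfsg.Agent.Lib.H25.A8N

open Cfsg.Agent.Lib.H14.A8Sylow

/-- **A8N**: a Sylow 2-subgroup of the alternating group of degree 8 is self-normalizing. -/
theorem normalizer_sylow_two_alt8 (P : Sylow 2 (alternatingGroup (Fin 8))) :
    Subgroup.normalizer ((P : Subgroup (alternatingGroup (Fin 8))) : Set (alternatingGroup (Fin 8))) ≤
      (P : Subgroup (alternatingGroup (Fin 8))) := by
  intro g hg
  -- the image of `P` in the symmetric group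
  set Q : Subgroup (Equiv.Perm (Fin 8)) :=
    (P : Subgroup (alternatingGroup (Fin 8))).map (alternatingGroup (Fin 8)).subtype with hQdef
  have hinj : Function.Injective (alternatingGroup (Fin 8)).subtype := Subgroup.subtype_injective _
  have hQle : Q ≤ alternatingGroup (Fin 8) := by
    rintro _ ⟨x, _, rfl⟩
    exact x.2
  have hcardP : Nat.card (P : Subgroup (alternatingGroup (Fin 8))) = 64 := by
    have h1 := P.card_eq_multiplicity
    rw [card_alt8] at h1
    rw [h1]
    have h2 : (20160 : ℕ).factorization 2 = 6 := by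
      have h20160 : (20160 : ℕ) = 2 ^ 6 * 315 := by norm_num
      rw [h20160, Nat.factorization_mul (by norm_num) (by norm_num), Nat.factorization_pow]
      have h315 : (315 : ℕ).factorization 2 = 0 :=
        Nat.factorization_eq_zero_of_not_dvd (by norm_num)
      simp [h315, Nat.Prime.factorization_self Nat.prime_two]
    rw [h2]; norm_num
  have hcardQ : Nat.card Q = 64 := by
    rw [hQdef, Subgroup.card_map_of_injective hinj, hcardP]
  have hgn : (g : Equiv.Perm (Fin 8)) ∈ Subgroup.normalizer (Q : Set (Equiv.Perm (Fin 8))) := by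
    rw [Subgroup.mem_normalizer_iff] at hg ⊢
    intro y
    constructor
    · rintro ⟨x, hx, rfl⟩
      exact ⟨g * x * g⁻¹, (hg x).1 hx, by simp⟩
    · rintro ⟨x, hx, hxy⟩
      have hyA : y ∈ alternatingGroup (Fin 8) := by
        have h1 : y = (g : Equiv.Perm (Fin 8))⁻¹ * ((alternatingGroup (Fin 8)).subtype x) * g := by
          rw [hxy]; group
        rw [h1]
        exact (g⁻¹ * x * g).2
      refine ⟨⟨y, hyA⟩, (hg _).2 ?_, rfl⟩
      have : g * ⟨y, hyA⟩ * g⁻¹ = x := by
        apply hinj
        simpa using hxy.symm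
      rw [this]; exact hx
  have hgQ := alt8_self_normalizing Q hQle hcardQ g g.2 hgn
  obtain ⟨x, hx, hxg⟩ := hgQ
  have : x = g := hinj hxg
  rw [← this]; exact hx

end Cfsg.Agent.Lib.H25.A8N
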