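import Mathlib
import Cfsg.Agent.Lib.H12.OPMinDefs
import Cfsg.Agent.Lib.H18.SLMinTRANSV

/-!
# S2345 piece TRANS (helper25): `SL_n` is transitive on the alternating matrices of rank two

`T = a bᵀ - b aᵀ ≠ 0` forces `a ≠ 0`, `b ∉ F a`; `SL_n` (`n ≥ 3`) is transitive on such pairs
(products of transvections `1 + (v' - v) φᵀ`), and `A (a bᵀ - b aᵀ) Aᵀ = (A a)(A b)ᵀ - (A b)(A a)ᵀ`.
-/

set_option autoImplicit false

namespace Cfsg.Agent.Lib.H25.OPMin

open Matrix Module Cfsg.Agent.Lib.H12.OPMin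

variable {F : Type*} [Field F] {n : ℕ}

/-- a separating functional, as a vector: if `v ∉ P` there is `b` with `b ⬝ v = 1` vanishing on `P` -/
theorem exists_dot_eq_one_of_notMem {P : Submodule F (Fin n → F)} {v : Fin n → F} (h : v ∉ P) :
    ∃ b : Fin n → F, b ⬝ᵥ v = 1 ∧ ∀ x ∈ P, b ⬝ᵥ x = 0 := by
  classical
  obtain ⟨f, hf, hf'⟩ := Submodule.exists_dual_map_eq_bot_of_notMem h inferInstance
  have hfP : ∀ x ∈ P, f x = 0 := by
    intro x hx
    have h1 : f x ∈ P.map f := Submodule.mem_map_of_mem hx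
    rw [hf'] at h1
    exact (Submodule.mem_bot F).1 h1
  have hdot : ∀ x : Fin n → F, (fun i => (f v)⁻¹ * f (Pi.single i 1)) ⬝ᵥ x = (f v)⁻¹ * f x := by
    intro x
    rw [LinearMap.pi_apply_eq_sum_univ f x, dotProduct, Finset.mul_sum]
    refine Finset.sum_congr rfl fun i _ => ?_
    have h2 : (fun j : Fin n => if i = j then (1 : F) else 0) = Pi.single i 1 := by
      ext j
      simp [Pi.single_apply, eq_comm]
    rw [h2, smul_eq_mul]
    ring
  refine ⟨fun i => (f v)⁻¹ * f (Pi.single i 1), ?_, ?_⟩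
  · rw [hdot, inv_mul_cancel₀ hf]
  · intro x hx
    rw [hdot, hfP x hx, mul_zero]

/-- the transvection `1 + (v' - v) bᵀ` with `b ⬝ v = 1`, `b` vanishing on `P ∋ v' - v`: it has determinant one,
moves `v` to `v'`, fixes `P` pointwise, and fixes every covector killing `v' - v`. -/
theorem exists_transvection {P : Submodule F (Fin n → F)} {v v' : Fin n → F} (h : v ∉ P)
    (hP : v' - v ∈ P) :
    ∃ g : GL (Fin n) F, (g : Matrix (Fin n) (Fin n) F).det = 1 ∧
      (g : Matrix (Fin n) (Fin n) F) *ᵥ v = v' ∧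
      (∀ x ∈ P, (g : Matrix (Fin n) (Fin n) F) *ᵥ x = x) ∧
      (∀ φ : Fin n → F, φ ⬝ᵥ (v' - v) = 0 → φ ᵥ* (g : Matrix (Fin n) (Fin n) F) = φ) := by
  classical
  obtain ⟨b, hb1, hb0⟩ := exists_dot_eq_one_of_notMem h
  have hdet : (1 + vecMulVec (v' - v) b : Matrix (Fin n) (Fin n) F).det = 1 := by
    rw [vecMulVec_eq Unit, det_one_add_replicateCol_mul_replicateRow, hb0 _ hP, add_zero]
  refine ⟨Matrix.GeneralLinearGroup.mkOfDetNeZero (1 + vecMulVec (v' - v) b)
    (by rw [hdet]; exact one_ne_zero), hdet, ?_, ?_, ?_⟩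
  · show (1 + vecMulVec (v' - v) b : Matrix (Fin n) (Fin n) F) *ᵥ v = v'
    rw [add_mulVec, one_mulVec, vecMulVec_mulVec, hb1]
    ext i
    simp
  · intro x hx
    show (1 + vecMulVec (v' - v) b : Matrix (Fin n) (Fin n) F) *ᵥ x = x
    rw [add_mulVec, one_mulVec, vecMulVec_mulVec, hb0 x hx]
    ext i
    simp
  · intro φ hφ
    show φ ᵥ* (1 + vecMulVec (v' - v) b : Matrix (Fin n) (Fin n) F) = φ
    rw [vecMul_add, vecMul_one, vecMul_vecMulVec, hφ, zero_smul, add_zero]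

/-- if `x ∉ F a` and `y ∉ ⟨a, x⟩` then `x ∉ ⟨a, y - x⟩` -/
theorem notMem_span_pair_sub {a x y : Fin n → F} (hx : x ∉ Submodule.span F {a})
    (hy : y ∉ Submodule.span F {a, x}) : x ∉ Submodule.span F {a, y - x} := by
  intro h
  obtain ⟨s, t, hst⟩ := Submodule.mem_span_pair.1 h
  by_cases ht : t = 0
  · apply hx
    rw [Submodule.mem_span_singleton]
    refine ⟨s, ?_⟩
    rw [← hst, ht, zero_smul, add_zero]
  · apply hy
    rw [Submodule.mem_span_pair]
    refine ⟨-(t⁻¹ * s), 1 + t⁻¹, ?_⟩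
    have h0 : x - s • a = t • (y - x) := sub_eq_iff_eq_add'.2 hst.symm
    have h1 : y - x = t⁻¹ • (x - s • a) := by
      rw [h0, smul_smul, inv_mul_cancel₀ ht, one_smul]
    have h2 : y = x + t⁻¹ • (x - s • a) := by rw [← h1]; abel
    rw [h2, smul_sub, smul_smul, add_smul, one_smul, neg_smul]
    abel

/-- if `x ∉ F a` and `y ∉ ⟨a, x⟩` then `y ∉ ⟨a, x - y⟩` -/
theorem notMem_span_pair_sub' {a x y : Fin n → F} (hx : x ∉ Submodule.span F {a})
    (hy : y ∉ Submodule.span F {a, x}) : y ∉ Submodule.span F {a, x - y} := by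
  intro h
  obtain ⟨s, t, hst⟩ := Submodule.mem_span_pair.1 h
  have h1 : (1 + t) • y = s • a + t • x := by
    rw [add_smul, one_smul]
    nth_rewrite 1 [← hst]
    rw [smul_sub]
    abel
  by_cases ht : 1 + t = 0
  · apply hx
    rw [Submodule.mem_span_singleton]
    have ht' : t = -1 := by
      have : t = (1 + t) - 1 := by ring
      rw [this, ht, zero_sub]
    rw [ht, zero_smul, ht', neg_smul, one_smul] at h1
    refine ⟨s, ?_⟩
    have : s • a - x = 0 := by rw [h1]; abel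
    exact sub_eq_zero.1 this
  · apply hy
    rw [Submodule.mem_span_pair]
    refine ⟨(1 + t)⁻¹ * s, (1 + t)⁻¹ * t, ?_⟩
    have h2 : y = (1 + t)⁻¹ • ((1 + t) • y) := by rw [smul_smul, inv_mul_cancel₀ ht, one_smul]
    rw [h2, h1, smul_add, smul_smul, smul_smul]

/-- `SL_n` (`n ≥ 3`): the stabiliser of `a` is transitive on the vectors outside `F a` -/
theorem exists_det_one_fix (hn : 3 ≤ n) {a b b' : Fin n → F} (hb : b ∉ Submodule.span F {a})
    (hb' : b' ∉ Submodule.span F {a}) :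
    ∃ g : GL (Fin n) F, (g : Matrix (Fin n) (Fin n) F).det = 1 ∧
      (g : Matrix (Fin n) (Fin n) F) *ᵥ a = a ∧ (g : Matrix (Fin n) (Fin n) F) *ᵥ b = b' := by
  classical
  by_cases hcase : b' ∈ Submodule.span F {a, b}
  · -- go through a third vector
    obtain ⟨c, hc⟩ : ∃ c : Fin n → F, c ∉ Submodule.span F {a, b} := by
      by_contra hall
      push Not at hall
      have htop : Submodule.span F {a, b} = ⊤ := Submodule.eq_top_iff'.2 hall
      have h1 : Module.finrank F (Submodule.span F ({a, b} : Set (Fin n → F))) ≤ 2 := by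
        have h2 := finrank_span_finset_le_card (R := F) ({a, b} : Finset (Fin n → F))
        have h3 : (({a, b} : Finset (Fin n → F)) : Set (Fin n → F)) = {a, b} := by simp
        rw [Set.finrank, h3] at h2
        exact h2.trans Finset.card_le_two
      rw [htop, finrank_top, Module.finrank_fin_fun] at h1
      omega
    have hc' : c ∉ Submodule.span F {a, b'} := by
      intro h
      apply hc
      have hle : Submodule.span F {a, b'} ≤ Submodule.span F {a, b} := by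
        rw [Submodule.span_le]
        intro x hx
        rcases hx with rfl | hx
        · exact Submodule.subset_span (Set.mem_insert _ _)
        · rw [Set.mem_singleton_iff] at hx
          rw [hx]; exact hcase
      exact hle h
    have h1 : b ∉ Submodule.span F {a, c - b} := notMem_span_pair_sub hb hc
    have h2 : c ∉ Submodule.span F {a, b' - c} := notMem_span_pair_sub' hb' hc'
    obtain ⟨g1, hg1, hg1b, hg1P, -⟩ := exists_transvection h1
      (Submodule.subset_span (Set.mem_insert_of_mem _ rfl))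
    obtain ⟨g2, hg2, hg2c, hg2P, -⟩ := exists_transvection h2
      (Submodule.subset_span (Set.mem_insert_of_mem _ rfl))
    refine ⟨g2 * g1, ?_, ?_, ?_⟩
    · rw [Matrix.GeneralLinearGroup.coe_mul, det_mul, hg1, hg2, one_mul]
    · rw [Matrix.GeneralLinearGroup.coe_mul, ← mulVec_mulVec,
        hg1P a (Submodule.subset_span (Set.mem_insert _ _)),
        hg2P a (Submodule.subset_span (Set.mem_insert _ _))]
    · rw [Matrix.GeneralLinearGroup.coe_mul, ← mulVec_mulVec, hg1b, hg2c]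
  · have h1 : b ∉ Submodule.span F {a, b' - b} := notMem_span_pair_sub hb hcase
    obtain ⟨g, hg, hgb, hgP, -⟩ := exists_transvection h1
      (Submodule.subset_span (Set.mem_insert_of_mem _ rfl))
    exact ⟨g, hg, hgP a (Submodule.subset_span (Set.mem_insert _ _)), hgb⟩

/-- `SL_n` (`n ≥ 3`) is transitive on the pairs `(a, b)` with `a ≠ 0`, `b ∉ F a` -/
theorem exists_det_one_pair (hn : 3 ≤ n) {a b a' b' : Fin n → F} (ha : a ≠ 0)
    (hb : b ∉ Submodule.span F {a}) (ha' : a' ≠ 0) (hb' : b' ∉ Submodule.span F {a'}) :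
    ∃ g : GL (Fin n) F, (g : Matrix (Fin n) (Fin n) F).det = 1 ∧
      (g : Matrix (Fin n) (Fin n) F) *ᵥ a = a' ∧ (g : Matrix (Fin n) (Fin n) F) *ᵥ b = b' := by
  obtain ⟨g1, hg1, hg1a⟩ := Cfsg.Agent.Lib.H18.SLMin.trans_SL_vec (by omega : 2 ≤ n) ha ha'
  have hb1 : (g1 : Matrix (Fin n) (Fin n) F) *ᵥ b ∉ Submodule.span F {a'} := by
    intro h
    obtain ⟨s, hs⟩ := Submodule.mem_span_singleton.1 h
    apply hb
    rw [Submodule.mem_span_singleton]
    refine ⟨s, ?_⟩
    have h2 : ((g1⁻¹ : GL (Fin n) F) : Matrix (Fin n) (Fin n) F) *ᵥ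
        ((g1 : Matrix (Fin n) (Fin n) F) *ᵥ b) = b := by
      rw [mulVec_mulVec, ← Units.val_mul, inv_mul_cancel, Units.val_one, one_mulVec]
    have h3 : ((g1⁻¹ : GL (Fin n) F) : Matrix (Fin n) (Fin n) F) *ᵥ
        ((g1 : Matrix (Fin n) (Fin n) F) *ᵥ a) = a := by
      rw [mulVec_mulVec, ← Units.val_mul, inv_mul_cancel, Units.val_one, one_mulVec]
    rw [← h2, ← hs, ← hg1a, mulVec_smul, h3]
  obtain ⟨g2, hg2, hg2a, hg2b⟩ := exists_det_one_fix hn hb1 hb'
  refine ⟨g2 * g1, ?_, ?_, ?_⟩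
  · rw [Matrix.GeneralLinearGroup.coe_mul, det_mul, hg1, hg2, one_mul]
  · rw [Matrix.GeneralLinearGroup.coe_mul, ← mulVec_mulVec, hg1a, hg2a]
  · rw [Matrix.GeneralLinearGroup.coe_mul, ← mulVec_mulVec, hg2b]

/-- `T = a bᵀ - b aᵀ ≠ 0` forces `a ≠ 0` and `b ∉ F a` -/
theorem indep_of_ne_zero {a b : Fin n → F} (h : vecMulVec a b - vecMulVec b a ≠ 0) :
    a ≠ 0 ∧ b ∉ Submodule.span F {a} := by
  constructor
  · rintro rfl
    apply h
    simp
  · intro hb
    obtain ⟨s, rfl⟩ := Submodule.mem_span_singleton.1 hb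
    apply h
    rw [vecMulVec_smul, smul_vecMulVec, sub_self]

/-- congruence of `a bᵀ - b aᵀ` -/
theorem cong_vecMulVec (A : Matrix (Fin n) (Fin n) F) (a b : Fin n → F) :
    A * (vecMulVec a b - vecMulVec b a) * Aᵀ =
      vecMulVec (A *ᵥ a) (A *ᵥ b) - vecMulVec (A *ᵥ b) (A *ᵥ a) := by
  rw [Matrix.mul_sub, Matrix.sub_mul, mul_vecMulVec, mul_vecMulVec, vecMulVec_mul, vecMulVec_mul,
    vecMul_transpose, vecMul_transpose]

theorem trans_R2 {n : ℕ} (hn : 3 ≤ n) (T T' : Matrix (Fin n) (Fin n) F) (hT : IsR2 T) (hT' : IsR2 T') :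
    ∃ A : GL (Fin n) F, (A : Matrix (Fin n) (Fin n) F).det = 1 ∧ T' = A.1 * T * A.1ᵀ := by
  obtain ⟨hT0, a, b, rfl⟩ := hT
  obtain ⟨hT0', a', b', rfl⟩ := hT'
  obtain ⟨ha, hb⟩ := indep_of_ne_zero hT0
  obtain ⟨ha', hb'⟩ := indep_of_ne_zero hT0'
  obtain ⟨g, hg, hga, hgb⟩ := exists_det_one_pair hn ha hb ha' hb'
  refine ⟨g, hg, ?_⟩
  rw [cong_vecMulVec, hga, hgb]

end Cfsg.Agent.Lib.H25.OPMin
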