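import Mathlib
import Cfsg.Agent.Lib.H12.OPMinDefs
import Cfsg.Agent.Lib.H18.SLMinTRANSV
import Cfsg.Agent.Lib.H25.OPMinTRANS

/-!
# S2345 piece ORB4 (helper25): a congruence-invariant set of alternating matrices containing a non-zero
matrix which is not of rank two has at least `2 (q^(n-1) - 1) q^(n-2)` elements.

Everything is done at the level of vectors: `e₀ = Pi.single 0 1`, `col M = M *ᵥ e₀`.
* `(1 + α e₀ᵀ) M (1 + α e₀ᵀ)ᵀ = M + c αᵀ - α cᵀ` (`c = col M`), determinant one when `α 0 = 0`;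
* `g` with `e₀ ᵥ* g = e₀`: `col (g M gᵀ) = g (col M)`.
-/

set_option autoImplicit false

namespace Cfsg.Agent.Lib.H25.OPMin

open Matrix Module Cfsg.Agent.Lib.H12.OPMin

variable {F : Type*} [Field F] {n : ℕ}

/-! ### general facts -/

theorem mem_sqGL_of_det_one (A : GL (Fin n) F) (h : (A : Matrix (Fin n) (Fin n) F).det = 1) :
    A ∈ sqGL n F := by
  rw [mem_sqGL]
  refine ⟨1, ?_⟩
  apply Units.ext
  rw [Matrix.GeneralLinearGroup.val_det_apply, h]
  simp

/-- `IsR2` is invariant under congruence -/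
theorem isR2_cong (A : GL (Fin n) F) {M : Matrix (Fin n) (Fin n) F} (hM : IsR2 M) :
    IsR2 (A.1 * M * A.1ᵀ) := by
  obtain ⟨h0, a, b, rfl⟩ := hM
  refine ⟨?_, A.1 *ᵥ a, A.1 *ᵥ b, cong_vecMulVec A.1 a b⟩
  intro h
  apply h0
  have h1 : (A⁻¹ : GL (Fin n) F).1 * (A.1 * (vecMulVec a b - vecMulVec b a) * A.1ᵀ) *
      (A⁻¹ : GL (Fin n) F).1ᵀ = vecMulVec a b - vecMulVec b a := by
    rw [← Matrix.mul_assoc, ← Matrix.mul_assoc, ← Units.val_mul, inv_mul_cancel, Units.val_one,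
      Matrix.one_mul, Matrix.mul_assoc, ← transpose_mul, ← Units.val_mul, inv_mul_cancel,
      Units.val_one, transpose_one, Matrix.mul_one]
  rw [← h1, h, Matrix.mul_zero, Matrix.zero_mul]

theorem isR2_of_cong (A : GL (Fin n) F) {M : Matrix (Fin n) (Fin n) F}
    (hM : IsR2 (A.1 * M * A.1ᵀ)) : IsR2 M := by
  have h := isR2_cong A⁻¹ hM
  have h1 : (A⁻¹ : GL (Fin n) F).1 * (A.1 * M * A.1ᵀ) * (A⁻¹ : GL (Fin n) F).1ᵀ = M := by
    rw [← Matrix.mul_assoc, ← Matrix.mul_assoc, ← Units.val_mul, inv_mul_cancel, Units.val_one,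
      Matrix.one_mul, Matrix.mul_assoc, ← transpose_mul, ← Units.val_mul, inv_mul_cancel,
      Units.val_one, transpose_one, Matrix.mul_one]
  rwa [h1] at h

/-- congruence by an invertible matrix is injective -/
theorem cong_injective (A : GL (Fin n) F) {M M' : Matrix (Fin n) (Fin n) F}
    (h : A.1 * M * A.1ᵀ = A.1 * M' * A.1ᵀ) : M = M' := by
  have h1 : ∀ X : Matrix (Fin n) (Fin n) F,
      (A⁻¹ : GL (Fin n) F).1 * (A.1 * X * A.1ᵀ) * (A⁻¹ : GL (Fin n) F).1ᵀ = X := by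
    intro X
    rw [← Matrix.mul_assoc, ← Matrix.mul_assoc, ← Units.val_mul, inv_mul_cancel, Units.val_one,
      Matrix.one_mul, Matrix.mul_assoc, ← transpose_mul, ← Units.val_mul, inv_mul_cancel,
      Units.val_one, transpose_one, Matrix.mul_one]
  rw [← h1 M, h, h1 M']

section vec

variable (i₀ : Fin n)

/-- `(1 + α e₀ᵀ) M (1 + α e₀ᵀ)ᵀ = M + c αᵀ - α cᵀ`, `c = M e₀` -/
theorem cong_lower {M : Matrix (Fin n) (Fin n) F} (hM : Mᵀ = -M) (h00 : M i₀ i₀ = 0)
    (α : Fin n → F) :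
    (1 + vecMulVec α (Pi.single i₀ 1)) * M * (1 + vecMulVec α (Pi.single i₀ 1))ᵀ =
      M + vecMulVec (M *ᵥ Pi.single i₀ 1) α - vecMulVec α (M *ᵥ Pi.single i₀ 1) := by
  have hrow : (Pi.single i₀ (1 : F)) ᵥ* M = -(M *ᵥ Pi.single i₀ 1) := by
    rw [← mulVec_transpose, hM, neg_mulVec]
  have h0 : (M *ᵥ Pi.single i₀ (1 : F)) ⬝ᵥ Pi.single i₀ 1 = 0 := by
    rw [dotProduct_single, mul_one, mulVec_single_one]
    exact h00
  have e1 : M * vecMulVec (Pi.single i₀ 1) α = vecMulVec (M *ᵥ Pi.single i₀ 1) α :=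
    mul_vecMulVec _ _ _
  have e2 : vecMulVec α (Pi.single i₀ 1) * M = -vecMulVec α (M *ᵥ Pi.single i₀ 1) := by
    rw [vecMulVec_mul, hrow, vecMulVec_neg]
  have e3 : vecMulVec α (Pi.single i₀ 1) * M * vecMulVec (Pi.single i₀ 1) α = 0 := by
    rw [e2, Matrix.neg_mul, vecMulVec_mul_vecMulVec, h0, zero_smul, vecMulVec_zero, neg_zero]
  rw [transpose_add, transpose_one, transpose_vecMulVec, Matrix.add_mul, Matrix.one_mul,
    Matrix.mul_add, Matrix.mul_one, Matrix.add_mul, e1, e3, e2]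
  abel

theorem det_lower (α : Fin n → F) (hα : α i₀ = 0) :
    (1 + vecMulVec α (Pi.single i₀ (1 : F)) : Matrix (Fin n) (Fin n) F).det = 1 := by
  rw [vecMulVec_eq Unit, det_one_add_replicateCol_mul_replicateRow, single_dotProduct, one_mul, hα,
    add_zero]

/-- `col (g M gᵀ) = g (col M)` when the row `i₀` of `g` is `e_{i₀}` -/
theorem col_cong (g M : Matrix (Fin n) (Fin n) F)
    (hg : (Pi.single i₀ (1 : F)) ᵥ* g = Pi.single i₀ 1) :
    (g * M * gᵀ) *ᵥ Pi.single i₀ 1 = g *ᵥ (M *ᵥ Pi.single i₀ 1) := by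
  rw [← mulVec_mulVec, ← mulVec_mulVec, mulVec_transpose, hg]

end vec

/-- a scalar `a ≠ 0` with `a ^ 2 ≠ 1` in a field with at least four elements -/
theorem exists_sq_ne_one_aux [Fintype F] (h4 : 4 ≤ Fintype.card F) : ∃ a : F, a ≠ 0 ∧ a ^ 2 ≠ 1 := by
  classical
  obtain ⟨a, ha⟩ : ∃ a : F, a ∉ ({0, 1, -1} : Finset F) := by
    by_contra hcon
    push Not at hcon
    have : Fintype.card F ≤ ({0, 1, -1} : Finset F).card := by
      rw [← Finset.card_univ]
      exact Finset.card_le_card (fun x _ => hcon x)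
    have h2 : ({0, 1, -1} : Finset F).card ≤ 3 := Finset.card_le_three
    omega
  simp only [Finset.mem_insert, Finset.mem_singleton, not_or] at ha
  refine ⟨a, ha.1, fun h => ?_⟩
  have : (a - 1) * (a + 1) = 0 := by linear_combination h
  rcases mul_eq_zero.1 this with h | h
  · exact ha.2.1 (sub_eq_zero.1 h)
  · exact ha.2.2 (eq_neg_of_add_eq_zero_left h)

/-- the elements of `SL_n` (`n ≥ 3`) whose row `i₀` is `e_{i₀}` are transitive on the non-zero vectors of
the hyperplane `x i₀ = 0` -/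
theorem exists_det_one_row (hn : 3 ≤ n) (i₀ : Fin n) {c c' : Fin n → F} (hc : c ≠ 0)
    (hc0 : c i₀ = 0) (hc' : c' ≠ 0) (hc'0 : c' i₀ = 0) :
    ∃ g : GL (Fin n) F, (g : Matrix (Fin n) (Fin n) F).det = 1 ∧
      (g : Matrix (Fin n) (Fin n) F) *ᵥ c = c' ∧
      (Pi.single i₀ (1 : F)) ᵥ* (g : Matrix (Fin n) (Fin n) F) = Pi.single i₀ 1 := by
  classical
  have hφ : ∀ x y : Fin n → F, x i₀ = 0 → y i₀ = 0 → (Pi.single i₀ (1 : F)) ⬝ᵥ (y - x) = 0 := by
    intro x y hx hy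
    rw [single_dotProduct, one_mul, Pi.sub_apply, hx, hy, sub_zero]
  by_cases h : c ∈ Submodule.span F {c' - c}
  · have hc'c : c' ∈ Submodule.span F {c} := Cfsg.Agent.Lib.H18.SLMin.mem_span_of_mem_span_sub hc h
    -- a third vector in the hyperplane, off the line of `c`
    obtain ⟨u, hu0, hu⟩ : ∃ u : Fin n → F, u i₀ = 0 ∧ u ∉ Submodule.span F {c} := by
      obtain ⟨j₁, hj₁⟩ : ∃ j₁ : Fin n, j₁ ≠ i₀ := by
        by_contra hall
        push Not at hall
        have h1 : Fintype.card (Fin n) ≤ 1 := Fintype.card_le_one_iff.2 (fun a b => by rw [hall a, hall b])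
        rw [Fintype.card_fin] at h1
        omega
      obtain ⟨j₂, hj₂⟩ : ∃ j₂ : Fin n, j₂ ∉ ({i₀, j₁} : Finset (Fin n)) := by
        by_contra hall
        push Not at hall
        have h1 : Fintype.card (Fin n) ≤ ({i₀, j₁} : Finset (Fin n)).card := by
          rw [← Finset.card_univ]
          exact Finset.card_le_card (fun x _ => hall x)
        have h2 : ({i₀, j₁} : Finset (Fin n)).card ≤ 2 := Finset.card_le_two
        rw [Fintype.card_fin] at h1
        omega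
      simp only [Finset.mem_insert, Finset.mem_singleton, not_or] at hj₂
      by_cases h1 : (Pi.single j₁ (1 : F) : Fin n → F) ∈ Submodule.span F {c}
      · refine ⟨Pi.single j₂ 1, by rw [Pi.single_apply, if_neg (Ne.symm hj₂.1)], ?_⟩
        intro h2
        obtain ⟨s₁, hs₁⟩ := Submodule.mem_span_singleton.1 h1
        obtain ⟨s₂, hs₂⟩ := Submodule.mem_span_singleton.1 h2
        have e1 : s₁ * c j₂ = 0 := by
          have := congrFun hs₁ j₂
          rw [Pi.smul_apply, smul_eq_mul, Pi.single_apply, if_neg hj₂.2] at this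
          exact this
        have e2 : s₁ * c j₁ = 1 := by
          have := congrFun hs₁ j₁
          rw [Pi.smul_apply, smul_eq_mul, Pi.single_apply, if_pos rfl] at this
          exact this
        have e3 : s₂ * c j₂ = 1 := by
          have := congrFun hs₂ j₂
          rw [Pi.smul_apply, smul_eq_mul, Pi.single_apply, if_pos rfl] at this
          exact this
        have hs₁0 : s₁ ≠ 0 := by
          rintro rfl
          rw [zero_mul] at e2
          exact zero_ne_one e2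
        have hcj : c j₂ = 0 := by
          rcases mul_eq_zero.1 e1 with h3 | h3
          · exact absurd h3 hs₁0
          · exact h3
        rw [hcj, mul_zero] at e3
        exact zero_ne_one e3
      · exact ⟨Pi.single j₁ 1, by rw [Pi.single_apply, if_neg (Ne.symm hj₁)], h1⟩
    have hune : u ≠ 0 := by
      rintro rfl
      exact hu (Submodule.zero_mem _)
    have h1 : c ∉ Submodule.span F {u - c} :=
      fun h2 => hu (Cfsg.Agent.Lib.H18.SLMin.mem_span_of_mem_span_sub hc h2)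
    have h2 : u ∉ Submodule.span F {c' - u} := by
      intro h3
      have h4 := Cfsg.Agent.Lib.H18.SLMin.mem_span_of_mem_span_sub hune h3
      obtain ⟨d, hd⟩ := Submodule.mem_span_singleton.1 h4
      have hd0 : d ≠ 0 := by
        rintro rfl
        rw [zero_smul] at hd
        exact hc' hd.symm
      apply hu
      have h5 : u = d⁻¹ • c' := by rw [← hd, smul_smul, inv_mul_cancel₀ hd0, one_smul]
      rw [h5]
      exact Submodule.smul_mem _ _ hc'c
    obtain ⟨g1, hg1, hg1v, -, hg1φ⟩ := exists_transvection h1 (Submodule.mem_span_singleton_self _)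
    obtain ⟨g2, hg2, hg2v, -, hg2φ⟩ := exists_transvection h2 (Submodule.mem_span_singleton_self _)
    refine ⟨g2 * g1, ?_, ?_, ?_⟩
    · rw [Matrix.GeneralLinearGroup.coe_mul, det_mul, hg1, hg2, one_mul]
    · rw [Matrix.GeneralLinearGroup.coe_mul, ← mulVec_mulVec, hg1v, hg2v]
    · rw [Matrix.GeneralLinearGroup.coe_mul, ← vecMul_vecMul, hg2φ _ (hφ u c' hu0 hc'0),
        hg1φ _ (hφ c u hc0 hu0)]
  · obtain ⟨g, hg, hgv, -, hgφ⟩ := exists_transvection h (Submodule.mem_span_singleton_self _)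
    exact ⟨g, hg, hgv, hgφ _ (hφ c c' hc0 hc'0)⟩

/-- the normal form `e₁ e₀ᵀ - e₀ e₁ᵀ` is of rank two -/
theorem isR2_std {k : ℕ} :
    IsR2 (vecMulVec (Pi.single (1 : Fin (k + 2)) (1 : F)) (Pi.single 0 1) -
      vecMulVec (Pi.single (0 : Fin (k + 2)) (1 : F)) (Pi.single 1 1)) := by
  refine ⟨?_, _, _, rfl⟩
  intro h
  have h1 := congrFun (congrFun h 1) 0
  simp [vecMulVec_apply] at h1

theorem card_ge_of_not_R2 [Fintype F] (hq : 4 ≤ Fintype.card F) {n : ℕ} (hn : 4 ≤ n)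
    (Occ : Finset (Alt n F))
    (hinv : ∀ A : GL (Fin n) F, A ∈ sqGL n F → ∀ T ∈ Occ, congE A T ∈ Occ)
    (T : Alt n F) (hT : T ∈ Occ) (hT0 : T ≠ 0) (hR2 : ¬ IsR2 T.1) :
    2 * (Fintype.card F ^ (n - 1) - 1) * Fintype.card F ^ (n - 2) ≤ Occ.card := by
  classical
  obtain ⟨k, rfl⟩ : ∃ k, n = k + 2 := ⟨n - 2, by omega⟩
  have hk : 2 ≤ k := by omega
  set e₀ : Fin (k + 2) → F := Pi.single 0 1 with he₀
  set e₁ : Fin (k + 2) → F := Pi.single 1 1 with he₁
  have h01 : (0 : Fin (k + 2)) ≠ 1 := by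
    intro h
    have := congrArg Fin.val h
    simp at this
  have he₁0 : e₁ 0 = 0 := by rw [he₁, Pi.single_apply, if_neg h01]
  have he₁1 : e₁ 1 = 1 := by rw [he₁, Pi.single_apply, if_pos rfl]
  have he₀0 : e₀ 0 = 1 := by rw [he₀, Pi.single_apply, if_pos rfl]
  have he₀1 : e₀ 1 = 0 := by rw [he₀, Pi.single_apply, if_neg h01.symm]
  have he₁ne : e₁ ≠ 0 := by
    intro h
    have := congrFun h 1
    rw [he₁1] at this
    exact one_ne_zero this
  -- the working set
  set 𝒮 : Set (Matrix (Fin (k + 2)) (Fin (k + 2)) F) :=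
    {M | (∃ T' ∈ Occ, (T' : Alt (k + 2) F).1 = M) ∧ ¬ IsR2 M} with h𝒮
  have hS_tr : ∀ M ∈ 𝒮, Mᵀ = -M := by
    rintro M ⟨⟨T', -, rfl⟩, -⟩
    exact transpose_of_mem T'.2
  have hS_diag : ∀ M ∈ 𝒮, ∀ i, M i i = 0 := by
    rintro M ⟨⟨T', -, rfl⟩, -⟩ i
    exact diag_of_mem T'.2 i
  have hS_inv : ∀ A : GL (Fin (k + 2)) F, A ∈ sqGL (k + 2) F → ∀ M ∈ 𝒮, A.1 * M * A.1ᵀ ∈ 𝒮 := by
    rintro A hA M ⟨⟨T', hT', rfl⟩, hM⟩
    exact ⟨⟨congE A T', hinv A hA T' hT', rfl⟩, fun h => hM (isR2_of_cong A h)⟩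
  have hT𝒮 : T.1 ∈ 𝒮 := ⟨⟨T, hT, rfl⟩, hR2⟩
  have hT0' : T.1 ≠ 0 := fun h => hT0 (Subtype.ext h)
  have hcolapp : ∀ (M : Matrix (Fin (k + 2)) (Fin (k + 2)) F) (a : Fin (k + 2)),
      (M *ᵥ e₀) a = M a 0 := by
    intro M a
    rw [he₀, mulVec_single_one]
    rfl
  -- step 1: a member with non-zero column `0`
  obtain ⟨M₁, hM₁, hM₁c⟩ : ∃ M ∈ 𝒮, M *ᵥ e₀ ≠ 0 := by
    obtain ⟨i, j, hij⟩ : ∃ i j, T.1 i j ≠ 0 := by
      by_contra hall
      push Not at hall
      apply hT0'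
      ext i j
      exact hall i j
    have hx : (Pi.single j (1 : F) : Fin (k + 2) → F) ≠ 0 := by
      intro h
      have := congrFun h j
      rw [Pi.single_apply, if_pos rfl] at this
      exact one_ne_zero this
    have he₀ne : e₀ ≠ 0 := by
      intro h
      have := congrFun h 0
      rw [he₀0] at this
      exact one_ne_zero this
    obtain ⟨h, hdet, hh⟩ := Cfsg.Agent.Lib.H18.SLMin.trans_SL_vec (by omega : 2 ≤ k + 2) he₀ne hx
    have hg : trGL h ∈ sqGL (k + 2) F :=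
      mem_sqGL_of_det_one _ (by rw [trGL_val, det_transpose, hdet])
    refine ⟨(trGL h).1 * T.1 * (trGL h).1ᵀ, hS_inv _ hg _ hT𝒮, ?_⟩
    rw [← mulVec_mulVec, ← mulVec_mulVec, trGL_val, transpose_transpose, hh]
    intro h0
    have h1 : ((trGL h)⁻¹ : GL (Fin (k + 2)) F).1 *ᵥ ((trGL h).1 *ᵥ (T.1 *ᵥ Pi.single j 1)) =
        T.1 *ᵥ Pi.single j 1 := by
      rw [mulVec_mulVec, ← Units.val_mul, inv_mul_cancel, Units.val_one, one_mulVec]
    rw [trGL_val] at h1
    rw [h0, mulVec_zero] at h1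
    have h2 := congrFun h1 i
    rw [mulVec_single_one] at h2
    exact hij h2.symm
  -- step 2: a member with column `0` equal to `e₁`
  obtain ⟨M₂, hM₂, hM₂c⟩ : ∃ M ∈ 𝒮, M *ᵥ e₀ = e₁ := by
    have hc0 : (M₁ *ᵥ e₀) 0 = 0 := by rw [hcolapp]; exact hS_diag _ hM₁ 0
    obtain ⟨g, hdet, hgc, hgrow⟩ :=
      exists_det_one_row (by omega : 3 ≤ k + 2) (0 : Fin (k + 2)) hM₁c hc0 he₁ne he₁0
    refine ⟨g.1 * M₁ * g.1ᵀ, hS_inv g (mem_sqGL_of_det_one g hdet) _ hM₁, ?_⟩
    rw [he₀, col_cong 0 g.1 M₁ hgrow]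
    exact hgc
  -- the lower operation inside `𝒮`
  have hlow : ∀ M ∈ 𝒮, M *ᵥ e₀ = e₁ → ∀ α : Fin (k + 2) → F, α 0 = 0 →
      M + vecMulVec e₁ α - vecMulVec α e₁ ∈ 𝒮 := by
    intro M hM hMc α hα
    have hdet := det_lower (F := F) (0 : Fin (k + 2)) α hα
    have h1 := cong_lower (0 : Fin (k + 2)) (hS_tr M hM) (hS_diag M hM 0) α
    rw [← he₀, hMc] at h1
    rw [← h1]
    exact hS_inv (Matrix.GeneralLinearGroup.mkOfDetNeZero _ (by rw [hdet]; exact one_ne_zero))
      (mem_sqGL_of_det_one _ hdet) M hM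
  have hlow_col : ∀ (M : Matrix (Fin (k + 2)) (Fin (k + 2)) F), M *ᵥ e₀ = e₁ →
      ∀ α : Fin (k + 2) → F, α 0 = 0 → (M + vecMulVec e₁ α - vecMulVec α e₁) *ᵥ e₀ = e₁ := by
    intro M hMc α hα
    rw [sub_mulVec, add_mulVec, hMc, vecMulVec_mulVec, vecMulVec_mulVec]
    have h1 : α ⬝ᵥ e₀ = 0 := by rw [he₀, dotProduct_single, mul_one]; exact hα
    have h2 : e₁ ⬝ᵥ e₀ = 0 := by rw [he₀, dotProduct_single, mul_one]; exact he₁0
    rw [h1, h2]
    simp
  have hlow_row : ∀ (M : Matrix (Fin (k + 2)) (Fin (k + 2)) F) (α : Fin (k + 2) → F), α 1 = 0 →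
      ∀ j, (M + vecMulVec e₁ α - vecMulVec α e₁) 1 j = M 1 j + α j := by
    intro M α hα j
    rw [Matrix.sub_apply, Matrix.add_apply, vecMulVec_apply, vecMulVec_apply, he₁1, hα]
    ring
  -- step 3: clear the row `1`
  obtain ⟨M₃, hM₃, hM₃c, hM₃r⟩ : ∃ M ∈ 𝒮, M *ᵥ e₀ = e₁ ∧ ∀ j, M 1 j = e₀ j := by
    set α : Fin (k + 2) → F := fun j => if j = 0 ∨ j = 1 then 0 else -M₂ 1 j with hα
    have hα0 : α 0 = 0 := by rw [hα]; simp
    have hα1 : α 1 = 0 := by rw [hα]; simp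
    refine ⟨_, hlow M₂ hM₂ hM₂c α hα0, hlow_col M₂ hM₂c α hα0, ?_⟩
    intro j
    rw [hlow_row M₂ α hα1 j]
    by_cases hj0 : j = 0
    · subst hj0
      rw [hα0, add_zero, he₀0, ← hcolapp M₂ 1, hM₂c, he₁1]
    · by_cases hj1 : j = 1
      · subst hj1
        rw [hα1, add_zero, he₀1]
        exact hS_diag M₂ hM₂ 1
      · have : α j = -M₂ 1 j := by rw [hα]; simp [hj0, hj1]
        rw [this, add_neg_cancel, he₀, Pi.single_apply, if_neg hj0]
  -- entries of a member in normal position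
  have hnorm_col : ∀ M ∈ 𝒮, M *ᵥ e₀ = e₁ → ∀ a, M a 0 = e₁ a := by
    intro M _ hMc a
    rw [← hcolapp M a, hMc]
  have hswap : ∀ M ∈ 𝒮, ∀ a b, M a b = -M b a := by
    intro M hM a b
    have := congrFun (congrFun (hS_tr M hM) b) a
    rw [transpose_apply, Matrix.neg_apply] at this
    exact this
  -- step 5: an entry outside the rows and columns `0, 1`
  obtain ⟨i, j, hi0, hi1, hj0, hj1, hij⟩ : ∃ i j : Fin (k + 2), i ≠ 0 ∧ i ≠ 1 ∧ j ≠ 0 ∧ j ≠ 1 ∧
      M₃ i j ≠ 0 := by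
    by_contra hall
    push Not at hall
    apply hM₃.2
    have hEq : M₃ = vecMulVec e₁ e₀ - vecMulVec e₀ e₁ := by
      ext a b
      rw [Matrix.sub_apply, vecMulVec_apply, vecMulVec_apply]
      by_cases ha1 : a = 1
      · subst ha1
        rw [hM₃r, he₁1, he₀1]
        ring
      · have hea : e₁ a = 0 := by rw [he₁, Pi.single_apply, if_neg ha1]
        by_cases ha0 : a = 0
        · subst ha0
          rw [hswap M₃ hM₃, hnorm_col M₃ hM₃ hM₃c, he₀0, he₁0]
          ring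
        · have hea0 : e₀ a = 0 := by rw [he₀, Pi.single_apply, if_neg ha0]
          rw [hea, hea0, zero_mul, zero_mul, sub_zero]
          by_cases hb0 : b = 0
          · subst hb0
            rw [hnorm_col M₃ hM₃ hM₃c, hea]
          · by_cases hb1 : b = 1
            · subst hb1
              rw [hswap M₃ hM₃, hM₃r, hea0, neg_zero]
            · exact hall a b ha0 ha1 hb0 hb1
    rw [hEq]
    exact isR2_std
  have hji : j ≠ i := by
    rintro rfl
    exact hij (hS_diag M₃ hM₃ j)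
  -- the second member of the fibre
  obtain ⟨t, ht0, ht1⟩ := exists_sq_ne_one_aux hq
  set d : Fin (k + 2) → F := Function.update (fun _ => (1 : F)) i (t ^ 2) with hd
  have hdi : d i = t ^ 2 := by rw [hd, Function.update_self]
  have hdne : ∀ a, a ≠ i → d a = 1 := by
    intro a ha
    rw [hd, Function.update_of_ne ha]
  have hdet : (diagonal d).det = t ^ 2 := by
    rw [det_diagonal, hd, Finset.prod_update_of_mem (Finset.mem_univ i)]
    simp
  have hdet0 : (diagonal d).det ≠ 0 := by rw [hdet]; exact pow_ne_zero 2 ht0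
  set D : GL (Fin (k + 2)) F := Matrix.GeneralLinearGroup.mkOfDetNeZero (diagonal d) hdet0 with hD
  have hDval : D.1 = diagonal d := rfl
  have hDsq : D ∈ sqGL (k + 2) F := by
    rw [mem_sqGL]
    refine ⟨Units.mk0 t ht0, ?_⟩
    apply Units.ext
    rw [Matrix.GeneralLinearGroup.val_det_apply, hDval, hdet]
    simp
  set M₄ : Matrix (Fin (k + 2)) (Fin (k + 2)) F := D.1 * M₃ * D.1ᵀ with hM₄def
  have hM₄ : M₄ ∈ 𝒮 := hS_inv D hDsq M₃ hM₃
  have hM₄app : ∀ a b, M₄ a b = d a * M₃ a b * d b := by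
    intro a b
    rw [hM₄def, hDval, diagonal_transpose, mul_diagonal, diagonal_mul]
  have hM₄c : M₄ *ᵥ e₀ = e₁ := by
    ext a
    rw [hcolapp, hM₄app, hdne 0 (Ne.symm hi0), mul_one, hnorm_col M₃ hM₃ hM₃c]
    by_cases ha1 : a = 1
    · subst ha1
      rw [hdne 1 (Ne.symm hi1), one_mul]
    · have hea : e₁ a = 0 := by rw [he₁, Pi.single_apply, if_neg ha1]
      rw [hea, mul_zero]
  have hM₄r : ∀ b, M₄ 1 b = e₀ b := by
    intro b
    rw [hM₄app, hdne 1 (Ne.symm hi1), one_mul, hM₃r]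
    by_cases hb0 : b = 0
    · subst hb0
      rw [hdne 0 (Ne.symm hi0), mul_one]
    · have heb : e₀ b = 0 := by rw [he₀, Pi.single_apply, if_neg hb0]
      rw [heb, zero_mul]
  have hne34 : M₃ ≠ M₄ := by
    intro h
    have h1 := congrFun (congrFun h i) j
    rw [hM₄app, hdi, hdne j hji, mul_one] at h1
    have h2 : (t ^ 2 - 1) * M₃ i j = 0 := by linear_combination -h1
    rcases mul_eq_zero.1 h2 with h3 | h3
    · exact ht1 (sub_eq_zero.1 h3)
    · exact hij h3
  -- step 6: the injection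
  set Mε : Bool → Matrix (Fin (k + 2)) (Fin (k + 2)) F := fun ε => if ε then M₄ else M₃ with hMε
  have hMεS : ∀ ε, Mε ε ∈ 𝒮 := by
    intro ε
    cases ε
    · exact hM₃
    · exact hM₄
  have hMεc : ∀ ε, Mε ε *ᵥ e₀ = e₁ := by
    intro ε
    cases ε
    · exact hM₃c
    · exact hM₄c
  have hMεr : ∀ ε b, Mε ε 1 b = e₀ b := by
    intro ε
    cases ε
    · exact hM₃r
    · exact hM₄r
  have hMεinj : Function.Injective Mε := by
    intro ε ε' h
    cases ε <;> cases ε'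
    · rfl
    · exact absurd h hne34
    · exact absurd h.symm hne34
    · rfl
  have Hg : ∀ c : {c : Fin (k + 1) → F // c ≠ 0}, ∃ g : GL (Fin (k + 2)) F,
      (g : Matrix (Fin (k + 2)) (Fin (k + 2)) F).det = 1 ∧
      (g : Matrix (Fin (k + 2)) (Fin (k + 2)) F) *ᵥ e₁ = (Fin.cons 0 c.1 : Fin (k + 2) → F) ∧
      e₀ ᵥ* (g : Matrix (Fin (k + 2)) (Fin (k + 2)) F) = e₀ := by
    intro c
    have hc : (Fin.cons 0 c.1 : Fin (k + 2) → F) ≠ 0 := by
      intro h
      apply c.2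
      ext a
      have := congrFun h a.succ
      rw [Fin.cons_succ] at this
      exact this
    exact exists_det_one_row (by omega : 3 ≤ k + 2) (0 : Fin (k + 2)) he₁ne he₁0 hc (Fin.cons_zero _ _)
  choose g hgdet hgc hgrow using Hg
  set ext2 : (Fin k → F) → (Fin (k + 2) → F) := fun a => Fin.cons 0 (Fin.cons 0 a) with hext2
  have hext0 : ∀ a, ext2 a 0 = 0 := fun a => Fin.cons_zero _ _
  have hext1 : ∀ a, ext2 a 1 = 0 := by
    intro a
    show (Fin.cons 0 (Fin.cons 0 a) : Fin (k + 2) → F) (Fin.succ 0) = 0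
    rw [Fin.cons_succ, Fin.cons_zero]
  have hext_inj : Function.Injective ext2 := by
    intro a a' h
    ext b
    have := congrFun h b.succ.succ
    rw [hext2] at this
    simpa [Fin.cons_succ] using this
  set X : (Fin k → F) × Bool → Matrix (Fin (k + 2)) (Fin (k + 2)) F :=
    fun y => Mε y.2 + vecMulVec e₁ (ext2 y.1) - vecMulVec (ext2 y.1) e₁ with hX
  set Φ : {c : Fin (k + 1) → F // c ≠ 0} × (Fin k → F) × Bool →
      Matrix (Fin (k + 2)) (Fin (k + 2)) F :=
    fun x => (g x.1).1 * X x.2 * (g x.1).1ᵀ with hΦ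
  have hXS : ∀ y, X y ∈ 𝒮 := fun y => hlow _ (hMεS y.2) (hMεc y.2) _ (hext0 y.1)
  have hXc : ∀ y, X y *ᵥ e₀ = e₁ := fun y => hlow_col _ (hMεc y.2) _ (hext0 y.1)
  have hΦS : ∀ x, Φ x ∈ 𝒮 := fun x =>
    hS_inv (g x.1) (mem_sqGL_of_det_one _ (hgdet x.1)) _ (hXS x.2)
  have hΦc : ∀ x, Φ x *ᵥ e₀ = Fin.cons 0 x.1.1 := by
    intro x
    rw [hΦ]
    show ((g x.1).1 * X x.2 * (g x.1).1ᵀ) *ᵥ e₀ = _
    rw [he₀, col_cong 0 _ _ (hgrow x.1), ← he₀, hXc, hgc]
  have hXinj : Function.Injective X := by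
    intro y y' h
    have hα : ext2 y.1 = ext2 y'.1 := by
      ext b
      have h1 := congrFun (congrFun h 1) b
      rw [hX] at h1
      simp only at h1
      rw [hlow_row _ _ (hext1 y.1), hlow_row _ _ (hext1 y'.1), hMεr, hMεr] at h1
      exact add_left_cancel h1
    have hε : Mε y.2 = Mε y'.2 := by
      rw [hX] at h
      simp only at h
      rw [hα] at h
      have h2 := sub_left_injective h
      exact add_left_injective _ h2
    exact Prod.ext (hext_inj hα) (hMεinj hε)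
  have hΦinj : Function.Injective Φ := by
    intro x x' h
    have hc : x.1 = x'.1 := by
      have h1 : (Fin.cons 0 x.1.1 : Fin (k + 2) → F) = Fin.cons 0 x'.1.1 := by
        rw [← hΦc x, ← hΦc x', h]
      apply Subtype.ext
      ext a
      have := congrFun h1 a.succ
      rw [Fin.cons_succ, Fin.cons_succ] at this
      exact this
    have h2 : X x.2 = X x'.2 := by
      rw [hΦ] at h
      simp only at h
      rw [← hc] at h
      exact cong_injective (g x.1) h
    exact Prod.ext hc (hXinj h2)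
  -- counting
  have hmem : ∀ x, ∃ T' : ↥Occ, (T'.1 : Alt (k + 2) F).1 = Φ x := by
    intro x
    obtain ⟨⟨T', hT', hT'Φ⟩, -⟩ := hΦS x
    exact ⟨⟨T', hT'⟩, hT'Φ⟩
  choose Ψ hΨ using hmem
  have hΨinj : Function.Injective Ψ := by
    intro x x' h
    apply hΦinj
    rw [← hΨ x, ← hΨ x', h]
  have hcard := Fintype.card_le_of_injective Ψ hΨinj
  rw [Fintype.card_coe, Fintype.card_prod, Fintype.card_prod, Fintype.card_bool,
    Fintype.card_subtype_compl, Fintype.card_subtype_eq, Fintype.card_fun, Fintype.card_fun,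
    Fintype.card_fin, Fintype.card_fin] at hcard
  have e1 : k + 2 - 1 = k + 1 := by omega
  have e2 : k + 2 - 2 = k := by omega
  rw [e1, e2]
  calc 2 * (Fintype.card F ^ (k + 1) - 1) * Fintype.card F ^ k
      = (Fintype.card F ^ (k + 1) - 1) * (Fintype.card F ^ k * 2) := by ring
    _ ≤ Occ.card := hcard

end Cfsg.Agent.Lib.H25.OPMin
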