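import Mathlib
import Cfsg.Agent.Lib.H12.SLPermChar

/-!
# S2332 piece EXIST: an irreducible representation of `SL_n(q)` of degree `(q ^ n - q) / (q - 1)`

We re-run the proof of `Cfsg.Agent.Lib.H12.SLPerm.main` keeping the component `piG n 1 - 1` of the
permutation character on non-zero vectors explicit: it is an irreducible character, of degree
`(q ^ n - 1) / (q - 1) - 1`.
-/

set_option autoImplicit false

namespace Cfsg.Agent.Lib.H25.SLMin

open Matrix Cfsg Cfsg.Agent.Lib.L0 Cfsg.Agent.Lib.H12.SLTrans Cfsg.Agent.Lib.H12.CharSumIrr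
  Cfsg.Agent.Lib.H12.SLPerm
open scoped ComplexConjugate

/-- The component `piG n 1 - 1` of the permutation character is irreducible. -/
theorem isIrrCharacter_piG_one_sub_one {F : Type*} [Field F] [Fintype F] [DecidableEq F] {n : ℕ}
    (hn : 3 ≤ n) :
    IsIrrCharacter (Matrix.SpecialLinearGroup (Fin n) F) (piG n (1 : MulChar F ℂ) - 1) := by
  classical
  have : Fintype (MulChar F ℂ) := Fintype.ofFinite _
  have hcardM : Fintype.card (MulChar F ℂ) = Fintype.card F - 1 := by
    rw [← Nat.card_eq_fintype_card, MulChar.card_eq_card_units_of_hasEnoughRootsOfUnity,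
      Nat.card_units, Nat.card_eq_fintype_card]
  have hq : 1 ≤ Fintype.card F := Fintype.card_pos
  let ψ : MulChar F ℂ → (Matrix.SpecialLinearGroup (Fin n) F → ℂ) :=
    fun γ => piG n γ - (if γ = 1 then 1 else 0)
  let ψ' : Option (MulChar F ℂ) → (Matrix.SpecialLinearGroup (Fin n) F → ℂ) := fun o => o.elim 1 ψ
  have hψ1 : ψ 1 = piG n 1 - 1 := by
    show piG n 1 - (if (1 : MulChar F ℂ) = 1 then 1 else 0) = _
    rw [if_pos rfl]
  have hψγ : ∀ γ : MulChar F ℂ, γ ≠ 1 → ψ γ = piG n γ := by
    intro γ hγ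
    show piG n γ - (if γ = 1 then 1 else 0) = _
    rw [if_neg hγ, sub_zero]
  have hψchar : ∀ γ, IsCharacter (Matrix.SpecialLinearGroup (Fin n) F) (ψ γ) := by
    intro γ
    by_cases hγ : γ = 1
    · subst hγ
      rw [hψ1]
      exact isCharacter_sub_irr (isCharacter_piG hn 1) isIrrCharacter_one
        (classInner_piG_one_ne_zero hn)
    · rw [hψγ γ hγ]
      exact isCharacter_piG hn γ
  have hψ'char : ∀ o, IsCharacter (Matrix.SpecialLinearGroup (Fin n) F) (ψ' o) := by
    intro o
    rcases o with _ | γ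
    · exact isCharacter_of_irr isIrrCharacter_one
    · exact hψchar γ
  have hNZ : (Fintype.card (NZ n F) : ℂ) = (Fintype.card F : ℂ) ^ n - 1 := by
    rw [card_NZ]
    have : 1 ≤ Fintype.card F ^ n := Nat.one_le_pow _ _ (by omega)
    push_cast [this]
    ring
  have hψne : ∀ γ, ψ γ 1 ≠ 0 := by
    intro γ
    by_cases hγ : γ = 1
    · subst hγ
      rw [hψ1, Pi.sub_apply, Pi.one_apply, piG_one]
      intro h
      have h1 : (Fintype.card (NZ n F) : ℂ) = (Fintype.card F : ℂ) - 1 := by
        have := sub_eq_zero.mp h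
        field_simp [card_sub_one_ne_zero] at this
        exact this
      rw [card_NZ] at h1
      have h2 : ((Fintype.card F ^ n - 1 : ℕ) : ℂ) = ((Fintype.card F - 1 : ℕ) : ℂ) := by
        rw [h1]; push_cast [hq]; ring
      exact card_pow_ne hn (by exact_mod_cast h2)
    · rw [hψγ γ hγ, piG_one]
      apply mul_ne_zero (inv_ne_zero card_sub_one_ne_zero)
      exact_mod_cast (card_NZ_pos (F := F) hn).ne'
  have hψ'ne : ∀ o, ψ' o 1 ≠ 0 := by
    intro o
    rcases o with _ | γ
    · simp [ψ']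
    · exact hψne γ
  have hsumψ : ∀ g, ∑ γ, ψ γ g = piV n F g - 1 := by
    intro g
    simp only [ψ, Pi.sub_apply, Finset.sum_sub_distrib, sum_piG]
    congr 1
    rw [Finset.sum_eq_single (1 : MulChar F ℂ)]
    · rw [if_pos rfl, Pi.one_apply]
    · intro γ _ hγ
      rw [if_neg hγ]; rfl
    · intro h
      exact absurd (Finset.mem_univ _) h
  have hsumψ' : ∑ o, ψ' o = piV n F := by
    funext g
    rw [Fintype.sum_option, Pi.add_apply, Finset.sum_apply]
    simp only [ψ', Option.elim_none, Option.elim_some, Pi.one_apply]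
    rw [hsumψ g]
    ring
  have hnorm : classInner (∑ o, ψ' o) (∑ o, ψ' o) = (Fintype.card (Option (MulChar F ℂ)) : ℂ) := by
    rw [hsumψ', classInner_piV hn, Fintype.card_option, hcardM]
    congr 1
    omega
  obtain ⟨hirr, -⟩ := irr_of_sum_norm ψ' hψ'char hψ'ne hnorm
  have h1 := hirr (some 1)
  rw [show ψ' (some 1) = ψ 1 from rfl, hψ1] at h1
  exact h1

/-- EXIST: an irreducible representation of `SL_n(q)`, `n ≥ 3`, of degree `(q ^ n - q) / (q - 1)`. -/
theorem exists_irr_degree {F : Type*} [Field F] [Fintype F] [DecidableEq F] {n : ℕ} (hn : 3 ≤ n) :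
    ∃ ρ : Representation ℂ (Matrix.SpecialLinearGroup (Fin n) F)
      (Fin ((Fintype.card F ^ n - Fintype.card F) / (Fintype.card F - 1)) → ℂ), ρ.IsIrreducible := by
  obtain ⟨k, ρ, hirr, hchar⟩ := isIrrCharacter_piG_one_sub_one (F := F) hn
  have hq2 : 2 ≤ Fintype.card F := Fintype.one_lt_card
  have hqn : Fintype.card F ≤ Fintype.card F ^ n := by
    calc Fintype.card F = Fintype.card F ^ 1 := (pow_one _).symm
      _ ≤ Fintype.card F ^ n := Nat.pow_le_pow_right (by omega) (by omega)
  -- the degree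
  have h1 : (k : ℂ) = ((Fintype.card F : ℂ) - 1)⁻¹ * (Fintype.card (NZ n F) : ℂ) - 1 := by
    have h2 := congrFun hchar 1
    rw [Representation.char_one, Module.finrank_fin_fun, Pi.sub_apply, Pi.one_apply, piG_one] at h2
    exact h2
  have h3 : (k : ℂ) * ((Fintype.card F : ℂ) - 1) = (Fintype.card F : ℂ) ^ n - (Fintype.card F : ℂ) := by
    rw [h1, card_NZ]
    have h4 : 1 ≤ Fintype.card F ^ n := Nat.one_le_pow _ _ (by omega)
    push_cast [h4]
    have h5 := card_sub_one_ne_zero (F := F)
    field_simp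
    ring
  have h6 : k * (Fintype.card F - 1) = Fintype.card F ^ n - Fintype.card F := by
    have h7 : ((k * (Fintype.card F - 1) : ℕ) : ℂ) = ((Fintype.card F ^ n - Fintype.card F : ℕ) : ℂ) := by
      push_cast [hqn, show 1 ≤ Fintype.card F by omega]
      exact h3
    exact_mod_cast h7
  have hk : (Fintype.card F ^ n - Fintype.card F) / (Fintype.card F - 1) = k :=
    Nat.div_eq_of_eq_mul_left (by omega) h6.symm
  rw [hk]
  exact ⟨ρ, hirr⟩

end Cfsg.Agent.Lib.H25.SLMin
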