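/-
EO project (even-dimensional orthogonal Aschbacher, architect helper26), tool **ET5** (helper25):
class 5 from realisability over a proper subfield, ALL q.
Exact signature of `tools/blueprints/EO_sigs.lean`.
-/
import Cfsg.Agent.Lib.H26.AschEDefs
import Cfsg.Agent.Lib.H6.AschEQ
import Cfsg.Agent.Lib.H25.AschST5

set_option autoImplicit false

namespace Cfsg.Agent.Lib.H25.AschE

open Cfsg Cfsg.Geo Cfsg.Agent.Lib.Lead.Asch Cfsg.Agent.Lib.H6.Asch Cfsg.Agent.Lib.H17.Asch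
  Cfsg.Agent.Lib.H25.Asch Cfsg.Agent.Lib.H26.AschE
open scoped MatrixGroups Matrix Kronecker

variable {F : Type*} [Field F] [Fintype F] {n : ℕ}

/-- Explicit version of `Cfsg.Agent.Lib.H25.AschS.sc5_of_realised`: the rational structure is `B⁻¹`. -/
theorem form_rational_of_realised {f : (Fin n → F) → (Fin n → F) → F}
    (hfb : IsBilinearForm f) (hfn : IsNondegenerateForm f)
    (H N : Subgroup (GL (Fin n) F)) (hH : FixesForm (matrixSet H) f) (hNH : N ≤ H)
    (hnorm : NormalizedBy H N)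
    (hcomm : ∀ M : Matrix (Fin n) (Fin n) F, (∀ s ∈ matrixSet N, M * s = s * M) →
      ∃ c : F, M = c • (1 : Matrix (Fin n) (Fin n) F))
    (F₀ : Subfield F) (B : GL (Fin n) F) (hB : ∀ x ∈ N, ∀ i j, cj B x i j ∈ F₀) :
    ∃ c : F, c ≠ 0 ∧ IsFormRationalStructure f F₀ c B⁻¹ ∧ H ≤ subfieldSubgroup F₀ B⁻¹ := by
  classical
  obtain ⟨J, hJ⟩ := exists_rep_of_bilinear f hfb
  have hJdet : IsUnit J.det := hJ.isUnit_det hfn
  set P : Matrix (Fin n) (Fin n) F := ((B⁻¹ : GL (Fin n) F) : Matrix (Fin n) (Fin n) F) with hP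
  have hPdet : IsUnit P.det := (Matrix.isUnit_iff_isUnit_det _).1 (B⁻¹).isUnit
  set G : Matrix (Fin n) (Fin n) F := Pᵀ * J * P with hG
  have hGdet : IsUnit G.det := by
    rw [hG, Matrix.det_mul, Matrix.det_mul, Matrix.det_transpose]
    exact (hPdet.mul hJdet).mul hPdet
  have hfixJ : ∀ x ∈ H, (x : Matrix (Fin n) (Fin n) F)ᵀ * J * (x : Matrix (Fin n) (Fin n) F) = J := by
    intro x hx
    have h := hJ.matrix_eq (x : Matrix (Fin n) (Fin n) F) 1
      (fun u v => by rw [one_mul]; exact hH _ ⟨x, hx, rfl⟩ u v)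
    rwa [map_id_eq, one_smul] at h
  have hfix : ∀ x ∈ N, (cj B x)ᵀ * G * (cj B x).map (RingHom.id F) = G := by
    intro x hx
    rw [map_id_eq]
    have h1 : P * cj B x = (x : Matrix (Fin n) (Fin n) F) * P := by
      rw [cj_eq, hP, ← Matrix.mul_assoc, ← Matrix.mul_assoc, ← Units.val_mul, inv_mul_cancel,
        Units.val_one, Matrix.one_mul]
    calc (cj B x)ᵀ * G * cj B x = (P * cj B x)ᵀ * J * (P * cj B x) := by
          rw [hG, Matrix.transpose_mul]
          simp only [Matrix.mul_assoc]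
      _ = Pᵀ * ((x : Matrix (Fin n) (Fin n) F)ᵀ * J * (x : Matrix (Fin n) (Fin n) F)) * P := by
          rw [h1, Matrix.transpose_mul]
          simp only [Matrix.mul_assoc]
      _ = G := by rw [hfixJ x (hNH hx)]
  obtain ⟨c, hc0, hc⟩ :=
    exists_smul_mem_of_fix (RingHom.id F) N hcomm F₀ (fun x hx => hx) B hB G hGdet hfix
  refine ⟨c, hc0, ?_, ?_⟩
  · intro u v hu hv
    have h1 : f (P *ᵥ u) (P *ᵥ v) = u ⬝ᵥ (G *ᵥ v) := by
      rw [hJ]
      have : (fun i => (RingHom.id F) ((P *ᵥ v) i)) = P *ᵥ v := rfl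
      rw [this, hG, Matrix.mulVec_mulVec, Matrix.dotProduct_mulVec, Matrix.vecMul_mulVec,
        ← Matrix.dotProduct_mulVec, ← Matrix.mul_assoc]
    rw [h1, ← smul_eq_mul, ← dotProduct_smul, ← Matrix.smul_mulVec]
    exact dotProduct_mulVec_mem F₀ _ hc u v hu hv
  · have := le_subfieldSubgroup_of_normalizes H N hnorm hcomm F₀ B hB 1 (scalars (Fin n) F).one_mem
    rwa [mul_one] at this

/-- Class 5 for a quadratic form, from a normal absolutely irreducible subgroup whose conjugate by `B` has entries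
in a subfield `F₀` of prime index (all `q`). -/
theorem ec5_of_realised (Q : (Fin n → F) → F) (hQ : IsNondegenerateQuadraticForm Q) (hn : 2 ≤ n)
    (H N : Subgroup (GL (Fin n) F)) (hH : H ≤ isometryGroup F Q) (hNH : N ≤ H)
    (hnorm : NormalizedBy H N) (habs : ActsAbsolutelyIrreducibly (matrixSet N))
    (F₀ : Subfield F) (r : ℕ) (hr : r.Prime) (hcard : Fintype.card F = Nat.card F₀ ^ r)
    (B : GL (Fin n) F) (hB : ∀ x ∈ N, ∀ i j, cj B x i j ∈ F₀) : EC5 Q H := by
  have hfixH : FixesForm (matrixSet H) (QuadraticMap.polar Q) :=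
    Cfsg.Agent.Lib.H6.AschE.fixesForm_polar_of_fixes _ Q
      (Cfsg.Agent.Lib.H6.AschE.fixesQuadForm_of_le Q H hH)
  obtain ⟨c, hc0, hform, hle⟩ := form_rational_of_realised hQ.polar_bilinear hQ.nondegenerate H N hfixH
    hNH hnorm habs.2 F₀ B hB
  refine ⟨F₀, r, B⁻¹, c, hr, hcard, hc0, ?_, hle⟩
  refine Cfsg.Agent.Lib.H6.AschE.quad_rational_of_polar_rational_of_le Q hQ
    (by rw [Fintype.card_fin]; exact hn) N (le_trans hNH hH) habs.1 F₀ B⁻¹ ?_ c hform
  rintro _ ⟨x, hx, rfl⟩ i j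
  have h := hB x hx i j
  rw [cj_eq] at h
  rw [inv_inv]
  exact h

/-- **ET5** (class 5 from realisability), all q. -/
theorem ec5_of_realisable (Q : (Fin n → F) → F) (hQ : IsNondegenerateQuadraticForm Q) (hn : 2 ≤ n)
    (H N : Subgroup (GL (Fin n) F)) (hH : H ≤ isometryGroup F Q) (hNH : N ≤ H)
    (hnorm : NormalizedBy H N) (habs : ActsAbsolutelyIrreducibly (matrixSet N))
    (F₁ : Subfield F) (hne : F₁ ≠ ⊤) (hreal : RealisableOver F₁ (matrixSet N)) : EC5 Q H := by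
  obtain ⟨F₀, r, hle, hr, hcard⟩ := exists_prime_degree_subfield F₁ hne
  obtain ⟨B, hB⟩ := hreal
  exact ec5_of_realised Q hQ hn H N hH hNH hnorm habs F₀ r hr hcard B
    (fun x hx i j => hle (hB _ ⟨x, hx, rfl⟩ i j))

end Cfsg.Agent.Lib.H25.AschE
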