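import Cfsg.Agent.Lib.H25.Morphism
import Cfsg.Agent.Lib.H25.Normal

set_option autoImplicit false

/-!
Strongly closed subgroups along morphisms of fusion systems: preimages (for morphisms) and images
(for surjective morphisms).
-/

namespace Cfsg.Agent.Lib.H25

open Cfsg Cfsg.FusionSystem

variable {Ω : Type*} [Group Ω] {S : Subgroup Ω} {Ω' : Type*} [Group Ω'] {S' : Subgroup Ω'}
variable {F : FusionSystem S} {F' : FusionSystem S'} {α : S →* Ω'}

/-- The full preimage of a strongly closed subgroup under a morphism is strongly closed. -/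
theorem pre_stronglyClosed (hmor : F.IsMorphism F' α) {Q' : Subgroup Ω'}
    (hQ' : F'.StronglyClosed Q') : F.StronglyClosed (preimageAlong α Q') := by
  refine ⟨preimageAlong_le α Q', fun R hR φ hφ x => ?_⟩
  obtain ⟨φ', hφ', hRS, hφS, hR', hind⟩ := hmor.2 R φ hφ
  have hle : imageAlong α R ≤ Q' := by
    intro y hy
    obtain ⟨r, hrR, hrS, rfl⟩ := (mem_image_iff α R y).1 hy
    exact ((mem_pre_iff α Q' r).1 (hR hrR)).2
  have h1 := hQ'.2 (imageAlong α R) hle φ' hφ' ⟨α ⟨x, hRS x.2⟩, hR' x⟩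
  rw [hind x] at h1
  rw [mem_pre_iff]
  refine ⟨hφS x, ?_⟩
  rw [al_apply α (hφS x)]
  exact h1

/-- The image of a strongly closed subgroup under a surjective morphism is strongly closed. -/
theorem image_stronglyClosed (hsm : F.IsSurjectiveMorphism F' α) {U : Subgroup Ω}
    (hU : F.StronglyClosed U) : F'.StronglyClosed (imageAlong α U) := by
  have hrange := hsm.2.1
  refine ⟨image_le_S' hrange U, fun P' hP' φ' hφ' y => ?_⟩
  have hP'S : P' ≤ S' := hom_le F' hφ'
  obtain ⟨φ, hφ, hPS, hφS, hP'', hind⟩ := hsm.2.2 P' hP'S φ' hφ'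
  obtain ⟨u, huU, huS, huy⟩ := (mem_image_iff α U _).1 (hP' y.2)
  have hupre : u ∈ preimageAlong α P' := (mem_pre_iff α P' u).2 ⟨huS, by rw [huy]; exact y.2⟩
  have h1 := hind ⟨u, hupre⟩
  have hiso := isIso_of_mem F hφ
  obtain ⟨R', -, hiso', -⟩ :=
    hiso.restrict (inf_le_left : preimageAlong α P' ⊓ U ≤ preimageAlong α P')
  have h2 := stronglyClosed_map_mem hU hiso' inf_le_right
    (⟨hupre, huU⟩ : u ∈ preimageAlong α P' ⊓ U)
  rw [ext1_apply_mem φ hupre] at h2
  have hy : y = ⟨α ⟨u, hPS hupre⟩, hP'' ⟨u, hupre⟩⟩ :=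
    Subtype.ext (by rw [← huy, al_apply α huS])
  rw [hy, h1, mem_image_iff]
  exact ⟨φ ⟨u, hupre⟩, h2, hφS _, al_apply α (hφS _)⟩

end Cfsg.Agent.Lib.H25
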