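import Cfsg.Agent.Lib.H4.HT.Defs

set_option autoImplicit false

/-!
# S3371 (Passman), piece PAIR: a non-cyclic `C_p × C_p` acting on `V ≠ 0` over `F_q`, `q ≠ p`, contains a
non-identity element with a non-zero fixed vector (helper25)

If every non-identity `a ^ i * b ^ j` had only the fixed vector `0`, all the traces `tr (a b^k) v` and
`tr (b^i) v` (`0 < i < p`) would vanish; summing `tr (a b^k) v` over `k < p` and exchanging the sums gives
`0 = p • v`, so `v = 0`.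
-/

namespace Cfsg.Agent.Lib.H25.HT

open Cfsg.Agent.Lib.H4.HT

variable {q : ℕ} {V : Type*} [AddCommGroup V] [Module (ZMod q) V] {G : Type*} [Group G]

/-- `tr g v` is fixed by `g` when `g ^ p = 1` -/
theorem pair_tr_fixed (ρ : G →* (V ≃ₗ[ZMod q] V)) {p : ℕ} (g : G) (hg : g ^ p = 1) (v : V) :
    ρ g (tr ρ p g v) = tr ρ p g v := by
  unfold tr
  rw [map_sum]
  have h1 : ∀ i ∈ Finset.range p, ρ g (ρ (g ^ i) v) = ρ (g ^ (i + 1)) v := by
    intro i _
    rw [← rho_mul, ← pow_succ']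
  rw [Finset.sum_congr rfl h1]
  have h2 := (Finset.sum_range_succ' (fun i => ρ (g ^ i) v) p).symm.trans
    (Finset.sum_range_succ (fun i => ρ (g ^ i) v) p)
  simp only [hg, pow_zero] at h2
  exact add_right_cancel h2

theorem pair_smul_eq_zero [Fact q.Prime] {p : ℕ} (hp : p.Prime) (hpq : p ≠ q) (v : V)
    (h : p • v = 0) : v = 0 := by
  have hq : q.Prime := Fact.out
  rw [← Nat.cast_smul_eq_nsmul (ZMod q)] at h
  rcases smul_eq_zero.mp h with h0 | h0
  · exfalso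
    rw [ZMod.natCast_eq_zero_iff] at h0
    rcases (Nat.dvd_prime hp).mp h0 with h1 | h1
    · exact hq.one_lt.ne' h1
    · exact hpq h1.symm
  · exact h0

/-- **PAIR** -/
theorem exists_fixed_of_pair [Fact q.Prime] [Nontrivial V] {p : ℕ} (hp : p.Prime) (hpq : p ≠ q)
    (ρ : G →* (V ≃ₗ[ZMod q] V)) (a b : G) (hab : a * b = b * a) (ha : a ^ p = 1) (hb : b ^ p = 1)
    (hb1 : b ≠ 1) (ha' : a ∉ Subgroup.zpowers b) :
    ∃ i j : ℕ, a ^ i * b ^ j ≠ 1 ∧ ∃ v : V, v ≠ 0 ∧ ρ (a ^ i * b ^ j) v = v := by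
  by_contra hcon
  push Not at hcon
  -- `hcon : ∀ i j, a^i * b^j ≠ 1 → ∀ v, v ≠ 0 → ρ (a^i * b^j) v ≠ v`
  have hfix : ∀ i j : ℕ, a ^ i * b ^ j ≠ 1 → ∀ w : V, ρ (a ^ i * b ^ j) w = w → w = 0 := by
    intro i j hne w hw
    by_contra hw0
    exact hcon i j hne w hw0 hw
  have : Fact p.Prime := ⟨hp⟩
  have hob : orderOf b = p := orderOf_eq_prime hb hb1
  have hcomm : Commute a b := hab
  obtain ⟨v, hv⟩ := exists_ne (0 : V)
  -- the elements `a * b ^ k`
  have hg1 : ∀ k : ℕ, a ^ 1 * b ^ k ≠ 1 := by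
    intro k h
    apply ha'
    rw [pow_one] at h
    have : a = (b ^ k)⁻¹ := eq_inv_of_mul_eq_one_left h
    rw [this]
    exact Subgroup.inv_mem _ (Subgroup.pow_mem _ (Subgroup.mem_zpowers b) k)
  have hgp : ∀ k : ℕ, (a ^ 1 * b ^ k) ^ p = 1 := by
    intro k
    rw [pow_one, (hcomm.pow_right k).mul_pow, ha, one_mul, ← pow_mul, mul_comm, pow_mul, hb, one_pow]
  have htr1 : ∀ k : ℕ, tr ρ p (a ^ 1 * b ^ k) v = 0 := by
    intro k
    exact hfix 1 k (hg1 k) _ (pair_tr_fixed ρ _ (hgp k) v)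
  -- the elements `b ^ i`, `0 < i < p`
  have hbi1 : ∀ i : ℕ, 0 < i → i < p → a ^ 0 * b ^ i ≠ 1 := by
    intro i hi0 hip h
    rw [pow_zero, one_mul] at h
    have hdvd := orderOf_dvd_of_pow_eq_one h
    rw [hob] at hdvd
    exact absurd (Nat.le_of_dvd hi0 hdvd) (not_le.mpr hip)
  have hbip : ∀ i : ℕ, (a ^ 0 * b ^ i) ^ p = 1 := by
    intro i
    rw [pow_zero, one_mul, ← pow_mul, mul_comm, pow_mul, hb, one_pow]
  have htr2 : ∀ i : ℕ, 0 < i → i < p → tr ρ p (b ^ i) v = 0 := by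
    intro i hi0 hip
    have h := hfix 0 i (hbi1 i hi0 hip) _ (pair_tr_fixed ρ _ (hbip i) v)
    rwa [pow_zero, one_mul] at h
  -- the double sum
  have hsum : ∑ k ∈ Finset.range p, tr ρ p (a ^ 1 * b ^ k) v = 0 :=
    Finset.sum_eq_zero (fun k _ => htr1 k)
  have hterm : ∀ k i : ℕ, ρ ((a ^ 1 * b ^ k) ^ i) v = ρ (a ^ i) (ρ ((b ^ i) ^ k) v) := by
    intro k i
    rw [pow_one, (hcomm.pow_right k).mul_pow, ← pow_mul, ← pow_mul, mul_comm k i, rho_mul]
  have hswap : ∑ k ∈ Finset.range p, tr ρ p (a ^ 1 * b ^ k) v =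
      ∑ i ∈ Finset.range p, ρ (a ^ i) (tr ρ p (b ^ i) v) := by
    unfold tr
    rw [Finset.sum_comm]
    apply Finset.sum_congr rfl
    intro i _
    rw [map_sum]
    apply Finset.sum_congr rfl
    intro k _
    exact hterm k i
  have hp0 : 0 < p := hp.pos
  have hsingle : ∑ i ∈ Finset.range p, ρ (a ^ i) (tr ρ p (b ^ i) v) = p • v := by
    rw [Finset.sum_eq_single 0]
    · rw [pow_zero, pow_zero, rho_one]
      unfold tr
      simp only [one_pow, rho_one, Finset.sum_const, Finset.card_range]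
    · intro i hi hi0
      rw [htr2 i (Nat.pos_of_ne_zero hi0) (Finset.mem_range.mp hi), map_zero]
    · intro h
      exact absurd (Finset.mem_range.mpr hp0) h
  rw [hswap, hsingle] at hsum
  exact hv (pair_smul_eq_zero hp hpq v hsum)

end Cfsg.Agent.Lib.H25.HT
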