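import Mathlib
import Cfsg.Agent.Lib.H16.RTWDefs

/-!
helper25: piece COORD of the S3174 farm-out (architect helper16, blueprint `tools/blueprints/S3174.md`):
the coordinates `T/W ≅ UT3` coming from the unitriangular action of `T` on `Z₃(T) = ⟨x₁, x₂, x₃⟩`.
-/

set_option autoImplicit false

namespace Cfsg.Agent.Lib.H25.RTW

open scoped commutatorElement
open Cfsg.Agent.Lib.H16.RTW

section core

variable {T : Type*} [Group T]

/-- `x ^ a` for `a : ZMod 2` -/
def pw (x : T) (a : ZMod 2) : T := if a = 0 then 1 else x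

theorem zmod2_cases (a : ZMod 2) : a = 0 ∨ a = 1 := by
  revert a; decide

@[simp] theorem pw_zero (x : T) : pw x 0 = 1 := by simp [pw]

@[simp] theorem pw_one (x : T) : pw x 1 = x := by
  have : (1 : ZMod 2) ≠ 0 := by decide
  simp [pw, this]

theorem pw_add {x : T} (hx : x * x = 1) (a b : ZMod 2) : pw x (a + b) = pw x a * pw x b := by
  have h11 : (1 : ZMod 2) + 1 = 0 := by decide
  rcases zmod2_cases a with rfl | rfl <;> rcases zmod2_cases b with rfl | rfl <;>
    simp [h11, hx]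

theorem pw_conj (t x : T) (a : ZMod 2) : t * pw x a * t⁻¹ = pw (t * x * t⁻¹) a := by
  rcases zmod2_cases a with rfl | rfl <;> simp

theorem pw_central {x : T} (hx : ∀ t : T, t * x = x * t) (a : ZMod 2) (g : T) :
    g * pw x a = pw x a * g := by
  rcases zmod2_cases a with rfl | rfl <;> simp [hx]

theorem pw_mul_pw {x z : T} (a b : ZMod 2) :
    pw (x * pw z a) b = pw x b * pw z (a * b) := by
  rcases zmod2_cases b with rfl | rfl <;> simp

theorem pw_mem {x : T} {H : Subgroup T} (hx : x ∈ H) (a : ZMod 2) : pw x a ∈ H := by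
  rcases zmod2_cases a with rfl | rfl
  · rw [pw_zero]; exact H.one_mem
  · rw [pw_one]; exact hx

theorem pw_eq_one_iff {x : T} (hx : x ≠ 1) (a : ZMod 2) : pw x a = 1 ↔ a = 0 := by
  rcases zmod2_cases a with rfl | rfl
  · simp
  · simp only [pw_one]
    constructor
    · intro h; exact absurd h hx
    · intro h; exact absurd h (by decide)

/-- the homomorphism to `UT3` from a unitriangular action on `x₁, x₂, x₃` -/
theorem coord_core (x1 x2 x3 : T) (h1c : ∀ t : T, t * x1 = x1 * t) (h1s : x1 * x1 = 1)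
    (h2s : x2 * x2 = 1)
    (hA : ∀ t : T, ∃ a : ZMod 2, t * x2 * t⁻¹ = x2 * pw x1 a)
    (hB : ∀ t : T, ∃ b c : ZMod 2, t * x3 * t⁻¹ = x3 * pw x2 b * pw x1 c)
    (hinj : ∀ b c b' c' : ZMod 2, pw x2 b * pw x1 c = pw x2 b' * pw x1 c' → b = b' ∧ c = c') :
    ∃ φ : T →* UT3, ∀ t : T, t * x2 * t⁻¹ = x2 * pw x1 (φ t).a ∧
      t * x3 * t⁻¹ = x3 * pw x2 (φ t).b * pw x1 (φ t).c := by
  classical
  choose fa hfa using hA
  choose fb fc hfbc using hB
  have hcen : ∀ (a : ZMod 2) (g : T), g * pw x1 a = pw x1 a * g := fun a g => pw_central h1c a g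
  have hcen' : ∀ (a : ZMod 2) (g : T), g * pw x1 a * g⁻¹ = pw x1 a := by
    intro a g
    rw [hcen a g, mul_inv_cancel_right]
  have hmul : ∀ t s : T, (⟨fa (t * s), fb (t * s), fc (t * s)⟩ : UT3)
      = ⟨fa t, fb t, fc t⟩ * ⟨fa s, fb s, fc s⟩ := by
    intro t s
    rw [UT3.mul_def]
    -- the `a` component
    have ea : x2 * pw x1 (fa (t * s)) = x2 * pw x1 (fa t + fa s) := by
      rw [← hfa (t * s), pw_add h1s]
      calc t * s * x2 * (t * s)⁻¹ = t * (s * x2 * s⁻¹) * t⁻¹ := by group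
        _ = t * (x2 * pw x1 (fa s)) * t⁻¹ := by rw [hfa s]
        _ = (t * x2 * t⁻¹) * (t * pw x1 (fa s) * t⁻¹) := by group
        _ = x2 * pw x1 (fa t) * pw x1 (fa s) := by rw [hfa t, hcen']
        _ = x2 * (pw x1 (fa t) * pw x1 (fa s)) := by rw [mul_assoc]
    have ha : fa (t * s) = fa t + fa s := by
      have := mul_left_cancel ea
      exact (hinj 0 _ 0 _ (by rw [this])).2
    -- the `b`, `c` components
    have ebc : x3 * (pw x2 (fb (t * s)) * pw x1 (fc (t * s)))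
        = x3 * (pw x2 (fb t + fb s) * pw x1 (fc t + fc s + fa t * fb s)) := by
      rw [← mul_assoc, ← hfbc (t * s), pw_add h2s, pw_add h1s, pw_add h1s]
      calc t * s * x3 * (t * s)⁻¹ = t * (s * x3 * s⁻¹) * t⁻¹ := by group
        _ = t * (x3 * pw x2 (fb s) * pw x1 (fc s)) * t⁻¹ := by rw [hfbc s]
        _ = (t * x3 * t⁻¹) * (t * pw x2 (fb s) * t⁻¹) * (t * pw x1 (fc s) * t⁻¹) := by group
        _ = (x3 * pw x2 (fb t) * pw x1 (fc t)) * (pw x2 (fb s) * pw x1 (fa t * fb s))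
              * pw x1 (fc s) := by
            rw [hfbc t, hcen', pw_conj, hfa t, pw_mul_pw]
        _ = x3 * pw x2 (fb t) * (pw x1 (fc t) * pw x2 (fb s)) * pw x1 (fa t * fb s)
              * pw x1 (fc s) := by group
        _ = x3 * pw x2 (fb t) * (pw x2 (fb s) * pw x1 (fc t)) * pw x1 (fa t * fb s)
              * pw x1 (fc s) := by rw [hcen (fc t) (pw x2 (fb s))]
        _ = x3 * (pw x2 (fb t) * pw x2 (fb s)) * (pw x1 (fc t) * (pw x1 (fa t * fb s)
              * pw x1 (fc s))) := by group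
        _ = x3 * (pw x2 (fb t) * pw x2 (fb s)) * (pw x1 (fc t) * (pw x1 (fc s)
              * pw x1 (fa t * fb s))) := by rw [hcen (fc s) (pw x1 (fa t * fb s))]
        _ = x3 * (pw x2 (fb t) * pw x2 (fb s) * (pw x1 (fc t) * pw x1 (fc s)
              * pw x1 (fa t * fb s))) := by group
    have hbc := hinj _ _ _ _ (mul_left_cancel ebc)
    rw [UT3.mk.injEq]
    exact ⟨ha, hbc.1, hbc.2⟩
  refine ⟨MonoidHom.mk' (fun t => ⟨fa t, fb t, fc t⟩) hmul, ?_⟩
  intro t
  exact ⟨hfa t, hfbc t⟩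

end core

section ctx

variable {T : Type*} [Group T] [Finite T]

omit [Finite T] in
theorem pw_comm {t x : T} (h : t * x = x * t) (a : ZMod 2) : t * pw x a = pw x a * t := by
  rcases zmod2_cases a with rfl | rfl <;> simp [h]

/-- coset decomposition for a subgroup of index two -/
theorem mem_or_of_card (A B : Subgroup T) (hAB : A ≤ B) (hcard : Nat.card B = 2 * Nat.card A)
    {x : T} (hxB : x ∈ B) (hxA : x ∉ A) : ∀ m ∈ B, m ∈ A ∨ x⁻¹ * m ∈ A := by
  have hidx : (A.subgroupOf B).index = 2 := by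
    have h1 := Subgroup.card_mul_index (A.subgroupOf B)
    have h2 : Nat.card (A.subgroupOf B) = Nat.card A :=
      Nat.card_congr (Subgroup.subgroupOfEquivOfLe hAB).toEquiv
    rw [h2, hcard] at h1
    have hpos : 0 < Nat.card A := Nat.card_pos
    have : Nat.card A * (A.subgroupOf B).index = Nat.card A * 2 := by rw [h1, mul_comm]
    exact Nat.eq_of_mul_eq_mul_left hpos this
  intro m hm
  by_cases hmA : m ∈ A
  · exact Or.inl hmA
  · right
    have key := Subgroup.mul_mem_iff_of_index_two hidx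
      (a := (⟨x⁻¹, B.inv_mem hxB⟩ : ↥B)) (b := (⟨m, hm⟩ : ↥B))
    rw [Subgroup.mem_subgroupOf, Subgroup.mem_subgroupOf, Subgroup.mem_subgroupOf] at key
    apply key.mpr
    constructor
    · intro h
      exact absurd ((A.inv_mem_iff).mp h) hxA
    · intro h
      exact absurd h hmA

theorem exists_coord_aux (W Z1 Z2 Z3 : Subgroup T)
    (hW : W = Subgroup.centralizer (Z3 : Set T))
    (c1 : Nat.card Z1 = 2) (c2 : Nat.card Z2 = 4) (c3 : Nat.card Z3 = 8)
    (h12 : Z1 ≤ Z2) (h23 : Z2 ≤ Z3) (hZW : Z3 ≤ W)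
    (hcen1 : ∀ x ∈ Z1, ∀ t : T, t * x = x * t)
    (hcom2 : ∀ x ∈ Z2, ∀ t : T, t * x * t⁻¹ * x⁻¹ ∈ Z1)
    (hcom3 : ∀ x ∈ Z3, ∀ t : T, t * x * t⁻¹ * x⁻¹ ∈ Z2)
    (hexp : ∀ z ∈ Z3, z ^ 2 = 1) (hidx : W.index = 8) :
    ∃ φ : T →* UT3, φ.ker = W ∧ Function.Surjective φ ∧
      ∀ t : T, (φ t).a = 0 → φ t ≠ 1 → ∀ x ∈ Z3, t * x = x * t → x ∈ Z2 := by
  classical
  -- `x₁`
  obtain ⟨⟨x1, hx1⟩, hx1ne, hx1u⟩ := (Nat.card_eq_two_iff' (1 : ↥Z1)).mp c1
  have hx1ne' : x1 ≠ 1 := fun h => hx1ne (Subtype.ext h)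
  have hZ1 : ∀ z ∈ Z1, z = 1 ∨ z = x1 := by
    intro z hz
    by_cases h : z = 1
    · exact Or.inl h
    · right
      have := hx1u ⟨z, hz⟩ (fun hh => h (congrArg Subtype.val hh))
      exact congrArg Subtype.val this
  have h1c : ∀ t : T, t * x1 = x1 * t := hcen1 x1 hx1
  have h1s : x1 * x1 = 1 := by rw [← pow_two]; exact hexp x1 (h23 (h12 hx1))
  -- `x₂`
  have hne12 : Z1 ≠ Z2 := by
    intro h
    rw [h, c2] at c1
    omega
  obtain ⟨x2, hx2, hx2n⟩ := SetLike.exists_of_lt (lt_of_le_of_ne h12 hne12)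
  have h2s : x2 * x2 = 1 := by rw [← pow_two]; exact hexp x2 (h23 hx2)
  have hne23 : Z2 ≠ Z3 := by
    intro h
    rw [h, c3] at c2
    omega
  obtain ⟨x3, hx3, hx3n⟩ := SetLike.exists_of_lt (lt_of_le_of_ne h23 hne23)
  -- decompositions
  have d1 : ∀ z ∈ Z1, ∃ a : ZMod 2, z = pw x1 a := by
    intro z hz
    rcases hZ1 z hz with rfl | rfl
    · exact ⟨0, by simp⟩
    · exact ⟨1, by simp⟩
  have d2 : ∀ m ∈ Z2, ∃ b c : ZMod 2, m = pw x2 b * pw x1 c := by
    intro m hm
    rcases mem_or_of_card Z1 Z2 h12 (by rw [c1, c2]) hx2 hx2n m hm with h | h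
    · obtain ⟨c, hc⟩ := d1 m h
      exact ⟨0, c, by simp [hc]⟩
    · obtain ⟨c, hc⟩ := d1 _ h
      refine ⟨1, c, ?_⟩
      rw [pw_one, ← hc]; group
  have d3 : ∀ z ∈ Z3, ∃ i : ZMod 2, ∃ m ∈ Z2, z = pw x3 i * m := by
    intro z hz
    rcases mem_or_of_card Z2 Z3 h23 (by rw [c2, c3]) hx3 hx3n z hz with h | h
    · exact ⟨0, z, h, by simp⟩
    · refine ⟨1, _, h, ?_⟩
      rw [pw_one]; group
  -- `Z₃` is abelian
  have hab : ∀ u ∈ Z3, ∀ v ∈ Z3, u * v = v * u := by
    intro u hu v hv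
    have := hZW hv
    rw [hW, Subgroup.mem_centralizer_iff] at this
    exact this u hu
  -- the unitriangular action
  have hA : ∀ t : T, ∃ a : ZMod 2, t * x2 * t⁻¹ = x2 * pw x1 a := by
    intro t
    obtain ⟨a, ha⟩ := d1 _ (hcom2 x2 hx2 t)
    refine ⟨a, ?_⟩
    calc t * x2 * t⁻¹ = (t * x2 * t⁻¹ * x2⁻¹) * x2 := by group
      _ = pw x1 a * x2 := by rw [ha]
      _ = x2 * pw x1 a := (pw_central h1c a x2).symm
  have hB : ∀ t : T, ∃ b c : ZMod 2, t * x3 * t⁻¹ = x3 * pw x2 b * pw x1 c := by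
    intro t
    have hm := hcom3 x3 hx3 t
    obtain ⟨b, c, hbc⟩ := d2 _ hm
    refine ⟨b, c, ?_⟩
    calc t * x3 * t⁻¹ = (t * x3 * t⁻¹ * x3⁻¹) * x3 := by group
      _ = x3 * (t * x3 * t⁻¹ * x3⁻¹) := hab _ (h23 hm) x3 hx3
      _ = x3 * (pw x2 b * pw x1 c) := by rw [hbc]
      _ = x3 * pw x2 b * pw x1 c := by rw [mul_assoc]
  have hinj : ∀ b c b' c' : ZMod 2, pw x2 b * pw x1 c = pw x2 b' * pw x1 c' →
      b = b' ∧ c = c' := by
    have hc : ∀ c c' : ZMod 2, pw x1 c = pw x1 c' → c = c' := by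
      intro c c' h
      rcases zmod2_cases c with rfl | rfl <;> rcases zmod2_cases c' with rfl | rfl
      · rfl
      · rw [pw_zero, pw_one] at h; exact absurd h.symm hx1ne'
      · rw [pw_zero, pw_one] at h; exact absurd h hx1ne'
      · rfl
    intro b c b' c' h
    rcases zmod2_cases b with rfl | rfl <;> rcases zmod2_cases b' with rfl | rfl
    · refine ⟨rfl, hc c c' ?_⟩
      simpa using h
    · exfalso
      apply hx2n
      rw [pw_zero, one_mul, pw_one] at h
      have : x2 = pw x1 c * (pw x1 c')⁻¹ := by rw [h]; group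
      rw [this]
      exact Z1.mul_mem (pw_mem hx1 c) (Z1.inv_mem (pw_mem hx1 c'))
    · exfalso
      apply hx2n
      rw [pw_zero, one_mul, pw_one] at h
      have : x2 = pw x1 c' * (pw x1 c)⁻¹ := by rw [← h]; group
      rw [this]
      exact Z1.mul_mem (pw_mem hx1 c') (Z1.inv_mem (pw_mem hx1 c))
    · refine ⟨rfl, hc c c' ?_⟩
      exact mul_left_cancel h
  obtain ⟨φ, hφ⟩ := coord_core x1 x2 x3 h1c h1s h2s hA hB hinj
  -- elements commuting with `x₂`, `x₃` centralize `Z₃`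
  have hcentr : ∀ t : T, t * x2 = x2 * t → t * x3 = x3 * t → t ∈ W := by
    intro t h2 h3
    rw [hW, Subgroup.mem_centralizer_iff]
    intro z hz
    obtain ⟨i, m, hm, rfl⟩ := d3 z hz
    obtain ⟨b, c, rfl⟩ := d2 m hm
    have e3 := pw_comm h3 i
    have e2 := pw_comm h2 b
    have e1 := pw_comm (h1c t) c
    calc pw x3 i * (pw x2 b * pw x1 c) * t = pw x3 i * (pw x2 b * (pw x1 c * t)) := by group
      _ = pw x3 i * (pw x2 b * (t * pw x1 c)) := by rw [e1]
      _ = pw x3 i * ((pw x2 b * t) * pw x1 c) := by group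
      _ = pw x3 i * ((t * pw x2 b) * pw x1 c) := by rw [e2]
      _ = (pw x3 i * t) * (pw x2 b * pw x1 c) := by group
      _ = (t * pw x3 i) * (pw x2 b * pw x1 c) := by rw [e3]
      _ = t * (pw x3 i * (pw x2 b * pw x1 c)) := by group
  have hker : φ.ker = W := by
    ext t
    rw [MonoidHom.mem_ker]
    constructor
    · intro h
      obtain ⟨e2, e3⟩ := hφ t
      rw [h] at e2 e3
      simp only [UT3.one_def, pw_zero, mul_one] at e2 e3
      apply hcentr t
      · calc t * x2 = (t * x2 * t⁻¹) * t := by group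
          _ = x2 * t := by rw [e2]
      · calc t * x3 = (t * x3 * t⁻¹) * t := by group
          _ = x3 * t := by rw [e3]
    · intro h
      rw [hW, Subgroup.mem_centralizer_iff] at h
      obtain ⟨e2, e3⟩ := hφ t
      have h2 : t * x2 * t⁻¹ = x2 := by rw [← h x2 (h23 hx2)]; group
      have h3 : t * x3 * t⁻¹ = x3 := by rw [← h x3 hx3]; group
      rw [h2] at e2
      rw [h3, mul_assoc] at e3
      have ea : (φ t).a = 0 := by
        have := mul_left_cancel (a := x2) (b := 1) (c := pw x1 (φ t).a) (by rw [mul_one]; exact e2)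
        exact (pw_eq_one_iff hx1ne' _).mp this.symm
      have ebc := hinj 0 0 (φ t).b (φ t).c (by
        rw [pw_zero, pw_zero, one_mul]
        exact mul_left_cancel (a := x3) (by rw [mul_one]; exact e3))
      rw [UT3.one_def]
      cases hφt : φ t with
      | mk a b c =>
        rw [hφt] at ea ebc
        simp only at ea ebc
        rw [ea, ← ebc.1, ← ebc.2]
  refine ⟨φ, hker, ?_, ?_⟩
  · rw [← MonoidHom.range_eq_top, ← Subgroup.card_eq_iff_eq_top, ← Subgroup.index_ker, hker, hidx,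
      UT3.card_eq]
  · intro t ha hne x hx hcomm
    by_contra hxn
    rcases mem_or_of_card Z2 Z3 h23 (by rw [c2, c3]) hx3 hx3n x hx with h | h
    · exact hxn h
    · obtain ⟨e2, e3⟩ := hφ t
      rw [ha, pw_zero, mul_one] at e2
      -- `t` centralizes `Z₂`
      have ht2 : t * x2 = x2 * t := by
        calc t * x2 = (t * x2 * t⁻¹) * t := by group
          _ = x2 * t := by rw [e2]
      obtain ⟨b, c, hbc⟩ := d2 _ h
      have htm : t * (x3⁻¹ * x) = (x3⁻¹ * x) * t := by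
        rw [hbc]
        have e2' := pw_comm ht2 b
        have e1' := pw_comm (h1c t) c
        calc t * (pw x2 b * pw x1 c) = (t * pw x2 b) * pw x1 c := by group
          _ = (pw x2 b * t) * pw x1 c := by rw [e2']
          _ = pw x2 b * (t * pw x1 c) := by group
          _ = pw x2 b * (pw x1 c * t) := by rw [e1']
          _ = pw x2 b * pw x1 c * t := by group
      -- hence `t` centralizes `x₃`
      have ht3 : t * x3 * t⁻¹ = x3 := by
        have hx3e : x3 = x * (x3⁻¹ * x)⁻¹ := by group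
        have hinvc : t * (x3⁻¹ * x)⁻¹ = (x3⁻¹ * x)⁻¹ * t :=
          ((show Commute t (x3⁻¹ * x) from htm).inv_right).eq
        calc t * x3 * t⁻¹ = t * (x * (x3⁻¹ * x)⁻¹) * t⁻¹ := by rw [← hx3e]
          _ = (t * x) * ((x3⁻¹ * x)⁻¹ * t⁻¹) := by group
          _ = (x * t) * ((x3⁻¹ * x)⁻¹ * t⁻¹) := by rw [hcomm]
          _ = x * (t * (x3⁻¹ * x)⁻¹) * t⁻¹ := by group
          _ = x * ((x3⁻¹ * x)⁻¹ * t) * t⁻¹ := by rw [hinvc]
          _ = x * (x3⁻¹ * x)⁻¹ := by group
          _ = x3 := hx3e.symm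
      rw [ht3, mul_assoc] at e3
      have ebc := hinj 0 0 (φ t).b (φ t).c (by
        rw [pw_zero, pw_zero, one_mul]
        exact mul_left_cancel (a := x3) (by rw [mul_one]; exact e3))
      apply hne
      rw [UT3.one_def]
      cases hφt : φ t with
      | mk a b c =>
        rw [hφt] at ha ebc
        simp only at ha ebc
        rw [ha, ← ebc.1, ← ebc.2]

/-- **COORD**: coordinates of `T/W` from the (faithful, unitriangular) action on
`Z₃ = ⟨x₁,x₂,x₃⟩ ≅ 2³`. -/
theorem exists_coord (c : Ctx T) : Nonempty (Coord c) := by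
  have hcomk : ∀ (n : ℕ), ∀ x ∈ Subgroup.upperCentralSeries T (n + 1), ∀ t : T,
      t * x * t⁻¹ * x⁻¹ ∈ Subgroup.upperCentralSeries T n := by
    intro n x hx t
    have := Subgroup.mem_upperCentralSeries_succ_iff.mp hx t
    rw [← commutatorElement_def, ← commutatorElement_inv]
    exact Subgroup.inv_mem _ this
  obtain ⟨φ, hker, hsurj, hfix⟩ := exists_coord_aux c.W (Subgroup.upperCentralSeries T 1)
    (Subgroup.upperCentralSeries T 2) (Subgroup.upperCentralSeries T 3) c.hW c.c1 c.c2 c.c3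
    (Subgroup.upperCentralSeries_mono T (by norm_num)) (Subgroup.upperCentralSeries_mono T (by norm_num))
    c.hZW
    (by
      intro x hx t
      rw [Subgroup.upperCentralSeries_one] at hx
      exact Subgroup.mem_center_iff.mp hx t)
    (hcomk 1) (hcomk 2) c.hexp c.hidx
  exact ⟨⟨φ, hker, hsurj, hfix⟩⟩

end ctx

end Cfsg.Agent.Lib.H25.RTW
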