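import Mathlib
import Cfsg.Agent.Lib.H16.RTWDefs
import Cfsg.Agent.Lib.H25.RTWCOORD

/-!
helper25: piece KPAR of the S3174 farm-out (architect helper16, blueprint `tools/blueprints/S3174.md`):
if `Z₄ ≤ Z(W)` then for `w ∈ W` the number of cosets `gW` with `⁅w, ᵍw⁆ ∉ Z₂` is even.
-/

set_option autoImplicit false

namespace Cfsg.Agent.Lib.H25.RTW

open scoped commutatorElement
open Cfsg.Agent.Lib.H16.RTW

/-- translating the list of all elements by a bijection permutes it -/
theorem perm_map_univ_toList {α : Type*} [Fintype α] (e : α ≃ α) :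
    ((Finset.univ : Finset α).toList.map e).Perm (Finset.univ : Finset α).toList := by
  rw [List.perm_ext_iff_of_nodup ((Finset.nodup_toList _).map e.injective) (Finset.nodup_toList _)]
  intro a
  simp only [List.mem_map, Finset.mem_toList, Finset.mem_univ, true_and, iff_true]
  exact ⟨e.symm a, e.apply_symm_apply a⟩

variable {T : Type*} [Group T] [Finite T]

theorem index_two_of_card (A B : Subgroup T) (hAB : A ≤ B) (hcard : Nat.card B = 2 * Nat.card A) :
    (A.subgroupOf B).index = 2 := by
  have h1 := Subgroup.card_mul_index (A.subgroupOf B)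
  have h2 : Nat.card (A.subgroupOf B) = Nat.card A :=
    Nat.card_congr (Subgroup.subgroupOfEquivOfLe hAB).toEquiv
  rw [h2, hcard] at h1
  have hpos : 0 < Nat.card A := Nat.card_pos
  have : Nat.card A * (A.subgroupOf B).index = Nat.card A * 2 := by rw [h1, mul_comm]
  exact Nat.eq_of_mul_eq_mul_left hpos this

theorem mul_mem_iff_of_card (A B : Subgroup T) (hAB : A ≤ B) (hcard : Nat.card B = 2 * Nat.card A)
    {a b : T} (ha : a ∈ B) (hb : b ∈ B) : a * b ∈ A ↔ (a ∈ A ↔ b ∈ A) := by
  have key := Subgroup.mul_mem_iff_of_index_two (index_two_of_card A B hAB hcard)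
    (a := (⟨a, ha⟩ : ↥B)) (b := (⟨b, hb⟩ : ↥B))
  rw [Subgroup.mem_subgroupOf, Subgroup.mem_subgroupOf, Subgroup.mem_subgroupOf] at key
  exact key

omit [Finite T] in
/-- the product of a list of elements of a subgroup -/
theorem list_prod_mem' (H : Subgroup T) (l : List T) (h : ∀ x ∈ l, x ∈ H) : l.prod ∈ H :=
  Subgroup.list_prod_mem H h

/-- **KPAR** -/
theorem key_parity (c : Ctx T) (k : Coord c)
    (hZ4 : ∀ y ∈ Subgroup.upperCentralSeries T 4, y ∈ c.W ∧ ∀ v ∈ c.W, y * v = v * y)
    (w : T) (hw : w ∈ c.W) (rep : UT3 → T) (hrep : ∀ g, k.φ (rep g) = g) :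
    Even (Nat.card {g : UT3 // ⁅w, rep g * w * (rep g)⁻¹⁆ ∉ Subgroup.upperCentralSeries T 2}) := by
  classical
  have hWn : c.W.Normal := c.hWn
  have h23 : Subgroup.upperCentralSeries T 2 ≤ Subgroup.upperCentralSeries T 3 :=
    Subgroup.upperCentralSeries_mono T (by norm_num)
  -- the quotient by `Z₃`
  let π : T →* T ⧸ Subgroup.upperCentralSeries T 3 :=
    QuotientGroup.mk' (Subgroup.upperCentralSeries T 3)
  have hπ1 : ∀ x : T, π x = 1 ↔ x ∈ Subgroup.upperCentralSeries T 3 := fun x =>
    QuotientGroup.eq_one_iff x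
  have hπeq : ∀ x y : T, x * y⁻¹ ∈ Subgroup.upperCentralSeries T 3 → π x = π y := by
    intro x y h
    have := (hπ1 _).mpr h
    rw [map_mul, map_inv, mul_inv_eq_one] at this
    exact this
  -- images of elements of `W` commute
  have hcommπ : ∀ u ∈ c.W, ∀ v ∈ c.W, Commute (π u) (π v) := by
    intro u hu v hv
    have := (hπ1 _).mpr (c.hcomm u hu v hv)
    rw [commutatorElement_def, map_mul, map_mul, map_mul, map_inv, map_inv] at this
    have h2 : π u * π v = π v * π u := by
      calc π u * π v = (π u * π v * (π u)⁻¹ * (π v)⁻¹) * (π v * π u) := by group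
        _ = π v * π u := by rw [this, one_mul]
    exact h2
  -- the conjugates of `w`
  set v : UT3 → T := fun g => rep g * w * (rep g)⁻¹ with hv
  have hvW : ∀ g, v g ∈ c.W := fun g => hWn.conj_mem w hw (rep g)
  -- conjugation permutes them modulo `Z₃`
  have hconj : ∀ (t : T) (g : UT3), π (t * v g * t⁻¹) = π (v (k.φ t * g)) := by
    intro t g
    set g' := k.φ t * g with hg'
    set s : T := (rep g')⁻¹ * t * rep g with hs
    have hsW : s ∈ c.W := by
      rw [← k.hker, MonoidHom.mem_ker, hs, map_mul, map_mul, map_inv, hrep, hrep, hg']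
      group
    apply hπeq
    have e1 : t * v g * t⁻¹ * (v g')⁻¹ = rep g' * ⁅s, w⁆ * (rep g')⁻¹ := by
      rw [hv, hs, commutatorElement_def]
      group
    rw [e1]
    have hn : (Subgroup.upperCentralSeries T 3).Normal := inferInstance
    exact hn.conj_mem _ (c.hcomm s hsW w hw) (rep g')
  -- the product `N`
  set L : List UT3 := (Finset.univ : Finset UT3).toList with hL
  set N : T := (L.map v).prod with hN
  have hNW : N ∈ c.W := by
    apply Subgroup.list_prod_mem
    intro x hx
    obtain ⟨g, -, rfl⟩ := List.mem_map.mp hx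
    exact hvW g
  have hNfix : ∀ t : T, π (t * N * t⁻¹) = π N := by
    intro t
    have e1 : t * N * t⁻¹ = (L.map (fun g => t * v g * t⁻¹)).prod := by
      have := map_list_prod (MulAut.conj t).toMonoidHom (L.map v)
      simp only [MulEquiv.coe_toMonoidHom, MulAut.conj_apply, List.map_map] at this
      rw [hN, this]
      rfl
    rw [e1, map_list_prod, List.map_map, hN, map_list_prod, List.map_map]
    have e2 : List.map (⇑π ∘ fun g => t * v g * t⁻¹) L
        = List.map (⇑π ∘ v) (L.map (Equiv.mulLeft (k.φ t))) := by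
      rw [List.map_map]
      apply List.map_congr_left
      intro g _
      simp only [Function.comp_apply, Equiv.coe_mulLeft]
      exact hconj t g
    rw [e2]
    apply List.Perm.prod_eq' ((perm_map_univ_toList (Equiv.mulLeft (k.φ t))).map _)
    rw [List.pairwise_map, List.pairwise_map]
    apply List.pairwise_of_forall
    intro a b
    exact hcommπ _ (hvW _) _ (hvW _)
  -- `N ∈ Z₄`, hence central in `W`
  have hN4 : N ∈ Subgroup.upperCentralSeries T 4 := by
    rw [show (4 : ℕ) = 3 + 1 from rfl, Subgroup.mem_upperCentralSeries_succ_iff]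
    intro t
    rw [← hπ1, commutatorElement_def]
    have h1 := hNfix t
    have : N * t * N⁻¹ * t⁻¹ = N * (t * N * t⁻¹)⁻¹ := by group
    rw [this, map_mul, map_inv, h1, mul_inv_cancel]
  have hwN : ⁅w, N⁆ = 1 := by
    have := (hZ4 N hN4).2 w hw
    rw [commutatorElement_def]
    calc w * N * w⁻¹ * N⁻¹ = w * (N * w⁻¹) * N⁻¹ := by group
      _ = w * (w⁻¹ * N) * N⁻¹ := by
          have h' : N * w⁻¹ = w⁻¹ * N := by
            calc N * w⁻¹ = w⁻¹ * (w * N) * w⁻¹ := by group
              _ = w⁻¹ * (N * w) * w⁻¹ := by rw [this]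
              _ = w⁻¹ * N := by group
          rw [h']
      _ = 1 := by group
  -- the character `χ`
  set χ : T → ZMod 2 := fun x => if ⁅w, x⁆ ∈ Subgroup.upperCentralSeries T 2 then 0 else 1 with hχ
  have hcen3 : ∀ e ∈ Subgroup.upperCentralSeries T 3, ∀ u ∈ c.W, u * e = e * u := by
    intro e he u hu
    have := hu
    rw [c.hW, Subgroup.mem_centralizer_iff] at this
    exact (this e he).symm
  have hχmul : ∀ u ∈ c.W, ∀ x ∈ c.W, χ (u * x) = χ u + χ x := by
    intro u hu x hx
    have e1 : ⁅w, u * x⁆ = ⁅w, u⁆ * ⁅w, x⁆ := by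
      have hc := hcen3 _ (c.hcomm w hw x hx) u hu
      rw [commutatorElement_def, commutatorElement_def, commutatorElement_def] at *
      calc w * (u * x) * w⁻¹ * (u * x)⁻¹ = w * u * w⁻¹ * u⁻¹ * (u * (w * x * w⁻¹ * x⁻¹)) * u⁻¹ := by
            group
        _ = w * u * w⁻¹ * u⁻¹ * ((w * x * w⁻¹ * x⁻¹) * u) * u⁻¹ := by rw [hc]
        _ = w * u * w⁻¹ * u⁻¹ * (w * x * w⁻¹ * x⁻¹) := by group
    have hiff := mul_mem_iff_of_card (Subgroup.upperCentralSeries T 2)
      (Subgroup.upperCentralSeries T 3) h23 (by rw [c.c2, c.c3])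
      (c.hcomm w hw u hu) (c.hcomm w hw x hx)
    simp only [hχ]
    rw [e1]
    by_cases h1 : ⁅w, u⁆ ∈ Subgroup.upperCentralSeries T 2 <;>
      by_cases h2 : ⁅w, x⁆ ∈ Subgroup.upperCentralSeries T 2
    · rw [if_pos (hiff.mpr ⟨fun _ => h2, fun _ => h1⟩), if_pos h1, if_pos h2]; rfl
    · rw [if_neg (fun h => h2 ((hiff.mp h).mp h1)), if_pos h1, if_neg h2]; rfl
    · rw [if_neg (fun h => h1 ((hiff.mp h).mpr h2)), if_neg h1, if_pos h2]; rfl
    · rw [if_pos (hiff.mpr ⟨fun h => absurd h h1, fun h => absurd h h2⟩), if_neg h1, if_neg h2]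
      decide
  have hχ1 : χ 1 = 0 := by
    simp only [hχ]
    rw [if_pos]
    rw [commutatorElement_def]
    simp
  have hχlist : ∀ l : List T, (∀ x ∈ l, x ∈ c.W) → χ l.prod = (l.map χ).sum := by
    intro l
    induction l with
    | nil => intro _; simpa using hχ1
    | cons a l ih =>
      intro h
      have ha : a ∈ c.W := h a (List.mem_cons_self)
      have hl : ∀ x ∈ l, x ∈ c.W := fun x hx => h x (List.mem_cons_of_mem _ hx)
      rw [List.prod_cons, hχmul a ha _ (Subgroup.list_prod_mem _ hl), ih hl, List.map_cons,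
        List.sum_cons]
  have hχN : χ N = 0 := by
    simp only [hχ]
    rw [if_pos]
    rw [hwN]
    exact Subgroup.one_mem _
  have hsum : ∑ g : UT3, χ (v g) = 0 := by
    rw [← hχN, hN, hχlist _ (by
      intro x hx
      obtain ⟨g, -, rfl⟩ := List.mem_map.mp hx
      exact hvW g), List.map_map, hL, Finset.sum_map_toList]
    rfl
  -- counting
  have hcount : ∑ g : UT3, χ (v g)
      = ((Finset.univ.filter (fun g : UT3 =>
          ⁅w, v g⁆ ∉ Subgroup.upperCentralSeries T 2)).card : ZMod 2) := by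
    rw [Finset.card_filter, Nat.cast_sum]
    apply Finset.sum_congr rfl
    intro g _
    simp only [hχ]
    by_cases h : ⁅w, v g⁆ ∈ Subgroup.upperCentralSeries T 2
    · rw [if_pos h, if_neg (not_not.mpr h)]; rfl
    · rw [if_neg h, if_pos h]; rfl
  rw [hcount, ZMod.natCast_eq_zero_iff_even] at hsum
  rw [Nat.card_eq_fintype_card, Fintype.card_subtype]
  exact hsum

end Cfsg.Agent.Lib.H25.RTW
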