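import Cfsg.Agent.Lib.H25.SimsMODF
import Cfsg.Agent.Lib.H24.SimsMODW

set_option autoImplicit false

/-!
# S3685 / S3385, piece (MOD): `mod : S.Bent → S.Loc → S.Con → S.Mod`, exact signature of
`tools/blueprints/S3685_sigs2.lean` (helper25)

Assembly of the 16 fields of `Setup.Mod` from `SimsMODF` (the local module facts for one Sylow subgroup and one
element of order 3), helper24's cross-conjugation cardinalities (`Lib/H24/SimsMODX.lean`) and helper24's fields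
`W_eq`, `W_norm` (`Lib/H24/SimsMODW.lean`).
-/

open scoped Pointwise commutatorElement

namespace Cfsg.Agent.Lib.H25.Sims

open Cfsg.Agent.Lib.H5.Sims

variable {G : Type*} [Group G] [Finite G]

/-- the local module facts for a Sylow subgroup `X` of `P_j`, `s ∈ X - Q_j` and `t` of order 3 -/
theorem modLocal_chain (S : Setup G) (hL : S.Loc) (hC : S.Con) (hP : LocPlus S) (j : ℤ) (X : Subgroup G)
    (hX : S.IsSyl j X) (s : G) (hs : s ∈ X) (hsQ : s ∉ S.Qj j) (t : G) (ht : t ∈ S.Pj j)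
    (ho : orderOf t = 3) :
    ModLocal (S.Vj j) (S.Yj j) (zOf X) ⁅S.Vj j, X⁆ ⁅S.Vj j, Subgroup.zpowers t⁆ s t :=
  (conjData S hL hC hP j X hX s hs hsQ t ht ho).modLocal _ _ _ _
    (iff_Y S hL hC hP j X hX s hs hsQ t ht ho)
    (iff_Z S hL hC hP j X hX s hs hsQ)
    (iff_B S hL hC hP j X hX s hs hsQ t ht ho)
    (iff_W S hL hC hP j X hX s hs hsQ t ht ho)

/-- the same with `s` chosen -/
theorem exists_modLocal (S : Setup G) (hL : S.Loc) (hC : S.Con) (hP : LocPlus S) (j : ℤ) (X : Subgroup G)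
    (hX : S.IsSyl j X) (t : G) (ht : t ∈ S.Pj j) (ho : orderOf t = 3) :
    ∃ s : G, ModLocal (S.Vj j) (S.Yj j) (zOf X) ⁅S.Vj j, X⁆ ⁅S.Vj j, Subgroup.zpowers t⁆ s t := by
  obtain ⟨s, hs, hsQ⟩ := hP.ex_not_mem j X hX
  exact ⟨s, modLocal_chain S hL hC hP j X hX s hs hsQ t ht ho⟩

/-- the same with `s` and `t` chosen -/
theorem exists_modLocal' (S : Setup G) (hL : S.Loc) (hC : S.Con) (hP : LocPlus S) (j : ℤ) (X : Subgroup G)
    (hX : S.IsSyl j X) :
    ∃ s t : G, ModLocal (S.Vj j) (S.Yj j) (zOf X) ⁅S.Vj j, X⁆ ⁅S.Vj j, Subgroup.zpowers t⁆ s t := by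
  obtain ⟨t, ht, ho⟩ := hL.exists_three j
  obtain ⟨s, h⟩ := exists_modLocal S hL hC hP j X hX t ht ho
  exact ⟨s, t, h⟩

/-- the facts about two distinct Sylow subgroups -/
theorem two_syl (S : Setup G) (hL : S.Loc) (hC : S.Con) (hP : LocPlus S) (j : ℤ) (X X' : Subgroup G)
    (hX : S.IsSyl j X) (hX' : S.IsSyl j X') (hne : X ≠ X') (s : G) (hs : s ∈ X) (hsQ : s ∉ S.Qj j) :
    zOf X ⊔ zOf X' = S.Vj j ∧ ∀ x ∈ ⁅S.Vj j, X⁆, ∃ z ∈ zOf X', x = z * s * z⁻¹ * s⁻¹ := by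
  obtain ⟨t, ht, ho, htX⟩ := hP.syl_three j X X' hX hX' hne
  have D := conjData S hL hC hP j X hX s hs hsQ t ht ho
  have h := D.modLocal' (zOf X) (zOf (MulAut.conj t • X)) ⁅S.Vj j, X⁆
    (iff_Z S hL hC hP j X hX s hs hsQ)
    (iff_Z' S hL hC hP j X hX s hs hsQ t ht ho)
    (iff_B S hL hC hP j X hX s hs hsQ t ht ho)
  rw [htX] at h
  refine ⟨h.1, fun x hx => ?_⟩
  obtain ⟨z, hz, rfl⟩ := h.2 x hx
  refine ⟨z, hz, ?_⟩
  have hzi : z⁻¹ = z := sq_inv S hL hC hP j z (hC.Z_le_V j X' hX' hz)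
  calc z * (s * z * s⁻¹) = z * (s * z⁻¹ * s⁻¹) := by rw [hzi]
    _ = z * s * z⁻¹ * s⁻¹ := by group

/-- **(MOD)**: section 5 of the blueprint -/
theorem mod (S : Setup G) (hb : S.Bent) (hL : S.Loc) (hC : S.Con) : S.Mod := by
  have hP : LocPlus S := locPlus S hb
  have hZeq : ∀ (j : ℤ) (X : Subgroup G), S.IsSyl j X → zOf X = S.Yj j ⊔ ⁅S.Vj j, X⁆ := by
    intro j X hX
    obtain ⟨s, t, ML⟩ := exists_modLocal' S hL hC hP j X hX
    exact ML.Z_eq
  have hYd : ∀ (j : ℤ) (X : Subgroup G), S.IsSyl j X → S.Yj j ⊓ ⁅S.Vj j, X⁆ = ⊥ := by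
    intro j X hX
    obtain ⟨s, t, ML⟩ := exists_modLocal' S hL hC hP j X hX
    exact ML.Y_inf_B
  obtain ⟨hcc, hYle, hcY⟩ := Cfsg.Agent.Lib.H24.Sims.mod_cards S hb hL hC hZeq hYd
  refine
    { comm_le := ?_
      Z_eq := hZeq
      Y_disj := hYd
      card_comm := hcc
      Z_inf := ?_
      Z_sup := ?_
      comm_eq := ?_
      card_Y_le := hYle
      card_V := ?_
      cV_three := ?_
      W_card := ?_
      W_sup := ?_
      W_disj := ?_
      W_eq := Cfsg.Agent.Lib.H24.Sims.Con.mod_W_eq S hb hL hC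
      W_norm := Cfsg.Agent.Lib.H24.Sims.Con.mod_W_norm S hb hL hC
      comm_le_W := ?_ }
  · -- comm_le
    intro j X hX
    obtain ⟨s, t, ML⟩ := exists_modLocal' S hL hC hP j X hX
    exact ML.B_le_Z
  · -- Z_inf
    intro j X X' hX hX' hne
    apply le_antisymm
    · rintro v ⟨hv, hv'⟩
      refine ⟨hX.1 hv.1, hv.2.1, ?_⟩
      have hcen : X ⊔ X' ≤ Subgroup.centralizer {v} := by
        apply sup_le
        · intro y hy
          rw [Subgroup.mem_centralizer_iff]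
          intro z hz
          rw [Set.mem_singleton_iff] at hz
          subst hz
          exact (hv.2.2 y hy).symm
        · intro y hy
          rw [Subgroup.mem_centralizer_iff]
          intro z hz
          rw [Set.mem_singleton_iff] at hz
          subst hz
          exact (hv'.2.2 y hy).symm
      rw [hL.syl_sup j X X' hX hX' hne] at hcen
      intro y hy
      have := hcen hy
      rw [Subgroup.mem_centralizer_iff] at this
      exact (this v rfl).symm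
    · exact le_inf (hC.Y_le_Z j X hX) (hC.Y_le_Z j X' hX')
  · -- Z_sup
    intro j X X' hX hX' hne
    obtain ⟨s, hs, hsQ⟩ := hP.ex_not_mem j X hX
    exact (two_syl S hL hC hP j X X' hX hX' hne s hs hsQ).1
  · -- comm_eq
    intro j X X' hX hX' hne s hs hsQ
    exact (two_syl S hL hC hP j X X' hX hX' hne s hs hsQ).2
  · -- card_V
    intro j
    obtain ⟨s, t, ML⟩ := exists_modLocal' S hL hC hP j (S.Tj j) (S.isSyl_Tj j)
    rw [ML.card_V, hcc j (S.Tj j) (S.isSyl_Tj j), hcY j]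
  · -- cV_three
    intro j t ht ho v hv htv
    obtain ⟨s, ML⟩ := exists_modLocal S hL hC hP j (S.Tj j) (S.isSyl_Tj j) t ht ho
    exact ML.fixT v hv (conj_eq_of_comm htv.symm)
  · -- W_card
    intro j t ht ho
    obtain ⟨s, ML⟩ := exists_modLocal S hL hC hP j (S.Tj j) (S.isSyl_Tj j) t ht ho
    rw [ML.card_W, hcc j (S.Tj j) (S.isSyl_Tj j)]
  · -- W_sup
    intro j t ht ho
    obtain ⟨s, ML⟩ := exists_modLocal S hL hC hP j (S.Tj j) (S.isSyl_Tj j) t ht ho
    exact ML.Y_sup_W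
  · -- W_disj
    intro j t ht ho
    obtain ⟨s, ML⟩ := exists_modLocal S hL hC hP j (S.Tj j) (S.isSyl_Tj j) t ht ho
    exact ML.Y_inf_W
  · -- comm_le_W
    intro j X hX t ht ho
    obtain ⟨s, ML⟩ := exists_modLocal S hL hC hP j X hX t ht ho
    exact ML.B_le_W

end Cfsg.Agent.Lib.H25.Sims
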