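import Mathlib
import Cfsg.Agent.Lib.H17.GHDefs
import Cfsg.Agent.Lib.H21.GHKE

/-!
# S4402 piece K4 (helper25): `Omc` = the involutions of `T` outside `A1c A2c`; there are 8 of them
-/

set_option autoImplicit false
set_option linter.dupNamespace false

namespace Cfsg.Agent.Lib.H25.GH

open Subgroup Cfsg.Agent.Lib.H17.GH Cfsg.Agent.Lib.H14.A8Sylow Cfsg.Agent.Lib.H21.GH

/-- membership in `A1c`, unfolded -/
theorem mem_A1c_iff (σ : Equiv.Perm (Fin 8)) : σ ∈ A1c ↔ σ ∈ T ∧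
    (lsw 0 * σ = σ * lsw 0 ∧ lsw 1 * σ = σ * lsw 1 ∧ lsw 2 * σ = σ * lsw 2 ∧ lsw 3 * σ = σ * lsw 3) := by
  unfold A1c
  rw [Subgroup.mem_inf, Subgroup.mem_centralizer_iff]
  simp only [Set.mem_insert_iff, Set.mem_singleton_iff, forall_eq_or_imp, forall_eq]

/-- membership in `A2c`, unfolded -/
theorem mem_A2c_iff (σ : Equiv.Perm (Fin 8)) : σ ∈ A2c ↔ σ ∈ T ∧
    (dsw 0 1 * σ = σ * dsw 0 1 ∧ qsw 0 * σ = σ * qsw 0 ∧ dsw 2 3 * σ = σ * dsw 2 3 ∧
      qsw 1 * σ = σ * qsw 1) := by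
  unfold A2c
  rw [Subgroup.mem_inf, Subgroup.mem_centralizer_iff]
  simp only [Set.mem_insert_iff, Set.mem_singleton_iff, forall_eq_or_imp, forall_eq]

set_option maxRecDepth 1000000 in
/-- elements of `A1c` fix both halves -/
theorem blk4_of_mem_A1c {σ : Equiv.Perm (Fin 8)} (h : σ ∈ A1c) : ∀ i, blk4 (σ i) = blk4 i := by
  have key : ∀ n : Fin 128,
      (lsw 0 * enc n = enc n * lsw 0 ∧ lsw 1 * enc n = enc n * lsw 1 ∧ lsw 2 * enc n = enc n * lsw 2 ∧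
        lsw 3 * enc n = enc n * lsw 3) → ∀ i, blk4 (enc n i) = blk4 i := by decide +kernel
  rw [mem_A1c_iff] at h
  obtain ⟨n, rfl⟩ := (mem_T_iff_enc σ).1 h.1
  exact key n h.2

set_option maxRecDepth 1000000 in
/-- elements of `A2c` fix both halves -/
theorem blk4_of_mem_A2c {σ : Equiv.Perm (Fin 8)} (h : σ ∈ A2c) : ∀ i, blk4 (σ i) = blk4 i := by
  have key : ∀ n : Fin 128,
      (dsw 0 1 * enc n = enc n * dsw 0 1 ∧ qsw 0 * enc n = enc n * qsw 0 ∧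
        dsw 2 3 * enc n = enc n * dsw 2 3 ∧ qsw 1 * enc n = enc n * qsw 1) →
        ∀ i, blk4 (enc n i) = blk4 i := by decide +kernel
  rw [mem_A2c_iff] at h
  obtain ⟨n, rfl⟩ := (mem_T_iff_enc σ).1 h.1
  exact key n h.2

theorem pw_mem {H : Subgroup (Equiv.Perm (Fin 8))} {g : Equiv.Perm (Fin 8)} (hg : g ∈ H) (b : Bool) :
    pw g b ∈ H := by
  unfold pw
  split
  · exact hg
  · exact H.one_mem

set_option maxRecDepth 1000000 in
theorem lsw_mem_A1c : ∀ a : Fin 4, lsw a ∈ A1c := by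
  have key : ∀ a : Fin 4, ((∀ i j, blk2 (lsw a i) = blk2 (lsw a j) ↔ blk2 i = blk2 j) ∧
      (∀ i j, blk4 (lsw a i) = blk4 (lsw a j) ↔ blk4 i = blk4 j)) ∧
      (lsw 0 * lsw a = lsw a * lsw 0 ∧ lsw 1 * lsw a = lsw a * lsw 1 ∧ lsw 2 * lsw a = lsw a * lsw 2 ∧
        lsw 3 * lsw a = lsw a * lsw 3) := by decide +kernel
  intro a
  rw [mem_A1c_iff, mem_T]
  exact key a

set_option maxRecDepth 1000000 in
theorem qsw_mem_A2c : ∀ c : Fin 2, qsw c ∈ A2c := by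
  have key : ∀ c : Fin 2,
      (dsw 0 1 * qsw c = qsw c * dsw 0 1 ∧ qsw 0 * qsw c = qsw c * qsw 0 ∧
        dsw 2 3 * qsw c = qsw c * dsw 2 3 ∧ qsw 1 * qsw c = qsw c * qsw 1) := by decide +kernel
  intro c
  rw [mem_A2c_iff]
  exact ⟨qsw_mem_T c, key c⟩

set_option maxRecDepth 1000000 in
/-- an element of `T` fixing one point's half is a product `A1c * A2c` -/
theorem enc_eq_mul_of_blk4 : ∀ n : Fin 128, (∃ i, blk4 (enc n i) = blk4 i) →
    enc n = (pw (lsw 0) (n.val.testBit 0) * pw (lsw 1) (n.val.testBit 1) * pw (lsw 2) (n.val.testBit 2) *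
      pw (lsw 3) (n.val.testBit 3)) * (pw (qsw 0) (n.val.testBit 4) * pw (qsw 1) (n.val.testBit 5)) := by
  decide +kernel

set_option maxRecDepth 1000000 in
/-- the eight elements of `Omc`, by their codes -/
theorem card_filter_Om :
    (Finset.univ.filter (fun n : Fin 128 => enc n * enc n = 1 ∧ ∀ i, blk4 (enc n i) ≠ blk4 i)).card = 8 := by
  decide +kernel

/-- K4. `Omc` = the involutions of `T` outside `A1c A2c` (`A1c A2c` = the elements fixing both halves); 8 of them. -/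
theorem Omc_iff_card : (∀ x, x ∈ Omc ↔ (x ∈ T ∧ x * x = 1 ∧ ¬ ∃ a ∈ A1c, ∃ b ∈ A2c, x = a * b)) ∧
    Omc.ncard = 8 := by
  refine ⟨?_, ?_⟩
  · intro x
    constructor
    · rintro ⟨hxT, hx2, hx4⟩
      refine ⟨hxT, hx2, ?_⟩
      rintro ⟨a, ha, b, hb, rfl⟩
      apply hx4 0
      rw [Equiv.Perm.mul_apply, blk4_of_mem_A1c ha, blk4_of_mem_A2c hb]
    · rintro ⟨hxT, hx2, hx⟩
      refine ⟨hxT, hx2, ?_⟩
      intro i hi
      apply hx
      obtain ⟨n, rfl⟩ := (mem_T_iff_enc x).1 hxT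
      refine ⟨_, ?_, _, ?_, enc_eq_mul_of_blk4 n ⟨i, hi⟩⟩
      · exact A1c.mul_mem (A1c.mul_mem (A1c.mul_mem (pw_mem (lsw_mem_A1c 0) _) (pw_mem (lsw_mem_A1c 1) _))
          (pw_mem (lsw_mem_A1c 2) _)) (pw_mem (lsw_mem_A1c 3) _)
      · exact A2c.mul_mem (pw_mem (qsw_mem_A2c 0) _) (pw_mem (qsw_mem_A2c 1) _)
  · have hset : Omc = enc '' ((Finset.univ.filter
        (fun n : Fin 128 => enc n * enc n = 1 ∧ ∀ i, blk4 (enc n i) ≠ blk4 i) : Finset (Fin 128)) :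
          Set (Fin 128)) := by
      ext σ
      constructor
      · rintro ⟨hσT, hσ2, hσ4⟩
        obtain ⟨n, rfl⟩ := (mem_T_iff_enc σ).1 hσT
        refine ⟨n, ?_, rfl⟩
        rw [Finset.mem_coe, Finset.mem_filter]
        exact ⟨Finset.mem_univ _, hσ2, hσ4⟩
      · rintro ⟨n, hn, rfl⟩
        rw [Finset.mem_coe, Finset.mem_filter] at hn
        exact ⟨enc_mem_T n, hn.2.1, hn.2.2⟩
    rw [hset, Set.ncard_image_of_injective _ enc_injective, Set.ncard_coe_finset, card_filter_Om]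

end Cfsg.Agent.Lib.H25.GH
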