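import Cfsg.Agent.Lib.H25.G24LBPres
import Cfsg.Prelude.Def_KGroupFacts

set_option autoImplicit false
set_option maxRecDepth 100000

/-!
# S2102, piece LB: the presented group `⟨a, b, c | PE exact, ZL central⟩` is a double cover (helper25)

Two-stage counting with helper16's `mono_main1` / `mono_main2`, after helper12's `Lib/H12/J3M/Stem.lean`
and helper17's `Lib/H17/L34M/Core2.lean`.
-/

namespace Cfsg.Agent.Lib.H25.G24LB

open Subgroup
open scoped commutatorElement
open Cfsg.Agent.Lib.H16.G24M
open Cfsg.Agent.Lib.H12.J3M (gl2 wv2 gl3 wv3 map_wv3 map_wv2 wv3_eq_wv2 wv2_mem wv2_replicate0)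

/-- the words of stage 1 use the first two generators only -/
theorem c1_letters : ∀ w ∈ C1.exactL ++ (C1.symL ++ C1.cenL), ∀ x ∈ w, x < 4 := by
  decide

theorem c1_exact_sub : ∀ w ∈ C1.exactL, w ∈ C2.exactL := by
  decide

theorem PE_of_exact2 : ∀ w ∈ C2.exactL, w ∈ PE := fun _ hw => List.mem_append_left _ hw

theorem PE_of_c1 : ∀ w ∈ C1.symL ++ C1.cenL, w ∈ PE := fun _ hw =>
  List.mem_append_right _ (List.mem_append_left _ hw)

theorem PE_of_xL : ∀ w ∈ xL, w ∈ PE := fun _ hw =>
  List.mem_append_right _ (List.mem_append_right _ (List.mem_append_left _ hw))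

theorem PE_of_sq : ∀ w ∈ C2.symL, w ++ w ∈ PE := fun w hw =>
  List.mem_append_right _ (List.mem_append_right _ (List.mem_append_right _
    (List.mem_map.mpr ⟨w, hw, rfl⟩)))

/-- the exact relators make the three elements products of commutators -/
theorem mem_commutator_of_PE {K : Type*} [Group K] (x y z : K) (hex : ∀ w ∈ PE, wv3 x y z w = 1) :
    x ∈ commutator K ∧ y ∈ commutator K ∧ z ∈ commutator K := by
  have hc : ∀ p q : K, ⁅p, q⁆ ∈ commutator K := fun p q =>
    Subgroup.commutator_mem_commutator (Subgroup.mem_top p) (Subgroup.mem_top q)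
  have hx13 : x ^ 13 = 1 := by
    have h := hex (List.replicate 13 0) (PE_of_exact2 _ (by decide))
    rwa [wv3_replicate0] at h
  have hy13 : y ^ 13 = 1 := by
    have h := hex (List.replicate 13 2) (PE_of_exact2 _ (by decide))
    rwa [wv3_replicate2] at h
  have hxa := (xaW_iff x y z).1 (hex xaW (PE_of_xL _ (by simp [xL])))
  have hxb := (xbW_iff x y z).1 (hex xbW (PE_of_xL _ (by simp [xL])))
  have hxc := (xcW_iff x y z).1 (hex xcW (PE_of_xL _ (by simp [xL])))
  have hx : x ∈ commutator K := by
    have e : ⁅wv3 x y z taW, x⁆ = x ^ 8 := by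
      rw [commutatorElement_def, hxa]; group
    have h8 : x ^ 8 ∈ commutator K := by rw [← e]; exact hc _ _
    have e2 : x = (x ^ 8) ^ 5 * ((x ^ 13)⁻¹) ^ 3 := by group
    rw [e2, hx13, inv_one, one_pow, mul_one]
    exact pow_mem h8 5
  have hy : y ∈ commutator K := by
    have e : ⁅wv3 x y z tbW, y⁆ = y ^ 8 := by
      rw [commutatorElement_def, hxb]; group
    have h8 : y ^ 8 ∈ commutator K := by rw [← e]; exact hc _ _
    have e2 : y = (y ^ 8) ^ 5 * ((y ^ 13)⁻¹) ^ 3 := by group
    rw [e2, hy13, inv_one, one_pow, mul_one]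
    exact pow_mem h8 5
  refine ⟨hx, hy, ?_⟩
  have hn : (commutator K).Normal := inferInstance
  have h := hn.conj_mem x hx (wv3 x y z w0W)⁻¹
  rw [inv_inv, hxc] at h
  exact h

/-- **LB**: the presented group `⟨a, b, c | PE exact, ZL central⟩` is a double cover of `G`, given a model
`M` of the presentation in which the word `uW` is nontrivial. -/
theorem exists_cover {G : Type} [Group G] {am bm cm : G} (B : Base am bm cm)
    (hU : 62400 ≤ Nat.card (Subgroup.closure ({am, bm} : Set G)))
    {M : Type} [Group M] (x y z : M) (hE : ∀ w ∈ PE, wv3 x y z w = 1)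
    (hZ : ∀ w ∈ ZL, ∀ i : Fin 3, wv3 x y z w * ![x, y, z] i = ![x, y, z] i * wv3 x y z w)
    (hu : wv3 x y z uW ≠ 1) :
    ∃ (Γ : Type) (_ : Group Γ) (_ : Finite Γ) (σ : Γ →* G),
      Cfsg.IsStemExtension σ ∧ 2 ∣ Nat.card σ.ker := by
  -- the relators hold in `G`
  have hexG : ∀ w ∈ PE, wv3 am bm cm w = 1 := by
    intro w hw
    rcases List.mem_append.mp hw with h | h
    · exact B.rel2 w (List.mem_append_left _ h)
    rcases List.mem_append.mp h with h | h
    · rw [wv3_eq_wv2 am bm cm w (c1_letters w (List.mem_append_right _ h))]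
      exact B.rel1 w (List.mem_append_right _ h)
    rcases List.mem_append.mp h with h | h
    · exact B.relx w h
    · obtain ⟨v, hv, rfl⟩ := List.mem_map.mp h
      rw [wv3_append, B.rel2 v (List.mem_append_right _ (List.mem_append_left _ hv)), one_mul]
  have hcenG : ∀ w ∈ ZL, ∀ i : Fin 3,
      wv3 am bm cm w * ![am, bm, cm] i = ![am, bm, cm] i * wv3 am bm cm w := by
    intro w hw i
    rw [B.rel2 w (List.mem_append_right _ hw), one_mul, mul_one]
  let σ : P3 →* G := homP3 am bm cm hexG hcenG
  let μ : P3 →* M := homP3 x y z hE hZ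
  have hσa : σ qa = am := homP3_qa _ _ _ _ _
  have hσb : σ qb = bm := homP3_qb _ _ _ _ _
  have hσc : σ qc = cm := homP3_qc _ _ _ _ _
  have hσw : ∀ w, σ (wv3 qa qb qc w) = wv3 am bm cm w := homP3_wv _ _ _ _ _
  have hμw : ∀ w, μ (wv3 qa qb qc w) = wv3 x y z w := homP3_wv _ _ _ _ _
  have hs : Function.Surjective σ := by
    rw [← MonoidHom.range_eq_top, eq_top_iff, ← B.gen, closure_le]
    intro g hg
    simp only [Set.mem_insert_iff, Set.mem_singleton_iff] at hg
    rcases hg with h | h | h
    · exact ⟨qa, hσa.trans h.symm⟩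
    · exact ⟨qb, hσb.trans h.symm⟩
    · exact ⟨qc, hσc.trans h.symm⟩
  -- stage 1 inside `K0 = ⟨qa, qb⟩`
  set K0 : Subgroup P3 := closure {qa, qb} with hK0
  have haK : qa ∈ K0 := subset_closure (by simp)
  have hbK : qb ∈ K0 := subset_closure (by simp)
  let ga1 : ↥K0 := ⟨qa, haK⟩
  let gb1 : ↥K0 := ⟨qb, hbK⟩
  have hcoe : ∀ w, ((wv2 ga1 gb1 w : ↥K0) : P3) = wv2 qa qb w := fun w =>
    map_wv2 K0.subtype ga1 gb1 w
  have hval1 : ∀ w ∈ C1.exactL ++ (C1.symL ++ C1.cenL), wv2 ga1 gb1 w = 1 := by
    intro w hw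
    apply Subtype.ext
    rw [hcoe, ← wv3_eq_wv2 qa qb qc w (c1_letters w hw)]
    apply P3_exact
    rcases List.mem_append.mp hw with h | h
    · exact PE_of_exact2 _ (c1_exact_sub _ h)
    · exact PE_of_c1 _ h
  have S1 : Setting1 ga1 gb1 (⊥ : Subgroup ↥K0) :=
    { central := bot_le
      disj := fun g _ hg => Subgroup.mem_bot.mp hg
      exact := fun w hw => hval1 w (List.mem_append_left _ hw)
      rel := fun w hw => by rw [hval1 w (List.mem_append_right _ hw)]; exact one_mem _
      gen := by
        have h := Subgroup.closure_closure_coe_preimage (k := ({qa, qb} : Set P3))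
        convert h using 2
        ext g
        simp only [Set.mem_insert_iff, Set.mem_singleton_iff, Set.mem_preimage]
        constructor
        · rintro (rfl | rfl)
          · left; rfl
          · right; rfl
        · rintro (h | h)
          · left; exact Subtype.ext h
          · right; exact Subtype.ext h
      tors := fun g hg => by rw [Subgroup.mem_bot.mp hg, one_pow] }
  obtain ⟨hfinQ1, hq1⟩ := mono_main1 S1
  have hga13 : ga1 ^ 13 = 1 := by
    have h := hval1 (List.replicate 13 0) (by decide)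
    rwa [wv2_replicate0] at h
  have hfinH1 : Finite (closure ({ga1} : Set ↥K0)) := by
    rw [← zpowers_eq_closure]
    exact Nat.finite_of_card_ne_zero (by
      rw [Nat.card_zpowers]
      exact (orderOf_pos_iff.2 (isOfFinOrder_iff_pow_eq_one.2 ⟨13, by norm_num, hga13⟩)).ne')
  have hH1 : Nat.card (closure ({ga1} : Set ↥K0)) ≤ 13 := by
    rw [← zpowers_eq_closure, Nat.card_zpowers]
    exact Nat.le_of_dvd (by norm_num) (orderOf_dvd_of_pow_eq_one hga13)
  have hfinK0 : Finite ↥K0 :=
    Finite.of_equiv _ (Subgroup.groupEquivQuotientProdSubgroup (s := closure ({ga1} : Set ↥K0))).symm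
  have hcardK0 : Nat.card ↥K0 ≤ 62400 := by
    have h1 := Subgroup.card_eq_card_quotient_mul_card_subgroup (closure ({ga1} : Set ↥K0))
    calc Nat.card ↥K0 = _ := h1
      _ ≤ 4800 * 13 := Nat.mul_le_mul hq1 hH1
      _ = 62400 := by norm_num
  -- `σ` is injective on `K0`
  let τ : ↥K0 →* G := σ.comp K0.subtype
  have hmap : K0.map σ = closure ({am, bm} : Set G) := by
    rw [hK0, MonoidHom.map_closure, Set.image_insert_eq, Set.image_singleton, hσa, hσb]
  have hinj : ∀ g ∈ K0, σ g = 1 → g = 1 := by
    have hsurj : Function.Surjective τ.rangeRestrict := MonoidHom.rangeRestrict_surjective _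
    have hrange : τ.range = closure ({am, bm} : Set G) := by
      rw [MonoidHom.range_eq_map, ← Subgroup.map_map, ← MonoidHom.range_eq_map, Subgroup.range_subtype,
        hmap]
    have hcard : Nat.card ↥K0 ≤ Nat.card τ.range := by
      rw [hrange]
      exact le_trans hcardK0 hU
    have hbij := Function.Surjective.bijective_of_nat_card_le hsurj hcard
    intro g hg hg1
    have h1 : τ.rangeRestrict ⟨g, hg⟩ = τ.rangeRestrict 1 := by
      apply Subtype.ext
      rw [map_one]
      exact hg1
    exact congrArg Subtype.val (hbij.1 h1)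
  -- stage 2
  have hsq : ∀ w ∈ C2.symL, (wv3 qa qb qc w) ^ 2 = 1 := by
    intro w hw
    rw [pow_two, ← wv3_append]
    exact P3_exact _ (PE_of_sq w hw)
  have S2 : Setting2 qa qb qc (σ.ker ⊓ center P3) :=
    { central := inf_le_right
      disj := fun g hg hgA => hinj g hg (MonoidHom.mem_ker.mp hgA.1)
      exact := fun w hw => P3_exact w (PE_of_exact2 w hw)
      rel := by
        intro w hw
        refine ⟨MonoidHom.mem_ker.mpr ?_, P3_central w hw⟩
        rw [hσw]
        exact B.rel2 w (List.mem_append_right _ hw)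
      gen := P3_gen
      tors := by
        intro w hw
        rw [show 2764800 = 2 * 1382400 from rfl, pow_mul, hsq w hw, one_pow] }
  obtain ⟨huA, hu2, hfinQ2, hq2⟩ := mono_main2 S2
  set u : P3 := (wv3 qa qb qc uW)⁻¹ with hu_def
  have hfinP : Finite P3 :=
    Finite.of_equiv _ (Subgroup.groupEquivQuotientProdSubgroup (s := K0)).symm
  have h1 : Nat.card P3 = Nat.card (P3 ⧸ K0) * Nat.card ↥K0 :=
    Subgroup.card_eq_card_quotient_mul_card_subgroup _
  have h2 : Nat.card P3 = Nat.card σ.ker * Nat.card G := by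
    rw [← Subgroup.card_mul_index σ.ker, Subgroup.index_ker, MonoidHom.range_eq_top.2 hs,
      Subgroup.card_top]
  have h3 : Nat.card σ.ker * 251596800 ≤ orderOf u * 251596800 := by
    calc Nat.card σ.ker * 251596800 = Nat.card P3 := by rw [h2, B.card]
      _ = _ := h1
      _ ≤ (4032 * orderOf u) * 62400 := Nat.mul_le_mul hq2 hcardK0
      _ = orderOf u * 251596800 := by ring
  have h4 : Nat.card σ.ker ≤ orderOf u := Nat.le_of_mul_le_mul_right h3 (by norm_num)
  have hle : zpowers u ≤ σ.ker := by rw [zpowers_le]; exact huA.1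
  have hker : σ.ker = zpowers u := by
    symm
    apply Subgroup.eq_of_le_of_card_ge hle
    rw [Nat.card_zpowers]
    exact h4
  have hμu : μ u ≠ 1 := by
    rw [hu_def, map_inv, hμw]
    intro h
    exact hu (inv_eq_one.mp h)
  have hu1 : u ≠ 1 := fun h => hμu (by rw [h, map_one])
  have ho : orderOf u = 2 := by
    have := orderOf_dvd_of_pow_eq_one hu2
    rcases (Nat.dvd_prime Nat.prime_two).1 this with h | h
    · exact absurd (orderOf_eq_one_iff.1 h) hu1
    · exact h
  have hperf : commutator P3 = ⊤ := by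
    obtain ⟨c1, c2, c3⟩ := mem_commutator_of_PE qa qb qc P3_exact
    rw [eq_top_iff, ← P3_gen, closure_le]
    intro g hg
    simp only [Set.mem_insert_iff, Set.mem_singleton_iff] at hg
    rcases hg with rfl | rfl | rfl
    · exact c1
    · exact c2
    · exact c3
  refine ⟨P3, inferInstance, hfinP, σ, ⟨hs, ?_, by rw [hperf]; exact le_top⟩, ?_⟩
  · rw [hker, zpowers_le]; exact huA.2
  · rw [hker, Nat.card_zpowers, ho]

end Cfsg.Agent.Lib.H25.G24LB
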