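import Mathlib
import Cfsg.Agent.Lib.H8.BQ0

/-!
# S4719, Part II, piece QB: `|C_{G/X}(vX)| ≤ |C_G(v)|`

`D` := the preimage in `G ⊓ N_Γ(X)` of `C_{G/X}(vX)`; `|D| = |C_{G/X}(vX)| |X|`, and the fibres of
`x ↦ x v x⁻¹ v⁻¹ : D → X` inject into `C_G(v)` (`x ↦ x₀⁻¹ x`), so `|D| ≤ |X| |C_G(v)|`.
-/

set_option autoImplicit false

universe u

namespace Cfsg.Agent.Lib.H25.BQ

open Subgroup Cfsg.Agent.Lib.H8.BQ

variable {Γ : Type u} [Group Γ]

/-- The preimage `D` (a subgroup of `N_Γ(X)`). -/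
def preD (X G : Subgroup Γ) (v : Γ) (hv : v ∈ normalizer (X : Set Γ)) :
    Subgroup ↥(normalizer (X : Set Γ)) :=
  G.subgroupOf (normalizer (X : Set Γ)) ⊓ (centralizer {qMap X ⟨v, hv⟩}).comap (qMap X)

theorem map_preD (X G : Subgroup Γ) (v : Γ) (hv : v ∈ normalizer (X : Set Γ)) :
    (preD X G v hv).map (qMap X) = qImg X G ⊓ centralizer {qMap X ⟨v, hv⟩} := by
  ext w
  unfold preD qImg
  rw [Subgroup.mem_map, Subgroup.mem_inf, Subgroup.mem_map]
  constructor
  · rintro ⟨x, hx, rfl⟩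
    rw [Subgroup.mem_inf, Subgroup.mem_comap] at hx
    exact ⟨⟨x, hx.1, rfl⟩, hx.2⟩
  · rintro ⟨⟨x, hx, rfl⟩, hc⟩
    refine ⟨x, ?_, rfl⟩
    rw [Subgroup.mem_inf, Subgroup.mem_comap]
    exact ⟨hx, hc⟩

theorem ker_qMap (X : Subgroup Γ) :
    (qMap X).ker = X.subgroupOf (normalizer (X : Set Γ)) := by
  unfold qMap
  exact QuotientGroup.ker_mk' _

theorem subgroupOf_le_preD (X G : Subgroup Γ) (hXG : X ≤ G) (v : Γ)
    (hv : v ∈ normalizer (X : Set Γ)) :
    X.subgroupOf (normalizer (X : Set Γ)) ≤ preD X G v hv := by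
  intro x hx
  unfold preD
  rw [Subgroup.mem_inf, Subgroup.mem_comap]
  refine ⟨?_, ?_⟩
  · rw [Subgroup.mem_subgroupOf] at hx ⊢
    exact hXG hx
  · have h1 : qMap X x = 1 := by
      rw [← MonoidHom.mem_ker, ker_qMap]
      exact hx
    rw [h1]
    exact Subgroup.one_mem _

theorem card_preD [Finite Γ] (X G : Subgroup Γ) (hXG : X ≤ G) (v : Γ)
    (hv : v ∈ normalizer (X : Set Γ)) :
    Nat.card ↥(qImg X G ⊓ centralizer {qMap X ⟨v, hv⟩}) * Nat.card X =
      Nat.card (preD X G v hv) := by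
  rw [← map_preD]
  have h1 : Nat.card ((preD X G v hv).map (qMap X)) =
      (X.subgroupOf (normalizer (X : Set Γ))).relIndex (preD X G v hv) := by
    have := Subgroup.relIndex_ker (K := preD X G v hv) (qMap X)
    rw [ker_qMap] at this
    exact this.symm
  have h2 : Nat.card (X.subgroupOf (normalizer (X : Set Γ))) *
      (X.subgroupOf (normalizer (X : Set Γ))).relIndex (preD X G v hv) =
        Nat.card (preD X G v hv) := by
    have := Subgroup.relIndex_mul_relIndex (H := (⊥ : Subgroup ↥(normalizer (X : Set Γ))))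
      (K := X.subgroupOf (normalizer (X : Set Γ))) (L := preD X G v hv) bot_le
      (subgroupOf_le_preD X G hXG v hv)
    rwa [Subgroup.relIndex_bot_left, Subgroup.relIndex_bot_left] at this
  have h3 : Nat.card (X.subgroupOf (normalizer (X : Set Γ))) = Nat.card X :=
    Nat.card_congr (Subgroup.subgroupOfEquivOfLe Subgroup.le_normalizer).toEquiv
  rw [h1, ← h2, h3, mul_comm]

/-- For `x ∈ D`: `x ∈ G` and `x v x⁻¹ v⁻¹ ∈ X`. -/
theorem preD_spec (X G : Subgroup Γ) (v : Γ) (hv : v ∈ normalizer (X : Set Γ))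
    (x : ↥(normalizer (X : Set Γ))) (hx : x ∈ preD X G v hv) :
    (x : Γ) ∈ G ∧ (x : Γ) * v * (x : Γ)⁻¹ * v⁻¹ ∈ X := by
  unfold preD at hx
  rw [Subgroup.mem_inf, Subgroup.mem_comap, Subgroup.mem_centralizer_singleton_iff] at hx
  refine ⟨Subgroup.mem_subgroupOf.1 hx.1, ?_⟩
  set vv : ↥(normalizer (X : Set Γ)) := ⟨v, hv⟩ with hvv
  have h1 : qMap X (x * vv * x⁻¹ * vv⁻¹) = 1 := by
    rw [map_mul, map_mul, map_mul, map_inv, map_inv, hx.2]
    group
  rw [← MonoidHom.mem_ker, ker_qMap, Subgroup.mem_subgroupOf] at h1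
  simpa [hvv] using h1

theorem card_preD_le [Finite Γ] (X G : Subgroup Γ) (v : Γ) (hv : v ∈ normalizer (X : Set Γ)) :
    Nat.card (preD X G v hv) ≤ Nat.card X * Nat.card ↥(G ⊓ centralizer ({v} : Set Γ)) := by
  classical
  -- the commutator map
  let c : preD X G v hv → X := fun x =>
    ⟨((x : ↥(normalizer (X : Set Γ))) : Γ) * v * ((x : ↥(normalizer (X : Set Γ))) : Γ)⁻¹ * v⁻¹,
      (preD_spec X G v hv x.1 x.2).2⟩
  -- a representative of each fibre
  let rep : X → Γ := fun y =>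
    if h : ∃ x : preD X G v hv, c x = y then ((h.choose : ↥(normalizer (X : Set Γ))) : Γ) else 1
  have hrep : ∀ x : preD X G v hv,
      rep (c x) ∈ G ∧ rep (c x) * v * (rep (c x))⁻¹ * v⁻¹ =
        ((x : ↥(normalizer (X : Set Γ))) : Γ) * v * ((x : ↥(normalizer (X : Set Γ))) : Γ)⁻¹ * v⁻¹ := by
    intro x
    have hex : ∃ x' : preD X G v hv, c x' = c x := ⟨x, rfl⟩
    have hr : rep (c x) = ((hex.choose : ↥(normalizer (X : Set Γ))) : Γ) := dif_pos hex
    have hs := hex.choose_spec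
    refine ⟨?_, ?_⟩
    · rw [hr]
      exact (preD_spec X G v hv hex.choose.1 hex.choose.2).1
    · rw [hr]
      exact congrArg Subtype.val hs
  let f : preD X G v hv → X × ↥(G ⊓ centralizer ({v} : Set Γ)) := fun x =>
    (c x, ⟨(rep (c x))⁻¹ * ((x : ↥(normalizer (X : Set Γ))) : Γ), by
      obtain ⟨h1, h2⟩ := hrep x
      rw [Subgroup.mem_inf, Subgroup.mem_centralizer_singleton_iff]
      refine ⟨G.mul_mem (G.inv_mem h1) (preD_spec X G v hv x.1 x.2).1, ?_⟩
      -- r v r⁻¹ = x v x⁻¹  ⇒  r⁻¹ x v = v r⁻¹ x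
      have h3 : rep (c x) * v * (rep (c x))⁻¹ =
          ((x : ↥(normalizer (X : Set Γ))) : Γ) * v * ((x : ↥(normalizer (X : Set Γ))) : Γ)⁻¹ := by
        have := congrArg (· * v) h2
        simpa using this
      have h4 : v * ((rep (c x))⁻¹ * ((x : ↥(normalizer (X : Set Γ))) : Γ)) =
          (rep (c x))⁻¹ * (rep (c x) * v * (rep (c x))⁻¹) *
            ((x : ↥(normalizer (X : Set Γ))) : Γ) := by group
      rw [h4, h3]
      group⟩)
  have hinj : Function.Injective f := by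
    intro x y hxy
    have h1 : c x = c y := congrArg Prod.fst hxy
    have h2 : (rep (c x))⁻¹ * ((x : ↥(normalizer (X : Set Γ))) : Γ) =
        (rep (c y))⁻¹ * ((y : ↥(normalizer (X : Set Γ))) : Γ) :=
      congrArg (fun z : X × ↥(G ⊓ centralizer ({v} : Set Γ)) => ((z.2 : Γ))) hxy
    rw [h1] at h2
    apply Subtype.ext
    apply Subtype.ext
    exact mul_left_cancel h2
  have := Nat.card_le_card_of_injective f hinj
  rwa [Nat.card_prod] at this

/-- **QB.** `|C_{G/X}(vX)| ≤ |C_G(v)|`. -/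
theorem card_qImg_inf_centralizer_le [Finite Γ] (X G : Subgroup Γ)
    (hXG : X ≤ G) (hGX : G ≤ normalizer (X : Set Γ)) (v : Γ) (hv : v ∈ normalizer (X : Set Γ)) :
    Nat.card ↥(qImg X G ⊓ centralizer {qMap X ⟨v, hv⟩}) ≤ Nat.card ↥(G ⊓ centralizer {v}) := by
  have h1 := card_preD X G hXG v hv
  have h2 := card_preD_le X G v hv
  rw [← h1, mul_comm] at h2
  exact Nat.le_of_mul_le_mul_left h2 Nat.card_pos

end Cfsg.Agent.Lib.H25.BQ
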