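import Mathlib
import Cfsg.Agent.Lib.H2.KRDEFS

/-!
# S4651 pieces C0a (STRUCT-top) + C0b (STRUCT-low): structure of `u`-stable chains (pure Mathlib + `H2.KRDEFS`)

Exact signatures of `tools/blueprints/S4651_sigs.lean` (section `chains`).
-/

set_option autoImplicit false
set_option linter.unusedSectionVars false

namespace Cfsg.Agent.Lib.H25.KR

open Cfsg Cfsg.Agent.Lib.H2.KR
open scoped Classical

section aux

variable {G : Type*} [Group G]

/-- one-sided conjugation stability of a join -/
theorem conj_mem_sup_of_conj_mem {A B : Subgroup G} {g : G} (hA : ∀ a ∈ A, g * a * g⁻¹ ∈ A)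
    (hB : ∀ b ∈ B, g * b * g⁻¹ ∈ B) : ∀ h ∈ A ⊔ B, g * h * g⁻¹ ∈ A ⊔ B := by
  have h1 : A ⊔ B ≤ (A ⊔ B).comap (MulAut.conj g).toMonoidHom := by
    apply sup_le
    · intro a ha
      rw [Subgroup.mem_comap]
      exact Subgroup.mem_sup_left (hA a ha)
    · intro b hb
      rw [Subgroup.mem_comap]
      exact Subgroup.mem_sup_right (hB b hb)
  intro h hh
  exact h1 hh

/-- one-sided conjugation stability of a closure -/
theorem conj_mem_closure_of_conj_mem {S : Set G} {g : G}
    (hS : ∀ y ∈ S, g * y * g⁻¹ ∈ Subgroup.closure S) :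
    ∀ h ∈ Subgroup.closure S, g * h * g⁻¹ ∈ Subgroup.closure S := by
  have h1 : Subgroup.closure S ≤ (Subgroup.closure S).comap (MulAut.conj g).toMonoidHom := by
    rw [Subgroup.closure_le]
    intro y hy
    exact hS y hy
  intro h hh
  exact h1 hh

/-- two-sided stability gives membership in the normalizer -/
theorem mem_normalizer_of_conj_mem {H : Subgroup G} {g : G} (h1 : ∀ h ∈ H, g * h * g⁻¹ ∈ H)
    (h2 : ∀ h ∈ H, g⁻¹ * h * g⁻¹⁻¹ ∈ H) : g ∈ Subgroup.normalizer (H : Set G) := by
  rw [Subgroup.mem_normalizer_iff]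
  intro h
  constructor
  · exact h1 h
  · intro hh
    have := h2 _ hh
    have e : g⁻¹ * (g * h * g⁻¹) * g⁻¹⁻¹ = h := by group
    rwa [e] at this

theorem conj_mem_of_mem_normalizer {H : Subgroup G} {g : G}
    (hg : g ∈ Subgroup.normalizer (H : Set G)) : ∀ h ∈ H, g * h * g⁻¹ ∈ H :=
  fun h hh => (Subgroup.mem_normalizer_iff.1 hg h).1 hh

/-- in a nonempty finite chain of subgroups the join is a member -/
theorem sup_mem_of_chain (t : Finset (Subgroup G)) (hne : t.Nonempty)
    (hch : ∀ Q ∈ t, ∀ R ∈ t, Q ≤ R ∨ R ≤ Q) : t.sup id ∈ t := by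
  induction t using Finset.induction_on with
  | empty => exact absurd hne (by simp)
  | insert a t' ha ih =>
    rcases Finset.eq_empty_or_nonempty t' with h0 | h0
    · subst h0
      simp
    · have hm : t'.sup id ∈ t' := ih h0 (fun Q hQ R hR =>
        hch Q (Finset.mem_insert_of_mem hQ) R (Finset.mem_insert_of_mem hR))
      rw [Finset.sup_insert, id]
      rcases hch a (Finset.mem_insert_self a t') _ (Finset.mem_insert_of_mem hm) with h | h
      · rw [sup_eq_right.2 h]
        exact Finset.mem_insert_of_mem hm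
      · rw [sup_eq_left.2 h]
        exact Finset.mem_insert_self a t'

end aux

section chains

variable {G : Type*} [Group G] [Finite G] {p : ℕ} [Fact p.Prime]

/-! ### (C0a) STRUCT-top -/

theorem top_empty : top (∅ : Finset (Subgroup G)) = ⊥ := by
  unfold top
  exact Finset.sup_empty

theorem mem_normalizer_sup {A B : Subgroup G} {g : G}
    (hA : g ∈ Subgroup.normalizer (A : Set G)) (hB : g ∈ Subgroup.normalizer (B : Set G)) :
    g ∈ Subgroup.normalizer ((A ⊔ B : Subgroup G) : Set G) := by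
  apply mem_normalizer_of_conj_mem
  · exact conj_mem_sup_of_conj_mem (conj_mem_of_mem_normalizer hA) (conj_mem_of_mem_normalizer hB)
  · exact conj_mem_sup_of_conj_mem (conj_mem_of_mem_normalizer (Subgroup.inv_mem _ hA))
      (conj_mem_of_mem_normalizer (Subgroup.inv_mem _ hB))

theorem mem_normalizer_finset_sup {t : Finset (Subgroup G)} {g : G}
    (h : ∀ Q ∈ t, g ∈ Subgroup.normalizer ((Q : Subgroup G) : Set G)) :
    g ∈ Subgroup.normalizer ((t.sup id : Subgroup G) : Set G) := by
  apply Finset.sup_induction (p := fun H : Subgroup G => g ∈ Subgroup.normalizer (H : Set G))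
  · apply mem_normalizer_of_conj_mem
    · intro h hh
      rw [Subgroup.mem_bot] at hh ⊢
      rw [hh]; group
    · intro h hh
      rw [Subgroup.mem_bot] at hh ⊢
      rw [hh]; group
  · intro A hA B hB
    exact mem_normalizer_sup hA hB
  · intro Q hQ
    exact h Q hQ

theorem le_top_of_mem {s : Finset (Subgroup G)} {Q : Subgroup G} (hQ : Q ∈ s) : Q ≤ top s := by
  unfold top
  exact Finset.le_sup (f := id) hQ

/-- the largest member of a chain of the statement is its join -/
theorem top_eq_of_isNChain {s : Finset (Subgroup G)} (hs : IsNChain p s) :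
    ∃ T ∈ s, top s = T ∧ ∀ Q ∈ s, Q ≤ T ∧ T ≤ Subgroup.normalizer ((Q : Subgroup G) : Set G) := by
  obtain ⟨-, -, -, T, hT, hTQ⟩ := hs
  refine ⟨T, hT, ?_, hTQ⟩
  apply le_antisymm
  · unfold top
    exact Finset.sup_le (fun Q hQ => (hTQ Q hQ).1)
  · exact le_top_of_mem hT

theorem top_mem {s : Finset (Subgroup G)} (hs : IsNChain p s) : top s ∈ s := by
  obtain ⟨T, hT, hTe, -⟩ := top_eq_of_isNChain hs
  rw [hTe]
  exact hT

theorem isNChain_of_mem {u : G} {s : Finset (Subgroup G)} (hs : IsUChain p u s) {Q : Subgroup G}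
    (hQ : Q ∈ s) : IsNChain p s := by
  rcases hs.1 with h | h
  · rw [h] at hQ
    exact absurd hQ (Finset.notMem_empty Q)
  · exact h

theorem top_le_normalizer {u : G} {s : Finset (Subgroup G)} (hs : IsUChain p u s)
    {Q : Subgroup G} (hQ : Q ∈ s) : top s ≤ Subgroup.normalizer (Q : Set G) := by
  obtain ⟨T, -, hTe, hTQ⟩ := top_eq_of_isNChain (isNChain_of_mem hs hQ)
  rw [hTe]
  exact (hTQ Q hQ).2

theorem isPGroup_top {u : G} {s : Finset (Subgroup G)} (hs : IsUChain p u s) :
    IsPGroup p (top s) := by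
  rcases hs.1 with h | h
  · rw [h, top_empty]
    exact IsPGroup.of_bot
  · exact (h.2.2.1 _ (top_mem h)).2

theorem mem_normalizer_top {u : G} {s : Finset (Subgroup G)} (hs : IsUChain p u s) :
    u ∈ Subgroup.normalizer (top s : Set G) := by
  unfold top
  exact mem_normalizer_finset_sup hs.2

/-! ### (C0b) STRUCT-low -/

theorem mem_ncl (s : Finset (Subgroup G)) (u : G) : u ∈ ncl s u := by
  unfold ncl
  apply Subgroup.subset_closure
  exact ⟨1, Subgroup.one_mem _, by group⟩

theorem ncl_le_of_mem {u : G} {s : Finset (Subgroup G)} (hs : IsUChain p u s)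
    {Q : Subgroup G} (hQ : Q ∈ s) (hu : u ∈ Q) : ncl s u ≤ Q := by
  unfold ncl
  rw [Subgroup.closure_le]
  rintro y ⟨t, ht, rfl⟩
  exact conj_mem_of_mem_normalizer (top_le_normalizer hs hQ ht) u hu

theorem top_le_normalizer_ncl (s : Finset (Subgroup G)) (u : G) :
    top s ≤ Subgroup.normalizer (ncl s u : Set G) := by
  have key : ∀ t ∈ top s, ∀ h ∈ ncl s u, t * h * t⁻¹ ∈ ncl s u := by
    intro t ht
    unfold ncl
    apply conj_mem_closure_of_conj_mem
    rintro y ⟨t', ht', rfl⟩
    apply Subgroup.subset_closure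
    exact ⟨t * t', Subgroup.mul_mem _ ht ht', by group⟩
  intro t ht
  exact mem_normalizer_of_conj_mem (key t ht) (key t⁻¹ (Subgroup.inv_mem _ ht))

theorem low_le_of_mem {u : G} {s : Finset (Subgroup G)} (hs : IsUChain p u s)
    {Q : Subgroup G} (hQ : Q ∈ s) (hu : u ∈ Q) : low s u ≤ Q := by
  have hch := (isNChain_of_mem hs hQ).2.1
  unfold low
  apply Finset.sup_le
  intro R hR
  rw [Finset.mem_filter] at hR
  rcases hch R hR.1 Q hQ with h | h
  · exact h
  · exact absurd (h hu) hR.2

theorem le_low_of_not_mem {u : G} {s : Finset (Subgroup G)} {Q : Subgroup G} (hQ : Q ∈ s)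
    (hu : u ∉ Q) : Q ≤ low s u := by
  unfold low
  exact Finset.le_sup (f := id) (Finset.mem_filter.2 ⟨hQ, hu⟩)

theorem low_eq_bot_or_mem {u : G} {s : Finset (Subgroup G)} (hs : IsUChain p u s) :
    low s u = ⊥ ∨ (low s u ∈ s ∧ u ∉ low s u) := by
  rcases Finset.eq_empty_or_nonempty (s.filter (fun Q : Subgroup G => u ∉ Q)) with h0 | h0
  · left
    unfold low
    rw [h0]
    exact Finset.sup_empty
  · right
    obtain ⟨R, hR⟩ := h0
    have hch := (isNChain_of_mem hs (Finset.mem_filter.1 hR).1).2.1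
    have hm : (s.filter (fun Q : Subgroup G => u ∉ Q)).sup id ∈
        s.filter (fun Q : Subgroup G => u ∉ Q) :=
      sup_mem_of_chain _ ⟨R, hR⟩ (fun Q hQ R hR =>
        hch Q (Finset.mem_filter.1 hQ).1 R (Finset.mem_filter.1 hR).1)
    exact Finset.mem_filter.1 hm

theorem not_mem_low {u : G} (hu1 : u ≠ 1) {s : Finset (Subgroup G)} (hs : IsUChain p u s) :
    u ∉ low s u := by
  rcases low_eq_bot_or_mem hs with h | h
  · rw [h, Subgroup.mem_bot]
    exact hu1
  · exact h.2

theorem isPGroup_top_sup_ncl {u : G} (hu : ∃ k : ℕ, orderOf u = p ^ k)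
    {s : Finset (Subgroup G)} (hs : IsUChain p u s) : IsPGroup p (top s ⊔ ncl s u : Subgroup G) := by
  have hZ : IsPGroup p (Subgroup.zpowers u) := by
    obtain ⟨k, hk⟩ := hu
    apply IsPGroup.of_card (n := k)
    rw [Nat.card_zpowers, hk]
  have hZT : Subgroup.zpowers u ≤ Subgroup.normalizer (top s : Set G) := by
    rw [Subgroup.zpowers_le]
    exact mem_normalizer_top hs
  have hP : IsPGroup p (top s ⊔ Subgroup.zpowers u : Subgroup G) :=
    (isPGroup_top hs).to_sup_of_normal_left' hZ hZT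
  apply hP.to_le
  apply sup_le le_sup_left
  unfold ncl
  rw [Subgroup.closure_le]
  rintro y ⟨t, ht, rfl⟩
  have h1 : t ∈ top s ⊔ Subgroup.zpowers u := Subgroup.mem_sup_left ht
  have h2 : u ∈ top s ⊔ Subgroup.zpowers u := Subgroup.mem_sup_right (Subgroup.mem_zpowers u)
  exact Subgroup.mul_mem _ (Subgroup.mul_mem _ h1 h2) (Subgroup.inv_mem _ h1)

end chains

end Cfsg.Agent.Lib.H25.KR
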