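import Cfsg.Agent.Lib.H10.S4415Defs

/-!
# S4415, BAD case, step (B3): the linear-algebra core

In the `LinCtx` / `QData` frame: if for some `g ∈ R` the commutator `h = g⁻¹ b⁻¹ g b` satisfies
`h² = -1` on `W`, then `dim W = 4`.

* `lin_indep_e` : `e₁, e₂, e₃` are linearly independent (distinct `Q`-characters);
* `finrank_ge_three` : `3 ≤ dim W`;
* `b_sub_one_mem` : `(b - 1) W ≤ span {e₂ - e₁, e₃ - e₂}`;
* `finrank_le_four` : `dim W ≤ 4` (`h - 1` is injective on `W` with values in the sum of two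
  subspaces of dimension at most `2`);
* `finrank_eq_four` : `dim W = 4` (`det(h|W)² = (-1)^dim W` and `-1` is not a square in `F_3`).
-/

set_option autoImplicit false

namespace Cfsg.Agent.Lib.H25.S4415B3

open Cfsg.Agent.Lib.H10.S4415

variable {S E : Type*} [Group S] [AddCommGroup E] [Module (ZMod 3) E]
variable {ρ : Representation (ZMod 3) S E} {R : Subgroup S} {b : S}
  {W : Submodule (ZMod 3) E} {x₁ x₂ x₃ : S} {e₁ e₂ e₃ : E}

theorem rho_mul (ρ : Representation (ZMod 3) S E) (g h : S) (v : E) : ρ (g * h) v = ρ g (ρ h v) := by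
  rw [map_mul]; rfl

theorem rho_inv_cancel (ρ : Representation (ZMod 3) S E) (g : S) (v : E) : ρ g⁻¹ (ρ g v) = v := by
  rw [← rho_mul, inv_mul_cancel, map_one]; rfl

theorem rho_cancel_inv (ρ : Representation (ZMod 3) S E) (g : S) (v : E) : ρ g (ρ g⁻¹ v) = v := by
  rw [← rho_mul, mul_inv_cancel, map_one]; rfl

theorem zmod3_two_mul {c : ZMod 3} (h : 2 * c = 0) : c = 0 := by
  revert c; decide

theorem e₂_ne (hQ : QData ρ R b W x₁ x₂ x₃ e₁ e₂ e₃) : e₂ ≠ 0 := by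
  intro h
  apply hQ.e₁ne
  rw [← hQ.be₃, ← hQ.be₂, h, map_zero, map_zero]

theorem e₃_ne (hQ : QData ρ R b W x₁ x₂ x₃ e₁ e₂ e₃) : e₃ ≠ 0 := by
  intro h
  apply hQ.e₁ne
  rw [← hQ.be₃, h, map_zero]

/-- `e₁, e₂, e₃` are linearly independent -/
theorem lin_indep_e (hQ : QData ρ R b W x₁ x₂ x₃ e₁ e₂ e₃) (c₁ c₂ c₃ : ZMod 3)
    (h : c₁ • e₁ + c₂ • e₂ + c₃ • e₃ = 0) : c₁ = 0 ∧ c₂ = 0 ∧ c₃ = 0 := by
  have h1 : c₁ • e₁ - c₂ • e₂ - c₃ • e₃ = 0 := by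
    have := congrArg (ρ x₁) h
    rw [map_add, map_add, map_smul, map_smul, map_smul, hQ.x₁e₁, hQ.x₁e₂, hQ.x₁e₃, map_zero] at this
    rw [← this]; simp only [smul_neg]; abel
  have h2 : -(c₁ • e₁) + c₂ • e₂ - c₃ • e₃ = 0 := by
    have := congrArg (ρ x₂) h
    rw [map_add, map_add, map_smul, map_smul, map_smul, hQ.x₂e₁, hQ.x₂e₂, hQ.x₂e₃, map_zero] at this
    rw [← this]; simp only [smul_neg]; abel
  have h3 : -(c₁ • e₁) - c₂ • e₂ + c₃ • e₃ = 0 := by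
    have := congrArg (ρ x₃) h
    rw [map_add, map_add, map_smul, map_smul, map_smul, hQ.x₃e₁, hQ.x₃e₂, hQ.x₃e₃, map_zero] at this
    rw [← this]; simp only [smul_neg]; abel
  have k1 : (2 * c₁) • e₁ = 0 := by
    have : (2 * c₁) • e₁ = (c₁ • e₁ + c₂ • e₂ + c₃ • e₃) + (c₁ • e₁ - c₂ • e₂ - c₃ • e₃) := by
      rw [mul_smul, two_smul]; abel
    rw [this, h, h1, add_zero]
  have k2 : (2 * c₂) • e₂ = 0 := by
    have : (2 * c₂) • e₂ = (c₁ • e₁ + c₂ • e₂ + c₃ • e₃) + (-(c₁ • e₁) + c₂ • e₂ - c₃ • e₃) := by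
      rw [mul_smul, two_smul]; abel
    rw [this, h, h2, add_zero]
  have k3 : (2 * c₃) • e₃ = 0 := by
    have : (2 * c₃) • e₃ = (c₁ • e₁ + c₂ • e₂ + c₃ • e₃) + (-(c₁ • e₁) - c₂ • e₂ + c₃ • e₃) := by
      rw [mul_smul, two_smul]; abel
    rw [this, h, h3, add_zero]
  refine ⟨?_, ?_, ?_⟩
  · rcases smul_eq_zero.1 k1 with h | h
    · exact zmod3_two_mul h
    · exact absurd h hQ.e₁ne
  · rcases smul_eq_zero.1 k2 with h | h
    · exact zmod3_two_mul h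
    · exact absurd h (e₂_ne hQ)
  · rcases smul_eq_zero.1 k3 with h | h
    · exact zmod3_two_mul h
    · exact absurd h (e₃_ne hQ)

/-- `3 ≤ dim W` -/
theorem finrank_ge_three [Finite E] (hQ : QData ρ R b W x₁ x₂ x₃ e₁ e₂ e₃) :
    3 ≤ Module.finrank (ZMod 3) W := by
  have hli : LinearIndependent (ZMod 3)
      (![⟨e₁, hQ.e₁W⟩, ⟨e₂, hQ.e₂W⟩, ⟨e₃, hQ.e₃W⟩] : Fin 3 → W) := by
    rw [Fintype.linearIndependent_iff]
    intro c hc
    rw [Fin.sum_univ_three] at hc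
    have hc' : c 0 • e₁ + c 1 • e₂ + c 2 • e₃ = 0 := by
      have := congrArg (Subtype.val : W → E) hc
      simpa using this
    obtain ⟨h0, h1, h2⟩ := lin_indep_e hQ _ _ _ hc'
    intro i
    fin_cases i
    · exact h0
    · exact h1
    · exact h2
  have := hli.fintype_card_le_finrank
  simpa using this

/-- the span of `e₂ - e₁, e₃ - e₂` (the image of `b - 1` on `W`) -/
def D (e₁ e₂ e₃ : E) : Submodule (ZMod 3) E := Submodule.span (ZMod 3) {e₂ - e₁, e₃ - e₂}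

theorem finrank_D_le [Finite E] (e₁ e₂ e₃ : E) : Module.finrank (ZMod 3) (D e₁ e₂ e₃) ≤ 2 := by
  classical
  have h := finrank_span_finset_le_card (R := ZMod 3) ({e₂ - e₁, e₃ - e₂} : Finset E)
  have h2 : (({e₂ - e₁, e₃ - e₂} : Finset E) : Set E) = {e₂ - e₁, e₃ - e₂} := by simp
  rw [h2] at h
  exact h.trans Finset.card_le_two

/-- `(b - 1) W ≤ D` -/
theorem b_sub_one_mem (hQ : QData ρ R b W x₁ x₂ x₃ e₁ e₂ e₃) {w : E} (hw : w ∈ W) :
    ρ b w - w ∈ D e₁ e₂ e₃ := by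
  obtain ⟨w₀, -, c₁, c₂, c₃, rfl, -, -, -, hb0⟩ := hQ.decomp w hw
  have h1 : ρ b (w₀ + c₁ • e₁ + c₂ • e₂ + c₃ • e₃) - (w₀ + c₁ • e₁ + c₂ • e₂ + c₃ • e₃) =
      (c₁ - c₃) • (e₂ - e₁) + (c₂ - c₃) • (e₃ - e₂) := by
    rw [map_add, map_add, map_add, map_smul, map_smul, map_smul, hb0, hQ.be₁, hQ.be₂, hQ.be₃]
    simp only [sub_smul, smul_sub]
    abel
  rw [h1]
  exact (D e₁ e₂ e₃).add_mem
    ((D e₁ e₂ e₃).smul_mem _ (Submodule.subset_span (by simp)))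
    ((D e₁ e₂ e₃).smul_mem _ (Submodule.subset_span (by simp)))

theorem b_mem_RB (R : Subgroup S) (b : S) : b ∈ RB R b :=
  Subgroup.mem_sup_right (Subgroup.mem_zpowers b)

theorem mem_RB_of_mem {R : Subgroup S} (b : S) {g : S} (hg : g ∈ R) : g ∈ RB R b :=
  Subgroup.mem_sup_left hg

/-- `(b⁻¹ - 1) W ≤ D` -/
theorem binv_sub_one_mem (hL : LinCtx ρ R b W) (hQ : QData ρ R b W x₁ x₂ x₃ e₁ e₂ e₃) {w : E}
    (hw : w ∈ W) : ρ b⁻¹ w - w ∈ D e₁ e₂ e₃ := by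
  have hbi : ρ b⁻¹ w ∈ W := hL.W_inv b⁻¹ ((RB R b).inv_mem (b_mem_RB R b)) w hw
  have h1 := b_sub_one_mem hQ hbi
  rw [rho_cancel_inv] at h1
  have h2 : ρ b⁻¹ w - w = -(w - ρ b⁻¹ w) := by abel
  rw [h2]
  exact (D e₁ e₂ e₃).neg_mem h1

/-- `dim W ≤ 4` -/
theorem finrank_le_four [Finite E] (hL : LinCtx ρ R b W) (hQ : QData ρ R b W x₁ x₂ x₃ e₁ e₂ e₃)
    (g : S) (hg : g ∈ R)
    (hsq : ∀ w ∈ W, ρ (g⁻¹ * b⁻¹ * g * b) (ρ (g⁻¹ * b⁻¹ * g * b) w) = -w) :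
    Module.finrank (ZMod 3) W ≤ 4 := by
  have hgRB : g ∈ RB R b := mem_RB_of_mem b hg
  set D' : Submodule (ZMod 3) E := (D e₁ e₂ e₃).map (ρ g⁻¹) with hD'
  -- values of `h - 1` on `W`
  have hval : ∀ w ∈ W, ρ (g⁻¹ * b⁻¹ * g * b) w - w ∈ D' ⊔ D e₁ e₂ e₃ := by
    intro w hw
    have hbw : ρ b w ∈ W := hL.W_inv b (b_mem_RB R b) w hw
    have hgbw : ρ g (ρ b w) ∈ W := hL.W_inv g hgRB _ hbw
    have h1 : ρ (g⁻¹ * b⁻¹ * g * b) w - w =
        ρ g⁻¹ (ρ b⁻¹ (ρ g (ρ b w)) - ρ g (ρ b w)) + (ρ b w - w) := by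
      rw [rho_mul, rho_mul, rho_mul, map_sub, rho_inv_cancel]; abel
    rw [h1]
    refine Submodule.add_mem_sup ?_ (b_sub_one_mem hQ hw)
    exact Submodule.mem_map_of_mem (binv_sub_one_mem hL hQ hgbw)
  -- the map `h - 1 : W → D' ⊔ D` is injective
  let f : W →ₗ[ZMod 3] E := (ρ (g⁻¹ * b⁻¹ * g * b) - 1).comp W.subtype
  have hf : ∀ w : W, f w ∈ D' ⊔ D e₁ e₂ e₃ := fun w => hval w w.2
  let f' : W →ₗ[ZMod 3] ↥(D' ⊔ D e₁ e₂ e₃) := f.codRestrict _ hf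
  have hinj : Function.Injective f' := by
    rw [← LinearMap.ker_eq_bot, LinearMap.ker_eq_bot']
    intro w hw
    have h1 : ρ (g⁻¹ * b⁻¹ * g * b) (w : E) - (w : E) = 0 := by
      have := congrArg (Subtype.val) hw
      simpa [f', f] using this
    have h2 : ρ (g⁻¹ * b⁻¹ * g * b) (w : E) = (w : E) := sub_eq_zero.1 h1
    have h3 := hsq w w.2
    rw [h2, h2] at h3
    -- `w = -w` in characteristic `3`
    have h4 : (2 : ZMod 3) • (w : E) = 0 := by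
      rw [two_smul]; nth_rewrite 1 [h3]; simp
    rcases smul_eq_zero.1 h4 with h5 | h5
    · exact absurd h5 (by decide)
    · exact Subtype.ext h5
  have h1 := LinearMap.finrank_le_finrank_of_injective hinj
  have h2 : Module.finrank (ZMod 3) ↥(D' ⊔ D e₁ e₂ e₃) ≤
      Module.finrank (ZMod 3) D' + Module.finrank (ZMod 3) (D e₁ e₂ e₃) :=
    Submodule.finrank_add_le_finrank_add_finrank _ _
  have h3 : Module.finrank (ZMod 3) D' ≤ 2 := by
    rw [hD']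
    exact (Submodule.finrank_map_le _ _).trans (finrank_D_le e₁ e₂ e₃)
  have h4 := finrank_D_le e₁ e₂ e₃
  omega

/-- `-1` is not a square in `F_3` -/
theorem zmod3_sq_ne (d : ZMod 3) : d * d ≠ -1 := by
  revert d; decide

/-- `dim W = 4` -/
theorem finrank_eq_four [Finite E] (hL : LinCtx ρ R b W) (hQ : QData ρ R b W x₁ x₂ x₃ e₁ e₂ e₃)
    (g : S) (hg : g ∈ R)
    (hsq : ∀ w ∈ W, ρ (g⁻¹ * b⁻¹ * g * b) (ρ (g⁻¹ * b⁻¹ * g * b) w) = -w) :
    Module.finrank (ZMod 3) W = 4 := by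
  have h3 := finrank_ge_three hQ
  have h4 := finrank_le_four hL hQ g hg hsq
  have hmem : g⁻¹ * b⁻¹ * g * b ∈ RB R b := by
    have hgRB : g ∈ RB R b := mem_RB_of_mem b hg
    have hb := b_mem_RB R b
    exact (RB R b).mul_mem ((RB R b).mul_mem ((RB R b).mul_mem ((RB R b).inv_mem hgRB)
      ((RB R b).inv_mem hb)) hgRB) hb
  -- the restriction of `h` to `W`
  let hW : W →ₗ[ZMod 3] W := (ρ (g⁻¹ * b⁻¹ * g * b)).restrict (fun w hw => hL.W_inv _ hmem w hw)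
  have hsqW : hW * hW = (-1 : ZMod 3) • (1 : W →ₗ[ZMod 3] W) := by
    apply LinearMap.ext
    intro w
    apply Subtype.ext
    have := hsq w w.2
    simpa [hW] using this
  have hdet : LinearMap.det hW * LinearMap.det hW = (-1 : ZMod 3) ^ Module.finrank (ZMod 3) W := by
    rw [← map_mul, hsqW, LinearMap.det_smul, map_one, mul_one]
  by_contra hne
  have h5 : Module.finrank (ZMod 3) W = 3 := by omega
  rw [h5] at hdet
  have : ((-1 : ZMod 3)) ^ 3 = -1 := by decide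
  rw [this] at hdet
  exact zmod3_sq_ne _ hdet

end Cfsg.Agent.Lib.H25.S4415B3
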