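import Mathlib

/-!
# S5401 (helper17 architect), piece S5401-CENT (helper25): in a faithful primitive action, a non-trivial element fixing `z`
and centralised by the stabiliser of `z` has centraliser exactly that stabiliser.
-/

set_option autoImplicit false

namespace Cfsg.Agent.Lib.H25.FT

/-- **S5401-CENT**. -/
theorem smul_eq_of_commute {G : Type*} {X : Type*} [Group G] [MulAction G X] [FaithfulSMul G X]
    [MulAction.IsPreprimitive G X] (z : X) (t : G) (ht : t ≠ 1) (htz : t • z = z)
    (hstab : ∀ g : G, g • z = z → g * t = t * g) :
    ∀ g : G, g * t = t * g → g • z = z := by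
  have hnt : Nontrivial X := by
    by_contra h
    rw [not_nontrivial_iff_subsingleton] at h
    apply ht
    apply FaithfulSMul.eq_of_smul_eq_smul (α := X)
    intro x
    exact Subsingleton.elim _ _
  have hco : IsCoatom (MulAction.stabilizer G z) :=
    MulAction.IsPreprimitive.isCoatom_stabilizer_of_isPreprimitive (G := G) (X := X) z
  have hle : MulAction.stabilizer G z ≤ Subgroup.centralizer ({t} : Set G) := by
    intro g hg
    rw [Subgroup.mem_centralizer_iff]
    intro x hx
    rw [Set.mem_singleton_iff] at hx
    subst hx
    exact (hstab g (MulAction.mem_stabilizer_iff.1 hg)).symm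
  have hne : Subgroup.centralizer ({t} : Set G) ≠ ⊤ := by
    intro htop
    apply ht
    apply FaithfulSMul.eq_of_smul_eq_smul (α := X)
    intro x
    obtain ⟨g, rfl⟩ := MulAction.exists_smul_eq G z x
    have hg : g ∈ Subgroup.centralizer ({t} : Set G) := by
      rw [htop]
      exact Subgroup.mem_top g
    rw [Subgroup.mem_centralizer_iff] at hg
    have h1 : t * g = g * t := hg t (Set.mem_singleton t)
    rw [one_smul, ← mul_smul, h1, mul_smul, htz]
  have heq : MulAction.stabilizer G z = Subgroup.centralizer ({t} : Set G) := by
    by_contra hneq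
    exact hne (hco.2 _ (lt_of_le_of_ne hle hneq))
  intro g hg
  have : g ∈ Subgroup.centralizer ({t} : Set G) := by
    rw [Subgroup.mem_centralizer_iff]
    intro x hx
    rw [Set.mem_singleton_iff] at hx
    subst hx
    exact hg.symm
  rw [← heq] at this
  exact MulAction.mem_stabilizer_iff.1 this

end Cfsg.Agent.Lib.H25.FT
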