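import Mathlib

/-!
# S5401 (helper17 architect), piece S5401-BLK (helper25): the block homomorphism of a permutation group whose generators
permute the fibres of a surjection.
-/

set_option autoImplicit false

namespace Cfsg.Agent.Lib.H25.FT

/-- the subgroup of permutations permuting the fibres of `b` -/
def blockSubgroup {X : Type*} {Y : Type*} (b : X → Y) : Subgroup (Equiv.Perm X) where
  carrier := {π | ∃ β : Equiv.Perm Y, ∀ x, b (π x) = β (b x)}
  one_mem' := ⟨1, fun x => rfl⟩
  mul_mem' := by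
    rintro π π' ⟨β, hβ⟩ ⟨β', hβ'⟩
    refine ⟨β * β', fun x => ?_⟩
    rw [Equiv.Perm.mul_apply, hβ, hβ', Equiv.Perm.mul_apply]
  inv_mem' := by
    rintro π ⟨β, hβ⟩
    refine ⟨β⁻¹, fun x => ?_⟩
    rw [Equiv.Perm.eq_inv_iff_eq, ← hβ]
    simp

/-- **S5401-BLK**.  A permutation group whose generators permute the fibres of a surjection `b` acts on the set of
fibres. -/
theorem exists_blockHom {X : Type*} {Y : Type*} (b : X → Y) (hb : Function.Surjective b)
    (S : Set (Equiv.Perm X)) (hS : ∀ σ ∈ S, ∃ β : Equiv.Perm Y, ∀ x, b (σ x) = β (b x)) :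
    ∃ θ : ↥(Subgroup.closure S) →* Equiv.Perm Y,
      ∀ (π : ↥(Subgroup.closure S)) (x : X), b ((π : Equiv.Perm X) x) = θ π (b x) := by
  classical
  have hle : Subgroup.closure S ≤ blockSubgroup b := by
    rw [Subgroup.closure_le]
    intro σ hσ
    exact hS σ hσ
  have hex : ∀ π : ↥(Subgroup.closure S), ∃ β : Equiv.Perm Y, ∀ x, b ((π : Equiv.Perm X) x) = β (b x) :=
    fun π => hle π.2
  let f : ↥(Subgroup.closure S) → Equiv.Perm Y := fun π => Classical.choose (hex π)
  have hf : ∀ (π : ↥(Subgroup.closure S)) (x : X), b ((π : Equiv.Perm X) x) = f π (b x) :=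
    fun π => Classical.choose_spec (hex π)
  refine ⟨MonoidHom.mk' f ?_, hf⟩
  intro π π'
  apply Equiv.ext
  intro y
  obtain ⟨x, rfl⟩ := hb y
  rw [Equiv.Perm.mul_apply, ← hf, ← hf, ← hf]
  rfl

end Cfsg.Agent.Lib.H25.FT
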