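import Mathlib
import Cfsg.Agent.Lib.H11.SubspMax2

/-!
# S5665 (`GU_m(q).2 < Sp_2m(q)`, `q` odd, `m ≥ 7`): definitions (helper25, architect)

`V = F^(2m)` with the standard alternating form `f = sympForm m F`; `J` generates the quadratic field
`K = F + F J` (`J² = d`, `d` a non-square, `J* = -J`).  `B(x, y) = f(x, J y)` is a non-degenerate
symmetric form, `x` is *singular* if `f(x, J x) = 0` (`K x` is a totally isotropic line, an isotropic
`K`-point).  The unitary transvections are `utv w c = t_{Jw}(c) t_w(-dc)` (`w` singular), where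
`t_v(c) = stv v c : x ↦ x + c f(x, v) v` (helper11, `Lib/H11/SubspMax2`, with `Scl H` = the set of `v` with
`t_v(c) ∈ H` for all `c`).
-/

set_option autoImplicit false
set_option linter.unusedSimpArgs false
set_option linter.unusedSectionVars false
set_option linter.unusedVariables false

namespace Cfsg.Agent.Lib.H25.Gs

open Matrix Module
open Cfsg Cfsg.Geo
open Cfsg.Agent.Lib.H11.SubspMax

section defs

variable {F : Type*} [Field F] {m : ℕ}

/-- `J` generates a quadratic field of unitary kind in the symplectic algebra -/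
structure SJ (m : ℕ) (J : Matrix (Fin m ⊕ Fin m) (Fin m ⊕ Fin m) F) (d : F) : Prop where
  hm : 7 ≤ m
  two : (2 : F) ≠ 0
  sq : ∀ x : Fin m ⊕ Fin m → F, J *ᵥ (J *ᵥ x) = d • x
  nsq : ∀ l : F, l ^ 2 ≠ d
  adj : ∀ x y : Fin m ⊕ Fin m → F,
    Cfsg.sympForm m F (J *ᵥ x) y = - Cfsg.sympForm m F x (J *ᵥ y)

/-- `w` is singular: `f(w, J w) = 0` -/
def Sing (J : Matrix (Fin m ⊕ Fin m) (Fin m ⊕ Fin m) F) (w : Fin m ⊕ Fin m → F) : Prop :=
  Cfsg.sympForm m F w (J *ᵥ w) = 0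

/-- the symmetric form `B(x, y) = f(x, J y)` -/
def Bf (J : Matrix (Fin m ⊕ Fin m) (Fin m ⊕ Fin m) F) (x y : Fin m ⊕ Fin m → F) : F :=
  Cfsg.sympForm m F x (J *ᵥ y)

/-- `y ∈ K a = span{a, J a}` -/
def InK (J : Matrix (Fin m ⊕ Fin m) (Fin m ⊕ Fin m) F) (a y : Fin m ⊕ Fin m → F) : Prop :=
  ∃ α β : F, y = α • a + β • J *ᵥ a

/-- the unitary transvection `t_{Jw}(c) t_w(-dc)` -/
noncomputable def utv (J : Matrix (Fin m ⊕ Fin m) (Fin m ⊕ Fin m) F) (d : F)
    (w : Fin m ⊕ Fin m → F) (c : F) : GL (Fin m ⊕ Fin m) F :=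
  stv (J *ᵥ w) c * stv w (-(d * c))

/-- `H` contains the unitary transvections -/
def HasU (H : Subgroup (GL (Fin m ⊕ Fin m) F)) (J : Matrix (Fin m ⊕ Fin m) (Fin m ⊕ Fin m) F)
    (d : F) : Prop :=
  ∀ w : Fin m ⊕ Fin m → F, Sing J w → ∀ c : F, utv J d w c ∈ H

/-- the twisted root group `s ↦ t_{u'}(s) t_u(-ds)` lies in `H` -/
def InA (H : Subgroup (GL (Fin m ⊕ Fin m) F)) (d : F) (u u' : Fin m ⊕ Fin m → F) : Prop :=
  ∀ s : F, stv u' s * stv u (-(d * s)) ∈ H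

/-- the existence toolkit for the quadratic form `x ↦ f(x, J x) / 2` (polar form `B`), transported from
helper11 / helper24 / helper25 lemmas on `Fin n → F` -/
structure GeoS (m : ℕ) (J : Matrix (Fin m ⊕ Fin m) (Fin m ⊕ Fin m) F) : Prop where
  /-- a hyperbolic pair orthogonal to finitely many vectors -/
  hyp : ∀ {k : ℕ} (vs : Fin k → Fin m ⊕ Fin m → F), 2 * k + 3 ≤ 2 * m →
    ∃ e f₀ : Fin m ⊕ Fin m → F, Sing J e ∧ Sing J f₀ ∧ Bf J e f₀ = 1 ∧
      (∀ i, Bf J (vs i) e = 0) ∧ ∀ i, Bf J (vs i) f₀ = 0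
  /-- singular separation -/
  sep : ∀ {k : ℕ} (vs : Fin k → Fin m ⊕ Fin m → F), 2 * (k + 1) + 3 ≤ 2 * m →
    ∀ y : Fin m ⊕ Fin m → F, y ∉ Submodule.span F (Set.range vs) →
    ∃ w : Fin m ⊕ Fin m → F, Sing J w ∧ (∀ i, Bf J (vs i) w = 0) ∧ Bf J w y ≠ 0
  /-- a singular vector with prescribed pairings against an independent family -/
  pairing : ∀ {k : ℕ} (x : Fin k → Fin m ⊕ Fin m → F), LinearIndependent F x →
    ∀ t : Fin k → F, 2 * (k + 1) + 3 ≤ 2 * m →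
    ∃ v : Fin m ⊕ Fin m → F, Sing J v ∧ ∀ j, Bf J v (x j) = t j

end defs

end Cfsg.Agent.Lib.H25.Gs
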