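import Mathlib
import Cfsg.Prelude.Def_RootSubgroups
import Cfsg.Agent.Lib.H25.RankOne

set_option autoImplicit false

/-! Rank one groups: normal subgroups, centre (Timmesfeld I.1.10). -/

namespace Cfsg.Agent.Lib.H25

open Cfsg
open scoped commutatorElement

namespace RankOne

variable {G : Type*} [Group G] {A B : Subgroup G}

/-- `B` is a conjugate of `A` by an element of `A ⊔ B`. -/
theorem exists_conj_eq_right (h : IsRankOnePair A B) : ∃ x ∈ A ⊔ B, B = conjBy A x :=
  right_mem_unipotentSubgroups h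

/-- A subgroup `K` containing `A` and an element of `A ⊔ B` that moves `A` contains `B`
(when `K` is normalised suitably): if `n ∈ K` and `conjBy A n ≠ A` then `B ≤ K ⊔ A`. -/
theorem right_le_sup_of_moves (h : IsRankOnePair A B) {K : Subgroup G} {n : G} (hn : n ∈ K)
    (hnX : n ∈ A ⊔ B) (hmove : conjBy A n ≠ A) : B ≤ K ⊔ A := by
  have hmem : conjBy A n ∈ orbitSet A B := by
    rw [← unipotentSubgroups_eq h]
    exact ⟨n, hnX, rfl⟩
  rcases hmem with h1 | ⟨a, ha, h1⟩
  · exact absurd h1 hmove
  · have hB : B = conjBy A (a⁻¹ * n) := by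
      rw [← conjBy_conjBy, h1, conjBy_conjBy]; simp [conjBy_one]
    rw [hB]
    exact conjBy_le_of_le le_sup_right
      ((K ⊔ A).mul_mem (Subgroup.mem_sup_right (A.inv_mem ha)) (Subgroup.mem_sup_left hn))

/-- A normal subgroup (normalised by `A ⊔ B`) normalising `A` also normalises `B`. -/
theorem le_normalizer_right_of_le_normalizer_left (h : IsRankOnePair A B) {N : Subgroup G}
    (hnorm : ∀ x ∈ A ⊔ B, ∀ n ∈ N, x⁻¹ * n * x ∈ N)
    (hNA : N ≤ Subgroup.normalizer (A : Set G)) : N ≤ Subgroup.normalizer (B : Set G) := by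
  obtain ⟨x, hx, hB⟩ := exists_conj_eq_right h
  intro n hn
  rw [hB, normalizer_conjBy]
  exact hNA (hnorm x hx n hn)

/-- If `N` is normalised by `A ⊔ B` and normalises `A`, then `N` centralises `A ⊔ B`. -/
theorem le_centralizer_of_le_normalizer (h : IsRankOnePair A B) {N : Subgroup G}
    (hnorm : ∀ x ∈ A ⊔ B, ∀ n ∈ N, x⁻¹ * n * x ∈ N)
    (hNA : N ≤ Subgroup.normalizer (A : Set G)) :
    N ≤ Subgroup.centralizer ((A ⊔ B : Subgroup G) : Set G) := by
  have hNB := le_normalizer_right_of_le_normalizer_left h hnorm hNA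
  -- generic: N ∩ A ⊆ A ∩ N(B) = 1
  have key : ∀ {A B : Subgroup G}, IsRankOnePair A B → (∀ x ∈ A ⊔ B, ∀ n ∈ N, x⁻¹ * n * x ∈ N) →
      N ≤ Subgroup.normalizer (A : Set G) → N ≤ Subgroup.normalizer (B : Set G) →
      ∀ n ∈ N, ∀ a ∈ A, a * n = n * a := by
    intro A B h hnorm hNA hNB n hn a ha
    -- c = n * a * n⁻¹ * a⁻¹ lies in N and in A
    have hcA : n * a * n⁻¹ * a⁻¹ ∈ A := by
      have : n * a * n⁻¹ ∈ A := ((Subgroup.mem_normalizer_iff).mp (hNA hn) a).mp ha
      exact A.mul_mem this (A.inv_mem ha)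
    have hcN : n * a * n⁻¹ * a⁻¹ ∈ N := by
      have h1 : (a⁻¹)⁻¹ * n⁻¹ * a⁻¹ ∈ N :=
        hnorm a⁻¹ (Subgroup.mem_sup_left (A.inv_mem ha)) n⁻¹ (N.inv_mem hn)
      have := N.mul_mem hn h1
      simpa [mul_assoc] using this
    have h1 : n * a * n⁻¹ * a⁻¹ = 1 := eq_one_of_mem_normalizer h hcA (hNB hcN)
    have : n * a = a * n := by
      have := congrArg (fun t => t * a * n) h1
      simpa [mul_assoc] using this
    exact this.symm
  have hnorm' : ∀ x ∈ B ⊔ A, ∀ n ∈ N, x⁻¹ * n * x ∈ N := by
    intro x hx; rw [sup_comm] at hx; exact hnorm x hx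
  intro n hn
  rw [Subgroup.mem_centralizer_iff]
  intro x hx
  have hx' : x ∈ A ⊔ B := hx
  rw [Subgroup.sup_eq_closure] at hx'
  induction hx' using Subgroup.closure_induction with
  | mem y hy =>
    rcases hy with hy | hy
    · exact key h hnorm hNA hNB n hn y hy
    · exact key (RankOnePair_symm h) hnorm' hNB hNA n hn y hy
  | one => simp
  | mul y z _ _ ihy ihz =>
    have hy : y ∈ A ⊔ B := by rw [Subgroup.sup_eq_closure]; assumption
    have hz : z ∈ A ⊔ B := by rw [Subgroup.sup_eq_closure]; assumption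
    rw [mul_assoc, ihz hz, ← mul_assoc, ihy hy, mul_assoc]
  | inv y _ ihy =>
    have hy : y ∈ A ⊔ B := by rw [Subgroup.sup_eq_closure]; assumption
    have := ihy hy
    have h2 := congrArg (fun t => y⁻¹ * t * y⁻¹) this
    simpa [mul_assoc] using h2.symm

end RankOne

section Group

variable {X : Type*} [Group X] {A B : Subgroup X}

/-- Timmesfeld I.1.10 (1): a normal subgroup `N` of a rank one group either satisfies `N ⊔ A = ⊤`
or is central. -/
theorem rankOne_normal_dichotomy (h : IsRankOneGroup X A B) (N : Subgroup X) [hN : N.Normal] :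
    N ⊔ A = ⊤ ∨ N ≤ Subgroup.center X := by
  obtain ⟨htop, hp⟩ := h
  by_cases hNA : N ≤ Subgroup.normalizer (A : Set X)
  · right
    have hnorm : ∀ x ∈ A ⊔ B, ∀ n ∈ N, x⁻¹ * n * x ∈ N := by
      intro x _ n hn
      have := hN.conj_mem n hn x⁻¹
      simpa using this
    have := RankOne.le_centralizer_of_le_normalizer hp hnorm hNA
    rw [htop, Subgroup.coe_top, Subgroup.centralizer_univ] at this
    exact this
  · left
    obtain ⟨n, hn, hnA⟩ := SetLike.not_le_iff_exists.mp hNA
    have hmove : conjBy A n ≠ A := fun hE => hnA (conjBy_eq_self_iff.mp hE)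
    have hB : B ≤ N ⊔ A := RankOne.right_le_sup_of_moves hp hn (by rw [htop]; trivial) hmove
    rw [eq_top_iff, ← htop]
    exact sup_le le_sup_right hB

theorem rankOne_left_ne_top (h : IsRankOneGroup X A B) : A ≠ ⊤ := by
  intro hA
  have hB : B ≤ B ⊓ Subgroup.normalizer (A : Set X) := by
    refine le_inf le_rfl ?_
    rw [hA, Subgroup.normalizer_eq_top]
    exact le_top
  rw [RankOne.inf_normalizer_eq_bot (RankOnePair_symm h.2)] at hB
  exact RankOne.right_ne_bot h.2 (le_bot_iff.mp hB)

/-- A normal subgroup of a rank one group containing `A` is everything. -/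
theorem rankOne_eq_top_of_normal_of_le (h : IsRankOneGroup X A B) {M : Subgroup X} (hM : M.Normal)
    (hA : A ≤ M) : M = ⊤ := by
  obtain ⟨x, -, hB⟩ := RankOne.exists_conj_eq_right h.2
  rw [eq_top_iff, ← h.1]
  refine sup_le hA ?_
  rw [hB]
  intro y hy
  rw [mem_conjBy] at hy
  have := hM.conj_mem _ (hA hy) x
  simpa [mul_assoc] using this

theorem rankOne_sup_upperCentralSeries_ne_top (h : IsRankOneGroup X A B) (j : ℕ) :
    A ⊔ Subgroup.upperCentralSeries X j ≠ ⊤ := by
  induction j with
  | zero =>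
    rw [Subgroup.upperCentralSeries_zero, sup_bot_eq]
    exact rankOne_left_ne_top h
  | succ j ih =>
    intro htop
    apply ih
    set M := A ⊔ Subgroup.upperCentralSeries X j with hMdef
    -- `M` is normalised by `A` and by `Z_{j+1}`
    have hconj : ∀ z ∈ Subgroup.upperCentralSeries X (j + 1), ∀ x ∈ M, z * x * z⁻¹ ∈ M := by
      intro z hz x hx
      have hc : ⁅z, x⁆ ∈ Subgroup.upperCentralSeries X j :=
        (Subgroup.mem_upperCentralSeries_succ_iff).mp hz x
      have : z * x * z⁻¹ = ⁅z, x⁆ * x := by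
        rw [commutatorElement_def]; group
      rw [this]
      exact M.mul_mem (Subgroup.mem_sup_right hc) hx
    have hnorm : (⊤ : Subgroup X) ≤ Subgroup.normalizer (M : Set X) := by
      rw [← htop]
      refine sup_le (le_trans le_sup_left Subgroup.le_normalizer) ?_
      intro z hz
      rw [Subgroup.mem_normalizer_iff]
      intro x
      constructor
      · exact hconj z hz x
      · intro hx
        have := hconj z⁻¹ (Subgroup.inv_mem _ hz) _ hx
        simpa [mul_assoc] using this
    have hMn : M.Normal := Subgroup.normalizer_eq_top_iff.mp (top_le_iff.mp hnorm)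
    exact rankOne_eq_top_of_normal_of_le h hMn le_sup_left

theorem rankOne_not_isNilpotent (h : IsRankOneGroup X A B) : ¬ Group.IsNilpotent X := by
  intro hnil
  obtain ⟨n, hn⟩ := hnil.nilpotent'
  apply rankOne_sup_upperCentralSeries_ne_top h n
  rw [hn, sup_top_eq]

theorem rankOne_center_ne_top (h : IsRankOneGroup X A B) : Subgroup.center X ≠ ⊤ := by
  intro hc
  apply rankOne_sup_upperCentralSeries_ne_top h 1
  rw [Subgroup.upperCentralSeries_one, hc, sup_top_eq]

end Group

end Cfsg.Agent.Lib.H25
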