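import Mathlib
import Cfsg.Prelude.Def_RootSubgroups
import Cfsg.Agent.Lib.H25.RankOne
import Cfsg.Agent.Lib.H25.RankOneGroup
import Cfsg.Agent.S5014

set_option autoImplicit false

/-! Sets of abstract root subgroups (Timmesfeld II §2): basic lemmas. -/

namespace Cfsg.Agent.Lib.H25

open Cfsg
open scoped commutatorElement

variable {G : Type*} [Group G]

theorem comm_of_isMulCommutative {A : Subgroup G} (h : IsMulCommutative A) {a b : G} (ha : a ∈ A)
    (hb : b ∈ A) : a * b = b * a := by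
  have := h.is_comm.comm (⟨a, ha⟩ : A) ⟨b, hb⟩
  exact congrArg Subtype.val this

namespace RankOne

variable {A B : Subgroup G}

/-- Conjugating a rank one pair gives a rank one pair. -/
theorem isRankOnePair_conj (h : IsRankOnePair A B) (g : G) :
    IsRankOnePair (conjBy A g) (conjBy B g) := by
  have hcond : ∀ {A B : Subgroup G}, RankOneCondition A B →
      RankOneCondition (conjBy A g) (conjBy B g) := by
    intro A B hc a ha ha1
    rw [mem_conjBy] at ha
    have ha1' : g⁻¹ * a * g ≠ 1 := by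
      intro hh
      apply ha1
      have := congrArg (fun t => g * t * g⁻¹) hh
      simpa [mul_assoc] using this
    obtain ⟨b, hb, hb1, hE⟩ := hc _ ha ha1'
    refine ⟨g * b * g⁻¹, ?_, ?_, ?_⟩
    · rw [mem_conjBy]; simpa [mul_assoc] using hb
    · intro hh
      apply hb1
      have := congrArg (fun t => g⁻¹ * t * g) hh
      simpa [mul_assoc] using this
    · rw [conjBy_conjBy, conjBy_conjBy]
      have e1 : (g * b * g⁻¹)⁻¹ * g = g * b⁻¹ := by group
      have e2 : a⁻¹ * g = g * (g⁻¹ * a * g)⁻¹ := by group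
      rw [e1, e2, ← conjBy_conjBy A, ← conjBy_conjBy B, hE]
  refine ⟨?_, ?_, ?_, hcond h.cond_left, hcond h.cond_right⟩
  · intro hE
    exact h.ne (conjBy_injective g hE)
  · have e : A ≃* conjBy A g := A.equivMapOfInjective _ (MulAut.conj g).injective
    exact (Group.isNilpotent_congr e).mp h.nilpotent_left
  · have e : B ≃* conjBy B g := B.equivMapOfInjective _ (MulAut.conj g).injective
    exact (Group.isNilpotent_congr e).mp h.nilpotent_right

/-- Two distinct conjugates of `A` under `A ⊔ B` form a rank one pair generating `A ⊔ B`. -/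
theorem exists_conj_pair (h : IsRankOnePair A B) {C₁ C₂ : Subgroup G}
    (h1 : C₁ ∈ unipotentSubgroups A B) (h2 : C₂ ∈ unipotentSubgroups A B) (hne : C₁ ≠ C₂) :
    ∃ x ∈ A ⊔ B, conjBy A x = C₁ ∧ conjBy B x = C₂ :=
  (Cfsg.Agent.S5014.result h).2.1 A (left_mem_unipotentSubgroups A B) B
    (right_mem_unipotentSubgroups h) C₁ h1 C₂ h2 h.ne hne

theorem isRankOnePair_of_mem (h : IsRankOnePair A B) {C₁ C₂ : Subgroup G}
    (h1 : C₁ ∈ unipotentSubgroups A B) (h2 : C₂ ∈ unipotentSubgroups A B) (hne : C₁ ≠ C₂) :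
    IsRankOnePair C₁ C₂ := by
  obtain ⟨x, -, rfl, rfl⟩ := exists_conj_pair h h1 h2 hne
  exact isRankOnePair_conj h x

theorem sup_eq_of_mem (h : IsRankOnePair A B) {C₁ C₂ : Subgroup G}
    (h1 : C₁ ∈ unipotentSubgroups A B) (h2 : C₂ ∈ unipotentSubgroups A B) (hne : C₁ ≠ C₂) :
    C₁ ⊔ C₂ = A ⊔ B := by
  obtain ⟨x, hx, rfl, rfl⟩ := exists_conj_pair h h1 h2 hne
  rw [← conjBy_sup, conjBy_of_mem hx]

/-- A conjugate of `A` under `A ⊔ B` other than `A` meets the normalizer of `A` trivially. -/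
theorem eq_one_of_mem_of_mem_normalizer (h : IsRankOnePair A B) {C : Subgroup G}
    (hC : C ∈ unipotentSubgroups A B) (hne : C ≠ A) {y : G} (hy : y ∈ C)
    (hn : y ∈ Subgroup.normalizer (A : Set G)) : y = 1 := by
  have hp : IsRankOnePair A C :=
    isRankOnePair_of_mem h (left_mem_unipotentSubgroups A B) hC hne.symm
  exact eq_one_of_mem_normalizer' hp hy hn

/-- In a rank one pair no non-identity element of `A` commutes with a non-identity element
of `B`. -/
theorem eq_one_of_commute (h : IsRankOnePair A B) {a b : G} (ha : a ∈ A) (ha1 : a ≠ 1) (hb : b ∈ B)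
    (hab : a * b = b * a) : b = 1 := by
  obtain ⟨β, hβ, -, hE⟩ := h.cond_left a ha ha1
  -- `b` normalizes `conjBy B a⁻¹ = conjBy A β⁻¹`
  have h1 : b ∈ Subgroup.normalizer (conjBy B a⁻¹ : Set G) := by
    rw [normalizer_conjBy]
    have : a⁻¹⁻¹ * b * a⁻¹ = b := by
      rw [inv_inv, hab, mul_assoc, mul_inv_cancel, mul_one]
    rw [this]
    exact Subgroup.le_normalizer hb
  rw [← hE, normalizer_conjBy] at h1
  have h2 : β⁻¹⁻¹ * b * β⁻¹ ∈ B := B.mul_mem (B.mul_mem (by simpa using hβ) hb) (B.inv_mem hβ)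
  have h3 := eq_one_of_mem_normalizer' h h2 h1
  have := congrArg (fun t => β⁻¹ * t * β) h3
  simpa [mul_assoc] using this

/-- Key lemma for the commutator case: if `d = a b' a⁻¹ b'⁻¹` (`a ∈ A#`, `b' ∈ B`) commutes with
`a` and centralizes `B`, then `d = 1`. -/
theorem commutator_eq_one_of_central (h : IsRankOnePair A B) {a b' : G} (ha : a ∈ A) (ha1 : a ≠ 1)
    (hb' : b' ∈ B) (hda : (a * b' * a⁻¹ * b'⁻¹) * a = a * (a * b' * a⁻¹ * b'⁻¹))
    (hdB : ∀ y ∈ B, (a * b' * a⁻¹ * b'⁻¹) * y = y * (a * b' * a⁻¹ * b'⁻¹)) :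
    a * b' * a⁻¹ * b'⁻¹ = 1 := by
  by_contra hd1
  set d := a * b' * a⁻¹ * b'⁻¹ with hd
  obtain ⟨β, hβ, -, hE⟩ := h.cond_left a ha ha1
  -- `d` normalizes `conjBy B a⁻¹`
  have h1 : d ∈ Subgroup.normalizer (conjBy B a⁻¹ : Set G) := by
    rw [normalizer_conjBy]
    have e : a⁻¹⁻¹ * d * a⁻¹ = d := by
      rw [inv_inv, ← hda, mul_assoc, mul_inv_cancel, mul_one]
    rw [e]
    apply Subgroup.centralizer_le_normalizer
    rw [Subgroup.mem_centralizer_iff]
    intro y hy
    exact (hdB y hy).symm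
  rw [← hE, normalizer_conjBy] at h1
  have e : β⁻¹⁻¹ * d * β⁻¹ = d := by
    rw [inv_inv, ← hdB β hβ, mul_assoc, mul_inv_cancel, mul_one]
  rw [e] at h1
  -- `b' a b'⁻¹ ∈ N(A) ∩ conjBy A b'`
  have hb'1 : b' ≠ 1 := by
    intro hh; apply hd1; rw [hd, hh]; group
  have h2 : b' * a * b'⁻¹ ∈ Subgroup.normalizer (A : Set G) := by
    have h3 : a⁻¹ * d ∈ Subgroup.normalizer (A : Set G) :=
      Subgroup.mul_mem _ (Subgroup.le_normalizer (A.inv_mem ha)) h1
    have e2 : b' * a * b'⁻¹ = (a⁻¹ * d)⁻¹ := by rw [hd]; group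
    rw [e2]; exact Subgroup.inv_mem _ h3
  have hmem : conjBy A b' ∈ unipotentSubgroups A B :=
    ⟨b', Subgroup.mem_sup_right hb', rfl⟩
  have hne : conjBy A b' ≠ A := by
    intro hh
    exact hb'1 (eq_one_of_mem_normalizer' h hb' (conjBy_eq_self_iff.mp hh))
  have h4 : b' * a * b'⁻¹ ∈ conjBy A b' := by
    rw [mem_conjBy]; simpa [mul_assoc] using ha
  have h5 := eq_one_of_mem_of_mem_normalizer h hmem hne h4 h2
  apply ha1
  have := congrArg (fun t => b'⁻¹ * t * b') h5
  simpa [mul_assoc] using this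

end RankOne

/-! ### Sets of abstract root subgroups -/

section RootSet

variable {S : Set (Subgroup G)}

theorem exists_partner_of_not_isolated {A : Subgroup G}
    (hA : ¬ IsIsolatedIn (FAdj S) S A) (hAS : A ∈ S) : ∃ B ∈ S, IsRankOnePair A B := by
  unfold IsIsolatedIn at hA
  push Not at hA
  obtain ⟨B, hB⟩ := hA hAS
  by_cases h1 : FAdj S A B
  · exact ⟨B, h1.2.1, h1.2.2⟩
  · have h2 := hB h1
    exact ⟨B, h2.1, RankOnePair_symm h2.2.2⟩

/-- In the commutator case for `(C, B)`, for `c ∈ C#` some commutator `c b c⁻¹ b⁻¹` is `≠ 1`. -/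
theorem exists_commutator_ne_one (hS : IsRootSubgroupSet S) {C B : Subgroup G}
    (hc : RootCommutatorCase S C B) {c : G} (hcC : c ∈ C) (hc1 : c ≠ 1) :
    ∃ b ∈ B, c * b * c⁻¹ * b⁻¹ ≠ 1 := by
  by_contra hcon
  push Not at hcon
  have hne := hS.ne_bot _ hc.1
  apply hne
  rw [← hc.2.2.1 c hcC hc1, Subgroup.closure_eq_bot_iff]
  rintro _ ⟨b, hb, rfl⟩
  exact hcon b hb

end RootSet

end Cfsg.Agent.Lib.H25
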