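import Cfsg.Agent.S5028
import Cfsg.Agent.S5025
import Cfsg.Agent.Lib.H25.RootSubgroups
import Cfsg.Agent.Lib.H25.RankOneGroup

set_option autoImplicit false

/-!
The commutator case for a pair of abstract root subgroups `A, B` with `A` not isolated:
the central pairing `(a, b) ↦ a⁻¹ b⁻¹ a b` (helper25).
-/

namespace Cfsg.Agent.Lib.H25

open Cfsg
open scoped Pointwise

variable {G : Type*} [Group G] {S : Set (Subgroup G)}

/-- The pairing `κ a b = a⁻¹ b⁻¹ a b`. -/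
def kap (a b : G) : G := a⁻¹ * b⁻¹ * a * b

theorem kap_mem_commutator {A B : Subgroup G} {a b : G} (ha : a ∈ A) (hb : b ∈ B) :
    kap a b ∈ ⁅A, B⁆ := by
  have := Subgroup.commutator_mem_commutator (A.inv_mem ha) (B.inv_mem hb)
  rw [commutatorElement_def] at this
  simpa [kap] using this

theorem kap_eq_one_iff {a b : G} : kap a b = 1 ↔ a * b = b * a := by
  unfold kap
  constructor
  · intro h
    have : b * a * (a⁻¹ * b⁻¹ * a * b) = b * a * 1 := by rw [h]
    rw [mul_one] at this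
    rw [← this]; group
  · intro h
    have : a⁻¹ * b⁻¹ * a * b = a⁻¹ * b⁻¹ * (a * b) := by group
    rw [this, h]; group

theorem kap_one_left (b : G) : kap 1 b = 1 := by simp [kap]

theorem kap_one_right (a : G) : kap a 1 = 1 := by simp [kap]

/-- `a * κ a b = b⁻¹ a b`. -/
theorem mul_kap (a b : G) : a * kap a b = b⁻¹ * a * b := by
  unfold kap; group

section Central

variable {A B : Subgroup G}

/-- Multiplicativity in the second variable, for central values. -/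
theorem kap_mul_right (hcen : ∀ c ∈ ⁅A, B⁆, ∀ x ∈ A ⊔ B, c * x = x * c) {a b₁ b₂ : G}
    (ha : a ∈ A) (hb₁ : b₁ ∈ B) (hb₂ : b₂ ∈ B) : kap a (b₁ * b₂) = kap a b₁ * kap a b₂ := by
  have h1 := hcen _ (kap_mem_commutator ha hb₁) b₂ (Subgroup.mem_sup_right hb₂)
  have h2 : kap a (b₁ * b₂) = a⁻¹ * b₂⁻¹ * a * (kap a b₁ * b₂) := by unfold kap; group
  rw [h2, h1]
  have h3 := hcen _ (kap_mem_commutator ha hb₁) (a⁻¹ * b₂⁻¹ * a * b₂)
    ((A ⊔ B).mul_mem ((A ⊔ B).mul_mem ((A ⊔ B).mul_mem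
      (Subgroup.mem_sup_left (A.inv_mem ha)) (Subgroup.mem_sup_right (B.inv_mem hb₂)))
      (Subgroup.mem_sup_left ha)) (Subgroup.mem_sup_right hb₂))
  have h4 : a⁻¹ * b₂⁻¹ * a * (b₂ * kap a b₁) = (a⁻¹ * b₂⁻¹ * a * b₂) * kap a b₁ := by group
  rw [h4, ← h3]
  rfl

/-- Multiplicativity in the first variable, for central values. -/
theorem kap_mul_left (hcen : ∀ c ∈ ⁅A, B⁆, ∀ x ∈ A ⊔ B, c * x = x * c) {a₁ a₂ b : G}
    (ha₁ : a₁ ∈ A) (ha₂ : a₂ ∈ A) (hb : b ∈ B) : kap (a₁ * a₂) b = kap a₁ b * kap a₂ b := by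
  have h2 : kap (a₁ * a₂) b = a₂⁻¹ * kap a₁ b * (b⁻¹ * a₂ * b) := by unfold kap; group
  have h1 := hcen _ (kap_mem_commutator ha₁ hb) a₂⁻¹ (Subgroup.mem_sup_left (A.inv_mem ha₂))
  rw [h2, ← h1]
  unfold kap; group

/-- For central values, `a b a⁻¹ b⁻¹ = a⁻¹ b⁻¹ a b`. -/
theorem comm_eq_kap (hcen : ∀ c ∈ ⁅A, B⁆, ∀ x ∈ A ⊔ B, c * x = x * c) {a b : G}
    (ha : a ∈ A) (hb : b ∈ B) : a * b * a⁻¹ * b⁻¹ = kap a b := by
  have h1 := hcen _ (kap_mem_commutator ha hb) (b * a)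
    ((A ⊔ B).mul_mem (Subgroup.mem_sup_right hb) (Subgroup.mem_sup_left ha))
  have h2 : a * b * a⁻¹ * b⁻¹ = (b * a * kap a b) * a⁻¹ * b⁻¹ := by unfold kap; group
  rw [h2, ← h1]
  group

theorem kap_inv_right (hcen : ∀ c ∈ ⁅A, B⁆, ∀ x ∈ A ⊔ B, c * x = x * c) {a b : G}
    (ha : a ∈ A) (hb : b ∈ B) : kap a b⁻¹ = (kap a b)⁻¹ := by
  have h := kap_mul_right hcen ha hb (B.inv_mem hb)
  rw [mul_inv_cancel, kap_one_right] at h
  exact eq_inv_of_mul_eq_one_right h.symm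

theorem kap_inv_left (hcen : ∀ c ∈ ⁅A, B⁆, ∀ x ∈ A ⊔ B, c * x = x * c) {a b : G}
    (ha : a ∈ A) (hb : b ∈ B) : kap a⁻¹ b = (kap a b)⁻¹ := by
  have h := kap_mul_left hcen ha (A.inv_mem ha) hb
  rw [mul_inv_cancel, kap_one_left] at h
  exact eq_inv_of_mul_eq_one_right h.symm

/-- The values `κ a b`, `b ∈ B`, form the subgroup generated by the commutators `a b a⁻¹ b⁻¹`. -/
theorem exists_kap_right_of_closure (hcen : ∀ c ∈ ⁅A, B⁆, ∀ x ∈ A ⊔ B, c * x = x * c) {a : G}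
    (ha : a ∈ A)
    (hcl : Subgroup.closure ((fun b : G => a * b * a⁻¹ * b⁻¹) '' (B : Set G)) = ⁅A, B⁆)
    {c : G} (hc : c ∈ ⁅A, B⁆) : ∃ b ∈ B, kap a b = c := by
  rw [← hcl] at hc
  induction hc using Subgroup.closure_induction with
  | mem x hx =>
    obtain ⟨b, hb, rfl⟩ := hx
    exact ⟨b, hb, (comm_eq_kap hcen ha hb).symm⟩
  | one => exact ⟨1, B.one_mem, kap_one_right a⟩
  | mul x y _ _ hx hy =>
    obtain ⟨b₁, hb₁, rfl⟩ := hx
    obtain ⟨b₂, hb₂, rfl⟩ := hy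
    exact ⟨b₁ * b₂, B.mul_mem hb₁ hb₂, kap_mul_right hcen ha hb₁ hb₂⟩
  | inv x _ hx =>
    obtain ⟨b, hb, rfl⟩ := hx
    exact ⟨b⁻¹, B.inv_mem hb, kap_inv_right hcen ha hb⟩

theorem exists_kap_left_of_closure (hcen : ∀ c ∈ ⁅A, B⁆, ∀ x ∈ A ⊔ B, c * x = x * c) {b : G}
    (hb : b ∈ B)
    (hcl : Subgroup.closure ((fun a : G => a * b * a⁻¹ * b⁻¹) '' (A : Set G)) = ⁅A, B⁆)
    {c : G} (hc : c ∈ ⁅A, B⁆) : ∃ a ∈ A, kap a b = c := by
  rw [← hcl] at hc
  induction hc using Subgroup.closure_induction with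
  | mem x hx =>
    obtain ⟨a, ha, rfl⟩ := hx
    exact ⟨a, ha, (comm_eq_kap hcen ha hb).symm⟩
  | one => exact ⟨1, A.one_mem, kap_one_left b⟩
  | mul x y _ _ hx hy =>
    obtain ⟨a₁, ha₁, rfl⟩ := hx
    obtain ⟨a₂, ha₂, rfl⟩ := hy
    exact ⟨a₁ * a₂, A.mul_mem ha₁ ha₂, kap_mul_left hcen ha₁ ha₂ hb⟩
  | inv x _ hx =>
    obtain ⟨a, ha, rfl⟩ := hx
    exact ⟨a⁻¹, A.inv_mem ha, kap_inv_left hcen ha hb⟩

end Central

section RootSet

/-- If `⁅A, B⁆ ∈ S` then `(A, B)` is in the commutator case. -/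
theorem commutatorCase_of_mem (hS : IsRootSubgroupSet S) {A B : Subgroup G} (hAS : A ∈ S)
    (hBS : B ∈ S) (hC : ⁅A, B⁆ ∈ S) : RootCommutatorCase S A B := by
  rcases hS.pair A hAS B hBS with h0 | hp | hc
  · exact absurd h0 (hS.ne_bot _ hC)
  · exfalso
    obtain ⟨C, hCdef⟩ : ∃ C, C = ⁅A, B⁆ := ⟨_, rfl⟩
    rw [← hCdef] at hC
    have hAN : A ≤ Subgroup.normalizer (C : Set G) := by
      rw [hCdef]; exact Subgroup.normalizer_commutator_ge_left A B
    have hBN : B ≤ Subgroup.normalizer (C : Set G) := by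
      rw [hCdef]; exact Subgroup.normalizer_commutator_ge_right A B
    have hXN : A ⊔ B ≤ Subgroup.normalizer (C : Set G) := sup_le hAN hBN
    have hnormX : ∀ x ∈ A ⊔ B, ∀ n ∈ C, x⁻¹ * n * x ∈ C := by
      intro x hx n hn
      have h1 := Subgroup.inv_mem _ (hXN hx)
      have := (Subgroup.mem_normalizer_iff.1 h1 n).1 hn
      simpa using this
    have hCX : C ≤ A ⊔ B := by
      rw [hCdef, Subgroup.commutator_le]
      intro a ha b hb
      rw [commutatorElement_def]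
      exact (A ⊔ B).mul_mem ((A ⊔ B).mul_mem ((A ⊔ B).mul_mem (Subgroup.mem_sup_left ha)
        (Subgroup.mem_sup_right hb)) (Subgroup.mem_sup_left (A.inv_mem ha)))
        (Subgroup.mem_sup_right (B.inv_mem hb))
    obtain ⟨a₀, ha₀, ha₀1⟩ := RankOne.exists_ne_one_left hp
    obtain ⟨b₀, hb₀, hb₀1⟩ := RankOne.exists_ne_one_right hp
    by_cases hNA : C ≤ Subgroup.normalizer (A : Set G)
    · have hcen := RankOne.le_centralizer_of_le_normalizer hp hnormX hNA
      have hd : a₀ * b₀ * a₀⁻¹ * b₀⁻¹ ∈ C := by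
        rw [hCdef]
        have := Subgroup.commutator_mem_commutator ha₀ hb₀
        rwa [commutatorElement_def] at this
      have hdc := hcen hd
      rw [Subgroup.mem_centralizer_iff] at hdc
      have h1 := RankOne.commutator_eq_one_of_central hp ha₀ ha₀1 hb₀
        (hdc a₀ (Subgroup.mem_sup_left ha₀)).symm
        (fun y hy => (hdc y (Subgroup.mem_sup_right hy)).symm)
      have h2 : a₀ * b₀ = b₀ * a₀ := by
        have := congrArg (fun t => t * b₀ * a₀) h1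
        simpa [mul_assoc] using this
      exact hb₀1 (RankOne.eq_one_of_commute hp ha₀ ha₀1 hb₀ h2)
    · rw [SetLike.not_le_iff_exists] at hNA
      obtain ⟨n, hnC, hnN⟩ := hNA
      have hmove : conjBy A n ≠ A := fun h => hnN (conjBy_eq_self_iff.1 h)
      have hBle : B ≤ C ⊔ A := RankOne.right_le_sup_of_moves hp hnC (hCX hnC) hmove
      rcases hS.pair A hAS C hC with h0 | hr | hcc
      · apply hnN
        rw [Subgroup.commutator_eq_bot_iff_le_centralizer] at h0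
        apply Subgroup.centralizer_le_normalizer
        rw [Subgroup.mem_centralizer_iff]
        intro a ha
        have h1 := h0 ha
        rw [Subgroup.mem_centralizer_iff] at h1
        exact (h1 n hnC).symm
      · obtain ⟨c, hc, hc1, hE⟩ := hr.cond_left a₀ ha₀ ha₀1
        have h1 : conjBy C a₀⁻¹ = C := conjBy_eq_self_iff.2 (Subgroup.inv_mem _ (hAN ha₀))
        rw [h1] at hE
        have h2 : A = C := by
          have := conjBy_eq_iff.1 hE
          rw [this, inv_inv, conjBy_of_mem hc]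
        exact hr.ne h2
      · -- commutator case for `(A, C)`
        have hb₀AC : b₀ ∈ (↑(A ⊔ C) : Set G) := by
          rw [sup_comm]; exact hBle hb₀
        rw [Subgroup.coe_mul_of_left_le_normalizer_right A C hAN] at hb₀AC
        obtain ⟨a, ha, c, hc, hac⟩ := hb₀AC
        have hA'mem : conjBy A b₀ ∈ unipotentSubgroups A B :=
          ⟨b₀, Subgroup.mem_sup_right hb₀, rfl⟩
        have hA'ne : conjBy A b₀ ≠ A := fun h =>
          hb₀1 (RankOne.eq_one_of_mem_normalizer' hp hb₀ (conjBy_eq_self_iff.1 h))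
        have hpair : IsRankOnePair A (conjBy A b₀) :=
          RankOne.isRankOnePair_of_mem hp (RankOne.left_mem_unipotentSubgroups A B) hA'mem
            hA'ne.symm
        obtain ⟨y, hy, hy1⟩ := RankOne.exists_ne_one_right hpair
        apply hy1
        apply RankOne.eq_one_of_commute hpair ha₀ ha₀1 hy
        rw [mem_conjBy] at hy
        obtain ⟨a', ha'⟩ : ∃ a', a' = b₀⁻¹ * y * b₀ := ⟨_, rfl⟩
        rw [← ha'] at hy
        obtain ⟨z, hz⟩ : ∃ z, z = c * a' * c⁻¹ * a'⁻¹ := ⟨_, rfl⟩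
        have hzmem : z ∈ ⁅A, C⁆ := by
          rw [Subgroup.commutator_comm, hz]
          have := Subgroup.commutator_mem_commutator hc hy
          rwa [commutatorElement_def] at this
        have hzA : ∀ x ∈ A, z * x = x * z := fun x hx =>
          hcc.2.1 z hzmem x (Subgroup.mem_sup_left hx)
        have hab := hS.commutative A hAS
        have hy' : y = a * (z * a') * a⁻¹ := by
          rw [hz, ha', ← hac]; group
        have hy'' : y = z * a' := by
          rw [hy', ← mul_assoc, ← hzA a ha, mul_assoc z a a', comm_of_isMulCommutative hab ha hy]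
          group
        rw [hy'', ← mul_assoc, ← hzA a₀ ha₀, mul_assoc, mul_assoc,
          comm_of_isMulCommutative hab ha₀ hy]
  · exact hc

/-- Nondegeneracy of the pairing when `A` has a rank one partner `D`. -/
theorem not_commute_of_commutatorCase (hS : IsRootSubgroupSet S) {A B D : Subgroup G}
    (hAS : A ∈ S) (hBS : B ∈ S) (hDS : D ∈ S) (hAD : IsRankOnePair A D)
    (hcc : RootCommutatorCase S A B) {a b : G} (ha : a ∈ A) (ha1 : a ≠ 1) (hb : b ∈ B)
    (hb1 : b ≠ 1) : a * b ≠ b * a := by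
  intro hab
  have hCS := hcc.1
  -- `A ≠ ⁅A, B⁆`
  have hAC : A ≠ ⁅A, B⁆ := by
    intro h
    apply hS.ne_bot _ hCS
    rw [Subgroup.commutator_eq_bot_iff_le_centralizer]
    intro x hx
    rw [Subgroup.mem_centralizer_iff]
    intro y hy
    have hx' : x ∈ ⁅A, B⁆ := h ▸ hx
    exact (hcc.2.1 x hx' y (Subgroup.mem_sup_right hy)).symm
  have hinf : ∀ x, x ∈ A → x ∈ ⁅A, B⁆ → x = 1 := by
    intro x hxA hxC
    by_contra hx1
    exact hAC (Cfsg.Agent.S5028.core hS hAS hDS hCS hAD hxA hxC hx1)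
  -- `a ∈ A ∩ conjBy A b`
  have haconj : a ∈ conjBy A b := by
    rw [mem_conjBy]
    have : b⁻¹ * a * b = a := by rw [mul_assoc, hab, ← mul_assoc, inv_mul_cancel, one_mul]
    rw [this]; exact ha
  have hAb : A = conjBy A b :=
    Cfsg.Agent.S5028.core hS hAS hDS (hS.conj_mem A hAS b) hAD ha haconj ha1
  have hbN : b ∈ Subgroup.normalizer (A : Set G) := conjBy_eq_self_iff.1 hAb.symm
  apply hS.ne_bot _ hCS
  rw [← hcc.2.2.2 b hb hb1, Subgroup.closure_eq_bot_iff]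
  rintro _ ⟨a', ha', rfl⟩
  show a' * b * a'⁻¹ * b⁻¹ = 1
  apply hinf
  · have h1 : b * a'⁻¹ * b⁻¹ ∈ A := (Subgroup.mem_normalizer_iff.1 hbN _).1 (A.inv_mem ha')
    have h2 : a' * b * a'⁻¹ * b⁻¹ = a' * (b * a'⁻¹ * b⁻¹) := by group
    rw [h2]
    exact A.mul_mem ha' h1
  · have := Subgroup.commutator_mem_commutator ha' hb
    rwa [commutatorElement_def] at this

/-- `A ≠ ⁅A, B⁆` in the commutator case. -/
theorem ne_commutator_of_commutatorCase (hS : IsRootSubgroupSet S) {A B : Subgroup G}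
    (hcc : RootCommutatorCase S A B) : A ≠ ⁅A, B⁆ := by
  intro h
  apply hS.ne_bot _ hcc.1
  rw [Subgroup.commutator_eq_bot_iff_le_centralizer]
  intro x hx
  rw [Subgroup.mem_centralizer_iff]
  intro y hy
  have hx' : x ∈ ⁅A, B⁆ := h ▸ hx
  exact (hcc.2.1 x hx' y (Subgroup.mem_sup_right hy)).symm

/-- Conjugates of a non-isolated member are TI. -/
theorem conj_TI (hS : IsRootSubgroupSet S) {A D : Subgroup G} (hAS : A ∈ S) (hDS : D ∈ S)
    (hAD : IsRankOnePair A D) (g : G) {M : Subgroup G} (hM : M ∈ S) {x : G}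
    (hx1 : x ∈ conjBy A g) (hx2 : x ∈ M) (hx : x ≠ 1) : conjBy A g = M :=
  Cfsg.Agent.S5028.core hS (hS.conj_mem A hAS g) (hS.conj_mem D hDS g) hM
    (RankOne.isRankOnePair_conj hAD g) hx1 hx2 hx

/-- Two commuting members with a common rank one partner are conjugate. -/
theorem exists_conj_of_common_partner {A F D : Subgroup G} (hAD : IsRankOnePair A D)
    (hFD : IsRankOnePair F D) (hcomm : ∀ a ∈ A, ∀ e ∈ F, a * e = e * a) :
    ∃ g : G, F = conjBy A g := by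
  obtain ⟨a, ha, ha1⟩ := RankOne.exists_ne_one_left hAD
  obtain ⟨e, he, he1⟩ := RankOne.exists_ne_one_left hFD
  obtain ⟨d₁, -, -, h1⟩ := hAD.cond_left a ha ha1
  obtain ⟨d₂, -, -, h2⟩ := hFD.cond_left e he he1
  have h3 : conjBy (conjBy D a⁻¹) e⁻¹ = conjBy (conjBy D e⁻¹) a⁻¹ := by
    rw [conjBy_conjBy, conjBy_conjBy]
    congr 1
    have := hcomm a ha e he
    have h4 : (e⁻¹ * a⁻¹) = (a * e)⁻¹ := by group
    have h5 : (a⁻¹ * e⁻¹) = (e * a)⁻¹ := by group
    rw [h4, h5, this]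
  rw [← h1, ← h2, conjBy_conjBy, conjBy_conjBy] at h3
  refine ⟨(a⁻¹ * d₂⁻¹)⁻¹ * (e⁻¹ * d₁⁻¹), ?_⟩
  have h6 := conjBy_eq_iff.1 h3.symm
  rw [h6, conjBy_conjBy]

end RootSet

end Cfsg.Agent.Lib.H25
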