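import Mathlib
import Cfsg.Prelude.Def_RootSubgroups
import Cfsg.Agent.Lib.H25.RankOne

set_option autoImplicit false

/-! `SL₂(k)` as a rank one group: unitriangular subgroups. -/

namespace Cfsg.Agent.Lib.H25.SL2

open Cfsg Matrix

variable {k : Type*} [Field k]

local notation "SLk" => Matrix.SpecialLinearGroup (Fin 2) k

theorem det_eq (g : SLk) :
    (g : Matrix (Fin 2) (Fin 2) k) 0 0 * (g : Matrix (Fin 2) (Fin 2) k) 1 1
      - (g : Matrix (Fin 2) (Fin 2) k) 0 1 * (g : Matrix (Fin 2) (Fin 2) k) 1 0 = 1 := by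
  have := g.det_coe
  rwa [Matrix.det_fin_two] at this

theorem mul_apply' (g h : SLk) (i j : Fin 2) :
    ((g * h : SLk) : Matrix (Fin 2) (Fin 2) k) i j =
      (g : Matrix (Fin 2) (Fin 2) k) i 0 * (h : Matrix (Fin 2) (Fin 2) k) 0 j +
      (g : Matrix (Fin 2) (Fin 2) k) i 1 * (h : Matrix (Fin 2) (Fin 2) k) 1 j := by
  rw [Matrix.SpecialLinearGroup.coe_mul, Matrix.mul_apply, Fin.sum_univ_two]

theorem inv_apply_00 (g : SLk) :
    ((g⁻¹ : SLk) : Matrix (Fin 2) (Fin 2) k) 0 0 = (g : Matrix (Fin 2) (Fin 2) k) 1 1 := by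
  rw [Matrix.SpecialLinearGroup.coe_inv, Matrix.adjugate_fin_two]; simp

theorem inv_apply_01 (g : SLk) :
    ((g⁻¹ : SLk) : Matrix (Fin 2) (Fin 2) k) 0 1 = -(g : Matrix (Fin 2) (Fin 2) k) 0 1 := by
  rw [Matrix.SpecialLinearGroup.coe_inv, Matrix.adjugate_fin_two]; simp

theorem inv_apply_10 (g : SLk) :
    ((g⁻¹ : SLk) : Matrix (Fin 2) (Fin 2) k) 1 0 = -(g : Matrix (Fin 2) (Fin 2) k) 1 0 := by
  rw [Matrix.SpecialLinearGroup.coe_inv, Matrix.adjugate_fin_two]; simp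

theorem inv_apply_11 (g : SLk) :
    ((g⁻¹ : SLk) : Matrix (Fin 2) (Fin 2) k) 1 1 = (g : Matrix (Fin 2) (Fin 2) k) 0 0 := by
  rw [Matrix.SpecialLinearGroup.coe_inv, Matrix.adjugate_fin_two]; simp

theorem one_apply_00 : ((1 : SLk) : Matrix (Fin 2) (Fin 2) k) 0 0 = 1 := by simp
theorem one_apply_01 : ((1 : SLk) : Matrix (Fin 2) (Fin 2) k) 0 1 = 0 := by simp
theorem one_apply_10 : ((1 : SLk) : Matrix (Fin 2) (Fin 2) k) 1 0 = 0 := by simp
theorem one_apply_11 : ((1 : SLk) : Matrix (Fin 2) (Fin 2) k) 1 1 = 1 := by simp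

theorem ext4 {g h : SLk}
    (h00 : (g : Matrix (Fin 2) (Fin 2) k) 0 0 = (h : Matrix (Fin 2) (Fin 2) k) 0 0)
    (h01 : (g : Matrix (Fin 2) (Fin 2) k) 0 1 = (h : Matrix (Fin 2) (Fin 2) k) 0 1)
    (h10 : (g : Matrix (Fin 2) (Fin 2) k) 1 0 = (h : Matrix (Fin 2) (Fin 2) k) 1 0)
    (h11 : (g : Matrix (Fin 2) (Fin 2) k) 1 1 = (h : Matrix (Fin 2) (Fin 2) k) 1 1) : g = h := by
  apply Matrix.SpecialLinearGroup.ext
  intro i j
  fin_cases i <;> fin_cases j <;> assumption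

/-- The lower unitriangular subgroup, explicitly. -/
def lowerSub (k : Type*) [Field k] : Subgroup (Matrix.SpecialLinearGroup (Fin 2) k) where
  carrier := {g | (g : Matrix (Fin 2) (Fin 2) k) 0 1 = 0 ∧ (g : Matrix (Fin 2) (Fin 2) k) 0 0 = 1 ∧
    (g : Matrix (Fin 2) (Fin 2) k) 1 1 = 1}
  mul_mem' := by
    rintro g h ⟨g1, g2, g3⟩ ⟨h1, h2, h3⟩
    refine ⟨?_, ?_, ?_⟩
    · rw [mul_apply', g1, g2, h1, h3]; ring
    · rw [mul_apply', g1, g2, h2]; ring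
    · rw [mul_apply', g3, h1, h3]; ring
  one_mem' := ⟨one_apply_01, one_apply_00, one_apply_11⟩
  inv_mem' := by
    rintro g ⟨g1, g2, g3⟩
    refine ⟨?_, ?_, ?_⟩
    · rw [inv_apply_01, g1, neg_zero]
    · rw [inv_apply_00, g3]
    · rw [inv_apply_11, g2]

/-- The upper unitriangular subgroup, explicitly. -/
def upperSub (k : Type*) [Field k] : Subgroup (Matrix.SpecialLinearGroup (Fin 2) k) where
  carrier := {g | (g : Matrix (Fin 2) (Fin 2) k) 1 0 = 0 ∧ (g : Matrix (Fin 2) (Fin 2) k) 0 0 = 1 ∧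
    (g : Matrix (Fin 2) (Fin 2) k) 1 1 = 1}
  mul_mem' := by
    rintro g h ⟨g1, g2, g3⟩ ⟨h1, h2, h3⟩
    refine ⟨?_, ?_, ?_⟩
    · rw [mul_apply', g1, g3, h1, h2]; ring
    · rw [mul_apply', g2, h1, h2]; ring
    · rw [mul_apply', g1, g3, h3]; ring
  one_mem' := ⟨one_apply_10, one_apply_00, one_apply_11⟩
  inv_mem' := by
    rintro g ⟨g1, g2, g3⟩
    refine ⟨?_, ?_, ?_⟩
    · rw [inv_apply_10, g1, neg_zero]
    · rw [inv_apply_00, g3]
    · rw [inv_apply_11, g2]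

theorem lower_eq : lowerUnipotentSL2 k = lowerSub k := by
  unfold lowerUnipotentSL2
  exact Subgroup.closure_eq (lowerSub k)

theorem upper_eq : upperUnipotentSL2 k = upperSub k := by
  unfold upperUnipotentSL2
  exact Subgroup.closure_eq (upperSub k)

theorem mem_lower_iff {g : SLk} : g ∈ lowerUnipotentSL2 k ↔
    (g : Matrix (Fin 2) (Fin 2) k) 0 1 = 0 ∧ (g : Matrix (Fin 2) (Fin 2) k) 0 0 = 1 ∧
      (g : Matrix (Fin 2) (Fin 2) k) 1 1 = 1 := by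
  rw [lower_eq]; rfl

theorem mem_upper_iff {g : SLk} : g ∈ upperUnipotentSL2 k ↔
    (g : Matrix (Fin 2) (Fin 2) k) 1 0 = 0 ∧ (g : Matrix (Fin 2) (Fin 2) k) 0 0 = 1 ∧
      (g : Matrix (Fin 2) (Fin 2) k) 1 1 = 1 := by
  rw [upper_eq]; rfl

/-- `L(t)`. -/
def lo (t : k) : SLk := ⟨!![1, 0; t, 1], by simp [Matrix.det_fin_two]⟩

/-- `U(t)`. -/
def up (t : k) : SLk := ⟨!![1, t; 0, 1], by simp [Matrix.det_fin_two]⟩

@[simp] theorem lo_00 (t : k) : ((lo t : SLk) : Matrix (Fin 2) (Fin 2) k) 0 0 = 1 := rfl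
@[simp] theorem lo_01 (t : k) : ((lo t : SLk) : Matrix (Fin 2) (Fin 2) k) 0 1 = 0 := rfl
@[simp] theorem lo_10 (t : k) : ((lo t : SLk) : Matrix (Fin 2) (Fin 2) k) 1 0 = t := rfl
@[simp] theorem lo_11 (t : k) : ((lo t : SLk) : Matrix (Fin 2) (Fin 2) k) 1 1 = 1 := rfl
@[simp] theorem up_00 (t : k) : ((up t : SLk) : Matrix (Fin 2) (Fin 2) k) 0 0 = 1 := rfl
@[simp] theorem up_01 (t : k) : ((up t : SLk) : Matrix (Fin 2) (Fin 2) k) 0 1 = t := rfl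
@[simp] theorem up_10 (t : k) : ((up t : SLk) : Matrix (Fin 2) (Fin 2) k) 1 0 = 0 := rfl
@[simp] theorem up_11 (t : k) : ((up t : SLk) : Matrix (Fin 2) (Fin 2) k) 1 1 = 1 := rfl

theorem lo_mem (t : k) : lo t ∈ lowerUnipotentSL2 k := mem_lower_iff.mpr ⟨rfl, rfl, rfl⟩
theorem up_mem (t : k) : up t ∈ upperUnipotentSL2 k := mem_upper_iff.mpr ⟨rfl, rfl, rfl⟩

theorem eq_lo_of_mem {g : SLk} (hg : g ∈ lowerUnipotentSL2 k) :
    g = lo ((g : Matrix (Fin 2) (Fin 2) k) 1 0) := by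
  obtain ⟨h1, h2, h3⟩ := mem_lower_iff.mp hg
  exact ext4 (by rw [h2]; rfl) (by rw [h1]; rfl) rfl (by rw [h3]; rfl)

theorem eq_up_of_mem {g : SLk} (hg : g ∈ upperUnipotentSL2 k) :
    g = up ((g : Matrix (Fin 2) (Fin 2) k) 0 1) := by
  obtain ⟨h1, h2, h3⟩ := mem_upper_iff.mp hg
  exact ext4 (by rw [h2]; rfl) rfl (by rw [h1]; rfl) (by rw [h3]; rfl)

theorem lo_zero : (lo (0 : k) : SLk) = 1 :=
  ext4 (by simp) (by simp) (by simp) (by simp)

theorem up_zero : (up (0 : k) : SLk) = 1 :=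
  ext4 (by simp) (by simp) (by simp) (by simp)

theorem lo_mul (s t : k) : (lo s * lo t : SLk) = lo (s + t) := by
  apply ext4 <;> rw [mul_apply'] <;> simp

theorem up_mul (s t : k) : (up s * up t : SLk) = up (s + t) := by
  apply ext4 <;> rw [mul_apply'] <;> simp [add_comm]

end Cfsg.Agent.Lib.H25.SL2
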