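import Mathlib
import Cfsg.Agent.Lib.H7.T648Defs
import Cfsg.Agent.Lib.H7.T648Model
import Cfsg.Agent.Lib.H18.L648Defs
import Cfsg.Agent.Lib.H18.LatEnum

/-!
# S3702, piece GRAM (helper25): the inner products of the `Fc i`
-/

set_option autoImplicit false

namespace Cfsg.Agent.Lib.H25.L648

open Cfsg Cfsg.Agent.Lib.H7.T648 Cfsg.Agent.Lib.H18 Cfsg.Agent.Lib.H18.L648
  Cfsg.Agent.Lib.H18.LatEnum
open scoped ComplexConjugate

/-- a sum of a function of the class is a sum over the classes -/
theorem gram_fiber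
    (hcard : ∀ c : Fin 14, (Finset.univ.filter (fun x : M648 => cls x = c)).card = csz c)
    (T : Fin 14 → Z12) : ∑ x : M648, T (cls x) = ∑ c : Fin 14, (csz c : Z12) * T c := by
  rw [← Finset.sum_fiberwise (Finset.univ : Finset M648) cls (fun x => T (cls x))]
  apply Finset.sum_congr rfl
  intro c _
  rw [Finset.sum_congr rfl (g := fun _ => T c)]
  · rw [Finset.sum_const, hcard, nsmul_eq_mul]
  · intro x hx
    rw [(Finset.mem_filter.1 hx).2]

theorem gram_table : ∀ i j : Fin 9,
    ((List.finRange 14).map fun c => (csz c : Z12) * (Ftab i c * Z12.conj (Ftab j c))).sum =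
      zi (648 * 576 * Mg i j) := by
  decide +kernel

theorem gram_table_one : ∀ i : Fin 9,
    ((List.finRange 14).map fun c => (csz c : Z12) * Ftab i c).sum = zi (648 * 24 * a0 i) := by
  decide +kernel

theorem gram_toC_zi (m : ℤ) : Z12.toC (zi m) = (m : ℂ) := Z12.toC_intCast m

theorem Fc_gram (hF : ∀ (i : Fin 9) (x : M648), FZ i x = Ftab i (cls x))
    (hcard : ∀ c : Fin 14, (Finset.univ.filter (fun x : M648 => cls x = c)).card = csz c)
    (i j : Fin 9) : classInner (Fc i) (Fc j) = (Mg i j : ℂ) := by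
  unfold classInner
  rw [M648.card_eq]
  have h1 : ∀ x : M648, Fc i x * conj (Fc j x) =
      Z12.toC (Ftab i (cls x) * Z12.conj (Ftab j (cls x))) / 576 := by
    intro x
    unfold Fc
    rw [hF, hF, map_div₀, Z12.toC_conj, map_mul]
    have : (starRingEnd ℂ) (24 : ℂ) = 24 := map_ofNat _ 24
    rw [this]
    ring
  rw [Finset.sum_congr rfl (fun x _ => h1 x), ← Finset.sum_div, ← map_sum,
    gram_fiber hcard (fun c => Ftab i c * Z12.conj (Ftab j c)), Fin.sum_univ_def, gram_table,
    gram_toC_zi]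
  push_cast
  ring

theorem Fc_inner_one (hF : ∀ (i : Fin 9) (x : M648), FZ i x = Ftab i (cls x))
    (hcard : ∀ c : Fin 14, (Finset.univ.filter (fun x : M648 => cls x = c)).card = csz c)
    (i : Fin 9) : classInner (Fc i) (1 : M648 → ℂ) = (a0 i : ℂ) := by
  unfold classInner
  rw [M648.card_eq]
  have h1 : ∀ x : M648, Fc i x * conj ((1 : M648 → ℂ) x) = Z12.toC (Ftab i (cls x)) / 24 := by
    intro x
    unfold Fc
    rw [hF, Pi.one_apply, map_one, mul_one]
  rw [Finset.sum_congr rfl (fun x _ => h1 x), ← Finset.sum_div, ← map_sum,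
    gram_fiber hcard (fun c => Ftab i c), Fin.sum_univ_def, gram_table_one, gram_toC_zi]
  push_cast
  ring

end Cfsg.Agent.Lib.H25.L648
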