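import Mathlib
import Cfsg.Agent.Lib.H7.T648Defs
import Cfsg.Agent.Lib.H7.T648Model
import Cfsg.Agent.Lib.H18.L648Defs
import Cfsg.Agent.Lib.H18.LatEnum

/-!
# S3702, piece REDUCE (helper25): from the abstract character data and a shape to the signed degrees
-/

set_option autoImplicit false

namespace Cfsg.Agent.Lib.H25.L648

open Cfsg Cfsg.Agent.Lib.H7.T648 Cfsg.Agent.Lib.H18 Cfsg.Agent.Lib.H18.L648
  Cfsg.Agent.Lib.H18.LatEnum
open scoped ComplexConjugate

/-- splitting a sum over `ι` as the `i0`-term plus the terms of the list `L` -/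
theorem red_sum_split {ι M : Type*} [Fintype ι] [DecidableEq ι] [AddCommMonoid M] (i0 : ι)
    (L : List {χ : ι // χ ≠ i0}) (hL : L.Nodup) (Φ : ι → M)
    (h0 : ∀ χ : {χ : ι // χ ≠ i0}, χ ∉ L → Φ χ.1 = 0) :
    ∑ χ, Φ χ = Φ i0 + (L.map (fun χ => Φ χ.1)).sum := by
  rw [← Finset.add_sum_erase Finset.univ Φ (Finset.mem_univ i0)]
  congr 1
  have h1 : ∑ x ∈ Finset.univ.erase i0, Φ x = ∑ ξ : {χ : ι // χ ≠ i0}, Φ ξ.1 := by
    rw [← Finset.sum_subtype (Finset.univ.erase i0) (p := fun χ => χ ≠ i0) (by simp) Φ]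
  rw [h1, ← List.sum_toFinset _ hL]
  symm
  apply Finset.sum_subset (Finset.subset_univ _)
  intro ξ _ hξ
  exact h0 ξ (by simpa using hξ)

/-- the same with an inequality -/
theorem red_sum_split_le {ι : Type*} [Fintype ι] [DecidableEq ι] (i0 : ι)
    (L : List {χ : ι // χ ≠ i0}) (hL : L.Nodup) (Φ : ι → ℤ) (h0 : ∀ χ, 0 ≤ Φ χ) :
    Φ i0 + (L.map (fun χ => Φ χ.1)).sum ≤ ∑ χ, Φ χ := by
  rw [← Finset.add_sum_erase Finset.univ Φ (Finset.mem_univ i0)]
  have h1 : ∑ x ∈ Finset.univ.erase i0, Φ x = ∑ ξ : {χ : ι // χ ≠ i0}, Φ ξ.1 := by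
    rw [← Finset.sum_subtype (Finset.univ.erase i0) (p := fun χ => χ ≠ i0) (by simp) Φ]
  rw [h1, ← List.sum_toFinset _ hL]
  have := Finset.sum_le_sum_of_subset_of_nonneg (Finset.subset_univ L.toFinset)
    (f := fun ξ : {χ : ι // χ ≠ i0} => Φ ξ.1) (fun ξ _ _ => h0 ξ.1)
  linarith

theorem red_zipWith_map {α β γ δ : Type*} (f : β → γ → δ) (A : α → β) (B : α → γ) (L : List α) :
    List.zipWith f (L.map A) (L.map B) = L.map (fun x => f (A x) (B x)) := by
  induction L with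
  | nil => rfl
  | cons a l ih => simp [ih]

theorem red_ceSum_eq (cols : List (List ℤ)) (D : List ℤ) (τ1 τ2 τ3 : ℕ) :
    ceSum cols D τ1 τ2 τ3 = (List.zipWith
      (fun c (d : ℤ) => ((vJ τ1 c * vJ τ2 c * vJ τ3 c : ℤ) : ℚ) / ((d : ℤ) : ℚ)) cols D).sum := by
  unfold ceSum
  have h : (D >>= fun a : ℤ => (pure ((a : ℤ) : ℚ) : List ℚ)) = List.map (fun a : ℤ => (a : ℚ)) D := by
    simp only [List.bind_eq_flatMap, List.pure_def]
    induction D with
    | nil => rfl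
    | cons a l ih => simp [ih]
  rw [h, List.zipWith_map_right]

theorem red_qJ_a0 (τ : ℕ) : ∑ i : Fin 9, qJ τ i * a0 i = 1 := by
  unfold qJ
  split_ifs <;> simp [Fin.sum_univ_succ, a0]

theorem red_l113 : lcnt ![1, 0, 0] ![1, 0, 0] ![1, 1, 1] = 0 := by decide +kernel
theorem red_l112 : lcnt ![1, 0, 0] ![1, 0, 0] ![1, 1, 0] = 32 := by decide +kernel
theorem red_l133 : lcnt ![1, 0, 0] ![1, 1, 1] ![1, 1, 1] = 36 := by decide +kernel
theorem red_l122 : lcnt ![1, 0, 0] ![1, 1, 0] ![1, 1, 0] = 16 := by decide +kernel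
theorem red_l332 : lcnt ![1, 1, 1] ![1, 1, 1] ![1, 1, 0] = 18 := by decide +kernel
theorem red_l322 : lcnt ![1, 1, 1] ![1, 1, 0] ![1, 1, 0] = 24 := by decide +kernel
theorem red_l132 : lcnt ![1, 0, 0] ![1, 1, 1] ![1, 1, 0] = 24 := by decide +kernel

theorem red_wtv1 : T648.wtv ![1, 0, 0] = 1 := by decide
theorem red_wtv2 : T648.wtv ![1, 1, 0] = 2 := by decide
theorem red_wtv3 : T648.wtv ![1, 1, 1] = 3 := by decide

theorem exists_shapeOK {ι : Type*} [Fintype ι] [DecidableEq ι] (deg : ι → ℕ) (c : Fin 9 → ι → ℤ)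
    (i0 : ι) (g : ℕ)
    (hdeg : ∀ χ, 0 < deg χ) (hdeg0 : deg i0 = 1)
    (hsq : ∑ χ, deg χ ^ 2 = g)
    (htriv : ∀ i, c i i0 = a0 i)
    (hzero : ∀ i, ∑ χ, c i χ * (deg χ : ℤ) = 0)
    (hce : ∀ w1 w2 w : Fin 3 → ZMod 3, w1 ≠ 0 → w2 ≠ 0 → w ≠ 0 →
      ((∃ i, w1 i = 0) ∨ (∃ i, w2 i = 0) ∨ (∃ i, w i = 0)) →
      ¬ (T648.wtv w1 = T648.wtv w2 ∧ T648.wtv w = T648.wtv w1) →
      ∑ χ, (((∑ i, T648.xv i (T648.wtv w1) * c i χ : ℤ) : ℚ) *
        ((∑ i, T648.xv i (T648.wtv w2) * c i χ : ℤ) : ℚ) *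
        ((∑ i, T648.xv i (T648.wtv w) * c i χ : ℤ) : ℚ)) / (deg χ : ℚ) =
        (729 * lcnt w1 w2 w : ℚ) / (g : ℚ))
    (cols : List (List ℤ)) (ε : {χ : ι // χ ≠ i0} → ℤ) (L : List {χ : ι // χ ≠ i0})
    (hε : ∀ χ, ε χ = 1 ∨ ε χ = -1) (hL : L.Nodup)
    (hcols : L.map (colOf 9 (bOf c i0) ε) = cols)
    (hrest : ∀ χ, χ ∉ L → ∀ i < 9, bOf c i0 i χ = 0) :
    ∃ D : List ℤ, ShapeOK cols g D := by
  have hb : ∀ (i : Fin 9) (ξ : {χ : ι // χ ≠ i0}), bOf c i0 i.val ξ = c i ξ.1 := by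
    intro i ξ
    simp [bOf, i.2]
  have hrest' : ∀ (ξ : {χ : ι // χ ≠ i0}), ξ ∉ L → ∀ i : Fin 9, c i ξ.1 = 0 := by
    intro ξ hξ i
    rw [← hb]
    exact hrest ξ hξ i.val i.2
  have hε2 : ∀ ξ, ε ξ * ε ξ = 1 := by
    intro ξ
    rcases hε ξ with h | h <;> rw [h] <;> norm_num
  have hget : ∀ (i : Fin 9) (ξ : {χ : ι // χ ≠ i0}),
      (colOf 9 (bOf c i0) ε ξ).getD i.val 0 = ε ξ * c i ξ.1 := by
    intro i ξ
    rw [colOf_getD 9 _ ε ξ i.val i.2, hb]
  have hvJ : ∀ (τ : ℕ) (ξ : {χ : ι // χ ≠ i0}),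
      vJ τ (colOf 9 (bOf c i0) ε ξ) = ε ξ * ∑ i : Fin 9, T648.xv i τ * c i ξ.1 := by
    intro τ ξ
    unfold vJ T648.xv
    rw [Finset.mul_sum]
    apply Finset.sum_congr rfl
    intro i _
    rw [hget]
    ring
  -- the class equation for a triple of vectors
  have hCE : ∀ w1 w2 w : Fin 3 → ZMod 3, w1 ≠ 0 → w2 ≠ 0 → w ≠ 0 →
      ((∃ i, w1 i = 0) ∨ (∃ i, w2 i = 0) ∨ (∃ i, w i = 0)) →
      ¬ (T648.wtv w1 = T648.wtv w2 ∧ T648.wtv w = T648.wtv w1) →
      1 + ceSum cols (L.map (fun ξ => ε ξ * (deg ξ.1 : ℤ))) (T648.wtv w1) (T648.wtv w2)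
        (T648.wtv w) = (729 * lcnt w1 w2 w : ℚ) / (g : ℚ) := by
    intro w1 w2 w h1 h2 h3 h4 h5
    rw [← hce w1 w2 w h1 h2 h3 h4 h5]
    rw [red_sum_split i0 L hL]
    · congr 1
      · have e1 : ∀ τ : ℕ, ∑ i : Fin 9, T648.xv i τ * c i i0 = 1 := by
          intro τ
          rw [← red_qJ_a0 τ]
          apply Finset.sum_congr rfl
          intro i _
          rw [htriv]
          rfl
        rw [e1, e1, e1, hdeg0]
        norm_num
      · rw [red_ceSum_eq, ← hcols, red_zipWith_map]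
        congr 1
        apply List.map_congr_left
        intro ξ _
        rw [hvJ, hvJ, hvJ]
        have hd : ((deg ξ.1 : ℕ) : ℚ) ≠ 0 := by
          have := hdeg ξ.1
          positivity
        have he : ((ε ξ : ℤ) : ℚ) ≠ 0 := by
          rcases hε ξ with h | h <;> rw [h] <;> norm_num
        have he2 : ((ε ξ : ℤ) : ℚ) * (ε ξ : ℚ) = 1 := by
          have := hε2 ξ
          exact_mod_cast this
        push_cast
        field_simp
        linear_combination ((∑ i : Fin 9, ((T648.xv i (T648.wtv w1) : ℤ) : ℚ) * (c i ξ.1 : ℚ)) *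
          (∑ i : Fin 9, ((T648.xv i (T648.wtv w2) : ℤ) : ℚ) * (c i ξ.1 : ℚ)) *
          (∑ i : Fin 9, ((T648.xv i (T648.wtv w) : ℤ) : ℚ) * (c i ξ.1 : ℚ))) * he2
    · intro ξ hξ
      have : ∀ τ : ℕ, ∑ i : Fin 9, T648.xv i τ * c i ξ.1 = 0 := by
        intro τ
        apply Finset.sum_eq_zero
        intro i _
        rw [hrest' ξ hξ i, mul_zero]
      rw [this, this, this]
      simp
  refine ⟨L.map (fun ξ => ε ξ * (deg ξ.1 : ℤ)), ?_, ?_, ?_, ?_, ?_⟩
  · rw [← hcols, List.length_map, List.length_map]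
  · intro d hd
    rw [List.mem_map] at hd
    obtain ⟨ξ, _, rfl⟩ := hd
    have h1 := hdeg ξ.1
    rcases hε ξ with h | h <;> rw [h] <;> simp <;> omega
  · intro i
    have h1 := hzero i
    rw [red_sum_split i0 L hL] at h1
    · rw [htriv, hdeg0] at h1
      rw [← h1]
      simp only [Nat.cast_one, mul_one]
      congr 1
      unfold dot
      rw [← hcols, red_zipWith_map]
      congr 1
      apply List.map_congr_left
      intro ξ _
      rw [hget]
      linear_combination (c i ξ.1 * (deg ξ.1 : ℤ)) * hε2 ξ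
    · intro ξ hξ
      rw [hrest' ξ hξ i, zero_mul]
  · have h1 := red_sum_split_le i0 L hL (fun χ => ((deg χ : ℤ)) ^ 2) (fun χ => by positivity)
    have h2 : ∑ χ, ((deg χ : ℤ)) ^ 2 = (g : ℤ) := by
      rw [← hsq]
      push_cast
      rfl
    rw [h2] at h1
    simp only [hdeg0, Nat.cast_one, one_pow] at h1
    refine le_trans (le_of_eq ?_) h1
    congr 1
    rw [List.map_map]
    congr 1
    apply List.map_congr_left
    intro ξ _
    simp only [Function.comp]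
    linear_combination ((deg ξ.1 : ℤ)) ^ 2 * hε2 ξ
  · intro p hp
    simp only [tripleData, List.mem_cons, List.mem_nil_iff, or_false] at hp
    rcases hp with rfl | rfl | rfl | rfl | rfl | rfl | rfl
    · have := hCE ![1, 0, 0] ![1, 0, 0] ![1, 1, 1] (by decide) (by decide) (by decide)
        (by decide) (by decide)
      rw [red_wtv1, red_wtv3, red_l113] at this
      exact_mod_cast this
    · have := hCE ![1, 0, 0] ![1, 0, 0] ![1, 1, 0] (by decide) (by decide) (by decide)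
        (by decide) (by decide)
      rw [red_wtv1, red_wtv2, red_l112] at this
      exact_mod_cast this
    · have := hCE ![1, 0, 0] ![1, 1, 1] ![1, 1, 1] (by decide) (by decide) (by decide)
        (by decide) (by decide)
      rw [red_wtv1, red_wtv3, red_l133] at this
      exact_mod_cast this
    · have := hCE ![1, 0, 0] ![1, 1, 0] ![1, 1, 0] (by decide) (by decide) (by decide)
        (by decide) (by decide)
      rw [red_wtv1, red_wtv2, red_l122] at this
      exact_mod_cast this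
    · have := hCE ![1, 1, 1] ![1, 1, 1] ![1, 1, 0] (by decide) (by decide) (by decide)
        (by decide) (by decide)
      rw [red_wtv3, red_wtv2, red_l332] at this
      exact_mod_cast this
    · have := hCE ![1, 1, 1] ![1, 1, 0] ![1, 1, 0] (by decide) (by decide) (by decide)
        (by decide) (by decide)
      rw [red_wtv3, red_wtv2, red_l322] at this
      exact_mod_cast this
    · have := hCE ![1, 0, 0] ![1, 1, 1] ![1, 1, 0] (by decide) (by decide) (by decide)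
        (by decide) (by decide)
      rw [red_wtv1, red_wtv3, red_wtv2, red_l132] at this
      exact_mod_cast this

end Cfsg.Agent.Lib.H25.L648
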