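import Cfsg.Agent.Lib.H8.TZDim
import Cfsg.Agent.Lib.H11.S2524G1

/-!
# S2524 (Tiep-Zalesskii gap for `Sp_2n(q)`, `q` odd; route U, architect helper19): the concrete consequences of the
rank-one property (R1) (helper25).

`n = m + 1`, `star = Fin.last m`.  `(χ, Φ, hΦ)` as in `Lib/H8/TZBasic`, `PY Φ ρ Y` the `Q`-eigenprojections, `R1 Φ ρ` the rank-one
property.  Group side: `Lib/H11/S2524G0`, `S2524G1`.
-/

set_option autoImplicit false
set_option linter.unusedSectionVars false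
set_option linter.unusedVariables false
set_option linter.unusedSimpArgs false

namespace Cfsg.Agent.Lib.H25.SpR

open Matrix Module Cfsg.Agent.Lib.H12.LS2 Cfsg.Agent.Lib.H5.LS2 Cfsg.Agent.Lib.H20.Weil Cfsg.Agent.Lib.H4
open Cfsg.Agent.Lib.H8.TZ

/-! ## linear algebra of rank-one symmetric matrices -/

section LA

variable {F : Type*} [Field F] {n : ℕ}

/-- the fundamental relation of a rank-one symmetric matrix -/
theorem rank_one_rel (Y : Matrix (Fin n) (Fin n) F) (c : F) (v : Fin n → F) (hY : Y = c • vecMulVec v v)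
    (i j s : Fin n) : Y i j * Y s s = Y i s * Y j s := by
  rw [hY]
  simp only [Matrix.smul_apply, vecMulVec_apply, smul_eq_mul]
  ring

/-- (r1)/(r4): a rank-one symmetric matrix with `Y_ss = 0` has zero column `s` -/
theorem col_zero_of_rank_one (Y : Matrix (Fin n) (Fin n) F) (c : F) (v : Fin n → F)
    (hY : Y = c • vecMulVec v v) (s : Fin n) (h : Y s s = 0) (i : Fin n) : Y i s = 0 := by
  rw [hY] at h ⊢
  simp only [Matrix.smul_apply, vecMulVec_apply, smul_eq_mul] at h ⊢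
  rcases mul_eq_zero.1 h with h1 | h1
  · rw [h1, zero_mul]
  · rcases mul_eq_zero.1 h1 with h2 | h2 <;> rw [h2] <;> ring

/-- (r2): two rank-one symmetric matrices with the same column `s` and `Y_ss ≠ 0` are equal -/
theorem eq_of_rank_one_of_col (Y Y' : Matrix (Fin n) (Fin n) F) (c c' : F) (v v' : Fin n → F)
    (hY : Y = c • vecMulVec v v) (hY' : Y' = c' • vecMulVec v' v') (s : Fin n) (hs : Y s s ≠ 0)
    (hcol : ∀ i, Y i s = Y' i s) : Y = Y' := by
  ext i j
  have h1 := rank_one_rel Y c v hY i j s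
  have h2 := rank_one_rel Y' c' v' hY' i j s
  rw [← hcol i, ← hcol j, ← hcol s] at h2
  have h3 : Y i j * Y s s = Y' i j * Y s s := by rw [h1, h2]
  exact mul_right_cancel₀ hs h3

/-- (r4): a non-zero rank-one symmetric matrix has a non-zero diagonal entry -/
theorem exists_diag_ne_zero (Y : Matrix (Fin n) (Fin n) F) (c : F) (v : Fin n → F)
    (hY : Y = c • vecMulVec v v) (hne : Y ≠ 0) : ∃ j, Y j j ≠ 0 := by
  by_contra hcon
  push Not at hcon
  apply hne
  ext i j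
  have h1 := col_zero_of_rank_one Y c v hY j (hcon j) i
  simpa using h1

end LA

/-! ## the characters `Φ Y` on special symmetric matrices -/

section Phi

open Cfsg.Agent.Lib.H11.SpU

variable {F : Type*} [Field F] {n : ℕ}

/-- `t (E_ij + E_ji)` as a symmetric matrix -/
def symP (i j : Fin n) (t : F) : Symm n F :=
  ⟨Matrix.single i j t + Matrix.single j i t, by
    rw [mem_Symm, Matrix.transpose_add, Matrix.transpose_single, Matrix.transpose_single, add_comm]⟩

@[simp] theorem symP_val (i j : Fin n) (t : F) :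
    ((symP i j t : Symm n F) : Matrix (Fin n) (Fin n) F) = Matrix.single i j t + Matrix.single j i t := rfl

theorem symm_apply (Y : Symm n F) (i j : Fin n) :
    (Y : Matrix (Fin n) (Fin n) F) i j = (Y : Matrix (Fin n) (Fin n) F) j i := by
  have h1 : (Y : Matrix (Fin n) (Fin n) F)ᵀ = Y := (mem_Symm _ _).1 Y.2
  have h2 := congrFun (congrFun h1 j) i
  rw [Matrix.transpose_apply] at h2
  exact h2

variable [Fintype (Symm n F)]
  (χ : AddChar F ℂ) (Φ : Symm n F ≃ AddChar (Symm n F) ℂ)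
  (hΦ : ∀ Y X : Symm n F, Φ Y X =
    χ (Matrix.trace ((X : Matrix (Fin n) (Fin n) F) * (Y : Matrix (Fin n) (Fin n) F))))

include hΦ in
theorem Phi_symE (Y : Symm n F) (i : Fin n) (c : F) :
    Φ Y (symE i c) = χ (c * (Y : Matrix (Fin n) (Fin n) F) i i) := by
  rw [hΦ, symE_val, Matrix.trace_single_mul, smul_eq_mul]

include hΦ in
theorem Phi_symP (Y : Symm n F) (i j : Fin n) (t : F) :
    Φ Y (symP i j t) = χ (t * (2 * (Y : Matrix (Fin n) (Fin n) F) i j)) := by
  rw [hΦ, symP_val, Matrix.add_mul, Matrix.trace_add, Matrix.trace_single_mul, Matrix.trace_single_mul,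
    smul_eq_mul, smul_eq_mul, symm_apply Y j i]
  congr 1
  ring

include hΦ in
/-- the character `χ` is non-trivial (as `Φ` is injective and `n ≥ 1`) -/
theorem chi_ne_one (i : Fin n) : χ ≠ 1 := by
  intro h
  have h1 : Φ (symE i 1) = Φ 0 := by
    apply DFunLike.ext
    intro X
    rw [hΦ, hΦ, h]
    simp
  have h2 := Φ.injective h1
  have h3 := congrArg (fun Z : Symm n F => (Z : Matrix (Fin n) (Fin n) F) i i) h2
  simp at h3

omit [Fintype (Symm n F)] in
theorem eq_zero_of_chi (hχ : χ ≠ 1) (a : F) (h : ∀ t, χ (t * a) = 1) : a = 0 := by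
  by_contra ha
  apply hχ
  apply DFunLike.ext
  intro x
  have := h (x / a)
  rw [div_mul_cancel₀ x ha] at this
  rw [this]
  rfl

end Phi

/-! ## (r1): `U1`-fixed vectors are `H`-fixed -/

section r1

open Cfsg.Agent.Lib.H11.SpU

variable {F : Type*} [Field F] [Fintype F] {m : ℕ}
  [Fintype (Symm (m + 1) F)]
  {V : Type*} [AddCommGroup V] [Module ℂ V] [FiniteDimensional ℂ V]
  (χ : AddChar F ℂ) (Φ : Symm (m + 1) F ≃ AddChar (Symm (m + 1) F) ℂ)
  (hΦ : ∀ Y X : Symm (m + 1) F, Φ Y X =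
    χ (Matrix.trace ((X : Matrix (Fin (m + 1)) (Fin (m + 1)) F) * (Y : Matrix (Fin (m + 1)) (Fin (m + 1)) F))))
  (ρ : Matrix.symplecticGroup (Fin (m + 1)) F →* Module.End ℂ V)

omit [Fintype F] in
/-- every vector is the sum of its `Q`-eigencomponents -/
theorem sum_PY_apply (x : V) : ∑ Y : Symm (m + 1) F, PY Φ ρ Y x = x := by
  classical
  have h := RepChar.sum_proj ρ (tEl : Symm (m + 1) F → _) Cfsg.Agent.Lib.H8.TZ.tEl_add
  have h2 : ∑ Y : Symm (m + 1) F, PY Φ ρ Y = 1 := by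
    rw [← h]
    exact Equiv.sum_comp Φ (fun ψ => RepChar.proj ρ tEl ψ)
  have h3 := LinearMap.congr_fun h2 x
  rwa [LinearMap.sum_apply, Module.End.one_apply] at h3

omit [Fintype F] in
/-- the Siegel elements act on the `Y`-component by the scalar `Φ Y X` -/
theorem tEl_PY_apply (Y X : Symm (m + 1) F) (x : V) :
    ρ (tEl X) (PY Φ ρ Y x) = Φ Y X • PY Φ ρ Y x := by
  have h := RepChar.map_mul_proj ρ tEl Cfsg.Agent.Lib.H8.TZ.tEl_add (Φ Y) X
  have h2 := LinearMap.congr_fun h x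
  simpa using h2

omit [Fintype F] in
/-- the Siegel elements commute with the eigenprojections -/
theorem tEl_comm_PY (Y X : Symm (m + 1) F) (x : V) :
    ρ (tEl X) (PY Φ ρ Y x) = PY Φ ρ Y (ρ (tEl X) x) := by
  have h := RepChar.commute_proj ρ (tEl : Symm (m + 1) F → _) (Φ Y) (g := tEl X) (fun X' => by
    rw [← Cfsg.Agent.Lib.H8.TZ.tEl_add, ← Cfsg.Agent.Lib.H8.TZ.tEl_add, add_comm X X'])
  exact LinearMap.congr_fun h x

include hΦ in
/-- a component of a `U1`-fixed vector has `Y_** = 0` -/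
theorem star_zero_of_fixed (x : V) (hx : ∀ u ∈ U1 m F, ρ u x = x) (Y : Symm (m + 1) F)
    (hY : PY Φ ρ Y x ≠ 0) : (Y : Matrix (Fin (m + 1)) (Fin (m + 1)) F) (Fin.last m) (Fin.last m) = 0 := by
  apply eq_zero_of_chi χ (chi_ne_one χ Φ hΦ (Fin.last m))
  intro c
  have h1 := tEl_PY_apply Φ ρ Y (symE (Fin.last m) c) x
  rw [tEl_comm_PY, hx _ (mem_U1.2 ⟨c, rfl⟩), Phi_symE χ Φ hΦ] at h1
  by_contra hne
  apply hY
  have h2 : (χ (c * (Y : Matrix (Fin (m + 1)) (Fin (m + 1)) F) (Fin.last m) (Fin.last m)) - 1) •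
      PY Φ ρ Y x = 0 := by
    rw [sub_smul, one_smul, ← h1, sub_self]
  rcases smul_eq_zero.1 h2 with h3 | h3
  · exact absurd (sub_eq_zero.1 h3) hne
  · exact h3

omit [Fintype F] [Fintype (Symm (m + 1) F)] in
/-- `trace (X Y) = 0` for `X` supported on the last row and column and `Y` with zero last column -/
theorem trace_symA_mul (X Y : Symm (m + 1) F) (hX : X ∈ symA m F)
    (hcol : ∀ i, (Y : Matrix (Fin (m + 1)) (Fin (m + 1)) F) i (Fin.last m) = 0) :
    Matrix.trace ((X : Matrix (Fin (m + 1)) (Fin (m + 1)) F) * (Y : Matrix (Fin (m + 1)) (Fin (m + 1)) F)) = 0 := by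
  rw [Matrix.trace]
  apply Finset.sum_eq_zero
  intro i _
  rw [Matrix.diag_apply, Matrix.mul_apply]
  apply Finset.sum_eq_zero
  intro j _
  refine Fin.lastCases ?_ (fun i' => ?_) i
  · rw [hcol j, mul_zero]
  · refine Fin.lastCases ?_ (fun j' => ?_) j
    · rw [symm_apply Y, hcol, mul_zero]
    · rw [(mem_symA.1 hX) i' j', zero_mul]

include hΦ in
/-- **(r1), part A**: a `U1`-fixed vector of a module with (R1) is fixed by `A` -/
theorem fixed_As_of_fixed_U1 (hR1 : R1 Φ ρ) (x : V) (hx : ∀ u ∈ U1 m F, ρ u x = x) :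
    ∀ a ∈ As m F, ρ a x = x := by
  intro a ha
  obtain ⟨X, hX, rfl⟩ := mem_As.1 ha
  conv_lhs => rw [← sum_PY_apply Φ ρ x]
  conv_rhs => rw [← sum_PY_apply Φ ρ x]
  rw [map_sum]
  apply Finset.sum_congr rfl
  intro Y _
  by_cases hY : PY Φ ρ Y x = 0
  · rw [hY, map_zero]
  · have hPY : PY Φ ρ Y ≠ 0 := by
      intro h0
      apply hY
      rw [h0]
      rfl
    obtain ⟨c, v, hcv⟩ := hR1 Y hPY
    have hss := star_zero_of_fixed χ Φ hΦ ρ x hx Y hY
    have hcol := col_zero_of_rank_one _ c v hcv (Fin.last m) hss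
    rw [tEl_PY_apply, hΦ, trace_symA_mul X Y hX hcol, AddChar.map_zero_eq_one, one_smul]

include hΦ in
/-- **(r1)**: a `U1`-fixed vector of a module with (R1) is fixed by `H` (given (g1): `H` is generated by the
`S`-conjugates of `A`) -/
theorem fixed_Hs_of_fixed_U1 (hR1 : R1 Φ ρ)
    (hgen : Hs m F ≤ Subgroup.closure {g | ∃ s ∈ Ss m F, ∃ a ∈ As m F, g = s * a * s⁻¹})
    (x : V) (hx : ∀ u ∈ U1 m F, ρ u x = x) : ∀ h ∈ Hs m F, ρ h x = x := by
  have key : ∀ g ∈ Subgroup.closure {g | ∃ s ∈ Ss m F, ∃ a ∈ As m F, g = s * a * s⁻¹},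
      ∀ y : V, (∀ u ∈ U1 m F, ρ u y = y) → ρ g y = y := by
    intro g hg
    induction hg using Subgroup.closure_induction with
    | mem g hg =>
      obtain ⟨s, hs, a, ha, rfl⟩ := hg
      intro y hy
      have hsy : ∀ u ∈ U1 m F, ρ u (ρ s⁻¹ y) = ρ s⁻¹ y := by
        intro u hu
        have hc : s⁻¹ * u = u * s⁻¹ := by
          have h1 : s * u = u * s := Ss_comm_K1 hs (U1_le_K1 hu)
          calc s⁻¹ * u = s⁻¹ * (u * s) * s⁻¹ := by group
            _ = s⁻¹ * (s * u) * s⁻¹ := by rw [h1]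
            _ = u * s⁻¹ := by group
        rw [← Module.End.mul_apply, ← map_mul, ← hc, map_mul, Module.End.mul_apply, hy u hu]
      rw [map_mul, map_mul, Module.End.mul_apply, Module.End.mul_apply,
        fixed_As_of_fixed_U1 χ Φ hΦ ρ hR1 _ hsy a ha, ← Module.End.mul_apply, ← map_mul, mul_inv_cancel,
        map_one, Module.End.one_apply]
    | one =>
      intro y _
      rw [map_one, Module.End.one_apply]
    | mul g g' _ _ ihg ihg' =>
      intro y hy
      rw [map_mul, Module.End.mul_apply, ihg' y hy, ihg y hy]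
    | inv g _ ihg =>
      intro y hy
      have h1 := ihg y hy
      calc ρ g⁻¹ y = ρ g⁻¹ (ρ g y) := by rw [h1]
        _ = y := by rw [← Module.End.mul_apply, ← map_mul, inv_mul_cancel, map_one, Module.End.one_apply]
  intro h hh
  exact key h (hgen hh) x hx

omit [Fintype (Symm (m + 1) F)] in
theorem eq_of_chi (hχ : χ ≠ 1) (y y' : F) (h : ∀ t, χ (t * y) = χ (t * y')) : y = y' := by
  apply sub_eq_zero.1
  apply eq_zero_of_chi χ hχ
  intro t
  rw [mul_sub, AddChar.map_sub_eq_div, h t]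
  exact div_self (AddChar.val_isUnit χ (t * y')).ne_zero

end r1

/-! ## (r2) / Step 1: an `A`-linear map between the `λ_a`-eigenspaces of `U1` commutes with `Q''` -/

section r2

open Cfsg.Agent.Lib.H11.SpU

variable {F : Type*} [Field F] [Fintype F] {m : ℕ}
  [Fintype (Symm (m + 1) F)]
  {V : Type*} [AddCommGroup V] [Module ℂ V] [FiniteDimensional ℂ V]
  {W : Type*} [AddCommGroup W] [Module ℂ W] [FiniteDimensional ℂ W]
  (χ : AddChar F ℂ) (Φ : Symm (m + 1) F ≃ AddChar (Symm (m + 1) F) ℂ)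
  (hΦ : ∀ Y X : Symm (m + 1) F, Φ Y X =
    χ (Matrix.trace ((X : Matrix (Fin (m + 1)) (Fin (m + 1)) F) * (Y : Matrix (Fin (m + 1)) (Fin (m + 1)) F))))
  (ρ : Matrix.symplecticGroup (Fin (m + 1)) F →* Module.End ℂ V)
  (ρW : Matrix.symplecticGroup (Fin (m + 1)) F →* Module.End ℂ W)

/-- the `λ_a`-eigenspace `M_(a)` of the long root group `U1 = {tEl (c E_**)}` -/
def eigU1 (a : F) : Submodule ℂ V where
  carrier := {v | ∀ c : F, ρ (tEl (symE (Fin.last m) c)) v = χ (c * a) • v}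
  add_mem' := by
    intro v v' hv hv' c
    rw [map_add, hv c, hv' c, smul_add]
  zero_mem' := by
    intro c
    rw [map_zero, smul_zero]
  smul_mem' := by
    intro z v hv c
    rw [map_smul, hv c, smul_comm]

omit [Fintype F] [Fintype (Symm (m + 1) F)] [FiniteDimensional ℂ V] in
theorem mem_eigU1 (a : F) (v : V) :
    v ∈ eigU1 χ ρ a ↔ ∀ c : F, ρ (tEl (symE (Fin.last m) c)) v = χ (c * a) • v := Iff.rfl

omit [Fintype F] in
/-- the eigencomponents of a vector of `M_(a)` lie in `M_(a)` -/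
theorem PY_mem_eigU1 (a : F) (v : V) (hv : v ∈ eigU1 χ ρ a) (Y : Symm (m + 1) F) :
    PY Φ ρ Y v ∈ eigU1 χ ρ a := by
  intro c
  rw [tEl_comm_PY, hv c, map_smul]

include hΦ in
/-- a non-zero eigencomponent of a vector of `M_(a)` has `Y_** = a` -/
theorem star_eq_of_mem_eigU1 (a : F) (v : V) (hv : v ∈ eigU1 χ ρ a) (Y : Symm (m + 1) F)
    (hY : PY Φ ρ Y v ≠ 0) : (Y : Matrix (Fin (m + 1)) (Fin (m + 1)) F) (Fin.last m) (Fin.last m) = a := by
  apply eq_of_chi χ (chi_ne_one χ Φ hΦ (Fin.last m))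
  intro c
  have h1 := tEl_PY_apply Φ ρ Y (symE (Fin.last m) c) v
  rw [PY_mem_eigU1 χ Φ ρ a v hv Y c, Phi_symE χ Φ hΦ] at h1
  by_contra hne
  apply hY
  have h2 : (χ (c * a) - χ (c * (Y : Matrix (Fin (m + 1)) (Fin (m + 1)) F) (Fin.last m) (Fin.last m))) •
      PY Φ ρ Y v = 0 := by
    rw [sub_smul, h1, sub_self]
  rcases smul_eq_zero.1 h2 with h3 | h3
  · exact absurd (sub_eq_zero.1 h3).symm hne
  · exact h3

omit [Fintype F] [Fintype (Symm (m + 1) F)] in
theorem symE_last_mem_symA (c : F) : symE (Fin.last m) c ∈ symA m F := by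
  rw [mem_symA]
  intro i j
  rw [symE_val, Matrix.single_apply]
  simp [Fin.castSucc_ne_last, (Fin.castSucc_ne_last i).symm]

omit [Fintype F] [Fintype (Symm (m + 1) F)] in
theorem symP_last_mem_symA (i : Fin (m + 1)) (t : F) : symP i (Fin.last m) t ∈ symA m F := by
  rw [mem_symA]
  intro k l
  rw [symP_val, Matrix.add_apply, Matrix.single_apply, Matrix.single_apply]
  simp [Fin.castSucc_ne_last, (Fin.castSucc_ne_last l).symm, (Fin.castSucc_ne_last k).symm]

include hΦ in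
/-- two symmetric matrices whose characters agree on `A` have the same last column -/
theorem col_eq_of_Phi_eq (h2 : (2 : F) ≠ 0) (Y Y' : Symm (m + 1) F)
    (h : ∀ X ∈ symA m F, Φ Y X = Φ Y' X) (i : Fin (m + 1)) :
    (Y : Matrix (Fin (m + 1)) (Fin (m + 1)) F) i (Fin.last m) =
      (Y' : Matrix (Fin (m + 1)) (Fin (m + 1)) F) i (Fin.last m) := by
  have hχ := chi_ne_one χ Φ hΦ (Fin.last m)
  have h3 : (2 : F) * (Y : Matrix (Fin (m + 1)) (Fin (m + 1)) F) i (Fin.last m) =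
      2 * (Y' : Matrix (Fin (m + 1)) (Fin (m + 1)) F) i (Fin.last m) := by
    apply eq_of_chi χ hχ
    intro t
    have := h _ (symP_last_mem_symA i t)
    rwa [Phi_symP χ Φ hΦ, Phi_symP χ Φ hΦ] at this
  exact mul_left_cancel₀ h2 h3

include hΦ in
/-- **(r2) / STEP1-Q**: a linear map `φ : W → V` commuting with `A` on `W_(a)` (`a ≠ 0`) commutes with all of `Q` (in particular
with `Q''`) on `W_(a)`, and maps `W_Y` into `V_Y`.  (Elementary form: `A = {tEl X, X ∈ symA}`.) -/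
theorem step1_hQ (h2 : (2 : F) ≠ 0) (hRW : R1 Φ ρW) (hRV : R1 Φ ρ) (a : F) (ha : a ≠ 0) (φ : W →ₗ[ℂ] V)
    (hA : ∀ X ∈ symA m F, ∀ w ∈ eigU1 χ ρW a, φ (ρW (tEl X) w) = ρ (tEl X) (φ w)) :
    ∀ X : Symm (m + 1) F, ∀ w ∈ eigU1 χ ρW a, φ (ρW (tEl X) w) = ρ (tEl X) (φ w) := by
  intro X w hw
  -- reduce to the eigencomponents of `w`
  have hcomp : ∀ Y : Symm (m + 1) F, φ (ρW (tEl X) (PY Φ ρW Y w)) = ρ (tEl X) (φ (PY Φ ρW Y w)) := by
    intro Y
    by_cases hY : PY Φ ρW Y w = 0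
    · rw [hY, map_zero, map_zero, map_zero]
    have hPYW : PY Φ ρW Y ≠ 0 := by
      intro h0
      apply hY
      rw [h0]
      rfl
    have hYa : (Y : Matrix (Fin (m + 1)) (Fin (m + 1)) F) (Fin.last m) (Fin.last m) = a :=
      star_eq_of_mem_eigU1 χ Φ hΦ ρW a w hw Y hY
    set wY := PY Φ ρW Y w with hwY
    have hwYa : wY ∈ eigU1 χ ρW a := PY_mem_eigU1 χ Φ ρW a w hw Y
    obtain ⟨c, v, hcv⟩ := hRW Y hPYW
    set u := φ wY with hu
    -- `u` is an `A`-eigenvector with the character of `Y`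
    have huA : ∀ X' ∈ symA m F, ρ (tEl X') u = Φ Y X' • u := by
      intro X' hX'
      rw [hu, ← hA X' hX' wY hwYa, hwY, tEl_PY_apply, map_smul]
    -- all the components of `u` sit at `Y`
    have hcompu : ∀ Y' : Symm (m + 1) F, Y' ≠ Y → PY Φ ρ Y' u = 0 := by
      intro Y' hne
      by_contra hY'
      apply hne
      have hPYV : PY Φ ρ Y' ≠ 0 := by
        intro h0
        apply hY'
        rw [h0]
        rfl
      obtain ⟨c', v', hcv'⟩ := hRV Y' hPYV
      have hchar : ∀ X' ∈ symA m F, Φ Y' X' = Φ Y X' := by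
        intro X' hX'
        have h1 := tEl_PY_apply Φ ρ Y' X' u
        rw [tEl_comm_PY, huA X' hX', map_smul] at h1
        by_contra hne'
        apply hY'
        have h3 : (Φ Y X' - Φ Y' X') • PY Φ ρ Y' u = 0 := by
          rw [sub_smul, h1, sub_self]
        rcases smul_eq_zero.1 h3 with h4 | h4
        · exact absurd (sub_eq_zero.1 h4).symm hne'
        · exact h4
      have hcol := col_eq_of_Phi_eq χ Φ hΦ h2 Y' Y hchar
      apply Subtype.ext
      refine (eq_of_rank_one_of_col _ _ c c' v v' hcv hcv' (Fin.last m) (by rw [hYa]; exact ha)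
        (fun i => (hcol i).symm)).symm
    have huY : PY Φ ρ Y u = u := by
      have h1 := sum_PY_apply Φ ρ u
      rw [Finset.sum_eq_single Y (fun Y' _ hne => hcompu Y' hne)
        (fun h => absurd (Finset.mem_univ Y) h)] at h1
      exact h1
    rw [hwY, tEl_PY_apply, map_smul, ← hwY, ← hu, ← huY, tEl_PY_apply]
  calc φ (ρW (tEl X) w) = φ (ρW (tEl X) (∑ Y : Symm (m + 1) F, PY Φ ρW Y w)) := by rw [sum_PY_apply]
    _ = ∑ Y : Symm (m + 1) F, φ (ρW (tEl X) (PY Φ ρW Y w)) := by rw [map_sum, map_sum]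
    _ = ∑ Y : Symm (m + 1) F, ρ (tEl X) (φ (PY Φ ρW Y w)) := Finset.sum_congr rfl (fun Y _ => hcomp Y)
    _ = ρ (tEl X) (φ (∑ Y : Symm (m + 1) F, PY Φ ρW Y w)) := by rw [map_sum, map_sum]
    _ = ρ (tEl X) (φ w) := by rw [sum_PY_apply]

include hΦ in
/-- **STEP1-Q**, subgroup form (= hypothesis `hQ` of `H18.UFrob.rigid` with `WA = eigU1 χ ρW a`, `Hset = Hs`, `Qpp = Qpp`) -/
theorem step1_hQ' (h2 : (2 : F) ≠ 0) (hRW : R1 Φ ρW) (hRV : R1 Φ ρ) (a : F) (ha : a ≠ 0) (φ : W →ₗ[ℂ] V)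
    (hH : ∀ h ∈ Hs m F, ∀ w ∈ eigU1 χ ρW a, φ (ρW h w) = ρ h (φ w)) :
    ∀ q ∈ Qpp m F, ∀ w ∈ eigU1 χ ρW a, φ (ρW q w) = ρ q (φ w) := by
  intro q hq w hw
  obtain ⟨X, -, rfl⟩ := mem_Qpp.1 hq
  exact step1_hQ χ Φ hΦ ρ ρW h2 hRW hRV a ha φ
    (fun X' hX' w' hw' => hH _ (As_le_Hs (mem_As.2 ⟨X', hX', rfl⟩)) w' hw') X w hw

omit [Fintype F] [Fintype (Symm (m + 1) F)] [FiniteDimensional ℂ V] in
/-- `M_(a)` is invariant under every element commuting with `U1` -/
theorem eigU1_invariant (a : F) (g : Matrix.symplecticGroup (Fin (m + 1)) F)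
    (hg : ∀ u ∈ U1 m F, g * u = u * g) (v : V) (hv : v ∈ eigU1 χ ρ a) : ρ g v ∈ eigU1 χ ρ a := by
  intro c
  have h1 : tEl (symE (Fin.last m) c) * g = g * tEl (symE (Fin.last m) c) :=
    (hg _ (mem_U1.2 ⟨c, rfl⟩)).symm
  rw [← Module.End.mul_apply, ← map_mul, h1, map_mul, Module.End.mul_apply, hv c, map_smul]

end r2

/-! ## (r4): `C0 ≤ ∑_j w_j* D` -/

section r4

open Cfsg.Agent.Lib.H11.SpU Cfsg.Agent.Lib.H16.Weil

variable {F : Type*} [Field F] [Fintype F] {m : ℕ}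
  [Fintype (Symm (m + 1) F)]
  {V : Type*} [AddCommGroup V] [Module ℂ V] [FiniteDimensional ℂ V]
  (χ : AddChar F ℂ) (Φ : Symm (m + 1) F ≃ AddChar (Symm (m + 1) F) ℂ)
  (hΦ : ∀ Y X : Symm (m + 1) F, Φ Y X =
    χ (Matrix.trace ((X : Matrix (Fin (m + 1)) (Fin (m + 1)) F) * (Y : Matrix (Fin (m + 1)) (Fin (m + 1)) F))))
  (ρ : Matrix.symplecticGroup (Fin (m + 1)) F →* Module.End ℂ V)

omit [Fintype F] [Fintype (Symm (m + 1) F)] in
theorem qf_single {n : ℕ} (Z : Matrix (Fin n) (Fin n) F) (i : Fin n) : qf Z (Pi.single i 1) = Z i i := by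
  unfold qf
  rw [Matrix.mulVec_single_one, single_one_dotProduct]
  rfl

omit [Fintype F] [Fintype (Symm (m + 1) F)] in
/-- swapping `j` and `*` moves the diagonal entry `Y_jj` to the corner -/
theorem cact_glSwap_last (Y : Symm (m + 1) F) (j : Fin (m + 1)) :
    ((cact (glSwap j (Fin.last m)) Y : Symm (m + 1) F) : Matrix (Fin (m + 1)) (Fin (m + 1)) F)
      (Fin.last m) (Fin.last m) = (Y : Matrix (Fin (m + 1)) (Fin (m + 1)) F) j j := by
  rw [← qf_single ((cact (glSwap j (Fin.last m)) Y : Symm (m + 1) F) : Matrix (Fin (m + 1)) (Fin (m + 1)) F)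
    (Fin.last m), cact_val, qf_conj, glSwap_mulVec, ← qf_single (Y : Matrix (Fin (m + 1)) (Fin (m + 1)) F) j]
  congr 1
  funext k
  rw [Function.comp_apply, Pi.single_apply, Pi.single_apply]
  by_cases hk : k = j
  · subst hk
    simp
  · rw [if_neg hk]
    rw [if_neg]
    intro h
    apply hk
    have h1 : Equiv.swap j (Fin.last m) (Equiv.swap j (Fin.last m) k) = Equiv.swap j (Fin.last m) (Fin.last m) := by
      rw [h]
    rwa [Equiv.swap_apply_self, Equiv.swap_apply_right] at h1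

omit [Fintype F] [Fintype (Symm (m + 1) F)] in
theorem wj_mul_self (j : Fin (m + 1)) : (wj j : Sp (m + 1) F) * wj j = 1 := by
  unfold wj
  rw [← Cfsg.Agent.Lib.H8.TZ.lEl_mul, glSwap_mul_self, Cfsg.Agent.Lib.H8.TZ.lEl_one]

include hΦ in
/-- **(r4)**, component form: a `Q`-eigencomponent with `Y ≠ 0`, `Y_** = 0` is `ρ (wj j)` of an eigenvector whose matrix has non-zero
corner entry, `j ≠ *` -/
theorem r4_component (hR1 : R1 Φ ρ) (Y : Symm (m + 1) F) (hY0 : Y ≠ 0)
    (hss : (Y : Matrix (Fin (m + 1)) (Fin (m + 1)) F) (Fin.last m) (Fin.last m) = 0) (hPY : PY Φ ρ Y ≠ 0) :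
    ∃ (j : Fin m) (Y' : Symm (m + 1) F),
      (Y' : Matrix (Fin (m + 1)) (Fin (m + 1)) F) (Fin.last m) (Fin.last m) ≠ 0 ∧
      ∀ x : V, ∃ d ∈ LinearMap.range (PY Φ ρ Y'), PY Φ ρ Y x = ρ (wj (Fin.castSucc j)) d := by
  obtain ⟨c, v, hcv⟩ := hR1 Y hPY
  have hYm : (Y : Matrix (Fin (m + 1)) (Fin (m + 1)) F) ≠ 0 := by
    intro h0
    apply hY0
    exact Subtype.ext h0
  obtain ⟨j', hj'⟩ := exists_diag_ne_zero _ c v hcv hYm
  have hj'last : j' ≠ Fin.last m := by
    rintro rfl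
    exact hj' hss
  obtain ⟨j, rfl⟩ : ∃ j : Fin m, Fin.castSucc j = j' := by
    refine Fin.lastCases (fun h => absurd rfl h) (fun i _ => ⟨i, rfl⟩) j' hj'last
  refine ⟨j, cact (glSwap (Fin.castSucc j) (Fin.last m)) Y, ?_, ?_⟩
  · rw [cact_glSwap_last]
    exact hj'
  · intro x
    have hP := PY_cact χ Φ hΦ ρ (glSwap (Fin.castSucc j) (Fin.last m)) Y
    rw [glSwap_inv] at hP
    have hww : ρ (wj (Fin.castSucc j)) * ρ (wj (Fin.castSucc j)) = 1 := by
      rw [← map_mul, wj_mul_self, map_one]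
    refine ⟨ρ (wj (Fin.castSucc j)) (PY Φ ρ Y x), ⟨ρ (wj (Fin.castSucc j)) x, ?_⟩, ?_⟩
    · rw [hP]
      show ρ (wj (Fin.castSucc j)) (PY Φ ρ Y (ρ (wj (Fin.castSucc j)) (ρ (wj (Fin.castSucc j)) x))) = _
      rw [← Module.End.mul_apply (ρ (wj (Fin.castSucc j))) (ρ (wj (Fin.castSucc j))) x, hww,
        Module.End.one_apply]
    · rw [← Module.End.mul_apply, hww, Module.End.one_apply]

include hΦ in
/-- **(r4)**, span form (= hypothesis `hC0` of `H24.UStep3.step3` / `H20.UGlue.step3` once `D = ker p0`): a `U1`-fixed vector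
without `Q`-fixed component lies in the span of the `ρ (wj j) d`, `j ≠ *`, `d ∈ D`, for any submodule `D` containing the
`Q`-eigenvectors whose matrix has non-zero corner entry. -/
theorem r4_span (hR1 : R1 Φ ρ) (D : Submodule ℂ V)
    (hD : ∀ Y' : Symm (m + 1) F, (Y' : Matrix (Fin (m + 1)) (Fin (m + 1)) F) (Fin.last m) (Fin.last m) ≠ 0 →
      LinearMap.range (PY Φ ρ Y') ≤ D)
    (c : V) (hc0 : PY Φ ρ 0 c = 0) (hcU : ∀ u ∈ U1 m F, ρ u c = c) :
    c ∈ Submodule.span ℂ {x : V | ∃ (j : Fin m) (d : V), d ∈ D ∧ x = ρ (wj (Fin.castSucc j)) d} := by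
  rw [← sum_PY_apply Φ ρ c]
  apply Submodule.sum_mem
  intro Y _
  by_cases hY : PY Φ ρ Y c = 0
  · rw [hY]
    exact Submodule.zero_mem _
  · have hPY : PY Φ ρ Y ≠ 0 := by
      intro h0
      apply hY
      rw [h0]
      rfl
    have hY0 : Y ≠ 0 := by
      rintro rfl
      exact hY hc0
    have hss := star_zero_of_fixed χ Φ hΦ ρ c hcU Y hY
    obtain ⟨j, Y', hY', hx⟩ := r4_component χ Φ hΦ ρ hR1 Y hY0 hss hPY
    obtain ⟨d, hd, hxd⟩ := hx c
    apply Submodule.subset_span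
    exact ⟨j, d, hD Y' hY' hd, hxd⟩

end r4

end Cfsg.Agent.Lib.H25.SpR
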