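import Cfsg.Agent.Lib.H16.WeilL2

/-!
# S2524 (Tiep-Zalesskii gap for `Sp_2n(q)`, `q` odd), piece (O) (helper25): the ORBIT LEMMA for symmetric matrices of rank `≥ 2`.

`F` a finite field of odd characteristic, `Y` a symmetric `n × n` matrix which is NOT of the form `c • v vᵀ`: the congruence orbit
`{gᵀ Y g}` has at least `(q^n - 1)(q^n - q) / (2 (q + 1))` elements.
-/

set_option autoImplicit false
set_option linter.unusedSectionVars false
set_option linter.unusedVariables false
set_option linter.unusedSimpArgs false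

namespace Cfsg.Agent.Lib.H25.SymOrbit2

open Matrix Cfsg.Agent.Lib.H12.LS2 Cfsg.Agent.Lib.H20.Weil Cfsg.Agent.Lib.H16.Weil

variable {F : Type*} [Field F]

/-! ## block matrices on `Fin (m + 1)` -/

/-- the block matrix `[[a, r], [l, D]]` -/
def blk {m : ℕ} (a : F) (r l : Fin m → F) (D : Matrix (Fin m) (Fin m) F) :
    Matrix (Fin (m + 1)) (Fin (m + 1)) F :=
  Matrix.of (fun i j => Fin.cases (Fin.cases a r j) (fun i' => Fin.cases (l i') (D i') j) i)

section blk

variable {m : ℕ} (a a' : F) (r l r' l' : Fin m → F) (D D' : Matrix (Fin m) (Fin m) F)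

@[simp] theorem blk_zero_zero : blk a r l D 0 0 = a := rfl

@[simp] theorem blk_zero_succ (j : Fin m) : blk a r l D 0 j.succ = r j := rfl

@[simp] theorem blk_succ_zero (i : Fin m) : blk a r l D i.succ 0 = l i := rfl

@[simp] theorem blk_succ_succ (i j : Fin m) : blk a r l D i.succ j.succ = D i j := rfl

theorem blk_ext {A B : Matrix (Fin (m + 1)) (Fin (m + 1)) F} (h00 : A 0 0 = B 0 0)
    (h0s : ∀ j : Fin m, A 0 j.succ = B 0 j.succ) (hs0 : ∀ i : Fin m, A i.succ 0 = B i.succ 0)
    (hss : ∀ i j : Fin m, A i.succ j.succ = B i.succ j.succ) : A = B := by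
  ext i j
  refine Fin.cases ?_ (fun i' => ?_) i <;> refine Fin.cases ?_ (fun j' => ?_) j
  · exact h00
  · exact h0s j'
  · exact hs0 i'
  · exact hss i' j'

theorem blk_eta (M : Matrix (Fin (m + 1)) (Fin (m + 1)) F) :
    M = blk (M 0 0) (fun j => M 0 j.succ) (fun i => M i.succ 0) (M.submatrix Fin.succ Fin.succ) := by
  apply blk_ext <;> intros <;> simp

theorem blk_inj {a a' : F} {r l r' l' : Fin m → F} {D D' : Matrix (Fin m) (Fin m) F}
    (h : blk a r l D = blk a' r' l' D') : a = a' ∧ r = r' ∧ l = l' ∧ D = D' := by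
  refine ⟨?_, ?_, ?_, ?_⟩
  · have := congrFun (congrFun h 0) 0
    simpa using this
  · funext j
    have := congrFun (congrFun h 0) j.succ
    simpa using this
  · funext i
    have := congrFun (congrFun h i.succ) 0
    simpa using this
  · ext i j
    have := congrFun (congrFun h i.succ) j.succ
    simpa using this

theorem blk_mul : blk a r l D * blk a' r' l' D' =
    blk (a * a' + r ⬝ᵥ l') (a • r' + r ᵥ* D') (a' • l + D *ᵥ l') (vecMulVec l r' + D * D') := by
  apply blk_ext
  · simp [Matrix.mul_apply, Fin.sum_univ_succ, dotProduct]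
  · intro j
    simp [Matrix.mul_apply, Fin.sum_univ_succ, vecMul, dotProduct]
  · intro i
    simp [Matrix.mul_apply, Fin.sum_univ_succ, mulVec, dotProduct, mul_comm]
  · intro i j
    simp [Matrix.mul_apply, Fin.sum_univ_succ, vecMulVec_apply]

theorem blk_transpose : (blk a r l D)ᵀ = blk a l r Dᵀ := by
  apply blk_ext <;> intros <;> simp [Matrix.transpose_apply]

theorem blk_one : (1 : Matrix (Fin (m + 1)) (Fin (m + 1)) F) = blk 1 0 0 1 := by
  apply blk_ext
  · simp
  · intro j
    simp [Matrix.one_apply, Fin.succ_ne_zero, (Fin.succ_ne_zero j).symm]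
  · intro i
    simp [Matrix.one_apply, Fin.succ_ne_zero]
  · intro i j
    simp [Matrix.one_apply]

theorem blk_mulVec (x : F) (v : Fin m → F) :
    blk a r l D *ᵥ (Fin.cons x v : Fin (m + 1) → F) = Fin.cons (a * x + r ⬝ᵥ v) (x • l + D *ᵥ v) := by
  funext i
  refine Fin.cases ?_ (fun i' => ?_) i
  · simp [mulVec, dotProduct, Fin.sum_univ_succ]
  · simp [mulVec, dotProduct, Fin.sum_univ_succ, mul_comm]

theorem qf_blk (x : F) (v : Fin m → F) :
    qf (blk a r l D) (Fin.cons x v : Fin (m + 1) → F) = a * x ^ 2 + x * (r ⬝ᵥ v) + x * (v ⬝ᵥ l) + qf D v := by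
  unfold qf
  rw [blk_mulVec]
  simp [dotProduct, Fin.sum_univ_succ, Finset.sum_add_distrib, Finset.mul_sum, mul_add]
  ring_nf

theorem conj_shear (c : F) (φ : Fin m → F) (Z' : Matrix (Fin m) (Fin m) F) :
    (blk 1 φ 0 1)ᵀ * blk c 0 0 Z' * blk 1 φ 0 1 = blk c (c • φ) (c • φ) (Z' + c • vecMulVec φ φ) := by
  rw [blk_transpose, blk_mul, blk_mul]
  congr 1
  · simp
  · simp
  · simp
  · simp [Matrix.smul_vecMulVec, add_comm]

theorem conj_diag (c : F) (h Y' : Matrix (Fin m) (Fin m) F) :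
    (blk 1 0 0 h)ᵀ * blk c 0 0 Y' * blk 1 0 0 h = blk c 0 0 (hᵀ * Y' * h) := by
  rw [blk_transpose, blk_mul, blk_mul]
  congr 1
  · simp
  · simp
  · simp
  · simp

theorem shear_mul_inv (φ : Fin m → F) : blk (1 : F) φ 0 1 * blk 1 (-φ) 0 1 = 1 := by
  rw [blk_mul, blk_one]
  congr 1
  · simp
  · simp
  · simp
  · simp

theorem diag_mul_inv (h h' : Matrix (Fin m) (Fin m) F) (hh : h * h' = 1) :
    blk (1 : F) 0 0 h * blk 1 0 0 h' = 1 := by
  rw [blk_mul, blk_one]
  congr 1
  · simp
  · simp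
  · simp
  · simp [hh]

theorem blk_rank_one (c : F) (hc : c ≠ 0) (b : Fin m → F) :
    blk c b b (c⁻¹ • vecMulVec b b) =
      c⁻¹ • vecMulVec (Fin.cons c b : Fin (m + 1) → F) (Fin.cons c b : Fin (m + 1) → F) := by
  apply blk_ext
  · simp [vecMulVec_apply]
    field_simp
  · intro j
    simp [vecMulVec_apply]
    field_simp
  · intro i
    simp [vecMulVec_apply]
    field_simp
  · intro i j
    simp [vecMulVec_apply]

theorem qf_zero (D : Matrix (Fin m) (Fin m) F) : qf D 0 = 0 := by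
  unfold qf
  simp

theorem qf_e0 (Z : Matrix (Fin (m + 1)) (Fin (m + 1)) F) :
    qf Z (Fin.cons 1 0 : Fin (m + 1) → F) = Z 0 0 := by
  rw [blk_eta Z, qf_blk, qf_zero]
  simp

theorem conj_vecMulVec {k : ℕ} (g : Matrix (Fin k) (Fin k) F) (c : F) (v : Fin k → F) :
    gᵀ * (c • vecMulVec v v) * g = c • vecMulVec (gᵀ *ᵥ v) (gᵀ *ᵥ v) := by
  rw [Matrix.mul_smul, Matrix.smul_mul, Matrix.mul_vecMulVec, Matrix.vecMulVec_mul, Matrix.mulVec_transpose]

/-- clearing the first row and column of a symmetric matrix with non-zero corner -/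
theorem sym_clear (Z : Matrix (Fin (m + 1)) (Fin (m + 1)) F) (hZ : Zᵀ = Z) (hc : Z 0 0 ≠ 0) :
    Z = (blk 1 ((Z 0 0)⁻¹ • fun j => Z 0 j.succ) 0 1)ᵀ *
      blk (Z 0 0) 0 0 (Z.submatrix Fin.succ Fin.succ - (Z 0 0)⁻¹ • vecMulVec (fun j => Z 0 j.succ) (fun j => Z 0 j.succ)) *
      blk 1 ((Z 0 0)⁻¹ • fun j => Z 0 j.succ) 0 1 := by
  rw [conj_shear]
  apply blk_ext
  · simp
  · intro j
    simp
    field_simp
  · intro i
    have h1 : Z i.succ 0 = Z 0 i.succ := by
      have := congrFun (congrFun hZ 0) i.succ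
      rw [Matrix.transpose_apply] at this
      exact this
    simp [h1]
    field_simp
  · intro i j
    simp [vecMulVec_apply]
    field_simp
    ring

end blk

/-! ## the refined lower bound for the fibres -/

section fiber

variable [Fintype F] [DecidableEq F]

/-- the fibre over `e_0`: at least `q^m (q^m - 1) / 2` matrices of the orbit have the same corner entry -/
theorem card_fiber_ge2_e0 (h2 : (2 : F) ≠ 0) {m : ℕ}
    (OS : Finset (Matrix (Fin (m + 1)) (Fin (m + 1)) F))
    (hOS : ∀ Z ∈ OS, ∀ g g' : Matrix (Fin (m + 1)) (Fin (m + 1)) F, g * g' = 1 → gᵀ * Z * g ∈ OS)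
    (hsym : ∀ Z ∈ OS, Zᵀ = Z)
    (hrk : ∀ Z ∈ OS, ¬ ∃ (c : F) (v : Fin (m + 1) → F), Z = c • vecMulVec v v)
    (Z1 : Matrix (Fin (m + 1)) (Fin (m + 1)) F) (hZ1 : Z1 ∈ OS) (hc : Z1 0 0 ≠ 0) :
    Fintype.card F ^ m * (Fintype.card F ^ m - 1) ≤ 2 * (OS.filter (fun Z => Z 0 0 = Z1 0 0)).card := by
  set c := Z1 0 0 with hcdef
  set b : Fin m → F := fun j => Z1 0 j.succ with hb
  set D := Z1.submatrix Fin.succ Fin.succ with hD
  set Y' := D - c⁻¹ • vecMulVec b b with hY'
  have hZ1s := hsym Z1 hZ1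
  have hclear : Z1 = (blk 1 (c⁻¹ • b) 0 1)ᵀ * blk c 0 0 Y' * blk 1 (c⁻¹ • b) 0 1 :=
    sym_clear Z1 hZ1s hc
  have hZ1blk : Z1 = blk c b b D := by
    apply blk_ext
    · simp [hcdef]
    · intro j
      simp [hb]
    · intro i
      have h1 : Z1 i.succ 0 = Z1 0 i.succ := by
        have := congrFun (congrFun hZ1s 0) i.succ
        rw [Matrix.transpose_apply] at this
        exact this
      simp [hb, h1]
    · intro i j
      simp [hD]
  -- the diagonal representative lies in `OS`
  have hZd : blk c 0 0 Y' ∈ OS := by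
    have h1 := hOS Z1 hZ1 (blk 1 (-(c⁻¹ • b)) 0 1) (blk 1 (c⁻¹ • b) 0 1) (by
      have := shear_mul_inv (-(c⁻¹ • b))
      rwa [neg_neg] at this)
    have h3 : (blk 1 (-(c⁻¹ • b)) 0 1)ᵀ * Z1 * blk 1 (-(c⁻¹ • b)) 0 1 = blk c 0 0 Y' := by
      have e1 : (blk (1 : F) (-(c⁻¹ • b)) 0 1)ᵀ * Z1 * blk 1 (-(c⁻¹ • b)) 0 1 =
          (blk (1 : F) (c⁻¹ • b) 0 1 * blk 1 (-(c⁻¹ • b)) 0 1)ᵀ * blk c 0 0 Y' *
            (blk (1 : F) (c⁻¹ • b) 0 1 * blk 1 (-(c⁻¹ • b)) 0 1) := by
        conv_lhs => rw [hclear]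
        rw [Matrix.transpose_mul]
        simp only [Matrix.mul_assoc]
      rw [e1, shear_mul_inv, Matrix.transpose_one, Matrix.one_mul, Matrix.mul_one]
    rwa [h3] at h1
  -- `Y'` is symmetric and non-zero
  have hDs : Dᵀ = D := by
    ext i j
    have := congrFun (congrFun hZ1s i.succ) j.succ
    simpa [hD, Matrix.transpose_apply] using this
  have hY's : Y'ᵀ = Y' := by
    rw [hY', Matrix.transpose_sub, Matrix.transpose_smul, hDs]
    congr 2
    ext i j
    simp [vecMulVec_apply, mul_comm]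
  have hY'0 : Y' ≠ 0 := by
    intro h0
    apply hrk Z1 hZ1
    refine ⟨c⁻¹, Fin.cons c b, ?_⟩
    rw [← blk_rank_one c hc b]
    have hDeq : D = c⁻¹ • vecMulVec b b := by
      rw [hY'] at h0
      exact sub_eq_zero.1 h0
    rw [← hDeq]
    exact hZ1blk
  -- the orbit of `Y'`
  let O' : Finset (Matrix (Fin m) (Fin m) F) :=
    Finset.univ.filter (fun Z' => ∃ h' : GL (Fin m) F, Z' = h'.1ᵀ * Y' * h'.1)
  have hO'card : Fintype.card F ^ m - 1 ≤ 2 * O'.card := by
    have h1 := symm_orbit_card_ge h2 m (⟨Y', hY's⟩ : Symm m F) (by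
      intro h0
      apply hY'0
      exact congrArg Subtype.val h0)
    refine le_trans h1 (Nat.mul_le_mul_left 2 ?_)
    rw [← Fintype.card_coe O', ← Nat.card_eq_fintype_card]
    refine Nat.card_le_card_of_injective (fun Z => ⟨Z.1.1, ?_⟩) ?_
    · obtain ⟨g, hg⟩ := Z.2
      simp only [O', Finset.mem_filter, Finset.mem_univ, true_and]
      exact ⟨g, hg⟩
    · intro Z Z' h
      apply Subtype.ext
      apply Subtype.ext
      have h1 := congrArg Subtype.val h
      exact h1
  -- the injection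
  have hinj := Finset.card_le_card_of_injOn
    (s := (Finset.univ : Finset (Fin m → F)) ×ˢ O')
    (t := OS.filter (fun Z => Z 0 0 = c))
    (fun p => blk c (c • p.1) (c • p.1) (p.2 + c • vecMulVec p.1 p.1)) ?_ ?_
  · rw [Finset.card_product, Finset.card_univ, Fintype.card_fun, Fintype.card_fin] at hinj
    calc Fintype.card F ^ m * (Fintype.card F ^ m - 1)
        ≤ Fintype.card F ^ m * (2 * O'.card) := Nat.mul_le_mul_left _ hO'card
      _ = 2 * (Fintype.card F ^ m * O'.card) := by ring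
      _ ≤ _ := Nat.mul_le_mul_left 2 hinj
  · intro p hp
    rw [Finset.mem_coe, Finset.mem_product] at hp
    rw [Finset.mem_coe, Finset.mem_filter]
    refine ⟨?_, by simp⟩
    have hp2 := hp.2
    simp only [O', Finset.mem_filter, Finset.mem_univ, true_and] at hp2
    obtain ⟨h', hh'⟩ := hp2
    have h1 : blk c 0 0 p.2 ∈ OS := by
      have := hOS _ hZd (blk 1 0 0 h'.1) (blk 1 0 0 (h'⁻¹).1) (diag_mul_inv _ _ (by
        rw [← Units.val_mul, mul_inv_cancel, Units.val_one]))
      rwa [conj_diag, ← hh'] at this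
    have := hOS _ h1 (blk 1 p.1 0 1) (blk 1 (-p.1) 0 1) (shear_mul_inv _)
    rwa [conj_shear] at this
  · intro p hp p' hp' hpp
    obtain ⟨-, h1, -, h2'⟩ := blk_inj hpp
    have e1 : p.1 = p'.1 := by
      funext k
      have := congrFun h1 k
      simp only [Pi.smul_apply, smul_eq_mul] at this
      exact mul_left_cancel₀ hc this
    have e2 : p.2 = p'.2 := by
      rw [e1] at h2'
      exact add_right_cancel h2'
    exact Prod.ext e1 e2

theorem e0_ne_zero (m : ℕ) : (Fin.cons 1 0 : Fin (m + 1) → F) ≠ 0 := by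
  intro h
  have := congrFun h 0
  simp at this

theorem conj_cancel {k : ℕ} (g g' Z Z' : Matrix (Fin k) (Fin k) F) (hg : g * g' = 1)
    (h : gᵀ * Z * g = gᵀ * Z' * g) : Z = Z' := by
  have hg' : g' * g = 1 := mul_eq_one_comm.1 hg
  have e : ∀ W : Matrix (Fin k) (Fin k) F, g'ᵀ * (gᵀ * W * g) * g' = W := by
    intro W
    have h1 : g'ᵀ * (gᵀ * W * g) * g' = (g * g')ᵀ * W * (g * g') := by
      rw [Matrix.transpose_mul]
      simp only [Matrix.mul_assoc]
    rw [h1, hg, Matrix.transpose_one, Matrix.one_mul, Matrix.mul_one]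
  rw [← e Z, ← e Z', h]

/-- **refined lower bound for the fibres** -/
theorem card_fiber_ge2 (h2 : (2 : F) ≠ 0) {m : ℕ}
    (OS : Finset (Matrix (Fin (m + 1)) (Fin (m + 1)) F))
    (hOS : ∀ Z ∈ OS, ∀ g g' : Matrix (Fin (m + 1)) (Fin (m + 1)) F, g * g' = 1 → gᵀ * Z * g ∈ OS)
    (hsym : ∀ Z ∈ OS, Zᵀ = Z)
    (hrk : ∀ Z ∈ OS, ¬ ∃ (c : F) (v : Fin (m + 1) → F), Z = c • vecMulVec v v)
    (Z0 : Matrix (Fin (m + 1)) (Fin (m + 1)) F) (hZ0 : Z0 ∈ OS) (v : Fin (m + 1) → F)
    (hc : qf Z0 v ≠ 0) :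
    Fintype.card F ^ m * (Fintype.card F ^ m - 1) ≤ 2 * (OS.filter (fun Z => qf Z v = qf Z0 v)).card := by
  have hv0 : v ≠ 0 := by
    rintro rfl
    exact hc (qf_zero Z0)
  obtain ⟨h, hh⟩ := exists_gl_map v (Fin.cons 1 0 : Fin (m + 1) → F) hv0 (e0_ne_zero m)
  have hmul : h.1 * (h⁻¹).1 = 1 := by rw [← Units.val_mul, mul_inv_cancel, Units.val_one]
  have hmul' : (h⁻¹).1 * h.1 = 1 := by rw [← Units.val_mul, inv_mul_cancel, Units.val_one]
  have hZ1 : h.1ᵀ * Z0 * h.1 ∈ OS := hOS Z0 hZ0 h.1 (h⁻¹).1 hmul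
  have h00 : (h.1ᵀ * Z0 * h.1) 0 0 = qf Z0 v := by
    rw [← qf_e0 (h.1ᵀ * Z0 * h.1), qf_conj, hh]
  have hne : (h.1ᵀ * Z0 * h.1) 0 0 ≠ 0 := by rw [h00]; exact hc
  have hinv : (h⁻¹).1 *ᵥ v = (Fin.cons 1 0 : Fin (m + 1) → F) := by
    rw [← hh, Matrix.mulVec_mulVec, hmul', Matrix.one_mulVec]
  refine le_trans (card_fiber_ge2_e0 h2 OS hOS hsym hrk _ hZ1 hne) (Nat.mul_le_mul_left 2 ?_)
  apply Finset.card_le_card_of_injOn (fun Z => (h⁻¹).1ᵀ * Z * (h⁻¹).1)
  · intro Z hZ
    rw [Finset.mem_coe, Finset.mem_filter] at hZ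
    rw [Finset.mem_coe, Finset.mem_filter]
    refine ⟨hOS Z hZ.1 _ _ hmul', ?_⟩
    rw [qf_conj, hinv, qf_e0, hZ.2, h00]
  · intro Z _ Z' _ hZZ
    exact conj_cancel _ _ Z Z' hmul' hZZ

end fiber

/-! ## binary forms -/

section binary

variable [Fintype F] [DecidableEq F]

/-- the number of solutions of `a x² + b y² = d` -/
def bin (a b d : F) : ℕ := (Finset.univ.filter (fun p : F × F => a * p.1 ^ 2 + b * p.2 ^ 2 = d)).card

/-- the hyperbola `X Y = e`, `e ≠ 0`, has at most `q - 1` points -/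
theorem card_hyp_ne (e : F) (he : e ≠ 0) :
    (Finset.univ.filter (fun p : F × F => p.1 * p.2 = e)).card ≤ Fintype.card F - 1 := by
  have h := Finset.card_le_card_of_injOn (s := Finset.univ.filter (fun p : F × F => p.1 * p.2 = e))
    (t := (Finset.univ : Finset F).erase 0) (fun p => p.1) ?_ ?_
  · rwa [Finset.card_erase_of_mem (Finset.mem_univ _), Finset.card_univ] at h
  · intro p hp
    rw [Finset.mem_coe, Finset.mem_filter] at hp
    rw [Finset.mem_coe, Finset.mem_erase]
    refine ⟨?_, Finset.mem_univ _⟩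
    intro h0
    have h0' : p.1 = 0 := h0
    apply he
    rw [← hp.2, h0', zero_mul]
  · intro p hp p' hp' hpp
    rw [Finset.mem_coe, Finset.mem_filter] at hp hp'
    have h1 : p.1 = p'.1 := hpp
    have h0 : p.1 ≠ 0 := by
      intro h0
      apply he
      rw [← hp.2, h0, zero_mul]
    have h2 : p.2 = p'.2 := by
      have := hp.2.trans hp'.2.symm
      rw [← h1] at this
      exact mul_left_cancel₀ h0 this
    exact Prod.ext h1 h2

/-- the pair of lines `X Y = 0` has at most `2 q - 1` points -/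
theorem card_hyp_zero :
    (Finset.univ.filter (fun p : F × F => p.1 * p.2 = 0)).card ≤ 2 * Fintype.card F - 1 := by
  have hsub : Finset.univ.filter (fun p : F × F => p.1 * p.2 = 0) ⊆
      (({0} : Finset F) ×ˢ (Finset.univ : Finset F)) ∪ ((Finset.univ : Finset F) ×ˢ ({0} : Finset F)) := by
    intro p hp
    rw [Finset.mem_filter] at hp
    rw [Finset.mem_union, Finset.mem_product, Finset.mem_product]
    rcases mul_eq_zero.1 hp.2 with h | h
    · left
      exact ⟨Finset.mem_singleton.2 h, Finset.mem_univ _⟩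
    · right
      exact ⟨Finset.mem_univ _, Finset.mem_singleton.2 h⟩
  have h1 := Finset.card_union_add_card_inter (({0} : Finset F) ×ˢ (Finset.univ : Finset F))
    ((Finset.univ : Finset F) ×ˢ ({0} : Finset F))
  rw [Finset.card_product, Finset.card_product, Finset.card_singleton, Finset.card_univ, one_mul, mul_one] at h1
  have h2 : 1 ≤ ((({0} : Finset F) ×ˢ (Finset.univ : Finset F)) ∩
      ((Finset.univ : Finset F) ×ˢ ({0} : Finset F))).card := by
    rw [Nat.succ_le_iff, Finset.card_pos]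
    refine ⟨(0, 0), ?_⟩
    simp
  have h3 := Finset.card_le_card hsub
  omega

/-- isotropic binary form: the levels `d ≠ 0` have at most `q - 1` points, the level `0` at most `2 q - 1` -/
theorem bin_isotropic (h2 : (2 : F) ≠ 0) (a b s : F) (hb : b ≠ 0) (hs0 : s ≠ 0) (hs : -(a * b) = s ^ 2) (d : F) :
    (d ≠ 0 → bin a b d ≤ Fintype.card F - 1) ∧ bin a b 0 ≤ 2 * Fintype.card F - 1 := by
  have key : ∀ d' : F, bin a b d' ≤ (Finset.univ.filter (fun p : F × F => p.1 * p.2 = b * d')).card := by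
    intro d'
    unfold bin
    apply Finset.card_le_card_of_injOn (fun p => (b * p.2 - s * p.1, b * p.2 + s * p.1))
    · intro p hp
      rw [Finset.mem_coe, Finset.mem_filter] at hp
      rw [Finset.mem_coe, Finset.mem_filter]
      refine ⟨Finset.mem_univ _, ?_⟩
      show (b * p.2 - s * p.1) * (b * p.2 + s * p.1) = b * d'
      rw [← hp.2]
      linear_combination p.1 ^ 2 * hs
    · intro p _ p' _ hpp
      have h1 : b * p.2 - s * p.1 = b * p'.2 - s * p'.1 := congrArg Prod.fst hpp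
      have h3 : b * p.2 + s * p.1 = b * p'.2 + s * p'.1 := congrArg Prod.snd hpp
      have e1 : (2 * s) * p.1 = (2 * s) * p'.1 := by linear_combination h3 - h1
      have e2 : (2 * b) * p.2 = (2 * b) * p'.2 := by linear_combination h3 + h1
      exact Prod.ext (mul_left_cancel₀ (mul_ne_zero h2 hs0) e1) (mul_left_cancel₀ (mul_ne_zero h2 hb) e2)
  constructor
  · intro hd
    exact le_trans (key d) (card_hyp_ne _ (mul_ne_zero hb hd))
  · have := key 0
    rw [mul_zero] at this
    exact le_trans this card_hyp_zero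

/-- the norm form `x² + e y²` -/
def nrm (e : F) (p : F × F) : F := p.1 ^ 2 + e * p.2 ^ 2

/-- the multiplication making `nrm` multiplicative -/
def nmul (e : F) (p r : F × F) : F × F := (p.1 * r.1 - e * p.2 * r.2, p.1 * r.2 + p.2 * r.1)

omit [Fintype F] [DecidableEq F] in
theorem nrm_nmul (e : F) (p r : F × F) : nrm e (nmul e p r) = nrm e p * nrm e r := by
  unfold nrm nmul
  ring

omit [Fintype F] [DecidableEq F] in
theorem nmul_sub (e : F) (p p' r : F × F) : nmul e (p - p') r = nmul e p r - nmul e p' r := by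
  unfold nmul
  ext
  · simp only [Prod.fst_sub, Prod.snd_sub]
    ring
  · simp only [Prod.fst_sub, Prod.snd_sub]
    ring

omit [Fintype F] [DecidableEq F] in
theorem nrm_eq_zero (e : F) (he : ¬ ∃ s : F, -e = s ^ 2) (p : F × F) (h : nrm e p = 0) : p = 0 := by
  unfold nrm at h
  by_cases h2 : p.2 = 0
  · rw [h2] at h
    have h1 : p.1 = 0 := by
      have : p.1 ^ 2 = 0 := by linear_combination h
      exact pow_eq_zero_iff (two_ne_zero) |>.1 this
    exact Prod.ext h1 h2
  · exfalso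
    apply he
    refine ⟨p.1 / p.2, ?_⟩
    field_simp
    linear_combination -h

theorem card_odd_of_two_ne_zero (h2 : (2 : F) ≠ 0) : Fintype.card F % 2 = 1 := by
  apply FiniteField.odd_card_of_char_ne_two
  intro h
  apply h2
  have := ringChar.Nat.cast_ringChar (R := F)
  rw [h] at this
  exact_mod_cast this

theorem exists_nrm (h2 : (2 : F) ≠ 0) (e : F) (he0 : e ≠ 0) (ν : F) : ∃ r : F × F, nrm e r = ν := by
  classical
  let f : Polynomial F := Polynomial.X ^ 2
  let g : Polynomial F := Polynomial.C e * Polynomial.X ^ 2 - Polynomial.C ν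
  have hf : f.degree = 2 := Polynomial.degree_X_pow 2
  have hg : g.degree = 2 := by
    have h1 : (Polynomial.C e * Polynomial.X ^ 2 : Polynomial F).degree = 2 := Polynomial.degree_C_mul_X_pow 2 he0
    show (Polynomial.C e * Polynomial.X ^ 2 - Polynomial.C ν).degree = 2
    rw [Polynomial.degree_sub_eq_left_of_degree_lt, h1]
    rw [h1]
    exact lt_of_le_of_lt Polynomial.degree_C_le (by decide)
  obtain ⟨x, y, hxy⟩ := FiniteField.exists_root_sum_quadratic hf hg (card_odd_of_two_ne_zero h2)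
  refine ⟨(x, y), ?_⟩
  unfold nrm
  simp only [f, g, Polynomial.eval_pow, Polynomial.eval_X, Polynomial.eval_sub, Polynomial.eval_mul,
    Polynomial.eval_C] at hxy
  linear_combination hxy

/-- the number of points of norm `δ` -/
def nb (e δ : F) : ℕ := (Finset.univ.filter (fun p : F × F => nrm e p = δ)).card

theorem nb_le (e : F) (he : ¬ ∃ s : F, -e = s ^ 2) (r : F × F) (hr : nrm e r ≠ 0) (δ : F) :
    nb e δ ≤ nb e (δ * nrm e r) := by
  unfold nb
  apply Finset.card_le_card_of_injOn (fun p => nmul e p r)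
  · intro p hp
    rw [Finset.mem_coe, Finset.mem_filter] at hp
    rw [Finset.mem_coe, Finset.mem_filter]
    refine ⟨Finset.mem_univ _, ?_⟩
    rw [nrm_nmul, hp.2]
  · intro p _ p' _ hpp
    have h1 : nmul e (p - p') r = 0 := by
      rw [nmul_sub]
      exact sub_eq_zero.2 hpp
    have h3 : nrm e (p - p') * nrm e r = 0 := by
      rw [← nrm_nmul, h1]
      unfold nrm
      simp
    have h4 := (mul_eq_zero.1 h3).resolve_right hr
    exact sub_eq_zero.1 (nrm_eq_zero e he _ h4)

theorem nb_le_card (h2 : (2 : F) ≠ 0) (e : F) (he : ¬ ∃ s : F, -e = s ^ 2) (δ : F) :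
    nb e δ ≤ Fintype.card F + 1 := by
  have he0 : e ≠ 0 := by
    rintro rfl
    exact he ⟨0, by simp⟩
  have hzero : nb e 0 ≤ 1 := by
    unfold nb
    rw [Finset.card_le_one]
    intro p hp p' hp'
    rw [Finset.mem_filter] at hp hp'
    rw [nrm_eq_zero e he p hp.2, nrm_eq_zero e he p' hp'.2]
  by_cases hδ : δ = 0
  · rw [hδ]
    omega
  have hsum : ∑ δ' : F, nb e δ' = Fintype.card F * Fintype.card F := by
    have := Finset.card_eq_sum_card_fiberwise (s := (Finset.univ : Finset (F × F)))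
      (t := (Finset.univ : Finset F)) (f := nrm e) (fun _ _ => Finset.mem_univ _)
    rw [Finset.card_univ, Fintype.card_prod] at this
    rw [this]
    rfl
  have hall : ∀ δ' : F, δ' ≠ 0 → nb e δ ≤ nb e δ' := by
    intro δ' hδ'
    obtain ⟨r, hr⟩ := exists_nrm h2 e he0 (δ' / δ)
    have hr0 : nrm e r ≠ 0 := by
      rw [hr]
      exact div_ne_zero hδ' hδ
    have := nb_le e he r hr0 δ
    rwa [hr, mul_div_cancel₀ _ hδ] at this
  have h0pos : 1 ≤ nb e 0 := by
    unfold nb
    rw [Nat.succ_le_iff, Finset.card_pos]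
    refine ⟨0, ?_⟩
    rw [Finset.mem_filter]
    refine ⟨Finset.mem_univ _, ?_⟩
    unfold nrm
    simp
  have hsplit : ∑ δ' : F, nb e δ' = nb e 0 + ∑ δ' ∈ (Finset.univ : Finset F).erase 0, nb e δ' := by
    rw [Finset.add_sum_erase _ _ (Finset.mem_univ _)]
  have hlow : (Fintype.card F - 1) * nb e δ ≤ ∑ δ' ∈ (Finset.univ : Finset F).erase 0, nb e δ' := by
    have h1 : ∑ δ' ∈ (Finset.univ : Finset F).erase 0, nb e δ =
        (Fintype.card F - 1) * nb e δ := by
      rw [Finset.sum_const, Finset.card_erase_of_mem (Finset.mem_univ _), Finset.card_univ, smul_eq_mul]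
    rw [← h1]
    apply Finset.sum_le_sum
    intro δ' hδ'
    exact hall δ' (Finset.ne_of_mem_erase hδ')
  have hq : 2 ≤ Fintype.card F := Fintype.one_lt_card
  have hfin : (Fintype.card F - 1) * nb e δ ≤ (Fintype.card F - 1) * (Fintype.card F + 1) := by
    have h5 : (Fintype.card F - 1) * (Fintype.card F + 1) + 1 = Fintype.card F * Fintype.card F := by
      obtain ⟨k, hk⟩ : ∃ k, Fintype.card F = k + 1 := ⟨Fintype.card F - 1, by omega⟩
      rw [hk]
      simp only [Nat.add_sub_cancel]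
      ring
    omega
  exact Nat.le_of_mul_le_mul_left hfin (by omega)

/-- anisotropic binary form: every level has at most `q + 1` points -/
theorem bin_anisotropic (h2 : (2 : F) ≠ 0) (a b : F) (ha : a ≠ 0) (hab : ¬ ∃ s : F, -(a * b) = s ^ 2) (d : F) :
    bin a b d ≤ Fintype.card F + 1 := by
  have he : ¬ ∃ s : F, -(b / a) = s ^ 2 := by
    rintro ⟨s, hs⟩
    apply hab
    refine ⟨a * s, ?_⟩
    rw [mul_pow, ← hs]
    field_simp
  have : bin a b d = nb (b / a) (d / a) := by
    unfold bin nb nrm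
    congr 1
    apply Finset.filter_congr
    intro p _
    constructor
    · intro h
      rw [← h]
      field_simp
    · intro h
      field_simp at h
      linear_combination h
  rw [this]
  exact nb_le_card h2 _ he _

end binary

/-! ## the refined upper bound for the level sets -/

section level

variable [Fintype F] [DecidableEq F]

/-- one step of diagonalisation of a non-zero symmetric matrix -/
theorem diag_step (h2 : (2 : F) ≠ 0) {m : ℕ} (Z : Matrix (Fin (m + 1)) (Fin (m + 1)) F) (hZ : Zᵀ = Z)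
    (hZ0 : Z ≠ 0) :
    ∃ (g g' : Matrix (Fin (m + 1)) (Fin (m + 1)) F) (a : F) (Z' : Matrix (Fin m) (Fin m) F),
      g * g' = 1 ∧ a ≠ 0 ∧ Z'ᵀ = Z' ∧ gᵀ * Z * g = blk a 0 0 Z' := by
  obtain ⟨u, hu⟩ := exists_qf_ne h2 Z hZ hZ0
  have hu0 : u ≠ 0 := by
    rintro rfl
    exact hu (qf_zero Z)
  obtain ⟨h, hh⟩ := exists_gl_map u (Fin.cons 1 0 : Fin (m + 1) → F) hu0 (e0_ne_zero m)
  have hmul : h.1 * (h⁻¹).1 = 1 := by rw [← Units.val_mul, mul_inv_cancel, Units.val_one]
  set Z1 := h.1ᵀ * Z * h.1 with hZ1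
  have hZ1s : Z1ᵀ = Z1 := by
    rw [hZ1, Matrix.transpose_mul, Matrix.transpose_mul, Matrix.transpose_transpose, hZ, Matrix.mul_assoc]
  have h00 : Z1 0 0 = qf Z u := by
    rw [← qf_e0 Z1, hZ1, qf_conj, hh]
  have hne : Z1 0 0 ≠ 0 := by rw [h00]; exact hu
  set c := Z1 0 0 with hc
  set b : Fin m → F := fun j => Z1 0 j.succ with hb
  set Y' := Z1.submatrix Fin.succ Fin.succ - c⁻¹ • vecMulVec b b with hY'
  have hclear : Z1 = (blk 1 (c⁻¹ • b) 0 1)ᵀ * blk c 0 0 Y' * blk 1 (c⁻¹ • b) 0 1 :=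
    sym_clear Z1 hZ1s hne
  have hsh : blk (1 : F) (c⁻¹ • b) 0 1 * blk 1 (-(c⁻¹ • b)) 0 1 = 1 := shear_mul_inv _
  have hsh' : blk (1 : F) (-(c⁻¹ • b)) 0 1 * blk 1 (c⁻¹ • b) 0 1 = 1 := by
    have := shear_mul_inv (-(c⁻¹ • b))
    rwa [neg_neg] at this
  have hY's : Y'ᵀ = Y' := by
    rw [hY', Matrix.transpose_sub, Matrix.transpose_smul]
    congr 1
    · ext i j
      have := congrFun (congrFun hZ1s i.succ) j.succ
      simpa [Matrix.transpose_apply] using this
    · congr 1
      ext i j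
      simp [vecMulVec_apply, mul_comm]
  refine ⟨h.1 * blk 1 (-(c⁻¹ • b)) 0 1, blk 1 (c⁻¹ • b) 0 1 * (h⁻¹).1, c, Y', ?_, hne, hY's, ?_⟩
  · calc h.1 * blk 1 (-(c⁻¹ • b)) 0 1 * (blk 1 (c⁻¹ • b) 0 1 * (h⁻¹).1)
        = h.1 * (blk 1 (-(c⁻¹ • b)) 0 1 * blk 1 (c⁻¹ • b) 0 1) * (h⁻¹).1 := by
          simp only [Matrix.mul_assoc]
      _ = 1 := by rw [hsh', Matrix.mul_one, hmul]
  · have e1 : (h.1 * blk 1 (-(c⁻¹ • b)) 0 1)ᵀ * Z * (h.1 * blk 1 (-(c⁻¹ • b)) 0 1) =
        (blk 1 (-(c⁻¹ • b)) 0 1)ᵀ * Z1 * blk 1 (-(c⁻¹ • b)) 0 1 := by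
      rw [hZ1, Matrix.transpose_mul]
      simp only [Matrix.mul_assoc]
    rw [e1]
    have e2 : (blk (1 : F) (-(c⁻¹ • b)) 0 1)ᵀ * Z1 * blk 1 (-(c⁻¹ • b)) 0 1 =
        (blk (1 : F) (c⁻¹ • b) 0 1 * blk 1 (-(c⁻¹ • b)) 0 1)ᵀ * blk c 0 0 Y' *
          (blk (1 : F) (c⁻¹ • b) 0 1 * blk 1 (-(c⁻¹ • b)) 0 1) := by
      conv_lhs => rw [hclear]
      rw [Matrix.transpose_mul]
      simp only [Matrix.mul_assoc]
    rw [e2, hsh, Matrix.transpose_one, Matrix.one_mul, Matrix.mul_one]

/-- the level sets do not grow under congruence -/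
theorem card_level_conj {k : ℕ} (Z g g' : Matrix (Fin k) (Fin k) F) (hg : g * g' = 1) (c : F) :
    (Finset.univ.filter (fun v : Fin k → F => qf Z v = c)).card ≤
      (Finset.univ.filter (fun v : Fin k → F => qf (gᵀ * Z * g) v = c)).card := by
  apply Finset.card_le_card_of_injOn (fun v => g' *ᵥ v)
  · intro v hv
    rw [Finset.mem_coe, Finset.mem_filter] at hv
    rw [Finset.mem_coe, Finset.mem_filter]
    refine ⟨Finset.mem_univ _, ?_⟩
    rw [qf_conj, Matrix.mulVec_mulVec, hg, Matrix.one_mulVec]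
    exact hv.2
  · intro v _ v' _ hvv
    have h1 : g *ᵥ (g' *ᵥ v) = g *ᵥ (g' *ᵥ v') := by
      have hvv' : g' *ᵥ v = g' *ᵥ v' := hvv
      rw [hvv']
    rwa [Matrix.mulVec_mulVec, Matrix.mulVec_mulVec, hg, Matrix.one_mulVec, Matrix.one_mulVec] at h1

omit [Fintype F] [DecidableEq F] in
theorem qf_blk_diag {m : ℕ} (a : F) (D : Matrix (Fin m) (Fin m) F) (x : F) (v : Fin m → F) :
    qf (blk a 0 0 D) (Fin.cons x v : Fin (m + 1) → F) = a * x ^ 2 + qf D v := by
  rw [qf_blk]
  simp

omit [Fintype F] [DecidableEq F] in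
theorem qf_diag2 {m' : ℕ} (a b : F) (Z'' : Matrix (Fin m') (Fin m') F) (v : Fin (m' + 1 + 1) → F) :
    qf (blk a 0 0 (blk b 0 0 Z'')) v =
      a * (v 0) ^ 2 + b * (v 1) ^ 2 + qf Z'' (fun j => v j.succ.succ) := by
  have hv : v = Fin.cons (v 0) (Fin.cons (v 1) (fun j => v j.succ.succ)) := by
    funext i
    refine Fin.cases ?_ (fun i' => ?_) i
    · simp
    · refine Fin.cases ?_ (fun i'' => ?_) i'
      · simp
      · simp
  conv_lhs => rw [hv]
  rw [qf_blk_diag, qf_blk_diag]
  ring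

/-- slicing the level set of `a x² + b y² + Q''(w)` along `w` -/
theorem card_level_diag2 {m' : ℕ} (a b : F) (Z'' : Matrix (Fin m') (Fin m') F) (c : F) :
    (Finset.univ.filter (fun v : Fin (m' + 1 + 1) → F => qf (blk a 0 0 (blk b 0 0 Z'')) v = c)).card ≤
      ∑ w : Fin m' → F, bin a b (c - qf Z'' w) := by
  rw [Finset.card_eq_sum_card_fiberwise (s := Finset.univ.filter
    (fun v : Fin (m' + 1 + 1) → F => qf (blk a 0 0 (blk b 0 0 Z'')) v = c))
    (t := (Finset.univ : Finset (Fin m' → F))) (f := fun v j => v j.succ.succ) (fun _ _ => Finset.mem_univ _)]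
  apply Finset.sum_le_sum
  intro w _
  unfold bin
  apply Finset.card_le_card_of_injOn (fun v => (v 0, v 1))
  · intro v hv
    rw [Finset.mem_coe, Finset.mem_filter, Finset.mem_filter] at hv
    rw [Finset.mem_coe, Finset.mem_filter]
    refine ⟨Finset.mem_univ _, ?_⟩
    have h1 := hv.1.2
    rw [qf_diag2, hv.2] at h1
    show a * (v 0) ^ 2 + b * (v 1) ^ 2 = c - qf Z'' w
    linear_combination h1
  · intro v hv v' hv' hvv
    rw [Finset.mem_coe, Finset.mem_filter] at hv hv'
    have h0 : v 0 = v' 0 := congrArg Prod.fst hvv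
    have h1 : v 1 = v' 1 := congrArg Prod.snd hvv
    have h2 : (fun j : Fin m' => v j.succ.succ) = fun j => v' j.succ.succ := hv.2.trans hv'.2.symm
    funext i
    refine Fin.cases ?_ (fun i' => ?_) i
    · exact h0
    · refine Fin.cases ?_ (fun i'' => ?_) i'
      · simpa using h1
      · exact congrFun h2 i''

/-- the level bound for a form `a x² + b y² + Q''(w)` -/
theorem card_level_le2_diag (h2 : (2 : F) ≠ 0) {m' : ℕ} (a b : F) (ha : a ≠ 0) (hb : b ≠ 0)
    (Z'' : Matrix (Fin m') (Fin m') F) (hZ'' : Z''ᵀ = Z'') (c : F) (hc : c ≠ 0) :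
    (Finset.univ.filter (fun v : Fin (m' + 1 + 1) → F => qf (blk a 0 0 (blk b 0 0 Z'')) v = c)).card *
      Fintype.card F ≤ (Fintype.card F + 1) * Fintype.card F ^ (m' + 1) := by
  have hq : 2 ≤ Fintype.card F := Fintype.one_lt_card
  have hN := card_level_diag2 a b Z'' c
  have hcardw : (Finset.univ : Finset (Fin m' → F)).card = Fintype.card F ^ m' := by
    rw [Finset.card_univ, Fintype.card_fun, Fintype.card_fin]
  by_cases hiso : ∃ s : F, -(a * b) = s ^ 2
  · -- isotropic binary part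
    obtain ⟨s, hs⟩ := hiso
    have hs0 : s ≠ 0 := by
      rintro rfl
      have : a * b = 0 := by
        have h0 : -(a * b) = 0 := by rw [hs]; ring
        exact neg_eq_zero.1 h0
      exact mul_ne_zero ha hb this
    have hterm : ∀ w : Fin m' → F, bin a b (c - qf Z'' w) ≤
        (Fintype.card F - 1) + (if qf Z'' w = c then Fintype.card F else 0) := by
      intro w
      have hb' := bin_isotropic h2 a b s hb hs0 hs (c - qf Z'' w)
      by_cases hw : qf Z'' w = c
      · rw [if_pos hw, hw, sub_self]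
        have := hb'.2
        omega
      · rw [if_neg hw, add_zero]
        exact hb'.1 (fun h0 => hw (sub_eq_zero.1 h0).symm)
    have hsum : ∑ w : Fin m' → F, bin a b (c - qf Z'' w) ≤
        (Fintype.card F - 1) * Fintype.card F ^ m' +
          Fintype.card F * (Finset.univ.filter (fun w : Fin m' → F => qf Z'' w = c)).card := by
      refine le_trans (Finset.sum_le_sum (fun w _ => hterm w)) ?_
      rw [Finset.sum_add_distrib, Finset.sum_const, hcardw, smul_eq_mul, ← Finset.sum_filter,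
        Finset.sum_const, smul_eq_mul]
      rw [mul_comm (Fintype.card F ^ m'), mul_comm _ (Fintype.card F)]
    -- bound for `M`
    have hM : (Finset.univ.filter (fun w : Fin m' → F => qf Z'' w = c)).card * Fintype.card F ≤
        2 * Fintype.card F ^ m' := by
      by_cases hZ0 : Z'' = 0
      · have : Finset.univ.filter (fun w : Fin m' → F => qf Z'' w = c) = ∅ := by
          rw [Finset.filter_eq_empty_iff]
          intro w _ hw
          apply hc
          rw [← hw, hZ0]
          unfold qf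
          simp
        rw [this]
        simp
      · cases m' with
        | zero =>
          exfalso
          apply hZ0
          ext i
          exact Fin.elim0 i
        | succ m'' =>
          obtain ⟨u, hu⟩ := exists_qf_ne h2 Z'' hZ'' hZ0
          have := card_level_le Z'' u hu c
          calc (Finset.univ.filter (fun w : Fin (m'' + 1) → F => qf Z'' w = c)).card * Fintype.card F
              ≤ (2 * Fintype.card F ^ m'') * Fintype.card F := Nat.mul_le_mul_right _ this
            _ = 2 * Fintype.card F ^ (m'' + 1) := by ring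
    obtain ⟨k, hk⟩ : ∃ k, Fintype.card F = k + 1 := ⟨Fintype.card F - 1, by omega⟩
    set N := (Finset.univ.filter
      (fun v : Fin (m' + 1 + 1) → F => qf (blk a 0 0 (blk b 0 0 Z'')) v = c)).card with hNdef
    set M := (Finset.univ.filter (fun w : Fin m' → F => qf Z'' w = c)).card with hMdef
    have h1 : N ≤ (Fintype.card F - 1) * Fintype.card F ^ m' + Fintype.card F * M := le_trans hN hsum
    calc N * Fintype.card F
        ≤ ((Fintype.card F - 1) * Fintype.card F ^ m' + Fintype.card F * M) * Fintype.card F :=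
          Nat.mul_le_mul_right _ h1
      _ = (Fintype.card F - 1) * Fintype.card F ^ (m' + 1) + Fintype.card F * (M * Fintype.card F) := by ring
      _ ≤ (Fintype.card F - 1) * Fintype.card F ^ (m' + 1) + Fintype.card F * (2 * Fintype.card F ^ m') :=
          Nat.add_le_add_left (Nat.mul_le_mul_left _ hM) _
      _ = (Fintype.card F + 1) * Fintype.card F ^ (m' + 1) := by
          rw [hk]
          simp only [Nat.add_sub_cancel]
          ring
  · -- anisotropic binary part
    have hsum : ∑ w : Fin m' → F, bin a b (c - qf Z'' w) ≤ Fintype.card F ^ m' * (Fintype.card F + 1) := by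
      rw [← hcardw, ← smul_eq_mul]
      apply Finset.sum_le_card_nsmul
      intro w _
      exact bin_anisotropic h2 a b ha hiso _
    calc (Finset.univ.filter (fun v : Fin (m' + 1 + 1) → F => qf (blk a 0 0 (blk b 0 0 Z'')) v = c)).card *
          Fintype.card F
        ≤ (Fintype.card F ^ m' * (Fintype.card F + 1)) * Fintype.card F :=
          Nat.mul_le_mul_right _ (le_trans hN hsum)
      _ = (Fintype.card F + 1) * Fintype.card F ^ (m' + 1) := by ring

omit [Fintype F] [DecidableEq F] in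
/-- a congruence class containing a rank-one form consists of rank-one forms -/
theorem rank_one_of_conj {k : ℕ} (Z g g' : Matrix (Fin k) (Fin k) F) (hg : g * g' = 1) (c : F) (v : Fin k → F)
    (h : gᵀ * Z * g = c • vecMulVec v v) : ∃ (c' : F) (v' : Fin k → F), Z = c' • vecMulVec v' v' := by
  refine ⟨c, g'ᵀ *ᵥ v, ?_⟩
  rw [← conj_vecMulVec, ← h]
  have h1 : g'ᵀ * (gᵀ * Z * g) * g' = (g * g')ᵀ * Z * (g * g') := by
    rw [Matrix.transpose_mul]
    simp only [Matrix.mul_assoc]
  rw [h1, hg, Matrix.transpose_one, Matrix.one_mul, Matrix.mul_one]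

/-- **refined upper bound for the level sets**: a symmetric form which is not of rank `≤ 1` takes every non-zero value at most
`(q + 1) q^(n-2)` times -/
theorem card_level_le2 (h2 : (2 : F) ≠ 0) {m : ℕ} (Z : Matrix (Fin (m + 1)) (Fin (m + 1)) F) (hZ : Zᵀ = Z)
    (hrk : ¬ ∃ (c : F) (v : Fin (m + 1) → F), Z = c • vecMulVec v v) (c : F) (hc : c ≠ 0) :
    (Finset.univ.filter (fun v : Fin (m + 1) → F => qf Z v = c)).card * Fintype.card F ≤
      (Fintype.card F + 1) * Fintype.card F ^ m := by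
  have hZ0 : Z ≠ 0 := by
    rintro rfl
    exact hrk ⟨0, 0, by simp⟩
  obtain ⟨g, g', a, Z', hgg, ha, hZ's, hconj⟩ := diag_step h2 Z hZ hZ0
  have hZ'0 : Z' ≠ 0 := by
    rintro rfl
    apply hrk
    apply rank_one_of_conj Z g g' hgg a⁻¹ (Fin.cons a 0)
    rw [hconj, ← blk_rank_one a ha 0]
    congr 1
    simp
  cases m with
  | zero =>
    exfalso
    apply hZ'0
    ext i
    exact Fin.elim0 i
  | succ m' =>
    obtain ⟨g2, g2', b, Z'', hgg2, hb, hZ''s, hconj2⟩ := diag_step h2 Z' hZ's hZ'0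
    have hGG : (g * blk 1 0 0 g2) * (blk 1 0 0 g2' * g') = 1 := by
      calc (g * blk 1 0 0 g2) * (blk 1 0 0 g2' * g')
          = g * (blk 1 0 0 g2 * blk 1 0 0 g2') * g' := by simp only [Matrix.mul_assoc]
        _ = 1 := by rw [diag_mul_inv g2 g2' hgg2, Matrix.mul_one, hgg]
    have hG : (g * blk 1 0 0 g2)ᵀ * Z * (g * blk 1 0 0 g2) = blk a 0 0 (blk b 0 0 Z'') := by
      have e1 : (g * blk 1 0 0 g2)ᵀ * Z * (g * blk 1 0 0 g2) =
          (blk 1 0 0 g2)ᵀ * (gᵀ * Z * g) * blk 1 0 0 g2 := by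
        rw [Matrix.transpose_mul]
        simp only [Matrix.mul_assoc]
      rw [e1, hconj, conj_diag, hconj2]
    have h1 := card_level_conj Z _ _ hGG c
    rw [hG] at h1
    exact le_trans (Nat.mul_le_mul_right _ h1) (card_level_le2_diag h2 a b ha hb Z'' hZ''s c hc)

end level

/-! ## the orbit lemma -/

section main

variable [Fintype F]

/-- **(O)**: the congruence orbit of a symmetric matrix which is not of the form `c • v vᵀ` (rank `≥ 2`) has at least
`(q^n - 1)(q^n - q) / (2 (q + 1))` elements. -/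
theorem symm_orbit_card_ge_two (h2 : (2 : F) ≠ 0) (n : ℕ) (Y : Symm n F)
    (hY : ¬ ∃ (c : F) (v : Fin n → F), (Y : Matrix (Fin n) (Fin n) F) = c • vecMulVec v v) :
    (Fintype.card F ^ n - 1) * (Fintype.card F ^ n - Fintype.card F) ≤
      2 * (Fintype.card F + 1) * Nat.card {Z : Symm n F // ∃ g : GL (Fin n) F,
        (Z : Matrix (Fin n) (Fin n) F) = g.1ᵀ * (Y : Matrix (Fin n) (Fin n) F) * g.1} := by
  classical
  cases n with
  | zero => simp
  | succ m =>
    set Ym : Matrix (Fin (m + 1)) (Fin (m + 1)) F := Y.1 with hYm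
    have hYs : Ymᵀ = Ym := Y.2
    have hYm0 : Ym ≠ 0 := by
      intro h0
      apply hY
      refine ⟨0, 0, ?_⟩
      rw [h0]
      simp
    obtain ⟨u, hu⟩ := exists_qf_ne h2 Ym hYs hYm0
    have hu0 : u ≠ 0 := by
      rintro rfl
      exact hu (qf_zero Ym)
    let OS : Finset (Matrix (Fin (m + 1)) (Fin (m + 1)) F) :=
      Finset.univ.filter (fun Z => ∃ g : GL (Fin (m + 1)) F, Z = g.1ᵀ * Ym * g.1)
    have hOSmem : ∀ Z, Z ∈ OS ↔ ∃ g : GL (Fin (m + 1)) F, Z = g.1ᵀ * Ym * g.1 := by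
      intro Z
      simp [OS]
    have hOS : ∀ Z ∈ OS, ∀ g g' : Matrix (Fin (m + 1)) (Fin (m + 1)) F, g * g' = 1 → gᵀ * Z * g ∈ OS := by
      intro Z hZ g g' hg
      rw [hOSmem] at hZ ⊢
      obtain ⟨k, rfl⟩ := hZ
      refine ⟨k * ⟨g, g', hg, mul_eq_one_comm.1 hg⟩, ?_⟩
      show gᵀ * (k.1ᵀ * Ym * k.1) * g = (k.1 * g)ᵀ * Ym * (k.1 * g)
      rw [Matrix.transpose_mul]
      simp only [Matrix.mul_assoc]
    have hsym : ∀ Z ∈ OS, Zᵀ = Z := by
      intro Z hZ
      obtain ⟨g, rfl⟩ := (hOSmem Z).1 hZ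
      rw [Matrix.transpose_mul, Matrix.transpose_mul, Matrix.transpose_transpose, hYs, Matrix.mul_assoc]
    have hrk : ∀ Z ∈ OS, ¬ ∃ (c : F) (v : Fin (m + 1) → F), Z = c • vecMulVec v v := by
      intro Z hZ hcon
      obtain ⟨g, rfl⟩ := (hOSmem Z).1 hZ
      obtain ⟨c, v, hcv⟩ := hcon
      apply hY
      exact rank_one_of_conj Ym g.1 (g⁻¹).1 (by rw [← Units.val_mul, mul_inv_cancel, Units.val_one]) c v hcv
    have hcard : OS.card ≤ Nat.card {Z : Symm (m + 1) F // ∃ g : GL (Fin (m + 1)) F,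
        (Z : Matrix (Fin (m + 1)) (Fin (m + 1)) F) =
          g.1ᵀ * (Y : Matrix (Fin (m + 1)) (Fin (m + 1)) F) * g.1} := by
      rw [← Fintype.card_coe OS, ← Nat.card_eq_fintype_card]
      refine Nat.card_le_card_of_injective (fun Z => ⟨⟨Z.1, ?_⟩, ?_⟩) ?_
      · exact hsym Z.1 Z.2
      · exact (hOSmem Z.1).1 Z.2
      · intro Z Z' h
        apply Subtype.ext
        have h1 := congrArg (fun W => ((W.1 : Symm (m + 1) F) : Matrix (Fin (m + 1)) (Fin (m + 1)) F)) h
        exact h1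
    have hq : 2 ≤ Fintype.card F := Fintype.one_lt_card
    have hqpos : 0 < Fintype.card F ^ m := pow_pos Fintype.card_pos m
    have hdc := Finset.sum_card_bipartiteAbove_eq_sum_card_bipartiteBelow
      (s := OS) (t := (Finset.univ : Finset (Fin (m + 1) → F))) (fun Z v => qf Z v = qf Ym u)
    -- every matrix of the orbit has few vectors
    have hL : (∑ Z ∈ OS, (Finset.bipartiteAbove (fun Z v => qf Z v = qf Ym u)
        (Finset.univ : Finset (Fin (m + 1) → F)) Z).card) * Fintype.card F ≤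
        OS.card * ((Fintype.card F + 1) * Fintype.card F ^ m) := by
      rw [Finset.sum_mul, ← smul_eq_mul (a := OS.card)]
      apply Finset.sum_le_card_nsmul
      intro Z hZ
      exact card_level_le2 h2 Z (hsym Z hZ) (hrk Z hZ) (qf Ym u) hu
    -- every non-zero vector has many matrices
    have hR : (Fintype.card F ^ (m + 1) - 1) * (Fintype.card F ^ m * (Fintype.card F ^ m - 1)) ≤
        2 * ∑ v ∈ (Finset.univ : Finset (Fin (m + 1) → F)),
          (Finset.bipartiteBelow (fun Z v => qf Z v = qf Ym u) OS v).card := by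
      have hne : ((Finset.univ : Finset (Fin (m + 1) → F)).filter (fun v => v ≠ 0)).card =
          Fintype.card F ^ (m + 1) - 1 := by
        rw [Finset.filter_ne', Finset.card_erase_of_mem (Finset.mem_univ _), Finset.card_univ, Fintype.card_fun,
          Fintype.card_fin]
      rw [Finset.mul_sum]
      calc (Fintype.card F ^ (m + 1) - 1) * (Fintype.card F ^ m * (Fintype.card F ^ m - 1))
          = ∑ v ∈ (Finset.univ : Finset (Fin (m + 1) → F)).filter (fun v => v ≠ 0),
              Fintype.card F ^ m * (Fintype.card F ^ m - 1) := by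
            rw [Finset.sum_const, hne, smul_eq_mul]
        _ ≤ ∑ v ∈ (Finset.univ : Finset (Fin (m + 1) → F)).filter (fun v => v ≠ 0),
              2 * (Finset.bipartiteBelow (fun Z v => qf Z v = qf Ym u) OS v).card := by
            apply Finset.sum_le_sum
            intro v hv
            have hv0 : v ≠ 0 := (Finset.mem_filter.1 hv).2
            obtain ⟨h, hh⟩ := exists_gl_map u v hu0 hv0
            have hZ0 : h.1ᵀ * Ym * h.1 ∈ OS := (hOSmem _).2 ⟨h, rfl⟩
            have hq0 : qf (h.1ᵀ * Ym * h.1) v = qf Ym u := by rw [qf_conj, hh]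
            have h3 := card_fiber_ge2 h2 OS hOS hsym hrk _ hZ0 v (by rw [hq0]; exact hu)
            rw [hq0] at h3
            exact h3
        _ ≤ _ := Finset.sum_le_sum_of_subset (Finset.filter_subset _ _)
    have hfin : ((Fintype.card F ^ (m + 1) - 1) * (Fintype.card F ^ (m + 1) - Fintype.card F)) *
        Fintype.card F ^ m ≤ (2 * (Fintype.card F + 1) * OS.card) * Fintype.card F ^ m := by
      have e1 : Fintype.card F ^ (m + 1) - Fintype.card F = (Fintype.card F ^ m - 1) * Fintype.card F := by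
        rw [Nat.sub_mul, one_mul, pow_succ]
      calc ((Fintype.card F ^ (m + 1) - 1) * (Fintype.card F ^ (m + 1) - Fintype.card F)) * Fintype.card F ^ m
          = ((Fintype.card F ^ (m + 1) - 1) * (Fintype.card F ^ m * (Fintype.card F ^ m - 1))) *
              Fintype.card F := by
            rw [e1]
            ring
        _ ≤ (2 * ∑ v ∈ (Finset.univ : Finset (Fin (m + 1) → F)),
              (Finset.bipartiteBelow (fun Z v => qf Z v = qf Ym u) OS v).card) * Fintype.card F :=
            Nat.mul_le_mul_right _ hR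
        _ = 2 * ((∑ Z ∈ OS, (Finset.bipartiteAbove (fun Z v => qf Z v = qf Ym u)
              (Finset.univ : Finset (Fin (m + 1) → F)) Z).card) * Fintype.card F) := by
            rw [hdc]
            ring
        _ ≤ 2 * (OS.card * ((Fintype.card F + 1) * Fintype.card F ^ m)) := Nat.mul_le_mul_left 2 hL
        _ = (2 * (Fintype.card F + 1) * OS.card) * Fintype.card F ^ m := by ring
    have h5 := Nat.le_of_mul_le_mul_right hfin hqpos
    exact le_trans h5 (Nat.mul_le_mul_left _ hcard)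

/-- **(O)**, minor form: a symmetric matrix with a non-vanishing `2 × 2` minor has a congruence orbit of at least
`(q^n - 1)(q^n - q) / (2 (q + 1))` elements. -/
theorem symm_orbit_card_ge_of_minor (h2 : (2 : F) ≠ 0) (n : ℕ) (Y : Symm n F) (i j k l : Fin n)
    (hY : (Y : Matrix (Fin n) (Fin n) F) i k * (Y : Matrix (Fin n) (Fin n) F) j l ≠
      (Y : Matrix (Fin n) (Fin n) F) i l * (Y : Matrix (Fin n) (Fin n) F) j k) :
    (Fintype.card F ^ n - 1) * (Fintype.card F ^ n - Fintype.card F) ≤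
      2 * (Fintype.card F + 1) * Nat.card {Z : Symm n F // ∃ g : GL (Fin n) F,
        (Z : Matrix (Fin n) (Fin n) F) = g.1ᵀ * (Y : Matrix (Fin n) (Fin n) F) * g.1} := by
  apply symm_orbit_card_ge_two h2 n Y
  rintro ⟨c, v, hcv⟩
  apply hY
  rw [hcv]
  simp only [Matrix.smul_apply, vecMulVec_apply, smul_eq_mul]
  ring

end main

end Cfsg.Agent.Lib.H25.SymOrbit2
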