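import Mathlib
import Cfsg.Agent.Lib.H1.Hall

/-!
# S4025 piece EXC81A (architect helper19)

A finite solvable group acting faithfully on a (commutative) group of order `81` has order not
divisible by both `5` and `13`.

Proof: fixed point counting.  A nonidentity `5`-element fixes exactly `1` point, a nonidentity
`13`-element exactly `3`; by Burnside's lemma a `5`-subgroup has order dividing `80` and a
`13`-subgroup has order dividing `78`.  So a Hall `{5,13}`-subgroup `E` has order `65`; its Sylow
`13`-subgroup `P` is normal, `W = C_V(P)` has order `3` and is invariant under an element `y` of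
order `5`, which must then fix a nonidentity point of `W`.
-/

set_option autoImplicit false
set_option linter.style.haveILetI false

namespace Cfsg.Agent.Lib.H25.EOC

/-- The fixed points of `θ h`, a subgroup of `V`. -/
def fixSub {H V : Type*} [Group H] [Group V] (θ : H →* MulAut V) (h : H) : Subgroup V where
  carrier := {v | θ h v = v}
  one_mem' := map_one _
  mul_mem' := by
    intro a b ha hb
    simp only [Set.mem_ofPred_eq] at *
    rw [map_mul, ha, hb]
  inv_mem' := by
    intro a ha
    simp only [Set.mem_ofPred_eq] at *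
    rw [map_inv, ha]

theorem mem_fixSub {H V : Type*} [Group H] [Group V] (θ : H →* MulAut V) (h : H) (v : V) :
    v ∈ fixSub θ h ↔ θ h v = v := Iff.rfl

/-- fixed point congruence for an element of prime power order. -/
theorem card_fixSub_modEq {H V : Type*} [Group H] [Group V] [Finite V] (θ : H →* MulAut V) (h : H)
    (q k : ℕ) [Fact q.Prime] (hk : h ^ q ^ k = 1) :
    Nat.card V ≡ Nat.card (fixSub θ h) [MOD q] := by
  classical
  haveI := Fintype.ofFinite V
  let f : Function.End V := (θ h : V → V)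
  have hpow : ∀ n : ℕ, f ^ n = ((θ h ^ n : MulAut V) : V → V) := by
    intro n
    induction n with
    | zero => rfl
    | succ n ih => rw [pow_succ, ih, pow_succ]; rfl
  have hf : f ^ q ^ k = 1 := by
    rw [hpow, ← map_pow, hk, map_one]; rfl
  have h1 := Equiv.Perm.card_fixedPoints_modEq (p := q) (n := k) hf
  rw [Nat.card_eq_fintype_card]
  have h2 : Fintype.card (Function.fixedPoints f) = Nat.card (fixSub θ h) := by
    rw [← Nat.card_eq_fintype_card]
    exact Nat.card_congr (Equiv.subtypeEquivRight (fun v => Iff.rfl))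
  rw [← h2]
  exact h1

theorem eq_one_of_card_fixSub {H V : Type*} [Group H] [Group V] [Finite V] (θ : H →* MulAut V)
    (hθ : Function.Injective θ) (h : H) (hc : Nat.card (fixSub θ h) = Nat.card V) : h = 1 := by
  have htop : fixSub θ h = ⊤ := Subgroup.eq_top_of_card_eq _ hc
  apply hθ
  rw [map_one]
  ext v
  have : v ∈ fixSub θ h := by rw [htop]; trivial
  exact this

theorem card_fixSub_cases {H V : Type*} [Group H] [Group V] [Finite V] (hV : Nat.card V = 81)
    (θ : H →* MulAut V) (h : H) :
    Nat.card (fixSub θ h) = 1 ∨ Nat.card (fixSub θ h) = 3 ∨ Nat.card (fixSub θ h) = 9 ∨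
      Nat.card (fixSub θ h) = 27 ∨ Nat.card (fixSub θ h) = 81 := by
  have hd := Subgroup.card_subgroup_dvd_card (fixSub θ h)
  rw [hV] at hd
  obtain ⟨m, hm4, hm⟩ := (Nat.dvd_prime_pow Nat.prime_three).1 (show _ ∣ 3 ^ 4 from hd)
  rw [hm]
  interval_cases m <;> norm_num

theorem card_fixSub_five {H V : Type*} [Group H] [Group V] [Finite V] (hV : Nat.card V = 81)
    (θ : H →* MulAut V) (hθ : Function.Injective θ) (h : H) (h1 : h ≠ 1) (k : ℕ)
    (hk : h ^ 5 ^ k = 1) : Nat.card (fixSub θ h) = 1 := by
  haveI : Fact (Nat.Prime 5) := ⟨by norm_num⟩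
  have hm := card_fixSub_modEq θ h 5 k hk
  rw [hV] at hm
  have hne : Nat.card (fixSub θ h) ≠ 81 := fun hc => h1 (eq_one_of_card_fixSub θ hθ h (hc.trans hV.symm))
  rcases card_fixSub_cases hV θ h with hc | hc | hc | hc | hc
  · exact hc
  · rw [hc] at hm; exact absurd hm (by decide)
  · rw [hc] at hm; exact absurd hm (by decide)
  · rw [hc] at hm; exact absurd hm (by decide)
  · exact absurd hc hne

theorem card_fixSub_thirteen {H V : Type*} [Group H] [Group V] [Finite V] (hV : Nat.card V = 81)
    (θ : H →* MulAut V) (hθ : Function.Injective θ) (h : H) (h1 : h ≠ 1) (k : ℕ)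
    (hk : h ^ 13 ^ k = 1) : Nat.card (fixSub θ h) = 3 := by
  haveI : Fact (Nat.Prime 13) := ⟨by norm_num⟩
  have hm := card_fixSub_modEq θ h 13 k hk
  rw [hV] at hm
  have hne : Nat.card (fixSub θ h) ≠ 81 := fun hc => h1 (eq_one_of_card_fixSub θ hθ h (hc.trans hV.symm))
  rcases card_fixSub_cases hV θ h with hc | hc | hc | hc | hc
  · rw [hc] at hm; exact absurd hm (by decide)
  · exact hc
  · rw [hc] at hm; exact absurd hm (by decide)
  · rw [hc] at hm; exact absurd hm (by decide)
  · exact absurd hc hne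

/-- Burnside's lemma when every nonidentity element has exactly `c` fixed points. -/
theorem burnside_const {T V : Type*} [Group T] [Finite T] [Group V] [Finite V]
    (θ : T →* MulAut V) (c : ℕ) (hc : ∀ t : T, t ≠ 1 → Nat.card (fixSub θ t) = c) :
    ∃ k, Nat.card V + (Nat.card T - 1) * c = k * Nat.card T := by
  classical
  letI : MulAction T V := MulAction.compHom V θ
  haveI := Fintype.ofFinite T
  haveI := Fintype.ofFinite V
  haveI : ∀ g : T, Fintype (MulAction.fixedBy V g) := fun g => Fintype.ofFinite _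
  haveI : Fintype (Quotient (MulAction.orbitRel T V)) := Fintype.ofFinite _
  have hB := MulAction.sum_card_fixedBy_eq_card_orbits_mul_card_group T V
  refine ⟨Fintype.card (Quotient (MulAction.orbitRel T V)), ?_⟩
  have hfix : ∀ t : T, Fintype.card (MulAction.fixedBy V t) = Nat.card (fixSub θ t) := by
    intro t
    rw [← Nat.card_eq_fintype_card]
    exact Nat.card_congr (Equiv.subtypeEquivRight (fun v => Iff.rfl))
  rw [Nat.card_eq_fintype_card (α := T), ← hB, ← Finset.add_sum_erase Finset.univ _ (Finset.mem_univ (1 : T))]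
  congr 1
  · rw [hfix 1]
    have : fixSub θ (1 : T) = ⊤ := by
      ext v
      simp [mem_fixSub]
    rw [this, Subgroup.card_top]
  · rw [Finset.sum_congr rfl (fun t ht => (hfix t).trans (hc t (Finset.ne_of_mem_erase ht))),
      Finset.sum_const, Finset.card_erase_of_mem (Finset.mem_univ _), Finset.card_univ, smul_eq_mul]

theorem card_dvd_80 {T V : Type*} [Group T] [Finite T] [Group V] [Finite V]
    (hV : Nat.card V = 81) (θ : T →* MulAut V) (hθ : Function.Injective θ) (hT : IsPGroup 5 T) :
    Nat.card T ∣ 80 := by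
  obtain ⟨k, hk⟩ := burnside_const θ 1 (fun t ht => by
    obtain ⟨j, hj⟩ := hT t
    exact card_fixSub_five hV θ hθ t ht j hj)
  rw [hV] at hk
  have hpos : 0 < Nat.card T := Nat.card_pos
  have h2 : 80 + Nat.card T = k * Nat.card T := by omega
  have h3 : Nat.card T ∣ 80 + Nat.card T := h2 ▸ dvd_mul_left _ _
  exact (Nat.dvd_add_left (dvd_refl _)).mp h3

theorem card_dvd_78 {T V : Type*} [Group T] [Finite T] [Group V] [Finite V]
    (hV : Nat.card V = 81) (θ : T →* MulAut V) (hθ : Function.Injective θ) (hT : IsPGroup 13 T) :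
    Nat.card T ∣ 78 := by
  obtain ⟨k, hk⟩ := burnside_const θ 3 (fun t ht => by
    obtain ⟨j, hj⟩ := hT t
    exact card_fixSub_thirteen hV θ hθ t ht j hj)
  rw [hV] at hk
  have hpos : 0 < Nat.card T := Nat.card_pos
  have h2 : 78 + 3 * Nat.card T = k * Nat.card T := by omega
  have h3 : Nat.card T ∣ 78 + 3 * Nat.card T := h2 ▸ dvd_mul_left _ _
  exact (Nat.dvd_add_left (dvd_mul_left _ _)).mp h3

/-- a group of order `65` does not act faithfully on a group of order `81`. -/
theorem order65 {E V : Type*} [Group E] [Finite E] [Group V] [Finite V]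
    (hV : Nat.card V = 81) (θ : E →* MulAut V) (hθ : Function.Injective θ)
    (hE : Nat.card E = 65) : False := by
  classical
  haveI : Fact (Nat.Prime 5) := ⟨by norm_num⟩
  haveI : Fact (Nat.Prime 13) := ⟨by norm_num⟩
  obtain ⟨P⟩ : Nonempty (Sylow 13 E) := inferInstance
  have hPcard : Nat.card (P : Subgroup E) = 13 := by
    obtain ⟨k, hk⟩ := IsPGroup.iff_card.mp P.2
    have hd : Nat.card (P : Subgroup E) ∣ 65 := hE ▸ Subgroup.card_subgroup_dvd_card _
    have h13 : 13 ∣ Nat.card (P : Subgroup E) := P.dvd_card_of_dvd_card (by rw [hE]; norm_num)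
    rw [hk] at hd h13 ⊢
    have hk2 : k < 2 := by
      by_contra hcon
      push Not at hcon
      have : 13 ^ 2 ∣ 65 := (pow_dvd_pow 13 hcon).trans hd
      norm_num at this
    interval_cases k
    · norm_num at h13
    · norm_num
  have hidx : (P : Subgroup E).index = 5 := by
    have := (P : Subgroup E).card_mul_index
    rw [hPcard, hE] at this
    omega
  have hsyl1 : Nat.card (Sylow 13 E) = 1 := by
    have h1 := card_sylow_modEq_one 13 E
    have h2 := P.card_dvd_index
    rw [hidx] at h2
    rcases (Nat.dvd_prime (by norm_num : Nat.Prime 5)).mp h2 with h | h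
    · exact h
    · rw [h] at h1; exact absurd h1 (by decide)
  haveI : Subsingleton (Sylow 13 E) := (Nat.card_eq_one_iff_unique.mp hsyl1).1
  haveI hPn : (P : Subgroup E).Normal := Sylow.normal_of_subsingleton P
  -- a nonidentity element of `P`
  obtain ⟨x, hxP, hx1⟩ : ∃ x ∈ (P : Subgroup E), x ≠ 1 := by
    by_contra hcon
    push Not at hcon
    have : (P : Subgroup E) = ⊥ := (Subgroup.eq_bot_iff_forall _).mpr hcon
    rw [this, Subgroup.card_bot] at hPcard
    norm_num at hPcard
  -- an element of order 5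
  obtain ⟨y, hy⟩ := exists_prime_orderOf_dvd_card' 5 (by rw [hE]; norm_num : 5 ∣ Nat.card E)
  have hy5 : y ^ 5 = 1 := by rw [← hy]; exact pow_orderOf_eq_one y
  have hy1 : y ≠ 1 := by
    rintro rfl
    rw [orderOf_one] at hy
    norm_num at hy
  have hP13 : ∀ g ∈ (P : Subgroup E), g ^ 13 ^ 1 = 1 := by
    intro g hg
    have h := pow_card_eq_one' (G := (P : Subgroup E)) (x := ⟨g, hg⟩)
    rw [hPcard] at h
    rw [pow_one]
    exact congrArg Subtype.val h
  have hW : Nat.card (fixSub θ x) = 3 := card_fixSub_thirteen hV θ hθ x hx1 1 (hP13 x hxP)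
  -- `P` fixes `W` pointwise
  have hPW : ∀ g ∈ (P : Subgroup E), ∀ w ∈ fixSub θ x, θ g w = w := by
    intro g hg w hw
    have hmem : (⟨g, hg⟩ : (P : Subgroup E)) ∈ Submonoid.powers (⟨x, hxP⟩ : (P : Subgroup E)) :=
      mem_powers_of_prime_card (p := 13) hPcard (fun h => hx1 (congrArg Subtype.val h))
    obtain ⟨n, hn⟩ := hmem
    have hgx : g = x ^ n := by
      have := congrArg Subtype.val hn
      simpa using this.symm
    rw [hgx, map_pow]
    have hxw : θ x w = w := hw
    clear hgx hn
    induction n with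
    | zero => simp
    | succ n ih => rw [pow_succ, MulAut.mul_apply, hxw, ih]
  -- `y` maps `W` into `W`
  have hyW : ∀ w ∈ fixSub θ x, θ y w ∈ fixSub θ x := by
    intro w hw
    rw [mem_fixSub]
    have hconj : y⁻¹ * x * y ∈ (P : Subgroup E) := by
      have := hPn.conj_mem x hxP y⁻¹
      simpa using this
    have h1 := hPW _ hconj w hw
    have h2 : x * y = y * (y⁻¹ * x * y) := by group
    calc θ x (θ y w) = θ (x * y) w := by rw [map_mul, MulAut.mul_apply]
      _ = θ (y * (y⁻¹ * x * y)) w := by rw [h2]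
      _ = θ y (θ (y⁻¹ * x * y) w) := by rw [map_mul, MulAut.mul_apply]
      _ = θ y w := by rw [h1]
  -- the restriction of `y` to `W`
  haveI := Fintype.ofFinite (fixSub θ x)
  let f : Function.End (fixSub θ x) := fun w => ⟨θ y w.1, hyW w.1 w.2⟩
  have hpow : ∀ (n : ℕ) (w : fixSub θ x), ((f ^ n) w).1 = (θ y ^ n) w.1 := by
    intro n
    induction n with
    | zero => intro w; rfl
    | succ n ih =>
      intro w
      rw [pow_succ', pow_succ']
      show θ y ((f ^ n) w).1 = θ y ((θ y ^ n) w.1)
      rw [ih]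
  have hf : f ^ 5 ^ 1 = 1 := by
    funext w
    apply Subtype.ext
    rw [hpow, pow_one, ← map_pow, hy5, map_one]
    rfl
  have hmod := Equiv.Perm.card_fixedPoints_modEq (p := 5) (n := 1) hf
  have hcW : Fintype.card (fixSub θ x) = 3 := by rw [← Nat.card_eq_fintype_card]; exact hW
  have hy51 : y ^ 5 ^ 1 = 1 := by rw [pow_one]; exact hy5
  have hfixy : Nat.card (fixSub θ y) = 1 := card_fixSub_five hV θ hθ y hy1 1 hy51
  haveI hsub : Subsingleton (Function.fixedPoints f) := by
    refine ⟨fun a b => ?_⟩
    have key : ∀ c : Function.fixedPoints f, (c.1.1 : V) = 1 := by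
      intro c
      have hc : f c.1 = c.1 := c.2
      have hc' : θ y c.1.1 = c.1.1 := congrArg Subtype.val hc
      have hmem : c.1.1 ∈ fixSub θ y := hc'
      have hbot : fixSub θ y = ⊥ := Subgroup.card_eq_one.mp hfixy
      rw [hbot] at hmem
      exact hmem
    apply Subtype.ext
    apply Subtype.ext
    rw [key a, key b]
  have hle : Fintype.card (Function.fixedPoints f) ≤ 1 := Fintype.card_le_one_iff_subsingleton.mpr hsub
  rw [hcW] at hmod
  unfold Nat.ModEq at hmod
  omega

/-- **EXC81A**. -/
theorem exc81a {H V : Type*} [Group H] [Finite H] [Group V] [Finite V]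
    (hV : Nat.card V = 81) (hcomm : ∀ a b : V, a * b = b * a)
    (θ : H →* MulAut V) (hθ : Function.Injective θ) (hsol : Group.IsSolvable H)
    (h5 : 5 ∣ Nat.card H) (h13 : 13 ∣ Nat.card H) : False := by
  haveI : Fact (Nat.Prime 5) := ⟨by norm_num⟩
  haveI : Fact (Nat.Prime 13) := ⟨by norm_num⟩
  have h25 : ¬ 25 ∣ Nat.card H := by
    intro h
    obtain ⟨T, hT⟩ := Sylow.exists_subgroup_card_pow_prime 5 (n := 2) (by simpa using h)
    have hp : IsPGroup 5 T := IsPGroup.of_card (n := 2) hT
    have h80 := card_dvd_80 hV (θ.comp T.subtype) (hθ.comp T.subtype_injective) hp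
    rw [hT] at h80
    norm_num at h80
  have h169 : ¬ 169 ∣ Nat.card H := by
    intro h
    obtain ⟨T, hT⟩ := Sylow.exists_subgroup_card_pow_prime 13 (n := 2) (by simpa using h)
    have hp : IsPGroup 13 T := IsPGroup.of_card (n := 2) hT
    have h78 := card_dvd_78 hV (θ.comp T.subtype) (hθ.comp T.subtype_injective) hp
    rw [hT] at h78
    norm_num at h78
  obtain ⟨n, hn⟩ : 65 ∣ Nat.card H :=
    Nat.Coprime.mul_dvd_of_dvd_of_dvd (by norm_num : Nat.Coprime 5 13) h5 h13
  have h5n : ¬ 5 ∣ n := by
    rintro ⟨m, rfl⟩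
    exact h25 ⟨13 * m, by rw [hn]; ring⟩
  have h13n : ¬ 13 ∣ n := by
    rintro ⟨m, rfl⟩
    exact h169 ⟨5 * m, by rw [hn]; ring⟩
  have hc5 : Nat.Coprime 5 n := (Nat.Prime.coprime_iff_not_dvd (by norm_num)).mpr h5n
  have hc13 : Nat.Coprime 13 n := (Nat.Prime.coprime_iff_not_dvd (by norm_num)).mpr h13n
  have hcop : Nat.Coprime 65 n := Nat.Coprime.mul_left hc5 hc13
  haveI := hsol
  obtain ⟨E, hE⟩ := Cfsg.Agent.Lib.H1.hall_exists hn hcop
  exact order65 hV (θ.comp E.subtype) (hθ.comp E.subtype_injective) hE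

end Cfsg.Agent.Lib.H25.EOC
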