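import Mathlib
import Cfsg.Agent.S3360

/-!
# S4025 piece HUP (architect helper19)

`Q` a nontrivial normal elementary abelian `p`-subgroup of `X`, `K ⊴ X` centralizing `Q` with `X ⧸ K`
solvable, `X` transitive on the subgroups of order `p` of `Q`.  Then Huppert's theorem (landed
`Cfsg.Agent.S3360.result`) applies to the image of `(X ⧸ K) × (ZMod p)ˣ` in `GL(Additive Q)`.
-/

set_option autoImplicit false
set_option linter.style.haveILetI false

namespace Cfsg.Agent.Lib.H25.EOC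

theorem hup_core2 {X : Type*} [Group X] [Finite X] {p : ℕ} [Fact p.Prime]
    {A : Type*} [CommGroup A] [Finite A] [Nontrivial A] [Module (ZMod p) (Additive A)]
    (c : X →* MulAut A) (K : Subgroup X) [K.Normal] (hK : ∀ k ∈ K, c k = 1)
    (hsolv : Group.IsSolvable (X ⧸ K))
    (htr : ∀ a b : A, a ≠ 1 → b ≠ 1 → ∃ (g : X) (k : ℤ), b = c g (a ^ k)) :
    (∃ (F : Type) (_ : Field F) (_ : Fintype F) (ε : A ≃ F),
        (∀ x y : A, ε (x * y) = ε x + ε y) ∧
        ∀ g : X, ∃ (a : F) (σ : F ≃+* F), ∀ x : A, ε (c g x) = a * σ (ε x)) ∨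
    Nat.card A ∈ ({9, 25, 49, 121, 529, 81} : Set ℕ) := by
  classical
  let φ₀ : X →* (Additive A ≃ₗ[ZMod p] Additive A) :=
    MonoidHom.mk' (fun g => AddEquiv.toLinearEquiv (MulEquiv.toAdditive (c g)) (ZMod.map_smul _))
      (by
        intro a b; apply LinearEquiv.ext; intro v
        show Additive.ofMul (c (a*b) (Additive.toMul v)) = _
        rw [map_mul]; rfl)
  have hφ₀ : ∀ (g : X) (v : Additive A), φ₀ g v = Additive.ofMul (c g (Additive.toMul v)) := by
    intro g v; rfl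
  let φ : X ⧸ K →* (Additive A ≃ₗ[ZMod p] Additive A) := QuotientGroup.lift K φ₀ (by
    intro k hk
    ext v
    rw [hφ₀, hK k hk]
    rfl)
  have hφ : ∀ (g : X) (v : Additive A), φ (QuotientGroup.mk g) v = Additive.ofMul (c g (Additive.toMul v)) := by
    intro g v; rfl
  let z : (ZMod p)ˣ →* (Additive A ≃ₗ[ZMod p] Additive A) :=
    DistribMulAction.toModuleAut (ZMod p) (Additive A)
  have hz : ∀ (u : (ZMod p)ˣ) (v : Additive A), z u v = (u : ZMod p) • v := by
    intro u v; rfl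
  let ψ : (X ⧸ K) × (ZMod p)ˣ →* (Additive A ≃ₗ[ZMod p] Additive A) :=
    MonoidHom.noncommCoprod φ z (by
      intro g u
      show φ g * z u = z u * φ g
      ext v
      show φ g (z u v) = z u (φ g v)
      rw [hz, hz, map_smul])
  have hψ : ∀ (g : X ⧸ K) (u : (ZMod p)ˣ) (v : Additive A), ψ (g, u) v = φ g ((u : ZMod p) • v) := by
    intro g u v; rfl
  haveI := hsolv
  have hsolG : Group.IsSolvable (((X ⧸ K) × (ZMod p)ˣ) ⧸ ψ.ker) := inferInstance
  have key := Cfsg.Agent.S3360.result p hsolG (QuotientGroup.kerLift ψ) (QuotientGroup.kerLift_injective ψ)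
    (by
      intro v w hv hw
      have ha : Additive.toMul v ≠ 1 := fun h => hv (by rw [← ofMul_toMul v, h]; rfl)
      have hb : Additive.toMul w ≠ 1 := fun h => hw (by rw [← ofMul_toMul w, h]; rfl)
      obtain ⟨g, k, hgk⟩ := htr _ _ ha hb
      have hkv : ((k : ZMod p)) • v = k • v := Int.cast_smul_eq_zsmul (ZMod p) k v
      have hk0 : (k : ZMod p) ≠ 0 := by
        intro h0
        rw [h0, zero_smul] at hkv
        have h1 : Additive.toMul v ^ k = 1 := by
          rw [← toMul_zsmul, ← hkv]; rfl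
        rw [h1, map_one] at hgk
        exact hb hgk
      refine ⟨QuotientGroup.mk (QuotientGroup.mk g, Units.mk0 (k : ZMod p) hk0), ?_⟩
      rw [QuotientGroup.kerLift_mk, hψ, Units.val_mk0, hkv, hφ, toMul_zsmul, ← hgk]
      rfl)
  rcases key with ⟨F, hF1, hF2, e, he⟩ | hcard
  · left
    refine ⟨F, hF1, hF2, Additive.ofMul.trans e.toEquiv, ?_, ?_⟩
    · intro x y
      show e (Additive.ofMul (x * y)) = e (Additive.ofMul x) + e (Additive.ofMul y)
      rw [ofMul_mul, map_add]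
    · intro g
      obtain ⟨a, σ, h⟩ := he (QuotientGroup.mk (QuotientGroup.mk g, 1))
      refine ⟨a, σ, fun x => ?_⟩
      have h2 := h (Additive.ofMul x)
      rw [QuotientGroup.kerLift_mk, hψ, Units.val_one, one_smul, hφ] at h2
      exact h2
  · right
    exact hcard

theorem hup_core {X : Type*} [Group X] [Finite X] {p : ℕ} [Fact p.Prime]
    {A : Type*} [CommGroup A] [Finite A] [Nontrivial A] (hexp : ∀ a : A, a ^ p = 1)
    (c : X →* MulAut A) (K : Subgroup X) [K.Normal] (hK : ∀ k ∈ K, c k = 1)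
    (hsolv : Group.IsSolvable (X ⧸ K))
    (htr : ∀ a b : A, a ≠ 1 → b ≠ 1 → ∃ (g : X) (k : ℤ), b = c g (a ^ k)) :
    (∃ (F : Type) (_ : Field F) (_ : Fintype F) (ε : A ≃ F),
        (∀ x y : A, ε (x * y) = ε x + ε y) ∧
        ∀ g : X, ∃ (a : F) (σ : F ≃+* F), ∀ x : A, ε (c g x) = a * σ (ε x)) ∨
    Nat.card A ∈ ({9, 25, 49, 121, 529, 81} : Set ℕ) := by
  letI : Module (ZMod p) (Additive A) := AddCommGroup.zmodModule (by
    intro x
    exact congrArg Additive.ofMul (hexp (Additive.toMul x)))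
  exact hup_core2 (p := p) c K hK hsolv htr

/-- **HUP**. -/
theorem hup {X : Type*} [Group X] [Finite X] {p : ℕ} [Fact p.Prime]
    (Q : Subgroup X) [Q.Normal] (hQ1 : Q ≠ ⊥)
    (hQab : ∀ a ∈ Q, ∀ b ∈ Q, a * b = b * a) (hQexp : ∀ a ∈ Q, a ^ p = 1)
    (K : Subgroup X) [K.Normal] (hKQ : ∀ k ∈ K, ∀ a ∈ Q, k * a = a * k)
    (hsolv : Group.IsSolvable (X ⧸ K))
    (htr : ∀ A B : Subgroup X, A ≤ Q → B ≤ Q → Nat.card A = p → Nat.card B = p →
      ∃ g : X, B = A.map (MulAut.conj g).toMonoidHom) :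
    (∃ (F : Type) (_ : Field F) (_ : Fintype F) (ε : ↥Q ≃ F),
        (∀ x y : ↥Q, ε (x * y) = ε x + ε y) ∧
        ∀ g : X, ∃ (a : F) (σ : F ≃+* F), ∀ x : ↥Q,
          ε (MulAut.conjNormal g x) = a * σ (ε x)) ∨
    Nat.card Q ∈ ({9, 25, 49, 121, 529, 81} : Set ℕ) := by
  letI : CommGroup ↥Q :=
    { (inferInstance : Group ↥Q) with
      mul_comm := fun a b => Subtype.ext (hQab a a.2 b b.2) }
  haveI : Nontrivial ↥Q := (Subgroup.nontrivial_iff_ne_bot Q).mpr hQ1
  have hp : p.Prime := Fact.out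
  refine hup_core (p := p) (A := ↥Q) (fun a => Subtype.ext (hQexp a a.2))
    (MulAut.conjNormal : X →* MulAut ↥Q) K ?_ hsolv ?_
  · intro k hk
    ext x
    rw [MulAut.conjNormal_apply, MulAut.one_apply, hKQ k hk x x.2, mul_inv_cancel_right]
  · intro a b ha hb
    have ha' : (a : X) ≠ 1 := fun h => ha (Subtype.ext h)
    have hb' : (b : X) ≠ 1 := fun h => hb (Subtype.ext h)
    have hca : Nat.card (Subgroup.zpowers (a : X)) = p := by
      rw [Nat.card_zpowers]
      exact orderOf_eq_prime (hQexp a a.2) ha'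
    have hcb : Nat.card (Subgroup.zpowers (b : X)) = p := by
      rw [Nat.card_zpowers]
      exact orderOf_eq_prime (hQexp b b.2) hb'
    obtain ⟨g, hg⟩ := htr (Subgroup.zpowers (a : X)) (Subgroup.zpowers (b : X))
      (by rw [Subgroup.zpowers_le]; exact a.2) (by rw [Subgroup.zpowers_le]; exact b.2) hca hcb
    have hbm : (b : X) ∈ (Subgroup.zpowers (a : X)).map (MulAut.conj g).toMonoidHom := by
      rw [← hg]; exact Subgroup.mem_zpowers _
    obtain ⟨y, hy, hyb⟩ := hbm
    obtain ⟨k, rfl⟩ := hy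
    refine ⟨g, k, Subtype.ext ?_⟩
    rw [MulAut.conjNormal_apply, ← hyb]
    simp [MulAut.conj_apply]

end Cfsg.Agent.Lib.H25.EOC
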