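import Mathlib

/-!
# S4020 piece FUS (helper25)

`P` a nonabelian Sylow `p`-subgroup of order `p^3` and exponent `p` in a group where `p`-subgroups
of equal order are conjugate: the centre of `P` is fused to a noncentral subgroup, which produces
two "opposite transvections" on `⟨z, a⟩`.
-/

set_option autoImplicit false
set_option linter.style.haveILetI false

namespace Cfsg.Agent.Lib.H25.EQC

/-- (L): in a group of order `p^3` all commutators lie in any central subgroup of order `p`. -/
theorem eqc_comm_mem {H : Type*} [Group H] {p : ℕ} [Fact p.Prime] (hcard : Nat.card H = p ^ 3)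
    (c : H) (hc : c ∈ Subgroup.center H) (hc1 : c ≠ 1) (hcp : c ^ p = 1) (u v : H) :
    u * v * u⁻¹ * v⁻¹ ∈ Subgroup.zpowers c := by
  have hp : p.Prime := Fact.out
  haveI : Finite H := Nat.finite_of_card_ne_zero (by rw [hcard]; exact pow_ne_zero _ hp.ne_zero)
  have hle : Subgroup.zpowers c ≤ Subgroup.center H := by
    rw [Subgroup.zpowers_le]; exact hc
  haveI hN : (Subgroup.zpowers c).Normal := by
    constructor
    intro n hn g
    have := (Subgroup.mem_center_iff.mp (hle hn)) g
    have e : g * n * g⁻¹ = n := by rw [this]; group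
    rw [e]; exact hn
  have hord : orderOf c = p := orderOf_eq_prime hcp hc1
  have hcN : Nat.card (Subgroup.zpowers c) = p := by rw [Nat.card_zpowers, hord]
  have hq : Nat.card (H ⧸ Subgroup.zpowers c) = p ^ 2 := by
    have h1 := Subgroup.card_eq_card_quotient_mul_card_subgroup (Subgroup.zpowers c)
    rw [hcard, hcN] at h1
    have : p ^ 3 = p ^ 2 * p := by ring
    rw [this] at h1
    exact (Nat.eq_of_mul_eq_mul_right hp.pos h1).symm
  have hcomm := (IsPGroup.isMulCommutative_of_card_eq_prime_sq hq).is_comm.comm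
  rw [← QuotientGroup.eq_one_iff]
  simp only [QuotientGroup.mk_mul, QuotientGroup.mk_inv]
  rw [hcomm (↑u) (↑v)]
  group

/-- (M): in a nonabelian group of order `p^3` the centre is generated by any central element of
order `p`. -/
theorem eqc_center_le_zpowers {H : Type*} [Group H] {p : ℕ} [Fact p.Prime]
    (hcard : Nat.card H = p ^ 3) (hnc : ¬ ∀ a b : H, a * b = b * a)
    (c : H) (hc : c ∈ Subgroup.center H) (hc1 : c ≠ 1) (hcp : c ^ p = 1) :
    ∀ d ∈ Subgroup.center H, d ∈ Subgroup.zpowers c := by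
  have hp : p.Prime := Fact.out
  haveI : Finite H := Nat.finite_of_card_ne_zero (by rw [hcard]; exact pow_ne_zero _ hp.ne_zero)
  have hle : Subgroup.zpowers c ≤ Subgroup.center H := by
    rw [Subgroup.zpowers_le]; exact hc
  have hord : orderOf c = p := orderOf_eq_prime hcp hc1
  have hcN : Nat.card (Subgroup.zpowers c) = p := by rw [Nat.card_zpowers, hord]
  have hdvd : Nat.card (Subgroup.center H) ∣ p ^ 3 := hcard ▸ Subgroup.card_subgroup_dvd_card _
  obtain ⟨i, hi, hci⟩ := (Nat.dvd_prime_pow hp).mp hdvd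
  have hpd : p ∣ Nat.card (Subgroup.center H) := hcN ▸ Subgroup.card_dvd_of_le hle
  have hmul := Subgroup.card_eq_card_quotient_mul_card_subgroup (Subgroup.center H)
  rw [hcard, hci] at hmul
  have hi0 : i ≠ 0 := by
    rintro rfl
    rw [hci, pow_zero] at hpd
    exact hp.one_lt.ne' (Nat.dvd_one.mp hpd)
  have hi_cases : i = 1 ∨ i = 2 ∨ i = 3 := by omega
  rcases hi_cases with rfl | rfl | rfl
  · -- centre of order p
    intro d hd
    have : Subgroup.zpowers c = Subgroup.center H := by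
      apply Subgroup.eq_of_le_of_card_ge hle
      rw [hcN, hci, pow_one]
    rw [this]; exact hd
  · -- centre of order p^2: cyclic quotient
    exfalso
    have hq : Nat.card (H ⧸ Subgroup.center H) = p := by
      have : p ^ 3 = p * p ^ 2 := by ring
      rw [this] at hmul
      exact (Nat.eq_of_mul_eq_mul_right (pow_pos hp.pos 2) hmul).symm
    haveI : IsCyclic (H ⧸ Subgroup.center H) := isCyclic_of_prime_card hq
    have hker : (QuotientGroup.mk' (Subgroup.center H)).ker ≤ Subgroup.center H := by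
      rw [QuotientGroup.ker_mk']
    exact hnc (fun a b =>
      ((QuotientGroup.mk' (Subgroup.center H)).isMulCommutative_of_isCyclic_of_ker_le_center
        hker).is_comm.comm a b)
  · -- centre everything
    exfalso
    have htop : Subgroup.center H = ⊤ := by
      apply Subgroup.eq_top_of_card_eq
      rw [hci, hcard]
    exact hnc (fun a b => by
      have hb : b ∈ Subgroup.center H := htop ▸ Subgroup.mem_top b
      exact ((Subgroup.mem_center_iff.mp hb) a))

/-- natural-number exponents for elements of a cyclic subgroup of a finite group. -/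
theorem eqc_exists_pow {H : Type*} [Group H] [Finite H] {c d : H} (h : d ∈ Subgroup.zpowers c) :
    ∃ n : ℕ, c ^ n = d := by
  rw [← mem_powers_iff_mem_zpowers] at h
  exact (Submonoid.mem_powers_iff _ _).mp h

open Subgroup MulAction in
/-- **FUS**. -/
theorem fus {G : Type*} [Group G] [Finite G] {p : ℕ} [Fact p.Prime]
    (hC : ∀ H K : Subgroup G, IsPGroup p H → IsPGroup p K → Nat.card H = Nat.card K →
      ∃ g : G, K = H.map (MulAut.conj g).toMonoidHom) (P : Sylow p G)
    (hnc : ¬ IsMulCommutative P) (hcard : Nat.card P = p ^ 3) (hexp : Monoid.exponent P = p) :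
    ∃ (z a x y : G) (l k : ℕ), z ≠ 1 ∧ z ^ p = 1 ∧ a ^ p = 1 ∧ x ^ p = 1 ∧ y ^ p = 1 ∧
      z * a = a * z ∧ x * z = z * x ∧ y * a = a * y ∧ ¬ p ∣ l ∧ ¬ p ∣ k ∧
      x * a * x⁻¹ = a * z ^ l ∧ y * z * y⁻¹ = z * a ^ k := by
  have hp : p.Prime := Fact.out
  set Q : Subgroup G := (P : Subgroup G) with hQdef
  have hcardQ : Nat.card Q = p ^ 3 := hcard
  have hncQ : ¬ ∀ u v : Q, u * v = v * u := fun h => hnc ⟨⟨fun u v => h u v⟩⟩
  have hpowQ : ∀ u : Q, u ^ p = 1 := fun u => by
    have := Monoid.pow_exponent_eq_one (G := ↥Q) u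
    rwa [hexp] at this
  have hQp : IsPGroup p Q := P.isPGroup'
  haveI : Nontrivial Q := by
    by_contra h
    rw [not_nontrivial_iff_subsingleton] at h
    exact hncQ (fun u v => Subsingleton.elim _ _)
  -- the central element `z`
  obtain ⟨zQ, hzc, hz1⟩ : ∃ zQ : Q, zQ ∈ center Q ∧ zQ ≠ 1 := by
    haveI := IsPGroup.center_nontrivial hQp
    obtain ⟨⟨w, hw⟩, hw1⟩ := exists_ne (1 : center Q)
    exact ⟨w, hw, fun h => hw1 (Subtype.ext h)⟩
  -- the noncentral element `a`
  obtain ⟨aQ, haQ⟩ : ∃ aQ : Q, aQ ∉ center Q := by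
    by_contra h
    push Not at h
    exact hncQ (fun u v => ((mem_center_iff.mp (h v)) u))
  obtain ⟨xQ, hxa⟩ : ∃ xQ : Q, xQ * aQ ≠ aQ * xQ := by
    by_contra h
    push Not at h
    exact haQ (mem_center_iff.mpr (fun g => h g))
  have haQ1 : aQ ≠ 1 := by
    rintro rfl
    exact haQ (one_mem _)
  have hzQle : zpowers zQ ≤ center Q := by
    rw [zpowers_le]; exact hzc
  -- `x a x⁻¹ a⁻¹ = z ^ l`
  obtain ⟨l, hl⟩ := eqc_exists_pow (eqc_comm_mem hcardQ zQ hzc hz1 (hpowQ zQ) xQ aQ)
  have hpl : ¬ p ∣ l := by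
    rintro ⟨m, rfl⟩
    rw [pow_mul, hpowQ zQ, one_pow] at hl
    apply hxa
    have : xQ * aQ = (xQ * aQ * xQ⁻¹ * aQ⁻¹) * aQ * xQ := by group
    rw [this, ← hl, one_mul]
  -- names in `G`
  set z : G := (zQ : G) with hzdef
  set a : G := (aQ : G) with hadef
  set x : G := (xQ : G) with hxdef
  have hz1G : z ≠ 1 := fun h => hz1 (Subtype.ext h)
  have ha1G : a ≠ 1 := fun h => haQ1 (Subtype.ext h)
  have hzp : z ^ p = 1 := by
    have := congrArg Subtype.val (hpowQ zQ); simpa using this
  have hap : a ^ p = 1 := by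
    have := congrArg Subtype.val (hpowQ aQ); simpa using this
  have hxp : x ^ p = 1 := by
    have := congrArg Subtype.val (hpowQ xQ); simpa using this
  have hzcomm : ∀ u ∈ Q, u * z = z * u := by
    intro u hu
    have := congrArg Subtype.val ((mem_center_iff.mp hzc) ⟨u, hu⟩)
    simpa using this
  have hza : z * a = a * z := (hzcomm a aQ.2).symm
  have hxz : x * z = z * x := hzcomm x xQ.2
  have hxal : x * a * x⁻¹ = a * z ^ l := by
    have h1 := congrArg Subtype.val hl
    simp only [Subgroup.coe_pow, Subgroup.coe_mul, Subgroup.coe_inv] at h1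
    have hcz : z ^ l * a = a * z ^ l := by
      have := (Commute.pow_left (show Commute z a from hza) l)
      exact this
    calc x * a * x⁻¹ = (x * a * x⁻¹ * a⁻¹) * a := by group
      _ = z ^ l * a := by rw [← h1]
      _ = a * z ^ l := hcz
  -- fusion
  have hordz : orderOf z = p := orderOf_eq_prime hzp hz1G
  have horda : orderOf a = p := orderOf_eq_prime hap ha1G
  have hzQ : z ∈ Q := zQ.2
  have haQm : a ∈ Q := aQ.2
  obtain ⟨g, hg⟩ := hC (zpowers z) (zpowers a) (hQp.to_le (by rw [zpowers_le]; exact hzQ))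
    (hQp.to_le (by rw [zpowers_le]; exact haQm))
    (by rw [Nat.card_zpowers, Nat.card_zpowers, hordz, horda])
  -- `a = g t g⁻¹` with `t ∈ ⟨z⟩`
  obtain ⟨t, ht, hta⟩ : ∃ t ∈ zpowers z, g * t * g⁻¹ = a := by
    have : a ∈ zpowers a := mem_zpowers a
    rw [hg] at this
    obtain ⟨t, ht, hta⟩ := this
    exact ⟨t, ht, by simpa using hta⟩
  have htcomm : ∀ u ∈ Q, u * t = t * u := by
    intro u hu
    obtain ⟨n, rfl⟩ := mem_zpowers_iff.mp ht
    exact (Commute.zpow_right (show Commute u z from hzcomm u hu) n)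
  set C : Subgroup G := centralizer ({a} : Set G) with hCdef
  have hmemC : ∀ u : G, u ∈ C ↔ u * a = a * u := by
    intro u
    rw [hCdef, mem_centralizer_iff]
    constructor
    · intro h; exact (h a rfl).symm
    · rintro h b rfl; exact h.symm
  have h2 : ↑(g • P) ≤ C := by
    rintro - ⟨u, hu, rfl⟩
    rw [hmemC]
    have hut := htcomm u hu
    simp only [MulDistribMulAction.toMonoidEnd_apply, MulDistribMulAction.toMonoidHom_apply,
      MulAut.smul_def, MulAut.conj_apply]
    rw [← hta]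
    calc g * u * g⁻¹ * (g * t * g⁻¹) = g * (u * t) * g⁻¹ := by group
      _ = g * (t * u) * g⁻¹ := by rw [hut]
      _ = g * t * g⁻¹ * (g * u * g⁻¹) := by group
  -- `Q ⊓ C` is a `p`-subgroup of `C`, hence in a conjugate of `g • P`
  have hQ0 : IsPGroup p ((Q ⊓ C).subgroupOf C) := (hQp.to_le inf_le_left).comap_subtype
  obtain ⟨S, hS⟩ := hQ0.exists_le_sylow
  obtain ⟨c, hc⟩ := exists_smul_eq C ((g • P).subtype h2) S
  simp_rw [Sylow.smul_subtype, Subgroup.smul_def, smul_smul] at hc
  have hmemS : ∀ q ∈ Q, q * a = a * q → (↑c * g)⁻¹ * q * (↑c * g) ∈ Q := by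
    intro q hq hqa
    have hqC : q ∈ C := (hmemC q).mpr hqa
    have h1 : (⟨q, hqC⟩ : C) ∈ (Q ⊓ C).subgroupOf C := by
      rw [mem_subgroupOf]; exact ⟨hq, hqC⟩
    have h2' := hS h1
    rw [← hc] at h2'
    have h3 : q ∈ ((↑c * g) • P : Sylow p G) := h2'
    rw [← SetLike.mem_coe, Sylow.coe_smul] at h3
    rw [Set.mem_smul_set_iff_inv_smul_mem] at h3
    have h4 : (MulAut.conj (↑c * g))⁻¹ • q = (↑c * g)⁻¹ * q * (↑c * g) := by
      simp [MulAut.smul_def, mul_assoc]
    rw [h4] at h3
    exact h3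
  set h : G := ↑c * g with hhdef
  -- `h⁻¹ a h = t`
  have hca : (c : G) * a = a * c := (hmemC c).mp c.2
  have hw : h⁻¹ * a * h = t := by
    have e1 : (c : G)⁻¹ * a * c = a := by
      calc (c : G)⁻¹ * a * c = (c : G)⁻¹ * (a * c) := by group
        _ = (c : G)⁻¹ * (c * a) := by rw [hca]
        _ = a := by group
    calc h⁻¹ * a * h = g⁻¹ * ((c : G)⁻¹ * a * c) * g := by rw [hhdef]; group
      _ = g⁻¹ * a * g := by rw [e1]
      _ = g⁻¹ * (g * t * g⁻¹) * g := by rw [hta]
      _ = t := by group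
  have hha : h * t * h⁻¹ = a := by rw [← hw]; group
  have htQ : t ∈ Q := (show zpowers z ≤ Q by rw [zpowers_le]; exact hzQ) ht
  have hz'Q : h⁻¹ * z * h ∈ Q := hmemS z hzQ hza
  set tQ : Q := ⟨t, htQ⟩ with htQdef
  set z'Q : Q := ⟨h⁻¹ * z * h, hz'Q⟩ with hz'Qdef
  have htc : tQ ∈ center Q := by
    rw [mem_center_iff]
    intro u
    exact Subtype.ext (htcomm u u.2)
  have ht1 : tQ ≠ 1 := by
    intro h1
    have : t = 1 := congrArg Subtype.val h1
    rw [this] at hha
    apply ha1G
    rw [← hha]; group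
  -- `z'` is not central
  have hz'nc : z'Q ∉ center Q := by
    intro hcen
    obtain ⟨n, hn⟩ := eqc_exists_pow
      (eqc_center_le_zpowers hcardQ hncQ tQ htc ht1 (hpowQ tQ) z'Q hcen)
    have hn' : t ^ n = h⁻¹ * z * h := by
      have := congrArg Subtype.val hn
      simpa using this
    have hzan : a ^ n = z := by
      rw [← hha, conj_pow, hn']; group
    have hle : zpowers z ≤ zpowers a := by
      rw [zpowers_le, ← hzan]; exact pow_mem (mem_zpowers a) n
    have heq : zpowers z = zpowers a := by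
      apply Subgroup.eq_of_le_of_card_ge hle
      rw [Nat.card_zpowers, Nat.card_zpowers, hordz, horda]
    have haz : a ∈ zpowers z := heq ▸ mem_zpowers a
    obtain ⟨m, hm⟩ := mem_zpowers_iff.mp haz
    apply haQ
    have : aQ = zQ ^ m := by
      apply Subtype.ext
      rw [Subgroup.coe_zpow]
      exact hm.symm
    rw [this]
    exact zpow_mem hzc m
  obtain ⟨y'Q, hy'⟩ : ∃ y'Q : Q, y'Q * z'Q ≠ z'Q * y'Q := by
    by_contra hcon
    push Not at hcon
    exact hz'nc (mem_center_iff.mpr (fun u => hcon u))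
  obtain ⟨k, hk⟩ := eqc_exists_pow (eqc_comm_mem hcardQ tQ htc ht1 (hpowQ tQ) y'Q z'Q)
  have hpk : ¬ p ∣ k := by
    rintro ⟨m, rfl⟩
    rw [pow_mul, hpowQ tQ, one_pow] at hk
    apply hy'
    have : y'Q * z'Q = (y'Q * z'Q * y'Q⁻¹ * z'Q⁻¹) * z'Q * y'Q := by group
    rw [this, ← hk, one_mul]
  set y' : G := (y'Q : G) with hy'def
  have hy'p : y' ^ p = 1 := by
    have := congrArg Subtype.val (hpowQ y'Q); simpa using this
  have hk' : t ^ k = y' * (h⁻¹ * z * h) * y'⁻¹ * (h⁻¹ * z * h)⁻¹ := by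
    have := congrArg Subtype.val hk
    simp only [Subgroup.coe_pow, Subgroup.coe_mul, Subgroup.coe_inv] at this
    exact this
  have hy't : y' * t = t * y' := htcomm y' y'Q.2
  refine ⟨z, a, x, h * y' * h⁻¹, l, k, hz1G, hzp, hap, hxp, ?_, hza, hxz, ?_, hpl, hpk, hxal, ?_⟩
  · rw [conj_pow, hy'p]; group
  · rw [← hha]
    calc h * y' * h⁻¹ * (h * t * h⁻¹) = h * (y' * t) * h⁻¹ := by group
      _ = h * (t * y') * h⁻¹ := by rw [hy't]
      _ = h * t * h⁻¹ * (h * y' * h⁻¹) := by group
  · have hak : a ^ k = h * y' * h⁻¹ * z * (h * y' * h⁻¹)⁻¹ * z⁻¹ := by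
      rw [← hha, conj_pow, hk']; group
    have hcz : a ^ k * z = z * a ^ k :=
      (Commute.pow_right (show Commute z a from hza) k).symm
    calc h * y' * h⁻¹ * z * (h * y' * h⁻¹)⁻¹
        = (h * y' * h⁻¹ * z * (h * y' * h⁻¹)⁻¹ * z⁻¹) * z := by group
      _ = a ^ k * z := by rw [← hak]
      _ = z * a ^ k := hcz

end Cfsg.Agent.Lib.H25.EQC
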