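import Mathlib
import Cfsg.Agent.Lib.H17.GHDefs
import Cfsg.Agent.Lib.H21.GHKE
import Cfsg.Agent.Lib.H25.GHK4

/-!
# S4402 piece K3 (helper25): an involution of `T` commuting with all its `T`-conjugates lies in `A1c ∪ A2c`
-/

set_option autoImplicit false
set_option linter.dupNamespace false

namespace Cfsg.Agent.Lib.H25.GH

open Subgroup Cfsg.Agent.Lib.H17.GH Cfsg.Agent.Lib.H14.A8Sylow Cfsg.Agent.Lib.H21.GH

set_option maxRecDepth 1000000 in
/-- the two conjugators `enc 64 = hsw` and `enc 17 = lsw 0 * qsw 0` already decide -/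
theorem good_enc : ∀ n : Fin 128, enc n * enc n = 1 →
    ((enc 64 * enc n * (enc 64)⁻¹) * enc n = enc n * (enc 64 * enc n * (enc 64)⁻¹)) →
    ((enc 17 * enc n * (enc 17)⁻¹) * enc n = enc n * (enc 17 * enc n * (enc 17)⁻¹)) →
    (lsw 0 * enc n = enc n * lsw 0 ∧ lsw 1 * enc n = enc n * lsw 1 ∧ lsw 2 * enc n = enc n * lsw 2 ∧
        lsw 3 * enc n = enc n * lsw 3) ∨
    (dsw 0 1 * enc n = enc n * dsw 0 1 ∧ qsw 0 * enc n = enc n * qsw 0 ∧
        dsw 2 3 * enc n = enc n * dsw 2 3 ∧ qsw 1 * enc n = enc n * qsw 1) := by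
  decide +kernel

/-- K3. An involution (or 1) commuting with all its `T`-conjugates lies in `A1c ∪ A2c`. -/
theorem good_T : ∀ x ∈ T, x * x = 1 → (∀ g ∈ T, (g * x * g⁻¹) * x = x * (g * x * g⁻¹)) →
    x ∈ A1c ∨ x ∈ A2c := by
  intro x hx hx2 hconj
  obtain ⟨n, rfl⟩ := (mem_T_iff_enc x).1 hx
  rcases good_enc n hx2 (hconj _ (enc_mem_T 64)) (hconj _ (enc_mem_T 17)) with h | h
  · left
    rw [mem_A1c_iff]
    exact ⟨hx, h⟩
  · right
    rw [mem_A2c_iff]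
    exact ⟨hx, h⟩

end Cfsg.Agent.Lib.H25.GH
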