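import Mathlib
import Cfsg.Agent.Lib.H13.AutPSU6

set_option autoImplicit false
set_option linter.unusedSectionVars false

/-!
# Frame coordinates for `SU_n(q)` (helper25)

For a polar frame `b` (from helper13's `AutPSU` library) we index the frame vectors by
`Ix k r = Fin k ⊕ (Fin r ⊕ Fin k)` (the `e_i`, the `w_j`, the `f_i`), ordered
`e_0 < ... < e_{k-1} < w < f_{k-1} < ... < f_0` by the rank function `rk`.
-/

namespace Cfsg.Agent.Lib.H25.PSU

open Matrix Cfsg.Agent.Lib.H13.AutPSU

variable {F : Type*} [Field F] {n q : ℕ} {D : UF F q} {k r : ℕ}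

/-- index type of a frame: the `e_i`, the `w_j`, the `f_i` -/
abbrev Ix (k r : ℕ) := Fin k ⊕ (Fin r ⊕ Fin k)

/-- frame vectors -/
def fv (b : Frame D n k r) : Ix k r → Fin n → F
  | Sum.inl i => b.e i
  | Sum.inr (Sum.inl j) => b.w j
  | Sum.inr (Sum.inr i) => b.f i

@[simp] theorem fv_e (b : Frame D n k r) (i : Fin k) : fv b (Sum.inl i) = b.e i := rfl
@[simp] theorem fv_w (b : Frame D n k r) (j : Fin r) : fv b (Sum.inr (Sum.inl j)) = b.w j := rfl
@[simp] theorem fv_f (b : Frame D n k r) (i : Fin k) : fv b (Sum.inr (Sum.inr i)) = b.f i := rfl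

/-- the involution `e_i ↔ f_i`, fixing the `w_j` -/
def bar : Ix k r → Ix k r
  | Sum.inl i => Sum.inr (Sum.inr i)
  | Sum.inr (Sum.inl j) => Sum.inr (Sum.inl j)
  | Sum.inr (Sum.inr i) => Sum.inl i

@[simp] theorem bar_e (i : Fin k) : bar (Sum.inl i : Ix k r) = Sum.inr (Sum.inr i) := rfl
@[simp] theorem bar_w (j : Fin r) : bar (Sum.inr (Sum.inl j) : Ix k r) = Sum.inr (Sum.inl j) := rfl
@[simp] theorem bar_f (i : Fin k) : bar (Sum.inr (Sum.inr i) : Ix k r) = Sum.inl i := rfl

@[simp] theorem bar_bar (a : Ix k r) : bar (bar a) = a := by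
  rcases a with i | j | i <;> rfl

theorem bar_injective : Function.Injective (bar : Ix k r → Ix k r) := by
  intro a b h
  rw [← bar_bar a, h, bar_bar]

theorem eq_bar_comm {a b : Ix k r} : a = bar b ↔ b = bar a := by
  constructor
  · intro h; rw [h, bar_bar]
  · intro h; rw [h, bar_bar]

/-- the rank of an index -/
def rk : Ix k r → ℕ
  | Sum.inl i => i.val
  | Sum.inr (Sum.inl j) => k + j.val
  | Sum.inr (Sum.inr i) => k + r + (k - 1 - i.val)

@[simp] theorem rk_e (i : Fin k) : rk (Sum.inl i : Ix k r) = i.val := rfl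
@[simp] theorem rk_w (j : Fin r) : rk (Sum.inr (Sum.inl j) : Ix k r) = k + j.val := rfl
@[simp] theorem rk_f (i : Fin k) : rk (Sum.inr (Sum.inr i) : Ix k r) = k + r + (k - 1 - i.val) := rfl

theorem rk_bar (hr : r ≤ 1) (a : Ix k r) : rk (bar a) + rk a = 2 * k + r - 1 := by
  rcases a with i | j | i
  · have := i.2
    simp only [bar_e, rk_f, rk_e]
    omega
  · have := j.2
    simp only [bar_w, rk_w]
    omega
  · have := i.2
    simp only [bar_f, rk_f, rk_e]
    omega

theorem rk_lt (a : Ix k r) : rk a < 2 * k + r := by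
  rcases a with i | j | i
  · have := i.2
    simp only [rk_e]
    omega
  · have := j.2
    simp only [rk_w]
    omega
  · have := i.2
    simp only [rk_f]
    omega

theorem rk_injective : Function.Injective (rk : Ix k r → ℕ) := by
  intro a b h
  rcases a with i | j | i <;> rcases b with i' | j' | i'
  · simp only [rk_e] at h
    rw [Fin.ext h]
  · have := i.2
    simp only [rk_e, rk_w] at h
    omega
  · have := i.2
    simp only [rk_e, rk_f] at h
    omega
  · have := i'.2
    simp only [rk_e, rk_w] at h
    omega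
  · simp only [rk_w] at h
    rw [Fin.ext (by omega : j.val = j'.val)]
  · have := j.2
    simp only [rk_w, rk_f] at h
    omega
  · have := i'.2
    simp only [rk_e, rk_f] at h
    omega
  · have := j'.2
    simp only [rk_w, rk_f] at h
    omega
  · have := i.2
    have := i'.2
    simp only [rk_f] at h
    rw [Fin.ext (by omega : i.val = i'.val)]

theorem rk_bar_lt (hr : r ≤ 1) {a b : Ix k r} (h : rk a < rk b) : rk (bar b) < rk (bar a) := by
  have h1 := rk_bar hr a
  have h2 := rk_bar hr b
  omega

/-! ### The form on the frame vectors -/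

theorem H_fv (b : Frame D n k r) (a c : Ix k r) :
    H D (fv b a) (fv b c) = if c = bar a then 1 else 0 := by
  rcases a with i | j | i <;> rcases c with i' | j' | i'
  · rw [if_neg (by intro h; cases h)]
    exact b.ee i i'
  · rw [if_neg (by intro h; cases h)]
    exact b.ew i j'
  · show H D (b.e i) (b.f i') = _
    rw [b.ef]
    by_cases h : i = i'
    · subst h
      rw [if_pos rfl, if_pos (by rfl)]
    · rw [if_neg h, if_neg]
      intro h2
      apply h
      have h3 : (Sum.inr (Sum.inr i') : Ix k r) = Sum.inr (Sum.inr i) := h2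
      injection h3 with h3
      injection h3 with h3
      exact h3.symm
  · rw [if_neg (by intro h; cases h)]
    exact b.we j i'
  · show H D (b.w j) (b.w j') = _
    rw [b.ww]
    by_cases h : j = j'
    · subst h
      rw [if_pos rfl, if_pos (by rfl)]
    · rw [if_neg h, if_neg]
      intro h2
      apply h
      have h3 : (Sum.inr (Sum.inl j') : Ix k r) = Sum.inr (Sum.inl j) := h2
      injection h3 with h3
      injection h3 with h3
      exact h3.symm
  · rw [if_neg (by intro h; cases h)]
    exact b.wf j i'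
  · show H D (b.f i) (b.e i') = _
    rw [b.fe]
    by_cases h : i = i'
    · subst h
      rw [if_pos rfl, if_pos (by rfl)]
    · rw [if_neg h, if_neg]
      intro h2
      apply h
      have h3 : (Sum.inl i' : Ix k r) = Sum.inl i := h2
      injection h3 with h3
      exact h3.symm
  · rw [if_neg (by intro h; cases h)]
    exact b.fw i j'
  · rw [if_neg (by intro h; cases h)]
    exact b.ff i i'

theorem H_fv_self (b : Frame D n k r) (a : Ix k r) : H D (fv b a) (fv b (bar a)) = 1 := by
  rw [H_fv, if_pos rfl]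

theorem H_fv_ne (b : Frame D n k r) {a c : Ix k r} (h : c ≠ bar a) : H D (fv b a) (fv b c) = 0 := by
  rw [H_fv, if_neg h]

/-- expansion of a vector in the frame -/
theorem expand (b : Frame D n k r) (x : Fin n → F) :
    x = ∑ a : Ix k r, H D x (fv b (bar a)) • fv b a := by
  rw [Fintype.sum_sum_type, Fintype.sum_sum_type]
  simp only [bar_e, bar_w, bar_f, fv_e, fv_w, fv_f]
  conv_lhs => rw [b.complete x]
  abel

/-- the coordinate of `x` along the frame vector `a` -/
def co (b : Frame D n k r) (x : Fin n → F) (a : Ix k r) : F := H D x (fv b (bar a))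

theorem co_add (b : Frame D n k r) (x y : Fin n → F) (a : Ix k r) :
    co b (x + y) a = co b x a + co b y a := H_add_left D _ _ _

theorem co_sub (b : Frame D n k r) (x y : Fin n → F) (a : Ix k r) :
    co b (x - y) a = co b x a - co b y a := H_sub_left D _ _ _

theorem co_neg (b : Frame D n k r) (x : Fin n → F) (a : Ix k r) :
    co b (-x) a = - co b x a := H_neg_left D _ _

theorem co_smul (b : Frame D n k r) (c : F) (x : Fin n → F) (a : Ix k r) :
    co b (c • x) a = c * co b x a := H_smul_left D _ _ _

theorem co_zero (b : Frame D n k r) (a : Ix k r) : co b (0 : Fin n → F) a = 0 :=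
  H_zero_left D _

theorem co_sum (b : Frame D n k r) {ι : Type*} (s : Finset ι) (v : ι → Fin n → F) (a : Ix k r) :
    co b (∑ i ∈ s, v i) a = ∑ i ∈ s, co b (v i) a := PFrame.H_sum_left s v _

theorem co_fv (b : Frame D n k r) (c a : Ix k r) :
    co b (fv b c) a = if a = c then 1 else 0 := by
  unfold co
  rw [H_fv]
  by_cases h : a = c
  · rw [if_pos h, if_pos (by rw [h])]
  · rw [if_neg h, if_neg (fun h' => h (bar_injective h'))]

theorem co_fv_self (b : Frame D n k r) (a : Ix k r) : co b (fv b a) a = 1 := by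
  rw [co_fv, if_pos rfl]

theorem co_fv_ne (b : Frame D n k r) {c a : Ix k r} (h : a ≠ c) : co b (fv b c) a = 0 := by
  rw [co_fv, if_neg h]

theorem expand_co (b : Frame D n k r) (x : Fin n → F) :
    x = ∑ a : Ix k r, co b x a • fv b a := expand b x

theorem ext_co (b : Frame D n k r) {x y : Fin n → F} (h : ∀ a, co b x a = co b y a) : x = y := by
  rw [expand_co b x, expand_co b y]
  apply Finset.sum_congr rfl
  intro a _
  rw [h a]

theorem H_right_fv (b : Frame D n k r) (x : Fin n → F) (a : Ix k r) :
    H D x (fv b a) = co b x (bar a) := by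
  unfold co
  rw [bar_bar]

theorem H_left_fv (b : Frame D n k r) (a : Ix k r) (y : Fin n → F) :
    H D (fv b a) y = D.τ (co b y (bar a)) := by
  rw [← H_right_fv, H_symm]

/-- the form in coordinates -/
theorem H_eq_sum (b : Frame D n k r) (x y : Fin n → F) :
    H D x y = ∑ a : Ix k r, co b x a * D.τ (co b y (bar a)) := by
  conv_lhs => rw [expand_co b x]
  rw [PFrame.H_sum_left]
  apply Finset.sum_congr rfl
  intro a _
  rw [H_smul_left, H_left_fv]

theorem fv_ne_zero (b : Frame D n k r) (a : Ix k r) : fv b a ≠ 0 := by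
  intro h
  have := co_fv_self b a
  rw [h, co_zero] at this
  exact zero_ne_one this

/-! ### The coordinate matrix of an element of `SU` -/

theorem sv_sum' {ι : Type*} (s : ↥(Cfsg.SU n F q)) (t : Finset ι) (v : ι → Fin n → F) :
    sv s (∑ i ∈ t, v i) = ∑ i ∈ t, sv s (v i) := by
  classical
  induction t using Finset.induction_on with
  | empty => simp
  | insert a t ha ih => rw [Finset.sum_insert ha, Finset.sum_insert ha, sv_add, ih]

/-- the matrix of `s` in the frame -/
def cm (b : Frame D n k r) (s : ↥(Cfsg.SU n F q)) : Matrix (Ix k r) (Ix k r) F :=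
  Matrix.of fun a c => co b (sv s (fv b c)) a

theorem cm_apply (b : Frame D n k r) (s : ↥(Cfsg.SU n F q)) (a c : Ix k r) :
    cm b s a c = co b (sv s (fv b c)) a := rfl

theorem co_sv (b : Frame D n k r) (s : ↥(Cfsg.SU n F q)) (x : Fin n → F) (a : Ix k r) :
    co b (sv s x) a = ∑ c, cm b s a c * co b x c := by
  conv_lhs => rw [expand_co b x]
  rw [sv_sum', co_sum]
  apply Finset.sum_congr rfl
  intro c _
  rw [sv_smul, co_smul, cm_apply, mul_comm]

theorem cm_mul (b : Frame D n k r) (s t : ↥(Cfsg.SU n F q)) :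
    cm b (s * t) = cm b s * cm b t := by
  ext a c
  rw [Matrix.mul_apply, cm_apply, sv_mul, co_sv]
  rfl

theorem cm_one (b : Frame D n k r) : cm b (1 : ↥(Cfsg.SU n F q)) = 1 := by
  ext a c
  rw [cm_apply, sv_one, co_fv, Matrix.one_apply]

theorem cm_pow (b : Frame D n k r) (s : ↥(Cfsg.SU n F q)) (m : ℕ) :
    cm b (s ^ m) = cm b s ^ m := by
  induction m with
  | zero => rw [pow_zero, pow_zero, cm_one]
  | succ m ih => rw [pow_succ, pow_succ, cm_mul, ih]

theorem ext_fv (b : Frame D n k r) {s t : ↥(Cfsg.SU n F q)}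
    (h : ∀ a, sv s (fv b a) = sv t (fv b a)) : s = t := by
  apply ext_sv
  intro x
  rw [expand_co b x, sv_sum', sv_sum']
  apply Finset.sum_congr rfl
  intro a _
  rw [sv_smul, sv_smul, h a]

theorem cm_injective (b : Frame D n k r) :
    Function.Injective (cm b : ↥(Cfsg.SU n F q) → Matrix (Ix k r) (Ix k r) F) := by
  intro s t h
  apply ext_fv b
  intro c
  apply ext_co b
  intro a
  have := congrFun (congrFun h a) c
  exact this

/-- the determinant of the coordinate matrix -/
theorem det_cm (b : Frame D n k r) (s : ↥(Cfsg.SU n F q)) : (cm b s).det = 1 := by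
  let P : Matrix (Fin n) (Ix k r) F := Matrix.of fun l a => fv b a l
  let P' : Matrix (Ix k r) (Fin n) F := Matrix.of fun a l => D.τ (fv b (bar a) l)
  have hP'v : ∀ x : Fin n → F, P' *ᵥ x = fun a => co b x a := by
    intro x
    funext a
    show ∑ l, D.τ (fv b (bar a) l) * x l = H D x (fv b (bar a))
    unfold H cj dotProduct
    apply Finset.sum_congr rfl
    intro l _
    rw [mul_comm]
  have hPv : ∀ y : Ix k r → F, P *ᵥ y = ∑ a, y a • fv b a := by
    intro y
    funext l
    show ∑ a, fv b a l * y a = _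
    rw [Finset.sum_apply]
    apply Finset.sum_congr rfl
    intro a _
    rw [Pi.smul_apply, smul_eq_mul, mul_comm]
  have h1 : P * P' = 1 := by
    apply Matrix.toLin'.injective
    apply LinearMap.ext
    intro x
    rw [Matrix.toLin'_apply, ← Matrix.mulVec_mulVec, hP'v, hPv, Matrix.toLin'_one]
    exact (expand_co b x).symm
  have h2 : P' * P = 1 := by
    ext a c
    rw [Matrix.mul_apply, Matrix.one_apply]
    have : ∑ l, P' a l * P l c = co b (fv b c) a := by
      have := congrFun (hP'v (fv b c)) a
      rw [← this]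
      rfl
    rw [this, co_fv]
  have h3 : cm b s = P' * mat s * P := by
    ext a c
    rw [cm_apply]
    have : (P' * mat s * P) a c = (P' *ᵥ (mat s *ᵥ (fun l => P l c))) a := by
      rw [Matrix.mulVec_mulVec]
      rfl
    rw [this, hP'v]
    rfl
  rw [h3, Matrix.det_conj_of_mul_eq_one h2 h1]
  exact mat_det s

end Cfsg.Agent.Lib.H25.PSU
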