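import Mathlib
import Cfsg.Agent.Lib.H25.PSUA

set_option autoImplicit false
set_option linter.unusedSectionVars false

/-!
# The unitriangular subgroup of `SU_n(q)` with respect to a frame (helper25)
-/

namespace Cfsg.Agent.Lib.H25.PSU

open Matrix Cfsg.Agent.Lib.H13.AutPSU

variable {F : Type*} [Field F] {n q : ℕ} {D : UF F q} {k r : ℕ}

/-! ### Unitriangular matrices with respect to `rk` -/

/-- unitriangular with respect to the order given by `rk` -/
def IsUU (M : Matrix (Ix k r) (Ix k r) F) : Prop :=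
  (∀ j l, rk l < rk j → M j l = 0) ∧ ∀ l, M l l = 1

theorem isUU_one : IsUU (1 : Matrix (Ix k r) (Ix k r) F) := by
  refine ⟨fun j l h => Matrix.one_apply_ne ?_, fun l => Matrix.one_apply_eq l⟩
  rintro rfl
  exact lt_irrefl _ h

theorem IsUU.mul {M N : Matrix (Ix k r) (Ix k r) F} (hM : IsUU M) (hN : IsUU N) :
    IsUU (M * N) := by
  constructor
  · intro j l hjl
    rw [Matrix.mul_apply]
    apply Finset.sum_eq_zero
    intro a _
    by_cases hk : rk a < rk j
    · rw [hM.1 j a hk, zero_mul]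
    · have : rk l < rk a := lt_of_lt_of_le hjl (not_lt.1 hk)
      rw [hN.1 a l this, mul_zero]
  · intro l
    rw [Matrix.mul_apply, Finset.sum_eq_single l]
    · rw [hM.2, hN.2, one_mul]
    · intro a _ hk
      have hne : rk a ≠ rk l := fun h => hk (rk_injective h)
      rcases lt_or_gt_of_ne hne with h | h
      · rw [hM.1 l a h, zero_mul]
      · rw [hN.1 a l h, mul_zero]
    · intro h; exact absurd (Finset.mem_univ l) h

theorem IsUU.pow {M : Matrix (Ix k r) (Ix k r) F} (hM : IsUU M) (m : ℕ) : IsUU (M ^ m) := by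
  induction m with
  | zero => rw [pow_zero]; exact isUU_one
  | succ m ih => rw [pow_succ]; exact ih.mul hM

theorem IsUU.sub_one_pow {M : Matrix (Ix k r) (Ix k r) F} (hM : IsUU M) (m : ℕ) :
    ∀ j l, rk l < rk j + m → ((M - 1) ^ m) j l = 0 := by
  induction m with
  | zero =>
    intro j l h
    rw [pow_zero, Matrix.one_apply_ne]
    rintro rfl
    omega
  | succ m ih =>
    intro j l h
    rw [pow_succ, Matrix.mul_apply]
    apply Finset.sum_eq_zero
    intro a _
    by_cases ha : rk a < rk j + m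
    · rw [ih j a ha, zero_mul]
    · have hla : rk l ≤ rk a := by omega
      rw [Matrix.sub_apply]
      rcases lt_or_eq_of_le hla with h1 | h1
      · rw [hM.1 a l h1, Matrix.one_apply_ne, sub_zero, mul_zero]
        rintro rfl
        exact lt_irrefl _ h1
      · have : l = a := rk_injective h1
        subst this
        rw [hM.2, Matrix.one_apply_eq, sub_self, mul_zero]

theorem IsUU.sub_one_pow_eq_zero {M : Matrix (Ix k r) (Ix k r) F} (hM : IsUU M) {m : ℕ}
    (hm : 2 * k + r ≤ m) : (M - 1) ^ m = 0 := by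
  ext j l
  rw [hM.sub_one_pow m j l (by have := rk_lt l; omega), Matrix.zero_apply]

section fin

variable [Fintype F]

/-- the unitriangular subgroup of `SU_n(q)` with respect to the frame `b` -/
def U (b : Frame D n k r) : Subgroup ↥(Cfsg.SU n F q) where
  carrier := {s | IsUU (cm b s)}
  mul_mem' := by
    intro s t hs ht
    show IsUU (cm b (s * t))
    rw [cm_mul]
    exact IsUU.mul hs ht
  one_mem' := by
    show IsUU (cm b 1)
    rw [cm_one]
    exact isUU_one
  inv_mem' := by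
    intro s hs
    have h1 : s⁻¹ = s ^ (orderOf s - 1) := by
      apply inv_eq_of_mul_eq_one_right
      rw [← pow_succ', Nat.sub_add_cancel (orderOf_pos s), pow_orderOf_eq_one]
    show IsUU (cm b s⁻¹)
    rw [h1, cm_pow]
    exact IsUU.pow hs _

theorem mem_U {b : Frame D n k r} {s : ↥(Cfsg.SU n F q)} : s ∈ U b ↔ IsUU (cm b s) := Iff.rfl

theorem mem_U_iff_sv {b : Frame D n k r} {s : ↥(Cfsg.SU n F q)} : s ∈ U b ↔
    ∀ l, (∀ j, rk l < rk j → co b (sv s (fv b l)) j = 0) ∧ co b (sv s (fv b l)) l = 1 := by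
  rw [mem_U]
  constructor
  · intro h l
    exact ⟨fun j hj => h.1 j l hj, h.2 l⟩
  · intro h
    exact ⟨fun j l hj => (h l).1 j hj, fun l => (h l).2⟩

/-- a product `co x (bar l) * co y j` vanishes when the supports are small -/
theorem supp_mul_eq_zero (b : Frame D n k r) (hr : r ≤ 1) {x y : Fin n → F} {α β : ℕ}
    (hx : ∀ j, co b x j ≠ 0 → rk j ≤ α) (hy : ∀ j, co b y j ≠ 0 → rk j ≤ β)
    (hab : α + β + 1 < 2 * k + r) {l j : Ix k r} (hlj : rk l ≤ rk j) :
    co b x (bar l) * co b y j = 0 := by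
  by_contra h
  have h1 := hx _ (left_ne_zero_of_mul h)
  have h2 := hy _ (right_ne_zero_of_mul h)
  have h3 := rk_bar hr l
  omega

theorem supp_mul_eq_zero' (b : Frame D n k r) (hr : r ≤ 1) {x y : Fin n → F} {α β : ℕ}
    (hx : ∀ j, co b x j ≠ 0 → rk j ≤ α) (hy : ∀ j, co b y j ≠ 0 → rk j ≤ β)
    (hab : α + β + 1 < 2 * k + r) {l j : Ix k r} (hlj : rk l ≤ rk j) :
    D.τ (co b x (bar l)) * co b y j = 0 := by
  rcases mul_eq_zero.1 (supp_mul_eq_zero b hr hx hy hab hlj) with h | h
  · rw [h, map_zero, zero_mul]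
  · rw [h, mul_zero]

/-- a criterion for Eichler transformations to lie in `U` -/
theorem EL_mem_U (b : Frame D n k r) (hr : r ≤ 1) {e w : Fin n → F} {β : F}
    (h : ELOK D e w β) (α α' : ℕ)
    (he : ∀ j, co b e j ≠ 0 → rk j ≤ α) (hw : ∀ j, co b w j ≠ 0 → rk j ≤ α')
    (hαβ : α + α' + 1 < 2 * k + r) (hb : β = 0 ∨ 2 * α + 1 < 2 * k + r) :
    EL D e w β ∈ U b := by
  rw [mem_U_iff_sv]
  intro l
  have key : ∀ j, rk l ≤ rk j → co b (sv (EL D e w β) (fv b l)) j = co b (fv b l) j := by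
    intro j hlj
    rw [sv_EL D h]
    simp only [co_add, co_sub, co_smul, H_left_fv]
    have h1 : D.τ (co b e (bar l)) * co b w j = 0 := supp_mul_eq_zero' b hr he hw hαβ hlj
    have h2 : D.τ (co b w (bar l)) * co b e j = 0 :=
      supp_mul_eq_zero' b hr hw he (by omega) hlj
    have h3 : β * D.τ (co b e (bar l)) * co b e j = 0 := by
      rcases hb with hb | hb
      · rw [hb, zero_mul, zero_mul]
      · rw [mul_assoc, supp_mul_eq_zero' b hr he he (by omega) hlj, mul_zero]
    rw [h1, h2, h3]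
    ring
  refine ⟨fun j hj => ?_, ?_⟩
  · rw [key j (le_of_lt hj), co_fv_ne]
    rintro rfl
    exact lt_irrefl _ hj
  · rw [key l le_rfl, co_fv_self]

theorem co_zero_supp (b : Frame D n k r) (α : ℕ) :
    ∀ j, co b (0 : Fin n → F) j ≠ 0 → rk j ≤ α :=
  fun j h => absurd (co_zero b j) h

/-- transvections with low centre lie in `U` -/
theorem tr_mem_U (b : Frame D n k r) (hr : r ≤ 1) {e : Fin n → F} {a : F}
    (he0 : H D e e = 0) (ha : Skew D a) (α : ℕ)
    (he : ∀ j, co b e j ≠ 0 → rk j ≤ α) (hα : 2 * α + 1 < 2 * k + r) :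
    EL D e 0 a ∈ U b :=
  EL_mem_U b hr ((ELOK_zero_iff D).2 ⟨he0, ha⟩) α 0 he (co_zero_supp b 0) (by omega) (Or.inr hα)

theorem fv_supp (b : Frame D n k r) (l : Ix k r) : ∀ j, co b (fv b l) j ≠ 0 → rk j ≤ rk l := by
  intro j hj
  by_cases h : j = l
  · rw [h]
  · exact absurd (co_fv_ne b h) hj

/-! ### `U` is a `p`-group -/

theorem isPGroup_U (b : Frame D n k r) (p : ℕ) [Fact p.Prime] [CharP F p] (hk : 1 ≤ k) :
    IsPGroup p (U b) := by
  have : Nonempty (Ix k r) := ⟨Sum.inl ⟨0, hk⟩⟩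
  rintro ⟨s, hs⟩
  refine ⟨2 * k + r, ?_⟩
  apply Subtype.ext
  rw [Subgroup.coe_pow]
  show s ^ p ^ (2 * k + r) = 1
  apply cm_injective b
  rw [cm_pow, cm_one]
  have hp : 2 * k + r ≤ p ^ (2 * k + r) := by
    have h2 : 2 ≤ p := (Fact.out : p.Prime).two_le
    calc 2 * k + r ≤ 2 ^ (2 * k + r) := Nat.le_of_lt (Nat.lt_two_pow_self)
      _ ≤ p ^ (2 * k + r) := Nat.pow_le_pow_left h2 _
  have h1 : cm b s = (cm b s - 1) + 1 := by rw [sub_add_cancel]
  rw [h1, add_pow_char_pow_of_commute p (2 * k + r) (Commute.one_right _), one_pow,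
    (mem_U.1 hs).sub_one_pow_eq_zero hp, zero_add]

/-- elements of `U` fix the first frame vector -/
theorem sv_e_of_mem_U (b : Frame D n k r) {s : ↥(Cfsg.SU n F q)} (hs : s ∈ U b) (i : Fin k)
    (hi : i.val = 0) : sv s (b.e i) = b.e i := by
  apply ext_co b
  intro j
  have h := (mem_U_iff_sv.1 hs) (Sum.inl i)
  by_cases hj : j = Sum.inl i
  · rw [hj]
    exact h.2.trans (co_fv_self b (Sum.inl i)).symm
  · have hrk : rk (Sum.inl i : Ix k r) < rk j := by
      have hne : rk j ≠ rk (Sum.inl i : Ix k r) := fun h' => hj (rk_injective h')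
      simp only [rk_e, hi] at hne ⊢
      omega
    have := h.1 j hrk
    rw [fv_e] at this
    rw [this]
    exact (co_fv_ne b (c := Sum.inl i) hj).symm

end fin

end Cfsg.Agent.Lib.H25.PSU
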