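import Mathlib
import Cfsg.Agent.Lib.H25.PSUB

set_option autoImplicit false
set_option linter.unusedSectionVars false

/-!
# Root elements of `U` and upper triangularity of the normalizer (helper25)
-/

namespace Cfsg.Agent.Lib.H25.PSU

open Matrix Cfsg.Agent.Lib.H13.AutPSU

variable {F : Type*} [Field F] [Fintype F] {n q : ℕ} {D : UF F q} {k r : ℕ}

/-- upper triangular in the frame -/
def IsUT (b : Frame D n k r) (g : ↥(Cfsg.SU n F q)) : Prop :=
  ∀ j l, rk l < rk j → cm b g j l = 0

/-- diagonal in the frame -/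
def IsDg (b : Frame D n k r) (g : ↥(Cfsg.SU n F q)) : Prop :=
  ∀ a, ∃ d : F, sv g (fv b a) = d • fv b a

theorem H_fv_fv_self_of_ne (b : Frame D n k r) {a : Ix k r} (h : a ≠ bar a) :
    H D (fv b a) (fv b a) = 0 := H_fv_ne b h

/-- the generic root element -/
theorem root_generic (b : Frame D n k r) (hr : r ≤ 1) {l j : Ix k r} (hl : l ≠ bar l)
    (hj : j ≠ bar j) (hlj : l ≠ bar j) (h : rk l < rk j) :
    ∃ u ∈ U b, sv u (fv b j) = fv b j + (-1 : F) • fv b l := by
  have hne : l ≠ j := by
    rintro rfl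
    exact lt_irrefl _ h
  have hok : ELOK D (fv b l) (fv b (bar j)) 0 := by
    refine ⟨H_fv_ne b hl, H_fv_ne b ?_, ?_⟩
    · rw [bar_bar]; exact hne
    · rw [map_zero, H_fv_ne b (a := bar j) (c := bar j)]
      · ring
      · rw [bar_bar]
        exact fun h' => hj h'.symm
  refine ⟨EL D (fv b l) (fv b (bar j)) 0, ?_, ?_⟩
  · apply EL_mem_U b hr hok (rk l) (rk (bar j)) (fv_supp b l) (fv_supp b (bar j)) _ (Or.inl rfl)
    have := rk_bar hr j
    omega
  · rw [sv_EL D hok, H_fv_ne b (a := j) (c := l) hlj, H_fv_self]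
    module

/-- for each pair `l < j` there is an element of `U` with a nonzero `(l, j)` entry -/
theorem exists_root (b : Frame D n k r) (hr : r ≤ 1) {l j : Ix k r} (h : rk l < rk j) :
    ∃ u ∈ U b, ∃ c c' : F, c ≠ 0 ∧
      sv u (fv b j) = fv b j + c • fv b l + c' • fv b (bar j) ∧
      (c' = 0 ∨ (l ≠ bar j ∧ rk (bar j) < rk j)) := by
  have gen : ∀ {l j : Ix k r}, l ≠ bar l → j ≠ bar j → l ≠ bar j → rk l < rk j →
      ∃ u ∈ U b, ∃ c c' : F, c ≠ 0 ∧
      sv u (fv b j) = fv b j + c • fv b l + c' • fv b (bar j) ∧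
      (c' = 0 ∨ (l ≠ bar j ∧ rk (bar j) < rk j)) := by
    intro l j hl hj hlj h
    obtain ⟨u, hu, hsv⟩ := root_generic b hr hl hj hlj h
    refine ⟨u, hu, -1, 0, by norm_num, ?_, Or.inl rfl⟩
    rw [hsv, zero_smul, add_zero]
  rcases l with i | j' | i <;> rcases j with i' | j'' | i'
  · -- (e, e)
    exact gen (by intro h'; cases h') (by intro h'; cases h') (by intro h'; cases h') h
  · -- (e, w)
    have hwe : H D (b.w j'') (b.e i) = 0 := b.we j'' i
    obtain ⟨β, hβ⟩ := exists_ELOK D (b.ee i i) hwe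
    refine ⟨EL D (b.e i) (b.w j'') β, ?_, -1, 0, by norm_num, ?_, Or.inl rfl⟩
    · have h1 := fv_supp b (Sum.inl i : Ix k r)
      have h2 := fv_supp b (Sum.inr (Sum.inl j'') : Ix k r)
      have hi := i.2
      have hj := j''.2
      apply EL_mem_U b hr hβ i.val (k + j''.val) h1 h2
      · omega
      · right; omega
    · show sv (EL D (b.e i) (b.w j'') β) (b.w j'') = _
      rw [sv_EL D hβ, hwe, b.ww, if_pos rfl]
      simp only [fv_w, fv_e, bar_w]
      module
  · -- (e, f)
    by_cases hii : i = i'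
    · subst hii
      obtain ⟨a, ha, ha0⟩ := exists_skew_ne_zero D
      refine ⟨EL D (b.e i) 0 a, ?_, a, 0, ha0, ?_, Or.inl rfl⟩
      · have h1 := fv_supp b (Sum.inl i : Ix k r)
        have hi := i.2
        apply tr_mem_U b hr (b.ee i i) ha i.val h1
        omega
      · show sv (EL D (b.e i) 0 a) (b.f i) = _
        rw [sv_tr D (b.ee i i) ha, b.fe, if_pos rfl]
        simp only [fv_f, fv_e, bar_f]
        module
    · refine gen (by intro h'; cases h') (by intro h'; cases h') ?_ h
      intro h'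
      apply hii
      have h3 : (Sum.inl i : Ix k r) = Sum.inl i' := h'
      injection h3
  · -- (w, e)
    exfalso
    have := i'.2
    simp only [rk_w, rk_e] at h
    omega
  · -- (w, w)
    exfalso
    have := j'.2
    have := j''.2
    simp only [rk_w] at h
    omega
  · -- (w, f)
    have hwe : H D (b.w j') (b.e i') = 0 := b.we j' i'
    obtain ⟨β, hβ⟩ := exists_ELOK D (b.ee i' i') hwe
    refine ⟨EL D (b.e i') (b.w j') β, ?_, 1, β, one_ne_zero, ?_, Or.inr ⟨?_, ?_⟩⟩
    · have h1 := fv_supp b (Sum.inl i' : Ix k r)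
      have h2 := fv_supp b (Sum.inr (Sum.inl j') : Ix k r)
      have hi := i'.2
      have hj := j'.2
      apply EL_mem_U b hr hβ i'.val (k + j'.val) h1 h2
      · omega
      · right; omega
    · show sv (EL D (b.e i') (b.w j') β) (b.f i') = _
      rw [sv_EL D hβ, b.fe, if_pos rfl, b.fw]
      simp only [fv_w, fv_e, fv_f, bar_f]
      module
    · intro h'; cases h'
    · have hi := i'.2
      simp only [bar_f, rk_e, rk_f]
      omega
  · -- (f, e)
    exfalso
    have := i.2
    have := i'.2
    simp only [rk_f, rk_e] at h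
    omega
  · -- (f, w)
    exfalso
    have := i.2
    have := j''.2
    simp only [rk_f, rk_w] at h
    omega
  · -- (f, f)
    exact gen (by intro h'; cases h') (by intro h'; cases h') (by intro h'; cases h') h

/-- An element of `SU` conjugating `U` into itself is upper triangular in the frame. -/
theorem upper_of_conj_U (b : Frame D n k r) (hr : r ≤ 1) (g : ↥(Cfsg.SU n F q))
    (hg : ∀ u ∈ U b, g * u * g⁻¹ ∈ U b) : IsUT b g := by
  have key : ∀ m : ℕ, ∀ j : Ix k r, 2 * k + r - 1 - rk j = m → ∀ l : Ix k r, rk l < rk j →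
      cm b g j l = 0 := by
    intro m
    induction m using Nat.strong_induction_on with
    | _ m ih =>
      intro j hjm
      -- the basic relation
      have hrel : ∀ l : Ix k r, ∀ u ∈ U b, ∀ c c' : F,
          sv u (fv b j) = fv b j + c • fv b l + c' • fv b (bar j) →
          c * cm b g j l + c' * cm b g j (bar j) = 0 := by
        intro l u hu c c' hsv
        have hu' := hg u hu
        set u' := g * u * g⁻¹ with hu'def
        have heq : g * u = u' * g := by rw [hu'def]; group
        have h1 : co b (sv (g * u) (fv b j)) j = co b (sv (u' * g) (fv b j)) j := by rw [heq]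
        have hL : co b (sv (g * u) (fv b j)) j =
            cm b g j j + c * cm b g j l + c' * cm b g j (bar j) := by
          rw [sv_mul, hsv, sv_add, sv_add, sv_smul, sv_smul, co_add, co_add, co_smul, co_smul]
          rfl
        have h2 : ∑ a, cm b u' j a * co b (sv g (fv b j)) a = cm b g j j := by
          rw [Finset.sum_eq_single j]
          · rw [(mem_U.1 hu').2 j, one_mul]
            rfl
          · intro a _ haj
            have hne : rk a ≠ rk j := fun h => haj (rk_injective h)
            rcases lt_or_gt_of_ne hne with h | h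
            · rw [(mem_U.1 hu').1 j a h, zero_mul]
            · have h3 := rk_lt a
              have : co b (sv g (fv b j)) a = cm b g a j := rfl
              rw [this, ih (2 * k + r - 1 - rk a) (by omega) a rfl j h, mul_zero]
          · intro h; exact absurd (Finset.mem_univ j) h
        have hR : co b (sv (u' * g) (fv b j)) j = cm b g j j := by
          rw [sv_mul, co_sv]
          exact h2
        rw [hL, hR] at h1
        linear_combination h1
      have hbar : rk (bar j) < rk j → cm b g j (bar j) = 0 := by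
        intro hbj
        obtain ⟨u, hu, c, c', hc, hsv, hc'⟩ := exists_root b hr hbj
        have hc'0 : c' = 0 := by
          rcases hc' with h | ⟨h, -⟩
          · exact h
          · exact absurd rfl h
        have := hrel (bar j) u hu c c' hsv
        rw [hc'0, zero_mul, add_zero] at this
        exact (mul_eq_zero.1 this).resolve_left hc
      intro l hlj
      obtain ⟨u, hu, c, c', hc, hsv, hc'⟩ := exists_root b hr hlj
      have := hrel l u hu c c' hsv
      have h2 : c' * cm b g j (bar j) = 0 := by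
        rcases hc' with h | ⟨-, h⟩
        · rw [h, zero_mul]
        · rw [hbar h, mul_zero]
      rw [h2, add_zero] at this
      exact (mul_eq_zero.1 this).resolve_left hc
  intro j l h
  exact key _ j rfl l h

/-! ### Basic facts on triangular and diagonal elements -/

theorem isUT_of_mem_U (b : Frame D n k r) {u : ↥(Cfsg.SU n F q)} (hu : u ∈ U b) : IsUT b u :=
  (mem_U.1 hu).1

theorem IsUT.mul (b : Frame D n k r) {g h : ↥(Cfsg.SU n F q)} (hg : IsUT b g) (hh : IsUT b h) :
    IsUT b (g * h) := by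
  intro j l hjl
  rw [cm_mul, Matrix.mul_apply]
  apply Finset.sum_eq_zero
  intro a _
  by_cases hk : rk a < rk j
  · rw [hg j a hk, zero_mul]
  · have : rk l < rk a := lt_of_lt_of_le hjl (not_lt.1 hk)
    rw [hh a l this, mul_zero]

theorem IsDg.ne_zero (b : Frame D n k r) {g : ↥(Cfsg.SU n F q)} {a : Ix k r} {d : F}
    (h : sv g (fv b a) = d • fv b a) : d ≠ 0 := by
  rintro rfl
  rw [zero_smul] at h
  exact fv_ne_zero b a ((sv_eq_zero_iff g).1 h)

theorem sv_inv_of_smul {g : ↥(Cfsg.SU n F q)} {x : Fin n → F} {d : F} (hd : d ≠ 0)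
    (h : sv g x = d • x) : sv g⁻¹ x = d⁻¹ • x := by
  have h1 : sv g⁻¹ (sv g x) = x := sv_inv_sv g x
  rw [h, sv_smul] at h1
  calc sv g⁻¹ x = d⁻¹ • (d • sv g⁻¹ x) := by rw [smul_smul, inv_mul_cancel₀ hd, one_smul]
    _ = d⁻¹ • x := by rw [h1]

theorem IsDg.inv (b : Frame D n k r) {g : ↥(Cfsg.SU n F q)} (h : IsDg b g) : IsDg b g⁻¹ := by
  intro a
  obtain ⟨d, hd⟩ := h a
  exact ⟨d⁻¹, sv_inv_of_smul (IsDg.ne_zero b hd) hd⟩

theorem IsDg.mul (b : Frame D n k r) {g h : ↥(Cfsg.SU n F q)} (hg : IsDg b g) (hh : IsDg b h) :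
    IsDg b (g * h) := by
  intro a
  obtain ⟨d, hd⟩ := hg a
  obtain ⟨d', hd'⟩ := hh a
  exact ⟨d' * d, by rw [sv_mul, hd', sv_smul, hd, smul_smul]⟩

theorem isDg_one (b : Frame D n k r) : IsDg b (1 : ↥(Cfsg.SU n F q)) :=
  fun a => ⟨1, by rw [sv_one, one_smul]⟩

/-- conjugation by a diagonal element preserves `U` -/
theorem IsDg.conj_mem_U (b : Frame D n k r) {t u : ↥(Cfsg.SU n F q)} (ht : IsDg b t)
    (hu : u ∈ U b) : t * u * t⁻¹ ∈ U b := by
  rw [mem_U_iff_sv]
  intro l
  obtain ⟨d, hd⟩ := ht l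
  have hd0 := IsDg.ne_zero b hd
  have hinv := sv_inv_of_smul hd0 hd
  have hu' := mem_U_iff_sv.1 hu l
  have hco : ∀ j, co b (sv (t * u * t⁻¹) (fv b l)) j =
      d⁻¹ * ∑ c, cm b t j c * co b (sv u (fv b l)) c := by
    intro j
    rw [sv_mul, sv_mul, hinv, sv_smul, sv_smul, co_smul, co_sv]
  have hcmt : ∀ j c, cm b t j c = if j = c then cm b t c c else 0 := by
    intro j c
    obtain ⟨d', hd'⟩ := ht c
    rw [cm_apply, cm_apply, hd', co_smul, co_smul, co_fv]
    by_cases hjc : j = c
    · rw [if_pos hjc, if_pos hjc, co_fv_self]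
    · rw [if_neg hjc, if_neg hjc, mul_zero]
  have hsum : ∀ j, ∑ c, cm b t j c * co b (sv u (fv b l)) c =
      cm b t j j * co b (sv u (fv b l)) j := by
    intro j
    rw [Finset.sum_eq_single j]
    · intro c _ hc
      rw [hcmt j c, if_neg (Ne.symm hc), zero_mul]
    · intro h; exact absurd (Finset.mem_univ j) h
  refine ⟨fun j hj => ?_, ?_⟩
  · rw [hco, hsum, hu'.1 j hj, mul_zero, mul_zero]
  · rw [hco, hsum, hu'.2, mul_one]
    have : cm b t l l = d := by
      rw [cm_apply, hd, co_smul, co_fv_self, mul_one]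
    rw [this, inv_mul_cancel₀ hd0]

/-- a diagonal element of `U` is trivial -/
theorem eq_one_of_isDg_of_mem_U (b : Frame D n k r) {t : ↥(Cfsg.SU n F q)} (ht : IsDg b t)
    (hu : t ∈ U b) : t = 1 := by
  apply ext_fv b
  intro a
  obtain ⟨d, hd⟩ := ht a
  have h1 := (mem_U_iff_sv.1 hu a).2
  rw [hd, co_smul, co_fv_self, mul_one] at h1
  rw [hd, h1, one_smul, sv_one]

/-- a diagonal element of `p`-power order is trivial -/
theorem eq_one_of_isDg_of_pow (b : Frame D n k r) (p : ℕ) [Fact p.Prime] [CharP F p]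
    {t : ↥(Cfsg.SU n F q)} (ht : IsDg b t) {m : ℕ} (hm : t ^ p ^ m = 1) : t = 1 := by
  apply ext_fv b
  intro a
  obtain ⟨d, hd⟩ := ht a
  have hpow : ∀ N : ℕ, sv (t ^ N) (fv b a) = d ^ N • fv b a := by
    intro N
    induction N with
    | zero => simp
    | succ N ih => rw [pow_succ, sv_mul, hd, sv_smul, ih, smul_smul, pow_succ, mul_comm]
  have h1 := hpow (p ^ m)
  rw [hm, sv_one] at h1
  have h2 : d ^ p ^ m = 1 := by
    have h3 := congrArg (fun x => co b x a) h1
    simp only [co_smul, co_fv_self, mul_one] at h3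
    exact h3.symm
  rw [hd, eq_one_of_pow_p p h2, one_smul, sv_one]

end Cfsg.Agent.Lib.H25.PSU
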