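import Mathlib
import Cfsg.Agent.Lib.H25.PSUC

set_option autoImplicit false
set_option linter.unusedSectionVars false

/-!
# Triangular decomposition, generation of `U`, and the Sylow property (helper25)
-/

namespace Cfsg.Agent.Lib.H25.PSU

open Matrix Cfsg.Agent.Lib.H13.AutPSU

variable {F : Type*} [Field F] [Fintype F] {n q : ℕ} {D : UF F q} {k r : ℕ}

/-- the generators of `U`: Eichler transformations centred at some `e_i` lying in `U` -/
def GenEL (b : Frame D n k r) : Set ↥(Cfsg.SU n F q) :=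
  {x | x ∈ U b ∧ ∃ (i : Fin k) (w : Fin n → F) (β : F),
      ELOK D (b.e i) w β ∧ x = EL D (b.e i) w β}

theorem closure_GenEL_le_U (b : Frame D n k r) : Subgroup.closure (GenEL b) ≤ U b := by
  rw [Subgroup.closure_le]
  intro x hx
  exact hx.1

/-- diagonal on `e_i, f_i` for `i < k'` -/
def DgTo (b : Frame D n k r) (k' : ℕ) (s : ↥(Cfsg.SU n F q)) : Prop :=
  ∀ i : Fin k, i.val < k' → (∃ d : F, sv s (b.e i) = d • b.e i) ∧
    (∃ d : F, sv s (b.f i) = d • b.f i)

theorem H_eigen_left {g : ↥(Cfsg.SU n F q)} {x : Fin n → F} {c : F} (hc : c ≠ 0)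
    (hx : sv g x = c • x) (y : Fin n → F) : H D x (sv g y) = c⁻¹ * H D x y := by
  have h1 : x = c⁻¹ • sv g x := by rw [hx, smul_smul, inv_mul_cancel₀ hc, one_smul]
  conv_lhs => rw [h1]
  rw [H_smul_left, H_sv]

theorem H_eigen_right {g : ↥(Cfsg.SU n F q)} {x : Fin n → F} {c : F} (hc : c ≠ 0)
    (hx : sv g x = c • x) (y : Fin n → F) : H D (sv g y) x = D.τ c⁻¹ * H D y x := by
  have h1 : x = c⁻¹ • sv g x := by rw [hx, smul_smul, inv_mul_cancel₀ hc, one_smul]
  conv_lhs => rw [h1]
  rw [H_smul_right, H_sv]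

theorem sv_inv_of_sv {s : ↥(Cfsg.SU n F q)} {x : Fin n → F} (h : sv s x = x) : sv s⁻¹ x = x := by
  conv_lhs => rw [← h]
  rw [sv_inv_sv]

theorem eigen_ne_zero {g : ↥(Cfsg.SU n F q)} {x : Fin n → F} {c : F} (hx0 : x ≠ 0)
    (hx : sv g x = c • x) : c ≠ 0 := by
  rintro rfl
  rw [zero_smul] at hx
  exact hx0 ((sv_eq_zero_iff g).1 hx)

/-- the Eichler transformation moving `f` to `v` -/
theorem EL_reg {e f v : Fin n → F} (hee : H D e e = 0) (hff : H D f f = 0) (hfe : H D f e = 1)
    (hve : H D v e = 1) (hvv : H D v v = 0) :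
    ELOK D e (v - f) (H D f v) ∧ sv (EL D e (v - f) (H D f v)) f = v := by
  have hok : ELOK D e (v - f) (H D f v) := by
    refine ⟨hee, by rw [H_sub_left, hve, hfe, sub_self], ?_⟩
    simp only [H_sub_left, H_sub_right, hvv, hff, H_symm]
    ring
  refine ⟨hok, ?_⟩
  rw [sv_EL D hok, hfe, H_sub_right, hff]
  module

/-- peeling off Eichler transformations from an upper triangular element -/
theorem upper_decomp_aux (b : Frame D n k r) (hr : r ≤ 1) :
    ∀ d k' : ℕ, k - k' = d → ∀ g : ↥(Cfsg.SU n F q), IsUT b g → DgTo b k' g →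
      ∃ u ∈ Subgroup.closure (GenEL b), IsDg b (u⁻¹ * g) := by
  intro d
  induction d with
  | zero =>
    intro k' hk g hg hdg
    refine ⟨1, Subgroup.one_mem _, ?_⟩
    rw [inv_one, one_mul]
    intro a
    rcases a with i | j | i
    · exact (hdg i (by have := i.2; omega)).1
    · refine ⟨co b (sv g (b.w j)) (Sum.inr (Sum.inl j)), ?_⟩
      show sv g (b.w j) = _ • b.w j
      apply ext_co b
      intro a
      rw [co_smul]
      rcases a with i | j' | i
      · obtain ⟨c, hc⟩ := (hdg i (by have := i.2; omega)).2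
        have hc0 := eigen_ne_zero (b.f_ne_zero i) hc
        have h1 : co b (sv g (b.w j)) (Sum.inl i) = 0 := by
          show H D (sv g (b.w j)) (b.f i) = 0
          rw [H_eigen_right hc0 hc, b.wf, mul_zero]
        have h2 : co b (b.w j) (Sum.inl i) = 0 := b.wf j i
        rw [h1, h2, mul_zero]
      · have hjj : j' = j := by
          apply Fin.ext
          have := j.2
          have := j'.2
          omega
        subst hjj
        have h2 : co b (b.w j') (Sum.inr (Sum.inl j')) = 1 := co_fv_self b (Sum.inr (Sum.inl j'))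
        rw [h2, mul_one]
      · obtain ⟨c, hc⟩ := (hdg i (by have := i.2; omega)).1
        have hc0 := eigen_ne_zero (b.e_ne_zero i) hc
        have h1 : co b (sv g (b.w j)) (Sum.inr (Sum.inr i)) = 0 := by
          show H D (sv g (b.w j)) (b.e i) = 0
          rw [H_eigen_right hc0 hc, b.we, mul_zero]
        have h2 : co b (b.w j) (Sum.inr (Sum.inr i)) = 0 := b.we j i
        rw [h1, h2, mul_zero]
    · exact (hdg i (by have := i.2; omega)).2
  | succ d ih =>
    intro k' hk g hg hdg
    have hk'k : k' < k := by omega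
    set i : Fin k := ⟨k', hk'k⟩ with hi
    have hiv : i.val = k' := rfl
    set e : Fin n → F := fv b (Sum.inl i) with he
    set f : Fin n → F := fv b (Sum.inr (Sum.inr i)) with hf
    have hee : H D e e = 0 := b.ee i i
    have hff : H D f f = 0 := b.ff i i
    have hfe : H D f e = 1 := by
      show H D (b.f i) (b.e i) = 1
      rw [b.fe, if_pos rfl]
    -- `g e = δ e`
    set δ := cm b g (Sum.inl i) (Sum.inl i) with hδ
    have hge : sv g e = δ • e := by
      apply ext_co b
      intro a
      rw [co_smul]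
      by_cases ha : a = Sum.inl i
      · rw [ha, he, co_fv_self, mul_one]
        rfl
      · rw [he, co_fv_ne b ha, mul_zero]
        rcases lt_or_gt_of_ne (fun h' => ha (rk_injective h') : rk a ≠ rk (Sum.inl i : Ix k r))
          with h | h
        · -- `a` is an earlier `e`
          rcases a with i'' | j | i''
          · simp only [rk_e] at h
            obtain ⟨c, hc⟩ := (hdg i'' (by omega)).2
            have hc0 := eigen_ne_zero (b.f_ne_zero i'') hc
            show H D (sv g (b.e i)) (b.f i'') = 0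
            rw [H_eigen_right hc0 hc, b.ef, if_neg, mul_zero]
            intro h'
            rw [h'] at hiv
            omega
          · exfalso
            simp only [rk_e, rk_w] at h
            omega
          · exfalso
            simp only [rk_e, rk_f] at h
            omega
        · exact hg a (Sum.inl i) h
    have he0 : e ≠ 0 := fv_ne_zero b _
    have hδ0 : δ ≠ 0 := eigen_ne_zero he0 hge
    -- the image of `f`
    set δ' := cm b g (Sum.inr (Sum.inr i)) (Sum.inr (Sum.inr i)) with hδ'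
    have hδ'e : H D (sv g f) e = δ' := rfl
    have hδδ' : D.τ δ * δ' = 1 := by
      have h1 : H D (sv g f) (sv g e) = 1 := by rw [H_sv, hfe]
      rw [hge, H_smul_right, hδ'e] at h1
      exact h1
    have hδ'0 : δ' ≠ 0 := right_ne_zero_of_mul_eq_one hδδ'
    set v : Fin n → F := δ'⁻¹ • sv g f with hv
    have hve : H D v e = 1 := by
      rw [hv, H_smul_left, hδ'e, inv_mul_cancel₀ hδ'0]
    have hvv : H D v v = 0 := by
      rw [hv, H_smul_left, H_smul_right, H_sv, hff, mul_zero, mul_zero]
    obtain ⟨hok, hqf⟩ := EL_reg hee hff hfe hve hvv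
    set w : Fin n → F := v - f with hw
    set β : F := H D f v with hβ
    set qq := EL D e w β with hqq
    have hqe : sv qq e = e := by
      rw [hqq, sv_EL D hok, hee, H_eq_zero_symm D hok.2.1]
      simp
    -- `qq ∈ U`
    have hwsupp : ∀ a, co b w a ≠ 0 → rk a ≤ 2 * k + r - 2 - k' := by
      intro a ha
      by_contra hcon
      apply ha
      have h1 : rk (Sum.inr (Sum.inr i) : Ix k r) ≤ rk a := by
        simp only [rk_f, hiv]
        omega
      rw [hw, co_sub, hv, co_smul]
      rcases lt_or_eq_of_le h1 with h2 | h2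
      · have h3 : co b (sv g f) a = 0 := hg a _ h2
        rw [h3, mul_zero, hf, co_fv_ne, sub_zero]
        rintro rfl
        exact lt_irrefl _ h2
      · have : a = Sum.inr (Sum.inr i) := (rk_injective h2).symm
        rw [this, hf, co_fv_self]
        have h3 : co b (sv g (fv b (Sum.inr (Sum.inr i)))) (Sum.inr (Sum.inr i)) = δ' := rfl
        rw [h3, inv_mul_cancel₀ hδ'0, sub_self]
    have hqU : qq ∈ U b := by
      apply EL_mem_U b hr hok k' (2 * k + r - 2 - k') _ hwsupp (by omega) (Or.inr (by omega))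
      intro a ha
      have := fv_supp b (Sum.inl i) a ha
      simpa using this
    have hqG : qq ∈ GenEL b := ⟨hqU, i, w, β, hok, rfl⟩
    -- `qq` fixes the earlier frame vectors
    have hqfix : ∀ (x : Fin n → F) (c : F), c ≠ 0 → sv g x = c • x → H D x e = 0 →
        H D x f = 0 → sv qq x = x := by
      intro x c hc hx hxe hxf
      have hxw : H D x w = 0 := by
        rw [hw, H_sub_right, hxf, sub_zero, hv, H_smul_right, H_eigen_left hc hx, hxf,
          mul_zero, mul_zero]
      rw [hqq, sv_EL D hok, hxe, hxw]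
      simp
    -- the quotient
    set y := qq⁻¹ * g with hy
    have hyUT : IsUT b y :=
      IsUT.mul b (isUT_of_mem_U b (Subgroup.inv_mem _ hqU)) hg
    have hyDg : DgTo b (k' + 1) y := by
      intro i'' hi''
      rcases Nat.lt_succ_iff_lt_or_eq.1 hi'' with h | h
      · have hne : i'' ≠ i := by
          intro h2
          rw [h2] at h
          omega
        obtain ⟨⟨c1, h1⟩, ⟨c2, h2⟩⟩ := hdg i'' h
        have hc1 := eigen_ne_zero (b.e_ne_zero i'') h1
        have hc2 := eigen_ne_zero (b.f_ne_zero i'') h2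
        constructor
        · refine ⟨c1, ?_⟩
          rw [hy, sv_mul, h1, sv_smul]
          congr 1
          apply sv_inv_of_sv
          apply hqfix _ c1 hc1 h1
          · exact b.ee i'' i
          · show H D (b.e i'') (b.f i) = 0
            rw [b.ef, if_neg hne]
        · refine ⟨c2, ?_⟩
          rw [hy, sv_mul, h2, sv_smul]
          congr 1
          apply sv_inv_of_sv
          apply hqfix _ c2 hc2 h2
          · show H D (b.f i'') (b.e i) = 0
            rw [b.fe, if_neg hne]
          · exact b.ff i'' i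
      · have : i'' = i := Fin.ext h
        rw [this]
        constructor
        · refine ⟨δ, ?_⟩
          show sv y e = δ • e
          rw [hy, sv_mul, hge, sv_smul, sv_inv_of_sv hqe]
        · refine ⟨δ', ?_⟩
          show sv y f = δ' • f
          have h3 : sv g f = δ' • v := by
            rw [hv, smul_smul, mul_inv_cancel₀ hδ'0, one_smul]
          rw [hy, sv_mul, h3, sv_smul, ← hqf, sv_inv_sv]
    obtain ⟨u', hu', hdg'⟩ := ih (k' + 1) (by omega) y hyUT hyDg
    refine ⟨qq * u', Subgroup.mul_mem _ (Subgroup.subset_closure hqG) hu', ?_⟩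
    have : (qq * u')⁻¹ * g = u'⁻¹ * y := by rw [hy]; group
    rw [this]
    exact hdg'

/-- An upper triangular element is a product of an element of `U` and a diagonal element. -/
theorem upper_decomp (b : Frame D n k r) (hr : r ≤ 1) (g : ↥(Cfsg.SU n F q)) (hg : IsUT b g) :
    ∃ u ∈ Subgroup.closure (GenEL b), IsDg b (u⁻¹ * g) :=
  upper_decomp_aux b hr _ 0 rfl g hg (fun i hi => absurd hi (Nat.not_lt_zero _))

/-- `U` is generated by Eichler transformations -/
theorem U_le_closure_GenEL (b : Frame D n k r) (hr : r ≤ 1) :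
    U b ≤ Subgroup.closure (GenEL b) := by
  intro s hs
  obtain ⟨u, hu, hdg⟩ := upper_decomp b hr s (isUT_of_mem_U b hs)
  have h1 : u⁻¹ * s ∈ U b :=
    Subgroup.mul_mem _ (Subgroup.inv_mem _ (closure_GenEL_le_U b hu)) hs
  have h2 := eq_one_of_isDg_of_mem_U b hdg h1
  have : s = u := by
    calc s = u * (u⁻¹ * s) := by group
      _ = u := by rw [h2, mul_one]
  rw [this]
  exact hu

/-- the normalizer of `U` is `U T` -/
theorem normalizer_U_decomp (b : Frame D n k r) (hr : r ≤ 1) (g : ↥(Cfsg.SU n F q))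
    (hg : ∀ u ∈ U b, g * u * g⁻¹ ∈ U b) :
    ∃ u ∈ U b, ∃ t : ↥(Cfsg.SU n F q), IsDg b t ∧ g = u * t := by
  obtain ⟨u, hu, hdg⟩ := upper_decomp b hr g (upper_of_conj_U b hr g hg)
  exact ⟨u, closure_GenEL_le_U b hu, u⁻¹ * g, hdg, by group⟩

section sylow

variable (p : ℕ) [Fact p.Prime] [CharP F p]

/-- `U` is a maximal `p`-subgroup -/
theorem eq_U_of_isPGroup (b : Frame D n k r) (hr : r ≤ 1) (hk : 1 ≤ k)
    {Q : Subgroup ↥(Cfsg.SU n F q)} (hQ : IsPGroup p Q)
    (hUQ : U b ≤ Q) : Q = U b := by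
  apply le_antisymm _ hUQ
  have hnil : Group.IsNilpotent Q := hQ.isNilpotent
  have hNC := Group.normalizerCondition_of_isNilpotent (G := Q)
  by_contra hle
  have hlt : (U b).subgroupOf Q < ⊤ := by
    rw [lt_top_iff_ne_top]
    intro h
    apply hle
    rw [Subgroup.subgroupOf_eq_top] at h
    exact h
  have h2 := hNC _ hlt
  obtain ⟨x, hxN, hxU⟩ := SetLike.exists_of_lt h2
  have hconj : ∀ u ∈ U b, (x : ↥(Cfsg.SU n F q)) * u * (x : ↥(Cfsg.SU n F q))⁻¹ ∈ U b := by
    intro u hu
    have h3 := (Subgroup.mem_normalizer_iff.1 hxN ⟨u, hUQ hu⟩).1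
      (Subgroup.mem_subgroupOf.2 hu)
    exact Subgroup.mem_subgroupOf.1 h3
  obtain ⟨u₀, hu₀, t, ht, hx⟩ := normalizer_U_decomp b hr (x : ↥(Cfsg.SU n F q)) hconj
  have htQ : t ∈ Q := by
    have : t = u₀⁻¹ * (x : ↥(Cfsg.SU n F q)) := by rw [hx]; group
    rw [this]
    exact Q.mul_mem (Q.inv_mem (hUQ hu₀)) x.2
  obtain ⟨m, hm⟩ := hQ ⟨t, htQ⟩
  have hm' : t ^ p ^ m = 1 := by
    have := congrArg (fun y : Q => (y : ↥(Cfsg.SU n F q))) hm
    simpa using this
  have h1 := eq_one_of_isDg_of_pow b p ht hm'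
  rw [h1, mul_one] at hx
  apply hxU
  rw [Subgroup.mem_subgroupOf, hx]
  exact hu₀

/-- the standard Sylow `p`-subgroup of `SU` -/
noncomputable def sylSU (b : Frame D n k r) (hr : r ≤ 1) (hk : 1 ≤ k) :
    Sylow p ↥(Cfsg.SU n F q) where
  toSubgroup := U b
  isPGroup' := isPGroup_U b p hk
  is_maximal' := fun hQ hUQ => eq_U_of_isPGroup p b hr hk hQ hUQ

/-- the image of `U` in `PSU` -/
def Ubar (b : Frame D n k r) : Subgroup (Cfsg.PSU n F q) := (U b).map pr

instance finite_PSU : Finite (Cfsg.PSU n F q) :=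
  Finite.of_surjective _ (pr_surjective (n := n) (F := F) (q := q))

/-- the standard Sylow `p`-subgroup of `PSU` -/
noncomputable def sylPSU (b : Frame D n k r) (hr : r ≤ 1) (hk : 1 ≤ k) :
    Sylow p (Cfsg.PSU n F q) :=
  (sylSU p b hr hk).mapSurjective (pr_surjective (n := n) (F := F) (q := q))

theorem coe_sylPSU (b : Frame D n k r) (hr : r ≤ 1) (hk : 1 ≤ k) :
    ((sylPSU p b hr hk : Sylow p (Cfsg.PSU n F q)) : Subgroup (Cfsg.PSU n F q)) = Ubar b :=
  Sylow.coe_mapSurjective _ _

/-- every Sylow `p`-subgroup of `PSU` is conjugate to `Ubar` -/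
theorem exists_conj_Ubar (b : Frame D n k r) (hr : r ≤ 1) (hk : 1 ≤ k)
    (P : Sylow p (Cfsg.PSU n F q)) :
    ∃ g : Cfsg.PSU n F q, ∀ x, x ∈ P ↔ g⁻¹ * x * g ∈ Ubar b := by
  obtain ⟨g, hg⟩ := MulAction.exists_smul_eq (Cfsg.PSU n F q) (sylPSU p b hr hk) P
  refine ⟨g, fun x => ?_⟩
  rw [← hg, ← coe_sylPSU p b hr hk]
  change x ∈ Sylow.toSubgroup (g • sylPSU p b hr hk) ↔ _
  rw [Sylow.coe_subgroup_smul,
    Subgroup.mem_pointwise_smul_iff_inv_smul_mem, ← map_inv, MulAut.smul_def, MulAut.conj_apply,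
    inv_inv]

end sylow

end Cfsg.Agent.Lib.H25.PSU
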