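import Mathlib
import Cfsg.Agent.Lib.H25.PSUD
import Cfsg.Agent.Lib.H1.NilpotentBasic

set_option autoImplicit false
set_option linter.unusedSectionVars false

/-!
# Strongly closed subgroups of `U ≤ SU_n(q)`: transvections (helper25)
-/

namespace Cfsg.Agent.Lib.H25.PSU

open Matrix Cfsg.Agent.Lib.H13.AutPSU

/-! ### `SL_k` is transitive on nonzero vectors -/

section sl

variable {F : Type*} [Field F] {k : ℕ}

theorem exists_SL_col_of_ne {i0 i1 : Fin k} (h01 : i0 ≠ i1) (v : Fin k → F) (hv : v i0 ≠ 0) :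
    ∃ g : SpecialLinearGroup (Fin k) F,
      (g : Matrix (Fin k) (Fin k) F) *ᵥ Pi.single i0 1 = v := by
  set A : Matrix (Fin k) (Fin k) F := (1 : Matrix (Fin k) (Fin k) F).updateCol i0 v with hA
  have hdetA : A.det = v i0 := by
    rw [hA, ← Matrix.cramer_apply, Matrix.cramer_one]
    rfl
  set M : Matrix (Fin k) (Fin k) F := A.updateCol i1 ((v i0)⁻¹ • fun l => A l i1) with hM
  have hdetM : M.det = 1 := by
    rw [hM, Matrix.det_updateCol_smul, Matrix.updateCol_eq_self, hdetA, inv_mul_cancel₀ hv]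
  refine ⟨⟨M, hdetM⟩, ?_⟩
  show M *ᵥ Pi.single i0 1 = v
  rw [Matrix.mulVec_single_one]
  funext l
  show M l i0 = v l
  rw [hM, Matrix.updateCol_ne h01, hA, Matrix.updateCol_self]

theorem exists_SL_col {i0 i1 : Fin k} (h01 : i0 ≠ i1) (v : Fin k → F) (hv : v ≠ 0) :
    ∃ g : SpecialLinearGroup (Fin k) F,
      (g : Matrix (Fin k) (Fin k) F) *ᵥ Pi.single i0 1 = v := by
  by_cases h0 : v i0 = 0
  · obtain ⟨j, hj⟩ : ∃ j, v j ≠ 0 := by
      by_contra hcon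
      push Not at hcon
      exact hv (funext hcon)
    have hj0 : i0 ≠ j := by
      rintro rfl
      exact hj h0
    obtain ⟨g₁, hg₁⟩ := exists_SL_col_of_ne h01 (v + Pi.single i0 1)
      (by rw [Pi.add_apply, h0, zero_add, Pi.single_eq_same]; exact one_ne_zero)
    refine ⟨SpecialLinearGroup.transvection hj0 (-(v j)⁻¹) * g₁, ?_⟩
    have hcoe : ((SpecialLinearGroup.transvection hj0 (-(v j)⁻¹) * g₁ :
        SpecialLinearGroup (Fin k) F) : Matrix (Fin k) (Fin k) F) =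
        Matrix.transvection i0 j (-(v j)⁻¹) * (g₁ : Matrix (Fin k) (Fin k) F) := rfl
    rw [hcoe, ← Matrix.mulVec_mulVec, hg₁]
    rw [Matrix.transvection, Matrix.add_mulVec, Matrix.one_mulVec]
    funext l
    rw [Pi.add_apply, Matrix.single_mulVec]
    simp only [Pi.add_apply, Pi.single_apply, Function.update_apply]
    by_cases hl : l = i0
    · subst hl
      simp only [if_true, if_neg hj0.symm, add_zero]
      field_simp
      ring
    · simp [hl]
  · exact exists_SL_col_of_ne h01 v h0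

end sl

variable {F : Type*} [Field F] [Fintype F] {n q : ℕ} {D : UF F q} {k r : ℕ}

/-- the first index -/
def i0 (hk : 1 ≤ k) : Fin k := ⟨0, hk⟩

/-- the second index -/
def i1 (hk : 2 ≤ k) : Fin k := ⟨1, hk⟩

theorem i0_ne_i1 (hk : 2 ≤ k) : i0 (by omega : 1 ≤ k) ≠ i1 hk := by
  intro h
  have := congrArg Fin.val h
  simp [i0, i1] at this

/-! ### Vectors in `E` -/

theorem inE_supp (b : Frame D n k r) {x : Fin n → F} (hx : b.InE x) :
    ∀ j, co b x j ≠ 0 → rk j ≤ k - 1 := by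
  obtain ⟨a, rfl⟩ := hx
  intro j hj
  rcases j with i | j | i
  · have := i.2
    simp only [rk_e]
    omega
  · exfalso
    apply hj
    exact b.H_Be_w a j
  · exfalso
    apply hj
    exact b.H_Be_e a i

theorem inE_e (b : Frame D n k r) (i : Fin k) : b.InE (b.e i) :=
  ⟨Pi.single i 1, (b.Be_single i).symm⟩

theorem inE_add (b : Frame D n k r) {x y : Fin n → F} (hx : b.InE x) (hy : b.InE y) :
    b.InE (x + y) := by
  obtain ⟨a, rfl⟩ := hx
  obtain ⟨a', rfl⟩ := hy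
  exact ⟨a + a', (mulVec_add _ _ _).symm⟩

theorem H_inE (b : Frame D n k r) {x y : Fin n → F} (hx : b.InE x) (hy : b.InE y) :
    H D x y = 0 := by
  obtain ⟨a, rfl⟩ := hx
  obtain ⟨a', rfl⟩ := hy
  exact b.H_Be_Be a a'

theorem sv_Lam_e_single (b : Frame D n k r) (γ : SpecialLinearGroup (Fin k) F) (i : Fin k) :
    sv (Lam b γ) (b.e i) = b.Be *ᵥ ((γ : Matrix (Fin k) (Fin k) F) *ᵥ Pi.single i 1) := by
  rw [← b.Be_single i, sv_Lam_e]

/-- every nonzero vector of `E` is the image of `e₀` under a Levi element -/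
theorem exists_Lam_e0 (b : Frame D n k r) (hk : 2 ≤ k) {x : Fin n → F} (hx : b.InE x)
    (hx0 : x ≠ 0) : ∃ γ : SpecialLinearGroup (Fin k) F,
      sv (Lam b γ) (b.e (i0 (by omega : 1 ≤ k))) = x := by
  obtain ⟨a, rfl⟩ := hx
  have ha : a ≠ 0 := by
    rintro rfl
    exact hx0 (mulVec_zero _)
  obtain ⟨γ, hγ⟩ := exists_SL_col (i0_ne_i1 hk) a ha
  exact ⟨γ, by rw [sv_Lam_e_single, hγ]⟩

/-! ### `Q_{e₀} ≤ U` -/

theorem Qg_e0_le_U (b : Frame D n k r) (hr : r ≤ 1) (hk : 1 ≤ k) :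
    Qg D (b.e (i0 hk)) ≤ U b := by
  intro s hs
  obtain ⟨w, β, hok, rfl⟩ := (mem_Qg D (b.ee _ _)).1 hs
  have hw : ∀ j, co b w j ≠ 0 → rk j ≤ 2 * k + r - 2 := by
    intro j hj
    by_contra hcon
    apply hj
    have h1 := rk_lt j
    have h2 : rk j = rk (Sum.inr (Sum.inr (i0 hk)) : Ix k r) := by
      simp only [rk_f, i0]
      omega
    rw [rk_injective h2]
    exact hok.2.1
  have he : ∀ j, co b (b.e (i0 hk)) j ≠ 0 → rk j ≤ 0 := by
    intro j hj
    have := fv_supp b (Sum.inl (i0 hk)) j hj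
    simpa [i0] using this
  exact EL_mem_U b hr hok 0 (2 * k + r - 2) he hw (by omega) (Or.inr (by omega))

/-- central elements of `U` are transvections with centre `e₀` -/
theorem central_mem_Tg (b : Frame D n k r) (hr : r ≤ 1) (hk : 1 ≤ k) {z : ↥(Cfsg.SU n F q)}
    (hz : z ∈ U b) (hc : ∀ s ∈ U b, s * z = z * s) : z ∈ Tg D (b.e (i0 hk)) := by
  apply mem_Tg_of_comm D (b.e_ne_zero _) (b.ee _ _) (sv_e_of_mem_U b hz _ rfl)
  intro g hg
  exact (hc g (Qg_e0_le_U b hr hk hg)).symm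

/-! ### Strongly closed subgroups -/

section sc

variable {b : Frame D n k r} {T : Subgroup ↥(Cfsg.SU n F q)}

/-- the standing hypothesis: `T` is strongly closed in `U` with respect to `SU` -/
def SC (b : Frame D n k r) (T : Subgroup ↥(Cfsg.SU n F q)) : Prop :=
  T ≤ U b ∧ ∀ x ∈ T, ∀ g : ↥(Cfsg.SU n F q), g * x * g⁻¹ ∈ U b → g * x * g⁻¹ ∈ T

theorem SC.conj_mem (hT : SC b T) {x u : ↥(Cfsg.SU n F q)} (hx : x ∈ T) (hu : u ∈ U b) :
    u * x * u⁻¹ ∈ T :=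
  hT.2 x hx u (Subgroup.mul_mem _ (Subgroup.mul_mem _ hu (hT.1 hx)) (Subgroup.inv_mem _ hu))

/-- a nontrivial strongly closed subgroup contains a nontrivial transvection with centre `e₀` -/
theorem exists_tr_mem (p : ℕ) [Fact p.Prime] [CharP F p] (hT : SC b T) (hr : r ≤ 1) (hk : 1 ≤ k)
    (hne : T ≠ ⊥) : ∃ a : F, Skew D a ∧ a ≠ 0 ∧ EL D (b.e (i0 hk)) 0 a ∈ T := by
  have hpU : IsPGroup p (U b) := isPGroup_U b p hk
  have : Group.IsNilpotent (U b) := hpU.isNilpotent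
  have hN : (T.subgroupOf (U b)).Normal := by
    constructor
    intro x hx s
    rw [Subgroup.mem_subgroupOf] at hx ⊢
    have h1 : ((s * x * s⁻¹ : (U b)) : ↥(Cfsg.SU n F q)) =
        (s : ↥(Cfsg.SU n F q)) * (x : ↥(Cfsg.SU n F q)) * (s : ↥(Cfsg.SU n F q))⁻¹ := by simp
    rw [h1]
    exact hT.conj_mem hx s.2
  have hNne : T.subgroupOf (U b) ≠ ⊥ := by
    intro h
    apply hne
    rw [Subgroup.subgroupOf_eq_bot] at h
    rwa [disjoint_iff, inf_of_le_left hT.1] at h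
  have hcz := Cfsg.Agent.Lib.H1.normal_inf_center_ne_bot _ hNne
  obtain ⟨⟨z, hzmem⟩, hz1'⟩ := (Subgroup.ne_bot_iff_exists_ne_one).1 hcz
  have hz1 : (z : ↥(Cfsg.SU n F q)) ≠ 1 := fun h => hz1' (Subtype.ext (Subtype.ext h))
  have hzT : (z : ↥(Cfsg.SU n F q)) ∈ T := (Subgroup.mem_inf.1 hzmem).1
  have hzc := (Subgroup.mem_inf.1 hzmem).2
  have hcen : ∀ s ∈ U b, s * (z : ↥(Cfsg.SU n F q)) = (z : ↥(Cfsg.SU n F q)) * s := by
    intro s hs
    have := Subgroup.mem_center_iff.1 hzc ⟨s, hs⟩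
    have h2 := congrArg (fun t : (U b) => (t : ↥(Cfsg.SU n F q))) this
    simpa using h2
  have hTg := central_mem_Tg b hr hk z.2 hcen
  obtain ⟨a, ha, hza⟩ := (mem_Tg D (b.ee _ _)).1 hTg
  refine ⟨a, ha, ?_, ?_⟩
  · rintro rfl
    apply hz1
    rw [hza, EL_zero D (b.ee _ _)]
  · rw [← hza]
    exact hzT

/-- all transvections with centre `e₀` lie in `T` -/
theorem tr_e0_mem (hT : SC b T) (hr : r ≤ 1) (hk : 2 ≤ k) {a : F} (ha : Skew D a) (ha0 : a ≠ 0)
    (h : EL D (b.e (i0 (by omega : 1 ≤ k))) 0 a ∈ T) {a' : F} (ha' : Skew D a') :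
    EL D (b.e (i0 (by omega : 1 ≤ k))) 0 a' ∈ T := by
  have hk1 : 1 ≤ k := by omega
  set e₀ := b.e (i0 hk1) with he₀
  have hee : H D e₀ e₀ = 0 := b.ee _ _
  by_cases h0 : a' = 0
  · rw [h0, EL_zero D hee]
    exact T.one_mem
  have hfix : D.τ (a' / a) = a' / a := fixed_div_skew D ha' ha
  obtain ⟨c, hc⟩ := D.nm_surj (a' / a) hfix (div_ne_zero h0 ha0)
  have hc0 : c ≠ 0 := by
    rintro rfl
    rw [zero_mul] at hc
    exact div_ne_zero h0 ha0 hc.symm
  have hce : b.InE (c • e₀) := by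
    obtain ⟨x, hx⟩ := inE_e b (i0 hk1)
    exact ⟨c • x, by rw [he₀, hx, mulVec_smul]⟩
  obtain ⟨γ, hγ⟩ := exists_Lam_e0 b hk hce (smul_ne_zero hc0 (b.e_ne_zero _))
  have h1 : Lam b γ * EL D e₀ 0 a * (Lam b γ)⁻¹ = EL D e₀ 0 a' := by
    rw [EL_conj D ((ELOK_zero_iff D).2 ⟨hee, ha⟩), hγ, sv_zero, tr_smul hee ha hc0, hc]
    congr 1
    field_simp
  rw [← h1]
  apply hT.2 _ h
  rw [h1]
  exact Qg_e0_le_U b hr hk1 (Tg_le_Qg D _ ((mem_Tg D hee).2 ⟨a', ha', rfl⟩))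

/-- all transvections with centre in `E` lie in `T` -/
theorem tr_inE_mem (hT : SC b T) (hr : r ≤ 1) (hk : 2 ≤ k)
    (h : ∀ a', Skew D a' → EL D (b.e (i0 (by omega : 1 ≤ k))) 0 a' ∈ T)
    {x : Fin n → F} (hx : b.InE x) {a : F} (ha : Skew D a) : EL D x 0 a ∈ T := by
  have hk1 : 1 ≤ k := by omega
  have hee : H D (b.e (i0 hk1)) (b.e (i0 hk1)) = 0 := b.ee _ _
  have hxx : H D x x = 0 := H_inE b hx hx
  by_cases hx0 : x = 0
  · have : EL D x 0 a = 1 := by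
      apply ext_sv
      intro y
      rw [sv_tr D hxx ha, hx0, smul_zero, add_zero, sv_one]
    rw [this]
    exact T.one_mem
  obtain ⟨γ, hγ⟩ := exists_Lam_e0 b hk hx hx0
  have h1 : Lam b γ * EL D (b.e (i0 hk1)) 0 a * (Lam b γ)⁻¹ = EL D x 0 a := by
    rw [EL_conj D ((ELOK_zero_iff D).2 ⟨hee, ha⟩), hγ, sv_zero]
  rw [← h1]
  apply hT.2 _ (h a ha)
  rw [h1]
  apply tr_mem_U b hr hxx ha (k - 1) (inE_supp b hx)
  omega

end sc

end Cfsg.Agent.Lib.H25.PSU
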