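import Mathlib
import Cfsg.Agent.Lib.H25.PSUE
import Cfsg.Prelude.Def_TwoFusion

set_option autoImplicit false
set_option linter.unusedSectionVars false

/-!
# Strongly closed subgroups of the Sylow `p`-subgroup of `PSU_n(q)` (helper25)
-/

namespace Cfsg.Agent.Lib.H25.PSU

open Matrix Cfsg.Agent.Lib.H13.AutPSU

variable {F : Type*} [Field F] [Fintype F] {n q : ℕ} {D : UF F q} {k r : ℕ}

/-! ### Identities for Eichler transformations -/

theorem skew_of_ELOK {e w : Fin n → F} {β₁ β₂ : F} (h₁ : ELOK D e w β₁) (h₂ : ELOK D e w β₂) :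
    Skew D (β₂ - β₁) := by
  unfold Skew
  rw [map_sub]
  linear_combination h₂.2.2 - h₁.2.2

theorem EL_adjust {e w : Fin n → F} {β₁ β₂ : F} (h₁ : ELOK D e w β₁) (h₂ : ELOK D e w β₂) :
    EL D e w β₂ = EL D e w β₁ * EL D e 0 (β₂ - β₁) := by
  have hs := skew_of_ELOK h₁ h₂
  rw [EL_mul D h₁ ((ELOK_zero_iff D).2 ⟨h₁.1, hs⟩), add_zero, H_zero_left]
  congr 1
  ring

/-- an Eichler transformation with isotropic `w` is a product of three transvections -/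
theorem EL_three_tr {e w : Fin n → F} {a β : F} (hee : H D e e = 0) (hww : H D w w = 0)
    (hwe : H D w e = 0) (ha : Skew D a) (ha0 : a ≠ 0) (hβ : Skew D β) :
    EL D e w β = EL D (e + a⁻¹ • w) 0 a * EL D e 0 (β - a) * EL D w 0 a⁻¹ := by
  have hew : H D e w = 0 := H_eq_zero_symm D hwe
  have hai : Skew D a⁻¹ := skew_inv ha
  have hτai : D.τ a⁻¹ = -a⁻¹ := hai
  have huu : H D (e + a⁻¹ • w) (e + a⁻¹ • w) = 0 := by
    simp only [H_add_left, H_add_right, H_smul_left, H_smul_right, hee, hww, hwe, hew]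
    ring
  have hβa : Skew D (β - a) := by
    unfold Skew at *
    rw [map_sub, hβ, ha]
    ring
  have hok : ELOK D e w β := ⟨hee, hwe, by rw [hww, hβ]; ring⟩
  apply ext_sv
  intro x
  rw [sv_mul, sv_mul, sv_tr D hww hai, sv_tr D hee hβa, sv_tr D huu ha, sv_EL D hok]
  simp only [H_add_left, H_add_right, H_smul_left, H_smul_right, hee, hww, hwe, hew, hτai]
  match_scalars <;> field_simp <;> ring

section sc

variable {b : Frame D n k r} {T : Subgroup ↥(Cfsg.SU n F q)}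

theorem EL_mem_of_EL_mem {e w : Fin n → F} {β₁ β₂ : F}
    (htr : ∀ a', Skew D a' → EL D e 0 a' ∈ T) (h₁ : ELOK D e w β₁) (h₂ : ELOK D e w β₂)
    (h : EL D e w β₁ ∈ T) : EL D e w β₂ ∈ T := by
  rw [EL_adjust h₁ h₂]
  exact T.mul_mem h (htr _ (skew_of_ELOK h₁ h₂))

theorem inE_smul' (b : Frame D n k r) {x : Fin n → F} (hx : b.InE x) (c : F) : b.InE (c • x) := by
  obtain ⟨a, rfl⟩ := hx
  exact ⟨c • a, (mulVec_smul _ _ _).symm⟩

/-- Eichler transformations with centre `e₀` and `w ∈ E` -/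
theorem EL_e0_inE_mem (hk : 1 ≤ k)
    (htrE : ∀ x, b.InE x → ∀ a, Skew D a → EL D x 0 a ∈ T)
    {w : Fin n → F} (hw : b.InE w) {β : F} (hok : ELOK D (b.e (i0 hk)) w β) :
    EL D (b.e (i0 hk)) w β ∈ T := by
  obtain ⟨a, ha, ha0⟩ := exists_skew_ne_zero D
  have hww : H D w w = 0 := H_inE b hw hw
  have hβ : Skew D β := by
    have := hok.2.2
    rw [hww, add_zero] at this
    unfold Skew
    linear_combination this
  rw [EL_three_tr hok.1 hww hok.2.1 ha ha0 hβ]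
  have hβa : Skew D (β - a) := by
    unfold Skew at *
    rw [map_sub, hβ, ha]
    ring
  refine T.mul_mem (T.mul_mem ?_ ?_) ?_
  · exact htrE _ (inE_add b (inE_e b _) (inE_smul' b hw _)) _ ha
  · exact htrE _ (inE_e b _) _ hβa
  · exact htrE _ hw _ (skew_inv ha)

/-- Eichler transformations with centre `e₀` and `w` a multiple of some `f_j`, `j ≠ 0` -/
theorem EL_e0_f_mem (hT : SC b T) (hr : r ≤ 1) (hk : 1 ≤ k)
    (htrE : ∀ x, b.InE x → ∀ a, Skew D a → EL D x 0 a ∈ T)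
    {j : Fin k} (hj : i0 hk ≠ j) (γ : F) {β : F} (hok : ELOK D (b.e (i0 hk)) (γ • b.f j) β) :
    EL D (b.e (i0 hk)) (γ • b.f j) β ∈ T := by
  set e₀ := b.e (i0 hk) with he₀
  have hee : H D e₀ e₀ = 0 := b.ee _ _
  obtain ⟨a, ha, ha0⟩ := exists_skew_ne_zero D
  have hff : H D (b.f j) (b.f j) = 0 := b.ff j j
  set s := EL D (b.f j) 0 a with hs
  set γ' := γ / a with hγ'
  have hX : ELOK D e₀ (γ' • b.e j) 0 := by
    refine ⟨hee, ?_, ?_⟩
    · rw [H_smul_left, b.ee, mul_zero]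
    · rw [H_smul_left, H_smul_right, b.ee, map_zero]
      ring
  have hXT : EL D e₀ (γ' • b.e j) 0 ∈ T :=
    EL_e0_inE_mem hk htrE (inE_smul' b (inE_e b j) _) hX
  have hs0 : sv s e₀ = e₀ := by
    rw [hs, sv_tr D hff ha, he₀, b.ef, if_neg hj, mul_zero, zero_smul, add_zero]
  have hs1 : sv s (γ' • b.e j) = γ' • b.e j + γ • b.f j := by
    rw [sv_smul, hs, sv_tr D hff ha, b.ef, if_pos rfl, mul_one, smul_add, smul_smul, hγ',
      div_mul_cancel₀ _ ha0]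
  have hconj : s * EL D e₀ (γ' • b.e j) 0 * s⁻¹ = EL D e₀ (γ' • b.e j + γ • b.f j) 0 := by
    rw [EL_conj D hX, hs0, hs1]
  have hY : ELOK D e₀ (γ' • b.e j + γ • b.f j) 0 := by
    have := hX.conj D s
    rwa [hs0, hs1] at this
  have hYT : EL D e₀ (γ' • b.e j + γ • b.f j) 0 ∈ T := by
    rw [← hconj]
    apply hT.2 _ hXT
    rw [hconj]
    exact Qg_e0_le_U b hr hk (EL_mem_Qg D hY)
  have hZ := T.mul_mem hYT (T.inv_mem hXT)
  rw [EL_inv D hX, EL_mul D hY (hX.inv D)] at hZ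
  have hZok := hY.mul D (hX.inv D)
  have hvec : γ' • b.e j + γ • b.f j + -(γ' • b.e j) = γ • b.f j := by abel
  rw [hvec] at hZ hZok
  exact EL_mem_of_EL_mem (fun a' ha' => htrE _ (inE_e b _) _ ha') hZok hok hZ

/-- Eichler transformations with centre `e₀` and `w` a multiple of some `w_j` -/
theorem EL_e0_w_mem (hT : SC b T) (hr : r ≤ 1) (hk : 2 ≤ k)
    (htrE : ∀ x, b.InE x → ∀ a, Skew D a → EL D x 0 a ∈ T)
    (j : Fin r) (δ : F) {β : F}
    (hok : ELOK D (b.e (i0 (by omega : 1 ≤ k))) (δ • b.w j) β) :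
    EL D (b.e (i0 (by omega : 1 ≤ k))) (δ • b.w j) β ∈ T := by
  have hk1 : 1 ≤ k := by omega
  set e₀ := b.e (i0 hk1) with he₀
  set e₁ := b.e (i1 hk) with he₁
  set f₁ := b.f (i1 hk) with hf₁
  have hee : H D e₀ e₀ = 0 := b.ee _ _
  have h01 : H D e₀ e₁ = 0 := b.ee _ _
  have h10 : H D e₁ e₀ = 0 := b.ee _ _
  have h11 : H D e₁ e₁ = 0 := b.ee _ _
  have hf1e1 : H D f₁ e₁ = 1 := by rw [hf₁, he₁, b.fe, if_pos rfl]
  have hf1e0 : H D f₁ e₀ = 0 := by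
    rw [hf₁, he₀, b.fe, if_neg (i0_ne_i1 hk).symm]
  have he0w : H D e₀ (b.w j) = 0 := b.ew _ _
  have hf1w : H D f₁ (b.w j) = 0 := b.fw _ _
  have hwe1 : H D (δ • b.w j) e₁ = 0 := by rw [H_smul_left, b.we, mul_zero]
  obtain ⟨b₂, hb₂⟩ := exists_ELOK D h11 hwe1
  set s := EL D e₁ (δ • b.w j) b₂ with hs
  have hX : ELOK D e₀ ((1 : F) • f₁) 0 := by
    refine ⟨hee, ?_, ?_⟩
    · rw [one_smul, hf1e0]
    · rw [one_smul, hf₁, b.ff, map_zero]
      ring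
  have hXT : EL D e₀ ((1 : F) • f₁) 0 ∈ T :=
    EL_e0_f_mem hT hr hk1 htrE (i0_ne_i1 hk) 1 hX
  rw [one_smul] at hX hXT
  have hs0 : sv s e₀ = e₀ := by
    rw [hs, sv_EL D hb₂, h01, H_smul_right, he0w]
    simp
  have hs1 : sv s f₁ = f₁ + δ • b.w j + b₂ • e₁ := by
    rw [hs, sv_EL D hb₂, hf1e1, H_smul_right, hf1w]
    simp
  have hconj : s * EL D e₀ f₁ 0 * s⁻¹ = EL D e₀ (f₁ + δ • b.w j + b₂ • e₁) 0 := by
    rw [EL_conj D hX, hs0, hs1]
  have hY : ELOK D e₀ (f₁ + δ • b.w j + b₂ • e₁) 0 := by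
    have := hX.conj D s
    rwa [hs0, hs1] at this
  have hYT : EL D e₀ (f₁ + δ • b.w j + b₂ • e₁) 0 ∈ T := by
    rw [← hconj]
    apply hT.2 _ hXT
    rw [hconj]
    exact Qg_e0_le_U b hr hk1 (EL_mem_Qg D hY)
  -- remove the `e₁` part
  have hE : ELOK D e₀ (b₂ • e₁) 0 := by
    refine ⟨hee, ?_, ?_⟩
    · rw [H_smul_left, h10, mul_zero]
    · rw [H_smul_left, H_smul_right, h11, map_zero]
      ring
  have hET : EL D e₀ (b₂ • e₁) 0 ∈ T :=
    EL_e0_inE_mem hk1 htrE (inE_smul' b (inE_e b _) _) hE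
  have hZ := T.mul_mem (T.mul_mem hYT (T.inv_mem hXT)) (T.inv_mem hET)
  rw [EL_inv D hX, EL_inv D hE, EL_mul D hY (hX.inv D),
    EL_mul D (hY.mul D (hX.inv D)) (hE.inv D)] at hZ
  have hZok := (hY.mul D (hX.inv D)).mul D (hE.inv D)
  have hvec : f₁ + δ • b.w j + b₂ • e₁ + -f₁ + -(b₂ • e₁) = δ • b.w j := by abel
  rw [hvec] at hZ hZok
  exact EL_mem_of_EL_mem (fun a' ha' => htrE _ (inE_e b _) _ ha') hZok hok hZ

/-- `Q_{e₀} ≤ T` -/
theorem Qg_e0_le_T (hT : SC b T) (hr : r ≤ 1) (hk : 2 ≤ k)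
    (htrE : ∀ x, b.InE x → ∀ a, Skew D a → EL D x 0 a ∈ T) :
    Qg D (b.e (i0 (by omega : 1 ≤ k))) ≤ T := by
  have hk1 : 1 ≤ k := by omega
  set e₀ := b.e (i0 hk1) with he₀
  have hee : H D e₀ e₀ = 0 := b.ee _ _
  have htr : ∀ a', Skew D a' → EL D e₀ 0 a' ∈ T := fun a' ha' => htrE _ (inE_e b _) _ ha'
  let P : (Fin n → F) → Prop := fun w => H D w e₀ = 0 ∧ ∀ β, ELOK D e₀ w β → EL D e₀ w β ∈ T
  have hP0 : P 0 := by
    refine ⟨H_zero_left D _, ?_⟩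
    intro β hβ
    exact htr β ((ELOK_zero_iff D).1 hβ).2
  have hPadd : ∀ w₁ w₂, P w₁ → P w₂ → P (w₁ + w₂) := by
    intro w₁ w₂ h₁ h₂
    refine ⟨by rw [H_add_left, h₁.1, h₂.1, add_zero], ?_⟩
    intro β hβ
    obtain ⟨β₁, hβ₁⟩ := exists_ELOK D hee h₁.1
    obtain ⟨β₂, hβ₂⟩ := exists_ELOK D hee h₂.1
    have h3 := T.mul_mem (h₁.2 β₁ hβ₁) (h₂.2 β₂ hβ₂)
    rw [EL_mul D hβ₁ hβ₂] at h3
    exact EL_mem_of_EL_mem htr (hβ₁.mul D hβ₂) hβ h3
  intro s hs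
  obtain ⟨w, β, hok, rfl⟩ := (mem_Qg D hee).1 hs
  have hterm : ∀ a ∈ (Finset.univ : Finset (Ix k r)), P (co b w a • fv b a) := by
    intro a _
    rcases a with i | j | i
    · refine ⟨by rw [H_smul_left]; show _ * H D (b.e i) (b.e _) = 0; rw [b.ee, mul_zero], ?_⟩
      intro β' hβ'
      exact EL_e0_inE_mem hk1 htrE (inE_smul' b (inE_e b i) _) hβ'
    · refine ⟨by rw [H_smul_left]; show _ * H D (b.w j) (b.e _) = 0; rw [b.we, mul_zero], ?_⟩
      intro β' hβ'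
      exact EL_e0_w_mem hT hr hk htrE j _ hβ'
    · by_cases hi : i0 hk1 = i
      · have hc : co b w (Sum.inr (Sum.inr i)) = 0 := by
          rw [← hi]
          exact hok.2.1
        rw [hc, zero_smul]
        exact hP0
      · refine ⟨?_, ?_⟩
        · rw [H_smul_left]
          show _ * H D (b.f i) (b.e _) = 0
          rw [b.fe, if_neg (Ne.symm hi), mul_zero]
        · intro β' hβ'
          exact EL_e0_f_mem hT hr hk1 htrE hi _ hβ'
  have hsum : P (∑ a, co b w a • fv b a) := Finset.sum_induction _ P hPadd hP0 hterm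
  rw [← expand_co b w] at hsum
  exact hsum.2 β hok

/-- the generators of `U` lie in a nontrivial strongly closed subgroup -/
theorem GenEL_subset (hT : SC b T) (hr : r ≤ 1) (hk : 2 ≤ k)
    (htrE : ∀ x, b.InE x → ∀ a, Skew D a → EL D x 0 a ∈ T) :
    (GenEL b : Set ↥(Cfsg.SU n F q)) ⊆ T := by
  have hk1 : 1 ≤ k := by omega
  rintro x ⟨hxU, i, w, β, hok, rfl⟩
  obtain ⟨γ, hγ⟩ := exists_Lam_e0 b hk (inE_e b i) (b.e_ne_zero i)
  set g := (Lam b γ)⁻¹ with hg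
  have hgi : sv g (b.e i) = b.e (i0 hk1) := by
    rw [hg, ← hγ, sv_inv_sv]
  have h1 : g * EL D (b.e i) w β * g⁻¹ = EL D (b.e (i0 hk1)) (sv g w) β := by
    rw [EL_conj D hok, hgi]
  have hok' : ELOK D (b.e (i0 hk1)) (sv g w) β := by
    have := hok.conj D g
    rwa [hgi] at this
  have h2 : EL D (b.e (i0 hk1)) (sv g w) β ∈ T :=
    Qg_e0_le_T hT hr hk htrE (EL_mem_Qg D hok')
  have h3 : EL D (b.e i) w β = g⁻¹ * EL D (b.e (i0 hk1)) (sv g w) β * g⁻¹⁻¹ := by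
    rw [← h1]; group
  rw [SetLike.mem_coe, h3]
  apply hT.2 _ h2
  rw [← h3]
  exact hxU

/-- A nontrivial strongly closed subgroup of `U` is `U`. -/
theorem stronglyClosed_SU (p : ℕ) [Fact p.Prime] [CharP F p] (hT : SC b T) (hr : r ≤ 1)
    (hk : 2 ≤ k) (hne : T ≠ ⊥) : T = U b := by
  have hk1 : 1 ≤ k := by omega
  obtain ⟨a, ha, ha0, h⟩ := exists_tr_mem p hT hr hk1 hne
  have htr := fun a' (ha' : Skew D a') => tr_e0_mem hT hr hk ha ha0 h ha'
  have htrE : ∀ x, b.InE x → ∀ a, Skew D a → EL D x 0 a ∈ T :=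
    fun x hx a ha => tr_inE_mem hT hr hk htr hx ha
  apply le_antisymm hT.1
  refine (U_le_closure_GenEL b hr).trans ((Subgroup.closure_le _).2 ?_)
  exact GenEL_subset hT hr hk htrE

end sc

/-! ### Transfer to `PSU` -/

section psu

theorem pr_injOn_U (b : Frame D n k r) (hn : 2 ≤ n) (hk : 1 ≤ k) {u v : ↥(Cfsg.SU n F q)}
    (hu : u ∈ U b) (hv : v ∈ U b) (h : pr u = pr v) : u = v :=
  eq_of_pr_eq_of_fix D hn h (b.e_ne_zero (i0 hk)) (sv_e_of_mem_U b hu _ rfl)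
    (sv_e_of_mem_U b hv _ rfl)

/-- A nontrivial strongly closed subgroup of `Ubar` is `Ubar`. -/
theorem stronglyClosed_Ubar (b : Frame D n k r) (p : ℕ) [Fact p.Prime] [CharP F p] (hr : r ≤ 1)
    (hk : 2 ≤ k) (T : Subgroup (Cfsg.PSU n F q))
    (hT : Cfsg.IsStronglyClosed T (Ubar b)) (hne : T ≠ ⊥) : T = Ubar b := by
  set T₀ : Subgroup ↥(Cfsg.SU n F q) := U b ⊓ T.comap pr with hT₀
  have hSC : SC b T₀ := by
    refine ⟨inf_le_left, ?_⟩
    intro x hx g hg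
    refine ⟨hg, ?_⟩
    show pr (g * x * g⁻¹) ∈ T
    rw [map_mul, map_mul, map_inv]
    apply hT.2 _ hx.2
    rw [← map_inv, ← map_mul, ← map_mul]
    exact Subgroup.mem_map_of_mem _ hg
  have hne₀ : T₀ ≠ ⊥ := by
    intro h
    apply hne
    rw [eq_bot_iff]
    intro t ht
    obtain ⟨u, hu, rfl⟩ := Subgroup.mem_map.1 (hT.1 ht)
    have : u ∈ T₀ := ⟨hu, ht⟩
    rw [h, Subgroup.mem_bot] at this
    rw [this, map_one]
    exact Subgroup.mem_bot.2 rfl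
  have h1 := stronglyClosed_SU p hSC hr hk hne₀
  apply le_antisymm hT.1
  rintro x ⟨u, hu, rfl⟩
  have : u ∈ T₀ := by rw [h1]; exact hu
  exact this.2

theorem Ubar_ne_bot (b : Frame D n k r) (hr : r ≤ 1) (hn : 2 ≤ n) (hk : 1 ≤ k) :
    Ubar b ≠ ⊥ := by
  intro h
  obtain ⟨a, ha, ha0⟩ := exists_skew_ne_zero D
  have hee : H D (b.e (i0 hk)) (b.e (i0 hk)) = 0 := b.ee _ _
  have hmem : (pr (EL D (b.e (i0 hk)) 0 a) : Cfsg.PSU n F q) ∈ Ubar b := by
    apply Subgroup.mem_map_of_mem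
    exact Qg_e0_le_U b hr hk (Tg_le_Qg D _ ((mem_Tg D hee).2 ⟨a, ha, rfl⟩))
  rw [h, Subgroup.mem_bot, pr_eq_one_iff] at hmem
  exact tr_not_mem_center D hn (b.e_ne_zero _) hee ha ha0 hmem

end psu

end Cfsg.Agent.Lib.H25.PSU
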