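import Mathlib
import Cfsg.Agent.Lib.H25.PSUF
import Cfsg.Agent.Lib.H25.LieCrit
import Cfsg.Agent.Lib.H2.SLGen

set_option autoImplicit false
set_option linter.unusedSectionVars false

/-!
# The two radicals of `U ≤ SU_n(q)` and goodness of the Levi elements (helper25)
-/

namespace Cfsg.Agent.Lib.H25.PSU

open Matrix Cfsg.Agent.Lib.H13.AutPSU Cfsg.Agent.Lib.H25.LieCrit

variable {F : Type*} [Field F] [Fintype F] {n q : ℕ} {D : UF F q} {k r : ℕ}

/-- conjugation-invariance in `SU` gives normalization in `PSU` -/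
theorem pr_mem_normalizer_map (A : Subgroup ↥(Cfsg.SU n F q)) (g : ↥(Cfsg.SU n F q))
    (h : ∀ s ∈ A, g * s * g⁻¹ ∈ A) :
    (pr g : Cfsg.PSU n F q) ∈
      Subgroup.normalizer ((A.map pr : Subgroup (Cfsg.PSU n F q)) : Set (Cfsg.PSU n F q)) := by
  apply Cfsg.Agent.Lib.H25.mem_normalizer_of_conj_mem
  rintro x ⟨s, hs, rfl⟩
  rw [← map_inv, ← map_mul, ← map_mul]
  exact Subgroup.mem_map_of_mem _ (h s hs)

/-- An element of `SU` whose image normalizes `Ubar` conjugates `U` into itself. -/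
theorem conj_U_of_pr_normalizer (b : Frame D n k r) (p : ℕ) [Fact p.Prime] [CharP F p]
    (hn : 2 ≤ n) (hk : 1 ≤ k) (g : ↥(Cfsg.SU n F q))
    (hg : (pr g : Cfsg.PSU n F q) ∈ Subgroup.normalizer
      ((Ubar b : Subgroup (Cfsg.PSU n F q)) : Set (Cfsg.PSU n F q)))
    (u : ↥(Cfsg.SU n F q)) (hu : u ∈ U b) : g * u * g⁻¹ ∈ U b := by
  have h1 : (pr (g * u * g⁻¹) : Cfsg.PSU n F q) ∈ Ubar b := by
    rw [map_mul, map_mul, map_inv]
    exact (Subgroup.mem_normalizer_iff.1 hg _).1 (Subgroup.mem_map_of_mem _ hu)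
  obtain ⟨u', hu', hpr⟩ := Subgroup.mem_map.1 h1
  have hz := (pr_eq_pr_iff (s := u') (t := g * u * g⁻¹)).1 hpr
  set z := u'⁻¹ * (g * u * g⁻¹) with hzdef
  have hguz : g * u * g⁻¹ = u' * z := by rw [hzdef]; group
  obtain ⟨k₁, hk₁⟩ := (isPGroup_U b p hk) ⟨u, hu⟩
  obtain ⟨k₂, hk₂⟩ := (isPGroup_U b p hk) ⟨u', hu'⟩
  have huk : u ^ p ^ (k₁ + k₂) = 1 := by
    have h2 : u ^ p ^ k₁ = 1 := by
      have := congrArg Subtype.val hk₁
      simpa using this
    rw [pow_add, pow_mul, h2, one_pow]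
  have hu'k : u' ^ p ^ (k₁ + k₂) = 1 := by
    have h2 : u' ^ p ^ k₂ = 1 := by
      have := congrArg Subtype.val hk₂
      simpa using this
    rw [pow_add, mul_comm, pow_mul, h2, one_pow]
  have hvk : (g * u * g⁻¹) ^ p ^ (k₁ + k₂) = 1 := by
    rw [conj_pow, huk]; group
  have hzk : z ^ p ^ (k₁ + k₂) = 1 := by
    have hcomm : Commute u' z := (Subgroup.mem_center_iff.1 hz u')
    rw [hguz, hcomm.mul_pow, hu'k, one_mul] at hvk
    exact hvk
  have hz1 : z = 1 := eq_one_of_center_of_pow D hn p hz hzk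
  rw [hguz, hz1, mul_one]
  exact hu'

/-- centricity passes to `PSU` -/
theorem centric_map (b : Frame D n k r) (hn : 2 ≤ n) (hk : 1 ≤ k)
    {P : Subgroup ↥(Cfsg.SU n F q)} (hPU : P ≤ U b)
    (hC : ∀ u ∈ U b, (∀ y ∈ P, y * u = u * y) → u ∈ P) :
    Subgroup.centralizer ((P.map pr : Subgroup (Cfsg.PSU n F q)) : Set (Cfsg.PSU n F q)) ⊓
      Ubar b ≤ P.map pr := by
  rintro x ⟨hxc, u, hu, rfl⟩
  apply Subgroup.mem_map_of_mem
  apply hC u hu
  intro y hy
  have h1 := Subgroup.mem_centralizer_iff.1 hxc (pr y) (Subgroup.mem_map_of_mem _ hy)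
  rw [← map_mul, ← map_mul] at h1
  exact pr_injOn_U b hn hk (Subgroup.mul_mem _ (hPU hy) hu) (Subgroup.mul_mem _ hu (hPU hy)) h1

/-! ### The radical `Q_{e₀}` -/

theorem U_le_normalizer_Qg (b : Frame D n k r) (hk : 1 ≤ k) {u g : ↥(Cfsg.SU n F q)}
    (hu : u ∈ U b) (hg : g ∈ Qg D (b.e (i0 hk))) : u * g * u⁻¹ ∈ Qg D (b.e (i0 hk)) := by
  apply conj_mem_Qg D (b.ee _ _) one_ne_zero _ hg
  rw [one_smul]
  exact sv_e_of_mem_U b hu _ rfl

theorem centralizer_Qg (b : Frame D n k r) (hk : 1 ≤ k) {u : ↥(Cfsg.SU n F q)}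
    (hu : u ∈ U b) (h : ∀ y ∈ Qg D (b.e (i0 hk)), y * u = u * y) : u ∈ Qg D (b.e (i0 hk)) := by
  apply Tg_le_Qg
  apply mem_Tg_of_comm D (b.e_ne_zero _) (b.ee _ _) (sv_e_of_mem_U b hu _ rfl)
  intro g hg
  exact (h g hg).symm

/-! ### The Siegel radical -/

/-- the Siegel radical: trivial on `E` and on `E^⊥ / E` -/
def QW (b : Frame D n k r) : Subgroup ↥(Cfsg.SU n F q) where
  carrier := {s | (∀ x, b.InE x → sv s x = x) ∧ ∀ j, b.InE (sv s (b.w j) - b.w j)}
  one_mem' := by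
    refine ⟨fun x _ => sv_one x, fun j => ?_⟩
    rw [sv_one, sub_self]
    exact b.inE_zero
  mul_mem' := by
    rintro s t ⟨hs1, hs2⟩ ⟨ht1, ht2⟩
    refine ⟨fun x hx => by rw [sv_mul, ht1 x hx, hs1 x hx], fun j => ?_⟩
    have h1 : sv (s * t) (b.w j) - b.w j =
        (sv s (b.w j) - b.w j) + (sv t (b.w j) - b.w j) := by
      have h2 : sv t (b.w j) = b.w j + (sv t (b.w j) - b.w j) := by abel
      rw [sv_mul]
      conv_lhs => rw [h2]
      rw [sv_add, hs1 _ (ht2 j)]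
      abel
    rw [h1]
    exact inE_add b (hs2 j) (ht2 j)
  inv_mem' := by
    rintro s ⟨hs1, hs2⟩
    refine ⟨fun x hx => sv_inv_of_sv (hs1 x hx), fun j => ?_⟩
    have h1 : sv s⁻¹ (b.w j) - b.w j = (-1 : F) • (sv s (b.w j) - b.w j) := by
      have h2 : b.w j = sv s (b.w j) - (sv s (b.w j) - b.w j) := by abel
      have h3 : sv s⁻¹ (b.w j) = b.w j - (sv s (b.w j) - b.w j) := by
        conv_lhs => rw [h2]
        rw [sv_sub, sv_inv_sv, sv_inv_of_sv (hs1 _ (hs2 j))]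
      rw [h3]
      module
    rw [h1]
    exact inE_smul' b (hs2 j) _

theorem mem_QW {b : Frame D n k r} {s : ↥(Cfsg.SU n F q)} :
    s ∈ QW b ↔ (∀ x, b.InE x → sv s x = x) ∧ ∀ j, b.InE (sv s (b.w j) - b.w j) := Iff.rfl

theorem QW_le_U (b : Frame D n k r) : QW b ≤ U b := by
  rintro s ⟨hs1, hs2⟩
  rw [mem_U_iff_sv]
  intro l
  rcases l with i | j | i
  · have h1 : sv s (fv b (Sum.inl i)) = fv b (Sum.inl i) := hs1 _ (inE_e b i)
    rw [h1]
    refine ⟨fun j hj => co_fv_ne b ?_, co_fv_self b _⟩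
    rintro rfl
    exact lt_irrefl _ hj
  · have h1 : sv s (fv b (Sum.inr (Sum.inl j))) =
        fv b (Sum.inr (Sum.inl j)) + (sv s (b.w j) - b.w j) := by
      show sv s (b.w j) = b.w j + _
      abel
    rw [h1]
    obtain ⟨he, hw⟩ := b.inE_iff.1 (hs2 j)
    refine ⟨fun j' hj' => ?_, ?_⟩
    · rw [co_add, co_fv_ne b (by rintro rfl; exact lt_irrefl _ hj'), zero_add]
      rcases j' with i' | j'' | i'
      · exfalso
        have := i'.2
        simp only [rk_w, rk_e] at hj'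
        omega
      · exact hw j''
      · exact he i'
    · rw [co_add, co_fv_self, add_eq_left]
      exact hw j
  · refine ⟨fun j' hj' => ?_, ?_⟩
    · -- `j'` is some `f_{i'}` with `i' < i`
      rcases j' with i' | j'' | i'
      · exfalso
        have := i.2
        have := i'.2
        simp only [rk_f, rk_e] at hj'
        omega
      · exfalso
        have := i.2
        have := j''.2
        simp only [rk_f, rk_w] at hj'
        omega
      · have hne : i ≠ i' := by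
          rintro rfl
          exact lt_irrefl _ hj'
        show H D (sv s (b.f i)) (b.e i') = 0
        rw [← hs1 _ (inE_e b i'), H_sv, b.fe, if_neg hne]
    · show H D (sv s (b.f i)) (b.e i) = 1
      rw [← hs1 _ (inE_e b i), H_sv, b.fe, if_pos rfl]

theorem inE_sub (b : Frame D n k r) {x y : Fin n → F} (hx : b.InE x) (hy : b.InE y) :
    b.InE (x - y) := by
  have : x - y = x + (-1 : F) • y := by module
  rw [this]
  exact inE_add b hx (inE_smul' b hy _)

/-- conjugating the Siegel radical -/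
theorem conj_mem_QW (b : Frame D n k r) {g s : ↥(Cfsg.SU n F q)}
    (hE : ∀ x, b.InE x → b.InE (sv g x)) (hE' : ∀ x, b.InE x → b.InE (sv g⁻¹ x))
    (hw : ∀ j, b.InE (sv g⁻¹ (b.w j) - b.w j)) (hs : s ∈ QW b) : g * s * g⁻¹ ∈ QW b := by
  obtain ⟨hs1, hs2⟩ := hs
  refine ⟨fun x hx => ?_, fun j => ?_⟩
  · rw [sv_mul, sv_mul, hs1 _ (hE' x hx), sv_sv_inv]
  · obtain ⟨y, hy⟩ : ∃ y, y = sv g⁻¹ (b.w j) - b.w j := ⟨_, rfl⟩
    have hyE : b.InE y := by rw [hy]; exact hw j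
    have h1 : sv g⁻¹ (b.w j) = b.w j + y := by rw [hy]; abel
    have h2 : sv s (b.w j + y) = b.w j + y + (sv s (b.w j) - b.w j) := by
      rw [sv_add, hs1 _ hyE]
      abel
    have h3 : sv (g * s * g⁻¹) (b.w j) - b.w j = sv g (sv s (b.w j) - b.w j) := by
      rw [sv_mul, sv_mul, h1, h2, sv_add, ← h1, sv_sv_inv]
      abel
    rw [h3]
    exact hE _ (hs2 j)

theorem inE_iff_co (b : Frame D n k r) {x : Fin n → F} :
    b.InE x ↔ ∀ a : Ix k r, k ≤ rk a → co b x a = 0 := by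
  rw [b.inE_iff]
  constructor
  · rintro ⟨h1, h2⟩ a ha
    rcases a with i | j | i
    · exfalso
      have := i.2
      simp only [rk_e] at ha
      omega
    · exact h2 j
    · exact h1 i
  · intro h
    refine ⟨fun i => ?_, fun j => ?_⟩
    · have := h (Sum.inr (Sum.inr i)) (by simp only [rk_f]; omega)
      exact this
    · have := h (Sum.inr (Sum.inl j)) (by simp only [rk_w]; omega)
      exact this

/-- elements of `U` preserve `E` -/
theorem inE_sv_of_mem_U (b : Frame D n k r) {u : ↥(Cfsg.SU n F q)} (hu : u ∈ U b)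
    {x : Fin n → F} (hx : b.InE x) : b.InE (sv u x) := by
  rw [inE_iff_co] at hx ⊢
  intro a ha
  rw [co_sv]
  apply Finset.sum_eq_zero
  intro c _
  by_cases hc : k ≤ rk c
  · rw [hx c hc, mul_zero]
  · rw [(mem_U.1 hu).1 a c (by omega), zero_mul]

theorem inE_w_of_mem_U (b : Frame D n k r) (hr : r ≤ 1) {u : ↥(Cfsg.SU n F q)} (hu : u ∈ U b)
    (j : Fin r) : b.InE (sv u (b.w j) - b.w j) := by
  rw [inE_iff_co]
  intro a ha
  have h := (mem_U_iff_sv.1 hu) (Sum.inr (Sum.inl j))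
  rw [co_sub]
  have hj := j.2
  by_cases haj : a = Sum.inr (Sum.inl j)
  · rw [haj]
    have h2 := h.2
    rw [fv_w] at h2
    rw [h2]
    have := co_fv_self b (Sum.inr (Sum.inl j) : Ix k r)
    rw [fv_w] at this
    rw [this, sub_self]
  · have hlt : rk (Sum.inr (Sum.inl j) : Ix k r) < rk a := by
      have hne : rk a ≠ rk (Sum.inr (Sum.inl j) : Ix k r) := fun h' => haj (rk_injective h')
      simp only [rk_w] at hne ⊢
      omega
    have h2 := h.1 a hlt
    rw [fv_w] at h2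
    rw [h2]
    have := co_fv_ne b (c := (Sum.inr (Sum.inl j) : Ix k r)) haj
    rw [fv_w] at this
    rw [this, sub_self]

theorem U_le_normalizer_QW (b : Frame D n k r) (hr : r ≤ 1) {u g : ↥(Cfsg.SU n F q)}
    (hu : u ∈ U b) (hg : g ∈ QW b) : u * g * u⁻¹ ∈ QW b :=
  conj_mem_QW b (fun _ hx => inE_sv_of_mem_U b hu hx)
    (fun _ hx => inE_sv_of_mem_U b (Subgroup.inv_mem _ hu) hx)
    (fun j => inE_w_of_mem_U b hr (Subgroup.inv_mem _ hu) j) hg

theorem tr_mem_QW (b : Frame D n k r) (i : Fin k) {a : F} (ha : Skew D a) :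
    EL D (b.e i) 0 a ∈ QW b := by
  refine ⟨fun x hx => ?_, fun j => ?_⟩
  · rw [sv_tr D (b.ee i i) ha, H_inE b hx (inE_e b i), mul_zero, zero_smul, add_zero]
  · rw [sv_tr D (b.ee i i) ha, b.we, mul_zero, zero_smul, add_zero, sub_self]
    exact b.inE_zero

theorem centralizer_QW (b : Frame D n k r) (hr : r ≤ 1) {u : ↥(Cfsg.SU n F q)}
    (hu : u ∈ U b) (h : ∀ y ∈ QW b, y * u = u * y) : u ∈ QW b := by
  obtain ⟨a, ha, ha0⟩ := exists_skew_ne_zero D
  have hfix : ∀ i, sv u (b.e i) = b.e i := by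
    intro i
    have hok := (ELOK_zero_iff D).2 ⟨b.ee i i, ha⟩
    have h1 := h _ (tr_mem_QW b i ha)
    have h2 : u * EL D (b.e i) 0 a * u⁻¹ = EL D (b.e i) 0 a := by
      rw [← h1, mul_assoc, mul_inv_cancel, mul_one]
    rw [EL_conj D hok, sv_zero] at h2
    have hue : H D (sv u (b.e i)) (sv u (b.e i)) = 0 := by rw [H_sv, b.ee]
    have h3 : sv (EL D (sv u (b.e i)) 0 a) (b.f i) = sv (EL D (b.e i) 0 a) (b.f i) := by
      rw [h2]
    rw [sv_tr D hue ha, sv_tr D (b.ee i i) ha, b.fe, if_pos rfl] at h3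
    have h4 : H D (b.f i) (sv u (b.e i)) = 1 := by
      have h5 := (mem_U_iff_sv.1 hu (Sum.inl i)).2
      have h6 : co b (sv u (fv b (Sum.inl i))) (Sum.inl i) = H D (sv u (b.e i)) (b.f i) := rfl
      rw [h6] at h5
      rw [← H_symm, h5, map_one]
    rw [h4, mul_one] at h3
    have h5 : a • sv u (b.e i) = a • b.e i := add_left_cancel h3
    have h6 := congrArg (fun v => a⁻¹ • v) h5
    simp only [smul_smul, inv_mul_cancel₀ ha0, one_smul] at h6
    exact h6
  refine ⟨fun x hx => ?_, fun j => inE_w_of_mem_U b hr hu j⟩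
  obtain ⟨c, rfl⟩ := hx
  rw [b.Be_mulVec, sv_sum']
  apply Finset.sum_congr rfl
  intro i _
  rw [sv_smul, hfix i]

/-! ### Levi elements -/

theorem inE_sv_Lam (b : Frame D n k r) (γ : SpecialLinearGroup (Fin k) F) {x : Fin n → F}
    (hx : b.InE x) : b.InE (sv (Lam b γ) x) := by
  obtain ⟨a, rfl⟩ := hx
  exact ⟨_, sv_Lam_e b γ a⟩

theorem sv_Lam_w_single (b : Frame D n k r) (γ : SpecialLinearGroup (Fin k) F) (j : Fin r) :
    sv (Lam b γ) (b.w j) = b.w j := by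
  rw [← b.Bw_single j, sv_Lam_w]

theorem Lam_conj_mem_QW (b : Frame D n k r) (γ : SpecialLinearGroup (Fin k) F)
    {s : ↥(Cfsg.SU n F q)} (hs : s ∈ QW b) : Lam b γ * s * (Lam b γ)⁻¹ ∈ QW b := by
  apply conj_mem_QW b (fun _ hx => inE_sv_Lam b γ hx) _ _ hs
  · intro x hx
    rw [← map_inv]
    exact inE_sv_Lam b γ⁻¹ hx
  · intro j
    rw [← map_inv, sv_Lam_w_single, sub_self]
    exact b.inE_zero

section good

variable (p : ℕ) [Fact p.Prime] [CharP F p]

/-- the radical `Q_{e₀}` in `PSU` -/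
def P1 (b : Frame D n k r) (hk : 1 ≤ k) : Subgroup (Cfsg.PSU n F q) :=
  (Qg D (b.e (i0 hk))).map pr

/-- the Siegel radical in `PSU` -/
def P2 (b : Frame D n k r) : Subgroup (Cfsg.PSU n F q) := (QW b).map pr

theorem Ubar_le_normalizer_P1 (b : Frame D n k r) (hk : 1 ≤ k) :
    Ubar b ≤ Subgroup.normalizer ((P1 b hk : Subgroup (Cfsg.PSU n F q)) :
      Set (Cfsg.PSU n F q)) := by
  rintro x ⟨u, hu, rfl⟩
  exact pr_mem_normalizer_map _ u (fun _ hg => U_le_normalizer_Qg b hk hu hg)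

theorem Ubar_le_normalizer_P2 (b : Frame D n k r) (hr : r ≤ 1) :
    Ubar b ≤ Subgroup.normalizer ((P2 b : Subgroup (Cfsg.PSU n F q)) :
      Set (Cfsg.PSU n F q)) := by
  rintro x ⟨u, hu, rfl⟩
  exact pr_mem_normalizer_map _ u (fun _ hg => U_le_normalizer_QW b hr hu hg)

/-- an element of `SU` with `x ^ p ^ m = 1` has image of `p`-power order -/
theorem orderOf_pr_of_pow {x : ↥(Cfsg.SU n F q)} {m : ℕ} (h : x ^ p ^ m = 1) :
    ∃ j : ℕ, orderOf (pr x : Cfsg.PSU n F q) = p ^ j := by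
  have h2 : (pr x : Cfsg.PSU n F q) ^ p ^ m = 1 := by rw [← map_pow, h, map_one]
  have hdvd := orderOf_dvd_of_pow_eq_one h2
  obtain ⟨j, -, hj⟩ := (Nat.dvd_prime_pow (Fact.out : p.Prime)).1 hdvd
  exact ⟨j, hj⟩

/-- images of Levi elements are products of `p`-elements normalizing `P2` -/
theorem pr_Lam_mem_closure (b : Frame D n k r) (hk : 2 ≤ k) (γ : SpecialLinearGroup (Fin k) F) :
    (pr (Lam b γ) : Cfsg.PSU n F q) ∈ Subgroup.closure
      {x | x ∈ Subgroup.normalizer ((P2 b : Subgroup (Cfsg.PSU n F q)) :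
        Set (Cfsg.PSU n F q)) ∧ ∃ j : ℕ, orderOf x = p ^ j} := by
  have : Nontrivial (Fin k) := Fin.nontrivial_iff_two_le.2 hk
  have hA : γ ∈ (⊤ : Subgroup (SpecialLinearGroup (Fin k) F)) := Subgroup.mem_top _
  rw [← Cfsg.Agent.Lib.H2.SL_closure_transvection] at hA
  have hle : Subgroup.closure {A : SpecialLinearGroup (Fin k) F |
      ∃ (i j : Fin k) (h : i ≠ j) (c : F), A = SpecialLinearGroup.transvection h c} ≤
      (Subgroup.closure {x | x ∈ Subgroup.normalizer ((P2 b : Subgroup (Cfsg.PSU n F q)) :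
        Set (Cfsg.PSU n F q)) ∧ ∃ j : ℕ, orderOf x = p ^ j}).comap
        ((pr : ↥(Cfsg.SU n F q) →* Cfsg.PSU n F q).comp (Lam b)) := by
    rw [Subgroup.closure_le]
    rintro _ ⟨i, j, hij, c, rfl⟩
    apply Subgroup.subset_closure
    refine ⟨pr_mem_normalizer_map _ _ (fun _ hs => Lam_conj_mem_QW b _ hs), ?_⟩
    apply orderOf_pr_of_pow p (m := 1)
    rw [pow_one, ← map_pow, sl_transvection_pow_p p hij c, map_one]
  exact hle hA

/-- Levi elements normalizing `U` are good -/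
theorem pr_Lam_good (b : Frame D n k r) (hr : r ≤ 1) (hn : 2 ≤ n) (hk : 2 ≤ k)
    (γ : SpecialLinearGroup (Fin k) F)
    (hN : ∀ u ∈ U b, Lam b γ * u * (Lam b γ)⁻¹ ∈ U b) :
    GoodElt p (Ubar b) (pr (Lam b γ)) := by
  right; right
  refine ⟨pr_mem_normalizer_map (U b) _ hN, P2 b, Subgroup.map_mono (QW_le_U b),
    Ubar_le_normalizer_P2 b hr, ?_, pr_Lam_mem_closure p b hk γ⟩
  exact centric_map b hn (by omega) (QW_le_U b) (fun u hu h => centralizer_QW b hr hu h)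

end good

end Cfsg.Agent.Lib.H25.PSU
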