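import Mathlib
import Cfsg.Agent.Lib.H25.PSUG

set_option autoImplicit false
set_option linter.unusedSectionVars false

/-!
# Rank one computations in `SU`: Weyl and torus elements as products of Eichler
transformations (helper25)
-/

namespace Cfsg.Agent.Lib.H25.PSU

open Matrix Cfsg.Agent.Lib.H13.AutPSU

variable {F : Type*} [Field F] {n q : ℕ} {D : UF F q}

/-- a hyperbolic pair `(u, v)` together with a vector `ω` orthogonal to both -/
structure HTrip (D : UF F q) (u v ω : Fin n → F) : Prop where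
  uu : H D u u = 0
  vv : H D v v = 0
  uv : H D u v = 1
  vu : H D v u = 1
  ωu : H D ω u = 0
  ωv : H D ω v = 0

namespace HTrip

variable {u v ω : Fin n → F}

theorem symm (h : HTrip D u v ω) : HTrip D v u ω := ⟨h.vv, h.uu, h.vu, h.uv, h.ωv, h.ωu⟩

theorem uω (h : HTrip D u v ω) : H D u ω = 0 := H_eq_zero_symm D h.ωu

theorem vω (h : HTrip D u v ω) : H D v ω = 0 := H_eq_zero_symm D h.ωv

theorem elok_iff (h : HTrip D u v ω) (c b : F) :
    ELOK D u (c • ω) b ↔ b + D.τ b + c * D.τ c * H D ω ω = 0 := by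
  unfold ELOK
  rw [H_smul_left, H_smul_left, H_smul_right, h.ωu, mul_zero]
  constructor
  · rintro ⟨-, -, h3⟩
    linear_combination h3
  · intro h3
    exact ⟨h.uu, rfl, by linear_combination h3⟩

theorem sv_EL_u (h : HTrip D u v ω) {c b : F} (hok : ELOK D u (c • ω) b) :
    sv (EL D u (c • ω) b) u = u := by
  rw [sv_EL D hok, h.uu, H_smul_right, h.uω]
  simp

theorem sv_EL_v (h : HTrip D u v ω) {c b : F} (hok : ELOK D u (c • ω) b) :
    sv (EL D u (c • ω) b) v = v + c • ω + b • u := by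
  rw [sv_EL D hok, h.vu, H_smul_right, h.vω]
  simp

theorem sv_EL_ω (h : HTrip D u v ω) {c b : F} (hok : ELOK D u (c • ω) b) :
    sv (EL D u (c • ω) b) ω = ω - (D.τ c * H D ω ω) • u := by
  rw [sv_EL D hok, h.ωu, H_smul_right]
  simp

theorem sv_EL_perp (h : HTrip D u v ω) {c b : F} (hok : ELOK D u (c • ω) b) {x : Fin n → F}
    (hxu : H D x u = 0) (hxω : H D x ω = 0) : sv (EL D u (c • ω) b) x = x := by
  rw [sv_EL D hok, hxu, H_smul_right, hxω]
  simp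

end HTrip

section nn

variable {e f ω : Fin n → F}

/-- the Weyl-type element attached to `(α, β)` -/
noncomputable def nn (D : UF F q) (e f ω : Fin n → F) (α β : F) : ↥(Cfsg.SU n F q) :=
  EL D f ((-α / β) • ω) (D.τ β)⁻¹ * EL D e (α • ω) β * EL D f ((-α / D.τ β) • ω) (D.τ β)⁻¹

theorem nn_ok1 (h : HTrip D e f ω) {α β : F} (hβ : β ≠ 0) (hok : ELOK D e (α • ω) β) :
    ELOK D f ((-α / β) • ω) (D.τ β)⁻¹ := by
  have hτβ : D.τ β ≠ 0 := (map_ne_zero D.τ).2 hβ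
  have h1 := (h.elok_iff α β).1 hok
  rw [h.symm.elok_iff]
  rw [map_inv₀, D.hτ2, map_div₀, map_neg]
  field_simp
  linear_combination h1

theorem nn_ok3 (h : HTrip D e f ω) {α β : F} (hβ : β ≠ 0) (hok : ELOK D e (α • ω) β) :
    ELOK D f ((-α / D.τ β) • ω) (D.τ β)⁻¹ := by
  have hτβ : D.τ β ≠ 0 := (map_ne_zero D.τ).2 hβ
  have h1 := (h.elok_iff α β).1 hok
  rw [h.symm.elok_iff]
  rw [map_inv₀, D.hτ2, map_div₀, map_neg, D.hτ2]
  field_simp
  linear_combination h1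

theorem sv_nn_e (h : HTrip D e f ω) {α β : F} (hβ : β ≠ 0) (hok : ELOK D e (α • ω) β) :
    sv (nn D e f ω α β) e = (D.τ β)⁻¹ • f := by
  have hτβ : D.τ β ≠ 0 := (map_ne_zero D.τ).2 hβ
  have h1 := (h.elok_iff α β).1 hok
  have ok1 := nn_ok1 h hβ hok
  have ok3 := nn_ok3 h hβ hok
  unfold nn
  rw [sv_mul, sv_mul]
  simp only [sv_add, sv_sub, sv_smul, h.sv_EL_u hok, h.sv_EL_v hok, h.sv_EL_ω hok,
    h.symm.sv_EL_u ok1, h.symm.sv_EL_v ok1, h.symm.sv_EL_ω ok1,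
    h.symm.sv_EL_u ok3, h.symm.sv_EL_v ok3, h.symm.sv_EL_ω ok3, map_div₀, map_neg, D.hτ2]
  match_scalars <;> field_simp <;> grind

theorem sv_nn_f (h : HTrip D e f ω) {α β : F} (hβ : β ≠ 0) (hok : ELOK D e (α • ω) β) :
    sv (nn D e f ω α β) f = β • e := by
  have hτβ : D.τ β ≠ 0 := (map_ne_zero D.τ).2 hβ
  have h1 := (h.elok_iff α β).1 hok
  have ok1 := nn_ok1 h hβ hok
  have ok3 := nn_ok3 h hβ hok
  unfold nn
  rw [sv_mul, sv_mul]
  simp only [sv_add, sv_sub, sv_smul, h.sv_EL_u hok, h.sv_EL_v hok, h.sv_EL_ω hok,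
    h.symm.sv_EL_u ok1, h.symm.sv_EL_v ok1, h.symm.sv_EL_ω ok1,
    h.symm.sv_EL_u ok3, h.symm.sv_EL_v ok3, h.symm.sv_EL_ω ok3, map_div₀, map_neg, D.hτ2]
  match_scalars <;> field_simp <;> grind

theorem sv_nn_ω (h : HTrip D e f ω) {α β : F} (hβ : β ≠ 0) (hok : ELOK D e (α • ω) β) :
    sv (nn D e f ω α β) ω = (-(D.τ β) / β) • ω := by
  have hτβ : D.τ β ≠ 0 := (map_ne_zero D.τ).2 hβ
  have h1 := (h.elok_iff α β).1 hok
  have ok1 := nn_ok1 h hβ hok
  have ok3 := nn_ok3 h hβ hok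
  unfold nn
  rw [sv_mul, sv_mul]
  simp only [sv_add, sv_sub, sv_smul, h.sv_EL_u hok, h.sv_EL_v hok, h.sv_EL_ω hok,
    h.symm.sv_EL_u ok1, h.symm.sv_EL_v ok1, h.symm.sv_EL_ω ok1,
    h.symm.sv_EL_u ok3, h.symm.sv_EL_v ok3, h.symm.sv_EL_ω ok3, map_div₀, map_neg, D.hτ2]
  match_scalars <;> field_simp <;> grind

theorem sv_nn_perp (h : HTrip D e f ω) {α β : F} (hβ : β ≠ 0) (hok : ELOK D e (α • ω) β)
    {x : Fin n → F} (hxe : H D x e = 0) (hxf : H D x f = 0) (hxω : H D x ω = 0) :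
    sv (nn D e f ω α β) x = x := by
  have ok1 := nn_ok1 h hβ hok
  have ok3 := nn_ok3 h hβ hok
  unfold nn
  rw [sv_mul, sv_mul, h.symm.sv_EL_perp ok3 hxf hxω, h.sv_EL_perp hok hxe hxω,
    h.symm.sv_EL_perp ok1 hxf hxω]

end nn

end Cfsg.Agent.Lib.H25.PSU
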