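import Mathlib
import Cfsg.Agent.Lib.H25.PSUH

set_option autoImplicit false
set_option linter.unusedSectionVars false

/-!
# `N(Ubar)` is generated by good elements in `PSU_n(q)` (helper25)
-/

namespace Cfsg.Agent.Lib.H25.PSU

open Matrix Cfsg.Agent.Lib.H13.AutPSU Cfsg.Agent.Lib.H25.LieCrit

variable {F : Type*} [Field F] [Fintype F] {n q : ℕ} {D : UF F q} {k r : ℕ}

/-! ### Diagonal elements -/

theorem IsDg.cm_eq (b : Frame D n k r) {s : ↥(Cfsg.SU n F q)} (hs : IsDg b s) :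
    cm b s = Matrix.diagonal (fun a => cm b s a a) := by
  ext a c
  obtain ⟨d, hd⟩ := hs c
  rw [Matrix.diagonal_apply]
  by_cases h : a = c
  · subst h
    rw [if_pos rfl]
  · rw [if_neg h, cm_apply, hd, co_smul, co_fv_ne b h, mul_zero]

theorem IsDg.prod_eq_one (b : Frame D n k r) {s : ↥(Cfsg.SU n F q)} (hs : IsDg b s) :
    ∏ a, cm b s a a = 1 := by
  rw [← Matrix.det_diagonal, ← IsDg.cm_eq b hs, det_cm]

theorem IsDg.cm_of_eigen (b : Frame D n k r) {s : ↥(Cfsg.SU n F q)} {a : Ix k r} {d : F}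
    (hd : sv s (fv b a) = d • fv b a) : cm b s a a = d := by
  rw [cm_apply, hd, co_smul, co_fv_self, mul_one]

/-- the eigenvalue on `f_i` is determined by that on `e_i` -/
theorem IsDg.eigen_f (b : Frame D n k r) {s : ↥(Cfsg.SU n F q)} (hs : IsDg b s) {i : Fin k}
    {d : F} (hd : sv s (b.e i) = d • b.e i) : sv s (b.f i) = (D.τ d)⁻¹ • b.f i := by
  obtain ⟨φ, hφ⟩ := hs (Sum.inr (Sum.inr i))
  rw [fv_f] at hφ
  have h1 : H D (sv s (b.f i)) (sv s (b.e i)) = 1 := by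
    rw [H_sv, b.fe, if_pos rfl]
  rw [hφ, hd, H_smul_left, H_smul_right, b.fe, if_pos rfl, mul_one] at h1
  have hτd : D.τ d ≠ 0 := right_ne_zero_of_mul_eq_one h1
  rw [hφ]
  congr 1
  exact eq_inv_of_mul_eq_one_left h1

/-- a criterion for diagonality -/
theorem isDg_of_e (b : Frame D n k r) {s : ↥(Cfsg.SU n F q)}
    (he : ∀ i, ∃ d : F, sv s (b.e i) = d • b.e i)
    (hf : ∀ i, b.InE' (sv s (b.f i)))
    (hw : ∀ j, ∃ ν : F, sv s (b.w j) = ν • b.w j) : IsDg b s := by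
  intro a
  rcases a with i | j | i
  · exact he i
  · exact hw j
  · obtain ⟨d, hd⟩ := he i
    have hd0 : d ≠ 0 := eigen_ne_zero (b.e_ne_zero i) hd
    refine ⟨(D.τ d)⁻¹, ?_⟩
    show sv s (b.f i) = (D.τ d)⁻¹ • b.f i
    obtain ⟨h1, h2⟩ := b.inE'_iff.1 (hf i)
    apply ext_co b
    intro a
    rw [co_smul]
    rcases a with i' | j' | i'
    · have e1 : co b (sv s (b.f i)) (Sum.inl i') = 0 := h1 i'
      have e2 : co b (b.f i) (Sum.inl i') = 0 := b.ff i i'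
      rw [e1, e2, mul_zero]
    · have e1 : co b (sv s (b.f i)) (Sum.inr (Sum.inl j')) = 0 := h2 j'
      have e2 : co b (b.f i) (Sum.inr (Sum.inl j')) = 0 := b.fw i j'
      rw [e1, e2, mul_zero]
    · by_cases hii : i = i'
      · subst hii
        have e1 : co b (sv s (b.f i)) (Sum.inr (Sum.inr i)) = D.τ d⁻¹ * H D (b.f i) (b.e i) :=
          H_eigen_right hd0 hd (b.f i)
        have e2 : co b (b.f i) (Sum.inr (Sum.inr i)) = H D (b.f i) (b.e i) := rfl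
        rw [e1, e2, b.fe, if_pos rfl, map_inv₀]
      · obtain ⟨d', hd'⟩ := he i'
        have hd'0 : d' ≠ 0 := eigen_ne_zero (b.e_ne_zero i') hd'
        have e1 : co b (sv s (b.f i)) (Sum.inr (Sum.inr i')) =
            D.τ d'⁻¹ * H D (b.f i) (b.e i') := H_eigen_right hd'0 hd' (b.f i)
        have e2 : co b (b.f i) (Sum.inr (Sum.inr i')) = H D (b.f i) (b.e i') := rfl
        rw [e1, e2, b.fe, if_neg hii, mul_zero, mul_zero]

section good

variable (p : ℕ) [Fact p.Prime] [CharP F p]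

/-- Eichler transformations fixing `e₀` are `p`-elements normalizing `P1` -/
theorem pr_EL_mem_closure (b : Frame D n k r) (hk : 1 ≤ k) {u w' : Fin n → F} {b' : F}
    (hok : ELOK D u w' b') (h0u : H D (b.e (i0 hk)) u = 0) (h0w : H D (b.e (i0 hk)) w' = 0) :
    (pr (EL D u w' b') : Cfsg.PSU n F q) ∈ Subgroup.closure
      {x | x ∈ Subgroup.normalizer ((P1 b hk : Subgroup (Cfsg.PSU n F q)) :
        Set (Cfsg.PSU n F q)) ∧ ∃ j : ℕ, orderOf x = p ^ j} := by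
  apply Subgroup.subset_closure
  refine ⟨?_, orderOf_pr_of_pow p (m := 2) (Qg_pow D p hok.1 (EL_mem_Qg D hok))⟩
  apply pr_mem_normalizer_map
  intro g hg
  apply conj_mem_Qg D (b.ee _ _) one_ne_zero _ hg
  rw [one_smul, sv_EL D hok, h0u, h0w]
  simp

theorem pr_nn_mem_closure (b : Frame D n k r) (hk : 1 ≤ k) {e f ω : Fin n → F}
    (h : HTrip D e f ω) (h0e : H D (b.e (i0 hk)) e = 0) (h0f : H D (b.e (i0 hk)) f = 0)
    (h0ω : H D (b.e (i0 hk)) ω = 0) {α β : F} (hβ : β ≠ 0) (hok : ELOK D e (α • ω) β) :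
    (pr (nn D e f ω α β) : Cfsg.PSU n F q) ∈ Subgroup.closure
      {x | x ∈ Subgroup.normalizer ((P1 b hk : Subgroup (Cfsg.PSU n F q)) :
        Set (Cfsg.PSU n F q)) ∧ ∃ j : ℕ, orderOf x = p ^ j} := by
  have h0 : ∀ c : F, H D (b.e (i0 hk)) (c • ω) = 0 := by
    intro c
    rw [H_smul_right, h0ω, mul_zero]
  unfold nn
  rw [map_mul, map_mul]
  exact Subgroup.mul_mem _ (Subgroup.mul_mem _
    (pr_EL_mem_closure p b hk (nn_ok1 h hβ hok) h0f (h0 _))
    (pr_EL_mem_closure p b hk hok h0e (h0 _)))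
    (pr_EL_mem_closure p b hk (nn_ok3 h hβ hok) h0f (h0 _))

end good

/-! ### The rank one torus element -/

section hh

variable {e f ω : Fin n → F}

theorem sv_inv_of_eq {s : ↥(Cfsg.SU n F q)} {x y : Fin n → F} {c : F} (hc : c ≠ 0)
    (h : sv s x = c • y) : sv s⁻¹ y = c⁻¹ • x := by
  have h3 : sv s⁻¹ (sv s x) = x := sv_inv_sv s x
  rw [h, sv_smul] at h3
  calc sv s⁻¹ y = c⁻¹ • (c • sv s⁻¹ y) := by rw [smul_smul, inv_mul_cancel₀ hc, one_smul]
    _ = c⁻¹ • x := by rw [h3]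

theorem sv_nn_inv_e (h : HTrip D e f ω) {α β : F} (hβ : β ≠ 0) (hok : ELOK D e (α • ω) β) :
    sv (nn D e f ω α β)⁻¹ e = β⁻¹ • f :=
  sv_inv_of_eq hβ (sv_nn_f h hβ hok)

theorem sv_nn_inv_f (h : HTrip D e f ω) {α β : F} (hβ : β ≠ 0) (hok : ELOK D e (α • ω) β) :
    sv (nn D e f ω α β)⁻¹ f = D.τ β • e := by
  have hτβ : D.τ β ≠ 0 := (map_ne_zero D.τ).2 hβ
  have := sv_inv_of_eq (inv_ne_zero hτβ) (sv_nn_e h hβ hok)
  rwa [inv_inv] at this

theorem sv_nn_inv_ω (h : HTrip D e f ω) {α β : F} (hβ : β ≠ 0) (hok : ELOK D e (α • ω) β) :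
    sv (nn D e f ω α β)⁻¹ ω = (-(D.τ β) / β)⁻¹ • ω := by
  have hτβ : D.τ β ≠ 0 := (map_ne_zero D.τ).2 hβ
  have hν : -(D.τ β) / β ≠ 0 := div_ne_zero (neg_ne_zero.2 hτβ) hβ
  exact sv_inv_of_smul hν (sv_nn_ω h hβ hok)

end hh

/-! ### The main decomposition -/

section main

variable (p : ℕ) [Fact p.Prime] [CharP F p]

/-- the core: a diagonal element trivial on `e_i`, `i ≠ 1`, is the rank one torus element -/
theorem dg_eq_hh (b : Frame D n k r) (hr : r ≤ 1) (hk : 2 ≤ k) {t₂ : ↥(Cfsg.SU n F q)}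
    (ht₂ : IsDg b t₂) (hfix : ∀ i, i ≠ i1 hk → sv t₂ (b.e i) = b.e i)
    {ω : Fin n → F} (h : HTrip D (b.e (i1 hk)) (b.f (i1 hk)) ω)
    (hωe : ∀ i, H D (b.e i) ω = 0) (hωf : ∀ i, H D (b.f i) ω = 0)
    (hw : ∀ j, ∃ c : F, b.w j = c • ω)
    {α β β₀ : F} (hβ : β ≠ 0) (hβ₀ : β₀ ≠ 0) (hok : ELOK D (b.e (i1 hk)) (α • ω) β)
    (hok₀ : ELOK D (b.e (i1 hk)) ((0 : F) • ω) β₀)
    (hδ : sv t₂ (b.e (i1 hk)) = (β / β₀) • b.e (i1 hk)) :
    t₂ = nn D (b.e (i1 hk)) (b.f (i1 hk)) ω α β * (nn D (b.e (i1 hk)) (b.f (i1 hk)) ω 0 β₀)⁻¹ := by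
  set e₁ := b.e (i1 hk) with he₁
  set f₁ := b.f (i1 hk) with hf₁
  set N := nn D e₁ f₁ ω α β with hN
  set N₀ := nn D e₁ f₁ ω 0 β₀ with hN₀
  set hh := N * N₀⁻¹ with hhh
  have hτβ : D.τ β ≠ 0 := (map_ne_zero D.τ).2 hβ
  have hτβ₀ : D.τ β₀ ≠ 0 := (map_ne_zero D.τ).2 hβ₀
  -- the action of `hh`
  have hh_e : sv hh e₁ = (β / β₀) • e₁ := by
    rw [hhh, sv_mul, hN₀, sv_nn_inv_e h hβ₀ hok₀, sv_smul, hN, sv_nn_f h hβ hok, smul_smul]
    congr 1
    field_simp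
  have hh_ω : sv hh ω = ((-(D.τ β₀) / β₀)⁻¹ * (-(D.τ β) / β)) • ω := by
    rw [hhh, sv_mul, hN₀, sv_nn_inv_ω h hβ₀ hok₀, sv_smul, hN, sv_nn_ω h hβ hok, smul_smul]
  have hh_perp : ∀ x, H D x e₁ = 0 → H D x f₁ = 0 → H D x ω = 0 → sv hh x = x := by
    intro x h1 h2 h3
    rw [hhh, sv_mul, hN₀, sv_inv_of_sv (sv_nn_perp h hβ₀ hok₀ h1 h2 h3), hN,
      sv_nn_perp h hβ hok h1 h2 h3]
  have hh_ei : ∀ i, i ≠ i1 hk → sv hh (b.e i) = b.e i := by
    intro i hi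
    apply hh_perp
    · exact b.ee _ _
    · rw [hf₁, b.ef, if_neg hi]
    · exact hωe i
  -- `hh` is diagonal
  have hhf : ∀ i, b.InE' (sv hh (b.f i)) := by
    intro i
    by_cases hi : i = i1 hk
    · rw [hi]
      have : sv hh f₁ = (D.τ β₀ * (D.τ β)⁻¹) • f₁ := by
        rw [hhh, sv_mul, hN₀, sv_nn_inv_f h hβ₀ hok₀, sv_smul, hN, sv_nn_e h hβ hok, smul_smul]
      rw [← hf₁, this]
      exact Frame.InE'.smul b ⟨Pi.single (i1 hk) 1, (b.Bf_single _).symm⟩ _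
    · have : sv hh (b.f i) = b.f i := by
        apply hh_perp
        · rw [he₁, b.fe, if_neg hi]
        · exact b.ff _ _
        · exact hωf i
      rw [this]
      exact ⟨Pi.single i 1, (b.Bf_single _).symm⟩
  have hhDg : IsDg b hh := by
    apply isDg_of_e b
    · intro i
      by_cases hi : i = i1 hk
      · rw [hi]
        exact ⟨_, hh_e⟩
      · exact ⟨1, by rw [hh_ei i hi, one_smul]⟩
    · exact hhf
    · intro j
      obtain ⟨c, hc⟩ := hw j
      refine ⟨(-(D.τ β₀) / β₀)⁻¹ * (-(D.τ β) / β), ?_⟩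
      rw [hc, sv_smul, hh_ω, smul_smul, smul_smul, mul_comm]
  -- the quotient
  set z := hh⁻¹ * t₂ with hz
  have hzDg : IsDg b z := IsDg.mul b (IsDg.inv b hhDg) ht₂
  have hze : ∀ i, sv z (b.e i) = b.e i := by
    intro i
    by_cases hi : i = i1 hk
    · rw [hi, hz, sv_mul, hδ, sv_smul, ← he₁]
      have : sv hh⁻¹ e₁ = (β / β₀)⁻¹ • e₁ :=
        sv_inv_of_smul (div_ne_zero hβ hβ₀) hh_e
      rw [this, smul_smul, mul_inv_cancel₀ (div_ne_zero hβ hβ₀), one_smul]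
    · rw [hz, sv_mul, hfix i hi, sv_inv_of_sv (hh_ei i hi)]
  have hzf : ∀ i, sv z (b.f i) = b.f i := by
    intro i
    have h1 := IsDg.eigen_f b hzDg (i := i) (d := 1) (by rw [hze i, one_smul])
    rw [h1, map_one, inv_one, one_smul]
  have hzw : ∀ j, sv z (b.w j) = b.w j := by
    intro j
    obtain ⟨ν, hν⟩ := hzDg (Sum.inr (Sum.inl j))
    have hprod := IsDg.prod_eq_one b hzDg
    rw [Finset.prod_eq_single (Sum.inr (Sum.inl j) : Ix k r)] at hprod
    · rw [IsDg.cm_of_eigen b hν] at hprod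
      rw [fv_w] at hν
      rw [hν, hprod, one_smul]
    · intro a _ ha
      rcases a with i | j' | i
      · exact IsDg.cm_of_eigen b (d := 1) (by rw [fv_e, hze i, one_smul])
      · exfalso
        apply ha
        have : j' = j := by
          apply Fin.ext
          have := j.2
          have := j'.2
          omega
        rw [this]
      · exact IsDg.cm_of_eigen b (d := 1) (by rw [fv_f, hzf i, one_smul])
    · intro h'; exact absurd (Finset.mem_univ _) h'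
  have hz1 : z = 1 := by
    apply ext_fv b
    intro a
    rw [sv_one]
    rcases a with i | j | i
    · exact hze i
    · exact hzw j
    · exact hzf i
  calc t₂ = hh * z := by rw [hz]; group
    _ = hh := by rw [hz1, mul_one]

end main

end Cfsg.Agent.Lib.H25.PSU
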