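import Mathlib
import Cfsg.Prelude.Def_GeometricClasses
import Cfsg.Prelude.Def_ClassicalGeometry

/-!
# The extraspecial group `2^{1+4}_-` inside `GL_4(F)`: elementwise data (helper25)

`Extra R` packages the elementwise facts about an absolutely irreducible extraspecial subgroup
`R = 2^{1+4}_-` of `GL_4(F)`, `char F ≠ 2`, that are used for S6002.
-/

set_option autoImplicit false
open scoped MatrixGroups

namespace Cfsg.Agent.Lib.H25.Ex4

abbrev I4 := Fin 2 ⊕ Fin 2

variable {F : Type*} [Field F]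

/-- elementwise data of an absolutely irreducible `2^{1+4}_-` in `GL_4(F)` -/
structure Extra (R : Subgroup (GL I4 F)) : Prop where
  two_ne : (2 : F) ≠ 0
  neg_mem : (-1 : GL I4 F) ∈ R
  card : Nat.card R = 32
  sq : ∀ a ∈ R, a * a = 1 ∨ a * a = -1
  comm : ∀ a ∈ R, ∀ b ∈ R, a * b = b * a ∨ a * b = -(b * a)
  center : ∀ c ∈ R, (∀ a ∈ R, a * c = c * a) → c = 1 ∨ c = -1
  scal : ∀ M : Matrix I4 I4 F,
    (∀ a ∈ R, M * (a : Matrix I4 I4 F) = (a : Matrix I4 I4 F) * M) →
      ∃ c : F, M = c • (1 : Matrix I4 I4 F)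
  minus : ∀ a ∈ R, ∀ b ∈ R, a * a = 1 → b * b = 1 → a * b = b * a → a ≠ 1 → a ≠ -1 → b ≠ 1 →
    b ≠ -1 → a = b ∨ a = -b

theorem neg_ne_self (h2 : (2 : F) ≠ 0) (a : GL I4 F) : -a ≠ a := by
  intro h
  have h1 : (-(a : Matrix I4 I4 F)) = (a : Matrix I4 I4 F) := by
    have := congrArg (fun u : GL I4 F => (u : Matrix I4 I4 F)) h
    simpa using this
  have h3 : (2 : F) • (a : Matrix I4 I4 F) = 0 := by
    rw [two_smul]
    nth_rewrite 1 [← h1]
    exact neg_add_cancel _
  have h4 : (a : Matrix I4 I4 F) = 0 := by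
    rcases smul_eq_zero.1 h3 with h | h
    · exact absurd h h2
    · exact h
  have h5 := a.isUnit
  rw [h4] at h5
  exact not_isUnit_zero h5

namespace Extra

variable {R : Subgroup (GL I4 F)}

theorem neg_one_ne_one (h : Extra R) : (-1 : GL I4 F) ≠ 1 := neg_ne_self h.two_ne 1

theorem neg_mem' (h : Extra R) {a : GL I4 F} (ha : a ∈ R) : -a ∈ R := by
  have : -a = (-1 : GL I4 F) * a := by rw [neg_mul, one_mul]
  rw [this]
  exact R.mul_mem h.neg_mem ha

theorem neg_mem_iff (h : Extra R) {a : GL I4 F} : -a ∈ R ↔ a ∈ R := by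
  constructor
  · intro ha
    have := h.neg_mem' ha
    rwa [neg_neg] at this
  · exact h.neg_mem'

/-- a non-central element anticommutes with some element -/
theorem exists_anti (h : Extra R) {a : GL I4 F} (ha : a ∈ R) (h1 : a ≠ 1) (h2 : a ≠ -1) :
    ∃ b ∈ R, b * a = -(a * b) := by
  by_contra hcon
  push Not at hcon
  have : ∀ b ∈ R, b * a = a * b := by
    intro b hb
    rcases h.comm b hb a ha with h3 | h3
    · exact h3
    · exact absurd h3 (hcon b hb)
  rcases h.center a ha this with h3 | h3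
  · exact h1 h3
  · exact h2 h3

theorem inv_eq (h : Extra R) {a : GL I4 F} (ha : a ∈ R) : a⁻¹ = a ∨ a⁻¹ = -a := by
  rcases h.sq a ha with h1 | h1
  · left
    exact inv_eq_of_mul_eq_one_right h1
  · right
    apply inv_eq_of_mul_eq_one_right
    rw [mul_neg, h1, neg_neg]

/-- non-central elements have trace zero -/
theorem trace_eq_zero (h : Extra R) {a : GL I4 F} (ha : a ∈ R) (h1 : a ≠ 1) (h2 : a ≠ -1) :
    Matrix.trace (a : Matrix I4 I4 F) = 0 := by
  obtain ⟨b, hb, hba⟩ := h.exists_anti ha h1 h2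
  have e1 : (a : Matrix I4 I4 F) = -((b⁻¹ : GL I4 F) : Matrix I4 I4 F) * ((a : Matrix I4 I4 F) *
      (b : Matrix I4 I4 F)) := by
    have : a = -(b⁻¹ * (a * b)) := by
      have h3 : a * b = -(b * a) := by rw [hba, neg_neg]
      rw [h3, mul_neg, neg_neg, ← mul_assoc, inv_mul_cancel, one_mul]
    have := congrArg (fun u : GL I4 F => (u : Matrix I4 I4 F)) this
    simpa using this
  have e2 : Matrix.trace (a : Matrix I4 I4 F) = - Matrix.trace (a : Matrix I4 I4 F) := by
    nth_rewrite 1 [e1]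
    rw [neg_mul, Matrix.trace_neg, Matrix.trace_mul_comm, Matrix.mul_assoc]
    congr 2
    have : (b : Matrix I4 I4 F) * ((b⁻¹ : GL I4 F) : Matrix I4 I4 F) = 1 := by
      rw [← Units.val_mul, mul_inv_cancel, Units.val_one]
    rw [this, Matrix.mul_one]
  have e3 : (2 : F) * Matrix.trace (a : Matrix I4 I4 F) = 0 := by
    rw [two_mul]
    nth_rewrite 1 [e2]
    exact neg_add_cancel _
  rcases mul_eq_zero.1 e3 with h3 | h3
  · exact absurd h3 h.two_ne
  · exact h3

end Extra

end Cfsg.Agent.Lib.H25.Ex4
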