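import Mathlib
import Cfsg.Agent.Lib.H25.Ex4A

/-!
# Counting in `2^{1+4}_-` (helper25)
-/

set_option autoImplicit false
open scoped MatrixGroups

namespace Cfsg.Agent.Lib.H25.Ex4

variable {F : Type*} [Field F] [Fintype F]

open Classical in
/-- the elements of `R` as a finset -/
noncomputable def Rf (R : Subgroup (GL I4 F)) : Finset (GL I4 F) := Finset.univ.filter (· ∈ R)

open Classical in
theorem mem_Rf {R : Subgroup (GL I4 F)} {g : GL I4 F} : g ∈ Rf R ↔ g ∈ R := by
  simp [Rf]

open Classical in
theorem card_Rf_eq (R : Subgroup (GL I4 F)) : (Rf R).card = Nat.card R := by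
  rw [Nat.card_eq_fintype_card, Fintype.card_subtype]
  rfl

namespace Extra

variable {R : Subgroup (GL I4 F)}

theorem card_Rf (h : Extra R) : (Rf R).card = 32 := by
  rw [card_Rf_eq, h.card]

open Classical in
/-- left multiplication by an anticommuting element swaps commuting and anticommuting elements -/
theorem card_comm_eq_card_anti (h : Extra R) {k : GL I4 F} (hk : k ∈ R) (h1 : k ≠ 1)
    (h2 : k ≠ -1) :
    ((Rf R).filter (fun g => g * k = k * g)).card =
      ((Rf R).filter (fun g => g * k = -(k * g))).card := by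
  obtain ⟨b, hb, hbk⟩ := h.exists_anti hk h1 h2
  have hbk' : b⁻¹ * k = -(k * b⁻¹) := by
    have : k * b⁻¹ = -(b⁻¹ * k) := by
      calc k * b⁻¹ = b⁻¹ * (b * k) * b⁻¹ := by group
        _ = -(b⁻¹ * k) := by
          rw [hbk, mul_neg, neg_mul, ← mul_assoc, mul_assoc, mul_inv_cancel, mul_one]
    rw [this, neg_neg]
  apply Finset.card_nbij' (fun g => b * g) (fun g => b⁻¹ * g)
  · intro g hg
    rw [Finset.mem_coe, Finset.mem_filter, mem_Rf] at hg ⊢
    refine ⟨R.mul_mem hb hg.1, ?_⟩
    rw [mul_assoc, hg.2, ← mul_assoc, hbk, neg_mul, mul_assoc]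
  · intro g hg
    rw [Finset.mem_coe, Finset.mem_filter, mem_Rf] at hg ⊢
    refine ⟨R.mul_mem (R.inv_mem hb) hg.1, ?_⟩
    rw [mul_assoc, hg.2, mul_neg, ← mul_assoc, hbk', neg_mul, neg_neg, mul_assoc]
  · intro g _
    simp
  · intro g _
    simp

open Classical in
theorem card_comm (h : Extra R) {k : GL I4 F} (hk : k ∈ R) (h1 : k ≠ 1) (h2 : k ≠ -1) :
    ((Rf R).filter (fun g => g * k = k * g)).card = 16 := by
  have e1 := h.card_comm_eq_card_anti hk h1 h2
  have e2 : (Rf R).filter (fun g => ¬ g * k = k * g) = (Rf R).filter (fun g => g * k = -(k * g)) := by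
    apply Finset.filter_congr
    intro g hg
    rw [mem_Rf] at hg
    constructor
    · intro hne
      rcases h.comm g hg k hk with h3 | h3
      · exact absurd h3 hne
      · exact h3
    · intro h3 h4
      rw [h3] at h4
      exact neg_ne_self h.two_ne _ h4
  have e3 := Finset.card_filter_add_card_filter_not (s := Rf R) (fun g => g * k = k * g)
  rw [e2, h.card_Rf] at e3
  omega

open Classical in
theorem card_anti (h : Extra R) {k : GL I4 F} (hk : k ∈ R) (h1 : k ≠ 1) (h2 : k ≠ -1) :
    ((Rf R).filter (fun g => g * k = -(k * g))).card = 16 := by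
  rw [← h.card_comm_eq_card_anti hk h1 h2, h.card_comm hk h1 h2]

open Classical in
/-- a non-central element exists -/
theorem exists_noncentral (h : Extra R) : ∃ k ∈ R, k ≠ 1 ∧ k ≠ -1 := by
  have hlt : ({1, -1} : Finset (GL I4 F)).card < (Rf R).card := by
    rw [h.card_Rf]
    exact lt_of_le_of_lt (Finset.card_insert_le _ _) (by simp)
  obtain ⟨k, hk, hk'⟩ := Finset.exists_mem_notMem_of_card_lt_card hlt
  rw [mem_Rf] at hk
  rw [Finset.mem_insert, Finset.mem_singleton, not_or] at hk'
  exact ⟨k, hk, hk'.1, hk'.2⟩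

open Classical in
/-- a non-central involution exists -/
theorem exists_invol (h : Extra R) : ∃ a ∈ R, a * a = 1 ∧ a ≠ 1 ∧ a ≠ -1 := by
  obtain ⟨k, hk, hk1, hk2⟩ := h.exists_noncentral
  rcases h.sq k hk with hkk | hkk
  · exact ⟨k, hk, hkk, hk1, hk2⟩
  · have hlt : ({1, -1, k, -k} : Finset (GL I4 F)).card <
        ((Rf R).filter (fun g => g * k = k * g)).card := by
      rw [h.card_comm hk hk1 hk2]
      refine lt_of_le_of_lt (Finset.card_insert_le _ _) ?_
      refine lt_of_le_of_lt (Nat.succ_le_succ (Finset.card_insert_le _ _)) ?_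
      refine lt_of_le_of_lt (Nat.succ_le_succ (Nat.succ_le_succ (Finset.card_insert_le _ _))) ?_
      simp
    obtain ⟨b, hb, hb'⟩ := Finset.exists_mem_notMem_of_card_lt_card hlt
    rw [Finset.mem_filter, mem_Rf] at hb
    simp only [Finset.mem_insert, Finset.mem_singleton, not_or] at hb'
    obtain ⟨hb1, hb2, hb3, hb4⟩ := hb'
    rcases h.sq b hb.1 with hbb | hbb
    · exact ⟨b, hb.1, hbb, hb1, hb2⟩
    · refine ⟨k * b, R.mul_mem hk hb.1, ?_, ?_, ?_⟩
      · calc k * b * (k * b) = k * (b * k) * b := by group
          _ = k * k * (b * b) := by rw [hb.2]; group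
          _ = 1 := by rw [hkk, hbb, neg_mul_neg, one_mul]
      · intro h3
        apply hb4
        have h4 : k * b = k * (-k) := by rw [h3, mul_neg, hkk, neg_neg]
        exact mul_left_cancel h4
      · intro h3
        apply hb3
        have h4 : k * b = k * k := by rw [h3, hkk]
        exact mul_left_cancel h4

open Classical in
/-- for a non-central involution `a`, the involutions of `R` commuting with `a` -/
theorem card_invol_comm (h : Extra R) {a : GL I4 F} (ha : a ∈ R) (haa : a * a = 1) (h1 : a ≠ 1)
    (h2 : a ≠ -1) :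
    ((Rf R).filter (fun g => g * g = 1 ∧ g * a = a * g)).card = 4 := by
  have e : (Rf R).filter (fun g => g * g = 1 ∧ g * a = a * g) = {1, -1, a, -a} := by
    ext g
    simp only [Finset.mem_filter, mem_Rf, Finset.mem_insert, Finset.mem_singleton]
    constructor
    · rintro ⟨hg, hgg, hga⟩
      by_cases g1 : g = 1
      · left; exact g1
      by_cases g2 : g = -1
      · right; left; exact g2
      rcases h.minus g hg a ha hgg haa hga g1 g2 h1 h2 with h3 | h3
      · right; right; left; exact h3
      · right; right; right; exact h3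
    · rintro (rfl | rfl | rfl | rfl)
      · exact ⟨R.one_mem, by simp, by simp⟩
      · exact ⟨h.neg_mem, by simp, by simp⟩
      · exact ⟨ha, haa, rfl⟩
      · exact ⟨h.neg_mem' ha, by rw [neg_mul_neg, haa], by rw [neg_mul, mul_neg]⟩
  rw [e]
  have n1 : (1 : GL I4 F) ≠ -1 := fun h3 => h.neg_one_ne_one h3.symm
  have n2 : a ≠ -a := fun h3 => neg_ne_self h.two_ne a h3.symm
  have n3 : (1 : GL I4 F) ≠ -a := by
    intro h3
    apply h2
    rw [h3, neg_neg]
  have n4 : (-1 : GL I4 F) ≠ -a := by
    intro h3
    apply h1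
    have := congrArg (fun u : GL I4 F => -u) h3
    simpa using this.symm
  rw [Finset.card_insert_of_notMem, Finset.card_insert_of_notMem, Finset.card_insert_of_notMem,
    Finset.card_singleton]
  · simpa using n2
  · simp only [Finset.mem_insert, Finset.mem_singleton, not_or]
    exact ⟨Ne.symm h2, n4⟩
  · simp only [Finset.mem_insert, Finset.mem_singleton, not_or]
    exact ⟨n1, Ne.symm h1, n3⟩

open Classical in
/-- for a non-central involution `a`, the involutions of `R` anticommuting with `a` -/
theorem card_invol_anti (h : Extra R) {a : GL I4 F} (ha : a ∈ R) (haa : a * a = 1) (h1 : a ≠ 1)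
    (h2 : a ≠ -1) :
    ((Rf R).filter (fun g => g * g = 1 ∧ g * a = -(a * g))).card = 8 := by
  have e1 : ((Rf R).filter (fun g => g * g = 1 ∧ g * a = -(a * g))).card =
      ((Rf R).filter (fun g => ¬ g * g = 1 ∧ g * a = -(a * g))).card := by
    apply Finset.card_nbij' (fun g => a * g) (fun g => a * g)
    · intro g hg
      rw [Finset.mem_coe, Finset.mem_filter, mem_Rf] at hg ⊢
      obtain ⟨hg, hgg, hga⟩ := hg
      have e : a * g * (a * g) = -1 := by
        calc a * g * (a * g) = a * (g * a) * g := by group
          _ = -(a * a * (g * g)) := by rw [hga, mul_neg, neg_mul]; group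
          _ = -1 := by rw [haa, hgg, one_mul]
      refine ⟨R.mul_mem ha hg, ?_, ?_⟩
      · rw [e]
        exact h.neg_one_ne_one
      · show a * g * a = -(a * (a * g))
        rw [mul_assoc, hga, mul_neg]
    · intro g hg
      rw [Finset.mem_coe, Finset.mem_filter, mem_Rf] at hg ⊢
      obtain ⟨hg, hgg, hga⟩ := hg
      have hgg' : g * g = -1 := by
        rcases h.sq g hg with h3 | h3
        · exact absurd h3 hgg
        · exact h3
      refine ⟨R.mul_mem ha hg, ?_, ?_⟩
      · calc a * g * (a * g) = a * (g * a) * g := by group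
          _ = -(a * a * (g * g)) := by rw [hga, mul_neg, neg_mul]; group
          _ = 1 := by rw [haa, hgg', one_mul, neg_neg]
      · show a * g * a = -(a * (a * g))
        rw [mul_assoc, hga, mul_neg]
    · intro g _
      show a * (a * g) = g
      rw [← mul_assoc, haa, one_mul]
    · intro g _
      show a * (a * g) = g
      rw [← mul_assoc, haa, one_mul]
  have e2 := Finset.card_filter_add_card_filter_not
    (s := (Rf R).filter (fun g => g * a = -(a * g))) (fun g => g * g = 1)
  rw [Finset.filter_filter, Finset.filter_filter, h.card_anti ha h1 h2] at e2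
  have e3 : ((Rf R).filter (fun g => g * g = 1 ∧ g * a = -(a * g))) =
      ((Rf R).filter (fun g => g * a = -(a * g) ∧ g * g = 1)) := by
    apply Finset.filter_congr
    intro g _
    exact and_comm
  have e4 : ((Rf R).filter (fun g => ¬ g * g = 1 ∧ g * a = -(a * g))) =
      ((Rf R).filter (fun g => g * a = -(a * g) ∧ ¬ g * g = 1)) := by
    apply Finset.filter_congr
    intro g _
    exact and_comm
  rw [e3, e4] at e1
  rw [e3]
  omega

open Classical in
/-- `R` has exactly 12 elements of square one -/
theorem card_invol (h : Extra R) : ((Rf R).filter (fun g => g * g = 1)).card = 12 := by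
  obtain ⟨a, ha, haa, h1, h2⟩ := h.exists_invol
  have e1 := Finset.card_filter_add_card_filter_not
    (s := (Rf R).filter (fun g => g * g = 1)) (fun g => g * a = a * g)
  rw [Finset.filter_filter, Finset.filter_filter, h.card_invol_comm ha haa h1 h2] at e1
  have e2 : (Rf R).filter (fun g => g * g = 1 ∧ ¬ g * a = a * g) =
      (Rf R).filter (fun g => g * g = 1 ∧ g * a = -(a * g)) := by
    apply Finset.filter_congr
    intro g hg
    rw [mem_Rf] at hg
    constructor
    · rintro ⟨h3, hne⟩
      refine ⟨h3, ?_⟩
      rcases h.comm g hg a ha with h4 | h4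
      · exact absurd h4 hne
      · exact h4
    · rintro ⟨h3, h4⟩
      refine ⟨h3, ?_⟩
      intro h5
      rw [h4] at h5
      exact neg_ne_self h.two_ne _ h5
  rw [e2, h.card_invol_anti ha haa h1 h2] at e1
  omega

end Extra

end Cfsg.Agent.Lib.H25.Ex4
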