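import Mathlib
import Cfsg.Agent.Lib.H25.Ex4B

/-!
# Elements normalizing `2^{1+4}_-`: the trace formula and fixed point counts (helper25)
-/

set_option autoImplicit false
open scoped MatrixGroups

namespace Cfsg.Agent.Lib.H25.Ex4

/-- fixed points of a map of prime-power order on a finset -/
theorem card_fixed_modEq {α : Type*} [DecidableEq α] (S : Finset α) (f : α → α) (r : ℕ)
    [Fact r.Prime] (hS : ∀ g ∈ S, f g ∈ S) (hf : ∀ g ∈ S, f^[r] g = g) :
    (S.filter (fun g => f g = g)).card ≡ S.card [MOD r] := by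
  let f' : Function.End {g // g ∈ S} := fun g => ⟨f g.1, hS g.1 g.2⟩
  have hiter : ∀ (k : ℕ) (g : {g // g ∈ S}), ((f' ^ k) g).1 = f^[k] g.1 := by
    intro k
    induction k with
    | zero => intro g; rfl
    | succ k ih =>
      intro g
      rw [pow_succ', Function.iterate_succ_apply']
      show f ((f' ^ k) g).1 = _
      rw [ih]
  have hf' : f' ^ r ^ 1 = 1 := by
    rw [pow_one]
    funext g
    apply Subtype.ext
    rw [hiter]
    exact hf g.1 g.2
  have h1 := Equiv.Perm.card_fixedPoints_modEq hf'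
  rw [Fintype.card_coe] at h1
  have h2 : Fintype.card (Function.fixedPoints f') = (S.filter (fun g => f g = g)).card := by
    rw [← Fintype.card_coe]
    apply Fintype.card_congr
    refine ⟨fun g => ⟨g.1.1, ?_⟩, fun g => ⟨⟨g.1, (Finset.mem_filter.1 g.2).1⟩, ?_⟩, ?_, ?_⟩
    · rw [Finset.mem_filter]
      refine ⟨g.1.2, ?_⟩
      have := g.2
      rw [Function.mem_fixedPoints, Function.IsFixedPt] at this
      exact congrArg Subtype.val this
    · rw [Function.mem_fixedPoints, Function.IsFixedPt]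
      apply Subtype.ext
      exact (Finset.mem_filter.1 g.2).2
    · intro g
      rfl
    · intro g
      rfl
  rw [h2] at h1
  exact h1.symm

variable {F : Type*} [Field F] [Fintype F]

namespace Extra

variable {R : Subgroup (GL I4 F)}

/-- averaging over `R` projects onto the scalars -/
theorem avg (h : Extra R) (M : Matrix I4 I4 F) :
    ∑ g ∈ Rf R, (g : Matrix I4 I4 F) * M * ((g⁻¹ : GL I4 F) : Matrix I4 I4 F) =
      (8 * Matrix.trace M) • (1 : Matrix I4 I4 F) := by
  classical
  set E := ∑ g ∈ Rf R, (g : Matrix I4 I4 F) * M * ((g⁻¹ : GL I4 F) : Matrix I4 I4 F) with hE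
  have hcomm : ∀ a ∈ R, E * (a : Matrix I4 I4 F) = (a : Matrix I4 I4 F) * E := by
    intro a ha
    have e1 : (a : Matrix I4 I4 F) * E * ((a⁻¹ : GL I4 F) : Matrix I4 I4 F) = E := by
      rw [hE, Finset.mul_sum, Finset.sum_mul]
      apply Finset.sum_nbij' (fun g => a * g) (fun g => a⁻¹ * g)
      · intro g hg
        rw [mem_Rf] at hg ⊢
        exact R.mul_mem ha hg
      · intro g hg
        rw [mem_Rf] at hg ⊢
        exact R.mul_mem (R.inv_mem ha) hg
      · intro g _
        simp
      · intro g _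
        simp
      · intro g _
        rw [mul_inv_rev, Units.val_mul, Units.val_mul]
        simp only [Matrix.mul_assoc]
    calc E * (a : Matrix I4 I4 F)
        = (a : Matrix I4 I4 F) * E * ((a⁻¹ : GL I4 F) : Matrix I4 I4 F) * (a : Matrix I4 I4 F) := by
          rw [e1]
      _ = (a : Matrix I4 I4 F) * E := by
          rw [Matrix.mul_assoc, ← Units.val_mul, inv_mul_cancel, Units.val_one, Matrix.mul_one]
  obtain ⟨c, hc⟩ := h.scal E hcomm
  have htr : Matrix.trace E = 32 * Matrix.trace M := by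
    rw [hE, Matrix.trace_sum]
    have : ∀ g ∈ Rf R, Matrix.trace ((g : Matrix I4 I4 F) * M *
        ((g⁻¹ : GL I4 F) : Matrix I4 I4 F)) = Matrix.trace M := by
      intro g _
      rw [Matrix.trace_mul_comm, ← Matrix.mul_assoc, ← Units.val_mul, inv_mul_cancel,
        Units.val_one, Matrix.one_mul]
    rw [Finset.sum_congr rfl this, Finset.sum_const, h.card_Rf]
    simp
  rw [hc, Matrix.trace_smul, Matrix.trace_one] at htr
  have h4 : (4 : F) ≠ 0 := by
    have : (4 : F) = 2 * 2 := by norm_num
    rw [this]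
    exact mul_ne_zero h.two_ne h.two_ne
  have hc8 : c = 8 * Matrix.trace M := by
    have e : (Fintype.card I4 : F) = 4 := by
      simp [I4]
    rw [e, smul_eq_mul] at htr
    apply mul_left_cancel₀ h4
    rw [← mul_assoc]
    norm_num
    linear_combination htr
  rw [hc, hc8]

theorem conj_mem (_h : Extra R) {x : GL I4 F} (hx : x ∈ Subgroup.normalizer (R : Set (GL I4 F)))
    {g : GL I4 F} (hg : g ∈ R) : x * g * x⁻¹ ∈ R :=
  (Subgroup.mem_normalizer_iff.1 hx g).1 hg

theorem conj_mem' (_h : Extra R) {x : GL I4 F} (hx : x ∈ Subgroup.normalizer (R : Set (GL I4 F)))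
    {g : GL I4 F} (hg : g ∈ R) : x⁻¹ * g * x ∈ R := by
  have := (Subgroup.mem_normalizer_iff.1 (Subgroup.inv_mem _ hx) g).1 hg
  rwa [inv_inv] at this

open Classical in
/-- traces of the elements of `R` -/
theorem trace_cases (h : Extra R) {k : GL I4 F} (hk : k ∈ R) :
    Matrix.trace (k : Matrix I4 I4 F) = (if k = 1 then 4 else 0) + (if k = -1 then -4 else 0) := by
  have e : (Fintype.card I4 : F) = 4 := by simp [I4]
  by_cases h1 : k = 1
  · rw [if_pos h1, if_neg, add_zero, h1, Units.val_one, Matrix.trace_one, e]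
    rw [h1]
    exact fun h3 => h.neg_one_ne_one h3.symm
  · by_cases h2 : k = -1
    · rw [if_neg h1, if_pos h2, zero_add, h2, Units.val_neg, Units.val_one, Matrix.trace_neg,
        Matrix.trace_one, e]
    · rw [if_neg h1, if_neg h2, add_zero]
      exact h.trace_eq_zero hk h1 h2

open Classical in
/-- the trace formula -/
theorem trace_formula (h : Extra R) {x : GL I4 F}
    (hx : x ∈ Subgroup.normalizer (R : Set (GL I4 F))) :
    2 * (Matrix.trace (x : Matrix I4 I4 F) * Matrix.trace ((x⁻¹ : GL I4 F) : Matrix I4 I4 F)) =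
      (((Rf R).filter (fun g => g * x = x * g)).card : F) -
        (((Rf R).filter (fun g => g * x = -(x * g))).card : F) := by
  have h1 := h.avg (x : Matrix I4 I4 F)
  have h2 := congrArg (fun M => Matrix.trace (M * ((x⁻¹ : GL I4 F) : Matrix I4 I4 F))) h1
  rw [Finset.sum_mul, Matrix.trace_sum, Matrix.smul_mul, Matrix.one_mul, Matrix.trace_smul,
    smul_eq_mul] at h2
  have h3 : ∀ g ∈ Rf R, Matrix.trace ((g : Matrix I4 I4 F) * (x : Matrix I4 I4 F) *
      ((g⁻¹ : GL I4 F) : Matrix I4 I4 F) * ((x⁻¹ : GL I4 F) : Matrix I4 I4 F)) =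
      (if g * x = x * g then 4 else 0) + (if g * x = -(x * g) then -4 else 0) := by
    intro g hg
    rw [mem_Rf] at hg
    have hk : g * (x * g⁻¹ * x⁻¹) ∈ R := R.mul_mem hg (h.conj_mem hx (R.inv_mem hg))
    have e1 : (g : Matrix I4 I4 F) * (x : Matrix I4 I4 F) *
      ((g⁻¹ : GL I4 F) : Matrix I4 I4 F) * ((x⁻¹ : GL I4 F) : Matrix I4 I4 F) =
        ((g * (x * g⁻¹ * x⁻¹) : GL I4 F) : Matrix I4 I4 F) := by
      simp only [Units.val_mul, Matrix.mul_assoc]
    rw [e1, h.trace_cases hk]
    have e2 : g * (x * g⁻¹ * x⁻¹) = 1 ↔ g * x = x * g := by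
      constructor
      · intro h4
        have : g * x = g * (x * g⁻¹ * x⁻¹) * (x * g) := by group
        rw [this, h4, one_mul]
      · intro h4
        calc g * (x * g⁻¹ * x⁻¹) = g * x * g⁻¹ * x⁻¹ := by group
          _ = 1 := by rw [h4]; group
    have e3 : g * (x * g⁻¹ * x⁻¹) = -1 ↔ g * x = -(x * g) := by
      constructor
      · intro h4
        have : g * x = g * (x * g⁻¹ * x⁻¹) * (x * g) := by group
        rw [this, h4, neg_mul, one_mul]
      · intro h4
        calc g * (x * g⁻¹ * x⁻¹) = g * x * g⁻¹ * x⁻¹ := by group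
          _ = -1 := by rw [h4, neg_mul, neg_mul]; group
    simp only [e2, e3]
  rw [Finset.sum_congr rfl h3, Finset.sum_add_distrib, ← Finset.sum_filter, ← Finset.sum_filter,
    Finset.sum_const, Finset.sum_const, nsmul_eq_mul, nsmul_eq_mul] at h2
  have h4 : (4 : F) ≠ 0 := by
    have : (4 : F) = 2 * 2 := by norm_num
    rw [this]
    exact mul_ne_zero h.two_ne h.two_ne
  apply mul_left_cancel₀ h4
  linear_combination -h2

open Classical in
/-- the anticommuting set is empty or as large as the centralizer -/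
theorem card_anti_cases (_h : Extra R) (x : GL I4 F) :
    ((Rf R).filter (fun g => g * x = -(x * g))).card = 0 ∨
      ((Rf R).filter (fun g => g * x = -(x * g))).card =
        ((Rf R).filter (fun g => g * x = x * g)).card := by
  by_cases hex : ∃ b ∈ R, b * x = -(x * b)
  · right
    obtain ⟨b, hb, hbk⟩ := hex
    have hbk' : b⁻¹ * x = -(x * b⁻¹) := by
      have : x * b⁻¹ = -(b⁻¹ * x) := by
        calc x * b⁻¹ = b⁻¹ * (b * x) * b⁻¹ := by group
          _ = -(b⁻¹ * x) := by
            rw [hbk, mul_neg, neg_mul, ← mul_assoc, mul_assoc, mul_inv_cancel, mul_one]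
      rw [this, neg_neg]
    symm
    apply Finset.card_nbij' (fun g => b * g) (fun g => b⁻¹ * g)
    · intro g hg
      rw [Finset.mem_coe, Finset.mem_filter, mem_Rf] at hg ⊢
      refine ⟨R.mul_mem hb hg.1, ?_⟩
      rw [mul_assoc, hg.2, ← mul_assoc, hbk, neg_mul, mul_assoc]
    · intro g hg
      rw [Finset.mem_coe, Finset.mem_filter, mem_Rf] at hg ⊢
      refine ⟨R.mul_mem (R.inv_mem hb) hg.1, ?_⟩
      rw [mul_assoc, hg.2, mul_neg, ← mul_assoc, hbk', neg_mul, neg_neg, mul_assoc]
    · intro g _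
      simp
    · intro g _
      simp
  · left
    rw [Finset.card_eq_zero, Finset.filter_eq_empty_iff]
    intro g hg h3
    rw [mem_Rf] at hg
    exact hex ⟨g, hg, h3⟩

open Classical in
/-- `2 tr(x) tr(x⁻¹)` is `0` or `|C_R(x)|` -/
theorem trace_cases' (h : Extra R) {x : GL I4 F}
    (hx : x ∈ Subgroup.normalizer (R : Set (GL I4 F))) :
    2 * (Matrix.trace (x : Matrix I4 I4 F) * Matrix.trace ((x⁻¹ : GL I4 F) : Matrix I4 I4 F)) = 0 ∨
    2 * (Matrix.trace (x : Matrix I4 I4 F) * Matrix.trace ((x⁻¹ : GL I4 F) : Matrix I4 I4 F)) =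
      (((Rf R).filter (fun g => g * x = x * g)).card : F) := by
  rw [h.trace_formula hx]
  rcases h.card_anti_cases x with h1 | h1
  · right
    rw [h1, Nat.cast_zero, sub_zero]
  · left
    rw [h1, sub_self]

end Extra

theorem iter_conj {G : Type*} [Group G] (x g : G) (k : ℕ) :
    (fun g => x * g * x⁻¹)^[k] g = x ^ k * g * (x ^ k)⁻¹ := by
  induction k with
  | zero => simp
  | succ k ih =>
    rw [Function.iterate_succ_apply', ih, pow_succ']
    group

open Classical in
/-- the non-central involutions of `R` -/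
noncomputable def Sf (R : Subgroup (GL I4 F)) : Finset (GL I4 F) :=
  (Rf R).filter (fun g => g * g = 1 ∧ g ≠ 1 ∧ g ≠ -1)

open Classical in
theorem mem_Sf {R : Subgroup (GL I4 F)} {g : GL I4 F} :
    g ∈ Sf R ↔ g ∈ R ∧ g * g = 1 ∧ g ≠ 1 ∧ g ≠ -1 := by
  rw [Sf, Finset.mem_filter, mem_Rf]

namespace Extra

variable {R : Subgroup (GL I4 F)}

open Classical in
theorem card_Sf (h : Extra R) : (Sf R).card = 10 := by
  have e : Sf R = ((Rf R).filter (fun g => g * g = 1)) \ {1, -1} := by
    ext g
    rw [mem_Sf, Finset.mem_sdiff, Finset.mem_filter, mem_Rf, Finset.mem_insert,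
      Finset.mem_singleton, not_or]
    tauto
  rw [e, Finset.card_sdiff_of_subset, h.card_invol, Finset.card_insert_of_notMem,
    Finset.card_singleton]
  · rw [Finset.mem_singleton]
    exact fun h3 => h.neg_one_ne_one h3.symm
  · intro g hg
    rw [Finset.mem_insert, Finset.mem_singleton] at hg
    rw [Finset.mem_filter, mem_Rf]
    rcases hg with rfl | rfl
    · exact ⟨R.one_mem, one_mul 1⟩
    · exact ⟨h.neg_mem, by rw [neg_mul_neg, one_mul]⟩

open Classical in
theorem card_cent_modEq (h : Extra R) {x : GL I4 F}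
    (hx : x ∈ Subgroup.normalizer (R : Set (GL I4 F))) (r : ℕ) [Fact r.Prime]
    (hxr : ∀ g ∈ R, x ^ r * g = g * x ^ r) :
    ((Rf R).filter (fun g => g * x = x * g)).card ≡ 32 [MOD r] := by
  have h1 := card_fixed_modEq (Rf R) (fun g => x * g * x⁻¹) r
    (fun g hg => by
      rw [mem_Rf] at hg ⊢
      exact h.conj_mem hx hg)
    (fun g hg => by
      rw [mem_Rf] at hg
      rw [iter_conj, hxr g hg, mul_assoc, mul_inv_cancel, mul_one])
  rw [h.card_Rf] at h1
  have e : (Rf R).filter (fun g => x * g * x⁻¹ = g) = (Rf R).filter (fun g => g * x = x * g) := by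
    apply Finset.filter_congr
    intro g _
    rw [mul_inv_eq_iff_eq_mul]
    exact eq_comm
  rw [← e]
  exact h1

open Classical in
theorem card_invol_cent_modEq (h : Extra R) {x : GL I4 F}
    (hx : x ∈ Subgroup.normalizer (R : Set (GL I4 F))) (r : ℕ) [Fact r.Prime]
    (hxr : ∀ g ∈ R, x ^ r * g = g * x ^ r) :
    ((Sf R).filter (fun g => g * x = x * g)).card ≡ 10 [MOD r] := by
  have h1 := card_fixed_modEq (Sf R) (fun g => x * g * x⁻¹) r
    (fun g hg => by
      rw [mem_Sf] at hg ⊢
      obtain ⟨hg, hgg, g1, g2⟩ := hg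
      refine ⟨h.conj_mem hx hg, ?_, ?_, ?_⟩
      · calc x * g * x⁻¹ * (x * g * x⁻¹) = x * (g * g) * x⁻¹ := by group
          _ = 1 := by rw [hgg]; group
      · intro h3
        apply g1
        calc g = x⁻¹ * (x * g * x⁻¹) * x := by group
          _ = 1 := by rw [h3]; group
      · intro h3
        apply g2
        calc g = x⁻¹ * (x * g * x⁻¹) * x := by group
          _ = -1 := by rw [h3, mul_neg, neg_mul]; group)
    (fun g hg => by
      rw [mem_Sf] at hg
      rw [iter_conj, hxr g hg.1, mul_assoc, mul_inv_cancel, mul_one])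
  rw [h.card_Sf] at h1
  have e : (Sf R).filter (fun g => x * g * x⁻¹ = g) = (Sf R).filter (fun g => g * x = x * g) := by
    apply Finset.filter_congr
    intro g _
    rw [mul_inv_eq_iff_eq_mul]
    exact eq_comm
  rw [← e]
  exact h1

open Classical in
theorem card_invol_cent_le (h : Extra R) (x : GL I4 F) :
    ((Sf R).filter (fun g => g * x = x * g)).card + 2 ≤
      ((Rf R).filter (fun g => g * x = x * g)).card := by
  have hd : Disjoint ((Sf R).filter (fun g => g * x = x * g)) ({1, -1} : Finset (GL I4 F)) := by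
    rw [Finset.disjoint_left]
    intro g hg hg'
    rw [Finset.mem_filter, mem_Sf] at hg
    rw [Finset.mem_insert, Finset.mem_singleton] at hg'
    rcases hg' with h3 | h3
    · exact hg.1.2.2.1 h3
    · exact hg.1.2.2.2 h3
  have hc : ({1, -1} : Finset (GL I4 F)).card = 2 := by
    rw [Finset.card_insert_of_notMem, Finset.card_singleton]
    rw [Finset.mem_singleton]
    exact fun h3 => h.neg_one_ne_one h3.symm
  have hu := Finset.card_union_of_disjoint hd
  rw [hc] at hu
  rw [← hu]
  apply Finset.card_le_card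
  intro g hg
  rw [Finset.mem_union] at hg
  rw [Finset.mem_filter, mem_Rf]
  rcases hg with hg | hg
  · rw [Finset.mem_filter, mem_Sf] at hg
    exact ⟨hg.1.1, hg.2⟩
  · rw [Finset.mem_insert, Finset.mem_singleton] at hg
    rcases hg with rfl | rfl
    · exact ⟨R.one_mem, by rw [one_mul, mul_one]⟩
    · exact ⟨h.neg_mem, by rw [neg_mul, mul_neg, one_mul, mul_one]⟩

open Classical in
theorem card_cent_dvd (h : Extra R) (x : GL I4 F) :
    ((Rf R).filter (fun g => g * x = x * g)).card ∣ 32 := by
  have e : (Rf R).filter (fun g => g * x = x * g) = Rf (R ⊓ Subgroup.centralizer {x}) := by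
    ext g
    rw [Finset.mem_filter, mem_Rf, mem_Rf, Subgroup.mem_inf, Subgroup.mem_centralizer_iff]
    constructor
    · rintro ⟨h1, h2⟩
      refine ⟨h1, ?_⟩
      intro y hy
      rw [Set.mem_singleton_iff] at hy
      rw [hy, h2]
    · rintro ⟨h1, h2⟩
      exact ⟨h1, (h2 x rfl).symm⟩
  rw [e, card_Rf_eq, ← h.card]
  exact Subgroup.card_dvd_of_le inf_le_left

open Classical in
theorem card_cent_ne (h : Extra R) {x : GL I4 F} (hnc : ∃ g ∈ R, g * x ≠ x * g) :
    ((Rf R).filter (fun g => g * x = x * g)).card ≠ 32 := by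
  intro h1
  obtain ⟨g, hg, hgx⟩ := hnc
  have h2 : (Rf R).filter (fun g => g * x = x * g) = Rf R := by
    apply Finset.eq_of_subset_of_card_le (Finset.filter_subset _ _)
    rw [h1, h.card_Rf]
  have h3 : g ∈ (Rf R).filter (fun g => g * x = x * g) := by
    rw [h2, mem_Rf]
    exact hg
  rw [Finset.mem_filter] at h3
  exact hgx h3.2

open Classical in
/-- the order of the centralizer in `R` of a non-centralizing element of order `r` modulo
the centralizer of `R` -/
theorem card_cent_cases (h : Extra R) {x : GL I4 F}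
    (hx : x ∈ Subgroup.normalizer (R : Set (GL I4 F))) (r : ℕ) [Fact r.Prime]
    (hxr : ∀ g ∈ R, x ^ r * g = g * x ^ r) (hnc : ∃ g ∈ R, g * x ≠ x * g) :
    (r = 3 → ((Rf R).filter (fun g => g * x = x * g)).card = 8) ∧
    (r = 5 → ((Rf R).filter (fun g => g * x = x * g)).card = 2) ∧ (7 ≤ r → False) := by
  have hr : r.Prime := Fact.out
  have h1 := h.card_cent_modEq hx r hxr
  have h2 := h.card_invol_cent_modEq hx r hxr
  have h3 := h.card_invol_cent_le x
  have h4 := h.card_cent_dvd x
  have h5 := h.card_cent_ne hnc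
  obtain ⟨C, hC⟩ : ∃ C, C = ((Rf R).filter (fun g => g * x = x * g)).card := ⟨_, rfl⟩
  obtain ⟨D, hD⟩ : ∃ D, D = ((Sf R).filter (fun g => g * x = x * g)).card := ⟨_, rfl⟩
  rw [← hC] at h1 h3 h4 h5 ⊢
  rw [← hD] at h2 h3
  have hle : C ≤ 32 := Nat.le_of_dvd (by norm_num) h4
  unfold Nat.ModEq at h1 h2
  refine ⟨?_, ?_, ?_⟩
  · intro hr3
    subst hr3
    interval_cases C <;> omega
  · intro hr5
    subst hr5
    interval_cases C <;> omega
  · intro hr7
    have hdvd : r ∣ 32 - C := (Nat.modEq_iff_dvd' hle).1 (show C ≡ 32 [MOD r] from h1)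
    have hcases : C = 1 ∨ C = 2 ∨ C = 4 ∨ C = 8 ∨ C = 16 ∨ C = 32 := by
      interval_cases C <;> omega
    rcases hcases with rfl | rfl | rfl | rfl | rfl | rfl
    · omega
    · have e : 32 - 2 = 2 * (3 * 5) := by norm_num
      rw [e] at hdvd
      rcases (Nat.Prime.dvd_mul hr).1 hdvd with h6 | h6
      · have := Nat.le_of_dvd (by norm_num) h6
        omega
      · rcases (Nat.Prime.dvd_mul hr).1 h6 with h7 | h7
        · have := Nat.le_of_dvd (by norm_num) h7
          omega
        · have := Nat.le_of_dvd (by norm_num) h7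
          omega
    · have e : 32 - 4 = 4 * 7 := by norm_num
      rw [e] at hdvd
      rcases (Nat.Prime.dvd_mul hr).1 hdvd with h6 | h6
      · have := Nat.le_of_dvd (by norm_num) h6
        omega
      · have h7 := Nat.le_of_dvd (by norm_num) h6
        have h8 : r = 7 := by omega
        subst h8
        omega
    · have e : 32 - 8 = 8 * 3 := by norm_num
      rw [e] at hdvd
      rcases (Nat.Prime.dvd_mul hr).1 hdvd with h6 | h6
      · have h7 : r ∣ 2 ^ 3 := by
          have : (8 : ℕ) = 2 ^ 3 := by norm_num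
          rwa [this] at h6
        have := Nat.le_of_dvd (by norm_num) (hr.dvd_of_dvd_pow h7)
        omega
      · have := Nat.le_of_dvd (by norm_num) h6
        omega
    · have e : 32 - 16 = 2 ^ 4 := by norm_num
      rw [e] at hdvd
      have := Nat.le_of_dvd (by norm_num) (hr.dvd_of_dvd_pow hdvd)
      omega
    · exact h5 rfl

end Extra

end Cfsg.Agent.Lib.H25.Ex4
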