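import Mathlib
import Cfsg.Agent.Lib.H25.Ex4C

/-!
# Transvections do not normalize `2^{1+4}_-` (helper25)
-/

set_option autoImplicit false
open scoped MatrixGroups
open Matrix

namespace Cfsg.Agent.Lib.H25.Ex4

variable {F : Type*} [Field F]

/-- the linear algebra core: a rank one square-zero `A` and an involution `U` with
`2U + AU - UA = 2` force `U = 1` -/
theorem tv_core {n : Type*} [Fintype n] [DecidableEq n] (h2 : (2 : F) ≠ 0) (a φ : n → F)
    (U : Matrix n n F) (hA : vecMulVec a φ ≠ 0) (hAA : vecMulVec a φ * vecMulVec a φ = 0)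
    (hUU : U * U = 1)
    (hstar : (2 : F) • U + vecMulVec a φ * U - U * vecMulVec a φ = (2 : F) • (1 : Matrix n n F)) :
    U = 1 := by
  set A := vecMulVec a φ with hAdef
  set c : F := (φ ᵥ* U) ⬝ᵥ a with hc
  have hAUA : A * U * A = c • A := by
    rw [hAdef, vecMulVec_mul, vecMulVec_mul_vecMulVec, vecMulVec_smul]
  have e1 : (2 : F) • (A * U) = (2 + c) • A := by
    have := congrArg (fun M => A * M) hstar
    simp only [Matrix.mul_sub, Matrix.mul_add, Matrix.mul_smul, Matrix.mul_one] at this
    rw [← Matrix.mul_assoc A A U, hAA, Matrix.zero_mul, add_zero, ← Matrix.mul_assoc, hAUA] at this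
    rw [add_smul, ← this, sub_add_cancel]
  have e2 : (2 : F) • (U * A) = (2 - c) • A := by
    have := congrArg (fun M => M * A) hstar
    simp only [Matrix.sub_mul, Matrix.add_mul, Matrix.smul_mul, Matrix.one_mul] at this
    rw [Matrix.mul_assoc U A A, hAA, Matrix.mul_zero, sub_zero, hAUA] at this
    rw [sub_smul, ← this, add_sub_cancel_right]
  have e3 : ((2 + c) * (2 + c)) • A = (4 : F) • A := by
    calc ((2 + c) * (2 + c)) • A = (2 + c) • ((2 + c) • A) := by rw [smul_smul]
      _ = (2 + c) • ((2 : F) • (A * U)) := by rw [e1]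
      _ = (2 : F) • (((2 + c) • A) * U) := by rw [smul_comm, Matrix.smul_mul]
      _ = (2 : F) • (((2 : F) • (A * U)) * U) := by rw [e1]
      _ = (4 : F) • A := by
        rw [Matrix.smul_mul, Matrix.mul_assoc, hUU, Matrix.mul_one, smul_smul]
        norm_num
  have e4 : ((2 - c) * (2 - c)) • A = (4 : F) • A := by
    calc ((2 - c) * (2 - c)) • A = (2 - c) • ((2 - c) • A) := by rw [smul_smul]
      _ = (2 - c) • ((2 : F) • (U * A)) := by rw [e2]
      _ = (2 : F) • (U * ((2 - c) • A)) := by rw [smul_comm, Matrix.mul_smul]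
      _ = (2 : F) • (U * ((2 : F) • (U * A))) := by rw [e2]
      _ = (4 : F) • A := by
        rw [Matrix.mul_smul, ← Matrix.mul_assoc, hUU, Matrix.one_mul, smul_smul]
        norm_num
  have cancel : ∀ x y : F, x • A = y • A → x = y := by
    intro x y hxy
    have : (x - y) • A = 0 := by rw [sub_smul, hxy, sub_self]
    rcases smul_eq_zero.1 this with h | h
    · exact sub_eq_zero.1 h
    · exact absurd h hA
  have e5 := cancel _ _ e3
  have e6 := cancel _ _ e4
  have hc0 : c = 0 := by
    have h8 : (8 : F) ≠ 0 := by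
      have : (8 : F) = 2 * 2 * 2 := by norm_num
      rw [this]
      exact mul_ne_zero (mul_ne_zero h2 h2) h2
    have : (8 : F) * c = 0 := by linear_combination e5 - e6
    rcases mul_eq_zero.1 this with h | h
    · exact absurd h h8
    · exact h
  rw [hc0, add_zero] at e1
  rw [hc0, sub_zero] at e2
  have e7 : A * U = A := by
    have : (2 : F) • (A * U - A) = 0 := by rw [smul_sub, e1, sub_self]
    rcases smul_eq_zero.1 this with h | h
    · exact absurd h h2
    · exact sub_eq_zero.1 h
  have e8 : U * A = A := by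
    have : (2 : F) • (U * A - A) = 0 := by rw [smul_sub, e2, sub_self]
    rcases smul_eq_zero.1 this with h | h
    · exact absurd h h2
    · exact sub_eq_zero.1 h
  rw [e7, e8, add_sub_cancel_right] at hstar
  have : (2 : F) • (U - 1) = 0 := by rw [smul_sub, hstar, sub_self]
  rcases smul_eq_zero.1 this with h | h
  · exact absurd h h2
  · exact sub_eq_zero.1 h

/-- two linear functionals on a four-dimensional space have a common nonzero kernel vector -/
theorem exists_common_ker (φ ψ : I4 → F) : ∃ w : I4 → F, w ≠ 0 ∧ φ ⬝ᵥ w = 0 ∧ ψ ⬝ᵥ w = 0 := by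
  let L : (I4 → F) →ₗ[F] (Fin 2 → F) := Matrix.mulVecLin (Matrix.of ![φ, ψ])
  have hlt : Module.finrank F (Fin 2 → F) < Module.finrank F (I4 → F) := by
    rw [Module.finrank_fintype_fun_eq_card, Module.finrank_fintype_fun_eq_card]
    simp [I4]
  have hker := LinearMap.ker_ne_bot_of_finrank_lt (f := L) hlt
  obtain ⟨w, hw, hw0⟩ := Submodule.exists_mem_ne_zero_of_ne_bot hker
  rw [LinearMap.mem_ker] at hw
  refine ⟨w, hw0, ?_, ?_⟩
  · have := congrFun hw 0
    simpa [L, Matrix.mulVec] using this
  · have := congrFun hw 1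
    simpa [L, Matrix.mulVec] using this

variable [Fintype F] {R : Subgroup (GL I4 F)}

/-- an element `1 + A` with `A` of rank one does not normalize `R` -/
theorem Extra.not_tv (h : Extra R) (T : GL I4 F) (a φ : I4 → F)
    (hT : (T : Matrix I4 I4 F) = 1 + vecMulVec a φ)
    (hTi : ((T⁻¹ : GL I4 F) : Matrix I4 I4 F) = 1 - vecMulVec a φ)
    (hA : vecMulVec a φ ≠ 0) : T ∉ Subgroup.normalizer (R : Set (GL I4 F)) := by
  intro hmem
  set A := vecMulVec a φ with hAdef
  have hAA : A * A = 0 := by
    have h1 : (T : Matrix I4 I4 F) * ((T⁻¹ : GL I4 F) : Matrix I4 I4 F) = 1 := by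
      rw [← Units.val_mul, mul_inv_cancel, Units.val_one]
    rw [hT, hTi] at h1
    have h2 : (1 + A) * (1 - A) = 1 - A * A := by noncomm_ring
    rw [h2] at h1
    have h3 : A * A = 1 - (1 - A * A) := by noncomm_ring
    rw [h3, h1, sub_self]
  have key : ∀ k ∈ R, k⁻¹ * T * k = T := by
    intro k hk
    set u := T⁻¹ * (k⁻¹ * T * k) with hu
    have hu_mem : u ∈ R := by
      have h1 : T⁻¹ * k⁻¹ * T ∈ R := h.conj_mem' hmem (R.inv_mem hk)
      have h2 : u = T⁻¹ * k⁻¹ * T * k := by rw [hu]; group
      rw [h2]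
      exact R.mul_mem h1 hk
    set K := (k : Matrix I4 I4 F) with hK
    set Ki := ((k⁻¹ : GL I4 F) : Matrix I4 I4 F) with hKi
    have hKiK : Ki * K = 1 := by rw [hKi, hK, ← Units.val_mul, inv_mul_cancel, Units.val_one]
    set B := Ki * A * K with hB
    have hBv : B = vecMulVec (Ki *ᵥ a) (φ ᵥ* K) := by
      rw [hB, hAdef, mul_vecMulVec, vecMulVec_mul]
    have hT2 : ((k⁻¹ * T * k : GL I4 F) : Matrix I4 I4 F) = 1 + B := by
      rw [Units.val_mul, Units.val_mul, hT, hB, Matrix.mul_add, Matrix.add_mul, Matrix.mul_one,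
        hKiK]
    have hT2i : ((k⁻¹ * T⁻¹ * k : GL I4 F) : Matrix I4 I4 F) = 1 - B := by
      rw [Units.val_mul, Units.val_mul, hTi, hB, Matrix.mul_sub, Matrix.sub_mul, Matrix.mul_one,
        hKiK]
    have hU : (u : Matrix I4 I4 F) = (1 - A) * (1 + B) := by
      rw [hu, Units.val_mul, hTi, hT2]
    rcases h.sq u hu_mem with huu | huu
    · -- `u * u = 1`
      have hTu : T * u = k⁻¹ * T * k := by rw [hu]; group
      have huT : u * T⁻¹ = k⁻¹ * T⁻¹ * k := by
        have h1 : u⁻¹ = u := inv_eq_of_mul_eq_one_right huu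
        calc u * T⁻¹ = u⁻¹ * T⁻¹ := by rw [h1]
          _ = (T * u)⁻¹ := by group
          _ = k⁻¹ * T⁻¹ * k := by rw [hTu]; group
      have m1 : (1 + A) * (u : Matrix I4 I4 F) = 1 + B := by
        rw [← hT, ← Units.val_mul, hTu, hT2]
      have m2 : (u : Matrix I4 I4 F) * (1 - A) = 1 - B := by
        rw [← hTi, ← Units.val_mul, huT, hT2i]
      have hstar : (2 : F) • (u : Matrix I4 I4 F) + A * (u : Matrix I4 I4 F) -
          (u : Matrix I4 I4 F) * A = (2 : F) • (1 : Matrix I4 I4 F) := by
        have h1 : (2 : F) • (u : Matrix I4 I4 F) + A * (u : Matrix I4 I4 F) -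
            (u : Matrix I4 I4 F) * A = (1 + A) * (u : Matrix I4 I4 F) +
              (u : Matrix I4 I4 F) * (1 - A) := by
          rw [two_smul]
          noncomm_ring
        rw [h1, m1, m2, two_smul]
        abel
      have hUU : (u : Matrix I4 I4 F) * (u : Matrix I4 I4 F) = 1 := by
        rw [← Units.val_mul, huu, Units.val_one]
      have hU1 := tv_core h.two_ne a φ (u : Matrix I4 I4 F) hA hAA hUU hstar
      have hu1 : u = 1 := Units.ext hU1
      rw [hu] at hu1
      calc k⁻¹ * T * k = T * (T⁻¹ * (k⁻¹ * T * k)) := by group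
        _ = T := by rw [hu1, mul_one]
    · -- `u * u = -1`
      exfalso
      obtain ⟨w, hw0, hw1, hw2⟩ := exists_common_ker φ (φ ᵥ* K)
      have hAw : A *ᵥ w = 0 := by
        rw [hAdef, vecMulVec_mulVec, hw1]
        simp
      have hBw : B *ᵥ w = 0 := by
        rw [hBv, vecMulVec_mulVec, hw2]
        simp
      have hUw : (u : Matrix I4 I4 F) *ᵥ w = w := by
        rw [hU, ← Matrix.mulVec_mulVec, Matrix.add_mulVec, Matrix.one_mulVec, hBw, add_zero,
          Matrix.sub_mulVec, Matrix.one_mulVec, hAw, sub_zero]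
      have hUU : (u : Matrix I4 I4 F) * (u : Matrix I4 I4 F) = -1 := by
        rw [← Units.val_mul, huu, Units.val_neg, Units.val_one]
      have h1 := congrArg (fun M : Matrix I4 I4 F => M *ᵥ w) hUU
      simp only [← Matrix.mulVec_mulVec, hUw, Matrix.neg_mulVec, Matrix.one_mulVec] at h1
      have h2 : (2 : F) • w = 0 := by
        rw [two_smul]
        nth_rewrite 1 [h1]
        exact neg_add_cancel w
      rcases smul_eq_zero.1 h2 with h3 | h3
      · exact h.two_ne h3
      · exact hw0 h3
  obtain ⟨c, hc⟩ := h.scal (T : Matrix I4 I4 F) (by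
    intro k hk
    have h1 := key k hk
    have h2 : T * k = k * T := by
      calc T * k = k * (k⁻¹ * T * k) := by group
        _ = k * T := by rw [h1]
    have := congrArg (fun u : GL I4 F => (u : Matrix I4 I4 F)) h2
    simpa using this)
  have hAc : A = (c - 1) • (1 : Matrix I4 I4 F) := by
    rw [sub_smul, one_smul, ← hc, hT, add_sub_cancel_left]
  have h1 : ((c - 1) * (c - 1)) • (1 : Matrix I4 I4 F) = 0 := by
    rw [← hAA, hAc, Matrix.smul_mul, Matrix.mul_smul, Matrix.one_mul, smul_smul]
  have h2 : (c - 1) * (c - 1) = 0 := by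
    rcases smul_eq_zero.1 h1 with h3 | h3
    · exact h3
    · exact absurd h3 one_ne_zero
  have h3 : c - 1 = 0 := by
    rcases mul_eq_zero.1 h2 with h4 | h4 <;> exact h4
  apply hA
  rw [hAc, h3, zero_smul]

end Cfsg.Agent.Lib.H25.Ex4
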