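import Mathlib
import Cfsg.Agent.Lib.H13.SpDerange

/-!
# Arithmetic lemmas for S6002 (helper25)
-/

set_option autoImplicit false

namespace Cfsg.Agent.Lib.H25.Ex4

theorem orderOf_two_zmod_five : orderOf (2 : ZMod 5) = 4 := by
  rw [orderOf_eq_iff (by norm_num)]
  refine ⟨by decide, ?_⟩
  intro m hm hm0
  interval_cases m <;> decide

theorem orderOf_three_zmod_five : orderOf (3 : ZMod 5) = 4 := by
  rw [orderOf_eq_iff (by norm_num)]
  refine ⟨by decide, ?_⟩
  intro m hm hm0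
  interval_cases m <;> decide

theorem mod_of_order_ne {p : ℕ} (hp : p.Prime) (hp5 : p ≠ 5) (h : orderOf (p : ZMod 5) ≠ 4) :
    p % 5 = 1 ∨ p % 5 = 4 := by
  have e : (p : ZMod 5) = ((p % 5 : ℕ) : ZMod 5) := (ZMod.natCast_mod p 5).symm
  have hlt : p % 5 < 5 := Nat.mod_lt _ (by norm_num)
  obtain ⟨m, hm⟩ : ∃ m, m = p % 5 := ⟨_, rfl⟩
  rw [← hm] at e hlt ⊢
  interval_cases m
  · exfalso
    have h5 : 5 ∣ p := Nat.dvd_of_mod_eq_zero hm.symm
    exact hp5 ((Nat.prime_dvd_prime_iff_eq Nat.prime_five hp).1 h5).symm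
  · left; rfl
  · exfalso
    apply h
    rw [e]
    exact orderOf_two_zmod_five
  · exfalso
    apply h
    rw [e]
    exact orderOf_three_zmod_five
  · right; rfl

theorem hmin_of_order {p : ℕ} (hp : p.Prime) (h : orderOf (p : ZMod 5) = 4) :
    ¬ 5 ∣ p ∧ ∀ k, 0 < k → k < 4 → ¬ 5 ∣ p ^ k - 1 := by
  constructor
  · intro h5
    have e : (p : ZMod 5) = 0 := (ZMod.natCast_eq_zero_iff p 5).2 h5
    have := pow_orderOf_eq_one (p : ZMod 5)
    rw [h, e] at this
    revert this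
    decide
  · intro k hk0 hk4 hdvd
    rw [Cfsg.Agent.Lib.H13.SpDerange.dvd_sub_one_iff p 5 k hp.one_lt.le] at hdvd
    have := orderOf_dvd_of_pow_eq_one hdvd
    rw [h] at this
    have := Nat.le_of_dvd hk0 this
    omega

theorem isSquare_one_zmod_five : IsSquare ((1 : ℕ) : ZMod 5) := ⟨1, by decide⟩

theorem isSquare_four_zmod_five : IsSquare ((4 : ℕ) : ZMod 5) := ⟨2, by decide⟩

/-- a root of `X² + X - 1` in a prime field of characteristic `≡ ±1 (mod 5)` -/
theorem exists_tau {F : Type*} [Field F] {p : ℕ} [Fact p.Prime] [CharP F p] (hp2 : p ≠ 2)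
    (hp5 : p % 5 = 1 ∨ p % 5 = 4) : ∃ τ : F, τ ^ 2 + τ - 1 = 0 := by
  haveI : Fact (Nat.Prime 5) := ⟨Nat.prime_five⟩
  have hp : p.Prime := Fact.out
  have h1 := ZMod.exists_sq_eq_prime_iff_of_mod_four_eq_one (p := 5) (q := p) (by norm_num) hp2
  have h2 : IsSquare ((p : ℕ) : ZMod 5) := by
    have e : (p : ZMod 5) = ((p % 5 : ℕ) : ZMod 5) := (ZMod.natCast_mod p 5).symm
    rw [e]
    rcases hp5 with h | h
    · rw [h]
      exact isSquare_one_zmod_five
    · rw [h]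
      exact isSquare_four_zmod_five
  obtain ⟨s, hs⟩ := h1.1 h2
  have h2F : (2 : F) ≠ 0 := by
    intro h
    have h3 : ((2 : ℕ) : F) = 0 := by exact_mod_cast h
    rw [CharP.cast_eq_zero_iff F p] at h3
    exact hp2 ((Nat.prime_dvd_prime_iff_eq hp Nat.prime_two).1 h3)
  set t : F := ZMod.castHom (dvd_refl p) F s with ht
  have htt : t * t = 5 := by
    rw [ht, ← map_mul, ← hs, map_natCast]
    norm_num
  refine ⟨(t - 1) / 2, ?_⟩
  field_simp
  linear_combination htt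

end Cfsg.Agent.Lib.H25.Ex4
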