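import Cfsg.Agent.Lib.H23.ContribN

/-!
# S4575 piece UL (helper25): a row of the contribution matrix of a subsection has square sum `≤ 1`

`m_χχ = r := ∑_ψ ‖m_χψ‖²` (`contrib_self_eq_sum`), so `r² = ‖m_χχ‖²` is one term of the sum `r`: `r² ≤ r`, hence `r ≤ 1`,
and `r < 1` as soon as another entry of the row does not vanish.
-/

set_option autoImplicit false

namespace Cfsg.Agent.Lib.H25.KX

open Cfsg MonoidAlgebra Cfsg.Agent.Lib.H23 Cfsg.Agent.Lib.H24 Cfsg.Agent.Lib.L0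
  Cfsg.Agent.Lib.H23.Contrib
open scoped ComplexConjugate

variable {G : Type*} [Group G] [Fintype G] {p : ℕ} [Fact p.Prime] {M : Ideal AlgInt}

/-- (UL) the diagonal contributions are at most 1, strictly less if the row has a nonzero off-diagonal entry. -/
theorem sum_normSq_contrib_row_le_one [Fintype (IrrCharacter G)] (hM : IsPModular p M)
    (H : Subgroup G) [Fintype H] [Fintype (IrrCharacter H)] (ξ₁ : IrrCharacter H)
    [DecidablePred (· ∈ blockOf M (ξ₁ : H → ℂ))] {z : H}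
    (hzc : z ∈ Subgroup.center H) (hz : ∃ k : ℕ, orderOf z = p ^ k)
    (hC : ∀ g : G, g * (z : G) * g⁻¹ = (z : G) → g ∈ H) (χ : IrrCharacter G) :
    (∑ ψ : IrrCharacter G, ‖contrib p H (blockOf M (ξ₁ : H → ℂ)) z (χ : G → ℂ) (ψ : G → ℂ)‖ ^ 2 ≤ 1) ∧
      ∀ ψ : IrrCharacter G, ψ ≠ χ →
        contrib p H (blockOf M (ξ₁ : H → ℂ)) z (χ : G → ℂ) (ψ : G → ℂ) ≠ 0 →
        ∑ ψ' : IrrCharacter G,
          ‖contrib p H (blockOf M (ξ₁ : H → ℂ)) z (χ : G → ℂ) (ψ' : G → ℂ)‖ ^ 2 < 1 := by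
  classical
  set f : IrrCharacter G → ℝ := fun ψ =>
    ‖contrib p H (blockOf M (ξ₁ : H → ℂ)) z (χ : G → ℂ) (ψ : G → ℂ)‖ ^ 2 with hf
  have hf0 : ∀ ψ, 0 ≤ f ψ := fun ψ => by positivity
  set r : ℝ := ∑ ψ : IrrCharacter G, f ψ with hr
  have hself : contrib p H (blockOf M (ξ₁ : H → ℂ)) z (χ : G → ℂ) (χ : G → ℂ) = ((r : ℝ) : ℂ) :=
    contrib_self_eq_sum H hM hzc hz hC ξ₁ χ
  have hfχ : f χ = r ^ 2 := by
    simp only [hf]
    rw [hself, Complex.norm_real, Real.norm_eq_abs, sq_abs]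
  have hr0 : 0 ≤ r := Finset.sum_nonneg fun ψ _ => hf0 ψ
  have hsplit : r = f χ + ∑ ψ ∈ Finset.univ.erase χ, f ψ :=
    (Finset.add_sum_erase Finset.univ f (Finset.mem_univ χ)).symm
  have hrest0 : 0 ≤ ∑ ψ ∈ Finset.univ.erase χ, f ψ := Finset.sum_nonneg fun ψ _ => hf0 ψ
  refine ⟨?_, ?_⟩
  · show r ≤ 1
    by_contra hlt
    rw [not_le] at hlt
    nlinarith
  · intro ψ hψ hne
    show r < 1
    have hpos : 0 < f ψ := by
      simp only [hf]
      have := norm_pos_iff.2 hne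
      positivity
    have hle : f ψ ≤ ∑ ψ' ∈ Finset.univ.erase χ, f ψ' :=
      Finset.single_le_sum (fun ψ' _ => hf0 ψ') (Finset.mem_erase.2 ⟨hψ, Finset.mem_univ ψ⟩)
    by_contra hlt
    rw [not_lt] at hlt
    nlinarith

end Cfsg.Agent.Lib.H25.KX
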