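import Mathlib
import Cfsg.Prelude.Def_Solvable
import Cfsg.Agent.Lib.H20.ThreeValGroup

set_option autoImplicit false
set_option linter.style.haveILetI false

/-!
# S4004 piece PQFIX (helper25, for helper2's TV4 farm-out)

If `p` does not divide the number of elements of order `p * q`, then a Sylow `p`-subgroup fixes one of them under
conjugation, so every element of order `p` commutes with an element of order `q`, and
`(q - 1) * #{order p} ≤ #{order p * q}`.
-/

namespace Cfsg.Agent.Lib.H25.TV4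

open Cfsg.Agent.S3995 (f)

universe u

section aux

variable {G : Type u} [Group G]

theorem pqfix_orderOf_conj (g z : G) : orderOf (g * z * g⁻¹) = orderOf z := by
  have := (MulAut.conj g).orderOf_eq z
  rwa [MulAut.conj_apply] at this

/-- Conjugation action of a subgroup on the set of elements of a given order. -/
@[reducible] noncomputable def pqfixAct (P : Subgroup G) (m : ℕ) : MulAction P {z : G // orderOf z = m} where
  smul g z := ⟨(g : G) * z.1 * (g : G)⁻¹, by rw [pqfix_orderOf_conj, z.2]⟩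
  one_smul z := by
    apply Subtype.ext
    show ((1 : P) : G) * z.1 * ((1 : P) : G)⁻¹ = z.1
    simp
  mul_smul g h z := by
    apply Subtype.ext
    show ((g * h : P) : G) * z.1 * ((g * h : P) : G)⁻¹ = (g : G) * ((h : G) * z.1 * (h : G)⁻¹) * (g : G)⁻¹
    simp [mul_assoc]

/-- An element of order `p` is determined by its `q`-th power when `q` is prime to `p`. -/
theorem pqfix_eq_of_pow_eq {p q : ℕ} (hp : p.Prime) (hcop : Nat.Coprime q p) {x x' : G}
    (hx : orderOf x = p) (hx' : orderOf x' = p) (h : x ^ q = x' ^ q) : x = x' := by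
  obtain ⟨m, -, hm⟩ := Nat.exists_mul_mod_eq_one_of_coprime hcop hp.one_lt
  have h1 : x ^ (q * m) = x := by
    rw [← pow_mod_orderOf, hx, hm, pow_one]
  have h2 : x' ^ (q * m) = x' := by
    rw [← pow_mod_orderOf, hx', hm, pow_one]
  rw [← h1, ← h2, pow_mul, pow_mul, h]

end aux

theorem card_pq_ge {G : Type u} [Group G] [Finite G] {p q : ℕ} (hp : p.Prime) (hq : q.Prime) (hpq : p ≠ q)
    (hnd : ¬ p ∣ f G (p * q)) : (q - 1) * f G p ≤ f G (p * q) := by
  classical
  haveI : Fact p.Prime := ⟨hp⟩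
  have hcop : Nat.Coprime p q := (Nat.coprime_primes hp hq).2 hpq
  -- a Sylow `p`-subgroup and a fixed point
  obtain ⟨P⟩ : Nonempty (Sylow p G) := inferInstance
  letI := pqfixAct (P : Subgroup G) (p * q)
  have hfix := P.2.nonempty_fixed_point_of_prime_not_dvd_card {z : G // orderOf z = p * q} hnd
  obtain ⟨z, hz⟩ := hfix
  have hzP : ∀ g ∈ (P : Subgroup G), g * z.1 * g⁻¹ = z.1 := by
    intro g hg
    have := hz ⟨g, hg⟩
    exact congrArg Subtype.val this
  -- `y = z ^ p` has order `q` and centralizes `P`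
  have hy : orderOf (z.1 ^ p) = q := by
    rw [orderOf_pow' _ hp.ne_zero, z.2, Nat.gcd_mul_right_left, Nat.mul_div_cancel_left _ hp.pos]
  have hyP : ∀ g ∈ (P : Subgroup G), g * z.1 ^ p * g⁻¹ = z.1 ^ p := by
    intro g hg
    rw [← conj_pow, hzP g hg]
  -- every element of order `p` commutes with an element of order `q`
  have key : ∀ x : G, orderOf x = p → ∃ y : G, orderOf y = q ∧ Commute x y := by
    intro x hx
    have hxp : IsPGroup p (Subgroup.zpowers x) := by
      apply IsPGroup.of_card (n := 1)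
      rw [Nat.card_zpowers, hx, pow_one]
    obtain ⟨P', hP'⟩ := hxp.exists_le_sylow
    obtain ⟨g, hg⟩ := MulAction.exists_smul_eq G P P'
    have hxP' : x ∈ (P' : Subgroup G) := hP' (Subgroup.mem_zpowers x)
    rw [← hg, Sylow.coe_subgroup_smul, Subgroup.mem_pointwise_smul_iff_inv_smul_mem] at hxP'
    have hx2 : g⁻¹ * x * g ∈ (P : Subgroup G) := by
      simpa [MulAut.smul_def, MulAut.conj_apply] using hxP'
    refine ⟨g * z.1 ^ p * g⁻¹, by rw [pqfix_orderOf_conj, hy], ?_⟩
    have h3 := hyP _ hx2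
    -- (g⁻¹ x g) y (g⁻¹ x g)⁻¹ = y
    show x * (g * z.1 ^ p * g⁻¹) = g * z.1 ^ p * g⁻¹ * x
    have h4 : g⁻¹ * x * g * z.1 ^ p = z.1 ^ p * (g⁻¹ * x * g) := by
      have := congrArg (· * (g⁻¹ * x * g)) h3
      simpa [mul_assoc] using this
    calc x * (g * z.1 ^ p * g⁻¹) = g * (g⁻¹ * x * g * z.1 ^ p) * g⁻¹ := by group
      _ = g * (z.1 ^ p * (g⁻¹ * x * g)) * g⁻¹ := by rw [h4]
      _ = g * z.1 ^ p * g⁻¹ * x := by group
  choose Y hYord hYcomm using key
  -- the injection
  have hq2 : 2 ≤ q := hq.two_le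
  let φ : {x : G // orderOf x = p} × Fin (q - 1) → {z : G // orderOf z = p * q} := fun a =>
    ⟨a.1.1 * (Y a.1.1 a.1.2) ^ (a.2.1 + 1), by
      have hw : orderOf ((Y a.1.1 a.1.2) ^ (a.2.1 + 1)) = q := by
        rw [orderOf_pow' _ (Nat.succ_ne_zero _), hYord]
        have hlt : a.2.1 + 1 < q := by have := a.2.2; omega
        have hc : Nat.Coprime q (a.2.1 + 1) :=
          (Nat.Prime.coprime_iff_not_dvd hq).2
            (fun hd => absurd (Nat.le_of_dvd (Nat.succ_pos _) hd) (by omega))
        rw [hc.gcd_eq_one, Nat.div_one]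
      have hcm : Commute a.1.1 ((Y a.1.1 a.1.2) ^ (a.2.1 + 1)) := (hYcomm a.1.1 a.1.2).pow_right _
      rw [hcm.orderOf_mul_eq_mul_orderOf_of_coprime (by rw [a.1.2, hw]; exact hcop), a.1.2, hw]⟩
  have hφ : Function.Injective φ := by
    rintro ⟨⟨x, hx⟩, i⟩ ⟨⟨x', hx'⟩, j⟩ hij
    have hval : x * (Y x hx) ^ (i.1 + 1) = x' * (Y x' hx') ^ (j.1 + 1) := congrArg Subtype.val hij
    have hxx : x = x' := by
      apply pqfix_eq_of_pow_eq hp hcop.symm hx hx'
      have e1 : (x * (Y x hx) ^ (i.1 + 1)) ^ q = x ^ q := by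
        rw [((hYcomm x hx).pow_right _).mul_pow, ← pow_mul, mul_comm (i.1 + 1) q, pow_mul]
        have : (Y x hx) ^ q = 1 := by rw [← hYord x hx]; exact pow_orderOf_eq_one _
        rw [this, one_pow, mul_one]
      have e2 : (x' * (Y x' hx') ^ (j.1 + 1)) ^ q = x' ^ q := by
        rw [((hYcomm x' hx').pow_right _).mul_pow, ← pow_mul, mul_comm (j.1 + 1) q, pow_mul]
        have : (Y x' hx') ^ q = 1 := by rw [← hYord x' hx']; exact pow_orderOf_eq_one _
        rw [this, one_pow, mul_one]
      rw [← e1, ← e2, hval]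
    subst hxx
    have hpow : (Y x hx) ^ (i.1 + 1) = (Y x hx) ^ (j.1 + 1) := mul_left_cancel hval
    have hi : i.1 + 1 < orderOf (Y x hx) := by rw [hYord]; have := i.2; omega
    have hj : j.1 + 1 < orderOf (Y x hx) := by rw [hYord]; have := j.2; omega
    have hij' : i.1 + 1 = j.1 + 1 := pow_injOn_Iio_orderOf (Set.mem_Iio.2 hi) (Set.mem_Iio.2 hj) hpow
    have : i = j := Fin.ext (by omega)
    rw [this]
  have hcard := Nat.card_le_card_of_injective φ hφ
  rw [Nat.card_prod, Nat.card_fin] at hcard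
  unfold f
  rw [mul_comm]
  exact hcard

end Cfsg.Agent.Lib.H25.TV4
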