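import Mathlib

/-!
# S4645 piece (C): in a finite cyclic subgroup every subgroup is normalized by the normalizer (pure Mathlib)

`normalizer_le_of_cyclic`: `P` finite cyclic, `Q ≤ P` ⟹ `N_G(P) ≤ N_G(Q)` (a subgroup of a finite cyclic group is
determined by its order: `Q = {a ∈ P | a ^ |Q| = 1}` by `IsCyclic.card_pow_eq_one_le`).
-/

set_option autoImplicit false

namespace Cfsg.Agent.Lib.H25.CY

variable {G : Type*} [Group G]

/-- in a finite cyclic subgroup `P`, the elements of `P` of order dividing `|Q|` are exactly those of `Q ≤ P` -/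
theorem mem_of_pow_card_eq_one (P : Subgroup G) [Finite P] (hP : IsCyclic P) (Q : Subgroup G)
    (hQP : Q ≤ P) {a : G} (ha : a ∈ P) (ham : a ^ Nat.card Q = 1) : a ∈ Q := by
  classical
  have : Fintype P := Fintype.ofFinite P
  have hQfin : Finite Q :=
    Finite.of_injective (Subgroup.inclusion hQP) (Subgroup.inclusion_injective hQP)
  have hm : 0 < Nat.card Q := Nat.card_pos
  have hS : (Finset.univ.filter (fun b : P => b ^ Nat.card Q = 1)).card ≤ Nat.card Q :=
    IsCyclic.card_pow_eq_one_le hm
  have hQs : (Finset.univ.filter (fun b : P => (b : G) ∈ Q)).card = Nat.card Q := by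
    rw [← Fintype.card_subtype, ← Nat.card_eq_fintype_card]
    exact Nat.card_congr (Subgroup.subgroupOfEquivOfLe hQP).toEquiv
  have hsub : Finset.univ.filter (fun b : P => (b : G) ∈ Q) ⊆
      Finset.univ.filter (fun b : P => b ^ Nat.card Q = 1) := by
    intro b hb
    rw [Finset.mem_filter] at hb ⊢
    refine ⟨Finset.mem_univ _, ?_⟩
    have h1 : (⟨(b : G), hb.2⟩ : Q) ^ Nat.card Q = 1 := pow_card_eq_one'
    apply Subtype.ext
    have h2 := congrArg Subtype.val h1
    rw [Subgroup.coe_pow, Subgroup.coe_one] at h2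
    rw [Subgroup.coe_pow, Subgroup.coe_one]
    exact h2
  have heq := Finset.eq_of_subset_of_card_le hsub (by rw [hQs]; exact hS)
  have h3 : (⟨a, ha⟩ : P) ∈ Finset.univ.filter (fun b : P => b ^ Nat.card Q = 1) := by
    rw [Finset.mem_filter]
    exact ⟨Finset.mem_univ _, Subtype.ext (by simpa using ham)⟩
  rw [← heq, Finset.mem_filter] at h3
  exact h3.2

/-- (C) `P` finite cyclic, `Q ≤ P` ⟹ `N_G(P) ≤ N_G(Q)`. -/
theorem normalizer_le_of_cyclic (P : Subgroup G) [Finite P] (hP : IsCyclic P) (Q : Subgroup G)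
    (hQP : Q ≤ P) : Subgroup.normalizer (P : Set G) ≤ Subgroup.normalizer (Q : Set G) := by
  have hQfin : Finite Q :=
    Finite.of_injective (Subgroup.inclusion hQP) (Subgroup.inclusion_injective hQP)
  have key : ∀ g ∈ Subgroup.normalizer (P : Set G), ∀ h ∈ Q, g * h * g⁻¹ ∈ Q := by
    intro g hg h hh
    apply mem_of_pow_card_eq_one P hP Q hQP
    · exact (Subgroup.mem_normalizer_iff.mp hg h).mp (hQP hh)
    · rw [conj_pow]
      have h1 : (⟨h, hh⟩ : Q) ^ Nat.card Q = 1 := pow_card_eq_one'
      have h2 : h ^ Nat.card Q = 1 := by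
        have := congrArg Subtype.val h1
        rw [Subgroup.coe_pow, Subgroup.coe_one] at this
        exact this
      rw [h2]
      group
  intro g hg
  rw [Subgroup.mem_normalizer_iff]
  intro h
  constructor
  · exact key g hg h
  · intro hh
    have := key g⁻¹ (Subgroup.inv_mem _ hg) _ hh
    have e : g⁻¹ * (g * h * g⁻¹) * g⁻¹⁻¹ = h := by group
    rwa [e] at this

end Cfsg.Agent.Lib.H25.CY
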