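import Mathlib
import Cfsg.Agent.Lib.H25.Stability

set_option autoImplicit false

/-!
The automorphism group of a finite `2`-group with a characteristic cyclic subgroup of index two
is a `2`-group (dihedral, generalized quaternion, semidihedral groups of order at least 16).
-/

namespace Cfsg.Agent.Lib.H25

open Subgroup

theorem isPGroup_mulAut_of_cyclic_index_two {T : Type*} [Group T] [Finite T] (hT : IsPGroup 2 T)
    (c : T) (hidx : (zpowers c).index = 2)
    (hord : ∀ x : T, x ∉ zpowers c → orderOf x < orderOf c) : IsPGroup 2 (MulAut T) := by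
  have hc_inv : ∀ β : MulAut T, β c ∈ zpowers c := by
    intro β
    by_contra h
    have := hord _ h
    rw [MulEquiv.orderOf_eq] at this
    exact lt_irrefl _ this
  have hC_inv : ∀ β : MulAut T, ∀ x ∈ zpowers c, β x ∈ zpowers c := by
    intro β x hx
    obtain ⟨i, rfl⟩ := mem_zpowers_iff.mp hx
    rw [map_zpow]
    exact (zpowers c).zpow_mem (hc_inv β) i
  -- order of `c`
  obtain ⟨m, hm⟩ : ∃ m, orderOf c = 2 ^ m := by
    obtain ⟨k, hk⟩ := hT c
    exact (Nat.dvd_prime_pow Nat.prime_two).mp (orderOf_dvd_of_pow_eq_one hk) |>.imp fun _ h => h.2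
  obtain ⟨j, hj⟩ : ∃ j, Nat.totient (2 ^ m) = 2 ^ j := by
    rcases Nat.eq_zero_or_pos m with rfl | hpos
    · exact ⟨0, by simp⟩
    · exact ⟨m - 1, by rw [Nat.totient_prime_pow Nat.prime_two hpos]; simp⟩
  intro α
  -- `α c = c ^ k`
  obtain ⟨k, hk⟩ : ∃ k : ℕ, c ^ k = α c := by
    have := (mem_powers_iff_mem_zpowers (x := c) (y := α c)).mpr (hc_inv α)
    exact Submonoid.mem_powers_iff _ _ |>.mp this
  have hcop : Nat.Coprime k (2 ^ m) := by
    have h1 : orderOf (c ^ k) = orderOf c := by rw [hk, MulEquiv.orderOf_eq]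
    rw [orderOf_pow, hm] at h1
    have hpos : 0 < 2 ^ m := by positivity
    have h2 : Nat.gcd (2 ^ m) k = 1 := by
      have hdvd : Nat.gcd (2 ^ m) k ∣ 2 ^ m := Nat.gcd_dvd_left _ _
      obtain ⟨q, hq⟩ := hdvd
      have hgpos : 0 < Nat.gcd (2 ^ m) k := Nat.gcd_pos_of_pos_left _ hpos
      have : 2 ^ m / Nat.gcd (2 ^ m) k = q := Nat.div_eq_of_eq_mul_right hgpos hq
      rw [this] at h1
      rw [h1] at hq
      have : Nat.gcd (2 ^ m) k * 2 ^ m = 1 * 2 ^ m := by rw [one_mul]; exact hq.symm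
      exact Nat.eq_of_mul_eq_mul_right hpos this
    rw [Nat.Coprime, Nat.gcd_comm]
    exact h2
  have key : ∀ i : ℕ, (α ^ i) c = c ^ (k ^ i) := by
    intro i
    induction i with
    | zero => simp
    | succ i ih =>
      rw [pow_succ', MulAut.mul_apply, ih, map_pow, ← hk, ← pow_mul, pow_succ']
  -- `β = α ^ φ(2^m)` fixes `c`
  have hβc : (α ^ (2 ^ j)) c = c := by
    rw [key, ← hj]
    have h1 : k ^ Nat.totient (2 ^ m) ≡ 1 [MOD 2 ^ m] := Nat.ModEq.pow_totient hcop
    have h2 : c ^ (k ^ Nat.totient (2 ^ m)) = c ^ 1 := by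
      rw [pow_eq_pow_iff_modEq, hm]
      exact h1
    rw [h2, pow_one]
  have hβfix : ∀ x ∈ zpowers c, (α ^ (2 ^ j)) x = x := by
    intro x hx
    obtain ⟨i, rfl⟩ := mem_zpowers_iff.mp hx
    rw [map_zpow, hβc]
  -- stability series `zpowers c ≤ ⊤`
  let U : ℕ → Subgroup T := fun i => if i = 0 then zpowers c else ⊤
  have hinv : ∀ γ ∈ (⊤ : Subgroup (MulAut T)), ∀ i, ∀ x ∈ U i, γ x ∈ U i := by
    intro γ _ i x hx
    by_cases hi : i = 0
    · subst hi
      exact hC_inv γ x hx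
    · simp only [U, if_neg hi]
      exact mem_top _
  have hmono : ∀ i < 1, U i ≤ U (i + 1) := by
    intro i _
    simp only [U, if_neg (Nat.succ_ne_zero i)]
    exact le_top
  have hUm : U 1 = ⊤ := by simp [U]
  have hβmem : α ^ (2 ^ j) ∈ stabSub ⊤ U 1 hinv := by
    refine ⟨mem_top _, ?_⟩
    intro i hi x _
    have hi0 : i = 0 := by omega
    subst hi0
    show x⁻¹ * (α ^ (2 ^ j)) x ∈ zpowers c
    rw [mul_mem_iff_of_index_two hidx, inv_mem_iff]
    constructor
    · exact hC_inv _ x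
    · intro h
      have := hC_inv (α ^ (2 ^ j))⁻¹ _ h
      rwa [MulAut.inv_apply_self] at this
  obtain ⟨k', hk'⟩ := stab_pow_eq_one hT ⊤ U 1 hinv hmono hUm hβmem ⟨0, by
    intro x hx
    rw [pow_zero, pow_one]
    exact hβfix x hx⟩
  refine ⟨j + k', ?_⟩
  rw [pow_add, pow_mul]
  exact hk'

end Cfsg.Agent.Lib.H25
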