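import Mathlib
import Cfsg.Prelude.Def_GeometricClasses
import Cfsg.Agent.Lib.H29.Tensor
import Cfsg.Agent.Lib.H28.GLBasic

/-!
# S5637 (tensor product stabiliser `GL_a ⊗ GL_b ∩ SL` maximal in `SL_{ab}`): definitions (helper25)

`V = F^(Fin a × Fin b) = A ⊗ B`, `A = F^a`, `B = F^b`.  Pure tensors are `pt u z` (helper29).
* `con m φ`  : contraction of `m ∈ V` with the "functional" `φ ∈ F^b` (an element of `A`);
* `Lv z`     : the `B`-line `A ⊗ z` (dimension `a`);
* `Wv φ`     : the `B`-hyperplane `A ⊗ ker φ = {m | con m φ = 0}` (codimension `a`);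
* `NN z φ`   : the matrix `1 ⊗ (z φᵀ)`, `NN z φ *ᵥ m = pt (con m φ) z`;
* `rr z φ h` : the root element `1 + NN z φ` of the Kronecker group (`φ ⬝ᵥ z = 0`);
* `H0 a b F` : the Kronecker group intersected with `SL`;
* `IsTv g`   : `g` is a (non-trivial) transvection;  `NoTv X` : `X` contains no transvection;
* `NT X`, `NTs X` : the two "module lemma" conclusions (see the blueprint).
-/

set_option autoImplicit false
set_option linter.unusedSectionVars false
set_option linter.unusedVariables false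

namespace Cfsg.Agent.Lib.H25.Tp

open Matrix Kronecker Module
open Cfsg.Geo
open Cfsg.Agent.Lib.H29.Tensor (pt kron_pt pt_add_left pt_add_right pt_smul_left pt_smul_right)
open Cfsg.Agent.Lib.H28 (tvGL tvGL_mulVec tvGL_mem_specialLinear)

variable {F : Type*} [Field F] {a b : ℕ}

/-- contraction of `m ∈ A ⊗ B` with `φ ∈ B*` -/
def con (m : Fin a × Fin b → F) (φ : Fin b → F) : Fin a → F := fun i => ∑ j, m (i, j) * φ j

theorem con_add (m m' : Fin a × Fin b → F) (φ : Fin b → F) : con (m + m') φ = con m φ + con m' φ := by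
  funext i; simp [con, add_mul, Finset.sum_add_distrib]

theorem con_smul (c : F) (m : Fin a × Fin b → F) (φ : Fin b → F) : con (c • m) φ = c • con m φ := by
  funext i; simp [con, Finset.mul_sum, mul_assoc]

theorem con_zero (φ : Fin b → F) : con (0 : Fin a × Fin b → F) φ = 0 := by
  funext i; simp [con]

theorem con_neg (m : Fin a × Fin b → F) (φ : Fin b → F) : con (-m) φ = - con m φ := by
  funext i; simp [con]

theorem con_sub (m m' : Fin a × Fin b → F) (φ : Fin b → F) : con (m - m') φ = con m φ - con m' φ := by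
  funext i; simp [con, sub_mul, Finset.sum_sub_distrib]

theorem con_add_right (m : Fin a × Fin b → F) (φ φ' : Fin b → F) :
    con m (φ + φ') = con m φ + con m φ' := by
  funext i; simp [con, mul_add, Finset.sum_add_distrib]

theorem con_smul_right (c : F) (m : Fin a × Fin b → F) (φ : Fin b → F) :
    con m (c • φ) = c • con m φ := by
  funext i; simp [con, Finset.mul_sum, mul_left_comm]

theorem con_zero_right (m : Fin a × Fin b → F) : con m (0 : Fin b → F) = 0 := by
  funext i; simp [con]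

theorem con_pt (u : Fin a → F) (z φ : Fin b → F) : con (pt u z) φ = (z ⬝ᵥ φ) • u := by
  funext i
  simp only [con, pt, dotProduct, Pi.smul_apply, smul_eq_mul, Finset.sum_mul]
  refine Finset.sum_congr rfl fun j _ => ?_
  ring

/-- contraction as a linear map -/
def conL (φ : Fin b → F) : (Fin a × Fin b → F) →ₗ[F] (Fin a → F) where
  toFun m := con m φ
  map_add' m m' := con_add m m' φ
  map_smul' c m := con_smul c m φ

/-- `u ↦ u ⊗ z` as a linear map -/
def ptL (z : Fin b → F) : (Fin a → F) →ₗ[F] (Fin a × Fin b → F) where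
  toFun u := pt u z
  map_add' u u' := pt_add_left u u' z
  map_smul' c u := pt_smul_left c u z

theorem pt_zero_left (z : Fin b → F) : pt (0 : Fin a → F) z = 0 := by
  funext p; simp [pt]

theorem pt_zero_right (u : Fin a → F) : pt u (0 : Fin b → F) = 0 := by
  funext p; simp [pt]

theorem pt_neg_left (u : Fin a → F) (z : Fin b → F) : pt (-u) z = - pt u z := by
  funext p; simp [pt]

theorem pt_sub_left (u u' : Fin a → F) (z : Fin b → F) : pt (u - u') z = pt u z - pt u' z := by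
  funext p; simp [pt, sub_mul]

theorem pt_eq_zero {u : Fin a → F} {z : Fin b → F} (hz : z ≠ 0) (h : pt u z = 0) : u = 0 := by
  obtain ⟨j, hj⟩ : ∃ j, z j ≠ 0 := by
    by_contra hcon; push Not at hcon; exact hz (funext hcon)
  funext i
  have := congrFun h (i, j)
  simp only [pt, Pi.zero_apply, mul_eq_zero] at this
  rcases this with h1 | h1
  · exact h1
  · exact absurd h1 hj

/-- the `B`-line `A ⊗ z` -/
def Lv (z : Fin b → F) : Submodule F (Fin a × Fin b → F) := LinearMap.range (ptL (a := a) z)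

/-- the `B`-hyperplane `A ⊗ ker φ` -/
def Wv (φ : Fin b → F) : Submodule F (Fin a × Fin b → F) := LinearMap.ker (conL (a := a) φ)

theorem mem_Lv {z : Fin b → F} {m : Fin a × Fin b → F} : m ∈ Lv z ↔ ∃ u, pt u z = m := by
  unfold Lv; rw [LinearMap.mem_range]; rfl

theorem pt_mem_Lv (u : Fin a → F) (z : Fin b → F) : pt u z ∈ Lv z := mem_Lv.mpr ⟨u, rfl⟩

theorem mem_Wv {φ : Fin b → F} {m : Fin a × Fin b → F} : m ∈ Wv φ ↔ con m φ = 0 := by
  unfold Wv; rw [LinearMap.mem_ker]; rfl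

/-- `N(z, φ) = 1 ⊗ (z φᵀ)` -/
def NN (z φ : Fin b → F) : Matrix (Fin a × Fin b) (Fin a × Fin b) F :=
  (1 : Matrix (Fin a) (Fin a) F) ⊗ₖ vecMulVec z φ

theorem NN_mulVec (z φ : Fin b → F) (m : Fin a × Fin b → F) :
    NN (a := a) z φ *ᵥ m = pt (con m φ) z := by
  funext ⟨i, j⟩
  simp only [NN, Matrix.mulVec, dotProduct, kroneckerMap_apply, Fintype.sum_prod_type, pt, con,
    Matrix.one_apply, vecMulVec_apply]
  rw [Finset.sum_eq_single i]
  · simp only [if_true, one_mul]
    rw [Finset.sum_mul]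
    refine Finset.sum_congr rfl fun l _ => ?_
    ring
  · intro k _ hk
    simp [Ne.symm hk]
  · intro h; exact absurd (Finset.mem_univ i) h

theorem NN_mul_NN (z φ z' φ' : Fin b → F) :
    NN (a := a) z φ * NN z' φ' = (φ ⬝ᵥ z') • NN z φ' := by
  unfold NN
  rw [← Matrix.mul_kronecker_mul, Matrix.one_mul, ← Matrix.kronecker_smul]
  congr 1
  ext i j
  simp only [Matrix.mul_apply, vecMulVec_apply, Matrix.smul_apply, smul_eq_mul, dotProduct]
  rw [Finset.sum_mul]
  refine Finset.sum_congr rfl fun l _ => ?_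
  ring

/-- the root element `1 + N(z, φ)`, `φ(z) = 0` -/
def rr (z φ : Fin b → F) (h : φ ⬝ᵥ z = 0) : GL (Fin a × Fin b) F where
  val := 1 + NN z φ
  inv := 1 - NN z φ
  val_inv := by
    have h2 : NN (a := a) z φ * NN z φ = 0 := by rw [NN_mul_NN, h, zero_smul]
    calc (1 + NN (a := a) z φ) * (1 - NN z φ) = 1 - NN z φ * NN z φ := by noncomm_ring
      _ = 1 := by rw [h2, sub_zero]
  inv_val := by
    have h2 : NN (a := a) z φ * NN z φ = 0 := by rw [NN_mul_NN, h, zero_smul]
    calc (1 - NN (a := a) z φ) * (1 + NN z φ) = 1 - NN z φ * NN z φ := by noncomm_ring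
      _ = 1 := by rw [h2, sub_zero]

theorem rr_val (z φ : Fin b → F) (h : φ ⬝ᵥ z = 0) :
    ((rr (a := a) z φ h : GL (Fin a × Fin b) F) : Matrix (Fin a × Fin b) (Fin a × Fin b) F) = 1 + NN z φ := rfl

theorem rr_inv_val (z φ : Fin b → F) (h : φ ⬝ᵥ z = 0) :
    (((rr (a := a) z φ h)⁻¹ : GL (Fin a × Fin b) F) : Matrix (Fin a × Fin b) (Fin a × Fin b) F) = 1 - NN z φ := rfl

theorem rr_mulVec (z φ : Fin b → F) (h : φ ⬝ᵥ z = 0) (m : Fin a × Fin b → F) :
    ((rr (a := a) z φ h : GL (Fin a × Fin b) F) : Matrix (Fin a × Fin b) (Fin a × Fin b) F) *ᵥ m =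
      m + pt (con m φ) z := by
  rw [rr_val, Matrix.add_mulVec, Matrix.one_mulVec, NN_mulVec]

/-- the Kronecker product of two invertible matrices as an element of `GL` -/
def krGL (g₁ : GL (Fin a) F) (g₂ : GL (Fin b) F) : GL (Fin a × Fin b) F where
  val := (g₁ : Matrix (Fin a) (Fin a) F) ⊗ₖ (g₂ : Matrix (Fin b) (Fin b) F)
  inv := ((g₁⁻¹ : GL (Fin a) F) : Matrix (Fin a) (Fin a) F) ⊗ₖ ((g₂⁻¹ : GL (Fin b) F) : Matrix (Fin b) (Fin b) F)
  val_inv := by
    rw [← Matrix.mul_kronecker_mul, ← Units.val_mul, ← Units.val_mul, mul_inv_cancel,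
      mul_inv_cancel, Units.val_one, Units.val_one, Matrix.one_kronecker_one]
  inv_val := by
    rw [← Matrix.mul_kronecker_mul, ← Units.val_mul, ← Units.val_mul, inv_mul_cancel,
      inv_mul_cancel, Units.val_one, Units.val_one, Matrix.one_kronecker_one]

theorem krGL_val (g₁ : GL (Fin a) F) (g₂ : GL (Fin b) F) :
    ((krGL g₁ g₂ : GL (Fin a × Fin b) F) : Matrix (Fin a × Fin b) (Fin a × Fin b) F) =
      (g₁ : Matrix (Fin a) (Fin a) F) ⊗ₖ (g₂ : Matrix (Fin b) (Fin b) F) := rfl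

theorem krGL_mem_kron (g₁ : GL (Fin a) F) (g₂ : GL (Fin b) F) :
    krGL g₁ g₂ ∈ kroneckerSubgroup a b F := ⟨g₁, g₂, rfl⟩

/-- the standard tensor product group inside `SL` -/
def H0 (a b : ℕ) (F : Type*) [Field F] : Subgroup (GL (Fin a × Fin b) F) :=
  kroneckerSubgroup a b F ⊓ specialLinear (Fin a × Fin b) F

theorem krGL_mem_H0 (g₁ : GL (Fin a) F) (g₂ : GL (Fin b) F)
    (h : (g₁ : Matrix (Fin a) (Fin a) F).det ^ b * (g₂ : Matrix (Fin b) (Fin b) F).det ^ a = 1) :
    krGL g₁ g₂ ∈ H0 a b F := by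
  refine ⟨krGL_mem_kron g₁ g₂, ?_⟩
  show krGL g₁ g₂ ∈ specialLinear (Fin a × Fin b) F
  rw [Cfsg.Agent.Lib.H28.mem_specialLinear_iff, krGL_val, Matrix.det_kronecker]
  simpa using h

theorem rr_mem_H0 (z φ : Fin b → F) (h : φ ⬝ᵥ z = 0) : rr (a := a) z φ h ∈ H0 a b F := by
  have hdet : (1 + vecMulVec z φ : Matrix (Fin b) (Fin b) F).det = 1 := by
    rw [Matrix.vecMulVec_eq Unit, Matrix.det_one_add_replicateCol_mul_replicateRow, h, add_zero]
  have hunit : IsUnit (1 + vecMulVec z φ : Matrix (Fin b) (Fin b) F).det := by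
    rw [hdet]; exact isUnit_one
  set g₂ : GL (Fin b) F := Matrix.GeneralLinearGroup.mk'' _ hunit with hg₂
  have hval : (g₂ : Matrix (Fin b) (Fin b) F) = 1 + vecMulVec z φ := rfl
  have : rr (a := a) z φ h = krGL (1 : GL (Fin a) F) g₂ := by
    apply Units.ext
    rw [rr_val, krGL_val, hval, Units.val_one, Matrix.kronecker_add, Matrix.one_kronecker_one]
    rfl
  rw [this]
  apply krGL_mem_H0
  rw [hval, hdet]; simp

/-- `g` is a (non-trivial) transvection -/
def IsTv {ι : Type} [Fintype ι] [DecidableEq ι] (g : GL ι F) : Prop :=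
  ∃ (f : Dual F (ι → F)) (v : ι → F) (h : f v = 0), f ≠ 0 ∧ v ≠ 0 ∧ g = tvGL f v h

/-- `X` contains no transvection -/
def NoTv {ι : Type} [Fintype ι] [DecidableEq ι] (X : Subgroup (GL ι F)) : Prop :=
  ∀ g ∈ X, ¬ IsTv g

/-- module lemma, `B`-line version: the elements of `X` acting trivially on `A ⊗ z` and on `V / (A ⊗ z)` are the
root elements `1 + N(z, φ)` -/
def NT (X : Subgroup (GL (Fin a × Fin b) F)) : Prop :=
  ∀ g ∈ X, ∀ z : Fin b → F, z ≠ 0 →
    (∀ m, (g.val - 1) *ᵥ m ∈ Lv z) →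
    (∀ u : Fin a → F, (g.val - 1) *ᵥ pt u z = 0) →
    ∃ φ : Fin b → F, g.val - 1 = NN z φ

/-- module lemma, `B`-hyperplane version: the elements of `X` acting trivially on `A ⊗ ker φ` and on
`V / (A ⊗ ker φ)` are the root elements `1 + N(z, φ)` -/
def NTs (X : Subgroup (GL (Fin a × Fin b) F)) : Prop :=
  ∀ g ∈ X, ∀ φ : Fin b → F, φ ≠ 0 →
    (∀ m, con ((g.val - 1) *ᵥ m) φ = 0) →
    (∀ m, con m φ = 0 → (g.val - 1) *ᵥ m = 0) →
    ∃ z : Fin b → F, g.val - 1 = NN z φ

end Cfsg.Agent.Lib.H25.Tp
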