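import Mathlib

/-!
# S4150 piece C5 (helper25): a 3-cycle and a 5-cycle on 5 points generate `A_5`

Also the reusable `isPretransitive_of_full_cycle_mem` (a subgroup containing a cycle with full support is
transitive) and `closure_pair_le_alternatingGroup`.
-/

set_option autoImplicit false

namespace Cfsg.Agent.Lib.H25.AG

open Equiv Equiv.Perm Subgroup

/-- A subgroup of `Perm α` containing a cycle moving every point is transitive. -/
theorem isPretransitive_of_full_cycle_mem {α : Type*} [Fintype α] [DecidableEq α]
    (G : Subgroup (Perm α)) (y : Perm α) (hyG : y ∈ G) (hy : y.IsCycle)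
    (hfull : y.support = Finset.univ) : MulAction.IsPretransitive G α := by
  refine ⟨fun a b => ?_⟩
  have ha : a ∈ y.support := by rw [hfull]; exact Finset.mem_univ a
  have hb : b ∈ y.support := by rw [hfull]; exact Finset.mem_univ b
  obtain ⟨i, hi⟩ := hy.exists_zpow_eq (Perm.mem_support.1 ha) (Perm.mem_support.1 hb)
  exact ⟨⟨y ^ i, G.zpow_mem hyG i⟩, hi⟩

/-- Two even permutations generate a subgroup of the alternating group. -/
theorem closure_pair_le_alternatingGroup {α : Type*} [Fintype α] [DecidableEq α] (x y : Perm α)
    (hx : Perm.sign x = 1) (hy : Perm.sign y = 1) :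
    closure ({x, y} : Set (Perm α)) ≤ alternatingGroup α := by
  rw [closure_le]
  intro z hz
  rcases hz with rfl | hz
  · exact Perm.mem_alternatingGroup.2 hx
  · rw [Set.mem_singleton_iff] at hz
    subst hz
    exact Perm.mem_alternatingGroup.2 hy

/-- (C5) a 3-cycle and a 5-cycle on 5 points. -/
theorem core5 (x y : Perm (Fin 5)) (hx : x.cycleType = {3}) (hy : y.cycleType = {5}) :
    closure ({x, y} : Set (Perm (Fin 5))) = alternatingGroup (Fin 5) := by
  have hxG : x ∈ closure ({x, y} : Set (Perm (Fin 5))) := subset_closure (by simp)
  have hyG : y ∈ closure ({x, y} : Set (Perm (Fin 5))) := subset_closure (by simp)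
  apply le_antisymm
  · apply closure_pair_le_alternatingGroup
    · rw [Perm.sign_of_cycleType, hx]; decide
    · rw [Perm.sign_of_cycleType, hy]; decide
  · have hycyc : y.IsCycle := by
      rw [← Perm.card_cycleType_eq_one, hy]; rfl
    have hysupp : y.support = Finset.univ := by
      apply Finset.eq_univ_of_card
      rw [← Perm.sum_cycleType, hy]; rfl
    have htr : MulAction.IsPretransitive (closure ({x, y} : Set (Perm (Fin 5)))) (Fin 5) :=
      isPretransitive_of_full_cycle_mem _ y hyG hycyc hysupp
    have hprim : MulAction.IsPreprimitive (closure ({x, y} : Set (Perm (Fin 5)))) (Fin 5) := by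
      apply MulAction.IsPreprimitive.of_prime_card
      rw [Nat.card_eq_fintype_card, Fintype.card_fin]
      norm_num
    exact Equiv.Perm.alternatingGroup_le_of_isPreprimitive_of_isThreeCycle_mem hprim
      (g := x) hx hxG

end Cfsg.Agent.Lib.H25.AG
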