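import Mathlib
import Cfsg.Prelude.Def_OddOrderLocal

/-!
# S5239 piece N3: a group of order 27 has exponent 3 or is metacyclic (helper25)
-/

set_option autoImplicit false

namespace Cfsg.Agent.Lib.H25.Pearl

/-- **N3**.  A group of order `27` has exponent `3` or is metacyclic. -/
theorem exponent_three_or_metacyclic {G : Type*} [Group G] [Finite G] (hG : Nat.card G = 27) :
    Monoid.exponent G = 3 ∨ Cfsg.IsMetacyclic G := by
  classical
  have hp : Fact (Nat.Prime 3) := ⟨Nat.prime_three⟩
  by_cases hexp : ∀ g : G, g ^ 3 = 1
  · left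
    have h1 : Monoid.exponent G ∣ 3 := Monoid.exponent_dvd_of_forall_pow_eq_one hexp
    rcases (Nat.dvd_prime Nat.prime_three).1 h1 with h | h
    · exfalso
      have : Subsingleton G := Monoid.exp_eq_one_iff.1 h
      have : Nat.card G = 1 := Nat.card_unique
      omega
    · exact h
  · right
    push Not at hexp
    obtain ⟨s, hs⟩ := hexp
    have h4 : Nat.card ↥(Subgroup.zpowers s) ∣ 3 ^ 3 := by
      have := Subgroup.card_subgroup_dvd_card (Subgroup.zpowers s)
      rw [hG] at this
      exact this
    obtain ⟨m, hm, hm'⟩ := (Nat.dvd_prime_pow Nat.prime_three).1 h4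
    have hm2 : 2 ≤ m := by
      by_contra hcon
      push Not at hcon
      apply hs
      have : orderOf s ∣ 3 := by
        rw [← Nat.card_zpowers, hm']
        interval_cases m
        · simp
        · simp
      exact orderOf_dvd_iff_pow_eq_one.1 this
    have hidx : (Subgroup.zpowers s).index * 3 ^ m = 27 := by
      rw [← hm', mul_comm, Subgroup.card_mul_index, hG]
    have hcyc : IsCyclic ↥(Subgroup.zpowers s) := inferInstance
    have hm23 : m = 2 ∨ m = 3 := by omega
    rcases hm23 with rfl | rfl
    · have hi3 : (Subgroup.zpowers s).index = 3 := by omega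
      have hnorm : (Subgroup.zpowers s).Normal := by
        apply Subgroup.normal_of_index_eq_minFac_card
        rw [hi3, hG]
        norm_num
      refine ⟨Subgroup.zpowers s, hnorm, hcyc, ?_⟩
      have hq : Nat.card (G ⧸ Subgroup.zpowers s) = 3 := by
        rw [← Subgroup.index_eq_card]; exact hi3
      exact isCyclic_of_prime_card (p := 3) hq
    · have hi1 : (Subgroup.zpowers s).index = 1 := by omega
      have htop : Subgroup.zpowers s = ⊤ := Subgroup.index_eq_one.1 hi1
      have hnorm : (Subgroup.zpowers s).Normal := by rw [htop]; infer_instance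
      refine ⟨Subgroup.zpowers s, hnorm, hcyc, ?_⟩
      have hq : Nat.card (G ⧸ Subgroup.zpowers s) = 1 := by
        rw [← Subgroup.index_eq_card]; exact hi1
      have : Subsingleton (G ⧸ Subgroup.zpowers s) := (Nat.card_eq_one_iff_unique.1 hq).1
      infer_instance

end Cfsg.Agent.Lib.H25.Pearl
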