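import Mathlib

set_option autoImplicit false

/-! # A subgroup of `p`-power index in a quotient, from a stabiliser in a Sylow normaliser

Piece END2 of the farm-out of S4563 and S4564 (architect helper23): pure group theory. With `Z ≤ K`
normal in `H`, `S` a Sylow `p`-subgroup, `W₀ = (S ∩ K) Z`, `W₁ = S Z` and a subgroup `Y₀` with
`W₀ ≤ Y₀`, `Y₀ ∩ W₁ ≤ W₀`, `N_H(W₀) ⊆ W₁ Y₀`, the image of `Y₀ ∩ N_H(W₀)` in `H / K` has index the
`p`-part of the order of `H / K`. -/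

namespace Cfsg.Agent.Lib.H25.FRS

open Subgroup

variable {H : Type*} [Group H]

/-- cosets of `Q` in `R` are represented in `P` -/
theorem relIndex_eq_of_cover (P Q R : Subgroup H) (hPR : P ≤ R)
    (h : ∀ r ∈ R, ∃ x ∈ P, x⁻¹ * r ∈ Q) : Q.relIndex R = Q.relIndex P := by
  unfold relIndex
  rw [index_eq_card, index_eq_card]
  symm
  apply Nat.card_congr
  refine Equiv.ofBijective (quotientSubgroupOfEmbeddingOfLE Q hPR)
    ⟨(quotientSubgroupOfEmbeddingOfLE Q hPR).injective, ?_⟩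
  intro q
  induction q using QuotientGroup.induction_on with
  | H r =>
    obtain ⟨x, hx, hxr⟩ := h r r.2
    refine ⟨QuotientGroup.mk ⟨x, hx⟩, ?_⟩
    rw [quotientSubgroupOfEmbeddingOfLE_apply_mk, QuotientGroup.eq]
    rw [mem_subgroupOf]
    exact hxr

theorem map_conj_sup_of_normal (A Z : Subgroup H) [hZ : Z.Normal] (g : H)
    (hg : g ∈ normalizer (A : Set H)) : g ∈ normalizer ((A ⊔ Z : Subgroup H) : Set H) := by
  rw [mem_normalizer_iff_map_conj_eq] at hg ⊢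
  have hZ' : g ∈ normalizer (Z : Set H) := by
    rw [normalizer_eq_top_iff.mpr hZ]
    exact mem_top g
  rw [mem_normalizer_iff_map_conj_eq] at hZ'
  rw [Subgroup.map_sup, hg, hZ']

/-- the image of `P` in `H ⧸ N` has `|P : P ∩ N|` elements -/
theorem card_map_mk'_eq_relIndex (N P : Subgroup H) [N.Normal] :
    Nat.card (P.map (QuotientGroup.mk' N)) = N.relIndex P := by
  rw [← relIndex_ker, QuotientGroup.ker_mk']

theorem relIndex_sylow_eq [Finite H] (K : Subgroup H) [K.Normal] (p : ℕ) [Fact p.Prime]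
    (S : Sylow p H) :
    K.relIndex (S : Subgroup H) = p ^ (Nat.card (H ⧸ K)).factorization p := by
  rw [← card_map_mk'_eq_relIndex]
  exact Sylow.card_eq_multiplicity (S.mapSurjective (QuotientGroup.mk'_surjective K))

theorem not_dvd_relIndex_sylow [Finite H] (K : Subgroup H) [K.Normal] (p : ℕ) [Fact p.Prime]
    (S : Sylow p H) : ¬ p ∣ (S : Subgroup H).relIndex K := by
  have e1 : ((S : Subgroup H) ⊓ K).index = (S : Subgroup H).relIndex K * K.index := by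
    rw [← inf_relIndex_right, relIndex_mul_index inf_le_right]
  have e2 : ((S : Subgroup H) ⊓ K).index
      = K.relIndex (S : Subgroup H) * (S : Subgroup H).index := by
    rw [← inf_relIndex_left, relIndex_mul_index inf_le_left]
  have e3 := relIndex_sylow_eq K p S
  have e4 : K.index = Nat.card (H ⧸ K) := rfl
  have e5 := Nat.ordProj_mul_ordCompl_eq_self (Nat.card (H ⧸ K)) p
  have hpos : 0 < p ^ (Nat.card (H ⧸ K)).factorization p :=
    pow_pos (Fact.out : p.Prime).pos _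
  intro hdvd
  apply S.not_dvd_index
  have key : (S : Subgroup H).relIndex K
      * (Nat.card (H ⧸ K) / p ^ (Nat.card (H ⧸ K)).factorization p)
      = (S : Subgroup H).index := by
    apply Nat.eq_of_mul_eq_mul_left hpos
    rw [← e3, ← e2, e1, e4]
    rw [e3]
    conv_rhs => rw [← e5]
    ring
  rw [← key]
  exact Dvd.dvd.mul_right hdvd _

theorem exists_index_pow {H : Type*} [Group H] [Finite H] (Z K : Subgroup H) [Z.Normal] [K.Normal]
    (hZK : Z ≤ K) (p : ℕ) [Fact p.Prime] (S : Sylow p H) (W₀ W₁ Y₀ : Subgroup H)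
    (hW₀ : W₀ = ((S : Subgroup H) ⊓ K) ⊔ Z) (hW₁ : W₁ = (S : Subgroup H) ⊔ Z)
    (h1 : W₀ ≤ Y₀) (h2 : Y₀ ⊓ W₁ ≤ W₀)
    (h3 : ∀ y ∈ Subgroup.normalizer (W₀ : Set H), ∃ x ∈ W₁, x⁻¹ * y ∈ Y₀) :
    ∃ M : Subgroup (H ⧸ K), M.index = p ^ (Nat.card (H ⧸ K)).factorization p := by
  classical
  have hp : p.Prime := Fact.out
  have hKn : K.Normal := inferInstance
  obtain ⟨Y, hY⟩ : ∃ Y : Subgroup H, Y = normalizer (W₀ : Set H) := ⟨_, rfl⟩
  have hZW₀ : Z ≤ W₀ := hW₀ ▸ le_sup_right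
  have hSKW₀ : (S : Subgroup H) ⊓ K ≤ W₀ := hW₀ ▸ le_sup_left
  have hW₀K : W₀ ≤ K := hW₀ ▸ sup_le inf_le_right hZK
  have hSW₁ : (S : Subgroup H) ≤ W₁ := hW₁ ▸ le_sup_left
  have hZW₁ : Z ≤ W₁ := hW₁ ▸ le_sup_right
  have hW₀W₁ : W₀ ≤ W₁ := hW₀ ▸ sup_le (inf_le_left.trans hSW₁) hZW₁
  have hW₀Y : W₀ ≤ Y := hY ▸ le_normalizer
  -- `S ≤ Y`
  have hSY : (S : Subgroup H) ≤ Y := by
    intro s hs
    rw [hY, hW₀]
    apply map_conj_sup_of_normal
    rw [mem_normalizer_iff]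
    intro h
    have hsn : s ∈ normalizer ((S : Subgroup H) : Set H) := le_normalizer hs
    rw [mem_normalizer_iff] at hsn
    have hk : h ∈ K ↔ s * h * s⁻¹ ∈ K :=
      ⟨fun hh => hKn.conj_mem h hh s, fun hh => by
        have := hKn.conj_mem _ hh s⁻¹
        simpa [mul_assoc] using this⟩
    rw [mem_inf, mem_inf, ← hsn h, ← hk]
  have hW₁Y : W₁ ≤ Y := hW₁ ▸ sup_le hSY (hZW₀.trans hW₀Y)
  -- Frattini
  have hnd : ¬ p ∣ (S : Subgroup H).relIndex K := not_dvd_relIndex_sylow K p S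
  have hfr : normalizer (((S : Subgroup H) ⊓ K : Subgroup H) : Set H) ⊔ K = ⊤ := by
    have := Sylow.normalizer_sup_eq_top ((S.2.comap_subtype (K := K)).toSylow hnd)
    rwa [show (((S.2.comap_subtype (K := K)).toSylow hnd : Sylow p K) : Subgroup K).map K.subtype
      = (S : Subgroup H) ⊓ K from subgroupOf_map_subtype _ _] at this
  have hYK : Y ⊔ K = ⊤ := by
    refine top_le_iff.mp (hfr ▸ sup_le_sup_right ?_ K)
    intro g hg
    rw [hY, hW₀]
    exact map_conj_sup_of_normal _ _ g hg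
  have hcard : Nat.card (H ⧸ K) = K.relIndex Y := by
    rw [← relIndex_sup_right Y K, hYK, relIndex_top_right]
    rfl
  -- `|Y : Y₀ ∩ Y| = p ^ m`
  have hpm : (Y₀ ⊓ Y).relIndex Y = p ^ (Nat.card (H ⧸ K)).factorization p := by
    rw [← relIndex_sylow_eq K p S]
    have e1 : (Y₀ ⊓ Y).relIndex Y = (Y₀ ⊓ Y).relIndex W₁ := by
      apply relIndex_eq_of_cover W₁ (Y₀ ⊓ Y) Y hW₁Y
      intro r hr
      obtain ⟨x, hx, hxr⟩ := h3 r (hY ▸ hr)
      exact ⟨x, hx, hxr, Y.mul_mem (Y.inv_mem (hW₁Y hx)) hr⟩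
    have e2 : (Y₀ ⊓ Y).relIndex W₁ = W₀.relIndex W₁ := by
      rw [← inf_relIndex_right (Y₀ ⊓ Y) W₁]
      congr 1
      apply le_antisymm
      · exact le_trans (inf_le_inf_right W₁ inf_le_left) h2
      · exact le_inf (le_inf h1 hW₀Y) hW₀W₁
    have e3 : W₀.relIndex W₁ = W₀.relIndex (S : Subgroup H) := by
      apply relIndex_eq_of_cover (S : Subgroup H) W₀ W₁ hSW₁
      intro r hr
      rw [hW₁, ← SetLike.mem_coe, mul_normal] at hr
      obtain ⟨s, hs, z, hz, rfl⟩ := Set.mem_mul.mp hr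
      refine ⟨s, hs, ?_⟩
      rw [inv_mul_cancel_left]
      exact hZW₀ hz
    have e4 : W₀.relIndex (S : Subgroup H) = K.relIndex (S : Subgroup H) := by
      rw [← inf_relIndex_right W₀, ← inf_relIndex_right K]
      congr 1
      apply le_antisymm
      · exact inf_le_inf_right _ hW₀K
      · exact le_inf (by rw [inf_comm]; exact hSKW₀) inf_le_right
    rw [e1, e2, e3, e4]
  -- the subgroup
  refine ⟨(Y₀ ⊓ Y).map (QuotientGroup.mk' K), ?_⟩
  have c1 := card_map_mk'_eq_relIndex K (Y₀ ⊓ Y)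
  have c2 := index_mul_card ((Y₀ ⊓ Y).map (QuotientGroup.mk' K))
  rw [c1, hcard] at c2
  -- `A = K ⊓ (Y₀ ⊓ Y)`, `L = K ⊓ Y`
  have hAL : K ⊓ (Y₀ ⊓ Y) ≤ K ⊓ Y := inf_le_inf_left K inf_le_right
  have c3 : (K ⊓ (Y₀ ⊓ Y)).relIndex (Y₀ ⊓ Y) * (Y₀ ⊓ Y).relIndex Y
      = (K ⊓ (Y₀ ⊓ Y)).relIndex Y :=
    relIndex_mul_relIndex _ _ _ inf_le_right inf_le_right
  have c4 : (K ⊓ (Y₀ ⊓ Y)).relIndex (K ⊓ Y) * (K ⊓ Y).relIndex Y
      = (K ⊓ (Y₀ ⊓ Y)).relIndex Y :=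
    relIndex_mul_relIndex _ _ _ hAL inf_le_right
  rw [inf_relIndex_right K Y] at c4
  rw [inf_relIndex_right K (Y₀ ⊓ Y)] at c3
  have hKYpos : 0 < K.relIndex Y := hcard ▸ Nat.card_pos
  have c5 : ((Y₀ ⊓ Y).map (QuotientGroup.mk' K)).index
      * (K ⊓ (Y₀ ⊓ Y)).relIndex (K ⊓ Y) = p ^ (Nat.card (H ⧸ K)).factorization p := by
    apply Nat.eq_of_mul_eq_mul_right hKYpos
    rw [mul_assoc, c4, ← c3, ← mul_assoc, c2, hpm, mul_comm]
  -- `|L : A|` is prime to `p`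
  have hW₀A : W₀ ≤ K ⊓ (Y₀ ⊓ Y) := le_inf hW₀K (le_inf h1 hW₀Y)
  have d1 : (K ⊓ (Y₀ ⊓ Y)).relIndex (K ⊓ Y) ∣ W₀.relIndex (K ⊓ Y) :=
    relIndex_dvd_of_le_left _ hW₀A
  have d2 : W₀.relIndex (K ⊓ Y) ∣ W₀.relIndex K :=
    Dvd.intro _ (relIndex_mul_relIndex W₀ (K ⊓ Y) K (le_inf hW₀K hW₀Y) inf_le_left)
  have d3 : W₀.relIndex K ∣ (S : Subgroup H).relIndex K := by
    rw [← inf_relIndex_right (S : Subgroup H) K]
    exact relIndex_dvd_of_le_left _ hSKW₀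
  have hnd' : ¬ p ∣ (K ⊓ (Y₀ ⊓ Y)).relIndex (K ⊓ Y) := fun hh =>
    hnd (hh.trans (d1.trans (d2.trans d3)))
  have d4 : (K ⊓ (Y₀ ⊓ Y)).relIndex (K ⊓ Y) ∣ p ^ (Nat.card (H ⧸ K)).factorization p :=
    Dvd.intro_left _ c5
  obtain ⟨k, -, hk⟩ := (Nat.dvd_prime_pow hp).mp d4
  have hk0 : k = 0 := by
    by_contra hne
    exact hnd' (hk ▸ dvd_pow_self p hne)
  rw [hk, hk0, pow_zero, mul_one] at c5
  exact c5

end Cfsg.Agent.Lib.H25.FRS
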