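import Mathlib

/-!
# S4541 piece E3 (helper25): the arithmetic of Brauer's `k₀(B)` bound for `p = 2`
-/

set_option autoImplicit false

namespace Cfsg.Agent.Lib.H25.KZ

/-- the arithmetic core: `k ≤ Q α`, `k α ≤ Q l`, `α` odd, `s² ≤ l < (s+1)²`. -/
theorem k0_core (k α Q l s : ℕ) (hα : Odd α) (h1 : k ≤ Q * α) (h2 : k * α ≤ Q * l)
    (hs1 : s * s ≤ l) (hs2 : l < (s + 1) * (s + 1)) :
    (Odd s → k ≤ s * Q) ∧ (¬ Odd s → (s + 1) * k ≤ l * Q) := by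
  obtain ⟨a, ha⟩ := hα
  constructor
  · rintro ⟨b, hb⟩
    rcases Nat.lt_or_ge s α with hlt | hge
    · -- `α ≥ s + 2`
      have hα2 : s + 2 ≤ α := by omega
      have hl : l ≤ s * (s + 2) := by nlinarith
      have h3 : k * (s + 2) ≤ (s * Q) * (s + 2) :=
        calc k * (s + 2) ≤ k * α := Nat.mul_le_mul_left k hα2
          _ ≤ Q * l := h2
          _ ≤ Q * (s * (s + 2)) := Nat.mul_le_mul_left Q hl
          _ = (s * Q) * (s + 2) := by ring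
      exact Nat.le_of_mul_le_mul_right h3 (by omega)
    · calc k ≤ Q * α := h1
        _ ≤ Q * s := Nat.mul_le_mul_left Q hge
        _ = s * Q := Nat.mul_comm _ _
  · intro hs
    have hse : Even s := Nat.not_odd_iff_even.1 hs
    obtain ⟨b, hb⟩ := hse
    rcases Nat.lt_or_ge s α with hlt | hge
    · -- `α ≥ s + 1`
      calc (s + 1) * k ≤ α * k := Nat.mul_le_mul_right k hlt
        _ = k * α := Nat.mul_comm _ _
        _ ≤ Q * l := h2
        _ = l * Q := Nat.mul_comm _ _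
    · -- `α ≤ s - 1`
      have hα1 : α + 1 ≤ s := by omega
      have h3 : (s + 1) * k ≤ (s + 1) * (Q * α) := Nat.mul_le_mul_left _ h1
      have h4 : (s + 1) * α ≤ s * s := by nlinarith
      calc (s + 1) * k ≤ (s + 1) * (Q * α) := h3
        _ = Q * ((s + 1) * α) := by ring
        _ ≤ Q * (s * s) := Nat.mul_le_mul_left Q h4
        _ ≤ Q * l := Nat.mul_le_mul_left Q hs1
        _ = l * Q := Nat.mul_comm _ _

/-- (E3) the arithmetic: odd positive integers `A χ` (`χ ∈ K`) with `|K| ≤ 2^q A χ` and `∑ A χ ≤ 2^q l`.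
(`α := min A`; `|K| ≤ 2^q α`, `|K| α ≤ 2^q l`; `s` odd: `α ≤ s` or `α ≥ s + 2` and `l ≤ s (s + 2)`;
`s` even: `α ≥ s + 1` or `α ≤ s - 1` and `s² ≤ l`; `K = ∅` is trivial.) -/
theorem k0_bounds {ι : Type*} (K : Finset ι) (A : ι → ℕ) (q l : ℕ)
    (hodd : ∀ χ ∈ K, Odd (A χ)) (h1 : ∀ χ ∈ K, K.card ≤ 2 ^ q * A χ)
    (h2 : ∑ χ ∈ K, A χ ≤ 2 ^ q * l) :
    (Odd (Nat.sqrt l) → K.card ≤ Nat.sqrt l * 2 ^ q) ∧
      (¬ Odd (Nat.sqrt l) → (Nat.sqrt l + 1) * K.card ≤ l * 2 ^ q) ∧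
      (l ≤ 3 → K.card ≤ 2 ^ q) := by
  rcases K.eq_empty_or_nonempty with hK | hK
  · subst hK
    simp
  obtain ⟨χ₀, hχ₀, hmin⟩ := Finset.exists_min_image K A hK
  have hα : Odd (A χ₀) := hodd χ₀ hχ₀
  have hk1 : K.card ≤ 2 ^ q * A χ₀ := h1 χ₀ hχ₀
  have hk2 : K.card * A χ₀ ≤ 2 ^ q * l := by
    have h3 : K.card • A χ₀ ≤ ∑ χ ∈ K, A χ := Finset.card_nsmul_le_sum K A (A χ₀) hmin
    rw [smul_eq_mul] at h3
    exact h3.trans h2
  have hs1 : Nat.sqrt l * Nat.sqrt l ≤ l := Nat.sqrt_le l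
  have hs2 : l < (Nat.sqrt l + 1) * (Nat.sqrt l + 1) := Nat.lt_succ_sqrt l
  obtain ⟨hA, hB⟩ := k0_core K.card (A χ₀) (2 ^ q) l (Nat.sqrt l) hα hk1 hk2 hs1 hs2
  refine ⟨hA, hB, ?_⟩
  intro hl3
  rcases Nat.eq_zero_or_pos l with hl0 | hlpos
  · -- `l = 0`: `K.card * α ≤ 0`
    subst hl0
    have hαpos : 0 < A χ₀ := hα.pos
    have : K.card * A χ₀ = 0 := by omega
    rcases Nat.mul_eq_zero.1 this with h | h
    · rw [h]; exact Nat.zero_le _
    · omega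
  · have hsq : Nat.sqrt l = 1 := (Nat.eq_sqrt.2 ⟨by omega, by omega⟩).symm
    have := hA (by rw [hsq]; exact odd_one)
    rw [hsq, one_mul] at this
    exact this

end Cfsg.Agent.Lib.H25.KZ
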