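import Mathlib
import Cfsg.Agent.S0265
import Cfsg.Agent.Lib.H2.PSLCard

/-!
# S4073 piece CONV-SUB (helper25): the subfield case of Dickson's list

`na_subfield`: in `PSL₂(2^n)` with `2^n - 1` prime, a subgroup `K ≃ PSL₂(K')` or `PGL₂(K')` over a
subfield has order `6` or is everything; in both cases a non-abelian normal subgroup of `K` is `K`.
-/

set_option autoImplicit false
set_option linter.style.haveILetI false

namespace Cfsg.Agent.Lib.H25.SNS

/-- a non-abelian normal subgroup of a group of order `6` is everything (local copy of CONV-SMALL). -/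
theorem snssub_card_six {K : Type*} [Group K] [Finite K] (hK : Nat.card K = 6) (H : Subgroup K)
    (hH : ¬ IsMulCommutative H) : H = ⊤ := by
  have hdvd : Nat.card H ∣ 6 := hK ▸ Subgroup.card_subgroup_dvd_card H
  have hpos : 0 < Nat.card H := Nat.card_pos
  have hle : Nat.card H ≤ 6 := Nat.le_of_dvd (by norm_num) hdvd
  have hcases : Nat.card H = 1 ∨ Nat.card H = 2 ∨ Nat.card H = 3 ∨ Nat.card H = 6 := by
    interval_cases h : Nat.card H <;> simp_all
  have hcyc : IsCyclic H → False := fun hc => by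
    haveI := hc
    exact hH ⟨⟨fun a b => (IsCyclic.commGroup (α := H)).mul_comm a b⟩⟩
  rcases hcases with h | h | h | h
  · exfalso
    apply hcyc
    haveI : Subsingleton H := (Nat.card_eq_one_iff_unique.mp h).1
    exact isCyclic_of_subsingleton
  · exfalso
    haveI : Fact (Nat.Prime 2) := ⟨Nat.prime_two⟩
    exact hcyc (isCyclic_of_prime_card h)
  · exfalso
    haveI : Fact (Nat.Prime 3) := ⟨Nat.prime_three⟩
    exact hcyc (isCyclic_of_prime_card h)
  · exact Subgroup.eq_top_of_card_eq H (by rw [h, hK])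

/-- the order of `PSL₂` over a field of even order. -/
theorem snssub_card_PSL2 {E : Type*} [Field E] [Fintype E] (j : ℕ) (hj : 1 ≤ j)
    (hE : Fintype.card E = 2 ^ j) :
    Nat.card (Matrix.ProjectiveSpecialLinearGroup (Fin 2) E) =
      Fintype.card E * (Fintype.card E ^ 2 - 1) := by
  have h := Cfsg.Agent.Lib.H2.card_PSL2_mul (F := E)
  have hodd : Nat.gcd 2 (Fintype.card E - 1) = 1 := by
    rw [hE]
    have h2 : 2 ∣ 2 ^ j := dvd_pow_self 2 (by omega)
    have hpos : 0 < 2 ^ j := by positivity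
    have : ¬ 2 ∣ 2 ^ j - 1 := by omega
    exact (Nat.Prime.coprime_iff_not_dvd Nat.prime_two).mpr this
  rw [hodd, one_mul] at h
  exact h

/-- the order of `PGL₂`. -/
theorem snssub_card_PGL2 {E : Type*} [Field E] [Fintype E] :
    Nat.card (Matrix.ProjGenLinGroup (Fin 2) E) =
      Fintype.card E * (Fintype.card E ^ 2 - 1) := by
  rw [Cfsg.Agent.S0265.result, Cfsg.Agent.Lib.H12.card_SL2]

/-- **CONV-SUB** (subfield case of Dickson). -/
theorem na_subfield {F : Type*} [Field F] [Fintype F] (n : ℕ) (hn : 2 ≤ n)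
    (hF : Fintype.card F = 2 ^ n) (hp : (2 ^ n - 1).Prime)
    (hsimp : IsSimpleGroup (Matrix.ProjectiveSpecialLinearGroup (Fin 2) F))
    (K : Subgroup (Matrix.ProjectiveSpecialLinearGroup (Fin 2) F))
    (K' : Type) [Field K'] [Fintype K'] (m : ℕ) (hm : Fintype.card K' ^ m = 2 ^ n)
    (e : Nonempty (K ≃* Matrix.ProjectiveSpecialLinearGroup (Fin 2) K') ∨
      Nonempty (K ≃* Matrix.ProjGenLinGroup (Fin 2) K'))
    (H : Subgroup K) (hHn : H.Normal) (hH : ¬ IsMulCommutative H) : H = ⊤ := by
  classical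
  have hnprime : n.Prime := (Nat.prime_of_pow_sub_one_prime (by omega) hp).2
  -- the size of the subfield
  have hq2 : 2 ≤ Fintype.card K' := Fintype.one_lt_card
  have hm0 : m ≠ 0 := by
    rintro rfl
    rw [pow_zero] at hm
    have : 2 ^ 2 ≤ 2 ^ n := Nat.pow_le_pow_right (by norm_num) hn
    omega
  have hdvd : Fintype.card K' ∣ 2 ^ n := hm ▸ dvd_pow_self _ hm0
  obtain ⟨j, hjn, hj⟩ := (Nat.dvd_prime_pow Nat.prime_two).mp hdvd
  have hj1 : 1 ≤ j := by
    rcases Nat.eq_zero_or_pos j with h0 | h0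
    · rw [h0, pow_zero] at hj; omega
    · exact h0
  have hjm : j * m = n := by
    rw [hj, ← pow_mul] at hm
    exact Nat.pow_right_injective (le_refl 2) hm
  have hjcases : j = 1 ∨ j = n := (Nat.dvd_prime hnprime).mp ⟨m, hjm.symm⟩
  -- the order of `K`
  have hcardK : Nat.card K = Fintype.card K' * (Fintype.card K' ^ 2 - 1) := by
    rcases e with ⟨⟨e⟩⟩ | ⟨⟨e⟩⟩
    · rw [Nat.card_congr e.toEquiv, snssub_card_PSL2 j hj1 hj]
    · rw [Nat.card_congr e.toEquiv, snssub_card_PGL2]
  have hcardG : Nat.card (Matrix.ProjectiveSpecialLinearGroup (Fin 2) F) =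
      Fintype.card F * (Fintype.card F ^ 2 - 1) := snssub_card_PSL2 n (by omega) hF
  have hGpos : Nat.card (Matrix.ProjectiveSpecialLinearGroup (Fin 2) F) ≠ 0 := by
    rw [hcardG, hF]
    have h1 : 0 < 2 ^ n := by positivity
    have h2 : 1 < (2 ^ n) ^ 2 := by
      have : 2 ^ 2 ≤ 2 ^ n := Nat.pow_le_pow_right (by norm_num) hn
      nlinarith
    have h3 : 0 < (2 ^ n) ^ 2 - 1 := by omega
    exact (Nat.mul_pos h1 h3).ne'
  haveI : Finite (Matrix.ProjectiveSpecialLinearGroup (Fin 2) F) :=
    Nat.finite_of_card_ne_zero hGpos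
  rcases hjcases with h1 | h1
  · -- `|K'| = 2`, `|K| = 6`
    rw [h1, pow_one] at hj
    have h6 : Nat.card K = 6 := by rw [hcardK, hj]; norm_num
    exact snssub_card_six h6 H hH
  · -- `|K'| = |F|`, `K = ⊤`
    rw [h1] at hj
    have hKtop : K = ⊤ := by
      apply Subgroup.eq_top_of_card_eq
      rw [hcardK, hcardG, hj, hF]
    have hsurj : Function.Surjective K.subtype := by
      intro x
      exact ⟨⟨x, hKtop ▸ Subgroup.mem_top x⟩, rfl⟩
    have hnorm : (H.map K.subtype).Normal := hHn.map K.subtype hsurj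
    rcases hnorm.eq_bot_or_eq_top with hb | ht
    · exfalso
      apply hH
      have hHbot : H = ⊥ := by
        rw [eq_bot_iff]
        intro x hx
        have : K.subtype x ∈ H.map K.subtype := Subgroup.mem_map_of_mem _ hx
        rw [hb, Subgroup.mem_bot] at this
        rw [Subgroup.mem_bot]
        exact Subtype.ext this
      refine ⟨⟨fun a b => ?_⟩⟩
      have hall : ∀ c : H, (c : K) = 1 := fun c => by
        have h2 : (c : K) ∈ H := c.2
        have h3 : (c : K) ∈ (⊥ : Subgroup K) := hHbot ▸ h2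
        exact Subgroup.mem_bot.mp h3
      have ha : (a : K) = 1 := hall a
      have hb' : (b : K) = 1 := hall b
      apply Subtype.ext
      simp [ha, hb']
    · rw [eq_top_iff]
      intro x _
      have : K.subtype x ∈ H.map K.subtype := ht ▸ Subgroup.mem_top _
      obtain ⟨h, hh, hhx⟩ := this
      have : h = x := Subtype.ext hhx
      exact this ▸ hh

end Cfsg.Agent.Lib.H25.SNS
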