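import Mathlib

/-!
# S0977 piece (ARITH) `arith_false`: exact signature of `tools/blueprints/S0977_sigs.lean`

PURE arithmetic.  Per index: `(d i, ε i)` is one of 7 types and `v i` lies in an explicit list (`type_mem`,
`interval_cases` + `omega`); then ONE staged kernel `decide` (`core`) over the types (2401 ordered
quadruples, 60 survive the degree equation), the values (5496, 768 survive `hlin`) and `ct < 50`.
-/

set_option autoImplicit false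

namespace Cfsg.Agent.Lib.H25.O4320

/-- the 7 possible (degree, sign) types -/
def pairs : List (ℕ × ℤ) := [(6, 1), (16, 1), (36, 1), (4, -1), (9, -1), (24, -1), (54, -1)]

/-- the possible values at the involution for a character of degree `d` -/
def vl : ℕ → List ℤ
  | 6 => [-2, 0, 2]
  | 16 => [-4, -2, 0, 2, 4]
  | 36 => [-8, -6, -4, -2, 0, 2, 4, 6, 8]
  | 4 => [0]
  | 9 => [-1, 1]
  | 24 => [-4, -2, 0, 2, 4]
  | 54 => [-10, -8, -6, -4, -2, 0, 2, 4, 6, 8, 10]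
  | _ => []

theorem type_mem (d : ℕ) (ε v : ℤ) (np nm : ℕ) (hε : ε = 1 ∨ ε = -1) (hd : d ∣ 4320) (hd1 : d ≠ 1)
    (hle : d ≤ 65) (hnp : (5 : ℤ) * ((np : ℤ) + nm) = d + 4 * ε) (hv : v = (np : ℤ) - nm) :
    (d, ε) ∈ pairs ∧ v ∈ vl d := by
  have hpos : 1 ≤ d := Nat.pos_of_dvd_of_pos hd (by norm_num)
  subst hv
  interval_cases d <;> rcases hε with rfl | rfl <;>
    first
    | omega
    | (refine ⟨by decide, ?_⟩
       simp only [vl, List.mem_cons, List.not_mem_nil, or_false]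
       omega)

set_option maxRecDepth 100000 in
theorem core : ∀ p0 ∈ pairs, ∀ p1 ∈ pairs, ∀ p2 ∈ pairs, ∀ p3 ∈ pairs,
    1 + (p0.2 * (p0.1 : ℤ) + p1.2 * (p1.1 : ℤ) + p2.2 * (p2.1 : ℤ) + p3.2 * (p3.1 : ℤ)) = 0 →
    1 + (p0.1 * p0.1 + p1.1 * p1.1 + p2.1 * p2.1 + p3.1 * p3.1) ≤ 4320 →
    ∀ v0 ∈ vl p0.1, ∀ v1 ∈ vl p1.1, ∀ v2 ∈ vl p2.1, ∀ v3 ∈ vl p3.1,
    1 + (p0.2 * v0 + p1.2 * v1 + p2.2 * v2 + p3.2 * v3) = 0 →
    (4320 + (p0.2 * (v0 * v0) * ((4320 / p0.1 : ℕ) : ℤ) + p1.2 * (v1 * v1) * ((4320 / p1.1 : ℕ) : ℤ) +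
        p2.2 * (v2 * v2) * ((4320 / p2.1 : ℕ) : ℤ) + p3.2 * (v3 * v3) * ((4320 / p3.1 : ℕ) : ℤ)) ≤ 12480) ∧
    ∀ ct ∈ List.range 50,
      5 * ((ct : ℤ) * (ct : ℤ)) =
        4320 + (p0.2 * (v0 * v0) * ((4320 / p0.1 : ℕ) : ℤ) + p1.2 * (v1 * v1) * ((4320 / p1.1 : ℕ) : ℤ) +
          p2.2 * (v2 * v2) * ((4320 / p2.1 : ℕ) : ℤ) + p3.2 * (v3 * v3) * ((4320 / p3.1 : ℕ) : ℤ)) →
      ¬ (1 + (v0 * v0 + v1 * v1 + v2 * v2 + v3 * v3) ≤ (ct : ℤ)) := by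
  decide +kernel

/-- (ARITH) PURE arithmetic, finite case check. -/
theorem arith_false (d : Fin 4 → ℕ) (ε v : Fin 4 → ℤ) (np nm : Fin 4 → ℕ) (ct : ℕ)
    (hε : ∀ i, ε i = 1 ∨ ε i = -1) (hd : ∀ i, d i ∣ 4320) (hd1 : ∀ i, d i ≠ 1)
    (hnp : ∀ i, (5 : ℤ) * ((np i : ℤ) + nm i) = d i + 4 * ε i)
    (hv : ∀ i, v i = (np i : ℤ) - nm i)
    (hdeg : 1 + ∑ i, ε i * (d i : ℤ) = 0) (hsq : 1 + ∑ i, (d i) ^ 2 ≤ 4320)
    (hlin : 1 + ∑ i, ε i * v i = 0) (hct : ct ∣ 4320) (hbound : 1 + ∑ i, (v i) ^ 2 ≤ (ct : ℤ))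
    (hclass : (5 : ℚ) * (ct : ℚ) ^ 2 = 4320 * (1 + ∑ i, (ε i : ℚ) * (v i : ℚ) ^ 2 / (d i : ℚ))) :
    False := by
  have hle : ∀ i, d i ≤ 65 := by
    intro i
    by_contra h
    rw [not_le] at h
    have h1 : 66 ^ 2 ≤ (d i) ^ 2 := Nat.pow_le_pow_left h 2
    have h2 : (d i) ^ 2 ≤ ∑ j, (d j) ^ 2 :=
      Finset.single_le_sum (f := fun j => (d j) ^ 2) (fun j _ => Nat.zero_le _) (Finset.mem_univ i)
    omega
  have hmem := fun i => type_mem (d i) (ε i) (v i) (np i) (nm i) (hε i) (hd i) (hd1 i) (hle i)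
    (hnp i) (hv i)
  -- integer form of the class equation
  have hdq : ∀ i, (ε i : ℚ) * (v i : ℚ) ^ 2 / (d i : ℚ) * 4320 =
      (((ε i * (v i * v i) * ((4320 / d i : ℕ) : ℤ) : ℤ)) : ℚ) := by
    intro i
    have hd0 : (d i : ℚ) ≠ 0 := by
      have : d i ≠ 0 := fun h0 => by
        have := hd i
        rw [h0] at this
        omega
      exact_mod_cast this
    have h1 : ((4320 / d i : ℕ) : ℚ) = 4320 / (d i : ℚ) := by
      rw [Nat.cast_div (hd i) hd0]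
      norm_num
    rw [Int.cast_mul, Int.cast_mul, Int.cast_mul, Int.cast_natCast, h1]
    field_simp
  have hclassZ : 5 * ((ct : ℤ) * (ct : ℤ)) =
      4320 + (ε 0 * (v 0 * v 0) * ((4320 / d 0 : ℕ) : ℤ) + ε 1 * (v 1 * v 1) * ((4320 / d 1 : ℕ) : ℤ) +
        ε 2 * (v 2 * v 2) * ((4320 / d 2 : ℕ) : ℤ) + ε 3 * (v 3 * v 3) * ((4320 / d 3 : ℕ) : ℤ)) := by
    have h1 : (5 : ℚ) * (ct : ℚ) ^ 2 =
        4320 + ∑ i, (ε i : ℚ) * (v i : ℚ) ^ 2 / (d i : ℚ) * 4320 := by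
      rw [hclass, ← Finset.sum_mul]
      ring
    rw [Finset.sum_congr rfl (fun i _ => hdq i), Fin.sum_univ_four] at h1
    have h2 : ((5 * ((ct : ℤ) * (ct : ℤ)) : ℤ) : ℚ) =
        ((4320 + (ε 0 * (v 0 * v 0) * ((4320 / d 0 : ℕ) : ℤ) + ε 1 * (v 1 * v 1) * ((4320 / d 1 : ℕ) : ℤ) +
        ε 2 * (v 2 * v 2) * ((4320 / d 2 : ℕ) : ℤ) + ε 3 * (v 3 * v 3) * ((4320 / d 3 : ℕ) : ℤ)) : ℤ) : ℚ) := by
      push_cast
      push_cast at h1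
      linarith [h1]
    exact_mod_cast h2
  rw [Fin.sum_univ_four] at hdeg hsq hlin hbound
  have hsq' : 1 + (d 0 * d 0 + d 1 * d 1 + d 2 * d 2 + d 3 * d 3) ≤ 4320 := by
    simpa only [sq] using hsq
  have hbound' : 1 + (v 0 * v 0 + v 1 * v 1 + v 2 * v 2 + v 3 * v 3) ≤ (ct : ℤ) := by
    simpa only [sq] using hbound
  obtain ⟨hR, hall⟩ := core (d 0, ε 0) (hmem 0).1 (d 1, ε 1) (hmem 1).1 (d 2, ε 2) (hmem 2).1
    (d 3, ε 3) (hmem 3).1 hdeg hsq' (v 0) (hmem 0).2 (v 1) (hmem 1).2 (v 2) (hmem 2).2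
    (v 3) (hmem 3).2 hlin
  have hct50 : ct < 50 := by
    by_contra h
    rw [not_lt] at h
    have h1 : (50 : ℤ) ≤ (ct : ℤ) := by exact_mod_cast h
    have h2 : (50 : ℤ) * 50 ≤ (ct : ℤ) * (ct : ℤ) := mul_le_mul h1 h1 (by norm_num) (by linarith)
    simp only at hR
    linarith
  exact hall ct (List.mem_range.mpr hct50) hclassZ hbound'

end Cfsg.Agent.Lib.H25.O4320
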