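/-
Element orders in the alternating group of degree 6, by kernel evaluation.
-/
import Mathlib
set_option autoImplicit false

namespace Cfsg.Agent.Lib.H25

set_option maxRecDepth 100000 in
/-- Every even permutation of six points has order dividing 3, 4 or 5. -/
theorem a6_pow : ∀ g : Equiv.Perm (Fin 6), Equiv.Perm.sign g = 1 →
    (g ^ 3 = 1 ∨ g ^ 4 = 1 ∨ g ^ 5 = 1) := by
  decide +kernel

end Cfsg.Agent.Lib.H25
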