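import Mathlib

/-!
# S4150 piece PAIR (core, helper25): the assembly for one pair of primes, with the conclusions of the
pieces T0, TR, JG as hypotheses.
-/

set_option autoImplicit false

namespace Cfsg.Agent.Lib.H25.AG

open Equiv Equiv.Perm Subgroup

/-- cycle type of an element of prime order `r` in degree `< 2 r`, resp. `≤ 2 r`. -/
theorem cycleType_of_prime_order {m r : ℕ} (hr : r.Prime) (z : Perm (Fin m)) (hz : orderOf z = r) :
    ∃ n : ℕ, z.cycleType = Multiset.replicate (n + 1) r ∧ (n + 1) * r = z.support.card ∧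
      (n + 1) * r ≤ m := by
  have hz' : (orderOf z).Prime := by rw [hz]; exact hr
  obtain ⟨n, hn⟩ := Perm.cycleType_prime_order hz'
  rw [hz] at hn
  have hsum : (n + 1) * r = z.support.card := by
    rw [← Perm.sum_cycleType, hn, Multiset.sum_replicate, smul_eq_mul]
  refine ⟨n, hn, hsum, ?_⟩
  rw [hsum]
  calc z.support.card ≤ Fintype.card (Fin m) := Finset.card_le_univ _
    _ = m := Fintype.card_fin m

/-- the sign is determined by the cycle type -/
theorem sign_eq_of_cycleType_eq {α β : Type*} [Fintype α] [DecidableEq α] [Fintype β] [DecidableEq β]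
    (x : Perm α) (x' : Perm β) (h : x'.cycleType = x.cycleType) : Perm.sign x' = 1 ↔ Perm.sign x = 1 := by
  rw [Perm.sign_of_cycleType, Perm.sign_of_cycleType, h]

/-- the order is determined by the cycle type -/
theorem orderOf_eq_of_cycleType_eq {α β : Type*} [Fintype α] [DecidableEq α] [Fintype β] [DecidableEq β]
    (x : Perm α) (x' : Perm β) (h : x'.cycleType = x.cycleType) : orderOf x' = orderOf x := by
  rw [← Perm.lcm_cycleType, ← Perm.lcm_cycleType, h]

theorem isCycle_card_of_cycleType_singleton {α : Type*} [Fintype α] [DecidableEq α] (y : Perm α) (q : ℕ)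
    (h : y.cycleType = {q}) : y.IsCycle ∧ y.support.card = q := by
  constructor
  · rw [← Perm.card_cycleType_eq_one, h]; rfl
  · rw [← Perm.sum_cycleType, h]; rfl

/-- (PAIR core) the main assembly for one pair of primes, modulo T0, TR, JG. -/
theorem pair_ok_of (m p q : ℕ) (hp : p.Prime) (hq : q.Prime) (h3 : 3 ≤ p) (hpq : p < q)
    (hmp : m ≤ 2 * p) (hqm : q ≤ m)
    (hT0 : ∀ x y : alternatingGroup (Fin m),
      Nonempty (closure ({x, y} : Set (alternatingGroup (Fin m))) ≃*
        closure ({(x : Perm (Fin m)), (y : Perm (Fin m))} : Set (Perm (Fin m)))))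
    (hTR : ∀ (d : ℕ) (x y : Perm (Fin m)), (x.support ∪ y.support).card = d →
      ∃ x' y' : Perm (Fin d), x'.cycleType = x.cycleType ∧ y'.cycleType = y.cycleType ∧
        x'.support ∪ y'.support = Finset.univ ∧
        Nonempty (closure ({x, y} : Set (Perm (Fin m))) ≃*
          closure ({x', y'} : Set (Perm (Fin d)))))
    (hJG : ∀ (d : ℕ) (x y : Perm (Fin d)), orderOf x = p → y.IsCycle →
      y.support.card = q → x.support ∪ y.support = Finset.univ → d < p + q →
      Perm.sign x = 1 → Perm.sign y = 1 → ((x.IsCycle ∧ p + 3 ≤ d) ∨ q + 3 ≤ d) →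
      closure ({x, y} : Set (Perm (Fin d))) = alternatingGroup (Fin d))
    (hcore : q = p + 2 → ∀ x' y' : Perm (Fin q), x'.cycleType = {p} → y'.cycleType = {q} →
      closure ({x', y'} : Set (Perm (Fin q))) = alternatingGroup (Fin q))
    (hdouble : m = 2 * p → 2 * p < q + 3 → ∀ x' y' : Perm (Fin m), x'.cycleType = {p, p} →
      y'.cycleType = {q} → ∃ d : ℕ, 5 ≤ d ∧
        Nonempty (closure ({x', y'} : Set (Perm (Fin m))) ≃* alternatingGroup (Fin d))) :
    ∀ x y : alternatingGroup (Fin m), orderOf x = p → orderOf y = q →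
      ∃ d : ℕ, 5 ≤ d ∧ Nonempty (closure ({x, y} : Set (alternatingGroup (Fin m))) ≃*
        alternatingGroup (Fin d)) := by
  intro x y hx hy
  have hp0 : 0 < p := hp.pos
  have hq5 : 5 ≤ q := by
    -- `q > p ≥ 3`, `q` prime, so `q ≠ 4`
    rcases Nat.lt_or_ge q 5 with h | h
    · exfalso
      have h4 : q = 4 := by omega
      rw [h4] at hq
      exact absurd hq (by norm_num)
    · exact h
  have hpodd : Odd p := hp.odd_of_ne_two (by omega)
  have hqodd : Odd q := hq.odd_of_ne_two (by omega)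
  have hq2 : p + 2 ≤ q := by
    obtain ⟨a, ha⟩ := hpodd
    obtain ⟨b, hb⟩ := hqodd
    omega
  obtain ⟨e0⟩ := hT0 x y
  set x0 : Perm (Fin m) := (x : Perm (Fin m)) with hx0
  set y0 : Perm (Fin m) := (y : Perm (Fin m)) with hy0
  have hx0o : orderOf x0 = p := by rw [hx0, Subgroup.orderOf_coe]; exact hx
  have hy0o : orderOf y0 = q := by rw [hy0, Subgroup.orderOf_coe]; exact hy
  have hsx0 : Perm.sign x0 = 1 := Perm.mem_alternatingGroup.1 x.2
  have hsy0 : Perm.sign y0 = 1 := Perm.mem_alternatingGroup.1 y.2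
  -- cycle type of `y0`
  obtain ⟨ny, hny, hnys, hnym⟩ := cycleType_of_prime_order hq y0 hy0o
  have hny0 : ny = 0 := by
    by_contra hne
    have h2 : 2 ≤ ny + 1 := by omega
    have : 2 * q ≤ (ny + 1) * q := Nat.mul_le_mul_right q h2
    omega
  subst hny0
  have hyct : y0.cycleType = {q} := by rw [hny]; rfl
  obtain ⟨hycyc, hycard⟩ := isCycle_card_of_cycleType_singleton y0 q hyct
  -- cycle type of `x0`
  obtain ⟨nx, hnx, hnxs, hnxm⟩ := cycleType_of_prime_order hp x0 hx0o
  have hnx1 : nx = 0 ∨ nx = 1 := by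
    by_contra hne
    have h3' : 3 ≤ nx + 1 := by omega
    have : 3 * p ≤ (nx + 1) * p := Nat.mul_le_mul_right p h3'
    omega
  rcases hnx1 with rfl | rfl
  · -- `x0` is a `p`-cycle
    have hxct : x0.cycleType = {p} := by rw [hnx]; rfl
    obtain ⟨d, hd⟩ : ∃ d, (x0.support ∪ y0.support).card = d := ⟨_, rfl⟩
    have hqd : q ≤ d := by
      rw [← hd, ← hycard]
      exact Finset.card_le_card Finset.subset_union_right
    have hdm : d ≤ m := by
      rw [← hd]
      calc (x0.support ∪ y0.support).card ≤ Fintype.card (Fin m) := Finset.card_le_univ _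
        _ = m := Fintype.card_fin m
    rcases Nat.lt_or_ge d (p + 3) with hlt | hge
    · -- twin case `d = q = p + 2`
      have hqp : q = p + 2 := by omega
      have hdq : d = q := by omega
      subst hdq
      obtain ⟨x', y', hx', hy', -, ⟨e1⟩⟩ := hTR d x0 y0 hd
      have hcl := hcore hqp x' y' (by rw [hx', hxct]) (by rw [hy', hyct])
      exact ⟨d, hq5, ⟨(e0.trans e1).trans (MulEquiv.subgroupCongr hcl)⟩⟩
    · -- generic case via JG
      obtain ⟨x', y', hx', hy', hfull, ⟨e1⟩⟩ := hTR d x0 y0 hd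
      obtain ⟨hy'cyc, hy'card⟩ := isCycle_card_of_cycleType_singleton y' q (by rw [hy', hyct])
      obtain ⟨hx'cyc, -⟩ := isCycle_card_of_cycleType_singleton x' p (by rw [hx', hxct])
      have hcl := hJG d x' y' (by rw [orderOf_eq_of_cycleType_eq x0 x' hx', hx0o]) hy'cyc hy'card
        hfull (by omega) ((sign_eq_of_cycleType_eq x0 x' hx').2 hsx0)
        ((sign_eq_of_cycleType_eq y0 y' hy').2 hsy0) (Or.inl ⟨hx'cyc, hge⟩)
      exact ⟨d, by omega, ⟨(e0.trans e1).trans (MulEquiv.subgroupCongr hcl)⟩⟩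
  · -- `x0` has cycle type `{p, p}`, so `m = 2 p` and `x0` moves every point
    have hxct : x0.cycleType = {p, p} := by rw [hnx]; rfl
    have hm2 : m = 2 * p := by omega
    have hxfull : x0.support = Finset.univ := by
      apply Finset.eq_univ_of_card
      rw [Fintype.card_fin, ← hnxs]
      omega
    rcases Nat.lt_or_ge (2 * p) (q + 3) with hlt | hge
    · obtain ⟨d, hd5, ⟨e1⟩⟩ := hdouble hm2 hlt x0 y0 hxct hyct
      exact ⟨d, hd5, ⟨e0.trans e1⟩⟩
    · have hcl := hJG m x0 y0 hx0o hycyc hycard (by rw [hxfull]; exact Finset.eq_univ_of_forall (fun a => Finset.mem_union_left _ (Finset.mem_univ a))) (by omega)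
        hsx0 hsy0 (Or.inr (by omega))
      exact ⟨m, by omega, ⟨e0.trans (MulEquiv.subgroupCongr hcl)⟩⟩

end Cfsg.Agent.Lib.H25.AG
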