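import Mathlib
import Cfsg.Agent.Lib.H25.AGPAIRCore
import Cfsg.Agent.Lib.H29.AGT0
import Cfsg.Agent.Lib.H29.AGTR
import Cfsg.Agent.Lib.H4.AGJG

/-!
# S4150 piece PAIR (helper25, twin of helper9's): the main assembly for one pair of primes
-/

set_option autoImplicit false

namespace Cfsg.Agent.Lib.H25.AG

open Equiv Equiv.Perm Subgroup

/-- (PAIR) the main assembly for one pair of primes. -/
theorem pair_ok (m p q : ℕ) (hp : p.Prime) (hq : q.Prime) (h3 : 3 ≤ p) (hpq : p < q)
    (hmp : m ≤ 2 * p) (hqm : q ≤ m)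
    (hcore : q = p + 2 → ∀ x' y' : Perm (Fin q), x'.cycleType = {p} → y'.cycleType = {q} →
      closure ({x', y'} : Set (Perm (Fin q))) = alternatingGroup (Fin q))
    (hdouble : m = 2 * p → 2 * p < q + 3 → ∀ x' y' : Perm (Fin m), x'.cycleType = {p, p} →
      y'.cycleType = {q} → ∃ d : ℕ, 5 ≤ d ∧
        Nonempty (closure ({x', y'} : Set (Perm (Fin m))) ≃* alternatingGroup (Fin d))) :
    ∀ x y : alternatingGroup (Fin m), orderOf x = p → orderOf y = q →
      ∃ d : ℕ, 5 ≤ d ∧ Nonempty (closure ({x, y} : Set (alternatingGroup (Fin m))) ≃*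
        alternatingGroup (Fin d)) :=
  pair_ok_of m p q hp hq h3 hpq hmp hqm (Cfsg.Agent.Lib.H29.AG.closure_alt_equiv m)
    (fun _ x y hd => Cfsg.Agent.Lib.H29.AG.exists_full_support x y hd)
    (fun _ x y hx hy hyq hfull hd hsx hsy hgap =>
      Cfsg.Agent.Lib.H4.AG.closure_eq_alternatingGroup_of_gap x y hp hq hpq hx hy hyq hfull hd hsx hsy
        hgap)
    hcore hdouble

end Cfsg.Agent.Lib.H25.AG
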