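import Mathlib

/-!
# Semiregular even permutations of three or four points commute (helper25, for S2506)
-/

set_option autoImplicit false

namespace Cfsg.Agent.Lib.H25.AbAlt

open Equiv

theorem fin3_comm : ∀ σ τ : Perm (Fin 3), (σ = 1 ∨ ∀ x, σ x ≠ x) → (τ = 1 ∨ ∀ x, τ x ≠ x) →
    σ * τ = τ * σ := by
  decide

theorem fin4_sq : ∀ σ : Perm (Fin 4), Perm.sign σ = 1 → (σ = 1 ∨ ∀ x, σ x ≠ x) → σ * σ = 1 := by
  decide

theorem fin4_comm : ∀ σ τ : Perm (Fin 4), (σ = 1 ∨ ∀ x, σ x ≠ x) → (τ = 1 ∨ ∀ x, τ x ≠ x) →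
    σ * σ = 1 → τ * τ = 1 → σ * τ = τ * σ := by
  decide

theorem transport_semireg {α β : Type*} (e : α ≃ β) (σ : Perm α)
    (hσ : σ = 1 ∨ ∀ x, σ x ≠ x) :
    e.permCongrHom σ = 1 ∨ ∀ x, e.permCongrHom σ x ≠ x := by
  rcases hσ with rfl | h
  · left
    exact map_one _
  · right
    intro x hx
    apply h (e.symm x)
    have h1 : e (σ (e.symm x)) = x := hx
    exact e.injective (by rw [h1, Equiv.apply_symm_apply])

theorem comm_of_card_three {α : Type*} [Fintype α] [DecidableEq α] (h : Fintype.card α = 3)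
    (σ τ : Perm α) (hσ : σ = 1 ∨ ∀ x, σ x ≠ x) (hτ : τ = 1 ∨ ∀ x, τ x ≠ x) :
    σ * τ = τ * σ := by
  let e : α ≃ Fin 3 := Fintype.equivFinOfCardEq h
  have h1 := fin3_comm (e.permCongrHom σ) (e.permCongrHom τ) (transport_semireg e σ hσ)
    (transport_semireg e τ hτ)
  rw [← map_mul, ← map_mul] at h1
  exact e.permCongrHom.injective h1

theorem comm_of_card_four {α : Type*} [Fintype α] [DecidableEq α] (h : Fintype.card α = 4)
    (σ τ : Perm α) (hσ1 : Perm.sign σ = 1) (hτ1 : Perm.sign τ = 1)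
    (hσ : σ = 1 ∨ ∀ x, σ x ≠ x) (hτ : τ = 1 ∨ ∀ x, τ x ≠ x) :
    σ * τ = τ * σ := by
  let e : α ≃ Fin 4 := Fintype.equivFinOfCardEq h
  have hs : ∀ ρ : Perm α, Perm.sign (e.permCongrHom ρ) = Perm.sign ρ := by
    intro ρ
    exact Perm.sign_permCongr e ρ
  have h1 := fin4_comm (e.permCongrHom σ) (e.permCongrHom τ) (transport_semireg e σ hσ)
    (transport_semireg e τ hτ)
    (fin4_sq _ (by rw [hs, hσ1]) (transport_semireg e σ hσ))
    (fin4_sq _ (by rw [hs, hτ1]) (transport_semireg e τ hτ))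
  rw [← map_mul, ← map_mul] at h1
  exact e.permCongrHom.injective h1

/-- two even permutations supported on a common invariant block of three or four points and
acting semiregularly on it commute -/
theorem comm_on_block {n : ℕ} (O : Set (Fin n)) (hO : Nat.card O = 3 ∨ Nat.card O = 4)
    (σ τ : Perm (Fin n)) (hσO : ∀ x, σ x ∈ O ↔ x ∈ O) (hτO : ∀ x, τ x ∈ O ↔ x ∈ O)
    (hσs : ∀ x, σ x ≠ x → x ∈ O) (hτs : ∀ x, τ x ≠ x → x ∈ O)
    (hσ1 : Perm.sign σ = 1) (hτ1 : Perm.sign τ = 1)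
    (hσr : (∀ x ∈ O, σ x = x) ∨ (∀ x ∈ O, σ x ≠ x))
    (hτr : (∀ x ∈ O, τ x = x) ∨ (∀ x ∈ O, τ x ≠ x)) :
    ∀ x ∈ O, σ (τ x) = τ (σ x) := by
  classical
  have hσ' : Perm.sign (σ.subtypePerm hσO) = 1 := by
    rw [Perm.sign_subtypePerm σ hσO hσs, hσ1]
  have hτ' : Perm.sign (τ.subtypePerm hτO) = 1 := by
    rw [Perm.sign_subtypePerm τ hτO hτs, hτ1]
  have hσr' : σ.subtypePerm hσO = 1 ∨ ∀ x, σ.subtypePerm hσO x ≠ x := by
    rcases hσr with h | h
    · left
      apply Equiv.ext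
      intro x
      apply Subtype.ext
      exact h x.1 x.2
    · right
      intro x hx
      exact h x.1 x.2 (congrArg Subtype.val hx)
  have hτr' : τ.subtypePerm hτO = 1 ∨ ∀ x, τ.subtypePerm hτO x ≠ x := by
    rcases hτr with h | h
    · left
      apply Equiv.ext
      intro x
      apply Subtype.ext
      exact h x.1 x.2
    · right
      intro x hx
      exact h x.1 x.2 (congrArg Subtype.val hx)
  have hcomm : σ.subtypePerm hσO * τ.subtypePerm hτO = τ.subtypePerm hτO * σ.subtypePerm hσO := by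
    rcases hO with h | h
    · exact comm_of_card_three (by rw [← Nat.card_eq_fintype_card]; exact h) _ _ hσr' hτr'
    · exact comm_of_card_four (by rw [← Nat.card_eq_fintype_card]; exact h) _ _ hσ' hτ' hσr' hτr'
  intro x hx
  have := congrArg (fun ρ : Perm {x // x ∈ O} => (ρ ⟨x, hx⟩ : Fin n)) hcomm
  exact this

end Cfsg.Agent.Lib.H25.AbAlt
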