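import Mathlib
import Cfsg.Agent.S2504

/-!
# Arithmetic of the maximal product function `hmax` (helper25, for S2506)
-/

set_option autoImplicit false

namespace Cfsg.Agent.Lib.H25.AbAlt

open Cfsg.Agent.S2504 Cfsg.Agent.S2505

theorem hmax_pos (n : ℕ) : 1 ≤ hmax n := by
  induction n using Nat.strong_induction_on with
  | _ n ih =>
    rcases Nat.lt_or_ge n 9 with h | h
    · interval_cases n <;> simp [hmax]
    · obtain ⟨k, rfl⟩ : ∃ k, n = k + 3 := ⟨n - 3, by omega⟩
      rw [hmax_add_three k (by omega)]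
      have := ih k (by omega)
      omega

theorem hmax_lt_succ (n : ℕ) (hn : 2 ≤ n) : hmax n < hmax (n + 1) := by
  induction n using Nat.strong_induction_on with
  | _ n ih =>
    rcases Nat.lt_or_ge n 9 with h | h
    · interval_cases n <;> simp [hmax]
    · obtain ⟨k, rfl⟩ : ∃ k, n = k + 3 := ⟨n - 3, by omega⟩
      have e1 : hmax (k + 3 + 1) = 3 * hmax (k + 1) := by
        have := hmax_add_three (k + 1) (by omega)
        rwa [show k + 1 + 3 = k + 3 + 1 by ring] at this
      rw [hmax_add_three k (by omega), e1]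
      have := ih k (by omega) (by omega)
      omega

theorem gmax_lt_hmax (m : ℕ) (hm : 1 ≤ m) : gmax m < hmax (m + 2) := by
  induction m using Nat.strong_induction_on with
  | _ m ih =>
    rcases Nat.lt_or_ge m 9 with h | h
    · interval_cases m <;> simp [hmax, gmax]
    · obtain ⟨k, rfl⟩ : ∃ k, m = k + 3 := ⟨m - 3, by omega⟩
      have e1 : hmax (k + 3 + 2) = 3 * hmax (k + 2) := by
        have := hmax_add_three (k + 2) (by omega)
        rwa [show k + 2 + 3 = k + 3 + 2 by ring] at this
      rw [gmax_add_three k (by omega), e1]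
      have := ih k (by omega) (by omega)
      omega

theorem five_mul_hmax_lt (m : ℕ) (hm : 1 ≤ m) : 5 * hmax m < hmax (m + 5) := by
  induction m using Nat.strong_induction_on with
  | _ m ih =>
    rcases Nat.lt_or_ge m 9 with h | h
    · interval_cases m <;> simp [hmax]
    · obtain ⟨k, rfl⟩ : ∃ k, m = k + 3 := ⟨m - 3, by omega⟩
      have e1 : hmax (k + 3 + 5) = 3 * hmax (k + 5) := by
        have := hmax_add_three (k + 5) (by omega)
        rwa [show k + 5 + 3 = k + 3 + 5 by ring] at this
      rw [hmax_add_three k (by omega), e1]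
      have := ih k (by omega) (by omega)
      omega

theorem mul_hmax_lt (a : ℕ) (ha : 6 ≤ a) (m : ℕ) : a * hmax m < hmax (a + m) := by
  have h1 := mul_hmax_le (a - 3) (by omega) (by omega) m
  have h2 := (hmax_ineqs (a - 3 + m)).2.1
  rw [show a - 3 + m + 3 = a + m by omega] at h2
  have hp := hmax_pos m
  have h3 : a * hmax m < 3 * ((a - 3) * hmax m) := by
    have h4 : a < 3 * (a - 3) := by omega
    calc a * hmax m < 3 * (a - 3) * hmax m := Nat.mul_lt_mul_of_pos_right h4 (by omega)
      _ = 3 * ((a - 3) * hmax m) := by ring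
  omega

/-- a part different from `3`, `4` is strictly suboptimal -/
theorem part_mul_hmax_lt (a m : ℕ) (ha1 : 1 ≤ a) (ha2 : a ≠ 2) (ha3 : a ≠ 3) (ha4 : a ≠ 4)
    (h3 : 3 ≤ a + m) (h5 : a + m ≠ 5) : a * hmax m < hmax (a + m) := by
  rcases Nat.lt_or_ge a 6 with h | h
  · interval_cases a
    · have := hmax_lt_succ m (by omega)
      rw [add_comm]; omega
    · exact absurd rfl ha2
    · exact absurd rfl ha3
    · exact absurd rfl ha4
    · have := five_mul_hmax_lt m (by omega)
      rw [add_comm]; omega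
  · exact mul_hmax_lt a h m

/-- if a product of parts (none equal to `2`) reaches `hmax`, all parts are `3` or `4` -/
theorem parts_three_four {ι : Type*} [DecidableEq ι] (s : Finset ι) (f : ι → ℕ)
    (hf : ∀ i ∈ s, 1 ≤ f i) (hf2 : ∀ i ∈ s, f i ≠ 2) (n : ℕ) (hsum : ∑ i ∈ s, f i = n)
    (hprod : ∏ i ∈ s, f i = hmax n) (h3 : 3 ≤ n) (h5 : n ≠ 5) :
    ∀ i ∈ s, f i = 3 ∨ f i = 4 := by
  intro i hi
  by_contra hne
  push Not at hne
  have hsum' : f i + ∑ j ∈ s.erase i, f j = n := by
    rw [Finset.add_sum_erase s f hi, hsum]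
  have hprod' : f i * ∏ j ∈ s.erase i, f j = hmax n := by
    rw [Finset.mul_prod_erase s f hi, hprod]
  have h1 := prod_le_hmax (s.erase i) f (fun j hj => hf j (Finset.mem_of_mem_erase hj))
    (fun j hj => hf2 j (Finset.mem_of_mem_erase hj))
  have h2 := part_mul_hmax_lt (f i) (∑ j ∈ s.erase i, f j) (hf i hi) (hf2 i hi) hne.1 hne.2
    (by omega) (by omega)
  rw [hsum'] at h2
  have h3 : f i * ∏ j ∈ s.erase i, f j ≤ f i * hmax (∑ j ∈ s.erase i, f j) :=
    Nat.mul_le_mul_left _ h1
  omega

theorem pow_three_four_inj {a b a' b' : ℕ} (h : 3 ^ a * 4 ^ b = 3 ^ a' * 4 ^ b') :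
    a = a' ∧ b = b' := by
  have h3 : Nat.Coprime 3 4 := by decide
  have ha : a = a' := by
    have e1 : (3 ^ a * 4 ^ b).factorization 3 = (3 ^ a' * 4 ^ b').factorization 3 := by rw [h]
    rw [Nat.factorization_mul (by positivity) (by positivity),
      Nat.factorization_mul (by positivity) (by positivity)] at e1
    simp only [Finsupp.coe_add, Pi.add_apply, Nat.factorization_pow, Finsupp.coe_smul,
      Pi.smul_apply, smul_eq_mul] at e1
    have f33 : (3 : ℕ).factorization 3 = 1 := Nat.Prime.factorization_self Nat.prime_three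
    have f43 : (4 : ℕ).factorization 3 = 0 := by
      apply Nat.factorization_eq_zero_of_not_dvd
      decide
    rw [f33, f43] at e1
    omega
  subst ha
  have hb : 4 ^ b = 4 ^ b' := Nat.eq_of_mul_eq_mul_left (by positivity) h
  exact ⟨rfl, Nat.pow_right_injective (show 2 ≤ 4 by norm_num) hb⟩

/-- existence of the optimal shape -/
theorem exists_shape (n : ℕ) (h3 : 3 ≤ n) (h5 : n ≠ 5) :
    ∃ a b : ℕ, n = 3 * a + 4 * b ∧ 3 ^ a * 4 ^ b = hmax n := by
  induction n using Nat.strong_induction_on with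
  | _ n ih =>
    rcases Nat.lt_or_ge n 9 with h | h
    · interval_cases n
      · exact ⟨1, 0, by norm_num, by simp [hmax]⟩
      · exact ⟨0, 1, by norm_num, by simp [hmax]⟩
      · exact absurd rfl h5
      · exact ⟨2, 0, by norm_num, by simp [hmax]⟩
      · exact ⟨1, 1, by norm_num, by simp [hmax]⟩
      · exact ⟨0, 2, by norm_num, by simp [hmax]⟩
    · obtain ⟨k, rfl⟩ : ∃ k, n = k + 3 := ⟨n - 3, by omega⟩
      obtain ⟨a, b, hab, hp⟩ := ih k (by omega) (by omega) (by omega)
      refine ⟨a + 1, b, by omega, ?_⟩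
      rw [hmax_add_three k (by omega), ← hp, pow_succ]
      ring

end Cfsg.Agent.Lib.H25.AbAlt
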