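import Mathlib
import Cfsg.Agent.S2504
import Cfsg.Agent.Lib.H25.AbAltNum

/-!
# Orbit structure of abelian subgroups of `Alt (Fin n)` of maximal order (helper25, for S2506)
-/

set_option autoImplicit false

namespace Cfsg.Agent.Lib.H25.AbAlt

open Cfsg.Agent.S2504 Cfsg.Agent.S2505 MulAction

variable {n : ℕ}

theorem mem_orbit_iff' (A : Subgroup (Equiv.Perm (Fin n))) (x y : Fin n) :
    y ∈ orbit A x ↔ ∃ a ∈ A, a x = y := by
  constructor
  · rintro ⟨a, rfl⟩
    exact ⟨a.1, a.2, rfl⟩
  · rintro ⟨a, ha, rfl⟩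
    exact ⟨⟨a, ha⟩, rfl⟩

theorem apply_mem_orbit (A : Subgroup (Equiv.Perm (Fin n))) {a : Equiv.Perm (Fin n)} (ha : a ∈ A)
    (x : Fin n) : a x ∈ orbit A x :=
  (mem_orbit_iff' A x (a x)).mpr ⟨a, ha, rfl⟩

theorem out_mem_orbit (A : Subgroup (Equiv.Perm (Fin n))) (y : Fin n) :
    (Quotient.mk'' y : orbitRel.Quotient A (Fin n)).out ∈ orbit A y := by
  have := Quotient.mk_out (s := orbitRel A (Fin n)) y
  exact (orbitRel_apply).mp this

theorem orbit_out_eq (A : Subgroup (Equiv.Perm (Fin n))) (y : Fin n) :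
    orbit A (Quotient.mk'' y : orbitRel.Quotient A (Fin n)).out = orbit A y :=
  orbit_eq_iff.mpr (out_mem_orbit A y)

theorem mk_eq_iff (A : Subgroup (Equiv.Perm (Fin n))) (x y : Fin n) :
    (Quotient.mk'' y : orbitRel.Quotient A (Fin n)) = Quotient.mk'' x ↔ y ∈ orbit A x := by
  rw [Quotient.eq'']
  exact orbitRel_apply

/-- an abelian group acts "regularly" on each orbit -/
theorem apply_eq_of_comm (A : Subgroup (Equiv.Perm (Fin n))) (hA : IsMulCommutative A)
    {a c : Equiv.Perm (Fin n)} (ha : a ∈ A) (hc : c ∈ A) {x y : Fin n} (hy : y ∈ orbit A x)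
    (h : a x = c x) : a y = c y := by
  obtain ⟨d, hd, rfl⟩ := (mem_orbit_iff' A x y).mp hy
  have h1 : a * d = d * a := congrArg Subtype.val (hA.is_comm.comm ⟨a, ha⟩ ⟨d, hd⟩)
  have h2 : c * d = d * c := congrArg Subtype.val (hA.is_comm.comm ⟨c, hc⟩ ⟨d, hd⟩)
  calc a (d x) = (a * d) x := rfl
    _ = (d * a) x := by rw [h1]
    _ = d (a x) := rfl
    _ = d (c x) := by rw [h]
    _ = (d * c) x := rfl
    _ = (c * d) x := by rw [h2]
    _ = c (d x) := rfl

theorem card_le_prod_univ (A : Subgroup (Equiv.Perm (Fin n))) (hA : IsMulCommutative A)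
    [Fintype (orbitRel.Quotient A (Fin n))] :
    Nat.card A ≤ ∏ ω : orbitRel.Quotient A (Fin n), Nat.card (orbit A ω.out) := by
  apply card_le_prod A hA Finset.univ
  intro a ha
  have h1 : (a : Equiv.Perm (Fin n)) = 1 := by
    apply Equiv.ext
    intro y
    rw [Equiv.Perm.one_apply]
    exact ha y (Finset.mem_univ _)
  exact Subtype.ext h1

/-- if the order equals the product of the orbit lengths, components exist -/
theorem exists_component (A : Subgroup (Equiv.Perm (Fin n))) (hA : IsMulCommutative A)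
    [Fintype (orbitRel.Quotient A (Fin n))]
    (hcard : Nat.card A = ∏ ω : orbitRel.Quotient A (Fin n), Nat.card (orbit A ω.out))
    {a : Equiv.Perm (Fin n)} (ha : a ∈ A) (x₀ : Fin n) :
    ∃ c ∈ A, (∀ y ∈ orbit A x₀, c y = a y) ∧ (∀ y, y ∉ orbit A x₀ → c y = y) := by
  classical
  let F : A → (ω : orbitRel.Quotient A (Fin n)) → orbit A ω.out :=
    fun a ω => ⟨a • ω.out, mem_orbit _ a⟩
  have hF : Function.Injective F := by
    intro a b hab
    apply Subtype.ext
    apply Equiv.ext
    intro y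
    have hab' : (a : Equiv.Perm (Fin n)) (Quotient.mk'' y : orbitRel.Quotient A (Fin n)).out =
        (b : Equiv.Perm (Fin n)) (Quotient.mk'' y : orbitRel.Quotient A (Fin n)).out := by
      have := congrFun hab (Quotient.mk'' y)
      exact congrArg Subtype.val this
    have hy : y ∈ orbit A (Quotient.mk'' y : orbitRel.Quotient A (Fin n)).out := by
      rw [orbit_out_eq]
      exact mem_orbit_self _
    exact apply_eq_of_comm A hA a.2 b.2 hy hab'
  have hFs : Function.Surjective F := by
    have hb : Function.Bijective F := hF.bijective_of_nat_card_le (by rw [Nat.card_pi, hcard])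
    exact hb.2
  let ω₀ : orbitRel.Quotient A (Fin n) := Quotient.mk'' x₀
  obtain ⟨c, hc⟩ := hFs (Function.update (fun ω => ⟨ω.out, mem_orbit_self _⟩) ω₀
    ⟨(⟨a, ha⟩ : A) • ω₀.out, mem_orbit _ _⟩)
  refine ⟨c.1, c.2, ?_, ?_⟩
  · intro y hy
    have h1 : (c : Equiv.Perm (Fin n)) ω₀.out = a ω₀.out := by
      have := congrFun hc ω₀
      rw [Function.update_self] at this
      exact congrArg Subtype.val this
    have h2 : y ∈ orbit A ω₀.out := by
      rw [orbit_out_eq]
      exact hy
    exact apply_eq_of_comm A hA c.2 ha h2 h1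
  · intro y hy
    have hne : (Quotient.mk'' y : orbitRel.Quotient A (Fin n)) ≠ ω₀ := by
      intro h
      exact hy ((mk_eq_iff A x₀ y).mp h)
    have h1 : (c : Equiv.Perm (Fin n)) (Quotient.mk'' y : orbitRel.Quotient A (Fin n)).out =
        (1 : Equiv.Perm (Fin n)) (Quotient.mk'' y : orbitRel.Quotient A (Fin n)).out := by
      have := congrFun hc (Quotient.mk'' y)
      rw [Function.update_of_ne hne] at this
      exact congrArg Subtype.val this
    have h2 : y ∈ orbit A (Quotient.mk'' y : orbitRel.Quotient A (Fin n)).out := by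
      rw [orbit_out_eq]
      exact mem_orbit_self _
    exact apply_eq_of_comm A hA c.2 A.one_mem h2 h1

theorem orbit_card_pos (A : Subgroup (Equiv.Perm (Fin n))) (x : Fin n) :
    1 ≤ Nat.card (orbit A x) := by
  have : Nonempty (orbit A x) := ⟨⟨x, mem_orbit_self _⟩⟩
  exact Nat.one_le_iff_ne_zero.mpr Nat.card_pos.ne'

/-- an orbit of length two costs a lot -/
theorem two_orbit_bound (A : Subgroup (Equiv.Perm (Fin n))) (hA : IsMulCommutative A)
    (hAalt : A ≤ alternatingGroup (Fin n)) [Fintype (orbitRel.Quotient A (Fin n))]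
    (ω₀ : orbitRel.Quotient A (Fin n)) (hω₀ : Nat.card (orbit A ω₀.out) = 2) :
    2 ≤ n ∧ Nat.card A ≤ gmax (n - 2) := by
  classical
  have hS : ∀ a : A, (∀ y : Fin n,
      (Quotient.mk'' y : orbitRel.Quotient A (Fin n)) ∈ Finset.univ.erase ω₀ →
        a • y = y) → a = 1 := by
    intro a ha
    by_contra hne
    have hne' : (a : Equiv.Perm (Fin n)) ≠ 1 := fun h => hne (Subtype.ext h)
    have hsupp : ((a : Equiv.Perm (Fin n)).support : Set (Fin n)) ⊆ orbit A ω₀.out := by
      intro y hy
      rw [Finset.mem_coe, Equiv.Perm.mem_support] at hy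
      by_contra hyo
      apply hy
      apply ha y
      rw [Finset.mem_erase]
      refine ⟨?_, Finset.mem_univ _⟩
      intro he
      apply hyo
      have h1 : (Quotient.mk'' y : orbitRel.Quotient A (Fin n)) =
          Quotient.mk'' ω₀.out := by rw [he, Quotient.out_eq']
      have h2 := Quotient.exact' h1
      exact (orbitRel_apply).mp h2
    have hcard : (a : Equiv.Perm (Fin n)).support.card ≤ 2 := by
      have h1 : (orbit A ω₀.out).ncard = 2 := by
        rw [← Nat.card_coe_set_eq]; exact hω₀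
      have h2 := Set.ncard_le_ncard hsupp (Set.toFinite _)
      rwa [Set.ncard_coe_finset, h1] at h2
    have h2le := Equiv.Perm.two_le_card_support_of_ne_one hne'
    have hswap : (a : Equiv.Perm (Fin n)).IsSwap :=
      Equiv.Perm.card_support_eq_two.mp (by omega)
    have hsign := hswap.sign_eq
    have halt := Equiv.Perm.mem_alternatingGroup.mp (hAalt a.2)
    rw [halt] at hsign
    exact absurd hsign (by decide)
  have h1 := card_le_prod A hA (Finset.univ.erase ω₀) hS
  have hsum : 2 + ∑ ω ∈ Finset.univ.erase ω₀, Nat.card (orbit A ω.out) = n := by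
    have := Finset.add_sum_erase Finset.univ (fun ω => Nat.card (orbit A ω.out))
      (Finset.mem_univ ω₀)
    rw [sum_card_orbits, hω₀] at this
    exact this
  have h2 := prod_le_gmax (Finset.univ.erase ω₀) (fun ω => Nat.card (orbit A ω.out))
    (fun ω _ => orbit_card_pos A _)
  have h3 : ∑ ω ∈ Finset.univ.erase ω₀, Nat.card (orbit A ω.out) = n - 2 := by omega
  rw [h3] at h2
  exact ⟨by omega, h1.trans h2⟩

theorem gmax_le_hmax (m : ℕ) : gmax m ≤ hmax (m + 2) := by
  rcases Nat.eq_zero_or_pos m with rfl | h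
  · simp [gmax, hmax]
  · exact (gmax_lt_hmax m h).le

/-- the bound -/
theorem card_le_hmax (A : Subgroup (Equiv.Perm (Fin n))) (hA : IsMulCommutative A)
    (hAalt : A ≤ alternatingGroup (Fin n)) : Nat.card A ≤ hmax n := by
  classical
  haveI : Fintype (orbitRel.Quotient A (Fin n)) := Fintype.ofFinite _
  by_cases hex : ∃ ω : orbitRel.Quotient A (Fin n), Nat.card (orbit A ω.out) = 2
  · obtain ⟨ω₀, hω₀⟩ := hex
    obtain ⟨h2, h⟩ := two_orbit_bound A hA hAalt ω₀ hω₀
    have := gmax_le_hmax (n - 2)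
    rw [show n - 2 + 2 = n by omega] at this
    exact h.trans this
  · push Not at hex
    have h1 := card_le_prod_univ A hA
    have h2 := prod_le_hmax Finset.univ (fun ω : orbitRel.Quotient A (Fin n) =>
      Nat.card (orbit A ω.out)) (fun ω _ => orbit_card_pos A _) (fun ω _ => hex ω)
    rw [sum_card_orbits] at h2
    exact h1.trans h2

/-- the structure in the case of equality -/
theorem structure_of_max (hn : 3 ≤ n) (h5 : n ≠ 5) (A : Subgroup (Equiv.Perm (Fin n)))
    (hA : IsMulCommutative A) (hAalt : A ≤ alternatingGroup (Fin n))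
    (hcard : Nat.card A = hmax n) [Fintype (orbitRel.Quotient A (Fin n))] :
    Nat.card A = ∏ ω : orbitRel.Quotient A (Fin n), Nat.card (orbit A ω.out) ∧
      ∀ x : Fin n, Nat.card (orbit A x) = 3 ∨ Nat.card (orbit A x) = 4 := by
  classical
  have hex : ∀ ω : orbitRel.Quotient A (Fin n), Nat.card (orbit A ω.out) ≠ 2 := by
    intro ω₀ hω₀
    obtain ⟨h2, h⟩ := two_orbit_bound A hA hAalt ω₀ hω₀
    have := gmax_lt_hmax (n - 2) (by omega)
    rw [show n - 2 + 2 = n by omega] at this
    omega
  have h1 := card_le_prod_univ A hA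
  have h2 := prod_le_hmax Finset.univ (fun ω : orbitRel.Quotient A (Fin n) =>
    Nat.card (orbit A ω.out)) (fun ω _ => orbit_card_pos A _) (fun ω _ => hex ω)
  rw [sum_card_orbits] at h2
  have h3 : ∏ ω : orbitRel.Quotient A (Fin n), Nat.card (orbit A ω.out) = hmax n := by omega
  refine ⟨by omega, ?_⟩
  intro x
  have h4 := parts_three_four Finset.univ (fun ω : orbitRel.Quotient A (Fin n) =>
    Nat.card (orbit A ω.out)) (fun ω _ => orbit_card_pos A _) (fun ω _ => hex ω) n
    (sum_card_orbits A) h3 hn h5 (Quotient.mk'' x) (Finset.mem_univ _)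
  simp only [orbit_out_eq] at h4
  exact h4

end Cfsg.Agent.Lib.H25.AbAlt
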