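import Mathlib
import Cfsg.Agent.Lib.H25.AbAltOrb
import Cfsg.Agent.Lib.H25.AbAltFin

/-!
# An abelian subgroup of `Alt (Fin n)` of maximal order is determined by its orbits
(helper25, for S2506)
-/

set_option autoImplicit false

namespace Cfsg.Agent.Lib.H25.AbAlt

open Cfsg.Agent.S2504 Cfsg.Agent.S2505 MulAction Equiv

variable {n : ℕ}

/-- abelian subgroups of the alternating group of the maximal order -/
structure Good (A : Subgroup (Perm (Fin n))) : Prop where
  comm : IsMulCommutative A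
  alt : A ≤ alternatingGroup (Fin n)
  card : Nat.card A = hmax n

theorem apply_mem_orbit_iff (A : Subgroup (Perm (Fin n))) {a : Perm (Fin n)} (ha : a ∈ A)
    (x y : Fin n) : a y ∈ orbit A x ↔ y ∈ orbit A x := by
  have h1 : orbit A (a y) = orbit A y := orbit_eq_iff.mpr (apply_mem_orbit A ha y)
  rw [← orbit_eq_iff, h1, orbit_eq_iff]

theorem Good.orbit_card (hn : 3 ≤ n) (h5 : n ≠ 5) {A : Subgroup (Perm (Fin n))} (hA : Good A)
    (x : Fin n) : Nat.card (orbit A x) = 3 ∨ Nat.card (orbit A x) = 4 := by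
  haveI : Fintype (orbitRel.Quotient A (Fin n)) := Fintype.ofFinite _
  exact (structure_of_max hn h5 A hA.comm hA.alt hA.card).2 x

theorem Good.exists_block_component (hn : 3 ≤ n) (h5 : n ≠ 5) {A : Subgroup (Perm (Fin n))}
    (hA : Good A) {a : Perm (Fin n)} (ha : a ∈ A) (x : Fin n) :
    ∃ c ∈ A, (∀ y ∈ orbit A x, c y = a y) ∧ (∀ y, y ∉ orbit A x → c y = y) ∧
      ((∀ y ∈ orbit A x, c y = y) ∨ (∀ y ∈ orbit A x, c y ≠ y)) := by
  haveI : Fintype (orbitRel.Quotient A (Fin n)) := Fintype.ofFinite _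
  obtain ⟨c, hc, h1, h2⟩ := exists_component A hA.comm
    (structure_of_max hn h5 A hA.comm hA.alt hA.card).1 ha x
  refine ⟨c, hc, h1, h2, ?_⟩
  by_cases h : ∃ y ∈ orbit A x, c y = y
  · left
    obtain ⟨y, hy, hcy⟩ := h
    intro z hz
    have hzy : z ∈ orbit A y := by
      rw [orbit_eq_iff.mpr hy]
      exact hz
    exact apply_eq_of_comm A hA.comm hc A.one_mem hzy hcy
  · right
    push Not at h
    exact h

theorem commute_of_same_orbits (hn : 3 ≤ n) (h5 : n ≠ 5) {A B : Subgroup (Perm (Fin n))}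
    (hA : Good A) (hB : Good B) (horb : ∀ x : Fin n, orbit A x = orbit B x)
    {a b : Perm (Fin n)} (ha : a ∈ A) (hb : b ∈ B) : a * b = b * a := by
  apply Equiv.ext
  intro x
  show a (b x) = b (a x)
  obtain ⟨a', ha', ha1, ha2, ha3⟩ := hA.exists_block_component hn h5 ha x
  obtain ⟨b', hb', hb1, hb2, hb3⟩ := hB.exists_block_component hn h5 hb x
  rw [← horb x] at hb1 hb2 hb3
  have hbx : b x ∈ orbit A x := by
    rw [horb]
    exact apply_mem_orbit B hb x
  have hax : a x ∈ orbit A x := apply_mem_orbit A ha x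
  have hxx : x ∈ orbit A x := mem_orbit_self x
  rw [← ha1 _ hbx, ← hb1 x hxx, ← hb1 (a x) hax, ← ha1 x hxx]
  refine comm_on_block (orbit A x) (hA.orbit_card hn h5 x) a' b' ?_ ?_ ?_ ?_ ?_ ?_ ha3 hb3 x hxx
  · intro y
    exact apply_mem_orbit_iff A ha' x y
  · intro y
    rw [horb x]
    exact apply_mem_orbit_iff B hb' x y
  · intro y hy
    by_contra hyo
    exact hy (ha2 y hyo)
  · intro y hy
    by_contra hyo
    exact hy (hb2 y hyo)
  · exact Perm.mem_alternatingGroup.mp (hA.alt ha')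
  · exact Perm.mem_alternatingGroup.mp (hB.alt hb')

/-- a good subgroup is determined by its orbits -/
theorem le_of_same_orbits (hn : 3 ≤ n) (h5 : n ≠ 5) {A B : Subgroup (Perm (Fin n))}
    (hA : Good A) (hB : Good B) (horb : ∀ x : Fin n, orbit A x = orbit B x) : B ≤ A := by
  intro b hb
  have hcommAll : ∀ u ∈ (A : Set (Perm (Fin n))) ∪ {b}, ∀ v ∈ (A : Set (Perm (Fin n))) ∪ {b},
      u * v = v * u := by
    rintro u (hu | hu) v (hv | hv)
    · exact congrArg Subtype.val (hA.comm.is_comm.comm ⟨u, hu⟩ ⟨v, hv⟩)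
    · rw [Set.mem_singleton_iff] at hv
      rw [hv]
      exact commute_of_same_orbits hn h5 hA hB horb hu hb
    · rw [Set.mem_singleton_iff] at hu
      rw [hu]
      exact (commute_of_same_orbits hn h5 hA hB horb hv hb).symm
    · rw [Set.mem_singleton_iff] at hu hv
      rw [hu, hv]
  have hC : IsMulCommutative (Subgroup.closure ((A : Set (Perm (Fin n))) ∪ {b})) :=
    Subgroup.isMulCommutative_closure hcommAll
  have hCalt : Subgroup.closure ((A : Set (Perm (Fin n))) ∪ {b}) ≤ alternatingGroup (Fin n) := by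
    rw [Subgroup.closure_le]
    rintro u (hu | hu)
    · exact hA.alt hu
    · rw [Set.mem_singleton_iff] at hu
      rw [hu]
      exact hB.alt hb
  have hAC : A ≤ Subgroup.closure ((A : Set (Perm (Fin n))) ∪ {b}) :=
    fun u hu => Subgroup.subset_closure (Or.inl hu)
  have hcard : Nat.card (Subgroup.closure ((A : Set (Perm (Fin n))) ∪ {b})) ≤ Nat.card A := by
    rw [hA.card]
    exact card_le_hmax _ hC hCalt
  have hEq := Subgroup.eq_of_le_of_card_ge hAC hcard
  rw [hEq]
  exact Subgroup.subset_closure (Or.inr rfl)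

theorem eq_of_same_orbits (hn : 3 ≤ n) (h5 : n ≠ 5) {A B : Subgroup (Perm (Fin n))}
    (hA : Good A) (hB : Good B) (horb : ∀ x : Fin n, orbit A x = orbit B x) : B = A :=
  le_antisymm (le_of_same_orbits hn h5 hA hB horb)
    (le_of_same_orbits hn h5 hB hA (fun x => (horb x).symm))

end Cfsg.Agent.Lib.H25.AbAlt
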