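import Mathlib
import Cfsg.Agent.Lib.H25.AbAltUniq

/-!
# Conjugacy of the abelian subgroups of `Alt (Fin n)` of maximal order (helper25, for S2506)
-/

set_option autoImplicit false

namespace Cfsg.Agent.Lib.H25.AbAlt

open Cfsg.Agent.S2504 Cfsg.Agent.S2505 MulAction Equiv

/-- matching two fibrations with fibres of equal sizes -/
theorem exists_equiv_fiber {X Y I J : Type*} [Finite X] [Finite Y] (f : X → I) (g : Y → J)
    (e : I ≃ J) (h : ∀ i, Nat.card {x // f x = i} = Nat.card {y // g y = e i}) :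
    ∃ σ : X ≃ Y, ∀ x, g (σ x) = e (f x) := by
  classical
  have E : ∀ i, {x // f x = i} ≃ {y // g y = e i} := fun i =>
    (Finite.card_eq.mp (h i)).some
  refine ⟨(Equiv.sigmaFiberEquiv f).symm.trans
    ((Equiv.sigmaCongr e E).trans (Equiv.sigmaFiberEquiv g)), ?_⟩
  intro x
  exact (E (f x) ⟨x, rfl⟩).2

theorem exists_equiv_of_count {I J : Type*} [Finite I] [Finite J] (s : I → ℕ) (t : J → ℕ)
    (h : ∀ k, Nat.card {i // s i = k} = Nat.card {j // t j = k}) :
    ∃ e : I ≃ J, ∀ i, t (e i) = s i :=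
  exists_equiv_fiber s t (Equiv.refl ℕ) h

theorem prod_three_four {I : Type*} [Fintype I] (s : I → ℕ) (hs : ∀ i, s i = 3 ∨ s i = 4) :
    ∏ i, s i = 3 ^ Nat.card {i // s i = 3} * 4 ^ Nat.card {i // s i = 4} := by
  classical
  rw [← Finset.prod_filter_mul_prod_filter_not Finset.univ (fun i => s i = 3)]
  have h1 : ∏ i ∈ Finset.univ.filter (fun i => s i = 3), s i =
      3 ^ (Finset.univ.filter (fun i => s i = 3)).card := by
    rw [← Finset.prod_const]
    apply Finset.prod_congr rfl
    intro i hi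
    exact (Finset.mem_filter.mp hi).2
  have h2 : ∏ i ∈ Finset.univ.filter (fun i => ¬ s i = 3), s i =
      4 ^ (Finset.univ.filter (fun i => ¬ s i = 3)).card := by
    rw [← Finset.prod_const]
    apply Finset.prod_congr rfl
    intro i hi
    rcases hs i with h | h
    · exact absurd h (Finset.mem_filter.mp hi).2
    · exact h
  have h3 : Finset.univ.filter (fun i => ¬ s i = 3) = Finset.univ.filter (fun i => s i = 4) := by
    apply Finset.filter_congr
    intro i _
    rcases hs i with h | h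
    · simp [h]
    · simp [h]
  rw [h1, h2, h3, Nat.card_eq_fintype_card, Nat.card_eq_fintype_card, Fintype.card_subtype,
    Fintype.card_subtype]

variable {n : ℕ}

theorem card_fiber_mk (A : Subgroup (Perm (Fin n))) (ω : orbitRel.Quotient A (Fin n)) :
    Nat.card {x : Fin n // (Quotient.mk'' x : orbitRel.Quotient A (Fin n)) = ω} =
      Nat.card (orbit A ω.out) := by
  apply Nat.card_congr
  apply Equiv.subtypeEquivRight
  intro x
  have h1 : (Quotient.mk'' ω.out : orbitRel.Quotient A (Fin n)) = ω := Quotient.out_eq' ω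
  constructor
  · intro h
    rw [← h1] at h
    exact (mk_eq_iff A ω.out x).mp h
  · intro h
    rw [← h1]
    exact (mk_eq_iff A ω.out x).mpr h

/-- two good subgroups have matching orbit partitions -/
theorem exists_orbit_equiv (hn : 3 ≤ n) (h5 : n ≠ 5) {A B : Subgroup (Perm (Fin n))}
    (hA : Good A) (hB : Good B) :
    ∃ σ : Perm (Fin n), ∀ x y : Fin n, y ∈ orbit A x ↔ σ y ∈ orbit B (σ x) := by
  classical
  haveI : Fintype (orbitRel.Quotient A (Fin n)) := Fintype.ofFinite _
  haveI : Fintype (orbitRel.Quotient B (Fin n)) := Fintype.ofFinite _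
  obtain ⟨hA1, hA2⟩ := structure_of_max hn h5 A hA.comm hA.alt hA.card
  obtain ⟨hB1, hB2⟩ := structure_of_max hn h5 B hB.comm hB.alt hB.card
  have hpA := prod_three_four (fun ω : orbitRel.Quotient A (Fin n) => Nat.card (orbit A ω.out))
    (fun ω => hA2 ω.out)
  have hpB := prod_three_four (fun ω : orbitRel.Quotient B (Fin n) => Nat.card (orbit B ω.out))
    (fun ω => hB2 ω.out)
  have hab : Nat.card {ω : orbitRel.Quotient A (Fin n) // Nat.card (orbit A ω.out) = 3} =
      Nat.card {ω : orbitRel.Quotient B (Fin n) // Nat.card (orbit B ω.out) = 3} ∧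
      Nat.card {ω : orbitRel.Quotient A (Fin n) // Nat.card (orbit A ω.out) = 4} =
      Nat.card {ω : orbitRel.Quotient B (Fin n) // Nat.card (orbit B ω.out) = 4} := by
    apply pow_three_four_inj
    rw [← hpA, ← hpB, ← hA1, ← hB1, hA.card, hB.card]
  have hcount : ∀ k, Nat.card {ω : orbitRel.Quotient A (Fin n) // Nat.card (orbit A ω.out) = k} =
      Nat.card {ω : orbitRel.Quotient B (Fin n) // Nat.card (orbit B ω.out) = k} := by
    intro k
    by_cases h3 : k = 3
    · subst h3
      exact hab.1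
    by_cases h4 : k = 4
    · subst h4
      exact hab.2
    have e1 : IsEmpty {ω : orbitRel.Quotient A (Fin n) // Nat.card (orbit A ω.out) = k} := by
      constructor
      rintro ⟨ω, hω⟩
      rcases hA2 ω.out with h | h <;> omega
    have e2 : IsEmpty {ω : orbitRel.Quotient B (Fin n) // Nat.card (orbit B ω.out) = k} := by
      constructor
      rintro ⟨ω, hω⟩
      rcases hB2 ω.out with h | h <;> omega
    rw [Nat.card_of_isEmpty, Nat.card_of_isEmpty]
  obtain ⟨e, he⟩ := exists_equiv_of_count _ _ hcount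
  obtain ⟨σ, hσ⟩ := exists_equiv_fiber
    (fun x : Fin n => (Quotient.mk'' x : orbitRel.Quotient A (Fin n)))
    (fun x : Fin n => (Quotient.mk'' x : orbitRel.Quotient B (Fin n))) e (by
      intro ω
      rw [card_fiber_mk, card_fiber_mk, he])
  refine ⟨σ, ?_⟩
  intro x y
  rw [← mk_eq_iff, ← mk_eq_iff]
  have h1 := hσ x
  have h2 := hσ y
  rw [h1, h2]
  exact e.injective.eq_iff.symm

/-- the matching can be chosen even -/
theorem exists_even_orbit_equiv (hn : 3 ≤ n) (h5 : n ≠ 5) {A B : Subgroup (Perm (Fin n))}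
    (hA : Good A) (hB : Good B) :
    ∃ σ : Perm (Fin n), Perm.sign σ = 1 ∧
      ∀ x y : Fin n, y ∈ orbit A x ↔ σ y ∈ orbit B (σ x) := by
  classical
  obtain ⟨σ, hσ⟩ := exists_orbit_equiv hn h5 hA hB
  rcases Int.units_eq_one_or (Perm.sign σ) with h | h
  · exact ⟨σ, h, hσ⟩
  · -- compose with a transposition inside an orbit
    let x₀ : Fin n := ⟨0, by omega⟩
    have hc := hA.orbit_card hn h5 x₀
    have hex : ∃ y₀ ∈ orbit A x₀, y₀ ≠ x₀ := by
      by_contra hne
      push Not at hne
      have hsub : Subsingleton (orbit A x₀) := by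
        constructor
        rintro ⟨u, hu⟩ ⟨v, hv⟩
        apply Subtype.ext
        show u = v
        rw [hne u hu, hne v hv]
      have := Finite.card_le_one_iff_subsingleton.mpr hsub
      omega
    obtain ⟨y₀, hy₀, hne⟩ := hex
    have hτ : ∀ z : Fin n, swap x₀ y₀ z ∈ orbit A z := by
      intro z
      by_cases h1 : z = x₀
      · subst h1
        rw [swap_apply_left]
        exact hy₀
      by_cases h2 : z = y₀
      · subst h2
        rw [swap_apply_right]
        exact (mem_orbit_symm).mp hy₀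
      · rw [swap_apply_of_ne_of_ne h1 h2]
        exact mem_orbit_self z
    refine ⟨σ * swap x₀ y₀, ?_, ?_⟩
    · rw [map_mul, h, Perm.sign_swap hne.symm]
      rfl
    · intro x y
      show y ∈ orbit A x ↔ σ (swap x₀ y₀ y) ∈ orbit B (σ (swap x₀ y₀ x))
      rw [← hσ]
      have e1 : orbit A (swap x₀ y₀ x) = orbit A x := orbit_eq_iff.mpr (hτ x)
      have e2 : orbit A (swap x₀ y₀ y) = orbit A y := orbit_eq_iff.mpr (hτ y)
      rw [← orbit_eq_iff, ← orbit_eq_iff, e1, e2]

theorem Good.conj {A : Subgroup (Perm (Fin n))} (hA : Good A) (σ : Perm (Fin n)) :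
    Good (A.map (MulAut.conj σ).toMonoidHom) := by
  refine ⟨?_, ?_, ?_⟩
  · have := hA.comm
    exact Subgroup.map_isMulCommutative A _
  · rintro _ ⟨a, ha, rfl⟩
    have h1 := Perm.mem_alternatingGroup.mp (hA.alt ha)
    rw [Perm.mem_alternatingGroup]
    show Perm.sign (σ * a * σ⁻¹) = 1
    rw [map_mul, map_mul, h1, mul_one, ← map_mul, mul_inv_cancel, map_one]
  · rw [Subgroup.card_map_of_injective (MulAut.conj σ).injective, hA.card]

theorem mem_orbit_conj (A : Subgroup (Perm (Fin n))) (σ : Perm (Fin n)) (y z : Fin n) :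
    z ∈ orbit (A.map (MulAut.conj σ).toMonoidHom) y ↔ σ⁻¹ z ∈ orbit A (σ⁻¹ y) := by
  rw [mem_orbit_iff', mem_orbit_iff']
  constructor
  · rintro ⟨_, ⟨a, ha, rfl⟩, h⟩
    refine ⟨a, ha, ?_⟩
    have h1 : σ (a (σ⁻¹ y)) = z := h
    rw [← h1]
    simp
  · rintro ⟨a, ha, h⟩
    refine ⟨_, ⟨a, ha, rfl⟩, ?_⟩
    show σ (a (σ⁻¹ y)) = z
    rw [h]
    simp

/-- the conjugacy theorem in `Perm (Fin n)` -/
theorem good_conj (hn : 3 ≤ n) (h5 : n ≠ 5) {A B : Subgroup (Perm (Fin n))}
    (hA : Good A) (hB : Good B) :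
    ∃ σ : Perm (Fin n), Perm.sign σ = 1 ∧ B = A.map (MulAut.conj σ).toMonoidHom := by
  obtain ⟨σ, hσ1, hσ⟩ := exists_even_orbit_equiv hn h5 hA hB
  refine ⟨σ, hσ1, ?_⟩
  apply eq_of_same_orbits hn h5 (hA.conj σ) hB
  intro y
  ext z
  rw [mem_orbit_conj, hσ]
  simp

end Cfsg.Agent.Lib.H25.AbAlt
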