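import Mathlib

/-!
An automorphism of order `p ≥ 5` of an abelian `p`-group `K` with `Ω₁(K) ≤ K^p` acting on `K/K^p`
with `[K, σ, σ] ≤ K^p` centralizes `K/K^p` (helper25).
-/

set_option autoImplicit false

namespace Cfsg.Agent.Lib.H25.AbAutBinom

/-- the additive computation: an endomorphism `f` with `f ^ p = 1`, `(f - 1)² A ≤ pA` and
`Ω₁(A) ≤ pA` satisfies `(f - 1) A ≤ pA` when `p ≥ 5`. -/
theorem end_lemma {A : Type*} [AddCommGroup A] {p : ℕ} (hp : p.Prime) (hp5 : 5 ≤ p)
    (f : Module.End ℤ A) (hf : f ^ p = 1)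
    (hN2 : ∀ x, ∃ y, (f - 1) ((f - 1) x) = p • y)
    (hΩ : ∀ x : A, p • x = 0 → ∃ y, x = p • y) :
    ∀ x, ∃ y, (f - 1) x = p • y := by
  set N : Module.End ℤ A := f - 1 with hN
  have hfN : f = N + 1 := by rw [hN]; abel
  let B : AddSubgroup A := (nsmulAddMonoidHom (p ^ 2) : A →+ A).range
  have hB : ∀ z, z ∈ B ↔ ∃ y, (p ^ 2) • y = z := by
    intro z
    exact AddMonoidHom.mem_range
  have h2 : ∀ j : ℕ, ∀ x, ∃ y, (N ^ (2 + j)) x = p • y := by
    intro j x
    obtain ⟨y, hy⟩ := hN2 ((N ^ j) x)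
    refine ⟨y, ?_⟩
    rw [pow_add, pow_two, Module.End.mul_apply, Module.End.mul_apply]
    exact hy
  have h4 : ∀ j : ℕ, ∀ x, (N ^ (4 + j)) x ∈ B := by
    intro j x
    obtain ⟨u, hu⟩ := h2 j x
    obtain ⟨v, hv⟩ := hN2 u
    rw [hB]
    refine ⟨v, ?_⟩
    have : (N ^ (4 + j)) x = N (N ((N ^ (2 + j)) x)) := by
      have : 4 + j = 2 + (2 + j) := by ring
      rw [this, pow_add, pow_two, Module.End.mul_apply, Module.End.mul_apply]
    rw [this, hu, map_nsmul, map_nsmul, hv, pow_two, mul_nsmul]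
  -- the binomial expansion
  have hexp : ∀ x, x = ∑ m ∈ Finset.range (p + 1), (p.choose m) • (N ^ m) x := by
    intro x
    have h1 : (f ^ p) x = x := by rw [hf]; rfl
    rw [hfN, (Commute.one_right N).add_pow p] at h1
    conv_lhs => rw [← h1]
    simp only [LinearMap.sum_apply, one_pow, mul_one]
    apply Finset.sum_congr rfl
    intro m _
    rw [Module.End.mul_apply]
    have : ((p.choose m : ℕ) : Module.End ℤ A) x = (p.choose m) • x := by
      simp
    rw [this, map_nsmul]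
  -- the terms with `m ≥ 2` lie in `p²A`
  have hterm : ∀ x, ∀ m ∈ ((Finset.range (p + 1)).erase 0).erase 1,
      (p.choose m) • (N ^ m) x ∈ B := by
    intro x m hm
    rw [Finset.mem_erase, Finset.mem_erase, Finset.mem_range] at hm
    obtain ⟨hm1, hm0, hmp⟩ := hm
    rcases Nat.lt_or_ge m p with hlt | hge
    · obtain ⟨c, hc⟩ := hp.dvd_choose_self hm0 hlt
      obtain ⟨j, rfl⟩ : ∃ j, m = 2 + j := ⟨m - 2, by omega⟩
      obtain ⟨y, hy⟩ := h2 j x
      rw [hB]
      refine ⟨c • y, ?_⟩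
      rw [hy, hc, pow_two, mul_nsmul, mul_nsmul]
      rw [smul_comm c p (p • y), smul_comm c p y]
    · have hmp' : m = p := by omega
      subst hmp'
      rw [Nat.choose_self, one_nsmul]
      obtain ⟨j, hj⟩ : ∃ j, m = 4 + j := ⟨m - 4, by omega⟩
      rw [hj]
      exact h4 j x
  intro x
  have hx := hexp x
  rw [← Finset.add_sum_erase _ _ (show 0 ∈ Finset.range (p + 1) by simp),
    ← Finset.add_sum_erase _ _ (show 1 ∈ (Finset.range (p + 1)).erase 0 by
      rw [Finset.mem_erase, Finset.mem_range]; exact ⟨one_ne_zero, by omega⟩)] at hx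
  have hb := B.sum_mem (hterm x)
  rw [hB] at hb
  obtain ⟨z, hz⟩ := hb
  rw [← hz, Nat.choose_zero_right, Nat.choose_one_right, pow_zero, pow_one, one_nsmul] at hx
  have h5 : p • (N x + p • z) = 0 := by
    have h6 : x = x + (p • N x + (p ^ 2) • z) := hx
    have h7 : p • N x + (p ^ 2) • z = 0 := by
      have := add_left_cancel (a := x) (b := 0) (c := p • N x + (p ^ 2) • z) (by rw [add_zero]; exact h6)
      exact this.symm
    rw [nsmul_add, ← mul_nsmul, ← pow_two]
    exact h7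
  obtain ⟨w, hw⟩ := hΩ _ h5
  refine ⟨w - z, ?_⟩
  rw [nsmul_sub, ← hw]
  abel

/-- the multiplicative version: an automorphism `σ` of order dividing `p ≥ 5` of an abelian group
`K` with `[K, σ, σ] ≤ K^p` and `Ω₁(K) ≤ K^p` satisfies `[K, σ] ≤ K^p`. -/
theorem aut_lemma {K : Type*} [Group K] (hcomm : ∀ a b : K, a * b = b * a) {p : ℕ}
    (hp : p.Prime) (hp5 : 5 ≤ p) (σ : MulAut K) (hσ : σ ^ p = 1)
    (hN2 : ∀ x : K, ∃ y : K, (x⁻¹ * σ x)⁻¹ * σ (x⁻¹ * σ x) = y ^ p)
    (hΩ : ∀ x : K, x ^ p = 1 → ∃ y, x = y ^ p) : ∀ x : K, ∃ y : K, x⁻¹ * σ x = y ^ p := by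
  letI : CommGroup K := { ‹Group K› with mul_comm := hcomm }
  let f : Module.End ℤ (Additive K) := (MonoidHom.toAdditive σ.toMonoidHom).toIntLinearMap
  have hfapp : ∀ x : Additive K, f x = Additive.ofMul (σ (Additive.toMul x)) := fun x => rfl
  have hfpow : ∀ n : ℕ, ∀ x : Additive K,
      (f ^ n) x = Additive.ofMul ((σ ^ n) (Additive.toMul x)) := by
    intro n
    induction n with
    | zero => intro x; simp
    | succ n ih =>
      intro x
      rw [pow_succ', Module.End.mul_apply, ih, hfapp, pow_succ', MulAut.mul_apply]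
      rfl
  have hf : f ^ p = 1 := by
    apply LinearMap.ext
    intro x
    rw [hfpow, hσ]
    rfl
  have hsub : ∀ x : Additive K,
      (f - 1) x = Additive.ofMul ((Additive.toMul x)⁻¹ * σ (Additive.toMul x)) := by
    intro x
    rw [LinearMap.sub_apply, hfapp, Module.End.one_apply]
    show Additive.ofMul (σ (Additive.toMul x) / Additive.toMul x) = _
    rw [div_eq_mul_inv, mul_comm]
  have hsmul : ∀ y : Additive K, p • y = Additive.ofMul ((Additive.toMul y) ^ p) := fun y => rfl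
  have key := end_lemma hp hp5 f hf ?_ ?_
  · intro x
    obtain ⟨y, hy⟩ := key (Additive.ofMul x)
    refine ⟨Additive.toMul y, ?_⟩
    rw [hsub, hsmul] at hy
    exact hy
  · intro x
    obtain ⟨y, hy⟩ := hN2 (Additive.toMul x)
    refine ⟨Additive.ofMul y, ?_⟩
    rw [hsub, hsub, hsmul]
    exact congrArg Additive.ofMul hy
  · intro x hx
    obtain ⟨y, hy⟩ := hΩ (Additive.toMul x) (by rw [hsmul] at hx; exact hx)
    exact ⟨Additive.ofMul y, by rw [hsmul]; exact hy⟩

end Cfsg.Agent.Lib.H25.AbAutBinom
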