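import Mathlib
import Cfsg.Agent.Lib.H25.AbPow
import Cfsg.Agent.Lib.H25.AbAutBinom
import Cfsg.Agent.Lib.H25.EssChain

set_option autoImplicit false

/-!
Automorphisms of order `p ≥ 5` of an abelian `p`-group `K` with `|K : Φ(K)| = p²` and
`Ω₁(K) ≤ Φ(K)` centralize `K / Φ(K)` (helper25).
-/

namespace Cfsg.Agent.Lib.H25.AbAutFrat

open Cfsg.Agent.Lib.H1 Cfsg.Agent.Lib.H25.AbPow Cfsg.Agent.Lib.H25.AbAutBinom
  Cfsg.Agent.Lib.H25.EssChain

variable {K : Type*} [Group K] {p : ℕ}

/-- an automorphism of order `p` of a `p`-group with Frattini quotient of order `p²` leaves a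
subgroup between invariant -/
theorem exists_invariant_mid [Finite K] [hp : Fact p.Prime] (hK : IsPGroup p K)
    (hidx : (frattini K).index = p ^ 2) (σ : MulAut K) (hσ : σ ^ p = 1) :
    ∃ L : Subgroup K, frattini K ≤ L ∧ (∀ x ∈ L, σ x ∈ L) ∧ L.index = p ∧
      (frattini K).relIndex L = p := by
  classical
  have hp1 : 1 < p := hp.out.one_lt
  have hppos : 0 < p := hp.out.pos
  have hmap : (frattini K).map (σ : K →* K) = frattini K :=
    Subgroup.characteristic_iff_map_eq.1 inferInstance σ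
  let σb : (K ⧸ frattini K) ≃* (K ⧸ frattini K) :=
    QuotientGroup.congr (frattini K) (frattini K) σ hmap
  have hσb : ∀ x : K, σb (x : K ⧸ frattini K) = ((σ x : K) : K ⧸ frattini K) := fun x => rfl
  haveI : Fintype (K ⧸ frattini K) := Fintype.ofFinite _
  have hQcard : Fintype.card (K ⧸ frattini K) = p ^ 2 := by
    rw [← Nat.card_eq_fintype_card, ← Subgroup.index_eq_card, hidx]
  let τ : Equiv.Perm (K ⧸ frattini K) := σb.toEquiv
  have hτ : ∀ x : K, τ (x : K ⧸ frattini K) = ((σ x : K) : K ⧸ frattini K) := fun x => rfl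
  have hτpow : ∀ n : ℕ, ∀ x : K, (τ ^ n) (x : K ⧸ frattini K) = (((σ ^ n) x : K) : K ⧸ frattini K) := by
    intro n
    induction n with
    | zero => intro x; simp
    | succ n ih =>
      intro x
      rw [pow_succ', Equiv.Perm.mul_apply, ih, hτ, pow_succ', MulAut.mul_apply]
  have hτp : τ ^ p ^ 1 = 1 := by
    rw [pow_one]
    ext q
    induction q using QuotientGroup.induction_on with
    | H x =>
      rw [hτpow, hσ]
      rfl
  have hτ1 : τ ((1 : K) : K ⧸ frattini K) = ((1 : K) : K ⧸ frattini K) := by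
    rw [hτ, map_one]
  have hdvd : p ∣ Fintype.card (K ⧸ frattini K) := by
    rw [hQcard]; exact dvd_pow_self p (by norm_num)
  obtain ⟨b, hb, hb1⟩ := Equiv.Perm.exists_fixed_point_of_prime' hdvd hτp hτ1
  have hb1' : b ≠ 1 := hb1
  have hσbb : σb b = b := hb
  have hQpow : ∀ q : K ⧸ frattini K, q ^ p = 1 := by
    intro q
    induction q using QuotientGroup.induction_on with
    | H x =>
      rw [← QuotientGroup.mk_pow, QuotientGroup.eq_one_iff]
      exact isPGroup_pow_mem_frattini hK x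
  have hord : orderOf b = p := orderOf_eq_prime (hQpow b) hb1'
  have hz : Nat.card (Subgroup.zpowers b) = p := by rw [Nat.card_zpowers, hord]
  set L := (Subgroup.zpowers b).comap (QuotientGroup.mk' (frattini K)) with hL
  have hΦL : frattini K ≤ L := by
    intro x hx
    rw [hL, Subgroup.mem_comap, QuotientGroup.mk'_apply, (QuotientGroup.eq_one_iff x).2 hx]
    exact Subgroup.one_mem _
  have hLidx : L.index = p := by
    rw [hL, Subgroup.index_comap_of_surjective _ (QuotientGroup.mk'_surjective _)]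
    have h1 := Subgroup.card_mul_index (Subgroup.zpowers b)
    rw [hz, Nat.card_eq_fintype_card, hQcard] at h1
    have : p * (Subgroup.zpowers b).index = p * p := by rw [h1]; ring
    exact Nat.eq_of_mul_eq_mul_left hppos this
  refine ⟨L, hΦL, ?_, hLidx, ?_⟩
  · intro x hx
    rw [hL, Subgroup.mem_comap, QuotientGroup.mk'_apply] at hx ⊢
    obtain ⟨i, hi⟩ := Subgroup.mem_zpowers_iff.1 hx
    rw [← hσb, ← hi, map_zpow, hσbb]
    exact Subgroup.zpow_mem _ (Subgroup.mem_zpowers b) i
  · have h2 := Subgroup.relIndex_mul_index hΦL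
    rw [hLidx, hidx] at h2
    have : (frattini K).relIndex L * p = p * p := by rw [h2]; ring
    exact Nat.eq_of_mul_eq_mul_right hppos this

/-- **Automorphisms of order `p ≥ 5` centralize the Frattini quotient** of an abelian `p`-group
`K` with `|K : Φ(K)| = p²` and `Ω₁(K) ≤ Φ(K)`. -/
theorem aut_centralizes [Finite K] [hp : Fact p.Prime] (hK : IsPGroup p K)
    (hcomm : ∀ a b : K, a * b = b * a) (hp5 : 5 ≤ p) (hidx : (frattini K).index = p ^ 2)
    (hΩ : ∀ x : K, x ^ p = 1 → x ∈ frattini K) (σ : MulAut K) (hσ : σ ^ p = 1) :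
    ∀ x : K, x⁻¹ * σ x ∈ frattini K := by
  have hΦ := frattini_eq_range hK hcomm
  obtain ⟨L, hΦL, hLinv, hLidx, hrel⟩ := exists_invariant_mid hK hidx σ hσ
  have hσ' : σ ^ p ^ 1 = 1 := by rwa [pow_one]
  have hΦchar : (frattini K).Characteristic := inferInstance
  have s1 : ∀ b : K, b⁻¹ * σ b ∈ L := by
    intro b
    refine stabilizes_step L ⊤ le_top ?_ σ hLinv (fun _ _ => Subgroup.mem_top _) hσ' b
      (Subgroup.mem_top _)
    rw [Subgroup.relIndex_top_right]
    exact hLidx
  have s2 : ∀ b ∈ L, b⁻¹ * σ b ∈ frattini K :=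
    stabilizes_step (frattini K) L hΦL hrel σ (fun a ha => char_map_mem hΦchar σ ha) hLinv hσ'
  have key := aut_lemma hcomm hp.out hp5 σ hσ ?_ ?_
  · intro x
    obtain ⟨y, hy⟩ := key x
    rw [hy, hΦ]
    exact ⟨y, rfl⟩
  · intro x
    have := s2 _ (s1 x)
    rw [hΦ] at this
    obtain ⟨y, hy⟩ := this
    exact ⟨y, hy.symm⟩
  · intro x hx
    have := hΩ x hx
    rw [hΦ] at this
    obtain ⟨y, hy⟩ := this
    exact ⟨y, hy.symm⟩

end Cfsg.Agent.Lib.H25.AbAutFrat
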