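import Cfsg.Agent.Lib.H25.ActSift

set_option autoImplicit false

/-! # Checking a chain of stabilisers against the order of the group, and the conjugacy test

With the notation of `ActSift`: if at every level every point of the orbit function is moved to the
base point, and the numbers of such points multiply to the order of the group, then the orbit
functions are nonzero exactly on the orbits of the stabilisers and the base points form a base.
An element conjugating `x` to `y` maps an orbit of `x` to an orbit of `y`; sifting decides for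
every point whether it can be the image of the first point. -/

namespace Cfsg.Agent.Lib.H25.ActSift

open Cfsg.Agent.Lib.H17.CosetCert Cfsg.Agent.Lib.H17.Sgs Cfsg.Agent.Lib.H17.SgsCent
  Cfsg.Agent.Lib.H17.PermActs Cfsg.Agent.Lib.H17.ConjTest Cfsg.Agent.Lib.H6.PermTab
open Cfsg.Agent.Lib.H17.Sift (pt pt_mul pt_one pt_lt pt_of_lt mem_stabL_iff_pt)

variable {G : Type*} [Group G] {n : ℕ} {φ : G →* Equiv.Perm (Fin n)}
  {A : ℕ → ℕ → ℕ} {el : ℕ → G} {letters : List ℕ}

/-- the checks of a level -/
structure LvlChk (A : ℕ → ℕ → ℕ) (letters : List ℕ) (n : ℕ) (bs : List ℕ) (L : ALvl) (m : ℕ) :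
    Prop where
  hb : L.b < n
  hlet : letChk letters L.ws = true
  hfix : fixChk A L.ws bs = true
  hreach : ∀ p < n, reachF A L p = true
  hcount : countNZ L.sv n 0 = m

/-- the checks of a chain -/
def ChkChain (A : ℕ → ℕ → ℕ) (letters : List ℕ) (n : ℕ) : List ℕ → List ALvl → List ℕ → Prop
  | _, [], [] => True
  | bs, L :: Ls, m :: ms => LvlChk A letters n bs L m ∧ ChkChain A letters n (L.b :: bs) Ls ms
  | _, [], _ :: _ => False
  | _, _ :: _, [] => False

theorem LvlChk.fix {bs : List ℕ} {L : ALvl} {m : ℕ} (h : LvlChk A letters n bs L m) :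
    LvlFix A letters n bs L :=
  ⟨h.hb, letChk_sound letters L.ws h.hlet, fixChk_sound L.ws bs h.hfix⟩

/-- the set of points on which the orbit function is nonzero -/
def svSet (n : ℕ) (L : ALvl) : Set (Fin n) := {i : Fin n | L.sv i ≠ 0}

theorem ncard_svSet (L : ALvl) : (svSet n L).ncard = countNZ L.sv n 0 := by
  rw [countNZ_eq, zero_add, ← Set.ncard_coe_finset]
  have : ((Finset.range n).filter fun i => L.sv i ≠ 0 : Set ℕ) =
      (fun i : Fin n => (i : ℕ)) '' svSet n L := by
    ext j
    simp only [Finset.coe_filter, Finset.mem_range, svSet, Set.mem_ofPred_eq, Set.mem_image]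
    constructor
    · rintro ⟨hj, hb⟩; exact ⟨⟨j, hj⟩, hb, rfl⟩
    · rintro ⟨i, hb, rfl⟩; exact ⟨i.2, hb⟩
  rw [this, Set.ncard_image_of_injective _ Fin.val_injective]

/-- every point of the orbit function is reached from the base point by the stabiliser -/
theorem reach_of_chk (hA : ∀ x ∈ letters, Acts φ (el x) (A x)) {bs : List ℕ} {L : ALvl} {m : ℕ}
    (h : LvlChk A letters n bs L m) :
    ∀ i ∈ svSet n L, ∃ g ∈ stabL φ bs, φ g ⟨L.b, h.hb⟩ = i := by
  intro i hi
  have h1 := h.hreach i i.2
  unfold reachF at h1
  have hne : Nat.beq (L.sv i) 0 = false := by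
    cases hb : Nat.beq (L.sv i) 0 with
    | false => rfl
    | true => exact absurd (Nat.eq_of_beq_eq_true hb) hi
  rw [hne] at h1
  simp only [cond_false] at h1
  cases hwk : awalk A L L.fuel i [] with
  | none => rw [hwk] at h1; exact absurd h1 (by simp)
  | some rest' =>
    obtain ⟨v, hv, hvx, -⟩ := awalk_sound hA bs L h.fix L.fuel i [] rest' i.2 (by simp) hwk
    refine ⟨v⁻¹, Subgroup.inv_mem _ hv, ?_⟩
    rw [map_inv, Equiv.Perm.inv_eq_iff_eq]
    apply Fin.ext
    rw [← pt_of_lt φ v i i.2]
    exact hvx.symm

/-- a set of points reached from the base point which is as large as the index contains the orbit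
of the base point -/
theorem orbit_subset [Finite G] (bs : List ℕ) (b : ℕ) (hb : b < n) (M : Set (Fin n))
    (hreach : ∀ i ∈ M, ∃ g ∈ stabL φ bs, φ g ⟨b, hb⟩ = i)
    (hcard : Nat.card (stabL φ bs) ≤ M.ncard * Nat.card (stabL φ (b :: bs))) :
    ∀ g ∈ stabL φ bs, φ g ⟨b, hb⟩ ∈ M := by
  intro g0 hg0
  by_contra hj
  have hO : (insert (φ g0 ⟨b, hb⟩) M).ncard = M.ncard + 1 :=
    Set.ncard_insert_of_notMem hj (Set.toFinite M)
  have h1 := card_mul_le_of_reach φ bs b hb (insert (φ g0 ⟨b, hb⟩) M) (by
    intro i hi
    rcases hi with rfl | hi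
    · exact ⟨g0, hg0, rfl⟩
    · exact hreach i hi)
  rw [hO] at h1
  have h2 : 1 ≤ Nat.card (stabL φ (b :: bs)) := one_le_card φ _
  have h3 : (M.ncard + 1) * Nat.card (stabL φ (b :: bs)) =
      M.ncard * Nat.card (stabL φ (b :: bs)) + Nat.card (stabL φ (b :: bs)) := by ring
  omega

/-- the base points of a chain, the last one first, before the given list -/
def basesRev : List ALvl → List ℕ → List ℕ
  | [], bs => bs
  | L :: Ls, bs => basesRev Ls (L.b :: bs)

/-- the product of the numbers of points bounds the order of the stabiliser from below -/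
theorem prod_le_card [Finite G] (hA : ∀ x ∈ letters, Acts φ (el x) (A x)) (Ls : List ALvl) :
    ∀ (bs : List ℕ) (ms : List ℕ), ChkChain A letters n bs Ls ms →
      ms.prod * Nat.card (stabL φ (basesRev Ls bs)) ≤ Nat.card (stabL φ bs) := by
  induction Ls with
  | nil =>
    intro bs ms h
    cases ms with
    | nil => simp [basesRev]
    | cons m ms => exact absurd h (by simp [ChkChain])
  | cons L Ls ih =>
    intro bs ms h
    cases ms with
    | nil => exact absurd h (by simp [ChkChain])
    | cons m ms =>
      obtain ⟨hL, hrest⟩ := h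
      have h1 := card_mul_le_of_reach φ bs L.b hL.hb (svSet n L) (reach_of_chk hA hL)
      rw [ncard_svSet, hL.hcount] at h1
      have h2 := ih (L.b :: bs) ms hrest
      rw [List.prod_cons]
      change m * ms.prod * Nat.card (stabL φ (basesRev Ls (L.b :: bs))) ≤ _
      calc m * ms.prod * Nat.card (stabL φ (basesRev Ls (L.b :: bs)))
          = m * (ms.prod * Nat.card (stabL φ (basesRev Ls (L.b :: bs)))) := by ring
        _ ≤ m * Nat.card (stabL φ (L.b :: bs)) := Nat.mul_le_mul_left m h2
        _ ≤ Nat.card (stabL φ bs) := h1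

/-- if the product of the numbers of points is the order of the stabiliser, the chain is correct
and the stabiliser of all base points is trivial -/
theorem chain_of_chk [Finite G] (hA : ∀ x ∈ letters, Acts φ (el x) (A x)) (Ls : List ALvl) :
    ∀ (bs : List ℕ) (ms : List ℕ), ChkChain A letters n bs Ls ms →
      Nat.card (stabL φ bs) ≤ ms.prod →
      ChainOK φ A letters bs Ls ∧ Nat.card (stabL φ (basesRev Ls bs)) = 1 := by
  induction Ls with
  | nil =>
    intro bs ms h hc
    cases ms with
    | nil =>
      refine ⟨trivial, ?_⟩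
      have h1 : 1 ≤ Nat.card (stabL φ bs) := one_le_card φ bs
      simp only [List.prod_nil] at hc
      change Nat.card (stabL φ bs) = 1
      omega
    | cons m ms => exact absurd h (by simp [ChkChain])
  | cons L Ls ih =>
    intro bs ms h hc
    cases ms with
    | nil => exact absurd h (by simp [ChkChain])
    | cons m ms =>
      obtain ⟨hL, hrest⟩ := h
      rw [List.prod_cons] at hc
      have h1 := card_mul_le_of_reach φ bs L.b hL.hb (svSet n L) (reach_of_chk hA hL)
      rw [ncard_svSet, hL.hcount] at h1
      have h2 := prod_le_card hA Ls (L.b :: bs) ms hrest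
      have h3 : 1 ≤ Nat.card (stabL φ (basesRev Ls (L.b :: bs))) := one_le_card φ _
      have h4 : ms.prod ≤ Nat.card (stabL φ (L.b :: bs)) := by
        calc ms.prod = ms.prod * 1 := (Nat.mul_one _).symm
          _ ≤ ms.prod * Nat.card (stabL φ (basesRev Ls (L.b :: bs))) := Nat.mul_le_mul_left _ h3
          _ ≤ _ := h2
      have hpos : 0 < Nat.card (stabL φ bs) := one_le_card φ bs
      have hm : 0 < m := by
        rcases Nat.eq_zero_or_pos m with h0 | h0
        · rw [h0, Nat.zero_mul] at hc
          omega
        · exact h0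
      -- the order of the next stabiliser
      have h5 : Nat.card (stabL φ (L.b :: bs)) ≤ ms.prod := by
        have : m * Nat.card (stabL φ (L.b :: bs)) ≤ m * ms.prod := le_trans h1 hc
        exact Nat.le_of_mul_le_mul_left this hm
      have h6 : Nat.card (stabL φ bs) ≤ m * Nat.card (stabL φ (L.b :: bs)) := by
        calc Nat.card (stabL φ bs) ≤ m * ms.prod := hc
          _ ≤ m * Nat.card (stabL φ (L.b :: bs)) := Nat.mul_le_mul_left m h4
      obtain ⟨hchain, hone⟩ := ih (L.b :: bs) ms hrest h5
      refine ⟨⟨⟨hL.fix, ?_⟩, hchain⟩, hone⟩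
      intro g hg
      have hmem := orbit_subset bs L.b hL.hb (svSet n L) (reach_of_chk hA hL)
        (by rw [ncard_svSet, hL.hcount]; exact h6) g hg
      have : pt φ g L.b = ((φ g ⟨L.b, hL.hb⟩ : Fin n) : ℕ) := pt_of_lt φ g L.b hL.hb
      rw [this]
      exact hmem

theorem mem_basesRev (Ls : List ALvl) : ∀ (bs : List ℕ) (c : ℕ),
    c ∈ basesRev Ls bs ↔ c ∈ Ls.map ALvl.b ∨ c ∈ bs := by
  induction Ls with
  | nil => intro bs c; simp [basesRev]
  | cons L Ls ih =>
    intro bs c
    change c ∈ basesRev Ls (L.b :: bs) ↔ _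
    rw [ih, List.map_cons, List.mem_cons, List.mem_cons]
    tauto

/-- a chain whose checks hold and whose numbers of points multiply to the order of the group: the
chain is correct and its base points form a base -/
theorem chain_top [Finite G] (hA : ∀ x ∈ letters, Acts φ (el x) (A x)) (Ls : List ALvl) (ms : List ℕ)
    (h : ChkChain A letters n [] Ls ms) (hcard : Nat.card G = ms.prod) :
    ChainOK φ A letters [] Ls ∧ IsBase φ (Ls.map ALvl.b) := by
  obtain ⟨h1, h2⟩ := chain_of_chk hA Ls [] ms h (by rw [card_stabL_nil, hcard])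
  refine ⟨h1, ?_⟩
  have hb : IsBase φ (basesRev Ls []) := isBase_of_card φ (basesRev Ls []) h2
  intro g hg
  apply hb g
  intro c hc
  rcases (mem_basesRev Ls [] c).mp hc with hc | hc
  · exact hg c hc
  · exact absurd hc (by simp)

/-! ## The conjugacy test -/

/-- an element conjugating `x` to `y` maps an orbit of `x` to an orbit of `y` -/
theorem map_orbl_of_conj {g x y : G} {X Y : ℕ → ℕ} (hx : Acts φ x X) (hy : Acts φ y Y)
    (h : g * x = y * g) : ∀ (k δ : ℕ), δ < n →
      (orbl X k δ).map (pt φ g) = orbl Y k (pt φ g δ) := by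
  intro k
  induction k with
  | zero => intro δ _; rfl
  | succ k ih =>
    intro δ hδ
    rw [orbl_succ, orbl_succ, List.map_cons, ih (X δ) (hx.lt δ hδ), pt_conj hx hy h δ hδ]

/-- the image of `δ` under an element conjugating `x` to `y` is one of the points where the sift
does not fail -/
theorem aconj_cases (hA : ∀ x ∈ letters, Acts φ (el x) (A x)) (Ls : List ALvl)
    (hchain : ChainOK φ A letters [] Ls) {x y : G}
    {X Y : ℕ → ℕ} (hx : Acts φ x X) (hy : Acts φ y Y) (δ : ℕ) (hδ : δ < n)
    (hL : Ls.map ALvl.b = orbl X Ls.length δ) (good : ℕ → Bool)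
    (hchk : ∀ δ' < n, cond (good δ') true
      (Nat.beq (asift A Ls (orbl Y Ls.length δ')) 0) = true)
    (g : G) (hg : g * x = y * g) : good (pt φ g δ) = true := by
  have h1 := hchk (pt φ g δ) (pt_lt φ g δ hδ)
  cases hgd : good (pt φ g δ) with
  | true => rfl
  | false =>
    exfalso
    rw [hgd] at h1
    have h2 : asift A Ls (orbl Y Ls.length (pt φ g δ)) = 0 := Nat.eq_of_beq_eq_true h1
    apply asift_sound hA Ls [] hchain _ h2
    refine ⟨g, ?_, ?_⟩
    · rw [stabL_nil]
      trivial
    · rw [hL]
      exact map_orbl_of_conj hx hy hg Ls.length δ hδ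

/-- a check over the points `lo, …, lo + len - 1` -/
noncomputable def sweep (F : ℕ → Bool) (lo len : ℕ) : Bool :=
  allLt (fun i => force (Nat.add lo i) F) len

theorem sweep_sound (F : ℕ → Bool) (lo len : ℕ) (h : sweep F lo len = true) :
    ∀ p, lo ≤ p → p < lo + len → F p = true := by
  intro p h1 h2
  have := allLt_sound _ _ h (p - lo) (by omega)
  rw [force_eq] at this
  have e : Nat.add lo (p - lo) = p := by
    change lo + (p - lo) = p
    omega
  rw [e] at this
  exact this

/-- the checks over consecutive ranges of the same length -/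
theorem sweep_all (F : ℕ → Bool) (len cnt : ℕ) (hlen : 0 < len)
    (h : ∀ k < cnt, sweep F (k * len) len = true) : ∀ p < cnt * len, F p = true := by
  intro p hp
  have hk : p / len < cnt := by
    rw [Nat.div_lt_iff_lt_mul hlen]
    exact hp
  have h1 : p / len * len ≤ p := Nat.div_mul_le_self p len
  have h2 : p < p / len * len + len := by
    have := Nat.lt_div_mul_add (a := p) (b := len) hlen
    omega
  exact sweep_sound F _ len (h _ hk) p h1 h2

end Cfsg.Agent.Lib.H25.ActSift
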