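import Cfsg.Agent.Lib.H17.OutTools
import Cfsg.Agent.Lib.H6.PermTab

set_option autoImplicit false

/-! # Sifting through a chain of stabilisers whose letters are arbitrary group elements

The group `G` acts on `Fin n` through `φ`; a letter `x` is an element `el x` of `G` whose action
on the points is the function `A x`. Words are lists of letters, applied first letter first. A
level of a chain has a base point, a function giving for every point of the orbit the number of a
word which moves the point towards the base point, and the words, which fix the earlier base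
points. No assumption on the letters (no inverses, no involutions) is needed. -/

namespace Cfsg.Agent.Lib.H25.ActSift

open Cfsg.Agent.Lib.H17.CosetCert Cfsg.Agent.Lib.H17.Sgs Cfsg.Agent.Lib.H17.SgsCent
  Cfsg.Agent.Lib.H17.PermActs Cfsg.Agent.Lib.H17.ConjTest Cfsg.Agent.Lib.H6.PermTab
open Cfsg.Agent.Lib.H17.Sift (pt pt_mul pt_one pt_lt pt_of_lt mem_stabL_iff_pt)

/-- a level of a chain: base point, fuel, numbers of the words, words -/
structure ALvl where
  /-- the base point -/
  b : ℕ
  /-- an upper bound for the number of steps -/
  fuel : ℕ
  /-- `0`: not in the orbit; `1`: the base point; `k + 2`: apply the word `k` -/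
  sv : ℕ → ℕ
  /-- the words -/
  ws : List (List ℕ)

section defs

variable (A : ℕ → ℕ → ℕ)

/-- the entry `k` of a list of words, the empty word if there is none -/
noncomputable def nthW (ws : List (List ℕ)) : ℕ → List ℕ :=
  List.rec (motive := fun _ => ℕ → List ℕ) (fun _ => [])
    (fun w _ ih k => Nat.casesOn k w fun k' => ih k') ws

theorem nthW_mem (ws : List (List ℕ)) : ∀ k, nthW ws k ∈ ws ∨ nthW ws k = [] := by
  induction ws with
  | nil => intro k; exact Or.inr rfl
  | cons w ws ih =>
    intro k
    cases k with
    | zero => exact Or.inl List.mem_cons_self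
    | succ k =>
      rcases ih k with h | h
      · exact Or.inl (List.mem_cons_of_mem _ h)
      · exact Or.inr h

/-- the word with the number `c - 2` -/
noncomputable def wordOf (L : ALvl) (c : ℕ) : List ℕ := nthW L.ws (Nat.sub c 2)

/-- the map of a list, evaluating the entries -/
noncomputable def mapF (f : ℕ → ℕ) : List ℕ → List ℕ :=
  List.rec (motive := fun _ => List ℕ) [] (fun y _ ih => force (f y) fun y' => y' :: ih)

theorem mapF_eq (f : ℕ → ℕ) (l : List ℕ) : mapF f l = l.map f := by
  induction l with
  | nil => rfl
  | cons y l ih =>
    change (force (f y) fun y' => y' :: mapF f l) = _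
    rw [force_eq, ih, List.map_cons]

/-- move `x` down to the base point, moving the points of `rest` along -/
noncomputable def awalk (L : ALvl) : ℕ → ℕ → List ℕ → Option (List ℕ) :=
  Nat.rec (motive := fun _ => ℕ → List ℕ → Option (List ℕ))
    (fun x rest => cond (Nat.beq x L.b) (some rest) none)
    (fun _ ih x rest => cond (Nat.beq x L.b) (some rest)
      (force (L.sv x) fun c =>
        cond (Nat.blt c 2) none
          (force (applyW A (wordOf L c) x) fun x' =>
            ih x' (mapF (applyW A (wordOf L c)) rest))))

theorem awalk_zero (L : ALvl) (x : ℕ) (rest : List ℕ) :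
    awalk A L 0 x rest = cond (Nat.beq x L.b) (some rest) none := rfl

theorem awalk_succ (L : ALvl) (fuel x : ℕ) (rest : List ℕ) :
    awalk A L (fuel + 1) x rest = cond (Nat.beq x L.b) (some rest)
      (cond (Nat.blt (L.sv x) 2) none
        (awalk A L fuel (applyW A (wordOf L (L.sv x)) x)
          (rest.map (applyW A (wordOf L (L.sv x)))))) := by
  change cond (Nat.beq x L.b) (some rest)
      (force (L.sv x) fun c =>
        cond (Nat.blt c 2) none
          (force (applyW A (wordOf L c) x) fun x' =>
            awalk A L fuel x' (mapF (applyW A (wordOf L c)) rest))) = _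
  simp only [force_eq, mapF_eq]

/-- `0`: some point is not in the orbit; `1`: all points are moved to the base; `2`: the walk
failed -/
noncomputable def asift : List ALvl → List ℕ → ℕ :=
  List.rec (motive := fun _ => List ℕ → ℕ) (fun _ => 1)
    (fun L _ ih tgt => List.casesOn (motive := fun _ => ℕ) tgt 1 fun x rest =>
      force x fun x' => cond (Nat.beq (L.sv x') 0) 0
        (Option.casesOn (motive := fun _ => ℕ) (awalk A L L.fuel x' rest) 2 fun rest' => ih rest'))

theorem asift_nil (tgt : List ℕ) : asift A [] tgt = 1 := rfl

theorem asift_cons_nil (L : ALvl) (Ls : List ALvl) : asift A (L :: Ls) [] = 1 := rfl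

theorem asift_cons (L : ALvl) (Ls : List ALvl) (x : ℕ) (rest : List ℕ) :
    asift A (L :: Ls) (x :: rest) = cond (Nat.beq (L.sv x) 0) 0
      (Option.casesOn (motive := fun _ => ℕ) (awalk A L L.fuel x rest) 2
        fun rest' => asift A Ls rest') := by
  change (force x fun x' => cond (Nat.beq (L.sv x') 0) 0
      (Option.casesOn (motive := fun _ => ℕ) (awalk A L L.fuel x' rest) 2
        fun rest' => asift A Ls rest')) = _
  rw [force_eq]

/-- the number of points `< n` with nonzero value -/
noncomputable def countNZ (f : ℕ → ℕ) (n : ℕ) : ℕ → ℕ :=
  Nat.rec (motive := fun _ => ℕ → ℕ) (fun acc => acc)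
    (fun i ih acc => cond (Nat.beq (f i) 0) (ih acc) (force (Nat.succ acc) ih)) n

theorem countNZ_eq (f : ℕ → ℕ) (n acc : ℕ) :
    countNZ f n acc = acc + ((Finset.range n).filter fun i => f i ≠ 0).card := by
  induction n generalizing acc with
  | zero => simp [countNZ]
  | succ n ih =>
    have h' : countNZ f (n + 1) acc =
        cond (Nat.beq (f n) 0) (countNZ f n acc) (countNZ f n (Nat.succ acc)) := by
      change cond (Nat.beq (f n) 0) (countNZ f n acc) (force (Nat.succ acc) (countNZ f n)) = _
      rw [force_eq]
    rw [h', Finset.range_add_one, Finset.filter_insert]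
    cases hb : Nat.beq (f n) 0 with
    | true =>
      have h0 : ¬ f n ≠ 0 := by
        rw [ne_eq, not_not]
        exact Nat.eq_of_beq_eq_true hb
      rw [cond_true, ih, if_neg h0]
    | false =>
      have h0 : f n ≠ 0 := Nat.ne_of_beq_eq_false hb
      rw [cond_false, ih, if_pos h0, Finset.card_insert_of_notMem (by simp)]
      omega

/-- the point is not in the orbit, or it is moved to the base point -/
noncomputable def reachF (L : ALvl) (p : ℕ) : Bool :=
  cond (Nat.beq (L.sv p) 0) true
    (Option.casesOn (motive := fun _ => Bool) (awalk A L L.fuel p []) false fun _ => true)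

/-- the words fix the points of the list -/
noncomputable def fixChk (ws : List (List ℕ)) (bs : List ℕ) : Bool :=
  List.rec (motive := fun _ => Bool) true
    (fun w _ ih => cond (List.rec (motive := fun _ => Bool) true
      (fun c _ ihc => cond (Nat.beq (applyW A w c) c) ihc false) bs) ih false) ws

/-- membership in a list of numbers -/
noncomputable def memN (l : List ℕ) (x : ℕ) : Bool :=
  List.rec (motive := fun _ => Bool) false (fun y _ ih => cond (Nat.beq x y) true ih) l

theorem memN_sound (l : List ℕ) (x : ℕ) (h : memN l x = true) : x ∈ l := by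
  induction l with
  | nil => exact absurd h (by simp [memN])
  | cons y l ih =>
    have h' : cond (Nat.beq x y) true (memN l x) = true := h
    cases hb : Nat.beq x y with
    | true => rw [Nat.eq_of_beq_eq_true hb]; exact List.mem_cons_self
    | false =>
      rw [hb] at h'
      exact List.mem_cons_of_mem _ (ih h')

/-- all letters of all words are in the list -/
noncomputable def letChk (letters : List ℕ) (ws : List (List ℕ)) : Bool :=
  List.rec (motive := fun _ => Bool) true
    (fun w _ ih => cond (List.rec (motive := fun _ => Bool) true
      (fun x _ ihx => cond (memN letters x) ihx false) w) ih false) ws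

theorem letChk_sound (letters : List ℕ) (ws : List (List ℕ)) (h : letChk letters ws = true) :
    ∀ w ∈ ws, ∀ x ∈ w, x ∈ letters := by
  have inner : ∀ (w : List ℕ), List.rec (motive := fun _ => Bool) true
      (fun x _ ihx => cond (memN letters x) ihx false) w = true → ∀ x ∈ w, x ∈ letters := by
    intro w
    induction w with
    | nil => intro _ x hx; exact absurd hx (by simp)
    | cons x0 w ih =>
      intro hh x hx
      have hh' : cond (memN letters x0) (List.rec (motive := fun _ => Bool) true
        (fun x _ ihx => cond (memN letters x) ihx false) w) false = true := hh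
      cases hb : memN letters x0 with
      | false => rw [hb] at hh'; exact absurd hh' (by simp)
      | true =>
        rw [hb] at hh'
        rcases List.mem_cons.mp hx with rfl | hx
        · exact memN_sound _ _ hb
        · exact ih hh' x hx
  induction ws with
  | nil => intro w hw; exact absurd hw (by simp)
  | cons w0 ws ih =>
    have h' : cond (List.rec (motive := fun _ => Bool) true
      (fun x _ ihx => cond (memN letters x) ihx false) w0) (letChk letters ws) false = true := h
    cases hb : List.rec (motive := fun _ => Bool) true
      (fun x _ ihx => cond (memN letters x) ihx false) w0 with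
    | false => rw [hb] at h'; exact absurd h' (by simp)
    | true =>
      rw [hb] at h'
      intro w hw
      rcases List.mem_cons.mp hw with rfl | hw
      · exact inner _ hb
      · exact ih h' w hw

end defs

section sound

variable {G : Type*} [Group G] {n : ℕ} (φ : G →* Equiv.Perm (Fin n))
  (A : ℕ → ℕ → ℕ) (el : ℕ → G) (letters : List ℕ)

/-- the element of a word -/
def elS : List ℕ → G
  | [] => 1
  | y :: ys => elS ys * el y

variable {φ A el letters}

theorem acts_elS (hA : ∀ x ∈ letters, Acts φ (el x) (A x)) (w : List ℕ)
    (hw : ∀ x ∈ w, x ∈ letters) : Acts φ (elS el w) (applyW A w) := by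
  induction w with
  | nil => exact Acts.one
  | cons y ys ih =>
    refine ((ih fun x hx => hw x (List.mem_cons_of_mem _ hx)).mul
      (hA y (hw y List.mem_cons_self))).congr fun p => ?_
    rw [applyW_cons]

theorem pt_elS (hA : ∀ x ∈ letters, Acts φ (el x) (A x)) (w : List ℕ)
    (hw : ∀ x ∈ w, x ∈ letters) (y : ℕ) (hy : y < n) :
    pt φ (elS el w) y = applyW A w y := (acts_elS hA w hw).pt y hy

theorem elS_mem_stabL (hA : ∀ x ∈ letters, Acts φ (el x) (A x)) (w : List ℕ)
    (hw : ∀ x ∈ w, x ∈ letters) (bs : List ℕ)
    (h : ∀ c ∈ bs, applyW A w c = c) : elS el w ∈ stabL φ bs := by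
  rw [mem_stabL_iff_pt]
  intro c hc hcn
  rw [pt_elS hA w hw c hcn]
  exact h c hc

theorem fixChk_sound (ws : List (List ℕ)) (bs : List ℕ) (h : fixChk A ws bs = true) :
    ∀ w ∈ ws, ∀ c ∈ bs, applyW A w c = c := by
  have inner : ∀ (w : List ℕ) (cs : List ℕ), List.rec (motive := fun _ => Bool) true
      (fun c _ ihc => cond (Nat.beq (applyW A w c) c) ihc false) cs = true →
      ∀ c ∈ cs, applyW A w c = c := by
    intro w cs
    induction cs with
    | nil => intro _ c hc; exact absurd hc (by simp)
    | cons c0 cs ih =>
      intro hh c hc
      have hh' : cond (Nat.beq (applyW A w c0) c0) (List.rec (motive := fun _ => Bool) true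
        (fun c _ ihc => cond (Nat.beq (applyW A w c) c) ihc false) cs) false = true := hh
      cases hb : Nat.beq (applyW A w c0) c0 with
      | false => rw [hb] at hh'; exact absurd hh' (by simp)
      | true =>
        rw [hb] at hh'
        rcases List.mem_cons.mp hc with rfl | hc
        · exact Nat.eq_of_beq_eq_true hb
        · exact ih hh' c hc
  induction ws with
  | nil => intro w hw; exact absurd hw (by simp)
  | cons w0 ws ih =>
    have h' : cond (List.rec (motive := fun _ => Bool) true
      (fun c _ ihc => cond (Nat.beq (applyW A w0 c) c) ihc false) bs) (fixChk A ws bs) false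
        = true := h
    cases hb : List.rec (motive := fun _ => Bool) true
      (fun c _ ihc => cond (Nat.beq (applyW A w0 c) c) ihc false) bs with
    | false => rw [hb] at h'; exact absurd h' (by simp)
    | true =>
      rw [hb] at h'
      intro w hw
      rcases List.mem_cons.mp hw with rfl | hw
      · exact inner _ bs hb
      · exact ih h' w hw

/-- the conditions on a level: the words fix the earlier base points -/
structure LvlFix (A : ℕ → ℕ → ℕ) (letters : List ℕ) (n : ℕ) (bs : List ℕ) (L : ALvl) :
    Prop where
  hb : L.b < n
  hlet : ∀ w ∈ L.ws, ∀ x ∈ w, x ∈ letters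
  hfix : ∀ w ∈ L.ws, ∀ c ∈ bs, applyW A w c = c

theorem wordOf_fix {bs : List ℕ} {L : ALvl} (hL : LvlFix A letters n bs L) (c : ℕ) :
    ∀ q ∈ bs, applyW A (wordOf L c) q = q := by
  unfold wordOf
  rcases nthW_mem L.ws (Nat.sub c 2) with h | h
  · exact hL.hfix _ h
  · rw [h]
    intro q _
    exact applyW_nil A q

theorem wordOf_let {bs : List ℕ} {L : ALvl} (hL : LvlFix A letters n bs L) (c : ℕ) :
    ∀ x ∈ wordOf L c, x ∈ letters := by
  unfold wordOf
  rcases nthW_mem L.ws (Nat.sub c 2) with h | h
  · exact hL.hlet _ h
  · rw [h]
    intro x hx
    exact absurd hx (by simp)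

theorem awalk_sound (hA : ∀ x ∈ letters, Acts φ (el x) (A x)) (bs : List ℕ) (L : ALvl)
    (hL : LvlFix A letters n bs L) (fuel : ℕ) :
    ∀ (x : ℕ) (rest rest' : List ℕ), x < n → (∀ y ∈ rest, y < n) →
      awalk A L fuel x rest = some rest' →
      ∃ v ∈ stabL φ bs, pt φ v x = L.b ∧ rest' = rest.map (pt φ v) := by
  have hdone : ∀ (x : ℕ) (rest rest' : List ℕ), cond (Nat.beq x L.b) (some rest) none = some rest' →
      Nat.beq x L.b = true →
      ∃ v ∈ stabL φ bs, pt φ v x = L.b ∧ rest' = rest.map (pt φ v) := by
    intro x rest rest' h hxb
    rw [hxb] at h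
    simp only [cond_true, Option.some.injEq] at h
    refine ⟨1, one_mem _, ?_, ?_⟩
    · rw [pt_one]
      exact Nat.eq_of_beq_eq_true hxb
    · rw [← h]
      have e1 : pt φ (1 : G) = id := funext (pt_one φ)
      rw [e1, List.map_id]
  induction fuel with
  | zero =>
    intro x rest rest' _ _ h
    rw [awalk_zero] at h
    cases hxb : Nat.beq x L.b with
    | false => rw [hxb] at h; exact absurd h (by simp)
    | true => exact hdone x rest rest' h hxb
  | succ fuel ih =>
    intro x rest rest' hx hrest h
    rw [awalk_succ] at h
    cases hxb : Nat.beq x L.b with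
    | true =>
      rw [hxb] at h
      exact hdone x rest rest' (by rw [hxb]; exact h) hxb
    | false =>
      rw [hxb] at h
      simp only [cond_false] at h
      cases hc2 : Nat.blt (L.sv x) 2 with
      | true => rw [hc2] at h; exact absurd h (by simp)
      | false =>
        rw [hc2] at h
        simp only [cond_false] at h
        obtain ⟨w, hw⟩ : ∃ w, w = wordOf L (L.sv x) := ⟨_, rfl⟩
        rw [← hw] at h
        have hwfix := wordOf_fix hL (L.sv x)
        rw [← hw] at hwfix
        have hwlet := wordOf_let hL (L.sv x)
        rw [← hw] at hwlet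
        have hwmem : elS el w ∈ stabL φ bs := elS_mem_stabL hA w hwlet bs hwfix
        have hwy : ∀ y, y < n → pt φ (elS el w) y = applyW A w y :=
          fun y hy => pt_elS hA w hwlet y hy
        have hx' : applyW A w x < n := by
          rw [← hwy x hx]
          exact pt_lt φ _ x hx
        have hmap : rest.map (applyW A w) = rest.map (pt φ (elS el w)) := by
          apply List.map_congr_left
          intro y hy
          exact (hwy y (hrest y hy)).symm
        have hrest' : ∀ y ∈ rest.map (applyW A w), y < n := by
          rw [hmap]
          intro y hy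
          obtain ⟨z, hz, rfl⟩ := List.mem_map.mp hy
          exact pt_lt φ _ z (hrest z hz)
        obtain ⟨v, hv, hvx, hvr⟩ := ih _ _ _ hx' hrest' h
        refine ⟨v * elS el w, mul_mem hv hwmem, ?_, ?_⟩
        · rw [pt_mul φ v _ x hx, hwy x hx]
          exact hvx
        · rw [hvr, hmap, List.map_map]
          apply List.map_congr_left
          intro y hy
          exact (pt_mul φ v _ y (hrest y hy)).symm

/-- a chain of levels whose orbit functions are nonzero on the orbits of the stabilisers -/
def ChainOK (φ : G →* Equiv.Perm (Fin n)) (A : ℕ → ℕ → ℕ) (letters : List ℕ) :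
    List ℕ → List ALvl → Prop
  | _, [] => True
  | bs, L :: Ls => (LvlFix A letters n bs L ∧ ∀ g ∈ stabL φ bs, L.sv (pt φ g L.b) ≠ 0) ∧
      ChainOK φ A letters (L.b :: bs) Ls

theorem chain_b_lt : ∀ (Ms : List ALvl) (cs : List ℕ), ChainOK φ A letters cs Ms →
    ∀ M ∈ Ms, M.b < n := by
  intro Ms
  induction Ms with
  | nil => intro _ _ M hM; exact absurd hM (by simp)
  | cons M0 Ms ihM =>
    intro cs hcs M hM
    rcases List.mem_cons.mp hM with rfl | hM
    · exact hcs.1.1.hb
    · exact ihM _ hcs.2 M hM

/-- if the sift fails at a point which is not in the orbit, no element of the stabiliser maps the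
base points to the points of the list -/
theorem asift_sound (hA : ∀ x ∈ letters, Acts φ (el x) (A x)) (Ls : List ALvl) :
    ∀ (bs : List ℕ), ChainOK φ A letters bs Ls → ∀ target : List ℕ, asift A Ls target = 0 →
      ¬ ∃ g ∈ stabL φ bs, (Ls.map ALvl.b).map (pt φ g) = target := by
  induction Ls with
  | nil =>
    intro bs _ target h
    rw [asift_nil] at h
    exact absurd h (by simp)
  | cons L Ls ih =>
    intro bs hc target h
    cases target with
    | nil =>
      rw [asift_cons_nil] at h
      exact absurd h (by simp)
    | cons x rest =>
      rintro ⟨g, hg, hmaps⟩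
      obtain ⟨⟨hL, horb⟩, hc'⟩ := hc
      rw [List.map_cons, List.map_cons, List.cons.injEq] at hmaps
      obtain ⟨hgx, hgr⟩ := hmaps
      rw [asift_cons] at h
      have hmask : Nat.beq (L.sv x) 0 = false := by
        cases hb : Nat.beq (L.sv x) 0 with
        | false => rfl
        | true =>
          exfalso
          apply horb g hg
          rw [hgx]
          exact Nat.eq_of_beq_eq_true hb
      rw [hmask] at h
      simp only [cond_false] at h
      have hx : x < n := by
        rw [← hgx]
        exact pt_lt φ g L.b hL.hb
      cases hwk : awalk A L L.fuel x rest with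
      | none => rw [hwk] at h; exact absurd h (by simp)
      | some rest' =>
        rw [hwk] at h
        simp only at h
        have hrest : ∀ y ∈ rest, y < n := by
          intro y hy
          rw [← hgr] at hy
          obtain ⟨z, hz, rfl⟩ := List.mem_map.mp hy
          obtain ⟨M, hM, rfl⟩ := List.mem_map.mp hz
          exact pt_lt φ g M.b (chain_b_lt Ls _ hc' M hM)
        obtain ⟨v, hv, hvx, hvr⟩ := awalk_sound hA bs L hL _ x rest rest' hx hrest hwk
        apply ih _ hc' rest' h
        refine ⟨v * g, ?_, ?_⟩
        · rw [mem_stabL_iff_pt]
          intro c hc hcn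
          rcases List.mem_cons.mp hc with rfl | hc
          · rw [pt_mul φ v g _ hcn, hgx]
            exact hvx
          · have h1 := (mem_stabL_iff_pt φ bs g).mp hg c hc hcn
            have h2 := (mem_stabL_iff_pt φ bs v).mp hv c hc hcn
            rw [pt_mul φ v g c hcn, h1, h2]
        · rw [hvr, ← hgr]
          simp only [List.map_map]
          apply List.map_congr_left
          intro M hM
          simp only [Function.comp_apply]
          exact pt_mul φ v g M.b (chain_b_lt Ls _ hc' M hM)

end sound

end Cfsg.Agent.Lib.H25.ActSift
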