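import Cfsg.Agent.Lib.H25.ActChain

set_option autoImplicit false

/-! # Packed tables as natural numbers assembled from blocks, with a two-level lookup

A table is a natural number assembled from blocks of `1024` entries; an entry is looked up by
first cutting out its block. The kernel keeps the results of the shifts of the whole table, one for
every block, so a lookup costs a few operations on numbers of the size of a block. -/

namespace Cfsg.Agent.Lib.H25.ActSift

open Cfsg.Agent.Lib.H17.CosetCert Cfsg.Agent.Lib.H17.PermActs Cfsg.Agent.Lib.H6.PermTab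

/-- the number with the blocks `cs`, each `sh` bits wide, the first one lowest -/
def asm (sh : ℕ) (cs : List ℕ) : ℕ := cs.foldr (fun c acc => Nat.lor c (Nat.shiftLeft acc sh)) 0

/-- the modulus of a block of `1024` entries of `17` bits -/
def BW17 : ℕ := 2 ^ 17408

/-- the entry `i` of a table with entries of `17` bits -/
def lk17 (t i : ℕ) : ℕ :=
  force (Nat.mul (Nat.div i 1024) 17408) fun sh =>
    Nat.mod (Nat.shiftRight (Nat.mod (Nat.shiftRight t sh) BW17) (Nat.mul (Nat.mod i 1024) 17))
      131072

/-- the modulus of a block of `1024` entries of `4` bits -/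
def BW4 : ℕ := 2 ^ 4096

/-- the entry `i` of a table with entries of `4` bits -/
def lk4 (t i : ℕ) : ℕ :=
  force (Nat.mul (Nat.div i 1024) 4096) fun sh =>
    Nat.mod (Nat.shiftRight (Nat.mod (Nat.shiftRight t sh) BW4) (Nat.mul (Nat.mod i 1024) 4)) 16

/-- the action of a word in a list of functions, evaluating the intermediate points -/
noncomputable def evalF (As : List (ℕ → ℕ)) : List ℕ → ℕ → ℕ :=
  List.rec (motive := fun _ => ℕ → ℕ) (fun p => p)
    (fun i _ ih p => force (ih p) (As.getD i (fun q => q)))

theorem evalF_eq (As : List (ℕ → ℕ)) (w : List ℕ) (p : ℕ) : evalF As w p = evalA As w p := by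
  induction w generalizing p with
  | nil => rfl
  | cons i w ih =>
    change force (evalF As w p) (As.getD i (fun q => q)) = _
    rw [force_eq, ih, evalA_cons]

/-- apply the function `k` times, evaluating the intermediate points -/
noncomputable def iterF (A : ℕ → ℕ) (k p : ℕ) : ℕ :=
  Nat.rec (motive := fun _ => ℕ) p (fun _ ih => force ih A) k

theorem iterF_eq (A : ℕ → ℕ) (k p : ℕ) : iterF A k p = iterA A k p := by
  induction k with
  | zero => rfl
  | succ k ih =>
    change force (iterF A k p) A = _
    rw [force_eq, ih, iterA_succ]

section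

variable {G : Type*} [Group G] {n : ℕ} {φ : G →* Equiv.Perm (Fin n)} {el : ℕ → G}

theorem elS_append (u v : List ℕ) : elS el (u ++ v) = elS el v * elS el u := by
  induction u with
  | nil => simp [elS]
  | cons y u ih =>
    change elS el (u ++ v) * el y = elS el v * (elS el u * el y)
    rw [ih, mul_assoc]

theorem map_elS {H : Type*} [Group H] (f : G →* H) (w : List ℕ) :
    f (elS el w) = elS (fun x => f (el x)) w := by
  induction w with
  | nil => exact map_one f
  | cons y w ih =>
    change f (elS el w * el y) = elS (fun x => f (el x)) w * f (el y)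
    rw [map_mul, ih]

theorem acts_evalF {vals : List G} {As : List (ℕ → ℕ)}
    (h : List.Forall₂ (fun x A => Acts φ x A) vals As) (w : List ℕ) :
    Acts φ (evalW vals w) (evalF As w) :=
  (acts_evalW vals As h w).congr fun p => (evalF_eq As w p).symm

theorem acts_iterF {x : G} {A : ℕ → ℕ} (hx : Acts φ x A) (k : ℕ) : Acts φ (x ^ k) (iterF A k) :=
  (hx.pow k).congr fun p => (iterF_eq A k p).symm

/-- the action of a product, evaluating the intermediate point -/
theorem acts_mulF {x y : G} {A B : ℕ → ℕ} (hx : Acts φ x A) (hy : Acts φ y B) :
    Acts φ (x * y) (fun p => force (B p) A) :=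
  (hx.mul hy).congr fun p => (force_eq (B p) A).symm

/-- the action of a product of a list, evaluating the intermediate points -/
noncomputable def prodF (F : ℕ → ℕ → ℕ) : List ℕ → ℕ → ℕ :=
  List.rec (motive := fun _ => ℕ → ℕ) (fun p => p) (fun x _ ih p => force (ih p) (F x))

theorem acts_prodF (f : ℕ → G) (F : ℕ → ℕ → ℕ) (hf : ∀ x, Acts φ (f x) (F x)) (w : List ℕ) :
    Acts φ ((w.map f).prod) (prodF F w) := by
  induction w with
  | nil =>
    intro p
    rw [List.map_nil, List.prod_nil, map_one]
    rfl
  | cons x w ih =>
    rw [List.map_cons, List.prod_cons]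
    refine ((hf x).mul ih).congr fun p => ?_
    change F x (prodF F w p) = force (prodF F w p) (F x)
    rw [force_eq]

/-- a relation which fails for the candidate images -/
theorem relator_absurdF {vals : List G} {As : List (ℕ → ℕ)}
    (h : List.Forall₂ (fun x A => Acts φ x A) vals As) (u : List ℕ) (m p : ℕ) (hp : p < n)
    (hrel : evalW vals u ^ m = 1)
    (hne : Nat.beq (iterF (evalF As u) m p) p = false) : False := by
  have h1 : Acts φ (evalW vals u ^ m) (iterF (evalF As u) m) := acts_iterF (acts_evalF h u) m
  have h2 := h1 ⟨p, hp⟩
  rw [hrel, map_one] at h2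
  have h3 : iterF (evalF As u) m p = p := h2.symm
  rw [h3, Nat.beq_refl] at hne
  exact absurd hne (by simp)

end

end Cfsg.Agent.Lib.H25.ActSift
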