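/-
Copyright (c) helper25.

An automorphism `u` of order dividing `p` of an abelian group, with `(u - 1)^(n(p-1)+1) = 0`,
fixes all `p^n`-th powers.  (Binomial identity.)
-/
import Mathlib

set_option autoImplicit false

namespace Cfsg.Agent.Lib.H25

open Polynomial

/-- `(1+X)^p - 1 = p X + X^p + p X^2 R`. -/
theorem one_add_X_pow_prime (p : ℕ) [hp : Fact p.Prime] :
    ∃ R : ℤ[X], (1 + X : ℤ[X]) ^ p - 1 = C (p : ℤ) * X + X ^ p + C (p : ℤ) * (X ^ 2 * R) := by
  have hp2 : 2 ≤ p := hp.out.two_le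
  set H : ℤ[X] := (1 + X) ^ p - 1 - X ^ p - C (p : ℤ) * X with hH
  have hcoeff : ∀ i, H.coeff i = (p.choose i : ℤ) - (if i = 0 then 1 else 0) -
      (if i = p then 1 else 0) - (if i = 1 then (p : ℤ) else 0) := by
    intro i
    rw [hH]
    simp only [coeff_sub, coeff_one_add_X_pow, coeff_one, coeff_X_pow, coeff_C_mul, coeff_X]
    congr 1
    by_cases h1 : i = 1
    · subst h1; simp
    · have : ¬ (1 = i) := fun h => h1 h.symm
      simp [h1, this]
  have hdvd : C (p : ℤ) ∣ H := by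
    rw [C_dvd_iff_dvd_coeff]
    intro i
    rw [hcoeff]
    rcases Nat.lt_trichotomy i p with hlt | heq | hgt
    · rcases Nat.eq_zero_or_pos i with h0 | hpos
      · subst h0
        have : ¬ (0 = p) := by omega
        simp [this]
      · have hip : i ≠ p := by omega
        have hi0 : i ≠ 0 := by omega
        have hd : (p : ℤ) ∣ (p.choose i : ℤ) := by
          exact_mod_cast hp.out.dvd_choose_self hi0 hlt
        by_cases h1 : i = 1
        · subst h1
          simp [hip]
        · simp [hip, hi0, h1, hd]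
    · subst heq
      have h0 : i ≠ 0 := by omega
      have h1 : i ≠ 1 := by omega
      simp [h0, h1]
    · have h0 : i ≠ 0 := by omega
      have h1 : i ≠ 1 := by omega
      have hip : i ≠ p := by omega
      simp [h0, h1, hip, Nat.choose_eq_zero_of_lt hgt]
  obtain ⟨G, hG⟩ := hdvd
  have hp0 : (p : ℤ) ≠ 0 := by exact_mod_cast hp.out.ne_zero
  have hG0 : ∀ d < 2, G.coeff d = 0 := by
    intro d hd
    have h1 : H.coeff d = (p : ℤ) * G.coeff d := by rw [hG, coeff_C_mul]
    have h2 : H.coeff d = 0 := by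
      rw [hcoeff]
      interval_cases d
      · have : ¬ (0 = p) := by omega
        simp [this]
      · have : ¬ (1 = p) := by omega
        simp [this]
    rw [h2] at h1
    rcases mul_eq_zero.1 h1.symm with h | h
    · exact absurd h hp0
    · exact h
  obtain ⟨R, hR⟩ := (X_pow_dvd_iff).2 hG0
  refine ⟨R, ?_⟩
  have : (1 + X : ℤ[X]) ^ p - 1 = H + X ^ p + C (p : ℤ) * X := by rw [hH]; ring
  rw [this, hG, hR]
  ring

/-- The key polynomial identity. -/
theorem poly_key (p : ℕ) [hp : Fact p.Prime] (n : ℕ) :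
    ∃ f g : ℤ[X], C ((p : ℤ) ^ n) * X = f * X ^ (n * (p - 1) + 1) + g * ((1 + X) ^ p - 1) := by
  obtain ⟨R, hR⟩ := one_add_X_pow_prime p
  have hp1 : 1 ≤ p := hp.out.one_le
  set m := n * (p - 1) + 1 with hm
  set h : ℤ[X] := (1 + X) ^ p - 1 with hh
  -- Lemma A: downward induction
  have hA : ∀ d : ℕ, ∀ j : ℕ, 1 ≤ j → m ≤ j + d →
      ∃ f g b : ℤ[X], C (p : ℤ) * X ^ j = f * X ^ m + g * h + X ^ (j + (p - 1)) * b := by
    intro d
    induction d with
    | zero =>
      intro j _ hj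
      refine ⟨C (p : ℤ) * X ^ (j - m), 0, 0, ?_⟩
      have : j = (j - m) + m := by omega
      conv_lhs => rw [this, pow_add]
      ring
    | succ d ih =>
      intro j hj1 hj
      obtain ⟨f, g, b, hfgb⟩ := ih (j + 1) (by omega) (by omega)
      -- p X^j = X^(j-1) * (p X) = X^(j-1) * (h - X^p - p X^2 R)
      refine ⟨-(f * R), X ^ (j - 1) - g * R, -(1 + X * b * R), ?_⟩
      have hj' : j = (j - 1) + 1 := by omega
      have e1 : C (p : ℤ) * X ^ j = X ^ (j - 1) * (C (p : ℤ) * X) := by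
        conv_lhs => rw [hj', pow_succ]
        ring
      have e2 : C (p : ℤ) * X = h - X ^ p - C (p : ℤ) * (X ^ 2 * R) := by
        rw [hR]; ring
      have e3 : X ^ (j - 1) * (C (p : ℤ) * (X ^ 2 * R)) = (C (p : ℤ) * X ^ (j + 1)) * R := by
        have : j + 1 = (j - 1) + 2 := by omega
        rw [this, pow_add]
        ring
      have e4 : X ^ (j - 1) * X ^ p = (X : ℤ[X]) ^ (j + (p - 1)) := by
        rw [← pow_add]
        congr 1
        omega
      have e5 : (X : ℤ[X]) ^ (j + 1 + (p - 1)) = X ^ (j + (p - 1)) * X := by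
        rw [← pow_succ]
        congr 1
        omega
      rw [e1, e2, mul_sub, mul_sub, e3, e4, hfgb, e5]
      ring
  -- Lemma B
  have hB : ∀ k : ℕ, ∀ j : ℕ, 1 ≤ j →
      ∃ f g b : ℤ[X], C ((p : ℤ) ^ k) * X ^ j = f * X ^ m + g * h + X ^ (k * (p - 1) + j) * b := by
    intro k
    induction k with
    | zero =>
      intro j _
      refine ⟨0, 0, 1, ?_⟩
      simp
    | succ k ih =>
      intro j hj
      obtain ⟨f, g, b, hfgb⟩ := ih j hj
      obtain ⟨f', g', b', hA'⟩ := hA m (k * (p - 1) + j) (by omega) (by omega)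
      refine ⟨C (p : ℤ) * f + b * f', C (p : ℤ) * g + b * g', b * b', ?_⟩
      have e1 : C ((p : ℤ) ^ (k + 1)) * X ^ j = C (p : ℤ) * (C ((p : ℤ) ^ k) * X ^ j) := by
        rw [pow_succ, C_mul]; ring
      have e2 : (X : ℤ[X]) ^ ((k + 1) * (p - 1) + j) = X ^ (k * (p - 1) + j + (p - 1)) := by
        congr 1
        ring
      rw [e1, hfgb, e2]
      have : C (p : ℤ) * (f * X ^ m + g * h + X ^ (k * (p - 1) + j) * b) =
          C (p : ℤ) * f * X ^ m + C (p : ℤ) * g * h + b * (C (p : ℤ) * X ^ (k * (p - 1) + j)) := by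
        ring
      rw [this, hA']
      ring
  obtain ⟨f, g, b, hfgb⟩ := hB n 1 le_rfl
  refine ⟨f + b, g, ?_⟩
  have : C ((p : ℤ) ^ n) * X = C ((p : ℤ) ^ n) * X ^ 1 := by rw [pow_one]
  rw [this, hfgb, ← hm]
  ring

/-- In any ring: `δ^(n(p-1)+1) = 0` and `(1+δ)^p = 1` imply `p^n δ = 0`. -/
theorem ring_key {E : Type*} [Ring E] (p : ℕ) [hp : Fact p.Prime] (n : ℕ) (δ : E)
    (h1 : δ ^ (n * (p - 1) + 1) = 0) (h2 : (1 + δ) ^ p = 1) : ((p : E) ^ n) * δ = 0 := by
  obtain ⟨f, g, hfg⟩ := poly_key p n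
  have := congrArg (aeval δ) hfg
  simp only [map_mul, map_add, map_sub, map_pow, aeval_X, aeval_C, map_one, h1, h2, sub_self,
    mul_zero, add_zero] at this
  rw [← this]
  simp

/-- Group-level version: `u` normalizes the abelian subgroup `Y`, `u^p` centralizes `Y`, and the
`(n(p-1)+1)`-fold commutator with `u` is trivial on `Y`.  Then `u` centralizes all `p^n`-th powers
of elements of `Y`. -/
theorem conj_pow_fix {G : Type*} [Group G] (p : ℕ) [hp : Fact p.Prime] (n : ℕ) (u : G)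
    (Y : Subgroup G) (hcomm : ∀ a ∈ Y, ∀ b ∈ Y, a * b = b * a)
    (hnorm : ∀ y ∈ Y, u * y * u⁻¹ ∈ Y)
    (hup : ∀ y ∈ Y, u ^ p * y = y * u ^ p)
    (hnil : ∀ y ∈ Y, (fun y => u * y * u⁻¹ * y⁻¹)^[n * (p - 1) + 1] y = 1) :
    ∀ y ∈ Y, u * y ^ (p ^ n) * u⁻¹ = y ^ (p ^ n) := by
  letI : CommGroup Y :=
    { (inferInstance : Group Y) with mul_comm := fun a b => Subtype.ext (hcomm a a.2 b b.2) }
  let c : Y →* Y :=
    { toFun := fun y => ⟨u * y * u⁻¹, hnorm y y.2⟩
      map_one' := by ext; simp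
      map_mul' := by intro a b; ext; simp [mul_assoc] }
  have hc : ∀ y : Y, ((c y : Y) : G) = u * y * u⁻¹ := fun y => rfl
  let U : AddMonoid.End (Additive Y) := MonoidHom.toAdditive c
  have hU : ∀ z : Additive Y, U z = Additive.ofMul (c z.toMul) := fun z => rfl
  set δ : AddMonoid.End (Additive Y) := U - 1 with hδ
  have hδa : ∀ z : Additive Y, δ z = U z - z := fun z => rfl
  -- iterates of `U`
  have hUk : ∀ k : ℕ, ∀ z : Additive Y, (((U ^ k) z).toMul : G) = u ^ k * (z.toMul : G) * (u ^ k)⁻¹ := by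
    intro k
    induction k with
    | zero => intro z; simp
    | succ k ih =>
      intro z
      rw [pow_succ', AddMonoid.End.coe_mul, Function.comp_apply, hU]
      show ((c ((U ^ k) z).toMul : Y) : G) = _
      rw [hc, ih, pow_succ']
      group
  have h2 : (1 + δ) ^ p = 1 := by
    have : 1 + δ = U := by rw [hδ]; abel
    rw [this]
    ext z
    have := hUk p z
    rw [this]
    have h3 := hup z.toMul z.toMul.2
    show u ^ p * (z.toMul : G) * (u ^ p)⁻¹ = (z.toMul : G)
    rw [h3]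
    group
  -- iterates of `δ`
  have hδk : ∀ k : ℕ, ∀ z : Additive Y,
      (((δ ^ k) z).toMul : G) = (fun y => u * y * u⁻¹ * y⁻¹)^[k] (z.toMul : G) := by
    intro k
    induction k with
    | zero => intro z; simp
    | succ k ih =>
      intro z
      rw [pow_succ', AddMonoid.End.coe_mul, Function.comp_apply, hδa, Function.iterate_succ_apply', ← ih]
      rw [toMul_sub, hU, toMul_ofMul, Subgroup.coe_div, hc, div_eq_mul_inv]
  have h1 : δ ^ (n * (p - 1) + 1) = 0 := by
    ext z
    rw [hδk]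
    exact hnil _ z.toMul.2
  have key := ring_key p n δ h1 h2
  intro y hy
  have h3 := congrArg (fun e : AddMonoid.End (Additive Y) => e (Additive.ofMul ⟨y, hy⟩)) key
  simp only [AddMonoid.End.coe_mul, Function.comp_apply] at h3
  rw [← Nat.cast_pow, AddMonoid.End.natCast_apply, hδa, smul_sub] at h3
  have h3' : (p ^ n) • U (Additive.ofMul ⟨y, hy⟩) = (p ^ n) • Additive.ofMul (⟨y, hy⟩ : Y) :=
    sub_eq_zero.1 h3
  have h4 := congrArg (fun z : Additive Y => ((z.toMul : Y) : G)) h3'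
  simp only [toMul_nsmul, hU, toMul_ofMul, Subgroup.coe_pow, hc] at h4
  rw [← conj_pow]
  exact h4

end Cfsg.Agent.Lib.H25
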