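/-
Copyright (c) helper25.

`p`-groups of class at most `n(p-1)+1`: if `C_N(x^(p^n)) ≤ C_N(x)` then `x` is central in `N`.
-/
import Cfsg.Agent.Lib.H25.PowerAut
import Cfsg.Agent.Lib.H25.Alperin

set_option autoImplicit false

namespace Cfsg.Agent.Lib.H25

open Cfsg Cfsg.FusionSystem
open scoped commutatorElement

variable {Ω : Type*} [Group Ω] {S : Subgroup Ω}

/-- Iterated commutators with an element of `S` descend the lower central series. -/
theorem iterate_comm_mem_lcs {u : Ω} (hu : u ∈ S) :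
    ∀ k : ℕ, ∀ y ∈ S, (fun y => u * y * u⁻¹ * y⁻¹)^[k] y ∈ S.lowerCentralSeries k := by
  intro k
  induction k with
  | zero => intro y hy; simpa using hy
  | succ k ih =>
    intro y hy
    rw [Function.iterate_succ_apply', Subgroup.lowerCentralSeries_succ]
    have h1 := ih y hy
    set z := (fun y => u * y * u⁻¹ * y⁻¹)^[k] y with hz
    have h2 : ⁅z, u⁆ ∈ ⁅S.lowerCentralSeries k, S⁆ := Subgroup.commutator_mem_commutator h1 hu
    have h3 : u * z * u⁻¹ * z⁻¹ = ⁅z, u⁆⁻¹ := by
      rw [commutatorElement_inv, commutatorElement_def]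
    show u * z * u⁻¹ * z⁻¹ ∈ _
    rw [h3]
    exact Subgroup.inv_mem _ h2

/-- In a `p`-group `S` of class at most `n(p-1)+1`: if every element of `N ≤ S` centralizing
`x^(p^n)` centralizes `x ∈ N`, then `x` is central in `N`. -/
theorem centralizer_growth [Finite S] {p : ℕ} [hp : Fact p.Prime] (hS : IsPGroup p S) (n : ℕ)
    (hcl : S.lowerCentralSeries (n * (p - 1) + 1) = ⊥) {N : Subgroup Ω} (hNS : N ≤ S)
    {x : Ω} (hx : x ∈ N)
    (h : ∀ g ∈ N, g * x ^ (p ^ n) = x ^ (p ^ n) * g → g * x = x * g) :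
    ∀ g ∈ N, g * x = x * g := by
  have hfinN : Finite N := Finite.of_injective (Subgroup.inclusion hNS)
    (Subgroup.inclusion_injective hNS)
  have hNp : IsPGroup p N := hS.to_le hNS
  set D : Subgroup Ω := N ⊓ Subgroup.centralizer ({x} : Set Ω) with hD
  have hmemD : ∀ g, g ∈ D ↔ g ∈ N ∧ g * x = x * g := by
    intro g
    rw [hD, Subgroup.mem_inf, Subgroup.mem_centralizer_iff]
    constructor
    · rintro ⟨h1, h2⟩
      exact ⟨h1, (h2 x rfl).symm⟩
    · rintro ⟨h1, h2⟩
      refine ⟨h1, fun y hy => ?_⟩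
      rw [Set.mem_singleton_iff.1 hy]
      exact h2.symm
  by_contra hcon
  have hne : D ≠ N := by
    intro hDN
    apply hcon
    intro g hg
    rw [← hDN] at hg
    exact ((hmemD g).1 hg).2
  have hDN : D ≤ N := inf_le_left
  obtain ⟨u', hu'N, hu'D⟩ := exists_mem_normalizerIn_not_mem (S := N) hNp hDN hne
  -- find a power `u` of `u'` with `u ∉ D`, `u^p ∈ D`
  have hk : ∃ k : ℕ, u' ^ (p ^ k) ∈ D := by
    obtain ⟨k, hk⟩ := hNp ⟨u', hu'N.1⟩
    refine ⟨k, ?_⟩
    have : u' ^ (p ^ k) = 1 := by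
      have := congrArg Subtype.val hk
      simpa using this
    rw [this]
    exact D.one_mem
  classical
  set j := Nat.find hk with hj
  have hj0 : j ≠ 0 := by
    intro h0
    have := Nat.find_spec hk
    rw [← hj, h0] at this
    simp at this
    exact hu'D this
  set u := u' ^ (p ^ (j - 1)) with hu
  have huN : u ∈ normalizerIn N D := Subgroup.pow_mem _ hu'N _
  have huD : u ∉ D := by
    have := Nat.find_min hk (m := j - 1) (by omega)
    exact this
  have hupD : u ^ p ∈ D := by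
    have := Nat.find_spec hk
    rw [← hj] at this
    have e : u ^ p = u' ^ (p ^ j) := by
      rw [hu, ← pow_mul, ← pow_succ]
      congr 2
      omega
    rw [e]
    exact this
  have huS : u ∈ S := hNS huN.1
  have hunorm : ∀ d, d ∈ D ↔ u * d * u⁻¹ ∈ D := fun d =>
    Subgroup.mem_normalizer_iff.1 huN.2 d
  -- the abelian subgroup `Y = Z(D)`
  set Y : Subgroup Ω := D ⊓ Subgroup.centralizer (D : Set Ω) with hY
  have hxD : x ∈ D := (hmemD x).2 ⟨hx, rfl⟩
  have hxY : x ∈ Y := by
    refine Subgroup.mem_inf.2 ⟨hxD, ?_⟩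
    rw [Subgroup.mem_centralizer_iff]
    intro d hd
    exact ((hmemD d).1 hd).2
  have key := conj_pow_fix p n u Y
    (fun a ha b hb => by
      have := (Subgroup.mem_centralizer_iff.1 (Subgroup.mem_inf.1 hb).2) a (Subgroup.mem_inf.1 ha).1
      exact this)
    (fun y hy => by
      have hy1 := (Subgroup.mem_inf.1 hy).1
      have hy2 := (Subgroup.mem_inf.1 hy).2
      refine Subgroup.mem_inf.2 ⟨(hunorm y).1 hy1, ?_⟩
      rw [Subgroup.mem_centralizer_iff]
      intro d hd
      -- d = u d' u⁻¹ with d' ∈ D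
      have hd' : u⁻¹ * d * u ∈ D := by
        rw [hunorm]
        have : u * (u⁻¹ * d * u) * u⁻¹ = d := by group
        rw [this]
        exact hd
      have hc := (Subgroup.mem_centralizer_iff.1 hy2) _ hd'
      calc d * (u * y * u⁻¹) = u * ((u⁻¹ * d * u) * y) * u⁻¹ := by group
        _ = u * (y * (u⁻¹ * d * u)) * u⁻¹ := by rw [hc]
        _ = u * y * u⁻¹ * d := by group)
    (fun y hy => ((Subgroup.mem_centralizer_iff.1 (Subgroup.mem_inf.1 hy).2) _ hupD))
    (fun y hy => by
      have h1 := iterate_comm_mem_lcs huS (n * (p - 1) + 1) y (hNS (hDN (Subgroup.mem_inf.1 hy).1))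
      rw [hcl] at h1
      exact Subgroup.mem_bot.1 h1)
    x hxY
  apply huD
  rw [hmemD]
  refine ⟨huN.1, h u huN.1 ?_⟩
  calc u * x ^ p ^ n = (u * x ^ p ^ n * u⁻¹) * u := by group
    _ = x ^ p ^ n * u := by rw [key]

end Cfsg.Agent.Lib.H25
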