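import Mathlib

set_option autoImplicit false

/-!
# Alternating groups: the wreath model `(Y × ZMod p) ⊕ R` (helper25)

Permutations of `X = (Y × ZMod p) ⊕ R`: base elements `bs f` (translation by `f y` in the block
`y`), top elements `tp σ` (permuting the blocks), torus elements `tr u` (scaling the blocks).
-/

namespace Cfsg.Agent.Lib.H25.Alt

open Equiv

/-- The set permuted. -/
abbrev X (p : ℕ) (Y R : Type*) := (Y × ZMod p) ⊕ R

variable {p : ℕ} {Y R : Type*}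

/-- translation by `f y` on the block `y` -/
def bs (f : Y → ZMod p) : Perm (X p Y R) :=
  Equiv.sumCongr (Equiv.prodCongrRight fun y => Equiv.addRight (f y)) (Equiv.refl R)

/-- permuting the blocks -/
def tp (σ : Perm Y) : Perm (X p Y R) :=
  Equiv.sumCongr (Equiv.prodCongrLeft fun _ : ZMod p => σ) (Equiv.refl R)

/-- scaling the blocks -/
def tr (u : Y → (ZMod p)ˣ) : Perm (X p Y R) :=
  Equiv.sumCongr (Equiv.prodCongrRight fun y => Units.mulLeft (u y)) (Equiv.refl R)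

@[simp] theorem bs_inl (f : Y → ZMod p) (y : Y) (x : ZMod p) :
    bs (R := R) f (Sum.inl (y, x)) = Sum.inl (y, x + f y) := rfl

@[simp] theorem bs_inr (f : Y → ZMod p) (r : R) : bs f (Sum.inr r : X p Y R) = Sum.inr r := rfl

@[simp] theorem tp_inl (σ : Perm Y) (y : Y) (x : ZMod p) :
    tp (R := R) σ (Sum.inl (y, x)) = Sum.inl (σ y, x) := rfl

@[simp] theorem tp_inr (σ : Perm Y) (r : R) : tp σ (Sum.inr r : X p Y R) = Sum.inr r := rfl

@[simp] theorem tr_inl (u : Y → (ZMod p)ˣ) (y : Y) (x : ZMod p) :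
    tr (R := R) u (Sum.inl (y, x)) = Sum.inl (y, (u y : ZMod p) * x) := rfl

@[simp] theorem tr_inr (u : Y → (ZMod p)ˣ) (r : R) : tr u (Sum.inr r : X p Y R) = Sum.inr r := rfl

theorem bs_add (f g : Y → ZMod p) : bs (R := R) (f + g) = bs f * bs g := by
  ext z
  rcases z with ⟨y, x⟩ | r
  · simp only [Perm.mul_apply, bs_inl, Pi.add_apply]
    rw [add_comm (f y), add_assoc]
  · simp

@[simp] theorem bs_zero : bs (R := R) (0 : Y → ZMod p) = 1 := by
  ext z
  rcases z with ⟨y, x⟩ | r <;> simp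

theorem bs_neg (f : Y → ZMod p) : bs (R := R) (-f) = (bs f)⁻¹ := by
  rw [eq_inv_iff_mul_eq_one, ← bs_add, neg_add_cancel, bs_zero]

theorem bs_sub (f g : Y → ZMod p) : bs (R := R) (f - g) = bs f * (bs g)⁻¹ := by
  rw [sub_eq_add_neg, bs_add, bs_neg]

theorem bs_injective : Function.Injective (bs (R := R) : (Y → ZMod p) → Perm (X p Y R)) := by
  intro f g h
  funext y
  have := congrArg (fun e => e (Sum.inl (y, 0))) h
  simpa using this

theorem bs_eq_one_iff {f : Y → ZMod p} : bs (R := R) f = 1 ↔ f = 0 := by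
  rw [← bs_zero (R := R) (p := p) (Y := Y)]
  exact bs_injective.eq_iff

theorem bs_nsmul (f : Y → ZMod p) (k : ℕ) : bs (R := R) (k • f) = bs f ^ k := by
  induction k with
  | zero => simp
  | succ k ih => rw [succ_nsmul, bs_add, ih, pow_succ]

theorem bs_comm (f g : Y → ZMod p) : bs (R := R) f * bs g = bs g * bs f := by
  rw [← bs_add, ← bs_add, add_comm]

/-- `tp` as a homomorphism -/
def tpHom : Perm Y →* Perm (X p Y R) where
  toFun := tp
  map_one' := by
    ext z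
    rcases z with ⟨y, x⟩ | r <;> simp
  map_mul' a b := by
    ext z
    rcases z with ⟨y, x⟩ | r <;> simp

@[simp] theorem tpHom_apply (σ : Perm Y) : tpHom (p := p) (R := R) σ = tp σ := rfl

theorem tp_mul (a b : Perm Y) : tp (p := p) (R := R) (a * b) = tp a * tp b :=
  (tpHom (p := p) (R := R)).map_mul a b

@[simp] theorem tp_one : tp (p := p) (R := R) (1 : Perm Y) = 1 := (tpHom (p := p) (R := R)).map_one

theorem tp_inv (a : Perm Y) : tp (p := p) (R := R) a⁻¹ = (tp a)⁻¹ :=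
  (tpHom (p := p) (R := R)).map_inv a

theorem tp_injective [NeZero p] :
    Function.Injective (tp (p := p) (R := R) : Perm Y → Perm (X p Y R)) := by
  intro a b h
  ext y
  have := congrArg (fun e => e (Sum.inl (y, 0))) h
  simpa using this

/-- `tr` as a homomorphism -/
def trHom : (Y → (ZMod p)ˣ) →* Perm (X p Y R) where
  toFun := tr
  map_one' := by
    ext z
    rcases z with ⟨y, x⟩ | r <;> simp
  map_mul' a b := by
    ext z
    rcases z with ⟨y, x⟩ | r
    · simp [mul_assoc]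
    · simp

@[simp] theorem trHom_apply (u : Y → (ZMod p)ˣ) : trHom (R := R) u = tr u := rfl

theorem tr_mul (a b : Y → (ZMod p)ˣ) : tr (R := R) (a * b) = tr a * tr b :=
  (trHom (R := R)).map_mul a b

@[simp] theorem tr_one : tr (R := R) (1 : Y → (ZMod p)ˣ) = 1 := (trHom (R := R)).map_one

theorem tr_inv (a : Y → (ZMod p)ˣ) : tr (R := R) a⁻¹ = (tr a)⁻¹ := (trHom (R := R)).map_inv a

/-! ### Conjugation relations -/

theorem tp_bs (σ : Perm Y) (f : Y → ZMod p) :
    tp (R := R) σ * bs f = bs (f ∘ σ.symm) * tp σ := by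
  ext z
  rcases z with ⟨y, x⟩ | r <;> simp

theorem tp_conj_bs (σ : Perm Y) (f : Y → ZMod p) :
    tp (R := R) σ * bs f * (tp σ)⁻¹ = bs (f ∘ σ.symm) := by
  rw [tp_bs, mul_inv_cancel_right]

theorem tr_bs (u : Y → (ZMod p)ˣ) (f : Y → ZMod p) :
    tr (R := R) u * bs f = bs (fun y => (u y : ZMod p) * f y) * tr u := by
  ext z
  rcases z with ⟨y, x⟩ | r
  · simp [mul_add]
  · simp

theorem tr_conj_bs (u : Y → (ZMod p)ˣ) (f : Y → ZMod p) :
    tr (R := R) u * bs f * (tr u)⁻¹ = bs (fun y => (u y : ZMod p) * f y) := by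
  rw [tr_bs, mul_inv_cancel_right]

theorem tp_tr (σ : Perm Y) (u : Y → (ZMod p)ˣ) :
    tp (R := R) σ * tr u = tr (u ∘ σ.symm) * tp σ := by
  ext z
  rcases z with ⟨y, x⟩ | r <;> simp

theorem tp_conj_tr (σ : Perm Y) (u : Y → (ZMod p)ˣ) :
    tp (R := R) σ * tr u * (tp σ)⁻¹ = tr (u ∘ σ.symm) := by
  rw [tp_tr, mul_inv_cancel_right]

/-! ### The base group and the wreath product -/

/-- the base group -/
def A (p : ℕ) (Y R : Type*) : Subgroup (Perm (X p Y R)) where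
  carrier := {g | ∃ f : Y → ZMod p, g = bs f}
  mul_mem' := by
    rintro _ _ ⟨f, rfl⟩ ⟨g, rfl⟩
    exact ⟨f + g, (bs_add f g).symm⟩
  one_mem' := ⟨0, bs_zero.symm⟩
  inv_mem' := by
    rintro _ ⟨f, rfl⟩
    exact ⟨-f, (bs_neg f).symm⟩

theorem mem_A {g : Perm (X p Y R)} : g ∈ A p Y R ↔ ∃ f : Y → ZMod p, g = bs f := Iff.rfl

theorem bs_mem_A (f : Y → ZMod p) : bs (R := R) f ∈ A p Y R := ⟨f, rfl⟩

/-- the wreath product `C_p ≀ S'` -/
def wr (p : ℕ) (R : Type*) (S' : Subgroup (Perm Y)) : Subgroup (Perm (X p Y R)) where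
  carrier := {g | ∃ f : Y → ZMod p, ∃ σ ∈ S', g = bs f * tp σ}
  mul_mem' := by
    rintro _ _ ⟨f, σ, hσ, rfl⟩ ⟨g, τ, hτ, rfl⟩
    refine ⟨f + g ∘ σ.symm, σ * τ, S'.mul_mem hσ hτ, ?_⟩
    rw [bs_add, tp_mul, mul_assoc, ← mul_assoc (tp σ), tp_bs]
    simp only [mul_assoc]
  one_mem' := ⟨0, 1, S'.one_mem, by simp⟩
  inv_mem' := by
    rintro _ ⟨f, σ, hσ, rfl⟩
    refine ⟨-(f ∘ σ), σ⁻¹, S'.inv_mem hσ, ?_⟩
    rw [mul_inv_rev, ← tp_inv, ← bs_neg, tp_bs]
    rfl

theorem mem_wr {S' : Subgroup (Perm Y)} {g : Perm (X p Y R)} :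
    g ∈ wr p R S' ↔ ∃ f : Y → ZMod p, ∃ σ ∈ S', g = bs f * tp σ := Iff.rfl

theorem A_le_wr (S' : Subgroup (Perm Y)) : A p Y R ≤ wr p R S' := by
  rintro _ ⟨f, rfl⟩
  exact ⟨f, 1, S'.one_mem, by simp⟩

theorem tp_mem_wr {S' : Subgroup (Perm Y)} {σ : Perm Y} (hσ : σ ∈ S') :
    tp (p := p) (R := R) σ ∈ wr p R S' := ⟨0, σ, hσ, by simp⟩

theorem bs_tp_apply_inl (f : Y → ZMod p) (σ : Perm Y) (y : Y) (x : ZMod p) :
    (bs f * tp σ : Perm (X p Y R)) (Sum.inl (y, x)) = Sum.inl (σ y, x + f (σ y)) := by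
  simp

theorem bs_tp_apply_inr (f : Y → ZMod p) (σ : Perm Y) (r : R) :
    (bs f * tp σ : Perm (X p Y R)) (Sum.inr r) = Sum.inr r := by
  simp

theorem bs_tp_injective [NeZero p] {f g : Y → ZMod p} {σ τ : Perm Y}
    (h : bs (R := R) f * tp σ = bs g * tp τ) : f = g ∧ σ = τ := by
  have hστ : σ = τ := by
    ext y
    have := congrArg (fun e => e (Sum.inl (y, 0))) h
    simp only [bs_tp_apply_inl, Sum.inl.injEq, Prod.mk.injEq] at this
    exact this.1
  subst hστ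
  refine ⟨?_, rfl⟩
  rw [mul_left_inj] at h
  exact bs_injective h

end Cfsg.Agent.Lib.H25.Alt
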