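import Mathlib
import Cfsg.Agent.Lib.H25.AltA

set_option autoImplicit false

/-!
# Alternating groups: cardinalities and signs in the wreath model (helper25)
-/

namespace Cfsg.Agent.Lib.H25.Alt

open Equiv

variable {p : ℕ} {Y R : Type*}

section Card

variable [Fintype Y] [DecidableEq Y] [NeZero p]

/-- the parametrization of the wreath product -/
noncomputable def wrEquiv (R : Type*) (S' : Subgroup (Perm Y)) :
    ((Y → ZMod p) × S') ≃ wr p R S' :=
  Equiv.ofBijective (fun a => ⟨bs a.1 * tp (a.2 : Perm Y), ⟨a.1, a.2, a.2.2, rfl⟩⟩) (by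
    constructor
    · rintro ⟨f, σ⟩ ⟨g, τ⟩ h
      have h' : bs (R := R) f * tp (σ : Perm Y) = bs g * tp (τ : Perm Y) := congrArg Subtype.val h
      obtain ⟨h1, h2⟩ := bs_tp_injective h'
      exact Prod.ext h1 (Subtype.ext h2)
    · rintro ⟨_, f, σ, hσ, rfl⟩
      exact ⟨(f, ⟨σ, hσ⟩), rfl⟩)

theorem card_wr (R : Type*) (S' : Subgroup (Perm Y)) :
    Nat.card (wr p R S') = p ^ Fintype.card Y * Nat.card S' := by
  rw [← Nat.card_congr (wrEquiv (p := p) R S'), Nat.card_prod, Nat.card_eq_fintype_card,
    Fintype.card_fun, ZMod.card]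

theorem card_A (R : Type*) : Nat.card (A p Y R) = p ^ Fintype.card Y := by
  have e : (Y → ZMod p) ≃ A p Y R :=
    Equiv.ofBijective (fun f => ⟨bs f, bs_mem_A f⟩) (by
      constructor
      · intro f g h
        exact bs_injective (congrArg Subtype.val h)
      · rintro ⟨_, f, rfl⟩
        exact ⟨f, rfl⟩)
  rw [← Nat.card_congr e, Nat.card_eq_fintype_card, Fintype.card_fun, ZMod.card]

end Card

section Sylow

variable [Fintype Y] [DecidableEq Y] [Fintype R] [DecidableEq R] [hp : Fact p.Prime]

theorem card_X : Fintype.card (X p Y R) = p * Fintype.card Y + Fintype.card R := by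
  haveI : NeZero p := ⟨hp.out.ne_zero⟩
  rw [Fintype.card_sum, Fintype.card_prod, ZMod.card, mul_comm]

theorem factorization_card_perm (hR : Fintype.card R < p) :
    (Nat.card (Perm (X p Y R))).factorization p =
      (Nat.card (Perm Y)).factorization p + Fintype.card Y := by
  haveI : NeZero p := ⟨hp.out.ne_zero⟩
  rw [Nat.card_eq_fintype_card, Nat.card_eq_fintype_card, Fintype.card_perm, Fintype.card_perm,
    card_X, Nat.factorization_def _ hp.out, Nat.factorization_def _ hp.out,
    padicValNat_factorial_mul_add _ hR, padicValNat_factorial_mul]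

/-- the wreath product of a Sylow subgroup is a Sylow subgroup -/
theorem card_wr_sylow (hR : Fintype.card R < p) (S' : Sylow p (Perm Y)) :
    Nat.card (wr p R (S' : Subgroup (Perm Y))) =
      p ^ (Nat.card (Perm (X p Y R))).factorization p := by
  haveI : NeZero p := ⟨hp.out.ne_zero⟩
  rw [card_wr, factorization_card_perm hR, S'.card_eq_multiplicity, ← pow_add, add_comm]

end Sylow

section Sign

variable [Fintype Y] [DecidableEq Y] [Fintype R] [DecidableEq R] [NeZero p]

theorem sign_bs (f : Y → ZMod p) :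
    Perm.sign (bs (R := R) f) = ∏ y, Perm.sign (Equiv.addRight (f y)) := by
  unfold bs
  rw [Perm.sign_sumCongr, Perm.sign_prodCongrRight, Perm.sign_refl, mul_one]

theorem sign_tp (σ : Perm Y) : Perm.sign (tp (p := p) (R := R) σ) = Perm.sign σ ^ p := by
  unfold tp
  rw [Perm.sign_sumCongr, Perm.sign_prodCongrLeft, Perm.sign_refl, mul_one, Finset.prod_const,
    Finset.card_univ, ZMod.card]

theorem sign_tr (u : Y → (ZMod p)ˣ) :
    Perm.sign (tr (R := R) u) = ∏ y, Perm.sign (Units.mulLeft (u y)) := by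
  unfold tr
  rw [Perm.sign_sumCongr, Perm.sign_prodCongrRight, Perm.sign_refl, mul_one]

/-- the character `t ↦ sign (x ↦ t x)` -/
def chi (p : ℕ) [NeZero p] : (ZMod p)ˣ →* ℤˣ where
  toFun t := Perm.sign (Units.mulLeft t)
  map_one' := by
    have : (Units.mulLeft (1 : (ZMod p)ˣ) : Perm (ZMod p)) = 1 := by
      ext x; simp
    rw [this, Perm.sign_one]
  map_mul' a b := by
    have : (Units.mulLeft (a * b) : Perm (ZMod p)) = Units.mulLeft a * Units.mulLeft b := by
      ext x; simp [mul_assoc]
    rw [this, Perm.sign_mul]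

theorem sign_tr' (u : Y → (ZMod p)ˣ) : Perm.sign (tr (R := R) u) = chi p (∏ y, u y) := by
  rw [sign_tr, map_prod]
  rfl

theorem sign_eq_one_of_pow {α : Type*} [Fintype α] [DecidableEq α] (g : Perm α) {k : ℕ}
    (hk : Odd k) (h : g ^ k = 1) : Perm.sign g = 1 := by
  have h1 : Perm.sign g ^ k = 1 := by rw [← map_pow, h, map_one]
  rcases Int.units_eq_one_or (Perm.sign g) with h2 | h2
  · exact h2
  · rw [h2, Odd.neg_one_pow hk] at h1
    exact absurd h1 (by decide)

theorem bs_pow_p (f : Y → ZMod p) : bs (R := R) f ^ p = 1 := by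
  rw [← bs_nsmul]
  have : p • f = 0 := by
    funext y
    simp
  rw [this, bs_zero]

theorem sign_bs_of_odd (hp : Odd p) (f : Y → ZMod p) : Perm.sign (bs (R := R) f) = 1 :=
  sign_eq_one_of_pow _ hp (bs_pow_p f)

end Sign

end Cfsg.Agent.Lib.H25.Alt
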