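import Mathlib
import Cfsg.Agent.Lib.H25.LieCrit

set_option autoImplicit false

/-!
# A second simplicity criterion for the `p`-fusion system of a finite group (helper25)

Variant of `LieCrit.isSimple_of_gen` where the auxiliary subgroups `P` need not be normal in `S`
(only `C_G(P) ≤ P`), together with a bridge from data given inside an ambient group `Σ` in which
`G` embeds.
-/

namespace Cfsg.Agent.Lib.H25.AltCrit

open Cfsg Cfsg.FusionSystem Cfsg.Agent.Lib.H25 Cfsg.Agent.Lib.H26 Cfsg.Agent.S5114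
  Cfsg.Agent.S5119 Cfsg.Agent.Lib.H25.LieCrit

variable {G : Type*} [Group G] [Finite G] {p : ℕ} [Fact p.Prime]

/-- The generators allowed for `N_G(S)`. -/
def GoodElt2 (p : ℕ) (S : Subgroup G) (h : G) : Prop :=
  h ∈ S ∨
    (h ∈ Subgroup.normalizer (S : Set G) ∧ ∃ P : Subgroup G, P ≤ S ∧
      Subgroup.centralizer (P : Set G) ≤ P ∧
      h ∈ Subgroup.closure {x : G | x ∈ Subgroup.normalizer (P : Set G) ∧
        ∃ k : ℕ, orderOf x = p ^ k})

omit [Finite G] [Fact p.Prime] in
theorem centric_of_centralizer_le (S : Subgroup G) {P : Subgroup G} (hPS : P ≤ S)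
    (hc : Subgroup.centralizer (P : Set G) ≤ P) :
    (groupFusionSystem S).IsCentric P := by
  refine ⟨hPS, ?_⟩
  rintro Q ⟨φ, ⟨-, -, g, hg⟩, rfl⟩
  intro z hz
  have hzc : z ∈ Subgroup.centralizer ((φ.range : Subgroup G) : Set G) := hz.2
  have h1 : g⁻¹ * z * g ∈ Subgroup.centralizer (P : Set G) := by
    rw [Subgroup.mem_centralizer_iff]
    intro x hx
    have h2 := Subgroup.mem_centralizer_iff.1 hzc (φ ⟨x, hx⟩) ⟨⟨x, hx⟩, rfl⟩
    rw [hg] at h2
    simp only at h2
    have e1 : x * (g⁻¹ * z * g) = g⁻¹ * (g * x * g⁻¹ * z) * g := by group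
    have e2 : g⁻¹ * z * g * x = g⁻¹ * (z * (g * x * g⁻¹)) * g := by group
    rw [e1, e2, h2]
  have h3 := hc h1
  refine ⟨⟨g⁻¹ * z * g, h3⟩, ?_⟩
  rw [hg]
  show g * (g⁻¹ * z * g) * g⁻¹ = z
  group

theorem isSimple_of_gen2 (S : Sylow p G) (hne : (S : Subgroup G) ≠ ⊥)
    (hsc : ∀ T : Subgroup G, Cfsg.IsStronglyClosed T (S : Subgroup G) →
      T = ⊥ ∨ T = (S : Subgroup G))
    (hgen : Subgroup.normalizer ((S : Subgroup G) : Set G) ≤
      Subgroup.closure {h : G | GoodElt2 p (S : Subgroup G) h}) :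
    (groupFusionSystem (S : Subgroup G)).IsSimple p := by
  have hS : IsPGroup p (S : Subgroup G) := S.isPGroup'
  have hF := groupFusionSystem_isSaturated S
  refine ⟨hF, hne, ?_⟩
  intro T E hE
  obtain ⟨⟨hEs, -, hinv⟩, -⟩ := hE
  rcases hsc T (SimpleCrit.isStronglyClosed_of_stronglyClosed hinv.2.1) with h | h
  · exact Or.inl h
  right
  subst h
  refine ⟨rfl, ?_⟩
  apply SimpleCrit.hom_eq_of_invariant_of_aut_le hinv
  have key : ∀ g ∈ Subgroup.closure {h : G | GoodElt2 p (S : Subgroup G) h},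
      g ∈ Subgroup.normalizer ((S : Subgroup G) : Set G) ∧
        IsIso E (S : Subgroup G) (S : Subgroup G) (fun x => g * x * g⁻¹) := by
    intro g hg
    induction hg using Subgroup.closure_induction with
    | mem h hh =>
      rcases hh with hh | ⟨hhN, P, hPS, hPc, hcl⟩
      · refine ⟨Subgroup.le_normalizer hh, ?_⟩
        have := IsIso.conj (F := E) (le_refl (S : Subgroup G)) hh
        have e : (S : Subgroup G).map (MulAut.conj h).toMonoidHom = (S : Subgroup G) := by
          ext y
          constructor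
          · rintro ⟨x, hx, rfl⟩
            exact Subgroup.mul_mem _ (Subgroup.mul_mem _ hh hx) (Subgroup.inv_mem _ hh)
          · intro hy
            refine ⟨h⁻¹ * y * h, Subgroup.mul_mem _ (Subgroup.mul_mem _ (Subgroup.inv_mem _ hh) hy) hh, ?_⟩
            simp [MulAut.conj_apply]
            group
        rwa [e] at this
      · refine ⟨hhN, ?_⟩
        have hPcen := centric_of_centralizer_le (S : Subgroup G) hPS hPc
        obtain ⟨-, hJ⟩ := jIso_of_mem_closure S hPcen hcl
        have hb : IsIso (groupFusionSystem (S : Subgroup G)) (S : Subgroup G) (S : Subgroup G)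
            (fun x => h * x * h⁻¹) := isIso_conj_self le_rfl hhN
        have hb' : IsIso (groupFusionSystem (S : Subgroup G)) (S : Subgroup G) (S : Subgroup G)
            (fun x => h⁻¹ * x * h⁻¹⁻¹) := isIso_conj_self le_rfl (Subgroup.inv_mem _ hhN)
        have hA : AutS (groupFusionSystem (S : Subgroup G)) (fun x => h * x * h⁻¹)
            (fun x => h⁻¹ * x * h⁻¹⁻¹) :=
          ⟨hb, hb', fun x _ => by group, fun x _ => by group⟩
        have hA0 : A0 (groupFusionSystem (S : Subgroup G)) p (fun x => h * x * h⁻¹)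
            (fun x => h⁻¹ * x * h⁻¹⁻¹) := A0.gen hA hPcen hJ
        exact (NormalRes.A0_le hS hF (invariant_self hS hF) hEs hinv hA0).1
    | one =>
      refine ⟨Subgroup.one_mem _, ?_⟩
      exact (IsIso.refl (F := E) (le_refl _)).congr (fun y _ => by simp)
    | mul a b _ _ iha ihb =>
      refine ⟨Subgroup.mul_mem _ iha.1 ihb.1, ?_⟩
      refine (ihb.2.trans iha.2).congr (fun y _ => ?_)
      show a * (b * y * b⁻¹) * a⁻¹ = a * b * y * (a * b)⁻¹
      group
    | inv a _ iha =>
      refine ⟨Subgroup.inv_mem _ iha.1, ?_⟩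
      obtain ⟨k, hk, hk1, -⟩ := iha.2.symm
      refine hk.congr (fun y hy => ?_)
      obtain ⟨x, hx, rfl⟩ := iha.2.surjOn hy
      rw [hk1 x hx]
      group
  intro α hα
  rw [groupFusionSystem_autGroup_eq le_rfl, mem_autInducedBy_iff] at hα
  obtain ⟨g, -, hg⟩ := hα
  have hgN : g ∈ Subgroup.normalizer ((S : Subgroup G) : Set G) := by
    apply mem_normalizer_of_conj_mem
    intro x hx
    rw [← hg ⟨x, hx⟩]
    exact (α ⟨x, hx⟩).2
  obtain ⟨-, hiso⟩ := key g (hgen hgN)
  apply FrG.mem_autGroup_of_isIso_aut1'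
  exact hiso.congr (fun x hx => by rw [aut1_apply_mem α hx, hg])

omit [Finite G] [Fact p.Prime] in
theorem goodElt2_cj (g : G) {S : Subgroup G} {h : G} (hh : GoodElt2 p S h) :
    GoodElt2 p (cj g S) (g * h * g⁻¹) := by
  rcases hh with hh | ⟨hhN, P, hPS, hPc, hcl⟩
  · exact Or.inl (conj_mem_cj hh)
  · right
    refine ⟨?_, cj g P, cj_mono g hPS, ?_, ?_⟩
    · rw [← cj_normalizer]; exact conj_mem_cj hhN
    · rw [← cj_centralizer]; exact cj_mono g hPc
    · have hle : Subgroup.closure {x : G | x ∈ Subgroup.normalizer (P : Set G) ∧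
          ∃ k : ℕ, orderOf x = p ^ k} ≤
          (Subgroup.closure {x : G | x ∈ Subgroup.normalizer ((cj g P : Subgroup G) : Set G) ∧
            ∃ k : ℕ, orderOf x = p ^ k}).comap (MulAut.conj g).toMonoidHom := by
        rw [Subgroup.closure_le]
        rintro x ⟨hxN, k, hk⟩
        apply Subgroup.subset_closure
        refine ⟨?_, k, ?_⟩
        · rw [← cj_normalizer]; exact conj_mem_cj hxN
        · have := (MulAut.conj g).orderOf_eq x
          rw [MulAut.conj_apply] at this
          rw [← hk]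
          exact this
      exact hle hcl

/-- The hypotheses of `isSimple_of_gen2` are invariant under conjugation. -/
theorem isSimple_of_gen_conj2 (S : Sylow p G) (S₀ : Subgroup G) (g : G)
    (hS : (S : Subgroup G) = cj g S₀) (hne : S₀ ≠ ⊥)
    (hsc : ∀ T : Subgroup G, Cfsg.IsStronglyClosed T S₀ → T = ⊥ ∨ T = S₀)
    (hgen : Subgroup.normalizer (S₀ : Set G) ≤ Subgroup.closure {h : G | GoodElt2 p S₀ h}) :
    (groupFusionSystem (S : Subgroup G)).IsSimple p := by
  apply isSimple_of_gen2 S
  · rw [hS]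
    intro h
    apply hne
    have := congrArg (cj g⁻¹) h
    rw [cj_inv_cj] at this
    rw [this]
    exact Subgroup.map_bot _
  · intro T hT
    rw [hS] at hT ⊢
    have hT' : Cfsg.IsStronglyClosed (cj g⁻¹ T) S₀ := by
      refine ⟨?_, ?_⟩
      · have := cj_mono g⁻¹ hT.1
        rwa [cj_inv_cj] at this
      · intro x hx k hk
        rw [mem_cj, inv_inv] at hx ⊢
        have h1 := hT.2 _ hx (g * k * g⁻¹)
        have e : g * k * g⁻¹ * (g * x * g⁻¹) * (g * k * g⁻¹)⁻¹ = g * (k * x * k⁻¹) * g⁻¹ := by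
          group
        rw [e] at h1
        exact h1 (conj_mem_cj hk)
    rcases hsc _ hT' with h | h
    · left
      have := congrArg (cj g) h
      rw [cj_cj_inv] at this
      rw [this]
      exact Subgroup.map_bot _
    · right
      have := congrArg (cj g) h
      rwa [cj_cj_inv] at this
  · rw [hS, ← cj_normalizer]
    rintro x hx
    rw [mem_cj] at hx
    have h1 := hgen hx
    have hle : Subgroup.closure {h : G | GoodElt2 p S₀ h} ≤
        (Subgroup.closure {h : G | GoodElt2 p (cj g S₀) h}).comap (MulAut.conj g).toMonoidHom := by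
      rw [Subgroup.closure_le]
      intro h hh
      exact Subgroup.subset_closure (goodElt2_cj g hh)
    have h2 := hle h1
    rw [Subgroup.mem_comap] at h2
    have e : (MulAut.conj g).toMonoidHom (g⁻¹ * x * g) = x := by
      show g * (g⁻¹ * x * g) * g⁻¹ = x
      group
    rwa [e] at h2

end Cfsg.Agent.Lib.H25.AltCrit
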