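import Mathlib
import Cfsg.Agent.Lib.H25.AltCrit

set_option autoImplicit false

/-!
# Bridge: the simplicity criterion with data given in an ambient group (helper25)
-/

namespace Cfsg.Agent.Lib.H25.AltCrit

open Cfsg Cfsg.FusionSystem Cfsg.Agent.Lib.H26

variable {G W : Type*} [Group G] [Group W] {p : ℕ}

/-- Good elements of `W` relative to the subgroup `𝔄`. -/
def GoodRel (p : ℕ) (𝔄 S₀ : Subgroup W) (h : W) : Prop :=
  h ∈ S₀ ∨
    (h ∈ 𝔄 ∧ h ∈ Subgroup.normalizer (S₀ : Set W) ∧ ∃ P : Subgroup W, P ≤ S₀ ∧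
      Subgroup.centralizer (P : Set W) ⊓ 𝔄 ≤ P ∧
      h ∈ Subgroup.closure {x : W | x ∈ 𝔄 ∧ x ∈ Subgroup.normalizer (P : Set W) ∧
        ∃ k : ℕ, orderOf x = p ^ k})

theorem comap_normalizer_mem (ι : G →* W) (hι : Function.Injective ι) {P : Subgroup W}
    (hP : P ≤ ι.range) (y : G) :
    y ∈ Subgroup.normalizer ((P.comap ι : Subgroup G) : Set G) ↔
      ι y ∈ Subgroup.normalizer (P : Set W) := by
  constructor
  · intro hy
    rw [Subgroup.mem_normalizer_iff] at hy ⊢
    intro z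
    constructor
    · intro hz
      obtain ⟨w, rfl⟩ := hP hz
      have := (hy w).1 hz
      rw [Subgroup.mem_comap] at this
      simpa using this
    · intro hz
      have hz' : z ∈ ι.range := by
        have h1 := hP hz
        obtain ⟨w, hw⟩ := h1
        refine ⟨y⁻¹ * w * y, ?_⟩
        rw [map_mul, map_mul, hw, map_inv]
        group
      obtain ⟨w, rfl⟩ := hz'
      have h2 : y * w * y⁻¹ ∈ P.comap ι := by
        rw [Subgroup.mem_comap]
        simpa using hz
      exact (hy w).2 h2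
  · intro hy
    rw [Subgroup.mem_normalizer_iff] at hy ⊢
    intro w
    rw [Subgroup.mem_comap, Subgroup.mem_comap, hy (ι w)]
    simp

theorem isSimple_of_rel [Finite G] [Fact p.Prime] (ι : G →* W) (hι : Function.Injective ι)
    (S : Sylow p G) (S₀ : Subgroup W) (hS₀ : S₀ ≤ ι.range) (hcard : Nat.card S₀ = Nat.card S)
    (hne : S₀ ≠ ⊥)
    (hsc : ∀ T : Subgroup W, T ≤ S₀ →
      (∀ x ∈ T, ∀ g ∈ ι.range, g * x * g⁻¹ ∈ S₀ → g * x * g⁻¹ ∈ T) → T = ⊥ ∨ T = S₀)
    (hgen : ∀ h ∈ ι.range, h ∈ Subgroup.normalizer (S₀ : Set W) →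
      h ∈ Subgroup.closure {h : W | GoodRel p ι.range S₀ h}) :
    (groupFusionSystem (S : Subgroup G)).IsSimple p := by
  set S₁ : Subgroup G := S₀.comap ι with hS₁
  have hmap : S₁.map ι = S₀ := Subgroup.map_comap_eq_self hS₀
  have hcard₁ : Nat.card S₁ = Nat.card S := by
    rw [← hcard, ← hmap, Subgroup.card_map_of_injective hι]
  -- `S₁` is a Sylow subgroup conjugate to `S`
  have hp₁ : IsPGroup p S₁ := by
    obtain ⟨k, hk⟩ := IsPGroup.iff_card.1 S.isPGroup'
    exact IsPGroup.of_card (hcard₁.trans hk)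
  obtain ⟨Q, hQ⟩ := hp₁.exists_le_sylow
  obtain ⟨g, hg⟩ := MulAction.exists_smul_eq G Q S
  have hle : cj g S₁ ≤ (S : Subgroup G) := by
    rw [← hg]
    rintro _ ⟨x, hx, rfl⟩
    rw [Sylow.coe_subgroup_smul, Subgroup.mem_pointwise_smul_iff_inv_smul_mem]
    have : (MulAut.conj g)⁻¹ • (MulAut.conj g).toMonoidHom x = x := by
      rw [MulAut.smul_def]
      show (MulAut.conj g)⁻¹ ((MulAut.conj g) x) = x
      rw [← MulAut.mul_apply, inv_mul_cancel, MulAut.one_apply]
    rw [this]
    exact hQ hx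
  have hcj : Nat.card (cj g S₁) = Nat.card S₁ := by
    unfold cj
    exact Subgroup.card_map_of_injective (MulAut.conj g).injective
  have hS : (S : Subgroup G) = cj g S₁ := by
    symm
    apply Subgroup.eq_of_le_of_card_ge hle
    rw [hcj, hcard₁]
  apply isSimple_of_gen_conj2 S S₁ g hS
  · intro h
    apply hne
    rw [← hmap, h, Subgroup.map_bot]
  · intro T hT
    have h1 : T.map ι ≤ S₀ := by
      rw [← hmap]
      exact Subgroup.map_mono hT.1
    have h2 : ∀ x ∈ T.map ι, ∀ g ∈ ι.range, g * x * g⁻¹ ∈ S₀ → g * x * g⁻¹ ∈ T.map ι := by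
      rintro _ ⟨x, hx, rfl⟩ _ ⟨k, rfl⟩ hk
      have h3 : k * x * k⁻¹ ∈ S₁ := by
        rw [hS₁, Subgroup.mem_comap]
        simpa using hk
      have h4 := hT.2 x hx k h3
      refine ⟨k * x * k⁻¹, h4, ?_⟩
      simp
    rcases hsc _ h1 h2 with h | h
    · left
      exact (Subgroup.map_eq_bot_iff_of_injective T hι).1 h
    · right
      apply Subgroup.map_injective hι
      rw [h, hmap]
  · intro h hh
    have h1 : ι h ∈ Subgroup.normalizer (S₀ : Set W) :=
      (comap_normalizer_mem ι hι hS₀ h).1 hh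
    have h2 := hgen (ι h) ⟨h, rfl⟩ h1
    have hsub : {h : W | GoodRel p ι.range S₀ h} ⊆ ι '' {h : G | GoodElt2 p S₁ h} := by
      intro z hz
      rcases hz with hz | ⟨hzA, hzN, P, hPS, hPc, hcl⟩
      · obtain ⟨y, rfl⟩ := hS₀ hz
        exact ⟨y, Or.inl hz, rfl⟩
      · obtain ⟨y, rfl⟩ := hzA
        refine ⟨y, Or.inr ⟨(comap_normalizer_mem ι hι hS₀ y).2 hzN, P.comap ι, ?_, ?_, ?_⟩, rfl⟩
        · exact Subgroup.comap_mono hPS
        · intro c hc
          rw [Subgroup.mem_comap]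
          apply hPc
          refine ⟨?_, ⟨c, rfl⟩⟩
          show ι c ∈ Subgroup.centralizer (P : Set W)
          rw [Subgroup.mem_centralizer_iff]
          intro x hx
          obtain ⟨w, rfl⟩ := (hPS.trans hS₀) hx
          have := Subgroup.mem_centralizer_iff.1 hc w (by simpa using hx)
          rw [← map_mul, ← map_mul, this]
        · have hPr : P ≤ ι.range := hPS.trans hS₀
          have hsub2 : {x : W | x ∈ ι.range ∧ x ∈ Subgroup.normalizer (P : Set W) ∧
              ∃ k : ℕ, orderOf x = p ^ k} ⊆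
              ι '' {x : G | x ∈ Subgroup.normalizer ((P.comap ι : Subgroup G) : Set G) ∧
                ∃ k : ℕ, orderOf x = p ^ k} := by
            rintro _ ⟨⟨x, rfl⟩, hxN, k, hk⟩
            refine ⟨x, ⟨(comap_normalizer_mem ι hι hPr x).2 hxN, k, ?_⟩, rfl⟩
            rw [← hk, orderOf_injective ι hι]
          have h3 := Subgroup.closure_mono hsub2 hcl
          rw [← MonoidHom.map_closure] at h3
          exact (Subgroup.mem_map_iff_mem hι).1 h3
    have h3 := Subgroup.closure_mono hsub h2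
    rw [← MonoidHom.map_closure] at h3
    exact (Subgroup.mem_map_iff_mem hι).1 h3

end Cfsg.Agent.Lib.H25.AltCrit
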