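import Mathlib
import Cfsg.Agent.Lib.H25.AltB

set_option autoImplicit false

/-!
# Sylow `p`-subgroups of symmetric groups are generated by elements of order `p` (helper25)
-/

namespace Cfsg.Agent.Lib.H25.Alt

open Equiv

/-- `H` is generated by its elements of order `p`. -/
def GenP (p : ℕ) {G : Type*} [Group G] (H : Subgroup G) : Prop :=
  H ≤ Subgroup.closure {g : G | g ∈ H ∧ orderOf g = p}

theorem genP_map {p : ℕ} {G G' : Type*} [Group G] [Group G'] (E : G →* G')
    (hE : Function.Injective E) {H : Subgroup G} (h : GenP p H) : GenP p (H.map E) := by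
  rintro _ ⟨x, hx, rfl⟩
  have h1 := h hx
  have hsub : E '' {g : G | g ∈ H ∧ orderOf g = p} ⊆
      {g : G' | g ∈ H.map E ∧ orderOf g = p} := by
    rintro _ ⟨g, ⟨hg, ho⟩, rfl⟩
    exact ⟨⟨g, hg, rfl⟩, by rw [orderOf_injective E hE, ho]⟩
  have h2 : E x ∈ (Subgroup.closure {g : G | g ∈ H ∧ orderOf g = p}).map E := ⟨x, h1, rfl⟩
  rw [MonoidHom.map_closure] at h2
  exact Subgroup.closure_mono hsub h2

theorem genP_of_card {p : ℕ} [Fact p.Prime] {G : Type*} [Group G] [Finite G] (P : Sylow p G)
    (H : Subgroup G) (hcard : Nat.card H = p ^ (Nat.card G).factorization p) (h : GenP p H) :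
    GenP p (P : Subgroup G) := by
  obtain ⟨g, hg⟩ := MulAction.exists_smul_eq G (Sylow.ofCard H hcard) P
  have h1 : (P : Subgroup G) = H.map (MulAut.conj g).toMonoidHom := by
    rw [← hg]
    rfl
  rw [h1]
  exact genP_map _ (MulAut.conj g).injective h

variable {p : ℕ} {Y R : Type*}

theorem orderOf_bs [Fact p.Prime] {f : Y → ZMod p} (hf : f ≠ 0) :
    orderOf (bs (R := R) f) = p := by
  haveI : NeZero p := ⟨(Fact.out : p.Prime).ne_zero⟩
  apply orderOf_eq_prime
  · rw [← bs_nsmul]
    have : p • f = 0 := by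
      funext y
      simp
    rw [this, bs_zero]
  · rw [Ne, bs_eq_one_iff]
    exact hf

theorem orderOf_tp [NeZero p] (σ : Perm Y) : orderOf (tp (p := p) (R := R) σ) = orderOf σ :=
  orderOf_injective (tpHom (p := p) (R := R)) tp_injective σ

theorem genP_wr [Fact p.Prime] {S' : Subgroup (Perm Y)} (h : GenP p S') :
    GenP p (wr p R S') := by
  haveI : NeZero p := ⟨(Fact.out : p.Prime).ne_zero⟩
  rintro _ ⟨f, σ, hσ, rfl⟩
  apply Subgroup.mul_mem
  · by_cases hf : f = 0
    · rw [hf, bs_zero]
      exact Subgroup.one_mem _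
    · exact Subgroup.subset_closure ⟨A_le_wr S' (bs_mem_A f), orderOf_bs hf⟩
  · have h1 := h hσ
    have hle : Subgroup.closure {g : Perm Y | g ∈ S' ∧ orderOf g = p} ≤
        (Subgroup.closure {g : Perm (X p Y R) | g ∈ wr p R S' ∧ orderOf g = p}).comap
          (tpHom (p := p) (R := R)) := by
      rw [Subgroup.closure_le]
      rintro g ⟨hg, ho⟩
      apply Subgroup.subset_closure
      exact ⟨tp_mem_wr hg, by rw [tpHom_apply, orderOf_tp, ho]⟩
    exact hle h1

theorem genP_sylow_fin [hp : Fact p.Prime] :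
    ∀ n : ℕ, ∀ P : Sylow p (Perm (Fin n)), GenP p (P : Subgroup (Perm (Fin n))) := by
  intro n
  induction n using Nat.strong_induction_on with
  | _ n ih =>
    intro P
    rcases Nat.eq_zero_or_pos n with hn | hn
    · subst hn
      intro g _
      have : g = 1 := Subsingleton.elim _ _
      rw [this]
      exact Subgroup.one_mem _
    · have hm : n / p < n := Nat.div_lt_self hn hp.out.one_lt
      have hr : n % p < p := Nat.mod_lt _ hp.out.pos
      obtain ⟨S'⟩ : Nonempty (Sylow p (Perm (Fin (n / p)))) := inferInstance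
      have h1 : GenP p (wr p (Fin (n % p)) (S' : Subgroup (Perm (Fin (n / p))))) :=
        genP_wr (ih _ hm S')
      have hcardX : Fintype.card (X p (Fin (n / p)) (Fin (n % p))) = Fintype.card (Fin n) := by
        rw [card_X, Fintype.card_fin, Fintype.card_fin, Fintype.card_fin, Nat.div_add_mod]
      let e : X p (Fin (n / p)) (Fin (n % p)) ≃ Fin n := Fintype.equivOfCardEq hcardX
      have h2 := genP_map (p := p) e.permCongrHom.toMonoidHom e.permCongrHom.injective h1
      apply genP_of_card P _ _ h2
      rw [Subgroup.card_map_of_injective e.permCongrHom.injective,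
        card_wr_sylow (by rw [Fintype.card_fin]; exact hr) S']
      rw [Nat.card_congr e.permCongrHom.toEquiv]

theorem genP_sylow [hp : Fact p.Prime] (Z : Type*) [Fintype Z] [DecidableEq Z]
    (P : Sylow p (Perm Z)) : GenP p (P : Subgroup (Perm Z)) := by
  let e : Fin (Fintype.card Z) ≃ Z := (Fintype.equivFin Z).symm
  obtain ⟨S'⟩ : Nonempty (Sylow p (Perm (Fin (Fintype.card Z)))) := inferInstance
  have h1 := genP_sylow_fin (p := p) _ S'
  have h2 := genP_map (p := p) e.permCongrHom.toMonoidHom e.permCongrHom.injective h1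
  apply genP_of_card P _ _ h2
  rw [Subgroup.card_map_of_injective e.permCongrHom.injective, S'.card_eq_multiplicity]
  rw [Nat.card_congr e.permCongrHom.toEquiv]

end Cfsg.Agent.Lib.H25.Alt
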