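import Mathlib
import Cfsg.Agent.Lib.H25.AltC

set_option autoImplicit false

/-!
# Elements of order `p` are conjugate into the base group (helper25)
-/

namespace Cfsg.Agent.Lib.H25.Alt

open Equiv

variable {p : ℕ} {Y R : Type*} [Fintype Y] [DecidableEq Y] [Fintype R] [DecidableEq R]

/-- the weight of `f` -/
def wt (f : Y → ZMod p) : ℕ := (Finset.univ.filter fun y => f y ≠ 0).card

theorem support_bs [NeZero p] (f : Y → ZMod p) :
    (bs (R := R) f).support =
      ((Finset.univ.filter fun y => f y ≠ 0) ×ˢ (Finset.univ : Finset (ZMod p))).map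
        ⟨Sum.inl, Sum.inl_injective⟩ := by
  ext z
  rw [Perm.mem_support, Finset.mem_map]
  rcases z with ⟨y, x⟩ | r
  · simp only [bs_inl, ne_eq, Sum.inl.injEq, Prod.mk.injEq, true_and, add_eq_left,
      Finset.mem_product, Finset.mem_filter, Finset.mem_univ, and_true,
      Function.Embedding.coeFn_mk, Prod.exists]
    constructor
    · intro h
      exact ⟨y, x, h, rfl, rfl⟩
    · rintro ⟨y', x', h, rfl, rfl⟩
      exact h
  · simp

theorem card_support_bs [NeZero p] (f : Y → ZMod p) :
    (bs (R := R) f).support.card = wt f * p := by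
  rw [support_bs, Finset.card_map, Finset.card_product, Finset.card_univ, ZMod.card]
  rfl

theorem wt_pos {f : Y → ZMod p} (hf : f ≠ 0) : 0 < wt f := by
  by_contra h
  apply hf
  funext y
  by_contra hy
  have hy' : f y ≠ 0 := hy
  have : y ∈ Finset.univ.filter fun y => f y ≠ 0 := by simp [hy']
  have h2 : 0 < wt f := Finset.card_pos.2 ⟨y, this⟩
  exact h h2

theorem cycleType_bs [hp : Fact p.Prime] {f : Y → ZMod p} (hf : f ≠ 0) :
    (bs (R := R) f).cycleType = Multiset.replicate (wt f) p := by
  haveI : NeZero p := ⟨hp.out.ne_zero⟩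
  have ho := orderOf_bs (R := R) hf
  obtain ⟨k, hk⟩ := Perm.cycleType_prime_order (σ := bs (R := R) f) (by rw [ho]; exact hp.out)
  rw [ho] at hk
  have h1 := Perm.sum_cycleType (bs (R := R) f)
  rw [hk, Multiset.sum_replicate, card_support_bs, smul_eq_mul] at h1
  have h2 : k + 1 = wt f := Nat.eq_of_mul_eq_mul_right hp.out.pos h1
  rw [hk, h2]

/-- the indicator function of a set of blocks -/
def ind (p : ℕ) (K : Finset Y) : Y → ZMod p := fun y => if y ∈ K then 1 else 0

theorem wt_ind [hp : Fact p.Prime] (K : Finset Y) : wt (ind p K) = K.card := by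
  unfold wt ind
  congr 1
  ext y
  by_cases h : y ∈ K <;> simp [h]

theorem ind_ne_zero [hp : Fact p.Prime] {K : Finset Y} (hK : K.Nonempty) : ind p K ≠ 0 := by
  obtain ⟨y, hy⟩ := hK
  intro h
  have := congrFun h y
  simp [ind, hy] at this

/-- an element of order `p` is conjugate to an element of the base group -/
theorem exists_conj_bs [hp : Fact p.Prime] (hR : Fintype.card R < p) {g : Perm (X p Y R)}
    (hg : orderOf g = p) :
    ∃ (c : Perm (X p Y R)) (K : Finset Y), K.Nonempty ∧ c * g * c⁻¹ = bs (ind p K) := by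
  haveI : NeZero p := ⟨hp.out.ne_zero⟩
  obtain ⟨k, hk⟩ := Perm.cycleType_prime_order (σ := g) (by rw [hg]; exact hp.out)
  rw [hg] at hk
  have h1 := Perm.sum_cycleType g
  rw [hk, Multiset.sum_replicate, smul_eq_mul] at h1
  have h2 : g.support.card ≤ Fintype.card (X p Y R) := Finset.card_le_univ _
  rw [card_X] at h2
  have h3 : k + 1 ≤ Fintype.card Y := by
    by_contra hlt
    push Not at hlt
    have : p * (Fintype.card Y + 1) ≤ (k + 1) * p := by
      rw [mul_comm]
      exact Nat.mul_le_mul_right _ hlt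
    rw [h1] at this
    have : p * Fintype.card Y + p ≤ p * Fintype.card Y + Fintype.card R := by
      calc p * Fintype.card Y + p = p * (Fintype.card Y + 1) := by ring
        _ ≤ g.support.card := this
        _ ≤ _ := h2
    omega
  obtain ⟨K, -, hK⟩ := Finset.exists_subset_card_eq (s := (Finset.univ : Finset Y))
    (n := k + 1) (by rw [Finset.card_univ]; exact h3)
  have hKne : K.Nonempty := by
    rw [← Finset.card_pos, hK]
    exact Nat.succ_pos _
  have hct : g.cycleType = (bs (R := R) (ind p K)).cycleType := by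
    rw [cycleType_bs (ind_ne_zero hKne), wt_ind, hK, hk]
  obtain ⟨c, hc⟩ := isConj_iff.1 (Perm.isConj_iff_cycleType_eq.2 hct)
  exact ⟨c, K, hKne, hc⟩

/-- an odd permutation centralizing a given element of the base group (`p` odd) -/
theorem exists_odd_comm [hp : Fact p.Prime] (hodd : Odd p) (hY : 3 ≤ Fintype.card Y)
    (f : Y → ZMod p) :
    ∃ z : Perm (X p Y R), Perm.sign z = -1 ∧ z * bs f = bs f * z := by
  haveI : NeZero p := ⟨hp.out.ne_zero⟩
  obtain ⟨a, b, c, hab, hac, hbc⟩ := Fintype.two_lt_card_iff.1 (by omega : 2 < Fintype.card Y)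
  -- two of the three have the same zero-ness
  obtain ⟨y₁, y₂, hne, hz⟩ : ∃ y₁ y₂ : Y, y₁ ≠ y₂ ∧ (f y₁ = 0 ↔ f y₂ = 0) := by
    by_cases ha : f a = 0 <;> by_cases hb : f b = 0 <;> by_cases hc : f c = 0
    · exact ⟨a, b, hab, by simp [ha, hb]⟩
    · exact ⟨a, b, hab, by simp [ha, hb]⟩
    · exact ⟨a, c, hac, by simp [ha, hc]⟩
    · exact ⟨b, c, hbc, by simp [hb, hc]⟩
    · exact ⟨b, c, hbc, by simp [hb, hc]⟩
    · exact ⟨a, c, hac, by simp [ha, hc]⟩
    · exact ⟨a, b, hab, by simp [ha, hb]⟩
    · exact ⟨a, b, hab, by simp [ha, hb]⟩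
  have hsign : Perm.sign (tp (p := p) (R := R) (swap y₁ y₂)) = -1 := by
    rw [sign_tp, Perm.sign_swap hne, Odd.neg_one_pow hodd]
  by_cases h1 : f y₁ = 0
  · have h2 : f y₂ = 0 := hz.1 h1
    refine ⟨tp (swap y₁ y₂), hsign, ?_⟩
    rw [tp_bs]
    congr 2
    funext y
    show f ((swap y₁ y₂).symm y) = f y
    rw [symm_swap]
    by_cases e1 : y = y₁
    · subst e1; rw [swap_apply_left, h1, h2]
    · by_cases e2 : y = y₂
      · subst e2; rw [swap_apply_right, h1, h2]
      · rw [swap_apply_of_ne_of_ne e1 e2]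
  · have h2 : f y₂ ≠ 0 := fun h => h1 (hz.2 h)
    haveI : Fact p.Prime := hp
    let u₁ : (ZMod p)ˣ := Units.mk0 (f y₁) h1
    let u₂ : (ZMod p)ˣ := Units.mk0 (f y₂) h2
    let u : Y → (ZMod p)ˣ := fun y => if y = y₁ then u₁ * u₂⁻¹ else if y = y₂ then u₂ * u₁⁻¹ else 1
    have hprod : ∏ y, u y = 1 := by
      have hsup : ∀ y ∈ (Finset.univ : Finset Y), y ∉ ({y₁, y₂} : Finset Y) → u y = 1 := by
        intro y _ hy
        simp only [Finset.mem_insert, Finset.mem_singleton, not_or] at hy
        simp [u, hy.1, hy.2]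
      rw [← Finset.prod_subset (Finset.subset_univ _) hsup, Finset.prod_pair hne]
      simp only [u, if_true, if_neg hne.symm]
      rw [mul_mul_mul_comm]
      simp
    refine ⟨tr u * tp (swap y₁ y₂), ?_, ?_⟩
    · rw [Perm.sign_mul, hsign, sign_tr', hprod, map_one, one_mul]
    · rw [mul_assoc, tp_bs, ← mul_assoc, tr_bs, mul_assoc]
      congr 2
      funext y
      show (u y : ZMod p) * f ((swap y₁ y₂).symm y) = f y
      rw [symm_swap]
      by_cases e1 : y = y₁
      · subst e1
        rw [swap_apply_left]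
        simp only [u, if_true]
        rw [Units.val_mul, Units.val_inv_eq_inv_val]
        simp only [u₁, u₂, Units.val_mk0]
        field_simp
      · by_cases e2 : y = y₂
        · subst e2
          rw [swap_apply_right]
          simp only [u, if_neg e1, if_true]
          rw [Units.val_mul, Units.val_inv_eq_inv_val]
          simp only [u₁, u₂, Units.val_mk0]
          field_simp
        · rw [swap_apply_of_ne_of_ne e1 e2]
          simp [u, e1, e2]

/-- for `p = 2` a generator of a block is an odd permutation commuting with the base group -/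
theorem sign_bs_single_two (y₀ : Y) :
    Perm.sign (bs (p := 2) (R := R) (Pi.single y₀ 1)) = -1 := by
  rw [sign_bs, Finset.prod_eq_single y₀]
  · rw [Pi.single_eq_same]
    have : (Equiv.addRight (1 : ZMod 2)) = swap (0 : ZMod 2) 1 := by
      ext x
      fin_cases x <;> rfl
    rw [this, Perm.sign_swap]
    decide
  · intro y _ hy
    rw [Pi.single_eq_of_ne hy]
    have : (Equiv.addRight (0 : ZMod 2)) = 1 := by
      ext x; simp
    rw [this, Perm.sign_one]
  · intro h
    exact absurd (Finset.mem_univ _) h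

/-- conjugation into the base group by an even permutation -/
theorem exists_even_conj_bs [hp : Fact p.Prime] (hR : Fintype.card R < p)
    (hY : 3 ≤ Fintype.card Y) {g : Perm (X p Y R)} (hg : orderOf g = p) :
    ∃ (c : Perm (X p Y R)) (K : Finset Y), Perm.sign c = 1 ∧ K.Nonempty ∧
      c * g * c⁻¹ = bs (ind p K) := by
  obtain ⟨c, K, hK, hc⟩ := exists_conj_bs hR hg
  rcases Int.units_eq_one_or (Perm.sign c) with h | h
  · exact ⟨c, K, h, hK, hc⟩
  · obtain ⟨z, hz, hzc⟩ : ∃ z : Perm (X p Y R), Perm.sign z = -1 ∧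
        z * bs (ind p K) = bs (ind p K) * z := by
      rcases hp.out.eq_two_or_odd' with h2 | hodd
      · subst h2
        obtain ⟨y₀⟩ : Nonempty Y := by
          rw [← Fintype.card_pos_iff]; omega
        exact ⟨bs (Pi.single y₀ 1), sign_bs_single_two y₀, bs_comm _ _⟩
      · exact exists_odd_comm hodd hY _
    refine ⟨z * c, K, ?_, hK, ?_⟩
    · rw [Perm.sign_mul, h, hz]; rfl
    · have e : z * c * g * (z * c)⁻¹ = z * (c * g * c⁻¹) * z⁻¹ := by group
      rw [e, hc, hzc, mul_inv_cancel_right]

end Cfsg.Agent.Lib.H25.Alt
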