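import Mathlib
import Cfsg.Agent.Lib.H25.AltD
import Cfsg.Agent.Lib.H1.NilpotentBasic

set_option autoImplicit false

/-!
# Centralizers in the wreath model, central elements of normalized subgroups (helper25)
-/

namespace Cfsg.Agent.Lib.H25.Alt

open Equiv

/-- a nontrivial subgroup of a finite `p`-group `S` normalized by `S` contains a nontrivial
element centralizing `S` -/
theorem exists_central_of_normalized {G : Type*} [Group G] {p : ℕ} [Fact p.Prime]
    (S T : Subgroup G) [Finite S] (hS : IsPGroup p S) (hTS : T ≤ S)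
    (hnorm : ∀ s ∈ S, ∀ x ∈ T, s * x * s⁻¹ ∈ T) (hne : T ≠ ⊥) :
    ∃ z ∈ T, z ≠ 1 ∧ ∀ s ∈ S, s * z = z * s := by
  haveI : Group.IsNilpotent S := hS.isNilpotent
  have hN : (T.subgroupOf S).Normal := by
    constructor
    intro x hx s
    rw [Subgroup.mem_subgroupOf] at hx ⊢
    have h1 : ((s * x * s⁻¹ : S) : G) = (s : G) * (x : G) * (s : G)⁻¹ := by simp
    rw [h1]
    exact hnorm _ s.2 _ hx
  have hNne : T.subgroupOf S ≠ ⊥ := by
    intro h
    apply hne
    rw [Subgroup.subgroupOf_eq_bot] at h
    rwa [disjoint_iff, inf_of_le_left hTS] at h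
  have hcz := Cfsg.Agent.Lib.H1.normal_inf_center_ne_bot _ hNne
  obtain ⟨⟨z, hzmem⟩, hz1'⟩ := (Subgroup.ne_bot_iff_exists_ne_one).1 hcz
  have hz1 : z ≠ 1 := fun h => hz1' (Subtype.ext h)
  have hzT : (z : G) ∈ T := (Subgroup.mem_inf.1 hzmem).1
  have hzc := (Subgroup.mem_inf.1 hzmem).2
  refine ⟨z, hzT, fun h => hz1 (Subtype.ext h), fun s hs => ?_⟩
  have := Subgroup.mem_center_iff.1 hzc ⟨s, hs⟩
  exact congrArg Subtype.val this

variable {p : ℕ} {Y R : Type*}

/-- a permutation commuting with the whole base group lies in it (when `R` has at most one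
point) -/
theorem mem_A_of_comm [hp : Fact p.Prime] [DecidableEq Y] [Subsingleton R]
    {c : Perm (X p Y R)}
    (hc : ∀ f : Y → ZMod p, c * bs f = bs f * c) : c ∈ A p Y R := by
  haveI : NeZero p := ⟨hp.out.ne_zero⟩
  have h01 : (0 : ZMod p) ≠ 1 := zero_ne_one
  have key : ∀ (y : Y) (x : ZMod p) (w : X p Y R), c (Sum.inl (y, 0)) = w →
      c (Sum.inl (y, x)) = bs (Pi.single y x) w := by
    intro y x w hw
    have h1 := congrArg (fun e => e (Sum.inl (y, 0))) (hc (Pi.single y x))
    simp only [Perm.mul_apply, bs_inl, Pi.single_eq_same, zero_add] at h1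
    rw [h1, hw]
  -- `c` maps the block `y` to itself
  have hblock : ∀ y : Y, ∃ a : ZMod p, c (Sum.inl (y, 0)) = Sum.inl (y, a) := by
    intro y
    rcases hw : c (Sum.inl (y, 0)) with ⟨y', a⟩ | r
    · by_cases hy : y' = y
      · subst hy
        exact ⟨a, rfl⟩
      · exfalso
        have h1 := key y 1 _ hw
        rw [bs_inl, Pi.single_eq_of_ne hy, add_zero, ← hw] at h1
        have := c.injective h1
        simp only [Sum.inl.injEq, Prod.mk.injEq, true_and] at this
        exact h01 this.symm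
    · exfalso
      have h1 := key y 1 _ hw
      rw [bs_inr, ← hw] at h1
      have := c.injective h1
      simp only [Sum.inl.injEq, Prod.mk.injEq, true_and] at this
      exact h01 this.symm
  choose f hf using hblock
  have hinl : ∀ y x, c (Sum.inl (y, x)) = Sum.inl (y, x + f y) := by
    intro y x
    rw [key y x _ (hf y), bs_inl, Pi.single_eq_same, add_comm]
  refine ⟨f, ?_⟩
  ext z
  rcases z with ⟨y, x⟩ | r
  · rw [hinl, bs_inl]
  · rw [bs_inr]
    rcases hw : c (Sum.inr r) with ⟨y, x⟩ | r'
    · exfalso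
      have h1 : c (Sum.inl (y, x - f y)) = Sum.inl (y, x) := by
        rw [hinl, sub_add_cancel]
      rw [← hw] at h1
      have := c.injective h1
      simp at this
    · rw [Subsingleton.elim r' r]

/-- elements of the wreath product commuting with the base group lie in the base group -/
theorem mem_A_of_mem_wr_of_comm [NeZero p] [DecidableEq Y] {S' : Subgroup (Perm Y)}
    {c : Perm (X p Y R)} (hcw : c ∈ wr p R S')
    (hc : ∀ y : Y, c * bs (Pi.single y 1) = bs (Pi.single y 1) * c) (hp1 : (1 : ZMod p) ≠ 0) :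
    c ∈ A p Y R := by
  obtain ⟨f, σ, -, rfl⟩ := hcw
  have hσ : σ = 1 := by
    ext y
    by_contra hne
    have hne' : σ y ≠ y := hne
    have h1 := congrArg (fun e => e (Sum.inl (y, 0))) (hc (σ y))
    simp only [Perm.mul_apply, bs_inl, tp_inl] at h1
    rw [Pi.single_eq_of_ne (Ne.symm hne'), Pi.single_eq_same] at h1
    simp only [Sum.inl.injEq, Prod.mk.injEq, true_and] at h1
    have : (0 : ZMod p) + 0 + f (σ y) = 0 + f (σ y) + 1 := h1
    rw [zero_add, zero_add, left_eq_add] at this
    exact hp1 this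
  rw [hσ, tp_one, mul_one]
  exact bs_mem_A f

end Cfsg.Agent.Lib.H25.Alt
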