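import Mathlib
import Cfsg.Agent.Lib.H25.AltE

set_option autoImplicit false

/-!
# Strongly closed subgroups of the Sylow `p`-subgroup of the alternating group, `p` odd (helper25)
-/

namespace Cfsg.Agent.Lib.H25.Alt

open Equiv

variable {p : ℕ} {Y R : Type*} [Fintype Y] [DecidableEq Y] [Fintype R] [DecidableEq R]

/-- `-1` at two given points -/
def neg2 (p : ℕ) (y₁ y₂ : Y) : Y → (ZMod p)ˣ := fun y => if y = y₁ ∨ y = y₂ then -1 else 1

theorem prod_neg2 {y₁ y₂ : Y} (hne : y₁ ≠ y₂) : ∏ y, neg2 p y₁ y₂ y = 1 := by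
  have hsup : ∀ y ∈ (Finset.univ : Finset Y), y ∉ ({y₁, y₂} : Finset Y) → neg2 p y₁ y₂ y = 1 := by
    intro y _ hy
    simp only [Finset.mem_insert, Finset.mem_singleton, not_or] at hy
    simp [neg2, hy.1, hy.2]
  rw [← Finset.prod_subset (Finset.subset_univ _) hsup, Finset.prod_pair hne]
  simp [neg2]

theorem sign_tr_neg2 [NeZero p] {y₁ y₂ : Y} (hne : y₁ ≠ y₂) :
    Perm.sign (tr (R := R) (neg2 p y₁ y₂)) = 1 := by
  rw [sign_tr', prod_neg2 hne, map_one]

theorem single_comp_symm (τ : Perm Y) (y : Y) (a : ZMod p) :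
    (Pi.single y a : Y → ZMod p) ∘ τ.symm = Pi.single (τ y) a := by
  funext z
  simp only [Function.comp_apply]
  by_cases h : z = τ y
  · subst h
    simp
  · rw [Pi.single_eq_of_ne h, Pi.single_eq_of_ne]
    intro h'
    apply h
    rw [← h', apply_symm_apply]

theorem two_ne_zero_of_odd [hp : Fact p.Prime] (hodd : Odd p) : (2 : ZMod p) ≠ 0 := by
  intro h
  have h2 : ((2 : ℕ) : ZMod p) = 0 := by exact_mod_cast h
  rw [ZMod.natCast_eq_zero_iff] at h2
  have := Nat.le_of_dvd (by norm_num) h2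
  have h3 : 2 ≤ p := hp.out.two_le
  have : p = 2 := le_antisymm this h3
  subst this
  exact absurd hodd (by decide)

theorem wr_le_alternating [hp : Fact p.Prime] (hodd : Odd p) {S' : Subgroup (Perm Y)}
    (hS' : IsPGroup p S') : wr p R S' ≤ alternatingGroup (X p Y R) := by
  haveI : NeZero p := ⟨hp.out.ne_zero⟩
  rintro _ ⟨f, σ, hσ, rfl⟩
  rw [Perm.mem_alternatingGroup, Perm.sign_mul, sign_bs_of_odd hodd, one_mul, sign_tp]
  obtain ⟨k, hk⟩ := hS' ⟨σ, hσ⟩
  have hk' : σ ^ p ^ k = 1 := by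
    have := congrArg Subtype.val hk
    simpa using this
  rw [sign_eq_one_of_pow σ (Odd.pow hodd) hk', one_pow]

theorem isPGroup_wr [hp : Fact p.Prime] (hR : Fintype.card R < p) (S' : Sylow p (Perm Y)) :
    IsPGroup p (wr p R (S' : Subgroup (Perm Y))) :=
  IsPGroup.of_card (card_wr_sylow hR S')

/-- the base group lies in every nontrivial strongly closed subgroup (`p` odd) -/
theorem A_le_of_sc_odd [hp : Fact p.Prime] (hodd : Odd p) (hR : Fintype.card R < p)
    (hY : 3 ≤ Fintype.card Y) (S' : Sylow p (Perm Y)) (T : Subgroup (Perm (X p Y R)))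
    (hT : T ≤ wr p R (S' : Subgroup (Perm Y)))
    (hsc : ∀ x ∈ T, ∀ g ∈ alternatingGroup (X p Y R),
      g * x * g⁻¹ ∈ wr p R (S' : Subgroup (Perm Y)) → g * x * g⁻¹ ∈ T)
    (hne : T ≠ ⊥) : A p Y R ≤ T := by
  haveI : NeZero p := ⟨hp.out.ne_zero⟩
  have hwp := isPGroup_wr hR S'
  have hwalt := wr_le_alternating (R := R) hodd S'.isPGroup'
  have hconj : ∀ (f f' : Y → ZMod p) (g : Perm (X p Y R)), g ∈ alternatingGroup (X p Y R) →
      bs f ∈ T → g * bs f * g⁻¹ = bs f' → bs f' ∈ T := by
    intro f f' g hg hf hff'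
    rw [← hff']
    apply hsc _ hf g hg
    rw [hff']
    exact A_le_wr _ (bs_mem_A f')
  obtain ⟨z, hzT, hz1, hzc⟩ := exists_central_of_normalized _ T hwp hT
    (fun s hs x hx => hsc x hx s (hwalt hs)
      (Subgroup.mul_mem _ (Subgroup.mul_mem _ hs (hT hx)) (Subgroup.inv_mem _ hs))) hne
  have hzA : z ∈ A p Y R := by
    apply mem_A_of_mem_wr_of_comm (hT hzT)
    · intro y
      exact (hzc _ (A_le_wr _ (bs_mem_A _))).symm
    · exact one_ne_zero
  obtain ⟨f, rfl⟩ := hzA
  have hf0 : f ≠ 0 := by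
    intro h
    apply hz1
    rw [h, bs_zero]
  obtain ⟨y₁, hy₁⟩ : ∃ y₁, f y₁ ≠ 0 := by
    by_contra h
    push Not at h
    exact hf0 (funext h)
  -- a nonzero multiple of a single coordinate vector
  obtain ⟨a, ha, hsingle⟩ : ∃ a : ZMod p, a ≠ 0 ∧ bs (R := R) (Pi.single y₁ a) ∈ T := by
    by_cases h : ∃ y₂, y₂ ≠ y₁ ∧ f y₂ ≠ 0
    · obtain ⟨y₂, hy₂₁, hy₂⟩ := h
      obtain ⟨y₃, hy₃⟩ : ∃ y₃, y₃ ≠ y₁ ∧ y₃ ≠ y₂ := by
        by_contra hcon
        push Not at hcon
        have : (Finset.univ : Finset Y) ⊆ {y₁, y₂} := by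
          intro y _
          by_cases e : y = y₁
          · simp [e]
          · simp [hcon y e]
        have := Finset.card_le_card this
        rw [Finset.card_univ] at this
        have h2 : ({y₁, y₂} : Finset Y).card ≤ 2 := Finset.card_le_two
        omega
      have hmem1 : bs (R := R) (fun y => ((neg2 p y₁ y₂ y : (ZMod p)ˣ) : ZMod p) * f y) ∈ T :=
        hconj f _ (tr (neg2 p y₁ y₂)) (by
          rw [Perm.mem_alternatingGroup]; exact sign_tr_neg2 hy₂₁.symm) hzT (tr_conj_bs _ _)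
      set g₁ : Y → ZMod p := f - fun y => ((neg2 p y₁ y₂ y : (ZMod p)ˣ) : ZMod p) * f y with hg₁
      have hmem2 : bs (R := R) g₁ ∈ T := by
        rw [hg₁, bs_sub]
        exact T.mul_mem hzT (T.inv_mem hmem1)
      have hmem3 : bs (R := R) (fun y => ((neg2 p y₂ y₃ y : (ZMod p)ˣ) : ZMod p) * g₁ y) ∈ T :=
        hconj g₁ _ (tr (neg2 p y₂ y₃)) (by
          rw [Perm.mem_alternatingGroup]; exact sign_tr_neg2 hy₃.2.symm) hmem2 (tr_conj_bs _ _)
      have hmem4 : bs (R := R)
          (g₁ + fun y => ((neg2 p y₂ y₃ y : (ZMod p)ˣ) : ZMod p) * g₁ y) ∈ T := by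
        rw [bs_add]
        exact T.mul_mem hmem2 hmem3
      have heq : (g₁ + fun y => ((neg2 p y₂ y₃ y : (ZMod p)ˣ) : ZMod p) * g₁ y) =
          Pi.single y₁ (4 * f y₁) := by
        funext y
        simp only [Pi.add_apply, hg₁, Pi.sub_apply]
        by_cases e1 : y = y₁
        · subst e1
          have n1 : neg2 p y y₂ y = -1 := by simp [neg2]
          have n2 : neg2 p y₂ y₃ y = 1 := by simp [neg2, hy₂₁.symm, hy₃.1.symm]
          rw [n1, n2, Pi.single_eq_same]
          push_cast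
          ring
        · rw [Pi.single_eq_of_ne e1]
          by_cases e2 : y = y₂
          · subst e2
            have n1 : neg2 p y₁ y y = -1 := by simp [neg2]
            have n2 : neg2 p y y₃ y = -1 := by simp [neg2]
            rw [n1, n2]
            push_cast
            ring
          · have n1 : neg2 p y₁ y₂ y = 1 := by simp [neg2, e1, e2]
            rw [n1]
            push_cast
            ring
      rw [heq] at hmem4
      refine ⟨4 * f y₁, ?_, hmem4⟩
      have h2 := two_ne_zero_of_odd (p := p) hodd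
      have h4 : (4 : ZMod p) = 2 * 2 := by norm_num
      rw [h4]
      exact mul_ne_zero (mul_ne_zero h2 h2) hy₁
    · push Not at h
      refine ⟨f y₁, hy₁, ?_⟩
      have : f = Pi.single y₁ (f y₁) := by
        funext y
        by_cases e : y = y₁
        · subst e; simp
        · rw [Pi.single_eq_of_ne e]
          by_contra hy
          exact hy (h y e)
      rw [← this]
      exact hzT
  -- all coordinates
  have hall : ∀ y : Y, bs (R := R) (Pi.single y a) ∈ T := by
    intro y
    by_cases e : y = y₁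
    · rw [e]; exact hsingle
    · obtain ⟨y₃, hy₃⟩ : ∃ y₃, y₃ ≠ y₁ ∧ y₃ ≠ y := by
        by_contra hcon
        push Not at hcon
        have : (Finset.univ : Finset Y) ⊆ {y₁, y} := by
          intro z _
          by_cases e' : z = y₁
          · simp [e']
          · simp [hcon z e']
        have := Finset.card_le_card this
        rw [Finset.card_univ] at this
        have h2 : ({y₁, y} : Finset Y).card ≤ 2 := Finset.card_le_two
        omega
      set τ : Perm Y := swap y₁ y * swap y y₃ with hτ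
      have hτy : τ y₁ = y := by
        rw [hτ, Perm.mul_apply, swap_apply_of_ne_of_ne (Ne.symm e) hy₃.1.symm, swap_apply_left]
      have hτs : Perm.sign τ = 1 := by
        rw [hτ, Perm.sign_mul, Perm.sign_swap (Ne.symm e), Perm.sign_swap hy₃.2.symm]
        rfl
      have := hconj (Pi.single y₁ a) _ (tp τ) (by
        rw [Perm.mem_alternatingGroup, sign_tp, hτs, one_pow]) hsingle (tp_conj_bs _ _)
      rwa [single_comp_symm, hτy] at this
  have hall' : ∀ (y : Y) (b : ZMod p), bs (R := R) (Pi.single y b) ∈ T := by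
    intro y b
    have hk : ((b * a⁻¹).val • (Pi.single y a : Y → ZMod p)) = Pi.single y b := by
      funext z
      by_cases e : z = y
      · subst e
        simp only [Pi.smul_apply, Pi.single_eq_same, nsmul_eq_mul, ZMod.natCast_zmod_val]
        rw [mul_assoc, inv_mul_cancel₀ ha, mul_one]
      · simp [Pi.single_eq_of_ne e]
    rw [← hk, bs_nsmul]
    exact T.pow_mem (hall y) _
  rintro _ ⟨f', rfl⟩
  have hsum : ∀ s : Finset Y, bs (R := R) (∑ y ∈ s, Pi.single y (f' y)) ∈ T := by
    intro s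
    induction s using Finset.induction_on with
    | empty => simp [T.one_mem]
    | insert y s hy ih =>
      rw [Finset.sum_insert hy, bs_add]
      exact T.mul_mem (hall' _ _) ih
  have := hsum Finset.univ
  rwa [Finset.univ_sum_single] at this

/-- `T = S` for nontrivial strongly closed `T` (`p` odd) -/
theorem sc_odd [hp : Fact p.Prime] (hodd : Odd p) (hR : Fintype.card R < p)
    (hY : 3 ≤ Fintype.card Y) (S' : Sylow p (Perm Y)) (T : Subgroup (Perm (X p Y R)))
    (hT : T ≤ wr p R (S' : Subgroup (Perm Y)))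
    (hsc : ∀ x ∈ T, ∀ g ∈ alternatingGroup (X p Y R),
      g * x * g⁻¹ ∈ wr p R (S' : Subgroup (Perm Y)) → g * x * g⁻¹ ∈ T)
    (hne : T ≠ ⊥) : T = wr p R (S' : Subgroup (Perm Y)) := by
  have hA := A_le_of_sc_odd hodd hR hY S' T hT hsc hne
  apply le_antisymm hT
  refine (genP_wr (R := R) (genP_sylow Y S')).trans ?_
  rw [Subgroup.closure_le]
  rintro g ⟨hgw, hgo⟩
  obtain ⟨c, K, hc, -, hcg⟩ := exists_even_conj_bs hR hY hgo
  have h1 : bs (R := R) (ind p K) ∈ T := hA (bs_mem_A _)
  have h2 := hsc _ h1 c⁻¹ (by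
    rw [Perm.mem_alternatingGroup, Perm.sign_inv, hc])
  have e : c⁻¹ * bs (ind p K) * c⁻¹⁻¹ = g := by
    rw [← hcg]; group
  rw [e] at h2
  exact h2 hgw

end Cfsg.Agent.Lib.H25.Alt
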