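import Mathlib
import Cfsg.Agent.Lib.H25.AltF

set_option autoImplicit false

/-!
# The normalizer of the base group: monomial form (helper25)
-/

namespace Cfsg.Agent.Lib.H25.Alt

open Equiv

variable {p : ℕ} {Y R : Type*} [Fintype Y] [DecidableEq Y] [Fintype R] [DecidableEq R]

theorem wt_single {y : Y} {a : ZMod p} (ha : a ≠ 0) : wt (Pi.single y a : Y → ZMod p) = 1 := by
  unfold wt
  rw [Finset.card_eq_one]
  refine ⟨y, ?_⟩
  ext z
  simp only [ne_eq, Finset.mem_filter, Finset.mem_univ, true_and, Finset.mem_singleton]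
  constructor
  · intro h
    by_contra hz
    exact h (Pi.single_eq_of_ne hz _)
  · rintro rfl
    rwa [Pi.single_eq_same]

theorem wt_single_le (y : Y) (a : ZMod p) : wt (Pi.single y a : Y → ZMod p) ≤ 1 := by
  by_cases ha : a = 0
  · subst ha
    unfold wt
    simp
  · rw [wt_single ha]

theorem exists_single_of_wt_one {g : Y → ZMod p} (h : wt g = 1) :
    ∃ (y' : Y) (a : ZMod p), a ≠ 0 ∧ g = Pi.single y' a := by
  unfold wt at h
  rw [Finset.card_eq_one] at h
  obtain ⟨y', hy'⟩ := h
  have h1 : ∀ z, g z ≠ 0 ↔ z = y' := by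
    intro z
    have := Finset.ext_iff.1 hy' z
    simpa using this
  refine ⟨y', g y', (h1 y').2 rfl, ?_⟩
  funext z
  by_cases hz : z = y'
  · subst hz; simp
  · rw [Pi.single_eq_of_ne hz]
    by_contra hg
    exact hz ((h1 z).1 hg)

/-- elements of the wreath product with small support lie in the base group -/
theorem mem_A_of_card_support_le [hp : Fact p.Prime] {S' : Subgroup (Perm Y)}
    {g : Perm (X p Y R)} (hg : g ∈ wr p R S') (hc : g.support.card ≤ p) : g ∈ A p Y R := by
  haveI : NeZero p := ⟨hp.out.ne_zero⟩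
  obtain ⟨f, σ, -, rfl⟩ := hg
  have hσ : σ = 1 := by
    ext y
    by_contra hne
    have hne' : σ y ≠ y := hne
    have hne2 : σ (σ y) ≠ σ y := fun h => hne' (σ.injective h)
    let s₁ : Finset (X p Y R) := Finset.univ.image fun x : ZMod p => (Sum.inl (y, x) : X p Y R)
    let s₂ : Finset (X p Y R) := Finset.univ.image fun x : ZMod p => (Sum.inl (σ y, x) : X p Y R)
    have hc₁ : s₁.card = p := by
      rw [Finset.card_image_of_injective, Finset.card_univ, ZMod.card]
      intro a b h
      simpa using h
    have hc₂ : s₂.card = p := by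
      rw [Finset.card_image_of_injective, Finset.card_univ, ZMod.card]
      intro a b h
      simpa using h
    have hd : Disjoint s₁ s₂ := by
      rw [Finset.disjoint_left]
      intro z h1 h2
      simp only [s₁, s₂, Finset.mem_image, Finset.mem_univ, true_and] at h1 h2
      obtain ⟨a, rfl⟩ := h1
      obtain ⟨b, hb⟩ := h2
      simp only [Sum.inl.injEq, Prod.mk.injEq] at hb
      exact hne' hb.1
    have hsub : s₁ ∪ s₂ ⊆ (bs (R := R) f * tp σ).support := by
      intro z hz
      rw [Perm.mem_support]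
      rw [Finset.mem_union] at hz
      rcases hz with hz | hz
      · simp only [s₁, Finset.mem_image, Finset.mem_univ, true_and] at hz
        obtain ⟨a, rfl⟩ := hz
        rw [bs_tp_apply_inl]
        intro h
        simp only [Sum.inl.injEq, Prod.mk.injEq] at h
        exact hne' h.1
      · simp only [s₂, Finset.mem_image, Finset.mem_univ, true_and] at hz
        obtain ⟨a, rfl⟩ := hz
        rw [bs_tp_apply_inl]
        intro h
        simp only [Sum.inl.injEq, Prod.mk.injEq] at h
        exact hne2 h.1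
    have h1 := Finset.card_le_card hsub
    rw [Finset.card_union_of_disjoint hd, hc₁, hc₂] at h1
    have := hp.out.pos
    omega
  rw [hσ, tp_one, mul_one]
  exact bs_mem_A f

/-- the normalizer of the wreath product normalizes the base group -/
theorem conj_bs_mem_A [hp : Fact p.Prime] {S' : Subgroup (Perm Y)} {h : Perm (X p Y R)}
    (hh : h ∈ Subgroup.normalizer ((wr p R S' : Subgroup (Perm (X p Y R))) : Set (Perm (X p Y R))))
    (f : Y → ZMod p) : h * bs f * h⁻¹ ∈ A p Y R := by
  haveI : NeZero p := ⟨hp.out.ne_zero⟩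
  have hsingle : ∀ (y : Y) (b : ZMod p), h * bs (Pi.single y b) * h⁻¹ ∈ A p Y R := by
    intro y b
    apply mem_A_of_card_support_le (S' := S')
    · exact (Subgroup.mem_normalizer_iff.1 hh _).1 (A_le_wr _ (bs_mem_A _))
    · rw [Perm.card_support_conj, card_support_bs]
      calc wt (Pi.single y b : Y → ZMod p) * p ≤ 1 * p :=
            Nat.mul_le_mul_right _ (wt_single_le y b)
        _ = p := one_mul p
  have hsum : ∀ s : Finset Y, h * bs (∑ y ∈ s, Pi.single y (f y)) * h⁻¹ ∈ A p Y R := by
    intro s
    induction s using Finset.induction_on with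
    | empty => simp [Subgroup.one_mem]
    | insert y s hy ih =>
      rw [Finset.sum_insert hy, bs_add]
      have e : h * (bs (Pi.single y (f y)) * bs (∑ x ∈ s, Pi.single x (f x))) * h⁻¹ =
          (h * bs (Pi.single y (f y)) * h⁻¹) * (h * bs (∑ x ∈ s, Pi.single x (f x)) * h⁻¹) := by
        group
      rw [e]
      exact Subgroup.mul_mem _ (hsingle _ _) ih
  have := hsum Finset.univ
  rwa [Finset.univ_sum_single] at this

/-- the block structure of a permutation normalizing the base group -/
theorem exists_block_map [hp : Fact p.Prime] {h : Perm (X p Y R)}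
    (hh : ∀ f : Y → ZMod p, h * bs f * h⁻¹ ∈ A p Y R) (y : Y) :
    ∃ (y' : Y) (a b : ZMod p), a ≠ 0 ∧
      ∀ x : ZMod p, h (Sum.inl (y, x)) = Sum.inl (y', a * x + b) := by
  haveI : NeZero p := ⟨hp.out.ne_zero⟩
  obtain ⟨g, hg⟩ := hh (Pi.single y 1)
  have hw : wt g = 1 := by
    have h1 : (h * bs (R := R) (Pi.single y (1 : ZMod p)) * h⁻¹).support.card =
        (bs (R := R) g).support.card := by rw [hg]
    rw [Perm.card_support_conj, card_support_bs, card_support_bs,
      wt_single (one_ne_zero)] at h1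
    exact (Nat.eq_of_mul_eq_mul_right hp.out.pos h1).symm
  obtain ⟨y', a, ha, rfl⟩ := exists_single_of_wt_one hw
  -- `h ∘ B_y = bs (single y' a) ∘ h`
  have hrel : ∀ z, h (bs (Pi.single y 1) z) = bs (Pi.single y' a) (h z) := by
    intro z
    have := congrArg (fun e => e (h z)) hg
    simp only [Perm.mul_apply, Perm.coe_inv, symm_apply_apply] at this
    exact this
  -- `h` maps the block `y` into the block `y'`
  have hblock : ∀ x : ZMod p, ∃ c : ZMod p, h (Sum.inl (y, x)) = Sum.inl (y', c) := by
    intro x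
    have h1 := hrel (Sum.inl (y, x))
    rw [bs_inl, Pi.single_eq_same] at h1
    have hne : h (Sum.inl (y, x + 1)) ≠ h (Sum.inl (y, x)) := by
      intro e
      have := h.injective e
      simp at this
    rw [h1] at hne
    rcases hw : h (Sum.inl (y, x)) with ⟨y'', c⟩ | r
    · by_cases e : y'' = y'
      · subst e
        exact ⟨c, rfl⟩
      · exfalso
        apply hne
        rw [hw, bs_inl, Pi.single_eq_of_ne e, add_zero]
    · exfalso
      apply hne
      rw [hw, bs_inr]
  obtain ⟨b, hb⟩ := hblock 0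
  refine ⟨y', a, b, ha, ?_⟩
  have key : ∀ k : ℕ, h (Sum.inl (y, (k : ZMod p))) = Sum.inl (y', a * k + b) := by
    intro k
    induction k with
    | zero => simpa using hb
    | succ k ih =>
      have h1 := hrel (Sum.inl (y, (k : ZMod p)))
      rw [bs_inl, Pi.single_eq_same, ih, bs_inl, Pi.single_eq_same] at h1
      push_cast
      rw [h1]
      congr 2
      ring
  intro x
  have := key x.val
  rwa [ZMod.natCast_zmod_val] at this

/-- a permutation normalizing the base group is monomial -/
theorem exists_monomial [hp : Fact p.Prime] [Subsingleton R] {h : Perm (X p Y R)}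
    (hh : ∀ f : Y → ZMod p, h * bs f * h⁻¹ ∈ A p Y R)
    (hh' : ∀ f : Y → ZMod p, h⁻¹ * bs f * h⁻¹⁻¹ ∈ A p Y R) :
    ∃ (τ : Perm Y) (u : Y → (ZMod p)ˣ) (f : Y → ZMod p), h = tp τ * tr u * bs f := by
  haveI : NeZero p := ⟨hp.out.ne_zero⟩
  choose τ a b ha hτ using exists_block_map hh
  choose τ' a' b' ha' hτ' using exists_block_map hh'
  have h1 : ∀ y, τ' (τ y) = y := by
    intro y
    have := hτ' (τ y) (a y * 0 + b y)
    rw [← hτ y 0, Perm.coe_inv, symm_apply_apply] at this
    simp only [Sum.inl.injEq, Prod.mk.injEq] at this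
    exact this.1.symm
  have h2 : ∀ y, τ (τ' y) = y := by
    intro y
    have := hτ (τ' y) (a' y * 0 + b' y)
    rw [← hτ' y 0, Perm.coe_inv, apply_symm_apply] at this
    simp only [Sum.inl.injEq, Prod.mk.injEq] at this
    exact this.1.symm
  let τe : Perm Y := ⟨τ, τ', h1, h2⟩
  let u : Y → (ZMod p)ˣ := fun y => Units.mk0 (a y) (ha y)
  refine ⟨τe, u, fun y => (a y)⁻¹ * b y, ?_⟩
  ext z
  rcases z with ⟨y, x⟩ | r
  · rw [hτ y x]
    simp only [Perm.mul_apply, bs_inl, tr_inl, tp_inl]
    show Sum.inl (τ y, a y * x + b y) = Sum.inl (τ y, a y * (x + (a y)⁻¹ * b y))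
    rw [mul_add, ← mul_assoc, mul_inv_cancel₀ (ha y), one_mul]
  · simp only [Perm.mul_apply, bs_inr, tr_inr, tp_inr]
    rcases hw : h (Sum.inr r) with ⟨y, x⟩ | r'
    · exfalso
      have h3 := hτ' y x
      rw [← hw, Perm.coe_inv, symm_apply_apply] at h3
      simp at h3
    · rw [Subsingleton.elim r' r]

end Cfsg.Agent.Lib.H25.Alt
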