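import Mathlib
import Cfsg.Agent.Lib.H25.AltG
import Cfsg.Agent.Lib.H25.AltBridge

set_option autoImplicit false

/-!
# Generation of the Sylow normalizer by good elements, `p` odd (helper25)
-/

namespace Cfsg.Agent.Lib.H25.Alt

open Equiv Cfsg.Agent.Lib.H25.AltCrit

variable {p : ℕ} {Y R : Type*} [Fintype Y] [DecidableEq Y] [Fintype R] [DecidableEq R]

/-- the closure of a conjugation invariant set is invariant under conjugation -/
theorem conj_mem_closure {G : Type*} [Group G] {s : Set G} {g : G}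
    (hs : ∀ x ∈ s, g * x * g⁻¹ ∈ s) {x : G} (hx : x ∈ Subgroup.closure s) :
    g * x * g⁻¹ ∈ Subgroup.closure s := by
  induction hx using Subgroup.closure_induction with
  | mem x hx => exact Subgroup.subset_closure (hs x hx)
  | one => simp [Subgroup.one_mem]
  | mul a b _ _ iha ihb =>
    have e : g * (a * b) * g⁻¹ = (g * a * g⁻¹) * (g * b * g⁻¹) := by group
    rw [e]
    exact Subgroup.mul_mem _ iha ihb
  | inv a _ iha =>
    have e : g * a⁻¹ * g⁻¹ = (g * a * g⁻¹)⁻¹ := by group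
    rw [e]
    exact Subgroup.inv_mem _ iha

/-- the alternating group is generated by `p`-elements -/
theorem alternating_le_closure_pElements [hp : Fact p.Prime] (hodd : Odd p)
    (hY : p ≤ Fintype.card Y) :
    alternatingGroup Y ≤ Subgroup.closure {σ : Perm Y | ∃ k : ℕ, orderOf σ = p ^ k} := by
  by_cases h3 : p = 3
  · subst h3
    rw [← Perm.closure_three_cycles_eq_alternating]
    apply Subgroup.closure_mono
    intro σ hσ
    exact ⟨1, by rw [pow_one]; exact hσ.orderOf⟩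
  · have h5 : 5 ≤ p := by
      have h2 := hp.out.two_le
      have : p ≠ 2 := by
        rintro rfl
        exact absurd hodd (by decide)
      have : p ≠ 4 := by
        rintro rfl
        exact absurd hp.out (by decide)
      omega
    have hsimple : IsSimpleGroup (alternatingGroup Y) :=
      alternatingGroup.isSimpleGroup (by rw [Nat.card_eq_fintype_card]; omega)
    set C : Subgroup (Perm Y) := Subgroup.closure {σ : Perm Y | ∃ k : ℕ, orderOf σ = p ^ k}
      with hC
    have hCn : C.Normal := by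
      constructor
      intro n hn g
      apply conj_mem_closure _ hn
      rintro x ⟨k, hk⟩
      refine ⟨k, ?_⟩
      rw [← hk]
      have := (MulAut.conj g).orderOf_eq x
      rwa [MulAut.conj_apply] at this
    have hN : (C.subgroupOf (alternatingGroup Y)).Normal := inferInstance
    rcases hN.eq_bot_or_eq_top with h | h
    · exfalso
      -- an element of order `p`
      have hdvd : p ∣ Nat.card (Perm Y) := by
        rw [Nat.card_eq_fintype_card, Fintype.card_perm]
        exact Nat.dvd_factorial hp.out.pos hY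
      obtain ⟨σ, hσ⟩ := exists_prime_orderOf_dvd_card' p hdvd
      have hσC : σ ∈ C := Subgroup.subset_closure ⟨1, by rw [pow_one, hσ]⟩
      have hσA : σ ∈ alternatingGroup Y := by
        rw [Perm.mem_alternatingGroup]
        apply sign_eq_one_of_pow σ hodd
        rw [← hσ, pow_orderOf_eq_one]
      have h1 : (⟨σ, hσA⟩ : alternatingGroup Y) ∈ C.subgroupOf (alternatingGroup Y) := hσC
      rw [h, Subgroup.mem_bot] at h1
      have h2 : σ = 1 := congrArg Subtype.val h1
      rw [h2, orderOf_one] at hσ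
      exact hp.out.one_lt.ne hσ
    · intro σ hσ
      have h1 : (⟨σ, hσ⟩ : alternatingGroup Y) ∈ C.subgroupOf (alternatingGroup Y) := by
        rw [h]; exact Subgroup.mem_top _
      exact h1

section Odd

variable [hp : Fact p.Prime]

/-- the closure of the `p`-elements of `𝔄 ∩ N(A)` -/
def CA (p : ℕ) [Fact p.Prime] (Y R : Type*) [Fintype Y] [DecidableEq Y] [Fintype R]
    [DecidableEq R] : Subgroup (Perm (X p Y R)) :=
  Subgroup.closure {x : Perm (X p Y R) | x ∈ alternatingGroup (X p Y R) ∧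
    x ∈ Subgroup.normalizer ((A p Y R : Subgroup (Perm (X p Y R))) : Set (Perm (X p Y R))) ∧
    ∃ k : ℕ, orderOf x = p ^ k}

theorem tp_mem_normalizer_A (σ : Perm Y) :
    tp σ ∈ Subgroup.normalizer ((A p Y R : Subgroup (Perm (X p Y R))) : Set (Perm (X p Y R))) := by
  rw [Subgroup.mem_normalizer_iff]
  intro g
  constructor
  · rintro ⟨f, rfl⟩
    rw [tp_conj_bs]
    exact bs_mem_A _
  · intro h
    obtain ⟨f, hf⟩ := h
    have : g = (tp σ)⁻¹ * bs f * tp σ := by
      rw [← hf]; group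
    rw [this, ← tp_inv]
    have h2 := tp_conj_bs (R := R) σ⁻¹ f
    rw [tp_inv, inv_inv] at h2
    rw [tp_inv, h2]
    exact bs_mem_A _

theorem tr_mem_normalizer_A (u : Y → (ZMod p)ˣ) :
    tr u ∈ Subgroup.normalizer ((A p Y R : Subgroup (Perm (X p Y R))) : Set (Perm (X p Y R))) := by
  rw [Subgroup.mem_normalizer_iff]
  intro g
  constructor
  · rintro ⟨f, rfl⟩
    rw [tr_conj_bs]
    exact bs_mem_A _
  · intro h
    obtain ⟨f, hf⟩ := h
    have : g = (tr u)⁻¹ * bs f * tr u := by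
      rw [← hf]; group
    rw [this]
    have h2 := tr_conj_bs (R := R) u⁻¹ f
    rw [tr_inv, inv_inv] at h2
    rw [h2]
    exact bs_mem_A _

theorem CA_conj {g x : Perm (X p Y R)}
    (hg : g ∈ Subgroup.normalizer ((A p Y R : Subgroup (Perm (X p Y R))) : Set (Perm (X p Y R))))
    (hx : x ∈ CA p Y R) : g * x * g⁻¹ ∈ CA p Y R := by
  apply conj_mem_closure _ hx
  rintro x ⟨hxA, hxN, k, hk⟩
  refine ⟨?_, ?_, k, ?_⟩
  · rw [Perm.mem_alternatingGroup] at hxA ⊢
    rw [Perm.sign_mul, Perm.sign_mul, Perm.sign_inv, hxA, mul_one]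
    exact Int.units_mul_self _
  · exact Subgroup.mul_mem _ (Subgroup.mul_mem _ hg hxN) (Subgroup.inv_mem _ hg)
  · rw [← hk]
    have := (MulAut.conj g).orderOf_eq x
    rwa [MulAut.conj_apply] at this

theorem tp_mem_CA (hodd : Odd p) (hY : p ≤ Fintype.card Y) {τ : Perm Y}
    (hτ : τ ∈ alternatingGroup Y) : tp τ ∈ CA p Y R := by
  haveI : NeZero p := ⟨hp.out.ne_zero⟩
  have h1 := alternating_le_closure_pElements hodd hY hτ
  have hle : Subgroup.closure {σ : Perm Y | ∃ k : ℕ, orderOf σ = p ^ k} ≤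
      (CA p Y R).comap (tpHom (p := p) (R := R)) := by
    rw [Subgroup.closure_le]
    rintro σ ⟨k, hk⟩
    apply Subgroup.subset_closure
    refine ⟨?_, tp_mem_normalizer_A σ, k, ?_⟩
    · rw [Perm.mem_alternatingGroup, tpHom_apply, sign_tp]
      have : Perm.sign σ = 1 := by
        apply sign_eq_one_of_pow σ (Odd.pow hodd (n := k))
        rw [← hk, pow_orderOf_eq_one]
      rw [this, one_pow]
    · rw [tpHom_apply, orderOf_tp, hk]
  exact hle h1

/-- `t` at `y`, `t⁻¹` at `y₀` -/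
def kk (y y₀ : Y) (t : (ZMod p)ˣ) : Y → (ZMod p)ˣ :=
  fun z => if z = y then t else if z = y₀ then t⁻¹ else 1

theorem tr_kk_mem_CA (hodd : Odd p) (hY : p ≤ Fintype.card Y) {y y₀ : Y} (hne : y ≠ y₀)
    (t : (ZMod p)ˣ) : tr (kk y y₀ t) ∈ CA p Y R := by
  have h3 : 3 ≤ Fintype.card Y := by
    have h2 := hp.out.two_le
    have : p ≠ 2 := by
      rintro rfl
      exact absurd hodd (by decide)
    omega
  obtain ⟨y₃, hy₃⟩ : ∃ y₃, y₃ ≠ y ∧ y₃ ≠ y₀ := by
    by_contra hcon
    push Not at hcon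
    have : (Finset.univ : Finset Y) ⊆ {y, y₀} := by
      intro z _
      by_cases e' : z = y
      · simp [e']
      · simp [hcon z e']
    have := Finset.card_le_card this
    rw [Finset.card_univ] at this
    have h2 : ({y, y₀} : Finset Y).card ≤ 2 := Finset.card_le_two
    omega
  set τ : Perm Y := swap y y₀ * swap y₀ y₃ with hτ
  have hτy : τ y = y₀ := by
    rw [hτ, Perm.mul_apply, swap_apply_of_ne_of_ne hne hy₃.1.symm, swap_apply_left]
  have hτs : τ ∈ alternatingGroup Y := by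
    rw [Perm.mem_alternatingGroup, hτ, Perm.sign_mul, Perm.sign_swap hne,
      Perm.sign_swap hy₃.2.symm]
    rfl
  have h1 : tp τ ∈ CA p Y R := tp_mem_CA hodd hY hτs
  let v : Y → (ZMod p)ˣ := fun z => if z = y then t else 1
  have h2 : tr v * tp τ * (tr v)⁻¹ ∈ CA p Y R := CA_conj (tr_mem_normalizer_A v) h1
  have h4 : tr v * tp τ * (tr v)⁻¹ * (tp τ)⁻¹ ∈ CA p Y R :=
    Subgroup.mul_mem _ h2 (Subgroup.inv_mem _ h1)
  have e : tr (R := R) v * tp τ * (tr v)⁻¹ * (tp τ)⁻¹ = tr (kk y y₀ t) := by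
    have e1 : tr (R := R) v * tp τ * (tr v)⁻¹ * (tp τ)⁻¹ =
        tr v * (tp τ * tr v * (tp τ)⁻¹)⁻¹ := by group
    rw [e1, tp_conj_tr, ← tr_inv, ← tr_mul]
    congr 1
    funext z
    simp only [Pi.mul_apply, Pi.inv_apply, Function.comp_apply, kk, v]
    by_cases e2 : z = y
    · subst e2
      have : τ.symm z ≠ z := by
        intro h
        have := congrArg τ h
        rw [apply_symm_apply, hτy] at this
        exact hne this
      simp [this]
    · by_cases e3 : z = y₀
      · subst e3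
        have : τ.symm z = y := by
          rw [symm_apply_eq, hτy]
        simp [this, e2]
      · have : τ.symm z ≠ y := by
          intro h
          rw [symm_apply_eq, hτy] at h
          exact e3 h
        simp [this, e2, e3]
  rw [← e]
  exact h4

theorem tr_mem_CA (hodd : Odd p) (hY : p ≤ Fintype.card Y) {u : Y → (ZMod p)ˣ}
    (hu : ∏ y, u y = 1) : tr u ∈ CA p Y R := by
  have hpos : 0 < Fintype.card Y := lt_of_lt_of_le hp.out.pos hY
  obtain ⟨y₀⟩ : Nonempty Y := Fintype.card_pos_iff.1 hpos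
  have hu' : u = ∏ y ∈ Finset.univ.erase y₀, kk y y₀ (u y) := by
    funext z
    rw [Finset.prod_apply]
    by_cases hz : z = y₀
    · subst hz
      have h1 : ∀ y ∈ Finset.univ.erase z, kk y z (u y) z = (u y)⁻¹ := by
        intro y hy
        have : z ≠ y := (Finset.ne_of_mem_erase hy).symm
        simp [kk, this]
      rw [Finset.prod_congr rfl h1, Finset.prod_inv_distrib]
      have h2 := Finset.mul_prod_erase Finset.univ u (Finset.mem_univ z)
      rw [hu] at h2
      exact eq_inv_of_mul_eq_one_left h2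
    · rw [Finset.prod_eq_single z]
      · simp [kk]
      · intro y hy hyz
        have : y ≠ y₀ := Finset.ne_of_mem_erase hy
        simp [kk, hyz.symm, hz]
      · intro h
        exact absurd (Finset.mem_erase.2 ⟨hz, Finset.mem_univ z⟩) h
  have hsum : ∀ s : Finset Y, s ⊆ Finset.univ.erase y₀ →
      tr (R := R) (∏ y ∈ s, kk y y₀ (u y)) ∈ CA p Y R := by
    intro s
    induction s using Finset.induction_on with
    | empty =>
      intro _
      rw [Finset.prod_empty, tr_one]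
      exact Subgroup.one_mem _
    | insert y s hy ih =>
      intro hs
      rw [Finset.prod_insert hy, tr_mul]
      refine Subgroup.mul_mem _ ?_ (ih ((Finset.subset_insert _ _).trans hs))
      exact tr_kk_mem_CA hodd hY (Finset.ne_of_mem_erase (hs (Finset.mem_insert_self _ _))) _
  rw [hu']
  exact hsum _ (Finset.Subset.refl _)

/-- monomial even elements with trivial determinant are products of `p`-elements -/
theorem mono_mem_CA (hodd : Odd p) (hY : p ≤ Fintype.card Y) {τ : Perm Y} {u : Y → (ZMod p)ˣ}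
    (hu : ∏ y, u y = 1) (hA : tp τ * tr u ∈ alternatingGroup (X p Y R)) :
    tp τ * tr u ∈ CA p Y R := by
  haveI : NeZero p := ⟨hp.out.ne_zero⟩
  apply Subgroup.mul_mem _ _ (tr_mem_CA hodd hY hu)
  apply tp_mem_CA hodd hY
  rw [Perm.mem_alternatingGroup] at hA ⊢
  rw [Perm.sign_mul, sign_tr', hu, map_one, mul_one, sign_tp] at hA
  rcases Int.units_eq_one_or (Perm.sign τ) with h | h
  · exact h
  · rw [h, Odd.neg_one_pow hodd] at hA
    exact absurd hA (by decide)

theorem centralizer_A_le [Subsingleton R] :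
    Subgroup.centralizer ((A p Y R : Subgroup (Perm (X p Y R))) : Set (Perm (X p Y R))) ≤
      A p Y R := by
  intro c hc
  apply mem_A_of_comm
  intro f
  exact (Subgroup.mem_centralizer_iff.1 hc _ (bs_mem_A f)).symm

/-- the main generation statement for odd `p`, given special elements of every determinant -/
theorem gen_odd (hodd : Odd p) [Subsingleton R] (hY : p ≤ Fintype.card Y)
    (S' : Subgroup (Perm Y))
    (hspecial : ∀ t : (ZMod p)ˣ, ∃ (τ₀ : Perm Y) (u₀ : Y → (ZMod p)ˣ), ∏ y, u₀ y = t ∧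
      tp τ₀ * tr u₀ ∈ alternatingGroup (X p Y R) ∧
      tp τ₀ * tr u₀ ∈ Subgroup.normalizer
        ((wr p R S' : Subgroup (Perm (X p Y R))) : Set (Perm (X p Y R))) ∧
      tp τ₀ * tr u₀ ∈ Subgroup.closure
        {h : Perm (X p Y R) | GoodRel p (alternatingGroup (X p Y R)) (wr p R S') h})
    (h : Perm (X p Y R)) (hA : h ∈ alternatingGroup (X p Y R))
    (hN : h ∈ Subgroup.normalizer
      ((wr p R S' : Subgroup (Perm (X p Y R))) : Set (Perm (X p Y R)))) :
    h ∈ Subgroup.closure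
      {h : Perm (X p Y R) | GoodRel p (alternatingGroup (X p Y R)) (wr p R S') h} := by
  haveI : NeZero p := ⟨hp.out.ne_zero⟩
  obtain ⟨τ, u, f, rfl⟩ := exists_monomial (fun f => conj_bs_mem_A hN f)
    (fun f => conj_bs_mem_A (Subgroup.inv_mem _ hN) f)
  obtain ⟨τ₀, u₀, hu₀, h₀A, h₀N, h₀G⟩ := hspecial (∏ y, u y)
  have hbs : bs (R := R) f ∈ wr p R S' := A_le_wr _ (bs_mem_A f)
  have hbsG : bs (R := R) f ∈ Subgroup.closure
      {h : Perm (X p Y R) | GoodRel p (alternatingGroup (X p Y R)) (wr p R S') h} :=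
    Subgroup.subset_closure (Or.inl hbs)
  -- `h₁ = tp τ * tr u`
  have h₁N : tp τ * tr u ∈ Subgroup.normalizer
      ((wr p R S' : Subgroup (Perm (X p Y R))) : Set (Perm (X p Y R))) := by
    have := Subgroup.mul_mem _ hN (Subgroup.inv_mem _ (Subgroup.le_normalizer hbs))
    rwa [mul_inv_cancel_right] at this
  have h₁A : tp τ * tr u ∈ alternatingGroup (X p Y R) := by
    have hbsA : bs (R := R) f ∈ alternatingGroup (X p Y R) := by
      rw [Perm.mem_alternatingGroup]; exact sign_bs_of_odd hodd f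
    have := Subgroup.mul_mem _ hA (Subgroup.inv_mem _ hbsA)
    rwa [mul_inv_cancel_right] at this
  -- `h₂ = h₁ * h₀⁻¹`
  have e : tp (p := p) (R := R) τ * tr u * (tp τ₀ * tr u₀)⁻¹ =
      tp (τ * τ₀⁻¹) * tr ((u * u₀⁻¹) ∘ ⇑τ₀⁻¹) := by
    have e1 := tp_tr (R := R) τ₀⁻¹ ((u * u₀⁻¹) ∘ ⇑τ₀⁻¹)
    have e2 : ((u * u₀⁻¹) ∘ ⇑τ₀⁻¹) ∘ ⇑(τ₀⁻¹).symm = u * u₀⁻¹ := by
      funext z
      show (u * u₀⁻¹) (τ₀⁻¹ (τ₀ z)) = (u * u₀⁻¹) z
      have : τ₀⁻¹ (τ₀ z) = z := by simp
      rw [this]
    rw [e2] at e1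
    calc tp (p := p) (R := R) τ * tr u * (tp τ₀ * tr u₀)⁻¹
        = tp τ * (tr (u * u₀⁻¹) * tp τ₀⁻¹) := by
          rw [tr_mul, tr_inv, tp_inv]; group
      _ = tp τ * (tp τ₀⁻¹ * tr ((u * u₀⁻¹) ∘ ⇑τ₀⁻¹)) := by rw [e1]
      _ = tp (τ * τ₀⁻¹) * tr ((u * u₀⁻¹) ∘ ⇑τ₀⁻¹) := by rw [tp_mul, mul_assoc]
  have h₂prod : ∏ y, ((u * u₀⁻¹) ∘ ⇑τ₀⁻¹) y = 1 := by
    simp only [Function.comp_apply]
    rw [Equiv.prod_comp τ₀⁻¹ (u * u₀⁻¹)]
    simp only [Pi.mul_apply, Pi.inv_apply]
    rw [Finset.prod_mul_distrib, Finset.prod_inv_distrib, hu₀, mul_inv_cancel]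
  have h₂A : tp (p := p) (R := R) (τ * τ₀⁻¹) * tr ((u * u₀⁻¹) ∘ ⇑τ₀⁻¹) ∈
      alternatingGroup (X p Y R) := by
    rw [← e]
    exact Subgroup.mul_mem _ h₁A (Subgroup.inv_mem _ h₀A)
  have h₂N : tp (p := p) (R := R) (τ * τ₀⁻¹) * tr ((u * u₀⁻¹) ∘ ⇑τ₀⁻¹) ∈ Subgroup.normalizer
      ((wr p R S' : Subgroup (Perm (X p Y R))) : Set (Perm (X p Y R))) := by
    rw [← e]
    exact Subgroup.mul_mem _ h₁N (Subgroup.inv_mem _ h₀N)
  have h₂C := mono_mem_CA hodd hY h₂prod h₂A
  have h₂G : tp (p := p) (R := R) (τ * τ₀⁻¹) * tr ((u * u₀⁻¹) ∘ ⇑τ₀⁻¹) ∈ Subgroup.closure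
      {h : Perm (X p Y R) | GoodRel p (alternatingGroup (X p Y R)) (wr p R S') h} := by
    apply Subgroup.subset_closure
    right
    refine ⟨h₂A, h₂N, A p Y R, A_le_wr _, inf_le_left.trans centralizer_A_le, h₂C⟩
  have hfinal : tp (p := p) (R := R) τ * tr u * bs f =
      (tp (τ * τ₀⁻¹) * tr ((u * u₀⁻¹) ∘ ⇑τ₀⁻¹)) * (tp τ₀ * tr u₀) * bs f := by
    rw [← e]; group
  rw [hfinal]
  exact Subgroup.mul_mem _ (Subgroup.mul_mem _ h₂G h₀G) hbsG

end Odd

end Cfsg.Agent.Lib.H25.Alt
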