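import Mathlib
import Cfsg.Agent.Lib.H25.AltH

set_option autoImplicit false

/-!
# The two-level model: shears and the diagonal elements (helper25)

`XX = X p (X p Y' R') R`; the blocks of size `p²` are `{y'} × ZMod p × ZMod p`.
-/

namespace Cfsg.Agent.Lib.H25.Alt

open Equiv

variable {p : ℕ} {Y' R' R : Type*}

/-- the big set -/
abbrev XX (p : ℕ) (Y' R' R : Type*) := X p (X p Y' R') R

/-- points of the first kind -/
abbrev P1 (R' R : Type*) (y' : Y') (x₂ x₁ : ZMod p) : XX p Y' R' R :=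
  Sum.inl (Sum.inl (y', x₂), x₁)

/-- points of the second kind -/
abbrev P2 (Y' R : Type*) (r' : R') (x₁ : ZMod p) : XX p Y' R' R := Sum.inl (Sum.inr r', x₁)

/-- points of the third kind -/
abbrev P3 (p : ℕ) (Y' R' : Type*) (r : R) : XX p Y' R' R := Sum.inr r

/-- the shear `(x₂, x₁) ↦ (x₂ + a x₁, x₁)` on the blocks of size `p²` -/
def EE (R' R : Type*) (a : Y' → ZMod p) : Perm (XX p Y' R' R) where
  toFun z := match z with
    | Sum.inl (Sum.inl (y', x₂), x₁) => Sum.inl (Sum.inl (y', x₂ + a y' * x₁), x₁)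
    | Sum.inl (Sum.inr r', x₁) => Sum.inl (Sum.inr r', x₁)
    | Sum.inr r => Sum.inr r
  invFun z := match z with
    | Sum.inl (Sum.inl (y', x₂), x₁) => Sum.inl (Sum.inl (y', x₂ - a y' * x₁), x₁)
    | Sum.inl (Sum.inr r', x₁) => Sum.inl (Sum.inr r', x₁)
    | Sum.inr r => Sum.inr r
  left_inv z := by
    rcases z with ⟨⟨y', x₂⟩ | r', x₁⟩ | r <;> simp
  right_inv z := by
    rcases z with ⟨⟨y', x₂⟩ | r', x₁⟩ | r <;> simp

@[simp] theorem EE_P1 (a : Y' → ZMod p) (y' : Y') (x₂ x₁ : ZMod p) :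
    EE R' R a (Sum.inl (Sum.inl (y', x₂), x₁)) = Sum.inl (Sum.inl (y', x₂ + a y' * x₁), x₁) := rfl

@[simp] theorem EE_P2 (a : Y' → ZMod p) (r' : R') (x₁ : ZMod p) :
    EE R' R a (Sum.inl (Sum.inr r', x₁)) = Sum.inl (Sum.inr r', x₁) := rfl

@[simp] theorem EE_P3 (a : Y' → ZMod p) (r : R) :
    EE R' R a (Sum.inr r) = Sum.inr r := rfl

theorem EE_add (a b : Y' → ZMod p) : EE R' R (a + b) = EE R' R a * EE R' R b := by
  ext z
  rcases z with ⟨⟨y', x₂⟩ | r', x₁⟩ | r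
  · simp only [Perm.mul_apply, EE_P1, Pi.add_apply, Sum.inl.injEq, Prod.mk.injEq, true_and,
      and_true]
    ring
  · simp
  · simp

@[simp] theorem EE_zero : EE R' R (0 : Y' → ZMod p) = 1 := by
  ext z
  rcases z with ⟨⟨y', x₂⟩ | r', x₁⟩ | r <;> simp

theorem EE_neg (a : Y' → ZMod p) : EE R' R (-a) = (EE R' R a)⁻¹ := by
  rw [eq_inv_iff_mul_eq_one, ← EE_add, neg_add_cancel, EE_zero]

theorem EE_nsmul (a : Y' → ZMod p) (k : ℕ) : EE R' R (k • a) = EE R' R a ^ k := by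
  induction k with
  | zero => simp
  | succ k ih => rw [succ_nsmul, EE_add, ih, pow_succ]

theorem EE_pow_p [NeZero p] (a : Y' → ZMod p) : EE R' R a ^ p = 1 := by
  rw [← EE_nsmul]
  have : p • a = 0 := by
    funext y
    simp
  rw [this, EE_zero]

/-- the function defining the shear `(x₂, x₁) ↦ (x₂, x₁ + b x₂)` -/
def fb (R' : Type*) (b : Y' → ZMod p) : X p Y' R' → ZMod p :=
  Sum.elim (fun q => b q.1 * q.2) (fun _ => 0)

/-- the shear `(x₂, x₁) ↦ (x₂, x₁ + b x₂)` -/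
def FF (R' R : Type*) (b : Y' → ZMod p) : Perm (XX p Y' R' R) := bs (fb R' b)

@[simp] theorem FF_P1 (b : Y' → ZMod p) (y' : Y') (x₂ x₁ : ZMod p) :
    FF R' R b (Sum.inl (Sum.inl (y', x₂), x₁)) = Sum.inl (Sum.inl (y', x₂), x₁ + b y' * x₂) := rfl

@[simp] theorem FF_P2 (b : Y' → ZMod p) (r' : R') (x₁ : ZMod p) :
    FF R' R b (Sum.inl (Sum.inr r', x₁)) = Sum.inl (Sum.inr r', x₁ + 0) := rfl

@[simp] theorem FF_P3 (b : Y' → ZMod p) (r : R) :
    FF R' R b (Sum.inr r) = Sum.inr r := rfl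

/-- block-constant functions -/
def blk (F : Y' → ZMod p) (e : R' → ZMod p) : X p Y' R' → ZMod p :=
  Sum.elim (fun q => F q.1) e

/-- the translations of the blocks of size `p²` (and of the remaining blocks of size `p`) -/
def TT (R : Type*) (g F : Y' → ZMod p) (e : R' → ZMod p) : Perm (XX p Y' R' R) :=
  bs (blk F e) * tp (bs g)

@[simp] theorem TT_P1 (g F : Y' → ZMod p) (e : R' → ZMod p) (y' : Y') (x₂ x₁ : ZMod p) :
    TT R g F e (Sum.inl (Sum.inl (y', x₂), x₁)) =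
      Sum.inl (Sum.inl (y', x₂ + g y'), x₁ + F y') := rfl

@[simp] theorem TT_P2 (g F : Y' → ZMod p) (e : R' → ZMod p) (r' : R') (x₁ : ZMod p) :
    TT R g F e (Sum.inl (Sum.inr r', x₁)) = Sum.inl (Sum.inr r', x₁ + e r') := rfl

@[simp] theorem TT_P3 (g F : Y' → ZMod p) (e : R' → ZMod p) (r : R) :
    TT R g F e (Sum.inr r) = Sum.inr r := rfl

theorem TT_mul (g F : Y' → ZMod p) (e : R' → ZMod p) (g' F' : Y' → ZMod p) (e' : R' → ZMod p) :
    TT R g F e * TT R g' F' e' = TT R (g + g') (F + F') (e + e') := by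
  ext z
  rcases z with ⟨⟨y', x₂⟩ | r', x₁⟩ | r
  · simp only [Perm.mul_apply, TT_P1, Pi.add_apply, Sum.inl.injEq, Prod.mk.injEq, true_and]
    constructor <;> ring
  · simp only [Perm.mul_apply, TT_P2, Pi.add_apply, Sum.inl.injEq, Prod.mk.injEq, true_and]
    ring
  · simp

@[simp] theorem TT_zero : TT R (0 : Y' → ZMod p) 0 (0 : R' → ZMod p) = 1 := by
  ext z
  rcases z with ⟨⟨y', x₂⟩ | r', x₁⟩ | r <;> simp

theorem TT_inv (g F : Y' → ZMod p) (e : R' → ZMod p) :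
    (TT R g F e)⁻¹ = TT R (-g) (-F) (-e) := by
  rw [inv_eq_iff_mul_eq_one, TT_mul]
  simp

/-- the group of translations -/
def PT (p : ℕ) (Y' R' R : Type*) : Subgroup (Perm (XX p Y' R' R)) where
  carrier := {c | ∃ (g F : Y' → ZMod p) (e : R' → ZMod p), c = TT R g F e}
  mul_mem' := by
    rintro _ _ ⟨g, F, e, rfl⟩ ⟨g', F', e', rfl⟩
    exact ⟨_, _, _, TT_mul _ _ _ _ _ _⟩
  one_mem' := ⟨0, 0, 0, TT_zero.symm⟩
  inv_mem' := by
    rintro _ ⟨g, F, e, rfl⟩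
    exact ⟨_, _, _, TT_inv _ _ _⟩

theorem TT_mem_PT (g F : Y' → ZMod p) (e : R' → ZMod p) : TT R g F e ∈ PT p Y' R' R :=
  ⟨g, F, e, rfl⟩

theorem PT_le_wr (S'' : Subgroup (Perm Y')) :
    PT p Y' R' R ≤ wr p R (wr p R' S'') := by
  rintro _ ⟨g, F, e, rfl⟩
  exact ⟨_, _, A_le_wr _ (bs_mem_A g), rfl⟩

theorem EE_conj_TT (a g F : Y' → ZMod p) (e : R' → ZMod p) :
    EE R' R a * TT R g F e * (EE R' R a)⁻¹ = TT R (g + a * F) F e := by
  rw [← EE_neg]
  ext z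
  rcases z with ⟨⟨y', x₂⟩ | r', x₁⟩ | r
  · simp only [Perm.mul_apply, EE_P1, TT_P1, Pi.neg_apply, Pi.add_apply, Pi.mul_apply,
      Sum.inl.injEq, Prod.mk.injEq, true_and, and_true]
    ring
  · simp
  · simp

theorem FF_conj_TT (b g F : Y' → ZMod p) (e : R' → ZMod p) :
    FF R' R b * TT R g F e * (FF R' R b)⁻¹ = TT R g (F + b * g) e := by
  have hinv : (FF R' R b)⁻¹ = FF R' R (-b) := by
    unfold FF
    rw [← bs_neg]
    congr 1
    funext z
    rcases z with ⟨y', x₂⟩ | r' <;> simp [fb]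
  rw [hinv]
  ext z
  rcases z with ⟨⟨y', x₂⟩ | r', x₁⟩ | r
  · simp only [Perm.mul_apply, FF_P1, TT_P1, Pi.neg_apply, Pi.add_apply, Pi.mul_apply,
      Sum.inl.injEq, Prod.mk.injEq, true_and]
    ring
  · simp
  · simp

theorem mem_normalizer_of_forall_conj_mem {G : Type*} [Group G] {H : Subgroup G} {g : G}
    (h1 : ∀ x ∈ H, g * x * g⁻¹ ∈ H) (h2 : ∀ x ∈ H, g⁻¹ * x * g ∈ H) :
    g ∈ Subgroup.normalizer (H : Set G) := by
  rw [Subgroup.mem_normalizer_iff]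
  intro x
  constructor
  · exact h1 x
  · intro hx
    have := h2 _ hx
    have e : g⁻¹ * (g * x * g⁻¹) * g = x := by group
    rwa [e] at this

theorem EE_mem_normalizer (a : Y' → ZMod p) :
    EE R' R a ∈ Subgroup.normalizer ((PT p Y' R' R : Subgroup _) : Set (Perm (XX p Y' R' R))) := by
  apply mem_normalizer_of_forall_conj_mem
  · rintro _ ⟨g, F, e, rfl⟩
    rw [EE_conj_TT]
    exact TT_mem_PT _ _ _
  · rintro _ ⟨g, F, e, rfl⟩
    have := EE_conj_TT (R := R) (-a) g F e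
    rw [EE_neg, inv_inv] at this
    rw [this]
    exact TT_mem_PT _ _ _

theorem FF_mem_normalizer (b : Y' → ZMod p) :
    FF R' R b ∈ Subgroup.normalizer ((PT p Y' R' R : Subgroup _) : Set (Perm (XX p Y' R' R))) := by
  have hinv : (FF R' R b)⁻¹ = FF R' R (-b) := by
    unfold FF
    rw [← bs_neg]
    congr 1
    funext z
    rcases z with ⟨y', x₂⟩ | r' <;> simp [fb]
  apply mem_normalizer_of_forall_conj_mem
  · rintro _ ⟨g, F, e, rfl⟩
    rw [FF_conj_TT]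
    exact TT_mem_PT _ _ _
  · rintro _ ⟨g, F, e, rfl⟩
    have := FF_conj_TT (R := R) (-b) g F e
    rw [← hinv, inv_inv] at this
    rw [this]
    exact TT_mem_PT _ _ _

/-- the diagonal element `(x₂, x₁) ↦ (s x₂, s⁻¹ x₁)` -/
def DD (R' R : Type*) (s : Y' → (ZMod p)ˣ) : Perm (XX p Y' R' R) :=
  tp (tr (R := R') s) * tr (Sum.elim (fun q => (s q.1)⁻¹) (fun _ => 1))

theorem DD_P1 (s : Y' → (ZMod p)ˣ) (y' : Y') (x₂ x₁ : ZMod p) :
    DD R' R s (Sum.inl (Sum.inl (y', x₂), x₁)) =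
      Sum.inl (Sum.inl (y', (s y' : ZMod p) * x₂), ((s y')⁻¹ : (ZMod p)ˣ) * x₁) := rfl

theorem DD_P2 (s : Y' → (ZMod p)ˣ) (r' : R') (x₁ : ZMod p) :
    DD R' R s (Sum.inl (Sum.inr r', x₁)) = Sum.inl (Sum.inr r', ((1 : (ZMod p)ˣ) : ZMod p) * x₁) :=
  rfl

theorem DD_P3 (s : Y' → (ZMod p)ˣ) (r : R) : DD R' R s (Sum.inr r) = Sum.inr r := rfl

/-- the diagonal element as a product of shears -/
theorem DD_eq (s : Y' → (ZMod p)ˣ) :
    DD R' R s = EE R' R (fun y' => (s y' : ZMod p)) * FF R' R (fun y' => -(((s y')⁻¹ : (ZMod p)ˣ) : ZMod p)) *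
      EE R' R (fun y' => (s y' : ZMod p)) * EE R' R (fun _ => -1) * FF R' R (fun _ => 1) *
      EE R' R (fun _ => -1) := by
  ext z
  rcases z with ⟨⟨y', x₂⟩ | r', x₁⟩ | r
  · rw [DD_P1]
    simp only [Perm.mul_apply, EE_P1, FF_P1, Sum.inl.injEq, Prod.mk.injEq, true_and]
    have hs : (s y' : ZMod p) * (((s y')⁻¹ : (ZMod p)ˣ) : ZMod p) = 1 := by
      rw [← Units.val_mul, mul_inv_cancel, Units.val_one]
    constructor
    · linear_combination (-x₁ + (s y' : ZMod p) * x₂) * hs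
    · linear_combination x₂ * hs
  · rw [DD_P2]
    simp
  · rw [DD_P3]
    simp

end Cfsg.Agent.Lib.H25.Alt
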