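import Mathlib
import Cfsg.Agent.Lib.H25.AltI

set_option autoImplicit false

/-!
# The special diagonal elements are good (helper25)
-/

namespace Cfsg.Agent.Lib.H25.Alt

open Equiv Cfsg.Agent.Lib.H25.AltCrit

variable {p : ℕ} {Y' R' R : Type*}

/-- a permutation commuting with all translations is a translation -/
theorem mem_PT_of_comm [hp : Fact p.Prime] [DecidableEq Y'] [DecidableEq R'] [Subsingleton R]
    {c : Perm (XX p Y' R' R)}
    (hc : ∀ (g F : Y' → ZMod p) (e : R' → ZMod p), c * TT R g F e = TT R g F e * c) :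
    c ∈ PT p Y' R' R := by
  have h01 : (0 : ZMod p) ≠ 1 := zero_ne_one
  -- blocks of size `p²`
  have key1 : ∀ (y' : Y') (x₂ x₁ : ZMod p) (w : XX p Y' R' R),
      c (Sum.inl (Sum.inl (y', 0), 0)) = w →
      c (Sum.inl (Sum.inl (y', x₂), x₁)) = TT R (Pi.single y' x₂) (Pi.single y' x₁) 0 w := by
    intro y' x₂ x₁ w hw
    have h1 := congrArg (fun e => e (Sum.inl (Sum.inl (y', 0), 0)))
      (hc (Pi.single y' x₂) (Pi.single y' x₁) 0)
    simp only [Perm.mul_apply, TT_P1, Pi.single_eq_same, zero_add] at h1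
    rw [h1, hw]
  have hblock1 : ∀ y' : Y', ∃ c₂ c₁ : ZMod p,
      c (Sum.inl (Sum.inl (y', 0), 0)) = Sum.inl (Sum.inl (y', c₂), c₁) := by
    intro y'
    rcases hw : c (Sum.inl (Sum.inl (y', 0), 0)) with ⟨⟨y'', c₂⟩ | r', c₁⟩ | r
    · by_cases hy : y'' = y'
      · subst hy
        exact ⟨c₂, c₁, rfl⟩
      · exfalso
        have h1 := key1 y' 1 0 _ hw
        rw [TT_P1, Pi.single_eq_of_ne hy, Pi.single_eq_of_ne hy, add_zero, add_zero, ← hw] at h1
        have := c.injective h1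
        simp only [Sum.inl.injEq, Prod.mk.injEq, true_and, and_true] at this
        exact h01 this.symm
    · exfalso
      have h1 := key1 y' 1 0 _ hw
      rw [TT_P2, Pi.zero_apply, add_zero, ← hw] at h1
      have := c.injective h1
      simp only [Sum.inl.injEq, Prod.mk.injEq, true_and, and_true] at this
      exact h01 this.symm
    · exfalso
      have h1 := key1 y' 1 0 _ hw
      rw [TT_P3, ← hw] at h1
      have := c.injective h1
      simp only [Sum.inl.injEq, Prod.mk.injEq, true_and, and_true] at this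
      exact h01 this.symm
  choose g F hgF using hblock1
  have hP1 : ∀ y' x₂ x₁, c (Sum.inl (Sum.inl (y', x₂), x₁)) =
      Sum.inl (Sum.inl (y', x₂ + g y'), x₁ + F y') := by
    intro y' x₂ x₁
    rw [key1 y' x₂ x₁ _ (hgF y'), TT_P1, Pi.single_eq_same, Pi.single_eq_same, add_comm (g y'),
      add_comm (F y')]
  -- blocks of size `p`
  have key2 : ∀ (r' : R') (x₁ : ZMod p) (w : XX p Y' R' R),
      c (Sum.inl (Sum.inr r', 0)) = w →
      c (Sum.inl (Sum.inr r', x₁)) = TT R 0 0 (Pi.single r' x₁) w := by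
    intro r' x₁ w hw
    have h1 := congrArg (fun e => e (Sum.inl (Sum.inr r', 0)))
      (hc 0 0 (Pi.single r' x₁))
    simp only [Perm.mul_apply, TT_P2, Pi.single_eq_same, zero_add] at h1
    rw [h1, hw]
  have hblock2 : ∀ r' : R', ∃ c₁ : ZMod p,
      c (Sum.inl (Sum.inr r', 0)) = Sum.inl (Sum.inr r', c₁) := by
    intro r'
    rcases hw : c (Sum.inl (Sum.inr r', 0)) with ⟨⟨y'', c₂⟩ | r'', c₁⟩ | r
    · exfalso
      have h1 := key2 r' 1 _ hw
      simp only [TT_P1, Pi.zero_apply, add_zero] at h1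
      rw [← hw] at h1
      have := c.injective h1
      simp only [Sum.inl.injEq, Prod.mk.injEq, true_and] at this
      exact h01 this.symm
    · by_cases hy : r'' = r'
      · subst hy
        exact ⟨c₁, rfl⟩
      · exfalso
        have h1 := key2 r' 1 _ hw
        rw [TT_P2, Pi.single_eq_of_ne hy, add_zero, ← hw] at h1
        have := c.injective h1
        simp only [Sum.inl.injEq, Prod.mk.injEq, true_and] at this
        exact h01 this.symm
    · exfalso
      have h1 := key2 r' 1 _ hw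
      rw [TT_P3, ← hw] at h1
      have := c.injective h1
      simp only [Sum.inl.injEq, Prod.mk.injEq, true_and] at this
      exact h01 this.symm
  choose e he using hblock2
  have hP2 : ∀ r' x₁, c (Sum.inl (Sum.inr r', x₁)) = Sum.inl (Sum.inr r', x₁ + e r') := by
    intro r' x₁
    rw [key2 r' x₁ _ (he r'), TT_P2, Pi.single_eq_same, add_comm]
  refine ⟨g, F, e, ?_⟩
  ext z
  rcases z with ⟨⟨y', x₂⟩ | r', x₁⟩ | r
  · rw [hP1, TT_P1]
  · rw [hP2, TT_P2]
  · rw [TT_P3]
    rcases hw : c (Sum.inr r) with ⟨⟨y'', c₂⟩ | r'', c₁⟩ | r₂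
    · exfalso
      have h1 : c (Sum.inl (Sum.inl (y'', c₂ - g y''), c₁ - F y'')) =
          Sum.inl (Sum.inl (y'', c₂), c₁) := by
        rw [hP1, sub_add_cancel, sub_add_cancel]
      rw [← hw] at h1
      have := c.injective h1
      simp at this
    · exfalso
      have h1 : c (Sum.inl (Sum.inr r'', c₁ - e r'')) = Sum.inl (Sum.inr r'', c₁) := by
        rw [hP2, sub_add_cancel]
      rw [← hw] at h1
      have := c.injective h1
      simp at this
    · rw [Subsingleton.elim r₂ r]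

variable [Fintype Y'] [DecidableEq Y'] [Fintype R'] [DecidableEq R'] [Fintype R] [DecidableEq R]

section

variable [hp : Fact p.Prime]

theorem exists_pow_of_pow_p_eq_one {G : Type*} [Group G] {x : G} (h : x ^ p = 1) :
    ∃ k : ℕ, orderOf x = p ^ k := by
  have := orderOf_dvd_of_pow_eq_one h
  rcases (Nat.dvd_prime hp.out).1 this with h1 | h1
  · exact ⟨0, by rw [h1, pow_zero]⟩
  · exact ⟨1, by rw [h1, pow_one]⟩

/-- the set of `p`-elements of the alternating group normalizing the translation group -/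
def PEl (p : ℕ) [Fact p.Prime] (Y' R' R : Type*) [Fintype Y'] [DecidableEq Y'] [Fintype R']
    [DecidableEq R'] [Fintype R] [DecidableEq R] : Set (Perm (XX p Y' R' R)) :=
  {x | x ∈ alternatingGroup (XX p Y' R' R) ∧
    x ∈ Subgroup.normalizer ((PT p Y' R' R : Subgroup _) : Set (Perm (XX p Y' R' R))) ∧
    ∃ k : ℕ, orderOf x = p ^ k}

theorem EE_mem_PEl (hodd : Odd p) (a : Y' → ZMod p) : EE R' R a ∈ PEl p Y' R' R := by
  haveI : NeZero p := ⟨hp.out.ne_zero⟩
  refine ⟨?_, EE_mem_normalizer a, exists_pow_of_pow_p_eq_one (EE_pow_p a)⟩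
  rw [Perm.mem_alternatingGroup]
  exact sign_eq_one_of_pow _ hodd (EE_pow_p a)

theorem FF_mem_PEl (hodd : Odd p) (b : Y' → ZMod p) : FF R' R b ∈ PEl p Y' R' R := by
  haveI : NeZero p := ⟨hp.out.ne_zero⟩
  refine ⟨?_, FF_mem_normalizer b, exists_pow_of_pow_p_eq_one (bs_pow_p _)⟩
  rw [Perm.mem_alternatingGroup]
  exact sign_eq_one_of_pow _ hodd (bs_pow_p _)

theorem DD_mem_closure (hodd : Odd p) (s : Y' → (ZMod p)ˣ) :
    DD R' R s ∈ Subgroup.closure (PEl p Y' R' R) := by
  rw [DD_eq]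
  have hE := fun a : Y' → ZMod p =>
    Subgroup.subset_closure (EE_mem_PEl (R' := R') (R := R) hodd a)
  have hF := fun b : Y' → ZMod p =>
    Subgroup.subset_closure (FF_mem_PEl (R' := R') (R := R) hodd b)
  exact Subgroup.mul_mem _ (Subgroup.mul_mem _ (Subgroup.mul_mem _ (Subgroup.mul_mem _
    (Subgroup.mul_mem _ (hE _) (hF _)) (hE _)) (hE _)) (hF _)) (hE _)

end

/-! ### Normalizers of wreath products -/

section Norm

variable {Y R₀ : Type*}

omit [Fintype Y'] [DecidableEq Y'] [Fintype R'] [DecidableEq R'] [Fintype R] [DecidableEq R] in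
theorem tr_mem_normalizer_wr {S' : Subgroup (Perm Y)} (u : Y → (ZMod p)ˣ)
    (hu : ∀ σ ∈ S', ∀ y, u (σ y) = u y) :
    tr u ∈ Subgroup.normalizer ((wr p R₀ S' : Subgroup _) : Set (Perm (X p Y R₀))) := by
  have key : ∀ (v : Y → (ZMod p)ˣ), (∀ σ ∈ S', ∀ y, v (σ y) = v y) →
      ∀ x ∈ wr p R₀ S', tr v * x * (tr v)⁻¹ ∈ wr p R₀ S' := by
    rintro v hv _ ⟨f, σ, hσ, rfl⟩
    have h1 : tr (R := R₀) v * tp σ = tp σ * tr v := by
      have := tp_tr (R := R₀) σ (v ∘ σ)
      have e : (v ∘ σ) ∘ σ.symm = v := by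
        funext y; simp
      rw [e] at this
      have e2 : v ∘ σ = v := by
        funext y; exact hv σ hσ y
      rw [e2] at this
      exact this.symm
    refine ⟨fun y => (v y : ZMod p) * f y, σ, hσ, ?_⟩
    rw [← mul_assoc, tr_bs, mul_assoc (bs _), h1]
    group
  apply mem_normalizer_of_forall_conj_mem
  · exact key u hu
  · intro x hx
    have := key u⁻¹ (fun σ hσ y => by simp [hu σ hσ y]) x hx
    rwa [tr_inv, inv_inv] at this

omit [Fintype Y'] [DecidableEq Y'] [Fintype R'] [DecidableEq R'] [Fintype R] [DecidableEq R] in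
theorem tp_mem_normalizer_wr {S' : Subgroup (Perm Y)} {τ : Perm Y}
    (hτ : τ ∈ Subgroup.normalizer ((S' : Subgroup (Perm Y)) : Set (Perm Y))) :
    tp τ ∈ Subgroup.normalizer ((wr p R₀ S' : Subgroup _) : Set (Perm (X p Y R₀))) := by
  have key : ∀ (ρ : Perm Y), ρ ∈ Subgroup.normalizer ((S' : Subgroup (Perm Y)) : Set (Perm Y)) →
      ∀ x ∈ wr p R₀ S', tp ρ * x * (tp ρ)⁻¹ ∈ wr p R₀ S' := by
    rintro ρ hρ _ ⟨f, σ, hσ, rfl⟩
    refine ⟨f ∘ ρ.symm, ρ * σ * ρ⁻¹, (Subgroup.mem_normalizer_iff.1 hρ σ).1 hσ, ?_⟩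
    rw [← mul_assoc, tp_bs, tp_mul, tp_mul, tp_inv]
    group
  apply mem_normalizer_of_forall_conj_mem
  · exact key τ hτ
  · intro x hx
    have := key τ⁻¹ (Subgroup.inv_mem _ hτ) x hx
    rwa [tp_inv, inv_inv] at this

end Norm

omit [Fintype Y'] [DecidableEq Y'] [Fintype R'] [DecidableEq R'] [Fintype R] [DecidableEq R] in
theorem DD_mem_normalizer {S'' : Subgroup (Perm Y')} (s : Y' → (ZMod p)ˣ)
    (hs : ∀ σ ∈ S'', ∀ y', s (σ y') = s y') :
    DD R' R s ∈ Subgroup.normalizer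
      ((wr p R (wr p R' S'') : Subgroup _) : Set (Perm (XX p Y' R' R))) := by
  unfold DD
  apply Subgroup.mul_mem
  · exact tp_mem_normalizer_wr (tr_mem_normalizer_wr s hs)
  · apply tr_mem_normalizer_wr
    rintro _ ⟨f, σ, hσ, rfl⟩ y
    rcases y with ⟨y', x⟩ | r'
    · rw [bs_tp_apply_inl]
      simp only [Sum.elim_inl]
      rw [hs σ hσ y']
    · rw [bs_tp_apply_inr]

end Cfsg.Agent.Lib.H25.Alt
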