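import Mathlib
import Cfsg.Agent.Lib.H25.AltJ

set_option autoImplicit false

/-!
# The special elements of every determinant (helper25)
-/

namespace Cfsg.Agent.Lib.H25.Alt

open Equiv Cfsg.Agent.Lib.H25.AltCrit

variable {p : ℕ} {Y' R' R : Type*}

variable [Fintype Y'] [DecidableEq Y'] [Fintype R'] [DecidableEq R'] [Fintype R] [DecidableEq R]

variable [hp : Fact p.Prime]

omit [Fintype Y'] [DecidableEq Y'] [Fintype R'] [DecidableEq R'] [Fintype R] [DecidableEq R] in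
theorem units_pow_p (t : (ZMod p)ˣ) : t ^ p = t := by
  apply Units.ext
  rw [Units.val_pow_eq_pow_val, ZMod.pow_card]

omit [Fintype Y'] [DecidableEq Y'] [Fintype R'] [DecidableEq R'] [Fintype R] [DecidableEq R] in
theorem units_pow_p_pow (t : (ZMod p)ˣ) (j : ℕ) : t ^ (p ^ j) = t := by
  induction j with
  | zero => rw [pow_zero, pow_one]
  | succ j ih => rw [pow_succ, pow_mul, ih, units_pow_p]

/-- the special scalar function -/
def ss (O : Finset Y') (t : (ZMod p)ˣ) : Y' → (ZMod p)ˣ := fun y' => if y' ∈ O then t⁻¹ else 1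

omit [Fintype R'] [DecidableEq R'] [Fintype R] [DecidableEq R] in
theorem prod_ss (O : Finset Y') (t : (ZMod p)ˣ) {j : ℕ} (hj : O.card = p ^ j) :
    ∏ y', ss O t y' = t⁻¹ := by
  unfold ss
  rw [Finset.prod_ite_mem, Finset.univ_inter, Finset.prod_const, hj, units_pow_p_pow]

/-- the second scalar function -/
def uu (R' : Type*) (s : Y' → (ZMod p)ˣ) : X p Y' R' → (ZMod p)ˣ :=
  Sum.elim (fun q => (s q.1)⁻¹) (fun _ => 1)

omit [DecidableEq Y'] [DecidableEq R'] [Fintype R] [DecidableEq R] in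
theorem prod_uu (s : Y' → (ZMod p)ˣ) : ∏ y, uu R' s y = ((∏ y', s y')⁻¹) ^ p := by
  haveI : NeZero p := ⟨hp.out.ne_zero⟩
  unfold uu
  rw [Fintype.prod_sum_type]
  simp only [Sum.elim_inl, Sum.elim_inr, Finset.prod_const_one, mul_one]
  rw [Fintype.prod_prod_type]
  simp only [Finset.prod_const, Finset.card_univ, ZMod.card]
  rw [Finset.prod_pow, Finset.prod_inv_distrib]

omit [Fintype Y'] [DecidableEq Y'] [Fintype R'] [DecidableEq R'] [Fintype R] [DecidableEq R] in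
theorem DD_eq_tp_tr (s : Y' → (ZMod p)ˣ) :
    DD R' R s = tp (tr (R := R') s) * tr (uu R' s) := rfl

theorem sign_DD (s : Y' → (ZMod p)ˣ) : Perm.sign (DD R' R s) = 1 := by
  haveI : NeZero p := ⟨hp.out.ne_zero⟩
  rw [DD_eq_tp_tr, Perm.sign_mul, sign_tp, sign_tr', sign_tr', prod_uu, map_pow, map_inv]
  rw [← mul_pow, mul_inv_cancel, one_pow]

theorem ss_invariant (O : Finset Y') (t : (ZMod p)ˣ) (S'' : Subgroup (Perm Y'))
    (hO : ∀ σ ∈ S'', ∀ y', σ y' ∈ O ↔ y' ∈ O) :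
    ∀ σ ∈ S'', ∀ y', ss O t (σ y') = ss O t y' := by
  intro σ hσ y'
  unfold ss
  by_cases h : y' ∈ O
  · rw [if_pos h, if_pos ((hO σ hσ y').2 h)]
  · rw [if_neg h, if_neg (fun h' => h ((hO σ hσ y').1 h'))]

/-- the special elements are good -/
theorem DD_good (hodd : Odd p) [Subsingleton R] (S'' : Subgroup (Perm Y')) (s : Y' → (ZMod p)ˣ)
    (hs : ∀ σ ∈ S'', ∀ y', s (σ y') = s y') :
    DD R' R s ∈ Subgroup.closure {h : Perm (XX p Y' R' R) |
      GoodRel p (alternatingGroup (XX p Y' R' R)) (wr p R (wr p R' S'')) h} := by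
  apply Subgroup.subset_closure
  right
  refine ⟨?_, DD_mem_normalizer s hs, PT p Y' R' R, PT_le_wr S'', ?_, ?_⟩
  · rw [Perm.mem_alternatingGroup]
    exact sign_DD s
  · intro c hc
    apply mem_PT_of_comm
    intro g F e
    exact ((Subgroup.mem_centralizer_iff.1 hc.1) _ (TT_mem_PT g F e)).symm
  · exact DD_mem_closure hodd s

/-- special elements from an invariant set of `p`-power size -/
theorem special_of_invariant (hodd : Odd p) [Subsingleton R] (S'' : Subgroup (Perm Y'))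
    (O : Finset Y') (hO : ∀ σ ∈ S'', ∀ y', σ y' ∈ O ↔ y' ∈ O) {j : ℕ} (hj : O.card = p ^ j)
    (t : (ZMod p)ˣ) :
    ∃ (τ₀ : Perm (X p Y' R')) (u₀ : X p Y' R' → (ZMod p)ˣ), ∏ y, u₀ y = t ∧
      tp τ₀ * tr u₀ ∈ alternatingGroup (XX p Y' R' R) ∧
      tp τ₀ * tr u₀ ∈ Subgroup.normalizer
        ((wr p R (wr p R' S'') : Subgroup (Perm (XX p Y' R' R))) : Set (Perm (XX p Y' R' R))) ∧
      tp τ₀ * tr u₀ ∈ Subgroup.closure {h : Perm (XX p Y' R' R) |
        GoodRel p (alternatingGroup (XX p Y' R' R)) (wr p R (wr p R' S'')) h} := by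
  have hs := ss_invariant O t S'' hO
  refine ⟨tr (ss O t), uu R' (ss O t), ?_, ?_, ?_, ?_⟩
  · rw [prod_uu, prod_ss O t hj, inv_inv, units_pow_p]
  · rw [← DD_eq_tp_tr, Perm.mem_alternatingGroup]
    exact sign_DD _
  · rw [← DD_eq_tp_tr]
    exact DD_mem_normalizer _ hs
  · rw [← DD_eq_tp_tr]
    exact DD_good hodd S'' _ hs

/-- invariant sets of `p`-power size exist -/
theorem exists_invariant [Nonempty Y'] (S'' : Subgroup (Perm Y')) (hS'' : IsPGroup p S'') :
    ∃ (O : Finset Y') (j : ℕ), (∀ σ ∈ S'', ∀ y', σ y' ∈ O ↔ y' ∈ O) ∧ O.card = p ^ j := by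
  classical
  obtain ⟨y₀⟩ := ‹Nonempty Y'›
  obtain ⟨j, hj⟩ := hS''.card_orbit y₀
  refine ⟨(MulAction.orbit S'' y₀).toFinset, j, ?_, ?_⟩
  · intro σ hσ y'
    rw [Set.mem_toFinset, Set.mem_toFinset]
    have : σ y' = (⟨σ, hσ⟩ : S'') • y' := rfl
    rw [this, ← MulAction.orbit_eq_iff, MulAction.orbit_smul, MulAction.orbit_eq_iff]
  · rw [Set.toFinset_card, ← Nat.card_eq_fintype_card]
    exact hj

/-- the special elements exist -/
theorem special_odd (hodd : Odd p) [Subsingleton R] [Nonempty Y'] (S'' : Subgroup (Perm Y'))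
    (hS'' : IsPGroup p S'') (t : (ZMod p)ˣ) :
    ∃ (τ₀ : Perm (X p Y' R')) (u₀ : X p Y' R' → (ZMod p)ˣ), ∏ y, u₀ y = t ∧
      tp τ₀ * tr u₀ ∈ alternatingGroup (XX p Y' R' R) ∧
      tp τ₀ * tr u₀ ∈ Subgroup.normalizer
        ((wr p R (wr p R' S'') : Subgroup (Perm (XX p Y' R' R))) : Set (Perm (XX p Y' R' R))) ∧
      tp τ₀ * tr u₀ ∈ Subgroup.closure {h : Perm (XX p Y' R' R) |
        GoodRel p (alternatingGroup (XX p Y' R' R)) (wr p R (wr p R' S'')) h} := by
  obtain ⟨O, j, hO, hj⟩ := exists_invariant S'' hS''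
  exact special_of_invariant hodd S'' O hO hj t

/-- the generation statement for odd `p` in the two-level model -/
theorem gen_odd_two (hodd : Odd p) [Subsingleton R] [Nonempty Y'] (S'' : Subgroup (Perm Y'))
    (hS'' : IsPGroup p S'') (h : Perm (XX p Y' R' R)) (hA : h ∈ alternatingGroup (XX p Y' R' R))
    (hN : h ∈ Subgroup.normalizer
      ((wr p R (wr p R' S'') : Subgroup (Perm (XX p Y' R' R))) : Set (Perm (XX p Y' R' R)))) :
    h ∈ Subgroup.closure {h : Perm (XX p Y' R' R) |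
      GoodRel p (alternatingGroup (XX p Y' R' R)) (wr p R (wr p R' S'')) h} := by
  haveI : NeZero p := ⟨hp.out.ne_zero⟩
  have hY : p ≤ Fintype.card (X p Y' R') := by
    rw [card_X]
    have : 0 < Fintype.card Y' := Fintype.card_pos
    nlinarith
  exact gen_odd hodd hY (wr p R' S'') (fun t => special_odd hodd S'' hS'' t) h hA hN

end Cfsg.Agent.Lib.H25.Alt
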