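import Mathlib
import Cfsg.Agent.Lib.H25.AltK

set_option autoImplicit false

/-!
# Transport to the model and the odd case (helper25)
-/

namespace Cfsg.Agent.Lib.H25.Alt

open Equiv Cfsg Cfsg.Agent.Lib.H25.AltCrit

section Model

variable {n : ℕ} {Z : Type*} [Fintype Z] [DecidableEq Z]

/-- the alternating group of `Fin n` inside the symmetric group of a model set -/
noncomputable def modelHom (e : Fin n ≃ Z) : alternatingGroup (Fin n) →* Perm Z :=
  (alternatingGroup Z).subtype.comp (e.altCongrHom).toMonoidHom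

theorem modelHom_injective (e : Fin n ≃ Z) : Function.Injective (modelHom e) :=
  (Subgroup.subtype_injective _).comp e.altCongrHom.injective

theorem modelHom_range (e : Fin n ≃ Z) : (modelHom e).range = alternatingGroup Z := by
  unfold modelHom
  rw [MonoidHom.range_comp, MonoidHom.range_eq_top.2 e.altCongrHom.surjective,
    ← MonoidHom.range_eq_map, Subgroup.range_subtype]

theorem alt_simple_of_model {p : ℕ} [Fact p.Prime] (e : Fin n ≃ Z)
    (S : Sylow p (alternatingGroup (Fin n))) (S₀ : Subgroup (Perm Z))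
    (hS₀ : S₀ ≤ alternatingGroup Z)
    (hcard : Nat.card S₀ = p ^ (Nat.card (alternatingGroup Z)).factorization p) (hne : S₀ ≠ ⊥)
    (hsc : ∀ T : Subgroup (Perm Z), T ≤ S₀ →
      (∀ x ∈ T, ∀ g ∈ alternatingGroup Z, g * x * g⁻¹ ∈ S₀ → g * x * g⁻¹ ∈ T) → T = ⊥ ∨ T = S₀)
    (hgen : ∀ h ∈ alternatingGroup Z, h ∈ Subgroup.normalizer (S₀ : Set (Perm Z)) →
      h ∈ Subgroup.closure {h : Perm Z | GoodRel p (alternatingGroup Z) S₀ h}) :
    (groupFusionSystem (S : Subgroup (alternatingGroup (Fin n)))).IsSimple p := by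
  have hr := modelHom_range e
  apply isSimple_of_rel (modelHom e) (modelHom_injective e) S S₀ (by rw [hr]; exact hS₀) ?_ hne
    (by rw [hr]; exact hsc) (by rw [hr]; exact hgen)
  rw [hcard, S.card_eq_multiplicity, Nat.card_congr e.altCongrHom.toEquiv]

end Model

section Odd

variable {p : ℕ} {Y' R' R : Type*}

variable [Fintype Y'] [DecidableEq Y'] [Fintype R'] [DecidableEq R'] [Fintype R] [DecidableEq R]

variable [hp : Fact p.Prime]

theorem factorization_alt_odd (hodd : Odd p) (Z : Type*) [Fintype Z] [DecidableEq Z]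
    [Nontrivial Z] :
    (Nat.card (alternatingGroup Z)).factorization p = (Nat.card (Perm Z)).factorization p := by
  rw [← two_mul_nat_card_alternatingGroup, Nat.factorization_mul two_ne_zero Nat.card_pos.ne',
    Finsupp.add_apply, Nat.prime_two.factorization, Finsupp.single_apply, if_neg, zero_add]
  rintro rfl
  exact absurd hodd (by decide)

theorem alt_simple_odd {n : ℕ} (hodd : Odd p) [Subsingleton R] [Nonempty Y']
    (hR' : Fintype.card R' < p) (e : Fin n ≃ XX p Y' R' R)
    (S : Sylow p (alternatingGroup (Fin n))) :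
    (groupFusionSystem (S : Subgroup (alternatingGroup (Fin n)))).IsSimple p := by
  haveI : NeZero p := ⟨hp.out.ne_zero⟩
  have hp3 : 3 ≤ p := by
    have := hp.out.two_le
    rcases hodd with ⟨k, hk⟩
    omega
  have hR : Fintype.card R < p := by
    have : Fintype.card R ≤ 1 := Fintype.card_le_one_iff_subsingleton.2 inferInstance
    omega
  obtain ⟨S''⟩ := (inferInstance : Nonempty (Sylow p (Perm Y')))
  set S' : Sylow p (Perm (X p Y' R')) :=
    Sylow.ofCard (wr p R' (S'' : Subgroup (Perm Y'))) (card_wr_sylow hR' S'') with hS'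
  have hS'coe : (S' : Subgroup (Perm (X p Y' R'))) = wr p R' (S'' : Subgroup (Perm Y')) := rfl
  have hY : p ≤ Fintype.card (X p Y' R') := by
    rw [card_X]
    have : 0 < Fintype.card Y' := Fintype.card_pos
    nlinarith
  obtain ⟨y'₀⟩ := ‹Nonempty Y'›
  haveI : Nontrivial (XX p Y' R' R) := by
    refine ⟨⟨Sum.inl (Sum.inl (y'₀, 0), 0), Sum.inl (Sum.inl (y'₀, 0), 1), ?_⟩⟩
    intro h
    simp only [Sum.inl.injEq, Prod.mk.injEq, true_and] at h
    exact zero_ne_one h
  refine alt_simple_of_model e S (wr p R (wr p R' (S'' : Subgroup (Perm Y')))) ?_ ?_ ?_ ?_ ?_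
  · have := wr_le_alternating (R := R) hodd (isPGroup_wr hR' S'')
    exact this
  · rw [factorization_alt_odd hodd]
    exact card_wr_sylow hR S'
  · intro hbot
    have h1 : bs (R := R) (Pi.single (Sum.inl (y'₀, 0) : X p Y' R') (1 : ZMod p)) ∈
        wr p R (wr p R' (S'' : Subgroup (Perm Y'))) := A_le_wr _ (bs_mem_A _)
    rw [hbot, Subgroup.mem_bot, bs_eq_one_iff] at h1
    have := congrFun h1 (Sum.inl (y'₀, 0))
    rw [Pi.single_eq_same, Pi.zero_apply] at this
    exact one_ne_zero this
  · intro T hT hsc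
    by_cases hTb : T = ⊥
    · exact Or.inl hTb
    · right
      exact sc_odd hodd hR (hp3.trans hY) S' T hT hsc hTb
  · intro h hA hN
    exact gen_odd_two hodd (S'' : Subgroup (Perm Y')) S''.isPGroup' h hA hN

end Odd

end Cfsg.Agent.Lib.H25.Alt
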