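import Mathlib
import Cfsg.Agent.Lib.H25.AltL

set_option autoImplicit false

/-!
# The prime `2`: the Sylow subgroup of the alternating group (helper25)
-/

namespace Cfsg.Agent.Lib.H25.Alt

open Equiv

variable {Y R : Type*}

/-- in `ZMod 2` distinct elements differ by one -/
theorem zmod2_eq_add_one {i j : ZMod 2} (h : i ≠ j) : j = i + 1 := by
  revert h; revert i j; decide

theorem zmod2_add_self (i : ZMod 2) : i + i = 0 := by
  revert i; decide

theorem zmod2_eq_one {i : ZMod 2} (h : i ≠ 0) : i = 1 := by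
  revert h; revert i; decide

section

variable [DecidableEq Y] [DecidableEq R]

/-- for `p = 2` the generator of a block is a transposition -/
theorem bs_single_two (y : Y) :
    bs (p := 2) (R := R) (Pi.single y 1) = swap (Sum.inl (y, 0)) (Sum.inl (y, 1)) := by
  classical
  ext z
  rcases z with ⟨y', x⟩ | r
  · rw [bs_inl]
    by_cases hy : y' = y
    · subst hy
      rw [Pi.single_eq_same]
      have h01 : ∀ x : ZMod 2, x = 0 ∨ x = 1 := by decide
      rcases h01 x with rfl | rfl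
      · rw [swap_apply_left, zero_add]
      · rw [swap_apply_right]
        rfl
    · rw [Pi.single_eq_of_ne hy, add_zero, swap_apply_of_ne_of_ne]
      · intro h
        simp only [Sum.inl.injEq, Prod.mk.injEq] at h
        exact hy h.1
      · intro h
        simp only [Sum.inl.injEq, Prod.mk.injEq] at h
        exact hy h.1
  · rw [bs_inr, swap_apply_of_ne_of_ne] <;> simp

/-- the double transpositions in the base group -/
def dd (R : Type*) (y₁ y₂ : Y) : Perm (X 2 Y R) := bs (Pi.single y₁ 1 + Pi.single y₂ 1)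

theorem dd_eq (y₁ y₂ : Y) :
    dd R y₁ y₂ = bs (Pi.single y₁ 1) * bs (Pi.single y₂ 1) := by
  unfold dd
  rw [bs_add]

theorem dd_self (y : Y) : dd R y y = 1 := by
  unfold dd
  rw [bs_eq_one_iff]
  funext z
  exact zmod2_add_self _

theorem dd_comm (y₁ y₂ : Y) : dd R y₁ y₂ = dd R y₂ y₁ := by
  unfold dd
  rw [add_comm]

theorem dd_mul_dd (y₀ y₁ y₂ : Y) : dd R y₀ y₁ * dd R y₀ y₂ = dd R y₁ y₂ := by
  unfold dd
  rw [← bs_add]
  congr 1
  funext z
  simp only [Pi.add_apply]
  have := zmod2_add_self ((Pi.single y₀ (1 : ZMod 2) : Y → ZMod 2) z)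
  linear_combination this

end

variable [Fintype Y] [DecidableEq Y] [Fintype R] [DecidableEq R]

theorem sign_dd (y₁ y₂ : Y) : Perm.sign (dd R y₁ y₂) = 1 := by
  rw [dd_eq, Perm.sign_mul, sign_bs_single_two, sign_bs_single_two]
  rfl

/-- the even part of the base group -/
def A0 (Y R : Type*) [Fintype Y] [DecidableEq Y] [Fintype R] [DecidableEq R] :
    Subgroup (Perm (X 2 Y R)) :=
  A 2 Y R ⊓ alternatingGroup (X 2 Y R)

/-- the Sylow `2`-subgroup of the alternating group -/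
def wr2 (R : Type*) [Fintype R] [DecidableEq R] (S' : Subgroup (Perm Y)) :
    Subgroup (Perm (X 2 Y R)) :=
  wr 2 R S' ⊓ alternatingGroup (X 2 Y R)

theorem dd_mem_A0 (y₁ y₂ : Y) : dd R y₁ y₂ ∈ A0 Y R :=
  Subgroup.mem_inf.2 ⟨bs_mem_A _, by rw [Perm.mem_alternatingGroup]; exact sign_dd y₁ y₂⟩

theorem A0_le_wr2 (S' : Subgroup (Perm Y)) : A0 Y R ≤ wr2 R S' :=
  inf_le_inf_right _ (A_le_wr S')

theorem wr2_le_wr (S' : Subgroup (Perm Y)) : wr2 R S' ≤ wr 2 R S' := inf_le_left

theorem wr2_le_alt (S' : Subgroup (Perm Y)) : wr2 R S' ≤ alternatingGroup (X 2 Y R) :=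
  inf_le_right

theorem sign_tp_two (σ : Perm Y) : Perm.sign (tp (p := 2) (R := R) σ) = 1 := by
  rw [sign_tp]
  exact Int.units_sq _

theorem tp_mem_alt (σ : Perm Y) : tp (p := 2) (R := R) σ ∈ alternatingGroup (X 2 Y R) := by
  rw [Perm.mem_alternatingGroup]
  exact sign_tp_two σ

theorem tp_mem_wr2 {S' : Subgroup (Perm Y)} {σ : Perm Y} (hσ : σ ∈ S') :
    tp (p := 2) (R := R) σ ∈ wr2 R S' :=
  Subgroup.mem_inf.2 ⟨tp_mem_wr hσ, tp_mem_alt σ⟩

/-- the decomposition of the elements of `wr2` -/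
theorem exists_of_mem_wr2 {S' : Subgroup (Perm Y)} {g : Perm (X 2 Y R)} (hg : g ∈ wr2 R S') :
    ∃ (f : Y → ZMod 2) (σ : Perm Y), σ ∈ S' ∧ bs f ∈ A0 Y R ∧ g = bs f * tp σ := by
  obtain ⟨⟨f, σ, hσ, rfl⟩, hA⟩ := Subgroup.mem_inf.1 hg
  refine ⟨f, σ, hσ, Subgroup.mem_inf.2 ⟨bs_mem_A f, ?_⟩, rfl⟩
  have := Subgroup.mul_mem _ hA (Subgroup.inv_mem _ (tp_mem_alt (R := R) σ))
  rwa [mul_inv_cancel_right] at this

theorem card_wr2 [Nonempty Y] (S' : Subgroup (Perm Y)) :
    Nat.card (wr2 R S') * 2 = Nat.card (wr 2 R S') := by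
  obtain ⟨y₀⟩ := ‹Nonempty Y›
  have h2 : (alternatingGroup (X 2 Y R)).relIndex (wr 2 R S') = 2 := by
    rw [Subgroup.relIndex_eq_two_iff_exists_notMem_and]
    refine ⟨bs (Pi.single y₀ 1), A_le_wr _ (bs_mem_A _), ?_, ?_⟩
    · rw [Perm.mem_alternatingGroup, sign_bs_single_two]
      decide
    · intro b _
      rw [Perm.mem_alternatingGroup, Perm.mem_alternatingGroup, Perm.sign_mul,
        sign_bs_single_two]
      rcases Int.units_eq_one_or (Perm.sign b) with h | h
      · exact Or.inr h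
      · left
        rw [h]
        rfl
  have h1 := Subgroup.relIndex_mul_relIndex (⊥ : Subgroup (Perm (X 2 Y R))) (wr2 R S')
    (wr 2 R S') bot_le (wr2_le_wr S')
  rw [Subgroup.relIndex_bot_left, Subgroup.relIndex_bot_left] at h1
  have h3 : (wr2 R S').relIndex (wr 2 R S') = 2 := by
    unfold wr2
    rw [Subgroup.inf_relIndex_left, h2]
  rw [h3] at h1
  exact h1

theorem card_wr2_sylow [Nonempty Y] (hR : Fintype.card R < 2) (S' : Sylow 2 (Perm Y)) :
    Nat.card (wr2 R (S' : Subgroup (Perm Y))) =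
      2 ^ (Nat.card (alternatingGroup (X 2 Y R))).factorization 2 := by
  obtain ⟨y₀⟩ := ‹Nonempty Y›
  haveI : Nonempty Y := ⟨y₀⟩
  haveI : Nontrivial (X 2 Y R) := by
    refine ⟨⟨Sum.inl (y₀, 0), Sum.inl (y₀, 1), ?_⟩⟩
    intro h
    simp only [Sum.inl.injEq, Prod.mk.injEq, true_and] at h
    exact absurd h (by decide)
  have h1 := card_wr2 (R := R) (S' : Subgroup (Perm Y))
  have h2 := card_wr_sylow (p := 2) hR S'
  have h3 := two_mul_nat_card_alternatingGroup (α := X 2 Y R)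
  have h4 : (Nat.card (Perm (X 2 Y R))).factorization 2 =
      (Nat.card (alternatingGroup (X 2 Y R))).factorization 2 + 1 := by
    rw [← h3, Nat.factorization_mul two_ne_zero Nat.card_pos.ne', Finsupp.add_apply,
      Nat.prime_two.factorization, Finsupp.single_apply, if_pos rfl, add_comm]
  rw [h2, h4, pow_succ] at h1
  exact Nat.eq_of_mul_eq_mul_right (by norm_num) h1

end Cfsg.Agent.Lib.H25.Alt
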