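import Mathlib
import Cfsg.Agent.Lib.H25.AltM

set_option autoImplicit false

/-!
# The prime `2`: strongly closed subgroups (helper25)
-/

namespace Cfsg.Agent.Lib.H25.Alt

open Equiv

section OneLevel

variable {Y R : Type*} [Fintype Y] [DecidableEq Y] [Fintype R] [DecidableEq R]

theorem exists_ne_ne (hY : 3 ≤ Fintype.card Y) (a b : Y) : ∃ c : Y, c ≠ a ∧ c ≠ b := by
  by_contra hcon
  push Not at hcon
  have : (Finset.univ : Finset Y) ⊆ {a, b} := by
    intro c _
    by_cases h : c = a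
    · simp [h]
    · simp [hcon c h]
  have := Finset.card_le_card this
  rw [Finset.card_univ] at this
  have h2 : ({a, b} : Finset Y).card ≤ 2 := Finset.card_le_two
  omega

omit [Fintype Y] [Fintype R] [DecidableEq R] in
/-- elements of the wreath product commuting with the double transpositions lie in the base
group -/
theorem mem_A_of_mem_wr_of_comm_dd [Fintype Y] (hY : 3 ≤ Fintype.card Y)
    {S' : Subgroup (Perm Y)} {c : Perm (X 2 Y R)} (hcw : c ∈ wr 2 R S')
    (hc : ∀ y₁ y₂ : Y, c * dd R y₁ y₂ = dd R y₁ y₂ * c) : c ∈ A 2 Y R := by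
  obtain ⟨f, σ, -, rfl⟩ := hcw
  have hσ : σ = 1 := by
    ext y
    by_contra hne
    have hne' : σ y ≠ y := hne
    obtain ⟨y₃, h3y, h3σ⟩ := exists_ne_ne hY y (σ y)
    have h1 := congrArg (fun e => e (Sum.inl (y, 0))) (hc y y₃)
    simp only [Perm.mul_apply, dd, bs_inl, tp_inl, Pi.add_apply] at h1
    rw [Pi.single_eq_same, Pi.single_eq_of_ne (Ne.symm h3y), Pi.single_eq_of_ne hne',
      Pi.single_eq_of_ne (Ne.symm h3σ)] at h1
    simp only [Sum.inl.injEq, Prod.mk.injEq, true_and] at h1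
    have h2 : (1 : ZMod 2) = 0 := by linear_combination h1
    exact absurd h2 (by decide)
  rw [hσ, tp_one, mul_one]
  exact bs_mem_A f

omit [Fintype Y] [Fintype R] [DecidableEq R] in
/-- a double transposition from a function with a zero -/
theorem dd_mem_of_zero (T : Subgroup (Perm (X 2 Y R)))
    (hT : ∀ (f : Y → ZMod 2) (τ : Perm Y), bs f ∈ T → bs (R := R) (f ∘ τ.symm) ∈ T)
    {f : Y → ZMod 2} (hf : bs f ∈ T) {y₀ y₁ : Y} (h0 : f y₀ = 0) (h1 : f y₁ ≠ 0) :
    dd R y₀ y₁ ∈ T := by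
  have hne : y₀ ≠ y₁ := by
    rintro rfl
    exact h1 h0
  have h11 : f y₁ = 1 := zmod2_eq_one h1
  have h2 := T.mul_mem hf (hT f (swap y₀ y₁) hf)
  rw [← bs_add] at h2
  have e : f + f ∘ (swap y₀ y₁).symm = Pi.single y₀ 1 + Pi.single y₁ 1 := by
    funext y
    simp only [Pi.add_apply, Function.comp_apply, symm_swap]
    by_cases e0 : y = y₀
    · subst e0
      rw [swap_apply_left, h0, h11, Pi.single_eq_same, Pi.single_eq_of_ne hne]
      decide
    · by_cases e1 : y = y₁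
      · subst e1
        rw [swap_apply_right, h0, h11, Pi.single_eq_same, Pi.single_eq_of_ne (Ne.symm hne)]
        decide
      · rw [swap_apply_of_ne_of_ne e0 e1, Pi.single_eq_of_ne e0, Pi.single_eq_of_ne e1,
          zmod2_add_self, add_zero]
  rw [e] at h2
  exact h2

/-- the even part of the base group lies in `T` -/
theorem A0_le_of_dd (T : Subgroup (Perm (X 2 Y R))) (hTA : T ≤ alternatingGroup (X 2 Y R))
    (hT : ∀ (f : Y → ZMod 2) (τ : Perm Y), bs f ∈ T → bs (R := R) (f ∘ τ.symm) ∈ T)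
    {y₀ y₁ : Y} (hne : y₀ ≠ y₁) (hd : dd R y₀ y₁ ∈ T) : A0 Y R ≤ T := by
  have h1 : ∀ y' : Y, dd R y₀ y' ∈ T := by
    intro y'
    by_cases e0 : y' = y₀
    · rw [e0, dd_self]
      exact T.one_mem
    · by_cases e1 : y' = y₁
      · rw [e1]
        exact hd
      · have := hT _ (swap y₁ y') hd
        rw [Pi.add_comp, single_comp_symm, single_comp_symm, swap_apply_left,
          swap_apply_of_ne_of_ne hne (Ne.symm e0)] at this
        exact this
  rintro g hg
  obtain ⟨⟨f, rfl⟩, hgA⟩ := Subgroup.mem_inf.1 hg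
  have hsum : ∀ s : Finset Y,
      bs (R := R) (∑ y ∈ s, (Pi.single y₀ (f y) + Pi.single y (f y))) ∈ T := by
    intro s
    induction s using Finset.induction_on with
    | empty => simp [T.one_mem]
    | insert y s hy ih =>
      rw [Finset.sum_insert hy, bs_add]
      refine T.mul_mem ?_ ih
      by_cases hfy : f y = 0
      · rw [hfy]
        simp [T.one_mem]
      · rw [zmod2_eq_one hfy]
        exact h1 y
  have h2 := hsum Finset.univ
  rw [Finset.sum_add_distrib, Finset.univ_sum_single] at h2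
  have e : (∑ y : Y, (Pi.single y₀ (f y) : Y → ZMod 2)) = Pi.single y₀ (∑ y, f y) := by
    funext z
    rw [Finset.sum_apply]
    by_cases ez : z = y₀
    · subst ez
      simp
    · simp [Pi.single_eq_of_ne ez]
  rw [e] at h2
  by_cases hc : ∑ y, f y = 0
  · rw [hc] at h2
    simpa using h2
  · exfalso
    rw [zmod2_eq_one hc, bs_add] at h2
    have h3 := Subgroup.mul_mem _ (hTA h2) (Subgroup.inv_mem _ hgA)
    rw [mul_inv_cancel_right, Perm.mem_alternatingGroup, sign_bs_single_two] at h3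
    exact absurd h3 (by decide)

/-- `T = S` for nontrivial strongly closed `T` (`p = 2`), given a way out of the case of the
all-ones vector -/
theorem sc_two (hR : Fintype.card R < 2) (hY : 3 ≤ Fintype.card Y) (S' : Sylow 2 (Perm Y))
    (T : Subgroup (Perm (X 2 Y R))) (hT : T ≤ wr2 R (S' : Subgroup (Perm Y)))
    (hsc : ∀ x ∈ T, ∀ g ∈ alternatingGroup (X 2 Y R),
      g * x * g⁻¹ ∈ wr2 R (S' : Subgroup (Perm Y)) → g * x * g⁻¹ ∈ T)
    (hne : T ≠ ⊥)
    (hones : bs (R := R) (fun _ : Y => (1 : ZMod 2)) ∈ T →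
      ∃ f : Y → ZMod 2, bs (R := R) f ∈ T ∧ f ≠ 0 ∧ ∃ y₀, f y₀ = 0) :
    T = wr2 R (S' : Subgroup (Perm Y)) := by
  have hTA : T ≤ alternatingGroup (X 2 Y R) := hT.trans (wr2_le_alt _)
  have hwp : IsPGroup 2 (wr2 R (S' : Subgroup (Perm Y))) :=
    (isPGroup_wr hR S').to_le (wr2_le_wr _)
  -- closure under conjugation inside the base group
  have hconj : ∀ (f f' : Y → ZMod 2) (g : Perm (X 2 Y R)), g ∈ alternatingGroup (X 2 Y R) →
      bs f ∈ T → g * bs f * g⁻¹ = bs f' → bs f' ∈ T := by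
    intro f f' g hg hf hff'
    rw [← hff']
    apply hsc _ hf g hg
    refine Subgroup.mem_inf.2 ⟨?_, ?_⟩
    · rw [hff']
      exact A_le_wr _ (bs_mem_A f')
    · exact Subgroup.mul_mem _ (Subgroup.mul_mem _ hg (hTA hf)) (Subgroup.inv_mem _ hg)
  have hTtp : ∀ (f : Y → ZMod 2) (τ : Perm Y), bs f ∈ T → bs (R := R) (f ∘ τ.symm) ∈ T :=
    fun f τ hf => hconj f _ (tp τ) (tp_mem_alt τ) hf (tp_conj_bs _ _)
  obtain ⟨z, hzT, hz1, hzc⟩ := exists_central_of_normalized _ T hwp hT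
    (fun s hs x hx => hsc x hx s (wr2_le_alt _ hs)
      (Subgroup.mul_mem _ (Subgroup.mul_mem _ hs (hT hx)) (Subgroup.inv_mem _ hs))) hne
  have hzA : z ∈ A 2 Y R := by
    apply mem_A_of_mem_wr_of_comm_dd hY (wr2_le_wr _ (hT hzT))
    intro y₁ y₂
    exact (hzc _ (A0_le_wr2 _ (dd_mem_A0 y₁ y₂))).symm
  obtain ⟨f, rfl⟩ := hzA
  have hf0 : f ≠ 0 := by
    intro h
    apply hz1
    rw [h, bs_zero]
  -- a function with a zero
  obtain ⟨f₁, hf₁T, hf₁0, y₀, hy₀⟩ : ∃ f₁ : Y → ZMod 2, bs (R := R) f₁ ∈ T ∧ f₁ ≠ 0 ∧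
      ∃ y₀, f₁ y₀ = 0 := by
    by_cases h : ∃ y₀, f y₀ = 0
    · exact ⟨f, hzT, hf0, h⟩
    · push Not at h
      apply hones
      have : f = fun _ => 1 := by
        funext y
        exact zmod2_eq_one (h y)
      rw [← this]
      exact hzT
  obtain ⟨y₁, hy₁⟩ : ∃ y₁, f₁ y₁ ≠ 0 := by
    by_contra h
    push Not at h
    exact hf₁0 (funext h)
  have hne01 : y₀ ≠ y₁ := by
    rintro rfl
    exact hy₁ hy₀
  have hA0 : A0 Y R ≤ T :=
    A0_le_of_dd T hTA hTtp hne01 (dd_mem_of_zero T hTtp hf₁T hy₀ hy₁)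
  -- the top group
  have htop : ∀ σ ∈ (S' : Subgroup (Perm Y)), tp (p := 2) (R := R) σ ∈ T := by
    have hle : Subgroup.closure {g : Perm Y | g ∈ (S' : Subgroup (Perm Y)) ∧ orderOf g = 2} ≤
        T.comap (tpHom (p := 2) (R := R)) := by
      rw [Subgroup.closure_le]
      rintro σ ⟨hσ, ho⟩
      rw [SetLike.mem_coe, Subgroup.mem_comap, tpHom_apply]
      have ho' : orderOf (tp (p := 2) (R := R) σ) = 2 := by rw [orderOf_tp, ho]
      obtain ⟨c, K, hc, -, hcg⟩ := exists_even_conj_bs hR hY ho'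
      have hcA : c ∈ alternatingGroup (X 2 Y R) := by
        rw [Perm.mem_alternatingGroup, hc]
      have h1 : bs (R := R) (ind 2 K) ∈ T := by
        apply hA0
        refine Subgroup.mem_inf.2 ⟨bs_mem_A _, ?_⟩
        rw [← hcg]
        exact Subgroup.mul_mem _ (Subgroup.mul_mem _ hcA (tp_mem_alt σ)) (Subgroup.inv_mem _ hcA)
      have h2 := hsc _ h1 c⁻¹ (Subgroup.inv_mem _ hcA)
      have e : c⁻¹ * bs (ind 2 K) * c⁻¹⁻¹ = tp σ := by
        rw [← hcg]; group
      rw [e] at h2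
      exact h2 (tp_mem_wr2 hσ)
    intro σ hσ
    exact hle (genP_sylow Y S' hσ)
  apply le_antisymm hT
  intro g hg
  obtain ⟨f', σ, hσ, hf', rfl⟩ := exists_of_mem_wr2 hg
  exact T.mul_mem (hA0 hf') (htop σ hσ)

end OneLevel

end Cfsg.Agent.Lib.H25.Alt
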