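import Mathlib
import Cfsg.Agent.Lib.H25.AltN

set_option autoImplicit false

/-!
# The prime `2`: strongly closed subgroups in the two-level model (helper25)
-/

namespace Cfsg.Agent.Lib.H25.Alt

open Equiv

variable {Y' R' R : Type*}

theorem ones_eq_TT :
    bs (R := R) (fun _ : X 2 Y' R' => (1 : ZMod 2)) = TT R (0 : Y' → ZMod 2) 1 1 := by
  unfold TT
  rw [bs_zero, tp_one, mul_one]
  congr 1
  funext z
  rcases z with ⟨y', x⟩ | r' <;> rfl

theorem TT_zero_left (F : Y' → ZMod 2) (e : R' → ZMod 2) :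
    TT R (0 : Y' → ZMod 2) F e = bs (blk F e) := by
  unfold TT
  rw [bs_zero, tp_one, mul_one]

variable [Fintype Y'] [DecidableEq Y'] [Fintype R'] [DecidableEq R'] [Fintype R] [DecidableEq R]

/-- the way out of the case of the all-ones vector -/
theorem ones_case (S'' : Subgroup (Perm Y')) (T : Subgroup (Perm (XX 2 Y' R' R)))
    (hTA : T ≤ alternatingGroup (XX 2 Y' R' R))
    (hsc : ∀ x ∈ T, ∀ g ∈ alternatingGroup (XX 2 Y' R' R),
      g * x * g⁻¹ ∈ wr2 R (wr 2 R' S'') → g * x * g⁻¹ ∈ T)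
    (y' : Y') (h1 : bs (R := R) (fun _ : X 2 Y' R' => (1 : ZMod 2)) ∈ T) :
    bs (R := R) (blk (Pi.single y' (1 : ZMod 2)) (0 : R' → ZMod 2)) ∈ T := by
  set s : Y' → ZMod 2 := Pi.single y' 1 with hs
  set G : Perm (XX 2 Y' R' R) := (EE R' R s * FF R' R s) ^ 2 with hG
  have hGA : G ∈ alternatingGroup (XX 2 Y' R' R) := by
    rw [Perm.mem_alternatingGroup, hG, map_pow]
    exact Int.units_sq _
  have hconj : ∀ x : Perm (XX 2 Y' R' R), G * x * G⁻¹ =
      EE R' R s * (FF R' R s * (EE R' R s * (FF R' R s * x * (FF R' R s)⁻¹) * (EE R' R s)⁻¹) *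
        (FF R' R s)⁻¹) * (EE R' R s)⁻¹ := by
    intro x
    rw [hG, pow_two, mul_inv_rev, mul_inv_rev]
    simp only [mul_assoc]
  have hmem : ∀ (g F : Y' → ZMod 2) (e : R' → ZMod 2), TT R g F e ∈ T →
      G * TT R g F e * G⁻¹ ∈ T := by
    intro g F e h
    apply hsc _ h G hGA
    refine Subgroup.mem_inf.2 ⟨?_, ?_⟩
    · rw [hconj, FF_conj_TT, EE_conj_TT, FF_conj_TT, EE_conj_TT]
      exact PT_le_wr S'' (TT_mem_PT _ _ _)
    · exact Subgroup.mul_mem _ (Subgroup.mul_mem _ hGA (hTA h)) (Subgroup.inv_mem _ hGA)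
  rw [ones_eq_TT] at h1
  have e1 : G * TT R (0 : Y' → ZMod 2) 1 (1 : R' → ZMod 2) * G⁻¹ = TT R s (1 + s) 1 := by
    rw [hconj, FF_conj_TT, EE_conj_TT, FF_conj_TT, EE_conj_TT]
    congr 1 <;>
    · funext y
      simp only [Pi.add_apply, Pi.mul_apply, Pi.one_apply, Pi.zero_apply]
      generalize s y = a
      revert a
      decide
  have e2 : G * TT R s (1 + s) (1 : R' → ZMod 2) * G⁻¹ = TT R s 1 1 := by
    rw [hconj, FF_conj_TT, EE_conj_TT, FF_conj_TT, EE_conj_TT]
    congr 1 <;>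
    · funext y
      simp only [Pi.add_apply, Pi.mul_apply, Pi.one_apply]
      generalize s y = a
      revert a
      decide
  have h3 := hmem _ _ _ h1
  rw [e1] at h3
  have h4 := hmem _ _ _ h3
  rw [e2] at h4
  have h5 := T.mul_mem h3 h4
  rw [TT_mul] at h5
  have e3 : TT R (s + s) (1 + s + 1) ((1 : R' → ZMod 2) + 1) = TT R (0 : Y' → ZMod 2) s 0 := by
    congr 1 <;>
    · funext y
      simp only [Pi.add_apply, Pi.one_apply, Pi.zero_apply]
      first
        | (generalize s y = a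
           revert a
           decide)
        | decide
  rw [e3, TT_zero_left] at h5
  exact h5

/-- `T = S` for nontrivial strongly closed `T` (`p = 2`) in the two-level model -/
theorem sc_two_two (hR : Fintype.card R < 2) (hR' : Fintype.card R' < 2) [Nonempty Y']
    (hY : 3 ≤ Fintype.card (X 2 Y' R')) (S'' : Sylow 2 (Perm Y'))
    (T : Subgroup (Perm (XX 2 Y' R' R)))
    (hT : T ≤ wr2 R (wr 2 R' (S'' : Subgroup (Perm Y'))))
    (hsc : ∀ x ∈ T, ∀ g ∈ alternatingGroup (XX 2 Y' R' R),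
      g * x * g⁻¹ ∈ wr2 R (wr 2 R' (S'' : Subgroup (Perm Y'))) → g * x * g⁻¹ ∈ T)
    (hne : T ≠ ⊥) : T = wr2 R (wr 2 R' (S'' : Subgroup (Perm Y'))) := by
  obtain ⟨y'⟩ := ‹Nonempty Y'›
  set S' : Sylow 2 (Perm (X 2 Y' R')) :=
    Sylow.ofCard (wr 2 R' (S'' : Subgroup (Perm Y'))) (card_wr_sylow hR' S'') with hS'
  have hTA : T ≤ alternatingGroup (XX 2 Y' R' R) := hT.trans (wr2_le_alt _)
  refine sc_two hR hY S' T hT hsc hne ?_
  intro h1
  refine ⟨_, ones_case (S'' : Subgroup (Perm Y')) T hTA hsc y' h1, ?_, ?_⟩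
  · intro h
    have := congrFun h (Sum.inl (y', 0))
    simp only [blk, Sum.elim_inl, Pi.single_eq_same, Pi.zero_apply] at this
    exact absurd this (by decide)
  · obtain ⟨y₀, h0, h1⟩ := exists_ne_ne hY (Sum.inl (y', 0) : X 2 Y' R') (Sum.inl (y', 1))
    refine ⟨y₀, ?_⟩
    rcases y₀ with ⟨y'', x⟩ | r'
    · have hy : y'' ≠ y' := by
        rintro rfl
        have h01 : ∀ x : ZMod 2, x = 0 ∨ x = 1 := by decide
        rcases h01 x with rfl | rfl
        · exact h0 rfl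
        · exact h1 rfl
      simp only [blk, Sum.elim_inl]
      exact Pi.single_eq_of_ne hy _
    · rfl

end Cfsg.Agent.Lib.H25.Alt
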