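import Mathlib
import Cfsg.Agent.Lib.H25.AltO

set_option autoImplicit false

/-!
# The prime `2`: the normalizer of the Sylow subgroup (helper25)
-/

namespace Cfsg.Agent.Lib.H25.Alt

open Equiv Cfsg.Agent.Lib.H25.AltCrit

variable {Y R : Type*} [Fintype Y] [DecidableEq Y] [Fintype R] [DecidableEq R]

omit [Fintype R] in
/-- a transposition conjugating the double transpositions into the wreath product respects the
blocks -/
theorem swap_block (hY : 3 ≤ Fintype.card Y) {S' : Subgroup (Perm Y)} {y₁ : Y} {x₁ : ZMod 2}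
    {b : X 2 Y R} (hab : b ≠ Sum.inl (y₁, x₁))
    (h : ∀ y y' : Y, swap (Sum.inl (y₁, x₁)) b * dd R y y' * (swap (Sum.inl (y₁, x₁)) b)⁻¹ ∈
      wr 2 R S') : b = Sum.inl (y₁, x₁ + 1) := by
  by_contra hb
  set a : X 2 Y R := Sum.inl (y₁, x₁) with ha
  set a' : X 2 Y R := Sum.inl (y₁, x₁ + 1) with ha'
  have haa' : a' ≠ a := by
    intro h'
    simp only [ha, ha', Sum.inl.injEq, Prod.mk.injEq, true_and] at h'
    have : (1 : ZMod 2) = 0 := by linear_combination h'
    exact absurd this (by decide)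
  -- `b` is not in the block of `a`
  have hby₁ : ∀ x : ZMod 2, b ≠ Sum.inl (y₁, x) := by
    intro x hx
    by_cases e : x = x₁
    · rw [e] at hx
      exact hab hx
    · rw [zmod2_eq_add_one (Ne.symm e)] at hx
      exact hb hx
  obtain ⟨y₃, hy₃, hby₃⟩ : ∃ y₃ : Y, y₃ ≠ y₁ ∧ ∀ x : ZMod 2, b ≠ Sum.inl (y₃, x) := by
    rcases hbb : b with ⟨y₂, x₂⟩ | r
    · obtain ⟨y₃, h1, h2⟩ := exists_ne_ne hY y₁ y₂
      refine ⟨y₃, h1, ?_⟩
      intro x hx
      simp only [Sum.inl.injEq, Prod.mk.injEq] at hx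
      exact h2 hx.1.symm
    · obtain ⟨y₃, h1, -⟩ := exists_ne_ne hY y₁ y₁
      exact ⟨y₃, h1, fun x hx => by simp at hx⟩
  obtain ⟨g, σ, -, hgσ⟩ := h y₁ y₃
  rw [swap_inv] at hgσ
  -- the double transposition fixes `b`
  have hxb : dd R y₁ y₃ b = b := by
    rcases hbb : b with ⟨y₂, x₂⟩ | r
    · have h1 : y₂ ≠ y₁ := by
        rintro rfl
        exact hby₁ x₂ hbb
      have h3 : y₂ ≠ y₃ := by
        rintro rfl
        exact hby₃ x₂ hbb
      simp only [dd, bs_inl, Pi.add_apply]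
      rw [Pi.single_eq_of_ne h1, Pi.single_eq_of_ne h3, add_zero, add_zero]
    · rfl
  have hxa : dd R y₁ y₃ a = a' := by
    simp only [dd, ha, ha', bs_inl, Pi.add_apply]
    rw [Pi.single_eq_same, Pi.single_eq_of_ne (Ne.symm hy₃), add_zero]
  have hxa' : dd R y₁ y₃ a' = a := by
    simp only [dd, ha, ha', bs_inl, Pi.add_apply]
    rw [Pi.single_eq_same, Pi.single_eq_of_ne (Ne.symm hy₃), add_zero, add_assoc,
      zmod2_add_self, add_zero]
  -- evaluate at `a`
  have e1 := congrArg (fun e => e a) hgσ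
  simp only [Perm.mul_apply, swap_apply_left, hxb, swap_apply_right] at e1
  rw [ha, tp_inl, bs_inl] at e1
  simp only [Sum.inl.injEq, Prod.mk.injEq] at e1
  obtain ⟨e1σ, e1g⟩ := e1
  -- evaluate at `a'`
  have e2 := congrArg (fun e => e a') hgσ
  simp only [Perm.mul_apply] at e2
  rw [swap_apply_of_ne_of_ne haa' (Ne.symm hb), hxa', swap_apply_left] at e2
  rw [ha', tp_inl, bs_inl, ← e1σ] at e2
  apply hb
  rw [e2, ha']
  simp only [Sum.inl.injEq, Prod.mk.injEq, true_and]
  rw [← e1σ] at e1g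
  linear_combination (-1 : ZMod 2) * e1g

omit [Fintype R] in
/-- a transposition conjugating the double transpositions into the wreath product lies in the
base group -/
theorem swap_mem_A [Subsingleton R] (hY : 3 ≤ Fintype.card Y) {S' : Subgroup (Perm Y)}
    {a b : X 2 Y R} (hab : a ≠ b)
    (h : ∀ y y' : Y, swap a b * dd R y y' * (swap a b)⁻¹ ∈ wr 2 R S') :
    swap a b ∈ A 2 Y R := by
  have key : ∀ (y₁ : Y) (x₁ : ZMod 2),
      swap (Sum.inl (y₁, x₁) : X 2 Y R) (Sum.inl (y₁, x₁ + 1)) ∈ A 2 Y R := by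
    intro y₁ x₁
    have h01 : ∀ x : ZMod 2, x = 0 ∨ x = 1 := by decide
    rcases h01 x₁ with rfl | rfl
    · rw [zero_add, ← bs_single_two]
      exact bs_mem_A _
    · have : (1 : ZMod 2) + 1 = 0 := by decide
      rw [this, swap_comm, ← bs_single_two]
      exact bs_mem_A _
  rcases a with ⟨y₁, x₁⟩ | r
  · rw [swap_block hY (Ne.symm hab) h]
    exact key y₁ x₁
  · rcases b with ⟨y₂, x₂⟩ | r'
    · exfalso
      rw [swap_comm] at h
      have := swap_block hY hab h
      simp at this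
    · exact absurd (congrArg Sum.inr (Subsingleton.elim r r')) hab

omit [Fintype R] in
theorem wr_le_normalizer_wr2 [Fintype R] (S' : Subgroup (Perm Y)) :
    wr 2 R S' ≤ Subgroup.normalizer ((wr2 R S' : Subgroup _) : Set (Perm (X 2 Y R))) := by
  intro w hw
  have key : ∀ v ∈ wr 2 R S', ∀ x ∈ wr2 R S', v * x * v⁻¹ ∈ wr2 R S' := by
    intro v hv x hx
    obtain ⟨hx1, hx2⟩ := Subgroup.mem_inf.1 hx
    refine Subgroup.mem_inf.2 ⟨Subgroup.mul_mem _ (Subgroup.mul_mem _ hv hx1)
      (Subgroup.inv_mem _ hv), ?_⟩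
    rw [Perm.mem_alternatingGroup] at hx2 ⊢
    rw [Perm.sign_mul, Perm.sign_mul, Perm.sign_inv, hx2, mul_one, Int.units_mul_self]
  apply mem_normalizer_of_forall_conj_mem
  · exact key w hw
  · intro x hx
    have := key w⁻¹ (Subgroup.inv_mem _ hw) x hx
    rwa [inv_inv] at this

/-- the normalizer of the Sylow subgroup normalizes the base group -/
theorem conj_bs_mem_A_two [Subsingleton R] (hY : 3 ≤ Fintype.card Y) {S' : Subgroup (Perm Y)}
    {h : Perm (X 2 Y R)}
    (hh : h ∈ Subgroup.normalizer ((wr2 R S' : Subgroup _) : Set (Perm (X 2 Y R))))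
    (f : Y → ZMod 2) : h * bs f * h⁻¹ ∈ A 2 Y R := by
  have hsingle1 : ∀ y : Y, h * bs (Pi.single y 1) * h⁻¹ ∈ A 2 Y R := by
    intro y
    have ht : h * bs (Pi.single y 1) * h⁻¹ ∈
        Subgroup.normalizer ((wr2 R S' : Subgroup _) : Set (Perm (X 2 Y R))) :=
      Subgroup.mul_mem _ (Subgroup.mul_mem _ hh
        (wr_le_normalizer_wr2 S' (A_le_wr _ (bs_mem_A _)))) (Subgroup.inv_mem _ hh)
    have e : h * bs (Pi.single y 1) * h⁻¹ = swap (h (Sum.inl (y, 0))) (h (Sum.inl (y, 1))) := by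
      rw [bs_single_two, swap_apply_apply]
    rw [e] at ht ⊢
    apply swap_mem_A hY (S' := S')
    · intro h'
      have := h.injective h'
      simp only [Sum.inl.injEq, Prod.mk.injEq, true_and] at this
      exact absurd this (by decide)
    · intro y₁ y₂
      exact wr2_le_wr _ ((Subgroup.mem_normalizer_iff.1 ht _).1 (A0_le_wr2 _ (dd_mem_A0 y₁ y₂)))
  have hsingle : ∀ (y : Y) (b : ZMod 2), h * bs (Pi.single y b) * h⁻¹ ∈ A 2 Y R := by
    intro y b
    have h01 : ∀ x : ZMod 2, x = 0 ∨ x = 1 := by decide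
    rcases h01 b with rfl | rfl
    · simp [Subgroup.one_mem]
    · exact hsingle1 y
  have hsum : ∀ s : Finset Y, h * bs (∑ y ∈ s, Pi.single y (f y)) * h⁻¹ ∈ A 2 Y R := by
    intro s
    induction s using Finset.induction_on with
    | empty => simp [Subgroup.one_mem]
    | insert y s hy ih =>
      rw [Finset.sum_insert hy, bs_add]
      have e : h * (bs (Pi.single y (f y)) * bs (∑ x ∈ s, Pi.single x (f x))) * h⁻¹ =
          (h * bs (Pi.single y (f y)) * h⁻¹) * (h * bs (∑ x ∈ s, Pi.single x (f x)) * h⁻¹) := by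
        group
      rw [e]
      exact Subgroup.mul_mem _ (hsingle _ _) ih
  have := hsum Finset.univ
  rwa [Finset.univ_sum_single] at this

omit [Fintype R] [DecidableEq R] in
/-- a permutation commuting with the double transpositions lies in the base group -/
theorem mem_A_of_comm_dd [Subsingleton R] (hY : 3 ≤ Fintype.card Y) {c : Perm (X 2 Y R)}
    (hc : ∀ y₁ y₂ : Y, c * dd R y₁ y₂ = dd R y₁ y₂ * c) : c ∈ A 2 Y R := by
  -- points moved by a double transposition
  have hmoved : ∀ (y y₂ : Y) (w : X 2 Y R), dd R y y₂ w ≠ w →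
      ∃ y'' x'', w = Sum.inl (y'', x'') ∧ (y'' = y ∨ y'' = y₂) := by
    intro y y₂ w hw
    rcases w with ⟨y'', x''⟩ | r
    · refine ⟨y'', x'', rfl, ?_⟩
      by_contra hcon
      push Not at hcon
      apply hw
      simp only [dd, bs_inl, Pi.add_apply]
      rw [Pi.single_eq_of_ne hcon.1, Pi.single_eq_of_ne hcon.2, add_zero, add_zero]
    · exact absurd rfl hw
  have hblock : ∀ (y : Y) (x : ZMod 2), ∃ x' : ZMod 2, c (Sum.inl (y, x)) = Sum.inl (y, x') := by
    intro y x
    obtain ⟨y₂, hy₂, -⟩ := exists_ne_ne hY y y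
    obtain ⟨y₃, hy₃, hy₃₂⟩ := exists_ne_ne hY y y₂
    have hmv : ∀ y' : Y, y' ≠ y → dd R y y' (c (Sum.inl (y, x))) ≠ c (Sum.inl (y, x)) := by
      intro y' hy'
      have h1 := congrArg (fun e => e (Sum.inl (y, x))) (hc y y')
      simp only [Perm.mul_apply] at h1
      rw [← h1]
      intro h2
      have := c.injective h2
      simp only [dd, bs_inl, Pi.add_apply, Sum.inl.injEq, Prod.mk.injEq, true_and] at this
      rw [Pi.single_eq_same, Pi.single_eq_of_ne (Ne.symm hy'), add_zero] at this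
      have : (1 : ZMod 2) = 0 := by linear_combination this
      exact absurd this (by decide)
    obtain ⟨y'', x'', hw, h2⟩ := hmoved y y₂ _ (hmv y₂ hy₂)
    obtain ⟨y''', x''', hw', h3⟩ := hmoved y y₃ _ (hmv y₃ hy₃)
    rw [hw] at hw'
    simp only [Sum.inl.injEq, Prod.mk.injEq] at hw'
    obtain ⟨rfl, rfl⟩ := hw'
    refine ⟨x'', ?_⟩
    rw [hw]
    rcases h2 with rfl | rfl
    · rfl
    · rcases h3 with rfl | rfl
      · rfl
      · exact absurd rfl hy₃₂
  choose F hF using hblock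
  have hinl : ∀ y x, c (Sum.inl (y, x)) = Sum.inl (y, x + F y 0) := by
    intro y x
    have h01 : ∀ x : ZMod 2, x = 0 ∨ x = 1 := by decide
    rcases h01 x with rfl | rfl
    · rw [hF, zero_add]
    · rw [hF]
      have hne : F y 0 ≠ F y 1 := by
        intro h'
        have h1 : c (Sum.inl (y, 0)) = c (Sum.inl (y, 1)) := by rw [hF, hF, h']
        have := c.injective h1
        simp only [Sum.inl.injEq, Prod.mk.injEq, true_and] at this
        exact absurd this (by decide)
      rw [zmod2_eq_add_one hne, add_comm]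
  refine ⟨fun y => F y 0, ?_⟩
  ext z
  rcases z with ⟨y, x⟩ | r
  · rw [hinl, bs_inl]
  · rw [bs_inr]
    rcases hw : c (Sum.inr r) with ⟨y, x⟩ | r'
    · exfalso
      have h1 : c (Sum.inl (y, x - F y 0)) = Sum.inl (y, x) := by
        rw [hinl, sub_add_cancel]
      rw [← hw] at h1
      have := c.injective h1
      simp at this
    · rw [Subsingleton.elim r' r]

theorem tp_mem_normalizer_A0 (σ : Perm Y) :
    tp σ ∈ Subgroup.normalizer ((A0 Y R : Subgroup _) : Set (Perm (X 2 Y R))) := by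
  have hA := tp_mem_normalizer_A (p := 2) (R := R) σ
  rw [Subgroup.mem_normalizer_iff] at hA ⊢
  intro x
  unfold A0
  rw [Subgroup.mem_inf, Subgroup.mem_inf, ← hA x, Perm.mem_alternatingGroup,
    Perm.mem_alternatingGroup, Perm.sign_mul, Perm.sign_mul, Perm.sign_inv, mul_comm,
    ← mul_assoc, Int.units_mul_self, one_mul]

/-- the generation statement for `p = 2` -/
theorem gen_two [Subsingleton R] (hY : 3 ≤ Fintype.card Y) (S' : Subgroup (Perm Y))
    (h : Perm (X 2 Y R)) (hA : h ∈ alternatingGroup (X 2 Y R))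
    (hN : h ∈ Subgroup.normalizer ((wr2 R S' : Subgroup _) : Set (Perm (X 2 Y R)))) :
    h ∈ Subgroup.closure
      {h : Perm (X 2 Y R) | GoodRel 2 (alternatingGroup (X 2 Y R)) (wr2 R S') h} := by
  haveI : Fact (Nat.Prime 2) := ⟨Nat.prime_two⟩
  obtain ⟨τ, u, f, rfl⟩ := exists_monomial (fun f => conj_bs_mem_A_two hY hN f)
    (fun f => conj_bs_mem_A_two hY (Subgroup.inv_mem _ hN) f)
  have hu : u = 1 := Subsingleton.elim _ _
  rw [hu, tr_one, mul_one] at hA hN ⊢
  have hbsA : bs (R := R) f ∈ alternatingGroup (X 2 Y R) := by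
    have := Subgroup.mul_mem _ (Subgroup.inv_mem _ (tp_mem_alt (R := R) τ)) hA
    rwa [inv_mul_cancel_left] at this
  have hbs : bs (R := R) f ∈ wr2 R S' :=
    A0_le_wr2 _ (Subgroup.mem_inf.2 ⟨bs_mem_A f, hbsA⟩)
  have htpN : tp (p := 2) (R := R) τ ∈
      Subgroup.normalizer ((wr2 R S' : Subgroup _) : Set (Perm (X 2 Y R))) := by
    have := Subgroup.mul_mem _ hN (Subgroup.inv_mem _ (Subgroup.le_normalizer hbs))
    rwa [mul_inv_cancel_right] at this
  refine Subgroup.mul_mem _ ?_ (Subgroup.subset_closure (Or.inl hbs))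
  apply Subgroup.subset_closure
  right
  refine ⟨tp_mem_alt τ, htpN, A0 Y R, A0_le_wr2 S', ?_, ?_⟩
  · intro c hc
    obtain ⟨hc1, hc2⟩ := Subgroup.mem_inf.1 hc
    refine Subgroup.mem_inf.2 ⟨?_, hc2⟩
    apply mem_A_of_comm_dd hY
    intro y₁ y₂
    exact ((Subgroup.mem_centralizer_iff.1 hc1) _ (dd_mem_A0 y₁ y₂)).symm
  · have hτ : τ ∈ Subgroup.closure {σ : Perm Y | σ.IsSwap} := by
      rw [Perm.closure_isSwap]
      exact Subgroup.mem_top _
    have hle : Subgroup.closure {σ : Perm Y | σ.IsSwap} ≤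
        (Subgroup.closure {x : Perm (X 2 Y R) | x ∈ alternatingGroup (X 2 Y R) ∧
          x ∈ Subgroup.normalizer ((A0 Y R : Subgroup _) : Set (Perm (X 2 Y R))) ∧
          ∃ k : ℕ, orderOf x = 2 ^ k}).comap (tpHom (p := 2) (R := R)) := by
      rw [Subgroup.closure_le]
      rintro σ ⟨a, b, hab, rfl⟩
      rw [SetLike.mem_coe, Subgroup.mem_comap, tpHom_apply]
      apply Subgroup.subset_closure
      refine ⟨tp_mem_alt _, tp_mem_normalizer_A0 _, ?_⟩
      apply exists_pow_of_pow_p_eq_one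
      rw [pow_two, ← tp_mul, swap_mul_self, tp_one]
    exact hle hτ

end Cfsg.Agent.Lib.H25.Alt
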