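import Mathlib
import Cfsg.Agent.Lib.H25.AltP

set_option autoImplicit false

/-!
# The prime `2`: the fusion system of the alternating group is simple (helper25)
-/

namespace Cfsg.Agent.Lib.H25.Alt

open Equiv Cfsg Cfsg.Agent.Lib.H25.AltCrit

variable {Y' R' R : Type*}

variable [Fintype Y'] [DecidableEq Y'] [Fintype R'] [DecidableEq R'] [Fintype R] [DecidableEq R]

theorem alt_simple_two {n : ℕ} [Subsingleton R] [Nonempty Y'] (hR' : Fintype.card R' < 2)
    (hY : 3 ≤ Fintype.card (X 2 Y' R')) (e : Fin n ≃ XX 2 Y' R' R)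
    (S : Sylow 2 (alternatingGroup (Fin n))) :
    (groupFusionSystem (S : Subgroup (alternatingGroup (Fin n)))).IsSimple 2 := by
  haveI : Fact (Nat.Prime 2) := ⟨Nat.prime_two⟩
  have hR : Fintype.card R < 2 := by
    have : Fintype.card R ≤ 1 := Fintype.card_le_one_iff_subsingleton.2 inferInstance
    omega
  obtain ⟨S''⟩ := (inferInstance : Nonempty (Sylow 2 (Perm Y')))
  set S' : Sylow 2 (Perm (X 2 Y' R')) :=
    Sylow.ofCard (wr 2 R' (S'' : Subgroup (Perm Y'))) (card_wr_sylow hR' S'') with hS'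
  have hS'coe : (S' : Subgroup (Perm (X 2 Y' R'))) = wr 2 R' (S'' : Subgroup (Perm Y')) := rfl
  obtain ⟨y'₀⟩ := ‹Nonempty Y'›
  haveI : Nonempty Y' := ⟨y'₀⟩
  haveI : Nonempty (X 2 Y' R') := ⟨Sum.inl (y'₀, 0)⟩
  refine alt_simple_of_model e S (wr2 R (wr 2 R' (S'' : Subgroup (Perm Y')))) ?_ ?_ ?_ ?_ ?_
  · exact wr2_le_alt _
  · exact card_wr2_sylow hR S'
  · intro hbot
    have h1 : dd R (Sum.inl (y'₀, 0) : X 2 Y' R') (Sum.inl (y'₀, 1)) ∈
        wr2 R (wr 2 R' (S'' : Subgroup (Perm Y'))) := A0_le_wr2 _ (dd_mem_A0 _ _)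
    rw [hbot, Subgroup.mem_bot, dd, bs_eq_one_iff] at h1
    have := congrFun h1 (Sum.inl (y'₀, 0))
    rw [Pi.add_apply, Pi.single_eq_same, Pi.single_eq_of_ne, Pi.zero_apply] at this
    · exact absurd this (by decide)
    · intro h
      simp only [Sum.inl.injEq, Prod.mk.injEq, true_and] at h
      exact zero_ne_one (α := ZMod 2) h
  · intro T hT hsc
    by_cases hTb : T = ⊥
    · exact Or.inl hTb
    · right
      exact sc_two_two hR hR' hY S'' T hT hsc hTb
  · intro h hA hN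
    exact gen_two hY (wr 2 R' (S'' : Subgroup (Perm Y'))) h hA hN

end Cfsg.Agent.Lib.H25.Alt
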