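/-
Symplectic Phase 2 (architect helper9), task **SP2-B1** (helper25): `Sp_2m(F)` stabilises no proper non-zero subspace.
Exact signatures of `tools/blueprints/SP2_sigs.lean`.
-/
import Cfsg.Agent.Lib.H11.AschSDefs
import Cfsg.Agent.Lib.H11.SubspMax2

set_option autoImplicit false

namespace Cfsg.Agent.Lib.H25.AschSP2

open Cfsg Cfsg.Geo Cfsg.Agent.Lib.Lead.Asch Cfsg.Agent.Lib.H11.AschS Cfsg.Agent.Lib.H11.SubspMax
open scoped MatrixGroups Matrix Kronecker

variable {F : Type*} [Field F] [Fintype F] {m : ℕ}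

/-- **SP2-B1**. -/
theorem not_sp_le_subspaceStabilizer (hm : 1 ≤ m) (W : Submodule F (Fin m ⊕ Fin m → F)) (h0 : W ≠ ⊥)
    (h1 : W ≠ ⊤) : ¬ spGL m F ≤ subspaceStabilizer W := by
  intro hle
  -- every vector lies in `W` or in `W^⊥`
  have key : ∀ u : Fin m ⊕ Fin m → F, u ∈ W ∨ ∀ w ∈ W, sympForm m F w u = 0 := by
    intro u
    by_cases hu : u ∈ W
    · exact Or.inl hu
    · right
      intro w hw
      by_contra hne
      have h2 : stv u 1 ∈ subspaceStabilizer W := hle (stv_mem_spGL u 1)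
      have h3 : ((stv u (1 : F) : GL (Fin m ⊕ Fin m) F) : Matrix (Fin m ⊕ Fin m) (Fin m ⊕ Fin m) F) *ᵥ w ∈ W :=
        (h2 w).1 hw
      rw [stv_mulVec, one_mul] at h3
      have h4 : sympForm m F w u • u ∈ W := by
        have := W.sub_mem h3 hw
        rwa [add_sub_cancel_left] at this
      exact hu ((W.smul_mem_iff hne).1 h4)
  -- a vector outside `W`
  obtain ⟨a, ha⟩ : ∃ a : Fin m ⊕ Fin m → F, a ∉ W := by
    by_contra hcon
    push Not at hcon
    exact h1 (eq_top_iff.2 fun x _ => hcon x)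
  -- a vector outside `W^⊥`
  obtain ⟨w, hw, hw0⟩ := (Submodule.ne_bot_iff W).1 h0
  obtain ⟨b, hb⟩ := exists_sympForm_ne w hw0
  have haperp : ∀ w ∈ W, sympForm m F w a = 0 := (key a).resolve_left ha
  have hbW : b ∈ W := by
    rcases key b with h | h
    · exact h
    · exact absurd (h w hw) hb
  rcases key (a + b) with h | h
  · exact ha (by have := W.sub_mem h hbW; rwa [add_sub_cancel_right] at this)
  · have h5 := h w hw
    rw [Cfsg.Agent.Lib.H4.sympForm_add_right, haperp w hw, zero_add] at h5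
    exact hb h5

theorem ne_top_of_totallySingular (hm : 1 ≤ m) (W : Submodule F (Fin m ⊕ Fin m → F))
    (h : IsTotallySingularFor (sympForm m F) W) : W ≠ ⊤ := by
  intro htop
  set x : Fin m ⊕ Fin m → F := Pi.single (Sum.inl ⟨0, by omega⟩) 1 with hx
  have hx0 : x ≠ 0 := by
    intro h0
    have := congrFun h0 (Sum.inl ⟨0, by omega⟩)
    simp [hx] at this
  obtain ⟨y, hy⟩ := exists_sympForm_ne x hx0
  exact hy (h x (by rw [htop]; exact Submodule.mem_top) y (by rw [htop]; exact Submodule.mem_top))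

theorem ne_top_of_finrank_lt (W : Submodule F (Fin m ⊕ Fin m → F)) (h : Module.finrank F W < m) : W ≠ ⊤ := by
  intro htop
  rw [htop, finrank_top, Module.finrank_fintype_fun_eq_card, Fintype.card_sum, Fintype.card_fin] at h
  omega

end Cfsg.Agent.Lib.H25.AschSP2
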