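/-
Symplectic Phase 2 (architect helper9), task **SP2-B8** (helper25): `Sp_2m(F)`, `m ≥ 2`, is not contained in the
similarity group of a quadratic form polarising to the symplectic form.
Exact signature of `tools/blueprints/SP2_sigs.lean`.
-/
import Cfsg.Agent.Lib.H11.AschSDefs
import Cfsg.Agent.Lib.H11.SubspMax2
import Cfsg.Agent.Lib.H15.SpSubA

set_option autoImplicit false

namespace Cfsg.Agent.Lib.H25.AschSP2

open Cfsg Cfsg.Geo Cfsg.Agent.Lib.Lead.Asch Cfsg.Agent.Lib.H11.AschS Cfsg.Agent.Lib.H11.SubspMax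
  Cfsg.Agent.Lib.H15.SpSub
open Cfsg.Agent.Lib.H4 (sympForm_self sympForm_add_left sympForm_add_right sympForm_smul_left
  sympForm_smul_right sympForm_swap)
open scoped MatrixGroups Matrix Kronecker

variable {F : Type*} [Field F] [Fintype F] {m : ℕ}

/-- **SP2-B8**. -/
theorem not_sp_le_quadSimilarityGroup (hm : 2 ≤ m) (Q : (Fin m ⊕ Fin m → F) → F)
    (hQ : IsNondegenerateQuadraticForm Q)
    (hpol : ∀ u v, QuadraticMap.polar Q u v = sympForm m F u v) :
    ¬ spGL m F ≤ quadSimilarityGroup Q := by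
  intro hle
  have hQadd : ∀ x y, Q (x + y) = Q x + Q y + sympForm m F x y := by
    intro x y
    rw [← hpol, QuadraticMap.polar]
    ring
  have h2Q : ∀ v, 2 * Q v = 0 := by
    intro v
    have h := hQadd v v
    rw [sympForm_self, add_zero, ← two_smul F v, hQ.smul] at h
    linear_combination h
  set e₁ : Fin m ⊕ Fin m → F := eb (Sum.inl ⟨0, by omega⟩) with he₁
  set e₂ : Fin m ⊕ Fin m → F := eb (Sum.inl ⟨1, by omega⟩) with he₂
  have h2 : (2 : F) = 0 := by
    by_contra h2
    have hQ0 : ∀ v, Q v = 0 := fun v => (mul_eq_zero.1 (h2Q v)).resolve_left h2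
    obtain ⟨y, hy⟩ := exists_sympForm_ne e₁ (eb_ne_zero _)
    apply hy
    have := hQadd e₁ y
    rw [hQ0, hQ0, hQ0, zero_add, zero_add] at this
    exact this.symm
  have he12 : sympForm m F e₁ e₂ = 0 := by
    apply B_eb_eb_of_ne
    simp
  -- a singular vector
  obtain ⟨u, hu0, hQu⟩ : ∃ u : Fin m ⊕ Fin m → F, u ≠ 0 ∧ Q u = 0 := by
    by_cases h1 : Q e₁ = 0
    · exact ⟨e₁, eb_ne_zero _, h1⟩
    · have hchar : ringChar F = 2 := by
        haveI : CharP F 2 := CharTwo.of_one_ne_zero_of_two_eq_zero one_ne_zero h2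
        exact ringChar.eq F 2
      obtain ⟨a, ha⟩ := FiniteField.isSquare_of_char_two hchar (Q e₂ / Q e₁)
      refine ⟨a • e₁ + e₂, ?_, ?_⟩
      · intro h0
        have h3 := congrFun h0 (Sum.inl ⟨1, by omega⟩)
        have h4 : e₁ (Sum.inl ⟨1, by omega⟩) = 0 := by
          apply eb_apply_ne
          intro h
          have := Sum.inl.inj h
          simp at this
        have h5 : e₂ (Sum.inl ⟨1, by omega⟩) = 1 := eb_apply_self _
        rw [Pi.add_apply, Pi.smul_apply, h4, h5, smul_zero, zero_add, Pi.zero_apply] at h3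
        exact one_ne_zero h3
      · rw [hQadd, hQ.smul, sympForm_smul_left, he12, mul_zero, add_zero]
        have h3 : a ^ 2 * Q e₁ = Q e₂ := by
          rw [sq, ← ha]
          field_simp
        rw [h3]
        linear_combination h2Q e₂
  -- the transvection with centre `u`
  have hτ : stv u 1 ∈ quadSimilarityGroup Q := hle (stv_mem_spGL u 1)
  obtain ⟨μ, hμ⟩ := hτ
  have hQτ : ∀ x, Q (((stv u (1 : F) : GL (Fin m ⊕ Fin m) F) :
      Matrix (Fin m ⊕ Fin m) (Fin m ⊕ Fin m) F) *ᵥ x) = Q x + (sympForm m F x u) ^ 2 := by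
    intro x
    rw [stv_mulVec, one_mul, hQadd, hQ.smul, hQu, mul_zero, add_zero, sympForm_smul_right]
    ring
  have hrel : ∀ x, ((μ : F) - 1) * Q x = (sympForm m F x u) ^ 2 := by
    intro x
    have := hμ x
    rw [hQτ] at this
    linear_combination -this
  obtain ⟨y, hy⟩ := exists_sympForm_ne u hu0
  have hyu : sympForm m F y u ≠ 0 := sympForm_ne_swap hy
  by_cases hμ1 : (μ : F) = 1
  · have := hrel y
    rw [hμ1, sub_self, zero_mul] at this
    exact hyu (pow_eq_zero_iff two_ne_zero |>.1 this.symm)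
  · have hμ1' : (μ : F) - 1 ≠ 0 := sub_ne_zero.2 hμ1
    have hc : ∀ x, Q x = ((μ : F) - 1)⁻¹ * (sympForm m F x u) ^ 2 := by
      intro x
      rw [← hrel x, ← mul_assoc, inv_mul_cancel₀ hμ1', one_mul]
    have hzero : ∀ x z, sympForm m F x z = 0 := by
      intro x z
      have := hQadd x z
      rw [hc (x + z), hc x, hc z, sympForm_add_left] at this
      linear_combination (-1 : F) * this +
        (((μ : F) - 1)⁻¹ * sympForm m F x u * sympForm m F z u) * h2
    exact hy (hzero u y)

end Cfsg.Agent.Lib.H25.AschSP2
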