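/-
Symplectic Phase 2 (architect helper9), task **SP2-E2** (helper25): `|F| = 3`, symmetric factor of dimension 3: the tensor
member lies in the stabiliser of a non-degenerate decomposition into three blocks.
Exact signature of `tools/blueprints/SP2_sigs.lean`.
-/
import Cfsg.Agent.Lib.H25.AschSP2E2d
import Cfsg.Agent.Lib.H11.AschSDefs

set_option autoImplicit false

namespace Cfsg.Agent.Lib.H25.AschSP2

open Cfsg Cfsg.Geo Cfsg.Agent.Lib.Lead.Asch Cfsg.Agent.Lib.H11.AschS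
open scoped MatrixGroups Matrix Kronecker

variable {F : Type*} [Field F] [Fintype F] {m : ℕ}

/-- **SP2-E2**. -/
theorem c4_three_q3 (hm : 1 ≤ m) (n₁ : ℕ) (e : Fin m ⊕ Fin m ≃ Fin n₁ × Fin 3) (P : GL (Fin m ⊕ Fin m) F)
    (f₁ : (Fin n₁ → F) → (Fin n₁ → F) → F) (f₂ : (Fin 3 → F) → (Fin 3 → F) → F)
    (hf₁ : IsSymplecticForm f₁) (hf₂ : IsSymmetricForm f₂)
    (hT : IsTensorFormStructure id (sympForm m F) f₁ f₂ e P) (hq : Fintype.card F = 3) :
    ∃ D : Fin 3 → Submodule F (Fin m ⊕ Fin m → F),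
      IsNondegenerateMDecomposition (sympForm m F) n₁ D ∧
      tensorProductSubgroup n₁ 3 e P ⊓ spGL m F ≤ decompositionStabilizer D := by
  have hn₁ : 0 < n₁ := by
    have h := Fintype.card_congr e
    rw [Fintype.card_sum, Fintype.card_prod, Fintype.card_fin, Fintype.card_fin, Fintype.card_fin] at h
    rcases Nat.eq_zero_or_pos n₁ with h0 | h0
    · rw [h0, zero_mul] at h
      omega
    · exact h0
  obtain ⟨D, hD, hstab⟩ := c4_three_q3_aux (sympForm m F) n₁ hn₁ e P f₁ f₂ hf₁.bilinear hf₁.nondegenerate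
    hf₂ hT hq
  exact ⟨D, hD, fun g hg => hstab g hg.1 (fun u v => hg.2 u v)⟩

end Cfsg.Agent.Lib.H25.AschSP2
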