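/-
Symplectic Phase 2 (architect helper9), task **SP2-F6** (helper25): the dimension of a class-6 member is a power of two.
Exact signature of `tools/blueprints/SP2_sigs.lean`.
-/
import Cfsg.Agent.Lib.H11.AschSDefs
import Cfsg.Agent.Lib.H11.AschST0d
import Cfsg.Agent.Lib.H3.AschP2F4

set_option autoImplicit false

namespace Cfsg.Agent.Lib.H25.AschSP2

open Cfsg Cfsg.Geo Cfsg.Agent.Lib.Lead.Asch Cfsg.Agent.Lib.H11.AschS Cfsg.Agent.Lib.H3.Asch
  Cfsg.Agent.Lib.H3.AschP2
open scoped MatrixGroups Matrix Kronecker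

variable {F : Type*} [Field F] [Fintype F] {m : ℕ}

/-- **SP2-F6**. -/
theorem sc6_dim (R : Subgroup (GL (Fin m ⊕ Fin m) F))
    (habs : ActsAbsolutelyIrreducibly (matrixSet R))
    (hcl2 : ∀ x ∈ R, ∀ y ∈ R, x * y * x⁻¹ * y⁻¹ ∈ scalars (Fin m ⊕ Fin m) F) (k : ℕ)
    (hcard : Nat.card R = 2 ^ (1 + 2 * k)) (hZ : Nat.card (Subgroup.center R) = 2) :
    2 * m = 2 ^ k := by
  classical
  rcases Nat.eq_zero_or_pos m with rfl | hm
  · -- the group is trivial
    exfalso
    have hsub : Subsingleton (GL (Fin 0 ⊕ Fin 0) F) := by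
      refine ⟨fun a b => Units.ext ?_⟩
      ext i j
      rcases i with i | i <;> exact i.elim0
    have : Nat.card R = 1 := Nat.card_unique
    rw [this] at hcard
    have : 2 ≤ 2 ^ (1 + 2 * k) := by
      calc 2 = 2 ^ 1 := (pow_one 2).symm
        _ ≤ 2 ^ (1 + 2 * k) := Nat.pow_le_pow_right (by norm_num) (by omega)
    omega
  set e : Fin (m + m) ≃ Fin m ⊕ Fin m := finSumFinEquiv.symm with he
  set R' : Subgroup (GL (Fin (m + m)) F) := R.comap (glReindex (F := F) e).toMonoidHom with hR'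
  have habs' : ActsAbsolutelyIrreducibly (matrixSet R') := absIrr_comap e R habs
  have hcl2' : ∀ x ∈ R', ∀ y ∈ R', x * y * x⁻¹ * y⁻¹ ∈ scalars (Fin (m + m)) F := by
    intro x hx y hy
    apply mem_scalars_of_glReindex e
    rw [map_mul, map_mul, map_mul, map_inv, map_inv]
    exact hcl2 _ hx _ hy
  have hspan := span_eq_top_of_absIrr R' habs'
  have h1 := card_eq_of_span_eq_top (by omega : 0 < m + m) R' hcl2' hspan
  rw [card_scalars_subgroupOf_eq_card_center R' habs'] at h1
  have hRR : Nat.card R' = Nat.card R := Nat.card_congr (comapEquiv (glReindex (F := F) e) R).toEquiv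
  have hZZ : Nat.card (Subgroup.center R') = Nat.card (Subgroup.center R) :=
    Nat.card_congr (Subgroup.centerCongr (comapEquiv (glReindex (F := F) e) R)).toEquiv
  rw [hRR, hZZ, hcard, hZ, pow_add, pow_one] at h1
  have h2 : (m + m) ^ 2 = 2 ^ (2 * k) := (Nat.eq_of_mul_eq_mul_left (by norm_num) h1).symm
  have h3 := eq_pow_of_sq_eq_pow h2
  omega

end Cfsg.Agent.Lib.H25.AschSP2
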