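import Mathlib
import Cfsg.Prelude.Def_Transfer
import Cfsg.Prelude.Def_Local
import Cfsg.Prelude.Def_LocalEven
import Cfsg.Prelude.Def_PLocal
import Cfsg.Agent.Lib.H14.SFour7
import Cfsg.Agent.Lib.H26.Involves

/-! # S4411 piece S3C: a criterion for `S₄`-freeness -/

set_option autoImplicit false
set_option linter.style.haveILetI false

namespace Cfsg.Agent.Lib.H25.AutQ

/-- An element whose order is divisible by `3` has a power of `3`-power order with the "same
nontriviality mod a normal subgroup": general form used below.  If `3 ∣ orderOf (φ y)` then some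
power `y ^ m` has `3`-power order and `φ (y ^ m) ≠ 1`. -/
theorem exists_pow_three_part {A B : Type*} [Group A] [Group B] [Finite A] (φ : A →* B) (y : A)
    (h3 : 3 ∣ orderOf (φ y)) :
    ∃ m : ℕ, (∃ k : ℕ, orderOf (y ^ m) = 3 ^ k) ∧ φ (y ^ m) ≠ 1 := by
  have hpos : 0 < orderOf y := orderOf_pos y
  obtain ⟨a, m, hm, hym⟩ := Nat.exists_eq_pow_mul_and_not_dvd hpos.ne' 3 (by norm_num)
  refine ⟨m, ⟨a, ?_⟩, ?_⟩
  · have hmdvd : m ∣ orderOf y := ⟨3 ^ a, by rw [hym, mul_comm]⟩
    have hm0 : m ≠ 0 := by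
      rintro rfl
      simp at hym
      omega
    rw [orderOf_pow_of_dvd hm0 hmdvd, hym, Nat.mul_div_cancel _ (Nat.pos_of_ne_zero hm0)]
  · intro h1
    rw [map_pow] at h1
    have : orderOf (φ y) ∣ m := orderOf_dvd_of_pow_eq_one h1
    exact hm (h3.trans this)

/-- **S3C**. -/
theorem not_involves_sfour_of_three {X : Type*} [Group X] [Finite X]
    (h : ∀ T : Subgroup X, IsPGroup 2 ↥T → ∀ y ∈ Subgroup.normalizer (T : Set X),
      (∃ k : ℕ, orderOf y = 3 ^ k) → y ∈ Subgroup.centralizer (T : Set X)) :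
    ¬ Cfsg.Involves (Equiv.Perm (Fin 4)) X := by
  intro hinv
  obtain ⟨T, hT, hS3⟩ := Cfsg.Agent.Lib.H14.SFour.sfour_involved_iff.mp hinv
  obtain ⟨Kb, f, hf⟩ := Cfsg.Agent.Lib.H26.involves_iff.mp hS3
  -- an element of `Kb` mapping to a 3-cycle
  obtain ⟨k, hk⟩ := hf (finRotate 3)
  have h3k : 3 ∣ orderOf k := by
    have h1 : orderOf (f k) ∣ orderOf k := orderOf_map_dvd f k
    have h2 : orderOf (finRotate 3 : Equiv.Perm (Fin 3)) = 3 := by
      have hc : (finRotate 3 : Equiv.Perm (Fin 3)).IsCycle := isCycle_finRotate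
      rw [hc.orderOf, support_finRotate]
      simp
    rwa [hk, h2] at h1
  -- pass to the quotient `N / C`
  have h3q : 3 ∣ orderOf (k : ↥(Subgroup.normalizer (T : Set X)) ⧸
      (Subgroup.centralizer (T : Set X)).subgroupOf (Subgroup.normalizer (T : Set X))) := by
    rwa [Subgroup.orderOf_coe]
  obtain ⟨y, hy⟩ := QuotientGroup.mk'_surjective
    ((Subgroup.centralizer (T : Set X)).subgroupOf (Subgroup.normalizer (T : Set X)))
    (k : ↥(Subgroup.normalizer (T : Set X)) ⧸
      (Subgroup.centralizer (T : Set X)).subgroupOf (Subgroup.normalizer (T : Set X)))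
  rw [← hy] at h3q
  obtain ⟨m, ⟨a, ha⟩, hne⟩ := exists_pow_three_part
    (QuotientGroup.mk' ((Subgroup.centralizer (T : Set X)).subgroupOf
      (Subgroup.normalizer (T : Set X)))) y h3q
  apply hne
  rw [QuotientGroup.mk'_apply, QuotientGroup.eq_one_iff, Subgroup.mem_subgroupOf]
  apply h T hT _ (y ^ m).2
  exact ⟨a, by rw [Subgroup.orderOf_coe]; exact ha⟩

end Cfsg.Agent.Lib.H25.AutQ
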