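import Cfsg.Agent.Lib.H25.BR6MULT

/-!
# S4484 (ARITH): `card_image_le` in the shape of `tools/blueprints/S4484_sigs.lean`

Exact signature of the sigs file plus the necessary hypothesis `he : 0 < e`
(for `e = 0` the statement is false: `n = 1`, `a = ![1]`).
-/

set_option autoImplicit false

open Cfsg Cfsg.Agent.Lib.H23

namespace Cfsg.Agent.Lib.H25.BB

/-- (R1) a `p`-th root of unity is `≡ 1 (mod M)`. -/
theorem root_sub_one_mem {p : ℕ} {M : Ideal AlgInt} (hM : IsPModular p M) (u : ℂ)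
    (hu : u ^ p = 1) : MemLocalIdeal M (u - 1) :=
  Cfsg.Agent.Lib.H25.BR6.sub_one_memLocalIdeal hM hu

/-- (ARITH) the counting core: `a` = eigenvalue list (`p`-th roots of unity), `S_j = ∑_k a_k^j`;
(H1) `e S_j / n` integral for `p ∤ j`, (H2) `S_1/n ≡ 1 (mod M)`  ⟹  at most `e` distinct eigenvalues. -/
theorem card_image_le {p : ℕ} {M : Ideal AlgInt} (hM : IsPModular p M) {n : ℕ} (hn : 0 < n)
    (a : Fin n → ℂ) (ha : ∀ k, a k ^ p = 1) (e : ℕ) (he : 0 < e)
    (hint : ∀ j : ℕ, ¬ p ∣ j → IsIntegral ℤ ((e : ℂ) * (∑ k, a k ^ j) / (n : ℂ)))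
    (hcong : MemLocalIdeal M ((∑ k, a k) / (n : ℂ) - 1)) :
    (Finset.univ.image a).card ≤ e := by
  have hP := isPrime_of_isPModular hM
  refine Cfsg.Agent.Lib.H25.BR6.card_image_le_of_block hM a ha hn e he ?_ ?_
  · intro j hj1 hjp
    exact hint j (Nat.not_dvd_of_pos_of_lt hj1 hjp)
  · have h1 : (e : ℂ) * (∑ k, a k) / (n : ℂ) - e = (e : ℂ) * ((∑ k, a k) / (n : ℂ) - 1) := by ring
    rw [h1]
    exact memLocalIdeal_mul_left (natCast_mem_localRing e) hcong

end Cfsg.Agent.Lib.H25.BB
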