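/-
Fusion-theoretic lemmas for the Benson--Grodal--Henke theorem: small exponent abelian subgroups
control fusion.
-/
import Mathlib
import Cfsg.Prelude.Def_FusionSystem
import Cfsg.Agent.Lib.H25.Fusion
import Cfsg.Agent.Lib.H25.Saturation
import Cfsg.Agent.Lib.H25.SatEquiv
import Cfsg.Agent.Lib.H25.ExtUnique
import Cfsg.Agent.Lib.H25.SysOfPred
import Cfsg.Agent.Lib.H25.Alperin
import Cfsg.Agent.Lib.H25.AlperinInd
import Cfsg.Agent.Lib.H25.Hyperfocal
import Cfsg.Agent.Lib.H25.BGHPGroup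
set_option autoImplicit false

namespace Cfsg.Agent.Lib.H25

open Cfsg Cfsg.FusionSystem Cfsg.Agent.S5114

variable {Ω : Type*} [Group Ω] {S : Subgroup Ω}

/-- `N_S(A) ≤ N_S(C_S(A))`. -/
theorem normalizerIn_le_normalizerIn_centralizerIn [Finite S] (A : Subgroup Ω) :
    normalizerIn S A ≤ normalizerIn S (centralizerIn S A) := by
  intro x hx
  refine ⟨hx.1, ?_⟩
  have hfin : Finite (centralizerIn S A) := finite_of_le S inf_le_left
  apply mem_normalizer_of_conj_mem
  intro c hc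
  refine ⟨S.mul_mem (S.mul_mem hx.1 hc.1) (S.inv_mem hx.1), ?_⟩
  show _ ∈ Subgroup.centralizer (A : Set Ω)
  rw [Subgroup.mem_centralizer_iff]
  intro a ha
  have ha' : x⁻¹ * a * x⁻¹⁻¹ ∈ A :=
    (Subgroup.mem_normalizer_iff.1 (Subgroup.inv_mem _ hx.2) a).1 ha
  have hcc : c ∈ Subgroup.centralizer (A : Set Ω) := hc.2
  have h1 := (Subgroup.mem_centralizer_iff.1 hcc) _ ha'
  calc a * (x * c * x⁻¹) = x * ((x⁻¹ * a * x⁻¹⁻¹) * c) * x⁻¹ := by group
    _ = x * (c * (x⁻¹ * a * x⁻¹⁻¹)) * x⁻¹ := by rw [h1]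
    _ = x * c * x⁻¹ * a := by group

/-- The centralizer in `S` of a fully centralized abelian subgroup is centric. -/
theorem centralizerIn_isCentric [Finite S] {F : FusionSystem S} {A : Subgroup Ω}
    (hA : F.IsFullyCentralized A) (hAab : ∀ a ∈ A, ∀ b ∈ A, a * b = b * a) :
    F.IsCentric (centralizerIn S A) := by
  have hAD : A ≤ centralizerIn S A := by
    intro a ha
    refine ⟨hA.1 ha, ?_⟩
    show a ∈ Subgroup.centralizer (A : Set Ω)
    rw [Subgroup.mem_centralizer_iff]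
    intro b hb
    exact hAab b hb a ha
  refine ⟨inf_le_left, fun D' hD' => ?_⟩
  obtain ⟨f, hf⟩ := (isConj_iff F).1 hD'
  obtain ⟨A', hA'D', hfA, hmemA'⟩ := hf.restrict hAD
  have hD'S : D' ≤ S := hf.le_right
  have hle : D' ≤ centralizerIn S A' := by
    intro y hy
    refine ⟨hD'S hy, ?_⟩
    show y ∈ Subgroup.centralizer (A' : Set Ω)
    rw [Subgroup.mem_centralizer_iff]
    intro a' ha'
    obtain ⟨d, hd, rfl⟩ := hf.surjOn hy
    obtain ⟨a, ha, rfl⟩ := hfA.surjOn ha'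
    rw [← hf.map_mul (hAD ha) hd, ← hf.map_mul hd (hAD ha)]
    congr 1
    have hdc : d ∈ Subgroup.centralizer (A : Set Ω) := hd.2
    exact (Subgroup.mem_centralizer_iff.1 hdc) a ha
  have hfin : Finite (centralizerIn S A') := finite_of_le S inf_le_left
  have hcard : Nat.card (centralizerIn S A') ≤ Nat.card D' := by
    rw [← hf.card_eq]
    exact hA.2 A' hfA.isConj
  have heq : D' = centralizerIn S A' := Subgroup.eq_of_le_of_card_ge hle hcard
  intro c hc
  rw [heq]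
  refine ⟨hc.1, ?_⟩
  show c ∈ Subgroup.centralizer (A' : Set Ω)
  have hcc : c ∈ Subgroup.centralizer (D' : Set Ω) := hc.2
  rw [Subgroup.mem_centralizer_iff] at hcc ⊢
  intro a' ha'
  exact hcc a' (hA'D' ha')

/-- Conjugation by an element of `N_S(P)` as an element of `Aut_S(P)`. -/
theorem exists_conj_aut (F : FusionSystem S) {P : Subgroup Ω} (hP : P ≤ S) {n : Ω}
    (hn : n ∈ normalizerIn S P) :
    ∃ α ∈ autInducedBy S P, ∀ x : P, ((α x : P) : Ω) = n * x * n⁻¹ := by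
  obtain ⟨α, -, hαv⟩ := exists_mem_autGroup_of_isIso F (isIso_conj_normalizer F hP hn)
  exact ⟨α, (mem_autInducedBy_iff S P α).2 ⟨n, hn.1, hαv⟩, hαv⟩

/-- An isomorphism of `F` whose restriction to a normal `F`-centric subgroup lies in the saturated
subsystem `E` lies in `E`. -/
theorem isIso_of_restrict_centric [Finite S] {p : ℕ} [Fact p.Prime] (hS : IsPGroup p S)
    {E F : FusionSystem S} (hE : E.IsSaturated p) (hF : F.IsSaturated p)
    (hEF : E.IsSubsystemOf F) {Q Q' Q₀ Q₀' : Subgroup Ω} {f : Ω → Ω} (hf : IsIso F Q Q' f)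
    (hQ₀Q : Q₀ ≤ Q) (hQN : Q ≤ normalizerIn S Q₀) (hQ₀ : F.IsCentric Q₀)
    (hf₀ : IsIso E Q₀ Q₀' f) : IsIso E Q Q' f := by
  have hQS : Q ≤ S := hf.le_left
  have hQ₀'cen : F.IsCentric Q₀' := isCentric_of_isIso hQ₀ (hf₀.of_subsystem hEF)
  have hQ₀'cenE : E.IsCentric Q₀' :=
    ⟨hQ₀'cen.1, fun R hR => hQ₀'cen.2 R (by
      obtain ⟨φ, hφ, hr⟩ := hR
      exact ⟨φ, hEF _ hφ, hr⟩)⟩
  have hrecE : E.IsReceptive Q₀' :=
    isReceptive_of_fullyCentralized hS hE (isFullyCentralized_of_isCentric hQ₀'cenE)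
  obtain ⟨β, N', hβ, hβv⟩ := IsReceptive_extend hrecE hf₀ Q (by
    intro g hg
    refine ⟨hQS hg, (hQN hg).2, f g, hf.le_right (hf.map_mem hg), fun x hx => ?_⟩
    rw [hf.map_mul (Q.mul_mem hg (hQ₀Q hx)) (Q.inv_mem hg), hf.map_mul hg (hQ₀Q hx),
      hf.map_inv hg])
  obtain ⟨z, hz, -, hzv⟩ := iso_eq_comp_conj hS hF hQ₀Q hQN hQ₀ (hβ.of_subsystem hEF) hf
    (fun x hx => hβv x hx (hQ₀Q hx))
  have hzN : z ∈ normalizerIn S Q := le_normalizerIn hQS (hQ₀Q hz)
  have hcz : IsIso E Q Q (fun x => z * x * z⁻¹) := isIso_conj_normalizer E hQS hzN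
  have h1 : IsIso E Q N' f := (hcz.trans hβ).congr (fun g hg => (hzv g hg).symm)
  have : N' = Q' := IsIso.target_eq (h1.of_subsystem hEF) hf (fun _ _ => rfl)
  rwa [this] at h1


/-- Extension trick: if `β : R → R'` is an isomorphism of `F`, `A ⊴ R` is fully centralized in the
saturated subsystem `E`, `β|_A` lies in `E`, and every isomorphism of `F` with source `R` fixing
`A` elementwise lies in `E`, then `β` lies in `E`. -/
theorem isIso_of_fix_imp [Finite S] {p : ℕ} [Fact p.Prime] (hS : IsPGroup p S)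
    {E F : FusionSystem S} (hE : E.IsSaturated p) (hEF : E.IsSubsystemOf F)
    {R R' A A' : Subgroup Ω} {β : Ω → Ω} (hβ : IsIso F R R' β) (hAR : A ≤ R)
    (hRA : R ≤ normalizerIn S A) (hAfc : E.IsFullyCentralized A) (hβA : IsIso E A A' β)
    (hfix : ∀ (R'' : Subgroup Ω) (κ : Ω → Ω), IsIso F R R'' κ → (∀ a ∈ A, κ a = a) →
      IsIso E R R'' κ) : IsIso E R R' β := by
  have hRS : R ≤ S := hβ.le_left
  have hrec : E.IsReceptive A := isReceptive_of_fullyCentralized hS hE hAfc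
  obtain ⟨ε', hε', hε'β, hβε'⟩ := hβA.symm
  obtain ⟨β', hβ', hβ'β, hββ'⟩ := hβ.symm
  have hA'R' : A' ≤ R' := by
    intro y hy
    obtain ⟨a, ha, rfl⟩ := hβA.surjOn hy
    exact hβ.map_mem (hAR ha)
  have hfinA' : Finite A' := finite_of_le S hβA.le_right
  have hconj : ∀ s ∈ R', ∀ a ∈ A, s * β a * s⁻¹ = β (β' s * a * (β' s)⁻¹) := by
    intro s hs a ha
    have hr : β' s ∈ R := hβ'.map_mem hs
    rw [hβ.map_mul (R.mul_mem hr (hAR ha)) (R.inv_mem hr), hβ.map_mul hr (hAR ha),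
      hβ.map_inv hr, hββ' s hs]
  obtain ⟨ξ, R'', hξ, hξv⟩ := IsReceptive_extend hrec hε' R' (by
    intro s hs
    have hr : β' s ∈ R := hβ'.map_mem hs
    have hrN := hRA hr
    refine ⟨hβ.le_right hs, ?_, β' s, hRS hr, fun x hx => ?_⟩
    · apply mem_normalizer_of_conj_mem
      intro x hx
      obtain ⟨a, ha, rfl⟩ := hβA.surjOn hx
      rw [hconj s hs a ha]
      exact hβA.map_mem ((Subgroup.mem_normalizer_iff.1 hrN.2 a).1 ha)
    · obtain ⟨a, ha, rfl⟩ := hβA.surjOn hx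
      rw [hconj s hs a ha, hε'β a ha,
        hε'β _ ((Subgroup.mem_normalizer_iff.1 hrN.2 a).1 ha)])
  have hκ : IsIso F R R'' (ξ ∘ β) := hβ.trans (hξ.of_subsystem hEF)
  have hκfix : ∀ a ∈ A, (ξ ∘ β) a = a := by
    intro a ha
    show ξ (β a) = a
    rw [hξv _ (hβA.map_mem ha) (hA'R' (hβA.map_mem ha)), hε'β a ha]
  have hκE := hfix R'' _ hκ hκfix
  obtain ⟨ξ', hξ', hξ'ξ, hξξ'⟩ := hξ.symm
  refine (hκE.trans hξ').congr (fun x hx => ?_)
  show ξ' (ξ (β x)) = β x
  exact hξ'ξ _ (hβ.map_mem hx)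

/-- If all `p'`-automorphisms of `P` fixing `A` elementwise are trivial, `P` is fully automized and
`N_S(P)` normalizes `A`, then every element of `Aut_F(P)` fixing `A` elementwise lies in
`Aut_S(P)`. -/
theorem autGroup_fix_le_autInducedBy [Finite S] {p : ℕ} [Fact p.Prime] (hS : IsPGroup p S)
    {F : FusionSystem S} {P A : Subgroup Ω} (hfa : F.IsFullyAutomized p P)
    (hTA : ∀ t ∈ normalizerIn S P, ∀ a ∈ A, t * a * t⁻¹ ∈ A)
    (hstar : ∀ k ∈ F.autGroup P, Nat.Coprime (orderOf k) p →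
      (∀ x : P, (x : Ω) ∈ A → k x = x) → k = 1) :
    ∀ g ∈ F.autGroup P, (∀ x : P, (x : Ω) ∈ A → g x = x) → g ∈ autInducedBy S P := by
  obtain ⟨hPS, R, hR⟩ := hfa
  have hfinP : Finite P := finite_of_le S hPS
  let CA : Subgroup (MulAut P) :=
    { carrier := {g | ∀ x : P, (x : Ω) ∈ A → g x = x}
      one_mem' := fun x _ => rfl
      mul_mem' := by
        intro g h hg hh x hx
        show g (h x) = x
        rw [hh x hx, hg x hx]
      inv_mem' := by
        intro g hg x hx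
        have := hg x hx
        calc g⁻¹ x = g⁻¹ (g x) := by rw [this]
          _ = x := by simp }
  have hKp : IsPGroup p (CA ⊓ F.autGroup P : Subgroup (MulAut P)) :=
    isPGroup_of_coprime_trivial (CA ⊓ F.autGroup P) (fun k hk hco => hstar k hk.2 hco hk.1)
  have hAutSp := autInducedBy_isPGroup (p := p) hS P
  have hAutSle := autInducedBy_le_autGroup F hPS
  have hconj : ∀ α ∈ autInducedBy S P, ∀ h ∈ CA ⊓ F.autGroup P,
      α * h * α⁻¹ ∈ CA ⊓ F.autGroup P := by
    intro α hα h hh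
    refine ⟨?_, Subgroup.mul_mem _ (Subgroup.mul_mem _ (hAutSle hα) hh.2)
      (Subgroup.inv_mem _ (hAutSle hα))⟩
    intro x hx
    obtain ⟨t, htS, ht⟩ := (mem_autInducedBy_iff S P α).1 hα
    have htN : t ∈ normalizerIn S P := ⟨htS, mem_normalizer_of_induces ht⟩
    have h1 : ((α⁻¹ x : P) : Ω) = t⁻¹ * x * t⁻¹⁻¹ := by
      have h2 := ht (α⁻¹ x)
      have h3 : α (α⁻¹ x) = x := by simp
      rw [h3] at h2
      rw [h2]; group
    have h4 : ((α⁻¹ x : P) : Ω) ∈ A := by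
      rw [h1]
      exact hTA t⁻¹ (Subgroup.inv_mem _ htN) x hx
    show α (h (α⁻¹ x)) = x
    have hhCA : h ∈ CA := hh.1
    rw [hhCA _ h4]
    simp
  have hnorm : autInducedBy S P ≤ Subgroup.normalizer (CA ⊓ F.autGroup P : Subgroup (MulAut P)) := by
    intro α hα
    rw [Subgroup.mem_normalizer_iff]
    intro h
    constructor
    · exact hconj α hα h
    · intro hh
      have := hconj α⁻¹ (Subgroup.inv_mem _ hα) _ hh
      have e : α⁻¹ * (α * h * α⁻¹) * α⁻¹⁻¹ = h := by group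
      rwa [e] at this
  have hQp : IsPGroup p (CA ⊓ F.autGroup P ⊔ autInducedBy S P : Subgroup (MulAut P)) :=
    hKp.to_sup_of_normal_left' hAutSp hnorm
  have hQ'p : IsPGroup p ((CA ⊓ F.autGroup P ⊔ autInducedBy S P).subgroupOf (F.autGroup P)) :=
    hQp.comap_subtype
  have hRQ' : (R : Subgroup (F.autGroup P)) ≤
      (CA ⊓ F.autGroup P ⊔ autInducedBy S P).subgroupOf (F.autGroup P) := by
    rw [hR]
    intro x hx
    rw [Subgroup.mem_subgroupOf] at hx ⊢
    exact (le_sup_right : autInducedBy S P ≤ _) hx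
  have heq := R.is_maximal' hQ'p hRQ'
  intro g hg hgfix
  have h1 : (⟨g, hg⟩ : F.autGroup P) ∈
      (CA ⊓ F.autGroup P ⊔ autInducedBy S P).subgroupOf (F.autGroup P) := by
    rw [Subgroup.mem_subgroupOf]
    exact (le_sup_left : CA ⊓ F.autGroup P ≤ _) ⟨hgfix, hg⟩
  rw [heq, hR, Subgroup.mem_subgroupOf] at h1
  exact h1

/-- If `P` is fully automized in `F` and `Aut_E(P)` contains all `p'`-elements of `Aut_F(P)`, then
`Aut_F(P) ≤ Aut_E(P)`. -/
theorem autGroup_le_of_pprime [Finite S] {p : ℕ} [Fact p.Prime] {E F : FusionSystem S}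
    {P : Subgroup Ω} (hfa : F.IsFullyAutomized p P)
    (h : ∀ g ∈ F.autGroup P, Nat.Coprime (orderOf g) p → g ∈ E.autGroup P) :
    F.autGroup P ≤ E.autGroup P := by
  have hPS : P ≤ S := hfa.1
  intro α hα
  obtain ⟨g, hg, u, hu, hαu⟩ := exists_conj_mul_pResidual hfa ⟨α, hα⟩
  have hu' : (u : MulAut P) ∈ E.autGroup P := by
    have hle : pResidual p (F.autGroup P) ≤ (E.autGroup P).subgroupOf (F.autGroup P) := by
      unfold pResidual
      rw [Subgroup.closure_le]
      intro k hk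
      rw [SetLike.mem_coe, Subgroup.mem_subgroupOf]
      apply h _ k.2
      have hk' : Nat.Coprime (orderOf k) p := hk
      rwa [← Subgroup.orderOf_coe] at hk'
    exact Subgroup.mem_subgroupOf.1 (hle hu)
  obtain ⟨c, hc, hcv⟩ := exists_conj_aut E hPS hg
  have hc' : c ∈ E.autGroup P := autInducedBy_le_autGroup E hPS hc
  have : α = c * (u : MulAut P) := by
    ext x
    show ((α x : P) : Ω) = ((c ((u : MulAut P) x) : P) : Ω)
    rw [hcv]
    exact hαu x
  rw [this]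
  exact Subgroup.mul_mem _ hc' hu'


/-- **Lemma K.** Let `P` be `F`-centric and fully normalized, `A ⊴ P` abelian and fully centralized,
such that the elements of `Aut_F(P)` fixing `A` elementwise lie in `Aut_S(P)`, the isomorphisms of
`F` from `C_S(A)` fixing `A` lie in `E`, and `E` contains all maps of `F` with source larger than
`P`.  Then every isomorphism of `F` with source `P` fixing `A` elementwise lies in `E`. -/
theorem isIso_of_fix_K [Finite S] {p : ℕ} [Fact p.Prime] (hS : IsPGroup p S)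
    {E F : FusionSystem S} (hE : E.IsSaturated p) (hF : F.IsSaturated p)
    (hEF : E.IsSubsystemOf F) {P A : Subgroup Ω} (hPc : F.IsCentric P)
    (hPfn : F.IsFullyNormalized P) (hAP : A ≤ P) (hPA : P ≤ normalizerIn S A)
    (hAab : ∀ a ∈ A, ∀ b ∈ A, a * b = b * a) (hAfc : F.IsFullyCentralized A)
    (hK : ∀ g ∈ F.autGroup P, (∀ x : P, (x : Ω) ∈ A → g x = x) → g ∈ autInducedBy S P)
    (hC : ∀ (D' : Subgroup Ω) (f : Ω → Ω), IsIso F (centralizerIn S A) D' f →
      (∀ a ∈ A, f a = a) → IsIso E (centralizerIn S A) D' f)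
    (IH : ∀ Q' : Subgroup Ω, Q' ≤ S → Nat.card P < Nat.card Q' → F.Hom Q' ⊆ E.Hom Q')
    (P'' : Subgroup Ω) (κ : Ω → Ω) (hκ : IsIso F P P'' κ) (hκfix : ∀ a ∈ A, κ a = a) :
    IsIso E P P'' κ := by
  have hPS : P ≤ S := hPc.1
  have hP''S : P'' ≤ S := hκ.le_right
  have IH' : ∀ (Q' Q'' : Subgroup Ω) (k : Ω → Ω), Nat.card P < Nat.card Q' →
      IsIso F Q' Q'' k → IsIso E Q' Q'' k := by
    intro Q' Q'' k hlt hk
    obtain ⟨ψ, hψ, hψk, hr⟩ := hk
    exact ⟨ψ, IH Q' (hom_le F hψ) hlt hψ, hψk, hr⟩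
  have hDcen : F.IsCentric (centralizerIn S A) := centralizerIn_isCentric hAfc hAab
  have hPND : P ≤ normalizerIn S (centralizerIn S A) :=
    hPA.trans (normalizerIn_le_normalizerIn_centralizerIn A)
  by_cases hle : centralizerIn S A ≤ P
  · -- Case 1
    obtain ⟨D', -, hκD, -⟩ := hκ.restrict hle
    exact isIso_of_restrict_centric hS hE hF hEF hκ hle hPND hDcen (hC D' κ hκD hκfix)
  · -- Case 2
    have hquot : ∀ x ∈ P, x⁻¹ * κ x ∈ centralizerIn S A := by
      intro x hx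
      refine ⟨S.mul_mem (S.inv_mem (hPS hx)) (hP''S (hκ.map_mem hx)), ?_⟩
      show _ ∈ Subgroup.centralizer (A : Set Ω)
      rw [Subgroup.mem_centralizer_iff]
      intro a ha
      have hxa : x * a * x⁻¹ ∈ A := (Subgroup.mem_normalizer_iff.1 (hPA hx).2 a).1 ha
      have h1 : κ (x * a * x⁻¹) = κ x * a * (κ x)⁻¹ := by
        rw [hκ.map_mul (P.mul_mem hx (hAP ha)) (P.inv_mem hx), hκ.map_mul hx (hAP ha),
          hκ.map_inv hx, hκfix a ha]
      rw [hκfix _ hxa] at h1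
      calc a * (x⁻¹ * κ x) = x⁻¹ * (x * a * x⁻¹) * κ x := by group
        _ = x⁻¹ * (κ x * a * (κ x)⁻¹) * κ x := by rw [h1]
        _ = x⁻¹ * κ x * a := by group
    have hDNA : centralizerIn S A ≤ normalizerIn S A := centralizerIn_le_normalizerIn S A
    have hP''NA : P'' ≤ normalizerIn S A := by
      intro y hy
      obtain ⟨x, hx, rfl⟩ := hκ.surjOn hy
      have : κ x = x * (x⁻¹ * κ x) := by group
      rw [this]
      exact Subgroup.mul_mem _ (hPA hx) (hDNA (hquot x hx))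
    have hP''ND : P'' ≤ Subgroup.normalizer ((centralizerIn S A : Subgroup Ω) : Set Ω) :=
      fun y hy => (normalizerIn_le_normalizerIn_centralizerIn A (hP''NA hy)).2
    have hMS : P'' ⊔ centralizerIn S A ≤ S := sup_le hP''S inf_le_left
    have hPM : P ≤ P'' ⊔ centralizerIn S A := by
      intro x hx
      have : x = κ x * (x⁻¹ * κ x)⁻¹ := by group
      rw [this]
      exact Subgroup.mul_mem _ ((le_sup_left : P'' ≤ P'' ⊔ centralizerIn S A) (hκ.map_mem hx))
        (Subgroup.inv_mem _ ((le_sup_right : centralizerIn S A ≤ P'' ⊔ centralizerIn S A)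
          (hquot x hx)))
    have hne : P'' ≠ P'' ⊔ centralizerIn S A := by
      intro h
      have hPP'' : P ≤ P'' := by rw [h]; exact hPM
      have hfinP'' : Finite P'' := finite_of_le S hP''S
      have : P = P'' := Subgroup.eq_of_le_of_card_ge hPP'' (hκ.card_eq).ge
      apply hle
      rw [this, h]
      exact le_sup_right
    have hfinM : Finite (P'' ⊔ centralizerIn S A : Subgroup Ω) := finite_of_le S hMS
    have hMp : IsPGroup p (P'' ⊔ centralizerIn S A : Subgroup Ω) := hS.to_le hMS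
    obtain ⟨m, hm, hmP''⟩ := exists_mem_normalizerIn_not_mem (S := P'' ⊔ centralizerIn S A) hMp
      (le_sup_left : P'' ≤ P'' ⊔ centralizerIn S A) hne
    have hmM : m ∈ ((P'' ⊔ centralizerIn S A : Subgroup Ω) : Set Ω) := hm.1
    rw [Subgroup.coe_mul_of_left_le_normalizer_right P'' (centralizerIn S A) hP''ND] at hmM
    obtain ⟨y, hy, c, hc, rfl⟩ := hmM
    have hy : y ∈ P'' := hy
    have hc : c ∈ centralizerIn S A := hc
    have hcN : c ∈ Subgroup.normalizer (P'' : Set Ω) := by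
      have : c = y⁻¹ * (y * c) := by group
      rw [this]
      exact Subgroup.mul_mem _ (Subgroup.inv_mem _ (Subgroup.le_normalizer hy)) hm.2
    have hcP'' : c ∉ P'' := fun h => hmP'' (P''.mul_mem hy h)
    obtain ⟨hPfc, hPfa⟩ := fullyNormalized_props hS hF hPfn
    have hPrec : F.IsReceptive P := isReceptive_of_fullyCentralized hS hF hPfc
    obtain ⟨ρ, N', hρN, hN', hρP⟩ :=
      exists_normalizer_map hS hPfa hPrec (isConj_symm F hκ.isConj)
    have hcNS : c ∈ normalizerIn S P'' := ⟨hc.1, hcN⟩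
    have hP''N : P'' ≤ normalizerIn S P'' := le_normalizerIn hP''S
    have hlt : P'' < normalizerIn S P'' :=
      lt_of_le_of_ne hP''N (fun h => hcP'' (h ▸ hcNS))
    have hcard : Nat.card P < Nat.card (normalizerIn S P'') := by
      rw [hκ.card_eq]; exact card_lt_of_lt' inf_le_left hlt
    have hρNE : IsIso E (normalizerIn S P'') N' ρ := IH' _ _ _ hcard hρN
    have hρPE : IsIso E P'' P ρ :=
      hρNE.restrict' hP''N (fun x hx => hρP.map_mem hx) (fun y hy => hρP.surjOn hy)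
    have hg : IsIso F P P (ρ ∘ κ) := hκ.trans hρP
    obtain ⟨γ, hγ, hγv⟩ := exists_mem_autGroup_of_isIso F hg
    have hc'N : ρ c ∈ normalizerIn S P := hN' (hρN.map_mem hcNS)
    have hc'P : ρ c ∉ P := by
      intro h
      obtain ⟨y, hy, hyc⟩ := hρP.surjOn h
      have := hρN.injOn (hP''N hy) hcNS hyc
      exact hcP'' (this ▸ hy)
    obtain ⟨αc, hαc, hαcv⟩ := exists_conj_aut F hPS hc'N
    have hδ : γ⁻¹ * αc * γ ∈ F.autGroup P :=
      mul_mem (mul_mem (inv_mem hγ) (autInducedBy_le_autGroup F hPS hαc)) hγ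
    have hδfix : ∀ x : P, (x : Ω) ∈ A → (γ⁻¹ * αc * γ) x = x := by
      intro x hx
      show γ⁻¹ (αc (γ x)) = x
      have h1 : αc (γ x) = γ x := by
        apply Subtype.ext
        rw [hαcv, hγv]
        show ρ c * ρ (κ x) * (ρ c)⁻¹ = ρ (κ x)
        rw [hκfix _ hx]
        have hxN : (x : Ω) ∈ normalizerIn S P'' := hP''N (by
          have := hκ.map_mem x.2
          rwa [hκfix _ hx] at this)
        rw [← hρN.map_mul hcNS hxN, ← hρN.map_inv hcNS,
          ← hρN.map_mul (mul_mem hcNS hxN) (inv_mem hcNS)]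
        congr 1
        have hcc : c ∈ Subgroup.centralizer (A : Set Ω) := hc.2
        have := (Subgroup.mem_centralizer_iff.1 hcc) x hx
        rw [← this]; group
      rw [h1]; simp
    obtain ⟨s, hsS, hsv⟩ := (mem_autInducedBy_iff S P _).1 (hK _ hδ hδfix)
    obtain ⟨g', hg', hg'g, hgg'⟩ := hg.symm
    have hγinv : ∀ z : P, ((γ⁻¹ z : P) : Ω) = g' z := by
      intro z
      have h1 : γ ⟨g' z, hg'.map_mem z.2⟩ = z := by
        apply Subtype.ext
        rw [hγv]
        exact hgg' z z.2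
      have h2 : γ⁻¹ z = ⟨g' z, hg'.map_mem z.2⟩ := by
        conv_lhs => rw [← h1]
        simp
      rw [h2]
    obtain ⟨φ', hφ', hφ'v, hφ'r⟩ := hg'
    have hg' : IsIso F P P g' := ⟨φ', hφ', hφ'v, hφ'r⟩
    obtain ⟨ĝ, N'', hĝ, hĝv⟩ := IsReceptive_extend hPrec hg' (extender S P φ')
      (fun g hg => (mem_extender_iff' hφ'v g).1 hg)
    have hPext : P ≤ extender S P φ' := le_extender F hφ'
    have hc'ext : ρ c ∈ extender S P φ' := by
      rw [mem_extender_iff' hφ'v]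
      refine ⟨hc'N.1, hc'N.2, s, hsS, fun y hy => ?_⟩
      have h1 := hsv (γ⁻¹ ⟨y, hy⟩)
      have h2 : (γ⁻¹ * αc * γ) (γ⁻¹ ⟨y, hy⟩) = γ⁻¹ (αc ⟨y, hy⟩) := by
        show γ⁻¹ (αc (γ (γ⁻¹ ⟨y, hy⟩))) = _
        simp
      rw [h2, hγinv, hγinv, hαcv] at h1
      exact h1
    have hltN : P < extender S P φ' :=
      lt_of_le_of_ne hPext (fun h => hc'P (h ▸ hc'ext))
    have hextS : extender S P φ' ≤ S := (extender_le_normalizerIn S P φ').trans inf_le_left
    have hcardN : Nat.card P < Nat.card (extender S P φ') := card_lt_of_lt' hextS hltN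
    have hĝE := IH' _ _ _ hcardN hĝ
    have hg'E : IsIso E P P g' := by
      refine (hĝE.restrict' hPext (fun x hx => ?_) (fun y hy => ?_)).congr
        (fun x hx => hĝv x hx (hPext hx))
      · rw [hĝv x hx (hPext hx)]; exact hg'.map_mem hx
      · obtain ⟨x, hx, rfl⟩ := hg'.surjOn hy
        exact ⟨x, hx, hĝv x hx (hPext hx)⟩
    obtain ⟨g'', hg''E, hg''g', hg'g''⟩ := hg'E.symm
    have hgE : IsIso E P P (ρ ∘ κ) := by
      refine hg''E.congr (fun x hx => ?_)
      have : x = g' ((ρ ∘ κ) x) := (hg'g x hx).symm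
      conv_lhs => rw [this]
      exact hg''g' _ (hg.map_mem hx)
    obtain ⟨ρ', hρ'E, hρ'ρ, hρρ'⟩ := hρPE.symm
    refine (hgE.trans hρ'E).congr (fun x hx => ?_)
    show ρ' (ρ (κ x)) = κ x
    exact hρ'ρ _ (hκ.map_mem hx)


/-- Fully centralized in `F` implies fully centralized in a subsystem `E` over the same `S`. -/
theorem isFullyCentralized_of_subsystem {E F : FusionSystem S} (hEF : E.IsSubsystemOf F)
    {A : Subgroup Ω} (hA : F.IsFullyCentralized A) : E.IsFullyCentralized A :=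
  ⟨hA.1, fun Q hQ => hA.2 Q (by
    obtain ⟨φ, hφ, hr⟩ := hQ
    exact ⟨φ, hEF _ hφ, hr⟩)⟩

/-- An isomorphism of `F` with source `A` is an isomorphism of `E` when `F.Hom A ⊆ E.Hom A`. -/
theorem IsIso.of_hom_subset {E F : FusionSystem S} {A A' : Subgroup Ω} {f : Ω → Ω}
    (h : IsIso F A A' f) (hA : F.Hom A ⊆ E.Hom A) : IsIso E A A' f := by
  obtain ⟨φ, hφ, hv, hr⟩ := h
  exact ⟨φ, hA hφ, hv, hr⟩

/-- **Lemma K'.** Under the hypotheses of Lemma K (with the hypothesis on `Aut_F(P)` replaced by its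
source: `p'`-automorphisms of `P` fixing `A` are trivial and `N_S(P)` normalizes `A`), if moreover
`E` contains the maps of `F` with source `A`, then `Aut_F(P) ≤ Aut_E(P)`. -/
theorem autGroup_le_of_star [Finite S] {p : ℕ} [Fact p.Prime] (hS : IsPGroup p S)
    {E F : FusionSystem S} (hE : E.IsSaturated p) (hF : F.IsSaturated p)
    (hEF : E.IsSubsystemOf F) {P A : Subgroup Ω} (hPc : F.IsCentric P)
    (hPfn : F.IsFullyNormalized P) (hAP : A ≤ P)
    (hTA : ∀ t ∈ normalizerIn S P, ∀ a ∈ A, t * a * t⁻¹ ∈ A)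
    (hAab : ∀ a ∈ A, ∀ b ∈ A, a * b = b * a) (hAfc : F.IsFullyCentralized A)
    (hstar : ∀ k ∈ F.autGroup P, Nat.Coprime (orderOf k) p →
      (∀ x : P, (x : Ω) ∈ A → k x = x) → k = 1)
    (hC : ∀ (D' : Subgroup Ω) (f : Ω → Ω), IsIso F (centralizerIn S A) D' f →
      (∀ a ∈ A, f a = a) → IsIso E (centralizerIn S A) D' f)
    (hAE : F.Hom A ⊆ E.Hom A)
    (IH : ∀ Q' : Subgroup Ω, Q' ≤ S → Nat.card P < Nat.card Q' → F.Hom Q' ⊆ E.Hom Q') :
    F.autGroup P ≤ E.autGroup P := by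
  have hPS : P ≤ S := hPc.1
  have hAS : A ≤ S := hAP.trans hPS
  have hfinA : Finite A := finite_of_le S hAS
  obtain ⟨hPfc, hPfa⟩ := fullyNormalized_props hS hF hPfn
  have hPNP : P ≤ normalizerIn S P := le_normalizerIn hPS
  have hPA : P ≤ normalizerIn S A := by
    intro x hx
    refine ⟨hPS hx, ?_⟩
    apply mem_normalizer_of_conj_mem
    intro a ha
    exact hTA x (hPNP hx) a ha
  have hK := autGroup_fix_le_autInducedBy hS hPfa hTA hstar
  intro γ hγ
  have hg := isIso_of_mem_autGroup F hPS hγ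
  obtain ⟨A', -, hgA, -⟩ := hg.restrict hAP
  have hgE : IsIso E P P (ext1 (P.subtype.comp γ.toMonoidHom)) :=
    isIso_of_fix_imp hS hE hEF hg hAP hPA (isFullyCentralized_of_subsystem hEF hAfc)
      (hgA.of_hom_subset hAE)
      (fun R'' κ hκ hκfix =>
        isIso_of_fix_K hS hE hF hEF hPc hPfn hAP hPA hAab hAfc hK hC IH R'' κ hκ hκfix)
  obtain ⟨α, hα, hαv⟩ := exists_mem_autGroup_of_isIso E hgE
  have : α = γ := by
    ext x
    rw [hαv, ext1_apply]
    rfl
  rwa [this] at hα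


/-- Lemma K' after transport to a fully normalized conjugate of `A`. -/
theorem autGroup_le_of_star_transport [Finite S] {p : ℕ} [Fact p.Prime] (hS : IsPGroup p S)
    {E F : FusionSystem S} (hE : E.IsSaturated p) (hF : F.IsSaturated p)
    (hEF : E.IsSubsystemOf F) {P A : Subgroup Ω} (hPc : F.IsCentric P)
    (hPfn : F.IsFullyNormalized P) (hAP : A ≤ P)
    (hTA : ∀ t ∈ normalizerIn S P, ∀ a ∈ A, t * a * t⁻¹ ∈ A)
    (hAab : ∀ a ∈ A, ∀ b ∈ A, a * b = b * a)
    (hstar : ∀ k ∈ F.autGroup P, Nat.Coprime (orderOf k) p →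
      (∀ x : P, (x : Ω) ∈ A → k x = x) → k = 1)
    (hCconj : ∀ (A₁ : Subgroup Ω) (ρ : Ω → Ω), IsIso F A A₁ ρ → F.IsFullyNormalized A₁ →
      ∀ (D' : Subgroup Ω) (f : Ω → Ω), IsIso F (centralizerIn S A₁) D' f →
        (∀ a ∈ A₁, f a = a) → IsIso E (centralizerIn S A₁) D' f)
    (hAEconj : ∀ (A₁ : Subgroup Ω) (ρ : Ω → Ω), IsIso F A A₁ ρ → F.Hom A₁ ⊆ E.Hom A₁)
    (IH : ∀ Q' : Subgroup Ω, Q' ≤ S → Nat.card P < Nat.card Q' → F.Hom Q' ⊆ E.Hom Q') :
    F.autGroup P ≤ E.autGroup P := by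
  have hPS : P ≤ S := hPc.1
  have hAS : A ≤ S := hAP.trans hPS
  by_cases hAfn : F.IsFullyNormalized A
  · exact autGroup_le_of_star hS hE hF hEF hPc hPfn hAP hTA hAab
      (fullyNormalized_props hS hF hAfn).1 hstar (hCconj A id (IsIso.refl hAS) hAfn)
      (hAEconj A id (IsIso.refl hAS)) IH
  · obtain ⟨A₁, hAA₁, hA₁fn⟩ := exists_fullyNormalized_conj F hAS
    obtain ⟨hA₁fc, hA₁fa⟩ := fullyNormalized_props hS hF hA₁fn
    have hA₁rec := isReceptive_of_fullyCentralized hS hF hA₁fc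
    obtain ⟨ρ, N', hρN, hN', hρA⟩ := exists_normalizer_map hS hA₁fa hA₁rec hAA₁
    have hfinA : Finite A := finite_of_le S hAS
    have hTNA : normalizerIn S P ≤ normalizerIn S A := by
      intro t ht
      refine ⟨ht.1, ?_⟩
      apply mem_normalizer_of_conj_mem
      intro a ha
      exact hTA t ht a ha
    have hNAne : normalizerIn S A ≠ S := by
      intro h
      apply hAfn
      refine ⟨hAS, fun Q _ => ?_⟩
      rw [h]
      exact Subgroup.card_le_of_le inf_le_left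
    have hPne : P ≠ S := by
      intro h
      apply hNAne
      apply le_antisymm inf_le_left
      intro s hs
      apply hTNA
      rw [h]
      exact ⟨hs, Subgroup.le_normalizer hs⟩
    obtain ⟨n, hnN, hnP⟩ := exists_mem_normalizerIn_not_mem hS hPS hPne
    have hPT : P ≤ normalizerIn S P := le_normalizerIn hPS
    have hPltT : P < normalizerIn S P := lt_of_le_of_ne hPT (fun h => hnP (h ▸ hnN))
    have hcardT : Nat.card P < Nat.card (normalizerIn S P) := card_lt_of_lt' inf_le_left hPltT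
    have hfinNA : Finite (normalizerIn S A) := finite_of_le S inf_le_left
    have hcardNA : Nat.card P < Nat.card (normalizerIn S A) :=
      lt_of_lt_of_le hcardT (Subgroup.card_le_of_le hTNA)
    have hρNE : IsIso E (normalizerIn S A) N' ρ := by
      obtain ⟨ψ, hψ, hψk, hr⟩ := hρN
      exact ⟨ψ, IH _ (hom_le F hψ) hcardNA hψ, hψk, hr⟩
    obtain ⟨P₁, -, hρP, hP₁mem⟩ := hρN.restrict (hPT.trans hTNA)
    obtain ⟨T₁, -, hρT, hT₁mem⟩ := hρN.restrict hTNA
    have hρPE : IsIso E P P₁ ρ := hρNE.restrict' (hPT.trans hTNA)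
      (fun x hx => hρP.map_mem hx) (fun y hy => hρP.surjOn hy)
    have hP₁c : F.IsCentric P₁ := isCentric_of_isIso hPc hρP
    have hP₁S := hρP.le_right
    have hfinP₁ : Finite P₁ := finite_of_le S hP₁S
    have hconj : ∀ t ∈ normalizerIn S A, ∀ x ∈ normalizerIn S A,
        ρ t * ρ x * (ρ t)⁻¹ = ρ (t * x * t⁻¹) := by
      intro t ht x hx
      rw [hρN.map_mul (mul_mem ht hx) (inv_mem ht), hρN.map_mul ht hx, hρN.map_inv ht]
    have hT₁N : T₁ ≤ normalizerIn S P₁ := by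
      intro y hy
      obtain ⟨t, ht, rfl⟩ := hρT.surjOn hy
      refine ⟨hρT.le_right (hρT.map_mem ht), ?_⟩
      apply mem_normalizer_of_conj_mem
      intro z hz
      obtain ⟨x, hx, rfl⟩ := hρP.surjOn hz
      rw [hconj t (hTNA ht) x ((hPT.trans hTNA) hx)]
      exact hρP.map_mem ((Subgroup.mem_normalizer_iff.1 ht.2 x).1 hx)
    have hfinN₁ : Finite (normalizerIn S P₁) := finite_of_le S inf_le_left
    have hcardle : Nat.card (normalizerIn S P₁) ≤ Nat.card T₁ := by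
      rw [← hρT.card_eq]
      exact hPfn.2 P₁ hρP.isConj
    have hT₁eq : T₁ = normalizerIn S P₁ := Subgroup.eq_of_le_of_card_ge hT₁N hcardle
    have hP₁fn : F.IsFullyNormalized P₁ := by
      refine ⟨hP₁S, fun Q hQ => ?_⟩
      rw [← hT₁eq, ← hρT.card_eq]
      exact hPfn.2 Q (isConj_trans F hρP.isConj hQ)
    have hA₁P₁ : A₁ ≤ P₁ := by
      intro y hy
      obtain ⟨a, ha, rfl⟩ := hρA.surjOn hy
      exact hρP.map_mem (hAP ha)
    have hT₁A₁ : ∀ t ∈ normalizerIn S P₁, ∀ a ∈ A₁, t * a * t⁻¹ ∈ A₁ := by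
      intro y hy z hz
      rw [← hT₁eq] at hy
      obtain ⟨t, ht, rfl⟩ := hρT.surjOn hy
      obtain ⟨a, ha, rfl⟩ := hρA.surjOn hz
      have haN : a ∈ normalizerIn S A := le_normalizerIn hAS ha
      rw [hconj t (hTNA ht) a haN]
      exact hρA.map_mem (hTA t ht a ha)
    have hA₁ab : ∀ a ∈ A₁, ∀ b ∈ A₁, a * b = b * a := by
      intro y hy z hz
      obtain ⟨a, ha, rfl⟩ := hρA.surjOn hy
      obtain ⟨b, hb, rfl⟩ := hρA.surjOn hz
      rw [← hρA.map_mul ha hb, ← hρA.map_mul hb ha, hAab a ha b hb]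
    have hstar₁ : ∀ k ∈ F.autGroup P₁, Nat.Coprime (orderOf k) p →
        (∀ x : P₁, (x : Ω) ∈ A₁ → k x = x) → k = 1 := by
      intro k₁ hk₁mem hk₁ hfix₁
      let e : P ≃* P₁ := hρP.toMulEquiv
      have he : ∀ x : P, ((e x : P₁) : Ω) = ρ x := fun x => rfl
      have h1 : MulAut.congr e.symm k₁ = 1 := by
        apply hstar
        · obtain ⟨g, hg, heg, -, -⟩ := hρP.symm_equiv e he
          exact congr_mem_autGroup hg e.symm heg hk₁mem
        · rw [MulEquiv.orderOf_eq]; exact hk₁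
        · intro x hx
          have h2 : k₁ (e x) = e x := by
            apply hfix₁
            rw [he]
            exact hρA.map_mem hx
          show e.symm (k₁ (e x)) = x
          rw [h2]; simp
      exact (MulEquiv.map_eq_one_iff (MulAut.congr e.symm)).1 h1
    have hIH₁ : ∀ Q' : Subgroup Ω, Q' ≤ S → Nat.card P₁ < Nat.card Q' →
        F.Hom Q' ⊆ E.Hom Q' := by
      intro Q' hQ' hlt
      rw [← hρP.card_eq] at hlt
      exact IH Q' hQ' hlt
    have hle₁ : F.autGroup P₁ ≤ E.autGroup P₁ :=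
      autGroup_le_of_star hS hE hF hEF hP₁c hP₁fn hA₁P₁ hT₁A₁ hA₁ab hA₁fc hstar₁
        (hCconj A₁ ρ hρA hA₁fn) (hAEconj A₁ ρ hρA) hIH₁
    intro γ hγ
    have hg := isIso_of_mem_autGroup F hPS hγ
    obtain ⟨ρ', hρ', hρ'ρ, hρρ'⟩ := hρP.symm
    obtain ⟨ρ'E, hρ'E, hρ'Eρ, hρρ'E⟩ := hρPE.symm
    have h1 : IsIso F P₁ P₁ (ρ ∘ ext1 (P.subtype.comp γ.toMonoidHom) ∘ ρ') :=
      (hρ'.trans hg).trans hρP
    have h1E := isIso_of_autGroup_le hle₁ h1
    have h2 : IsIso E P P (ρ'E ∘ (ρ ∘ ext1 (P.subtype.comp γ.toMonoidHom) ∘ ρ') ∘ ρ) :=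
      (hρPE.trans h1E).trans hρ'E
    have hgE : IsIso E P P (ext1 (P.subtype.comp γ.toMonoidHom)) := by
      refine h2.congr (fun x hx => ?_)
      show ρ'E (ρ (ext1 (P.subtype.comp γ.toMonoidHom) (ρ' (ρ x)))) = _
      rw [hρ'ρ x hx, hρ'Eρ _ (hg.map_mem hx)]
    obtain ⟨α, hα, hαv⟩ := exists_mem_autGroup_of_isIso E hgE
    have : α = γ := by
      ext x
      rw [hαv, ext1_apply]
      rfl
    rwa [this] at hα

end Cfsg.Agent.Lib.H25
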