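/-
The Benson--Grodal--Henke theorem: abelian subgroups of small exponent control fusion in
saturated fusion systems.  Induction on `|S|`.
-/
import Mathlib
import Cfsg.Prelude.Def_FusionSystem
import Cfsg.Agent.S5097
import Cfsg.Agent.Lib.H25.KNormSpecial
import Cfsg.Agent.Lib.H25.PPrimeRes
import Cfsg.Agent.Lib.H25.BGHCore
set_option autoImplicit false

namespace Cfsg.Agent.Lib.H25

open Cfsg Cfsg.FusionSystem Cfsg.Agent.S5114 Cfsg.Agent.S5097

variable {Ω : Type*} [Group Ω]

/-- `E` contains all maps of `F` whose source is abelian of small exponent. -/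
def HSmall (p : ℕ) {S : Subgroup Ω} (E F : FusionSystem S) : Prop :=
  ∀ A : Subgroup Ω, A ≤ S → (∀ a ∈ A, ∀ b ∈ A, a * b = b * a) → (∀ a ∈ A, Small p a) →
    F.Hom A ⊆ E.Hom A

/-- `E` contains all maps of `F` whose source is an abelian subgroup of `T` of small exponent. -/
def HSmallIn (p : ℕ) (T : Subgroup Ω) {S : Subgroup Ω} (E F : FusionSystem S) : Prop :=
  ∀ A : Subgroup Ω, A ≤ T → A ≤ S → (∀ a ∈ A, ∀ b ∈ A, a * b = b * a) → (∀ a ∈ A, Small p a) →
    F.Hom A ⊆ E.Hom A

/-- The maps of `F` preserve `T`. -/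
def ClosedIn (T : Subgroup Ω) {S : Subgroup Ω} (F : FusionSystem S) : Prop :=
  ∀ (P P' : Subgroup Ω) (f : Ω → Ω), IsIso F P P' f → ∀ x ∈ P, x ∈ T → f x ∈ T

/-- `[P, k] ≤ T` for the `p'`-automorphisms `k` in `F` of the subgroups `P` of `S`. -/
def PrimeIn (p : ℕ) (T : Subgroup Ω) {S : Subgroup Ω} (F : FusionSystem S) : Prop :=
  ∀ (P : Subgroup Ω), P ≤ S → ∀ k ∈ F.autGroup P, Nat.Coprime (orderOf k) p →
    ∀ x : P, (x : Ω)⁻¹ * ((k x : P) : Ω) ∈ T

/-- The statement of the theorem for `p`-groups of order `n`. -/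
def BGHStatement (p : ℕ) (Ω : Type*) [Group Ω] (n : ℕ) : Prop :=
  ∀ (S : Subgroup Ω), Finite S → Nat.card S = n → IsPGroup p S → ∀ (T : Subgroup Ω)
    (E F : FusionSystem S), E.IsSaturated p → F.IsSaturated p → E.IsSubsystemOf F →
    ClosedIn T F → PrimeIn p T F → HSmallIn p T E F → ∀ P : Subgroup Ω, F.Hom P ⊆ E.Hom P

/-- The image of an abelian subgroup of small exponent under an isomorphism of the system is abelian
of small exponent. -/
theorem small_abelian_of_isIso {p : ℕ} {S : Subgroup Ω} {F : FusionSystem S} {A A₁ : Subgroup Ω}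
    {ρ : Ω → Ω} (hρ : IsIso F A A₁ ρ) (hAab : ∀ a ∈ A, ∀ b ∈ A, a * b = b * a)
    (hAsm : ∀ a ∈ A, Small p a) :
    (∀ a ∈ A₁, ∀ b ∈ A₁, a * b = b * a) ∧ ∀ a ∈ A₁, Small p a := by
  constructor
  · intro y hy z hz
    obtain ⟨a, ha, rfl⟩ := hρ.surjOn hy
    obtain ⟨b, hb, rfl⟩ := hρ.surjOn hz
    rw [← hρ.map_mul ha hb, ← hρ.map_mul hb ha, hAab a ha b hb]
  · intro y hy
    obtain ⟨φ, -, hφv, hr⟩ := hρ
    rw [← hr] at hy
    obtain ⟨x, rfl⟩ := hy
    have : Small p x := by
      have h1 := hAsm x x.2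
      exact Small.of_map A.subtype Subtype.val_injective h1
    exact this.map φ

/-- The centralizer systems of `A` in `E ≤ F` inherit the small exponent hypothesis. -/
theorem hSmallIn_centSys {p : ℕ} {T S : Subgroup Ω} {E F : FusionSystem S}
    (h : HSmallIn p T E F) {A : Subgroup Ω} (hAT : A ≤ T) (hAS : A ≤ S)
    (hAab : ∀ a ∈ A, ∀ b ∈ A, a * b = b * a) (hAsm : ∀ a ∈ A, Small p a) :
    HSmallIn p T (centSys E A hAS) (centSys F A hAS) := by
  intro B hBT hB hBab hBsm φ hφ
  obtain ⟨hφF, hBle, hval, ψ, hψ, hψφ, hfix⟩ := hφ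
  have hBS : B ≤ S := hB.trans inf_le_left
  have hBN : B ≤ Subgroup.normalizer (A : Set Ω) :=
    fun b hb => (centralizerIn_le_normalizerIn S A (hB hb)).2
  have hcomm : ∀ b ∈ B, ∀ a ∈ A, a * b = b * a := by
    intro b hb a ha
    have hbc : b ∈ Subgroup.centralizer (A : Set Ω) := (hB hb).2
    exact (Subgroup.mem_centralizer_iff.1 hbc) a ha
  have hform : ∀ x ∈ B ⊔ A, ∃ b ∈ B, ∃ a ∈ A, x = b * a := by
    intro x hx
    have hx' : x ∈ ((B ⊔ A : Subgroup Ω) : Set Ω) := hx
    rw [Subgroup.coe_mul_of_left_le_normalizer_right B A hBN] at hx'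
    obtain ⟨b, hb, a, ha, rfl⟩ := hx'
    exact ⟨b, hb, a, ha, rfl⟩
  have hψE : ψ ∈ E.Hom (B ⊔ A) := by
    apply h (B ⊔ A) (sup_le hBT hAT) (sup_le hBS hAS) _ _ hψ
    · intro x hx y hy
      obtain ⟨b, hb, a, ha, rfl⟩ := hform x hx
      obtain ⟨b', hb', a', ha', rfl⟩ := hform y hy
      calc b * a * (b' * a') = b * (a * b') * a' := by group
        _ = b * (b' * a) * a' := by rw [hcomm b' hb' a ha]
        _ = (b * b') * (a * a') := by group
        _ = (b' * b) * (a' * a) := by rw [hBab b hb b' hb', hAab a ha a' ha']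
        _ = b' * (b * a') * a := by group
        _ = b' * (a' * b) * a := by rw [hcomm b hb a' ha']
        _ = b' * a' * (b * a) := by group
    · intro x hx
      obtain ⟨b, hb, a, ha, rfl⟩ := hform x hx
      exact (hBsm b hb).mul_of_commute (hAsm a ha) (hcomm b hb a ha).symm
  have hφE : φ ∈ E.Hom B := by
    have h1 := restrict_mem E hψE (le_sup_left : B ≤ B ⊔ A)
    have : φ = ψ.comp (Subgroup.inclusion (le_sup_left : B ≤ B ⊔ A)) := by
      ext x
      exact (hψφ x).symm
    rw [this]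
    exact h1
  exact ⟨hφE, hBle, hval, ψ, hψE, hψφ, hfix⟩


theorem closedIn_centSys {T S : Subgroup Ω} {F : FusionSystem S} (h : ClosedIn T F)
    {A : Subgroup Ω} (hAS : A ≤ S) : ClosedIn T (centSys F A hAS) := by
  rintro P P' f ⟨φ, hφ, hφv, hr⟩ x hx hxT
  exact h P P' f ⟨φ, hφ.1, hφv, hr⟩ x hx hxT

theorem primeIn_centSys {p : ℕ} {T S : Subgroup Ω} {F : FusionSystem S} (h : PrimeIn p T F)
    {A : Subgroup Ω} (hAS : A ≤ S) : PrimeIn p T (centSys F A hAS) := by
  intro P hP k hk hco x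
  have hPS : P ≤ S := hP.trans inf_le_left
  apply h P hPS k _ hco x
  rw [mem_autGroup_iff _ hP] at hk
  rw [mem_autGroup_iff _ hPS]
  exact hk.1

/-- **Step I.** By induction, the isomorphisms of `F` from `C_S(A)` fixing `A` elementwise lie in
`E`, for `A` abelian of small exponent, fully centralized, with `|C_S(A)| < n`. -/
theorem centralizer_iso_of_lt {p : ℕ} [Fact p.Prime] {n : ℕ}
    (IHn : ∀ m < n, BGHStatement p Ω m) {S : Subgroup Ω} [Finite S] (hS : IsPGroup p S)
    (T : Subgroup Ω) {E F : FusionSystem S} (hE : E.IsSaturated p) (hF : F.IsSaturated p)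
    (hEF : E.IsSubsystemOf F) (hcl : ClosedIn T F) (hpr : PrimeIn p T F)
    (h : HSmallIn p T E F) {A : Subgroup Ω}
    (hAab : ∀ a ∈ A, ∀ b ∈ A, a * b = b * a) (hAsm : ∀ a ∈ A, Small p a) (hAT : A ≤ T)
    (hAfc : F.IsFullyCentralized A) (hlt : Nat.card (centralizerIn S A) < n) :
    ∀ (D' : Subgroup Ω) (f : Ω → Ω), IsIso F (centralizerIn S A) D' f → (∀ a ∈ A, f a = a) →
      IsIso E (centralizerIn S A) D' f := by
  have hAS := hAfc.1
  have hfinC : Finite (centralizerIn S A) := finite_of_le S inf_le_left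
  have hCp : IsPGroup p (centralizerIn S A) := hS.to_le inf_le_left
  have hF' := centralizerSystem_isSaturated hS hF hAfc (centSys F A hAS) (fun _ => rfl)
  have hE' := centralizerSystem_isSaturated hS hE (isFullyCentralized_of_subsystem hEF hAfc)
    (centSys E A hAS) (fun _ => rfl)
  have hE'F' : (centSys E A hAS).IsSubsystemOf (centSys F A hAS) := by
    intro P φ hφ
    obtain ⟨h1, h2, h3, ψ, hψ, h4, h5⟩ := hφ
    exact ⟨hEF _ h1, h2, h3, ψ, hEF _ hψ, h4, h5⟩
  have key := IHn _ hlt (centralizerIn S A) hfinC rfl hCp T _ _ hE' hF' hE'F'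
    (closedIn_centSys hcl hAS) (primeIn_centSys hpr hAS) (hSmallIn_centSys h hAT hAS hAab hAsm)
  intro D' f hf hfix
  have hAD : A ≤ centralizerIn S A := by
    intro a ha
    refine ⟨hAS ha, ?_⟩
    show a ∈ Subgroup.centralizer (A : Set Ω)
    rw [Subgroup.mem_centralizer_iff]
    intro b hb
    exact hAab b hb a ha
  have hf' := hf
  obtain ⟨φ, hφ, hφv, hr⟩ := hf
  have hmem : φ ∈ (centSys F A hAS).Hom (centralizerIn S A) := by
    show φ ∈ F.centralizerHom A (centralizerIn S A)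
    rw [mem_centralizerHom_iff]
    refine ⟨hφ, le_rfl, fun x => ?_, f, D', ?_, fun x => (hφv x).symm, hfix⟩
    · refine ⟨hom_mem_S F hφ x, ?_⟩
      show φ x ∈ Subgroup.centralizer (A : Set Ω)
      rw [Subgroup.mem_centralizer_iff]
      intro a ha
      rw [hφv]
      have hxc : (x : Ω) ∈ Subgroup.centralizer (A : Set Ω) := x.2.2
      have h1 := (Subgroup.mem_centralizer_iff.1 hxc) a ha
      calc a * f x = f a * f x := by rw [hfix a ha]
        _ = f (a * x) := (hf'.map_mul (hAD ha) x.2).symm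
        _ = f (x * a) := by rw [h1]
        _ = f x * f a := hf'.map_mul x.2 (hAD ha)
        _ = f x * a := by rw [hfix a ha]
    · rw [sup_eq_left.2 hAD]
      exact hf'
  have := key _ hmem
  exact ⟨φ, this.1, hφv, hr⟩


/-- **The central case.** If the small central elements of `S` lie in a subgroup `V` all of whose
elements are fixed by every map of `F`, then `F ⊆ E`. -/
theorem bgh_central_case {p : ℕ} [Fact p.Prime] {n : ℕ}
    (IHn : ∀ m < n, BGHStatement p Ω m) {S : Subgroup Ω} [Finite S] (hn : Nat.card S = n)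
    (hS : IsPGroup p S) (T : Subgroup Ω) {E F : FusionSystem S} (hE : E.IsSaturated p)
    (hF : F.IsSaturated p) (hEF : E.IsSubsystemOf F) (hcl : ClosedIn T F)
    (hpr : PrimeIn p T F) (h : HSmallIn p T E F) (V : Subgroup Ω)
    (hV2 : ∀ z ∈ S, z ∈ T → (∀ s ∈ S, s * z = z * s) → Small p z → z ∈ V)
    (hV3 : ∀ (P P' : Subgroup Ω) (f : Ω → Ω), IsIso F P P' f → ∀ v ∈ V, v ∈ P → f v = v) :
    ∀ P : Subgroup Ω, F.Hom P ⊆ E.Hom P := by
  apply alperin_ind hS F hF E
  intro P hP IH
  have hPfn : F.IsFullyNormalized P := isFullyNormalized_of_eq_or_essential hP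
  have hPc : F.IsCentric P := by
    rcases hP with rfl | hP
    · exact isCentric_top F
    · exact hP.1
  have hPS : P ≤ S := hPc.1
  have hPfa := (fullyNormalized_props hS hF hPfn).2
  have hfinT : Finite (normalizerIn S P) := finite_of_le S inf_le_left
  have hTp : IsPGroup p (normalizerIn S P) := hS.to_le inf_le_left
  have hPT : P ≤ normalizerIn S P := le_normalizerIn hPS
  have hN : ∀ t ∈ normalizerIn S P, ∀ x ∈ P, t * x * t⁻¹ ∈ P :=
    fun t ht x hx => (Subgroup.mem_normalizer_iff.1 ht.2 x).1 hx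
  have hfinP : Finite P := finite_of_le S hPS
  have hP₀T : P ⊓ T ≤ normalizerIn S P := inf_le_left.trans hPT
  have hN₀ : ∀ t ∈ normalizerIn S P, ∀ x ∈ P ⊓ T, t * x * t⁻¹ ∈ P ⊓ T :=
    fun t ht x hx => ⟨hN t ht x hx.1, hcl _ _ _ (isIso_conj_normalizer F hPS ht) x hx.1 hx.2⟩
  obtain ⟨A, hAP₀, hTA, hAab, hAsm, hstar₀⟩ :=
    exists_small_normal_abelian_amb (P ⊓ T) (normalizerIn S P) hTp hP₀T hN₀
  have hAP : A ≤ P := hAP₀.trans inf_le_left
  have hAT : A ≤ T := hAP₀.trans inf_le_right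
  have hAS : A ≤ S := hAP.trans hPS
  have hstar : ∀ k ∈ F.autGroup P, Nat.Coprime (orderOf k) p →
      (∀ x : P, (x : Ω) ∈ A → k x = x) → k = 1 := by
    intro k hk hco hfix
    have hiso := isIso_of_mem_autGroup F hPS hk
    have hkP₀ : ∀ x : P, (x : Ω) ∈ P ⊓ T → ((k x : P) : Ω) ∈ P ⊓ T := by
      intro x hx
      refine ⟨(k x).2, ?_⟩
      have := hcl _ _ _ hiso x x.2 hx.2
      rwa [ext1_apply] at this
    have hkQ : ∀ x ∈ (P ⊓ T).subgroupOf P, k x ∈ (P ⊓ T).subgroupOf P :=
      fun x hx => Subgroup.mem_subgroupOf.2 (hkP₀ x (Subgroup.mem_subgroupOf.1 hx))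
    let e : (P ⊓ T).subgroupOf P ≃* (P ⊓ T : Subgroup Ω) :=
      Subgroup.subgroupOfEquivOfLe (inf_le_left : P ⊓ T ≤ P)
    have h1 : MulAut.congr e
        (Cfsg.Agent.Lib.H26.restrictAut k ((P ⊓ T).subgroupOf P) hkQ) = 1 := by
      apply hstar₀
      · rw [MulEquiv.orderOf_eq]
        exact Nat.Coprime.coprime_dvd_left
          (Cfsg.Agent.Lib.H26.orderOf_restrictAut_dvd k _ hkQ) hco
      · intro y hy
        have h3 : ((e (e.symm y) : (P ⊓ T : Subgroup Ω)) : Ω) =
            (((e.symm y : (P ⊓ T).subgroupOf P) : P) : Ω) := rfl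
        rw [e.apply_symm_apply] at h3
        have h2 : Cfsg.Agent.Lib.H26.restrictAut k ((P ⊓ T).subgroupOf P) hkQ (e.symm y) =
            e.symm y := by
          apply Subtype.ext
          rw [Cfsg.Agent.Lib.H26.restrictAut_apply]
          apply hfix
          rw [← h3]
          exact hy
        show e (Cfsg.Agent.Lib.H26.restrictAut k ((P ⊓ T).subgroupOf P) hkQ (e.symm y)) = y
        rw [h2]
        simp
    have h1' := (MulEquiv.map_eq_one_iff (MulAut.congr e)).1 h1
    have hfix₀ : ∀ x : P, (x : Ω) ∈ P ⊓ T → k x = x := by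
      intro x hx
      have hxQ : x ∈ (P ⊓ T).subgroupOf P := Subgroup.mem_subgroupOf.2 hx
      have := congrArg (fun f : MulAut ((P ⊓ T).subgroupOf P) =>
        ((f ⟨x, hxQ⟩ : (P ⊓ T).subgroupOf P) : P)) h1'
      simpa [Cfsg.Agent.Lib.H26.restrictAut_apply] using this
    have hPp : IsPGroup p P := hS.to_le hPS
    ext x
    have hfx : k x = x := by
      apply Cfsg.Agent.Lib.H26.fix_of_fixes_comm k hco x (hPp _)
      apply hfix₀
      refine ⟨(x⁻¹ * k x).2, ?_⟩
      have := hpr P hPS k hk hco x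
      simpa using this
    rw [hfx]
    rfl
  by_cases hAZ : ∀ a ∈ A, ∀ s ∈ S, s * a = a * s
  · apply autGroup_le_of_pprime hPfa
    intro g hg hgco
    have : g = 1 := by
      apply hstar g hg hgco
      intro x hx
      have hiso := isIso_of_mem_autGroup F hPS hg
      have hxV : (x : Ω) ∈ V := hV2 x (hAS hx) (hAT hx) (hAZ x hx) (hAsm x hx)
      have h1 := hV3 _ _ _ hiso x hxV x.2
      rw [ext1_apply] at h1
      exact Subtype.ext h1
    rw [this]
    exact one_mem _
  · apply autGroup_le_of_star_transport hS hE hF hEF hPc hPfn hAP hTA hAab hstar ?_ ?_ IH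
    · intro A₁ ρ hρ hA₁fn
      obtain ⟨hA₁ab, hA₁sm⟩ := small_abelian_of_isIso hρ hAab hAsm
      have hA₁fc := (fullyNormalized_props hS hF hA₁fn).1
      have hA₁T : A₁ ≤ T := by
        intro y hy
        obtain ⟨a, ha, rfl⟩ := hρ.surjOn hy
        exact hcl _ _ _ hρ a ha (hAT ha)
      apply centralizer_iso_of_lt IHn hS T hE hF hEF hcl hpr h hA₁ab hA₁sm hA₁T hA₁fc
      by_contra hnlt
      apply hAZ
      have hle : Nat.card S ≤ Nat.card (centralizerIn S A₁) := by
        rw [hn]; exact not_lt.1 hnlt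
      have hCS : centralizerIn S A₁ = S :=
        Subgroup.eq_of_le_of_card_ge inf_le_left hle
      have hA₁Z : ∀ a ∈ A₁, ∀ s ∈ S, s * a = a * s := by
        intro a ha s hs
        have hs' : s ∈ centralizerIn S A₁ := by rw [hCS]; exact hs
        have hsc : s ∈ Subgroup.centralizer (A₁ : Set Ω) := hs'.2
        exact ((Subgroup.mem_centralizer_iff.1 hsc) a ha).symm
      have hA₁S : A₁ ≤ S := hρ.le_right
      obtain ⟨ρ', hρ', hρ'ρ, hρρ'⟩ := hρ.symm
      have hfix : ∀ a ∈ A, ρ a = a := by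
        intro a ha
        have ha₁ : ρ a ∈ A₁ := hρ.map_mem ha
        have hV : ρ a ∈ V := hV2 _ (hA₁S ha₁) (hA₁T ha₁) (hA₁Z _ ha₁) (hA₁sm _ ha₁)
        have h1 := hV3 _ _ _ hρ' (ρ a) hV ha₁
        rw [hρ'ρ a ha] at h1
        exact h1.symm
      intro a ha s hs
      have := hA₁Z (ρ a) (hρ.map_mem ha) s hs
      rwa [hfix a ha] at this
    · intro A₁ ρ hρ
      obtain ⟨hA₁ab, hA₁sm⟩ := small_abelian_of_isIso hρ hAab hAsm
      have hA₁T : A₁ ≤ T := by
        intro y hy
        obtain ⟨a, ha, rfl⟩ := hρ.surjOn hy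
        exact hcl _ _ _ hρ a ha (hAT ha)
      exact h A₁ hA₁T hρ.le_right hA₁ab hA₁sm


/-- The induction step. -/
theorem bgh_step {p : ℕ} [Fact p.Prime] (n : ℕ) (IHn : ∀ m < n, BGHStatement p Ω m) :
    BGHStatement p Ω n := by
  intro S hfin hn hS T E F hE hF hEF hcl hpr h
  haveI := hfin
  let V : Subgroup Ω :=
    { carrier := {z | z ∈ S ∧ z ∈ T ∧ (∀ s ∈ S, s * z = z * s) ∧ Small p z}
      one_mem' := ⟨S.one_mem, T.one_mem, fun s _ => by simp,
        by rw [small_iff_pow]; exact one_pow _⟩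
      mul_mem' := by
        rintro a b ⟨haS, haT, hac, has⟩ ⟨hbS, hbT, hbc, hbs⟩
        refine ⟨S.mul_mem haS hbS, T.mul_mem haT hbT, fun s hs => ?_,
          has.mul_of_commute hbs (hac b hbS).symm⟩
        calc s * (a * b) = (s * a) * b := by group
          _ = a * (s * b) := by rw [hac s hs]; group
          _ = a * b * s := by rw [hbc s hs]; group
      inv_mem' := by
        rintro a ⟨haS, haT, hac, has⟩
        refine ⟨S.inv_mem haS, T.inv_mem haT, fun s hs => ?_, ?_⟩
        · have := hac s hs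
          calc s * a⁻¹ = a⁻¹ * (a * s) * a⁻¹ := by group
            _ = a⁻¹ * (s * a) * a⁻¹ := by rw [this]
            _ = a⁻¹ * s := by group
        · rw [small_iff_pow] at has ⊢
          rw [inv_pow, has, inv_one] }
  have hVS : V ≤ S := fun z hz => hz.1
  have hVT : V ≤ T := fun z hz => hz.2.1
  have hVab : ∀ a ∈ V, ∀ b ∈ V, a * b = b * a := fun a ha b hb => hb.2.2.1 a ha.1
  have hVsm : ∀ a ∈ V, Small p a := fun a ha => ha.2.2.2
  have hCeq : centralizerIn S V = S := by
    apply le_antisymm inf_le_left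
    intro s hs
    refine ⟨hs, ?_⟩
    show s ∈ Subgroup.centralizer (V : Set Ω)
    rw [Subgroup.mem_centralizer_iff]
    intro v hv
    exact (hv.2.2.1 s hs).symm
  have hVfc : F.IsFullyCentralized V := by
    refine ⟨hVS, fun Q _ => ?_⟩
    rw [hCeq]
    exact Subgroup.card_le_of_le inf_le_left
  have hVfcE := isFullyCentralized_of_subsystem hEF hVfc
  have hfinC : Finite (centralizerIn S V) := finite_of_le S inf_le_left
  have hCp : IsPGroup p (centralizerIn S V) := hS.to_le inf_le_left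
  have hF' := centralizerSystem_isSaturated hS hF hVfc (centSys F V hVS) (fun _ => rfl)
  have hE' := centralizerSystem_isSaturated hS hE hVfcE (centSys E V hVS) (fun _ => rfl)
  have hE'F' : (centSys E V hVS).IsSubsystemOf (centSys F V hVS) := by
    intro P φ hφ
    obtain ⟨h1, h2, h3, ψ, hψ, h4, h5⟩ := hφ
    exact ⟨hEF _ h1, h2, h3, ψ, hEF _ hψ, h4, h5⟩
  have hcardC : Nat.card (centralizerIn S V) = n := by rw [hCeq]; exact hn
  have key := bgh_central_case IHn hcardC hCp T hE' hF' hE'F' (closedIn_centSys hcl hVS)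
    (primeIn_centSys hpr hVS) (hSmallIn_centSys h hVT hVS hVab hVsm) V
    (by
      intro z hz hzT hzc hzs
      exact ⟨hz.1, hzT, fun s hs => hzc s (by rw [hCeq]; exact hs), hzs⟩)
    (by
      rintro P P' f ⟨φ, hφ, hφv, -⟩ v hv hvP
      have hφ' : φ ∈ F.centralizerHom V P := hφ
      rw [mem_centralizerHom_iff] at hφ'
      obtain ⟨-, -, -, f', B, hf', hf'φ, hf'V⟩ := hφ'
      rw [← hφv ⟨v, hvP⟩, ← hf'φ ⟨v, hvP⟩]
      exact hf'V v hv)
  apply alperin_ind hS F hF E
  intro P hP _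
  have hPc : F.IsCentric P := by
    rcases hP with rfl | hP
    · exact isCentric_top F
    · exact hP.1
  have hPS : P ≤ S := hPc.1
  have hVP : V ≤ P := by
    intro v hv
    apply hPc.2 P (isConj_refl F hPS)
    refine ⟨hv.1, ?_⟩
    show v ∈ Subgroup.centralizer (P : Set Ω)
    rw [Subgroup.mem_centralizer_iff]
    intro x hx
    exact hv.2.2.1 x (hPS hx)
  have hSNV : S ≤ normalizerIn S V := by
    intro s hs
    refine ⟨hs, ?_⟩
    haveI : Finite V := finite_of_le S hVS
    apply mem_normalizer_of_conj_mem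
    intro v hv
    have : s * v * s⁻¹ = v := by rw [hv.2.2.1 s hs]; group
    rw [this]; exact hv
  intro β hβ
  have hb := isIso_of_mem_autGroup F hPS hβ
  obtain ⟨V', -, hbV, -⟩ := hb.restrict hVP
  have hbE : IsIso E P P (ext1 (P.subtype.comp β.toMonoidHom)) := by
    apply isIso_of_fix_imp hS hE hEF hb hVP (hPS.trans hSNV) hVfcE
      (hbV.of_hom_subset (h V hVT hVS hVab hVsm))
    intro R'' κ hκ hκfix
    have hκ' := hκ
    obtain ⟨φ, hφ, hφv, hr⟩ := hκ
    have hmem : φ ∈ (centSys F V hVS).Hom P := by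
      show φ ∈ F.centralizerHom V P
      rw [mem_centralizerHom_iff]
      refine ⟨hφ, ?_, fun x => ?_, κ, R'', ?_, fun x => (hφv x).symm, hκfix⟩
      · rw [hCeq]; exact hPS
      · rw [hCeq]; exact hom_mem_S F hφ x
      · rw [sup_eq_left.2 hVP]; exact hκ'
    have := key P hmem
    exact ⟨φ, this.1, hφv, hr⟩
  obtain ⟨α, hα, hαv⟩ := exists_mem_autGroup_of_isIso E hbE
  have : α = β := by
    ext x
    rw [hαv, ext1_apply]
    rfl
  rwa [this] at hα

theorem bgh_all {p : ℕ} [Fact p.Prime] (n : ℕ) : BGHStatement p Ω n := by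
  induction n using Nat.strong_induction_on with
  | _ n ih => exact bgh_step n ih

/-- **Benson--Grodal--Henke.** If `E ≤ F` are saturated fusion systems over the finite `p`-group
`S` and `E` contains all maps of `F` whose source is abelian of small exponent, then `E = F`. -/
theorem bgh_main_in {S : Subgroup Ω} [Finite S] {p : ℕ} [Fact p.Prime] (hS : IsPGroup p S)
    (T : Subgroup Ω) (E F : FusionSystem S) (hE : E.IsSaturated p) (hF : F.IsSaturated p)
    (hEF : E.IsSubsystemOf F) (hcl : ClosedIn T F) (hpr : PrimeIn p T F)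
    (h : HSmallIn p T E F) : ∀ P : Subgroup Ω, F.Hom P ⊆ E.Hom P :=
  bgh_all (Nat.card S) S inferInstance rfl hS T E F hE hF hEF hcl hpr h

theorem bgh_main {S : Subgroup Ω} [Finite S] {p : ℕ} [Fact p.Prime] (hS : IsPGroup p S)
    (E F : FusionSystem S) (hE : E.IsSaturated p) (hF : F.IsSaturated p)
    (hEF : E.IsSubsystemOf F) (h : HSmall p E F) : ∀ P : Subgroup Ω, F.Hom P ⊆ E.Hom P := by
  apply bgh_main_in hS S E F hE hF hEF
  · intro P P' f hf x hx _
    exact hf.le_right (hf.map_mem hx)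
  · intro P hP k _ _ x
    exact S.mul_mem (S.inv_mem (hP x.2)) (hP (k x).2)
  · intro A _ hAS hAab hAsm
    exact h A hAS hAab hAsm

end Cfsg.Agent.Lib.H25
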