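/-
Pure group theory for the Benson--Grodal--Henke theorem on small exponent abelian subgroups:
a finite `p`-group `P` normal in a `p`-group `G` has a `G`-invariant abelian subgroup `A` of small
exponent such that every `p'`-automorphism of `P` centralizing `A` is trivial.
-/
import Mathlib
import Cfsg.Agent.S0093
import Cfsg.Agent.S0121
import Cfsg.Agent.Lib.H26.SmallExponent
import Cfsg.Agent.Lib.H16.ClassTwo
import Cfsg.Agent.Lib.H1.NilpotentBasic
import Cfsg.Agent.Lib.H1.PGroupBasic
set_option autoImplicit false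

namespace Cfsg.Agent.Lib.H25

/-- `x` has order dividing `p`, or order dividing `4` when `p = 2`. -/
def Small (p : ℕ) {G : Type*} [Monoid G] (x : G) : Prop := x ^ p = 1 ∨ (p = 2 ∧ x ^ 4 = 1)

/-- The exponent bound: `4` if `p = 2`, else `p`. -/
def smallExp (p : ℕ) : ℕ := if p = 2 then 4 else p

theorem small_iff_pow {p : ℕ} {G : Type*} [Monoid G] (x : G) : Small p x ↔ x ^ smallExp p = 1 := by
  unfold Small smallExp
  by_cases hp : p = 2
  · subst hp
    simp only [if_true, true_and]
    constructor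
    · rintro (h | h)
      · rw [show (4 : ℕ) = 2 * 2 from rfl, pow_mul, h, one_pow]
      · exact h
    · intro h
      exact Or.inr h
  · simp only [hp, if_false, false_and, or_false]

theorem Small.map {p : ℕ} {G H : Type*} [Monoid G] [Monoid H] {x : G} (h : Small p x)
    (f : G →* H) : Small p (f x) := by
  rw [small_iff_pow] at h ⊢
  rw [← map_pow, h, map_one]

theorem Small.of_map {p : ℕ} {G H : Type*} [Monoid G] [Monoid H] {x : G} (f : G →* H)
    (hf : Function.Injective f) (h : Small p (f x)) : Small p x := by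
  rw [small_iff_pow] at h ⊢
  apply hf
  rw [map_pow, h, map_one]

theorem Small.mul_of_commute {p : ℕ} {G : Type*} [Monoid G] {x y : G} (hx : Small p x)
    (hy : Small p y) (hxy : Commute x y) : Small p (x * y) := by
  rw [small_iff_pow] at hx hy ⊢
  rw [hxy.mul_pow, hx, hy, one_mul]

/-- A `p'`-automorphism of a finite `p`-group fixing a self-centralizing subgroup elementwise is
trivial. -/
theorem aut_eq_one_of_selfCentralizing {X : Type*} [Group X] [Finite X] {p : ℕ} [Fact p.Prime]
    (hX : IsPGroup p X) (A : Subgroup X) (hA : Subgroup.centralizer (A : Set X) ≤ A)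
    (α : MulAut X) (hα : Nat.Coprime (orderOf α) p) (hfix : ∀ a ∈ A, α a = a) : α = 1 := by
  let Fix : Subgroup X :=
    { carrier := {x | α x = x}
      one_mem' := map_one α
      mul_mem' := by
        intro a b ha hb
        show α (a * b) = a * b
        rw [map_mul, ha, hb]
      inv_mem' := by
        intro a ha
        show α a⁻¹ = a⁻¹
        rw [map_inv, ha] }
  have hAF : A ≤ Fix := fun a ha => hfix a ha
  have htop : Fix = ⊤ := by
    by_contra hne
    have hnil : Group.IsNilpotent X := hX.isNilpotent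
    have hnc := Group.normalizerCondition_of_isNilpotent (G := X)
    have hlt : Fix < ⊤ := lt_top_iff_ne_top.2 hne
    obtain ⟨n, hn, hnF⟩ := SetLike.exists_of_lt (hnc _ hlt)
    apply hnF
    show α n = n
    have hc : n⁻¹ * α n ∈ Subgroup.centralizer (Fix : Set X) := by
      rw [Subgroup.mem_centralizer_iff]
      intro b hb
      have hb' : α b = b := hb
      have h1 : n * b * n⁻¹ ∈ Fix := (Subgroup.mem_normalizer_iff.1 hn b).1 hb
      have h2 : α (n * b * n⁻¹) = n * b * n⁻¹ := h1
      rw [map_mul, map_mul, map_inv, hb'] at h2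
      -- h2 : α n * b * (α n)⁻¹ = n * b * n⁻¹
      have h3 : α n * b = n * b * n⁻¹ * α n := by
        rw [← h2]; group
      calc b * (n⁻¹ * α n) = n⁻¹ * (n * b * n⁻¹ * α n) := by group
        _ = n⁻¹ * (α n * b) := by rw [h3]
        _ = n⁻¹ * α n * b := by group
    have hcA : n⁻¹ * α n ∈ A := by
      apply hA
      rw [Subgroup.mem_centralizer_iff]
      intro a ha
      exact (Subgroup.mem_centralizer_iff.1 hc) a (hAF ha)
    exact Cfsg.Agent.Lib.H26.fix_of_fixes_comm α hα n (hX _) (hfix _ hcA)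
  ext x
  have : x ∈ Fix := by rw [htop]; trivial
  exact this


open scoped commutatorElement in
/-- A finite `p`-group has a characteristic subgroup of small exponent on which every nontrivial
`p'`-automorphism acts nontrivially (the small part of a critical subgroup). -/
theorem exists_char_small {P : Type*} [Group P] [Finite P] {p : ℕ} [Fact p.Prime]
    (hP : IsPGroup p P) :
    ∃ X : Subgroup P, X.Characteristic ∧ (∀ x ∈ X, Small p x) ∧
      ∀ k : MulAut P, Nat.Coprime (orderOf k) p → (∀ x ∈ X, k x = x) → k = 1 := by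
  have hpp : p.Prime := Fact.out
  obtain ⟨H, hHchar, h1, h2, h3⟩ := Cfsg.Agent.S0093.result hP
  have hcomm : ∀ x ∈ H, ∀ y ∈ H, ∃ c, y * x = x * y * c ∧ ∀ z ∈ H, Commute c z := by
    intro x hx y hy
    refine ⟨⁅y⁻¹, x⁻¹⁆, ?_, ?_⟩
    · rw [commutatorElement_def]; group
    · intro z hz
      have hc : ⁅y⁻¹, x⁻¹⁆ ∈ ⁅H, (⊤ : Subgroup P)⁆ :=
        Subgroup.commutator_mem_commutator (H.inv_mem hy) (Subgroup.mem_top _)
      have hc2 : ⁅y⁻¹, x⁻¹⁆ ∈ Subgroup.centralizer (H : Set P) := (h2 hc).2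
      rw [Subgroup.mem_centralizer_iff] at hc2
      exact (hc2 z hz).symm
  have hpow : ∀ y ∈ H, ∀ z ∈ H, Commute (y ^ p) z := by
    intro y hy z hz
    have hH : IsPGroup p H := hP.to_subgroup H
    have hf := Cfsg.Agent.Lib.H1.isPGroup_pow_mem_frattini hH (⟨y, hy⟩ : H)
    have hm : y ^ p ∈ (frattini H).map H.subtype := ⟨_, hf, by simp⟩
    have hc := h1 hm
    rw [Subgroup.mem_centralizer_iff] at hc
    exact (hc z hz).symm
  let X : Subgroup P :=
    { carrier := {x | x ∈ H ∧ x ^ smallExp p = 1}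
      one_mem' := ⟨H.one_mem, one_pow _⟩
      mul_mem' := by
        rintro x y ⟨hx, hx1⟩ ⟨hy, hy1⟩
        refine ⟨H.mul_mem hx hy, ?_⟩
        obtain ⟨c, hc, hcz⟩ := hcomm x hx y hy
        by_cases hp2 : p = 2
        · have hq : smallExp p = 4 := by simp [smallExp, hp2]
          rw [hq] at hx1 hy1 ⊢
          have hy2 : Commute (y ^ 2) x := by
            have := hpow y hy x hx
            rwa [hp2] at this
          have hc2 : c ^ 2 = 1 := Cfsg.Agent.Lib.H16.pow_eq_one_of_pow_commute hc (hcz y hy) hy2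
          rw [Cfsg.Agent.Lib.H16.mul_pow_of_central hc (hcz x hx) (hcz y hy) 4, hx1, hy1, one_mul,
            one_mul]
          show c ^ 6 = 1
          rw [show (6 : ℕ) = 2 * 3 from rfl, pow_mul, hc2, one_pow]
        · have hq : smallExp p = p := by simp [smallExp, hp2]
          rw [hq] at hx1 hy1 ⊢
          have hodd : Odd p := hpp.eq_two_or_odd'.resolve_left hp2
          exact Cfsg.Agent.Lib.H16.mul_pow_eq_one_of_central hc (hcz x hx) (hcz y hy) hodd hx1 hy1
      inv_mem' := by
        rintro x ⟨hx, hx1⟩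
        exact ⟨H.inv_mem hx, by rw [inv_pow, hx1, inv_one]⟩ }
  have hXH : ∀ x, x ∈ X ↔ x ∈ H ∧ x ^ smallExp p = 1 := fun x => Iff.rfl
  have hHmap : ∀ (φ : MulAut P), ∀ x ∈ H, φ x ∈ H := by
    intro φ x hx
    have := (Subgroup.characteristic_iff_le_comap.1 hHchar) φ hx
    exact this
  refine ⟨X, ?_, ?_, ?_⟩
  · rw [Subgroup.characteristic_iff_le_comap]
    intro φ x hx
    rw [hXH] at hx
    show φ x ∈ X
    rw [hXH]
    refine ⟨hHmap φ x hx.1, ?_⟩
    rw [← map_pow, hx.2, map_one]
  · intro x hx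
    rw [small_iff_pow]
    exact ((hXH x).1 hx).2
  · intro k hk hfix
    have hkH : ∀ x ∈ H, k x ∈ H := hHmap k
    have hk' : Nat.Coprime (orderOf (Cfsg.Agent.Lib.H26.restrictAut k H hkH)) p :=
      Nat.Coprime.coprime_dvd_left (Cfsg.Agent.Lib.H26.orderOf_restrictAut_dvd k H hkH) hk
    have h1' : Cfsg.Agent.Lib.H26.restrictAut k H hkH = 1 := by
      apply Cfsg.Agent.Lib.H26.aut_eq_one_of_fix_small (hP.to_subgroup H) _ hk'
      intro x hx
      apply Subtype.ext
      rw [Cfsg.Agent.Lib.H26.restrictAut_apply]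
      apply hfix
      rw [hXH]
      refine ⟨x.2, ?_⟩
      have hx' : Small p x := hx
      rw [small_iff_pow] at hx'
      have := congrArg Subtype.val hx'
      simpa using this
    apply Cfsg.Agent.S0121.result hP H hHchar h1 h2 h3 k hk
    intro x hx
    have := congrArg (fun f : MulAut H => ((f ⟨x, hx⟩ : H) : P)) h1'
    simpa [Cfsg.Agent.Lib.H26.restrictAut_apply] using this


/-- In a finite nilpotent group, a normal subgroup `X` contains a normal abelian subgroup `A`
which is self-centralizing in `X`. -/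
theorem exists_normal_abelian_selfCentralizing_in {G : Type*} [Group G] [Finite G]
    [hG : Group.IsNilpotent G] (X : Subgroup G) [hX : X.Normal] :
    ∃ A : Subgroup G, A ≤ X ∧ A.Normal ∧ (∀ a ∈ A, ∀ b ∈ A, a * b = b * a) ∧
      X ⊓ Subgroup.centralizer (A : Set G) ≤ A := by
  let pr : Subgroup G → Prop := fun A => A ≤ X ∧ A.Normal ∧ ∀ a ∈ A, ∀ b ∈ A, a * b = b * a
  have hbot : pr ⊥ := by
    refine ⟨bot_le, inferInstance, fun a ha b hb => ?_⟩
    rw [Subgroup.mem_bot] at ha hb
    rw [ha, hb]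
  obtain ⟨A, -, hAmax⟩ := Finite.exists_le_maximal (p := pr) hbot
  obtain ⟨hAX, hAn, hAc⟩ := hAmax.prop
  refine ⟨A, hAX, hAn, hAc, ?_⟩
  by_contra hne
  set C := X ⊓ Subgroup.centralizer (A : Set G) with hC
  have hCn : C.Normal := by
    haveI : (Subgroup.centralizer (A : Set G)).Normal := Subgroup.normal_centralizer
    exact Subgroup.normal_inf_normal _ _
  set π := QuotientGroup.mk' A with hπ
  have hπs : Function.Surjective π := QuotientGroup.mk'_surjective A
  have hCπn : (C.map π).Normal := Subgroup.Normal.map hCn π hπs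
  have hCπne : C.map π ≠ ⊥ := by
    intro h
    rw [Subgroup.map_eq_bot_iff, hπ, QuotientGroup.ker_mk'] at h
    exact hne h
  have hnil : Group.IsNilpotent (G ⧸ A) := inferInstance
  have hne2 := Cfsg.Agent.Lib.H1.normal_inf_center_ne_bot (C.map π) hCπne
  obtain ⟨⟨x', hx'⟩, hx'1'⟩ := (Subgroup.ne_bot_iff_exists_ne_one).mp hne2
  have hx'1 : x' ≠ 1 := fun h => hx'1' (Subtype.ext h)
  obtain ⟨⟨x, hxC, hx⟩, hx'Z⟩ := hx'
  have hxX : x ∈ X := hxC.1
  have hxcen : ∀ a ∈ A, a * x = x * a := by
    have : x ∈ Subgroup.centralizer (A : Set G) := hxC.2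
    rw [Subgroup.mem_centralizer_iff] at this
    exact this
  let M := (Subgroup.zpowers x').comap π
  have hMn : M.Normal := by
    have : (Subgroup.zpowers x').Normal := by
      constructor
      intro n hn g
      have hcomm : g * n = n * g := by
        obtain ⟨k, rfl⟩ := Subgroup.mem_zpowers_iff.mp hn
        have h1 : g * x' = x' * g := (Subgroup.mem_center_iff.mp hx'Z g)
        exact ((Commute.zpow_right (show Commute g x' from h1)) k).eq
      rw [hcomm, mul_inv_cancel_right]
      exact hn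
    exact Subgroup.Normal.comap this π
  have hAM : A ≤ M := by
    intro n hn
    show π n ∈ Subgroup.zpowers x'
    have : π n = 1 := by rw [hπ]; exact (QuotientGroup.eq_one_iff n).mpr hn
    rw [this]; exact Subgroup.one_mem _
  have hxM : x ∈ M := by
    show π x ∈ Subgroup.zpowers x'
    rw [hx]; exact Subgroup.mem_zpowers x'
  have hxA : x ∉ A := by
    intro h
    apply hx'1
    rw [← hx, hπ]
    exact (QuotientGroup.eq_one_iff x).mpr h
  -- every element of `M` is `x ^ k * a`
  have hMform : ∀ m ∈ M, ∃ k : ℤ, ∃ a ∈ A, m = x ^ k * a := by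
    intro m hm
    have hm' : π m ∈ Subgroup.zpowers x' := hm
    obtain ⟨k, hk⟩ := Subgroup.mem_zpowers_iff.mp hm'
    refine ⟨k, (x ^ k)⁻¹ * m, ?_, by group⟩
    rw [← QuotientGroup.eq_one_iff]
    have h1 : π ((x ^ k)⁻¹ * m) = 1 := by
      rw [map_mul, map_inv, map_zpow, hx, hk, inv_mul_cancel]
    exact h1
  have hxk : ∀ (k : ℤ), ∀ a ∈ A, a * x ^ k = x ^ k * a := by
    intro k a ha
    exact ((show Commute a x from hxcen a ha).zpow_right k).eq
  have hMpr : pr M := by
    refine ⟨?_, hMn, ?_⟩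
    · intro m hm
      obtain ⟨k, a, ha, rfl⟩ := hMform m hm
      exact X.mul_mem (X.zpow_mem hxX k) (hAX ha)
    · intro m hm n hn
      obtain ⟨k, a, ha, rfl⟩ := hMform m hm
      obtain ⟨l, b, hb, rfl⟩ := hMform n hn
      have e1 : x ^ k * x ^ l = x ^ l * x ^ k := by rw [← zpow_add, ← zpow_add, add_comm]
      calc x ^ k * a * (x ^ l * b) = x ^ k * (a * x ^ l) * b := by group
        _ = x ^ k * (x ^ l * a) * b := by rw [hxk l a ha]
        _ = (x ^ k * x ^ l) * (a * b) := by group
        _ = (x ^ l * x ^ k) * (b * a) := by rw [e1, hAc a ha b hb]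
        _ = x ^ l * (x ^ k * b) * a := by group
        _ = x ^ l * (b * x ^ k) * a := by rw [hxk k b hb]
        _ = x ^ l * b * (x ^ k * a) := by group
  exact hxA (hAmax.le_of_ge hMpr hAM hxM)


/-- A normal subgroup `P` of a finite `p`-group `G` contains a normal abelian subgroup `A` of `G`
of small exponent such that every `p'`-automorphism of `P` fixing `A` elementwise is trivial. -/
theorem exists_small_normal_abelian {G : Type*} [Group G] [Finite G] {p : ℕ} [Fact p.Prime]
    (hG : IsPGroup p G) (P : Subgroup G) [hPn : P.Normal] :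
    ∃ A : Subgroup G, A ≤ P ∧ A.Normal ∧ (∀ a ∈ A, ∀ b ∈ A, a * b = b * a) ∧
      (∀ a ∈ A, Small p a) ∧
      ∀ k : MulAut P, Nat.Coprime (orderOf k) p → (∀ x : P, (x : G) ∈ A → k x = x) → k = 1 := by
  have hP : IsPGroup p P := hG.to_subgroup P
  obtain ⟨X, hXchar, hXsmall, hXk⟩ := exists_char_small hP
  haveI : (X.map P.subtype).Normal := ConjAct.normal_of_characteristic_of_normal
  haveI : Group.IsNilpotent G := hG.isNilpotent
  obtain ⟨A, hAX, hAn, hAc, hAC⟩ := exists_normal_abelian_selfCentralizing_in (X.map P.subtype)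
  have hXP : X.map P.subtype ≤ P := Subgroup.map_subtype_le X
  have hmemX : ∀ a ∈ A, ∃ x : P, x ∈ X ∧ (x : G) = a := by
    intro a ha
    obtain ⟨x, hx, rfl⟩ := hAX ha
    exact ⟨x, hx, rfl⟩
  refine ⟨A, hAX.trans hXP, hAn, hAc, ?_, ?_⟩
  · intro a ha
    obtain ⟨x, hx, rfl⟩ := hmemX a ha
    exact (hXsmall x hx).map P.subtype
  · intro k hk hfix
    have hkX : ∀ x ∈ X, k x ∈ X := by
      intro x hx
      exact (Subgroup.characteristic_iff_le_comap.1 hXchar) k hx
    have hk' : Nat.Coprime (orderOf (Cfsg.Agent.Lib.H26.restrictAut k X hkX)) p :=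
      Nat.Coprime.coprime_dvd_left (Cfsg.Agent.Lib.H26.orderOf_restrictAut_dvd k X hkX) hk
    let A' : Subgroup X := (A.comap P.subtype).comap X.subtype
    have hA' : ∀ x : X, x ∈ A' ↔ ((x : P) : G) ∈ A := fun x => Iff.rfl
    have hcen : Subgroup.centralizer (A' : Set X) ≤ A' := by
      intro c hc
      rw [Subgroup.mem_centralizer_iff] at hc
      rw [hA']
      apply hAC
      refine ⟨⟨(c : P), c.2, rfl⟩, ?_⟩
      show ((c : P) : G) ∈ Subgroup.centralizer (A : Set G)
      rw [Subgroup.mem_centralizer_iff]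
      intro a ha
      obtain ⟨x, hx, rfl⟩ := hmemX a ha
      have h1 := hc ⟨x, hx⟩ ((hA' _).2 ha)
      have h2 := congrArg (fun y : X => ((y : P) : G)) h1
      exact h2
    have h1 : Cfsg.Agent.Lib.H26.restrictAut k X hkX = 1 := by
      apply aut_eq_one_of_selfCentralizing (hP.to_subgroup X) A' hcen _ hk'
      intro a ha
      apply Subtype.ext
      rw [Cfsg.Agent.Lib.H26.restrictAut_apply]
      exact hfix a ((hA' a).1 ha)
    apply hXk k hk
    intro x hx
    have := congrArg (fun f : MulAut X => ((f ⟨x, hx⟩ : X) : P)) h1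
    simpa [Cfsg.Agent.Lib.H26.restrictAut_apply] using this


/-- Ambient form: `P ≤ T` subgroups of `Ω`, `T` a finite `p`-group normalizing `P`. -/
theorem exists_small_normal_abelian_amb {Ω : Type*} [Group Ω] {p : ℕ} [Fact p.Prime]
    (P T : Subgroup Ω) [Finite T] (hT : IsPGroup p T) (hPT : P ≤ T)
    (hN : ∀ t ∈ T, ∀ x ∈ P, t * x * t⁻¹ ∈ P) :
    ∃ A : Subgroup Ω, A ≤ P ∧ (∀ t ∈ T, ∀ a ∈ A, t * a * t⁻¹ ∈ A) ∧
      (∀ a ∈ A, ∀ b ∈ A, a * b = b * a) ∧ (∀ a ∈ A, Small p a) ∧
      ∀ k : MulAut P, Nat.Coprime (orderOf k) p → (∀ x : P, (x : Ω) ∈ A → k x = x) → k = 1 := by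
  haveI : (P.subgroupOf T).Normal := by
    constructor
    intro n hn g
    rw [Subgroup.mem_subgroupOf] at hn ⊢
    have := hN g g.2 n hn
    simpa using this
  obtain ⟨A0, hA0P, hA0n, hA0c, hA0s, hA0k⟩ := exists_small_normal_abelian hT (P.subgroupOf T)
  refine ⟨A0.map T.subtype, ?_, ?_, ?_, ?_, ?_⟩
  · rintro _ ⟨a, ha, rfl⟩
    exact Subgroup.mem_subgroupOf.1 (hA0P ha)
  · rintro t ht _ ⟨a, ha, rfl⟩
    refine ⟨⟨t, ht⟩ * a * ⟨t, ht⟩⁻¹, hA0n.conj_mem a ha ⟨t, ht⟩, ?_⟩
    simp
  · rintro _ ⟨a, ha, rfl⟩ _ ⟨b, hb, rfl⟩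
    have := hA0c a ha b hb
    have h2 := congrArg T.subtype this
    simpa using h2
  · rintro _ ⟨a, ha, rfl⟩
    exact (hA0s a ha).map T.subtype
  · intro k hk hfix
    let e : P.subgroupOf T ≃* P := Subgroup.subgroupOfEquivOfLe hPT
    have he : ∀ y : P.subgroupOf T, ((e y : P) : Ω) = ((y : T) : Ω) := fun y => rfl
    have h1 : MulAut.congr e.symm k = 1 := by
      apply hA0k
      · rw [MulEquiv.orderOf_eq]
        exact hk
      · intro y hy
        show e.symm (k (e.symm.symm y)) = y
        have h2 : k (e y) = e y := by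
          apply hfix
          rw [he]
          exact ⟨(y : T), hy, rfl⟩
        show e.symm (k (e y)) = y
        rw [h2]
        simp
    exact (MulEquiv.map_eq_one_iff (MulAut.congr e.symm)).1 h1


/-- A subgroup of a finite group all of whose `p'`-elements are trivial is a `p`-group. -/
theorem isPGroup_of_coprime_trivial {G : Type*} [Group G] [Finite G] {p : ℕ} [Fact p.Prime]
    (K : Subgroup G) (h : ∀ k ∈ K, Nat.Coprime (orderOf k) p → k = 1) : IsPGroup p K := by
  have hpp : p.Prime := Fact.out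
  rintro ⟨g, hg⟩
  have hn : orderOf g ≠ 0 := (orderOf_pos g).ne'
  obtain ⟨e, n', hn', hne⟩ := Nat.exists_eq_pow_mul_and_not_dvd hn p hpp.ne_one
  refine ⟨e, Subtype.ext ?_⟩
  show g ^ p ^ e = 1
  apply h _ (K.pow_mem hg _)
  have hdvd : orderOf (g ^ p ^ e) ∣ n' := by
    apply orderOf_dvd_of_pow_eq_one
    rw [← pow_mul, ← hne, pow_orderOf_eq_one]
  exact Nat.Coprime.coprime_dvd_left hdvd ((Nat.Prime.coprime_iff_not_dvd hpp).2 hn').symm

end Cfsg.Agent.Lib.H25
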