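import Mathlib
import Cfsg.Prelude.Def_Blocks
import Cfsg.Agent.Lib.H23.BlockLocal

/-!
# S4484 part (A3)+(A4)+(A5): the multiplicity lemma (pure, no group)

`x` of order `p` has eigenvalue multiplicities `m i` (`i < p`, eigenvalue `ζ ^ i`) in a character `χ` of
degree `n = ∑ m i`, so that `χ (x ^ j) = ∑ i, m i * ζ ^ (i * j)`.  If `e * χ (x ^ j) / n` is an algebraic
integer for `1 ≤ j < p` and `e * χ x / n ≡ e` modulo the `p`-modular ideal `M`, then `n ∣ e * m i` for all `i`,
hence at most `e` of the `m i` are nonzero.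

* `sub_one_memLocalIdeal`: `z ^ p = 1 → MemLocalIdeal M (z - 1)`;
* `mult_dvd_of_block`, `card_support_le_of_block`: multiplicity form;
* `card_image_le_of_block`: eigenvalue-list form `(Finset.univ.image a).card ≤ e`.
-/

set_option autoImplicit false

open Cfsg Cfsg.Agent.Lib.H23

namespace Cfsg.Agent.Lib.H25.BR6

variable {p : ℕ} {M : Ideal Cfsg.AlgInt}

/-- a `p`-th root of unity is `≡ 1` modulo a `p`-modular ideal -/
theorem sub_one_memLocalIdeal (hM : IsPModular p M) {z : ℂ} (hz : z ^ p = 1) :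
    MemLocalIdeal M (z - 1) := by
  have hp := prime_of_isPModular hM
  have hP := isPrime_of_isPModular hM
  have hzi : IsIntegral ℤ z := IsIntegral.of_pow hp.pos (hz ▸ isIntegral_one)
  let a : AlgInt := ⟨z, hzi⟩
  have ha : a ^ p = 1 := Subtype.ext (by simpa [a] using hz)
  obtain ⟨r, hr⟩ := exists_add_pow_prime_eq hp (a - 1) (1 : AlgInt)
  rw [sub_add_cancel, ha, one_pow] at hr
  have h1 : (a - 1) ^ p = -((p : AlgInt) * ((a - 1) * 1 * r)) := by
    linear_combination -hr
  have h2 : (a - 1) ^ p ∈ M := by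
    rw [h1]
    exact M.neg_mem (M.mul_mem_right _ (natCast_mem_of_isPModular hM))
  have h3 : a - 1 ∈ M := hP.mem_of_pow_mem p h2
  have := (memLocalIdeal_coe_iff (M := M) (a - 1)).mpr h3
  simpa [a] using this

/-- rational algebraic integers are integers -/
theorem exists_int_of_isIntegral_of_rat {z : ℂ} (hz : IsIntegral ℤ z) (q : ℚ) (hq : z = q) :
    ∃ t : ℤ, z = t := by
  rw [hq] at hz
  have h2 : IsIntegral ℤ q := (isIntegral_algebraMap_iff (algebraMap ℚ ℂ).injective).mp hz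
  obtain ⟨t, ht⟩ := IsIntegrallyClosed.isIntegral_iff.mp h2
  exact ⟨t, by rw [hq, ← ht]; simp⟩

/-- sum of the powers of a nontrivial `p`-th root of unity -/
theorem geom_sum_eq_zero_of_ne_one {w : ℂ} (hw : w ^ p = 1) (hw1 : w ≠ 1) :
    ∑ j ∈ Finset.range p, w ^ j = 0 := by
  have h := geom_sum_mul w p
  rw [hw, sub_self] at h
  exact (mul_eq_zero.mp h).resolve_right (sub_ne_zero.mpr hw1)

/-- (A3)-(A5), multiplicity form -/
theorem mult_dvd_of_block (hM : IsPModular p M) (ζ : ℂ) (hζ : IsPrimitiveRoot ζ p)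
    (m : ℕ → ℕ) (n e : ℕ) (hn : ∑ i ∈ Finset.range p, m i = n) (hn0 : 0 < n)
    (hint : ∀ j, 1 ≤ j → j < p →
      IsIntegral ℤ ((e : ℂ) * (∑ i ∈ Finset.range p, (m i : ℂ) * ζ ^ (i * j)) / n))
    (hcong : MemLocalIdeal M ((e : ℂ) * (∑ i ∈ Finset.range p, (m i : ℂ) * ζ ^ i) / n - e)) :
    ∀ i < p, n ∣ e * m i := by
  classical
  have hp := prime_of_isPModular hM
  have hP := isPrime_of_isPModular hM
  have hpC : (p : ℂ) ≠ 0 := Nat.cast_ne_zero.mpr hp.ne_zero
  have hnC : (n : ℂ) ≠ 0 := Nat.cast_ne_zero.mpr hn0.ne'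
  have hζp : ζ ^ p = 1 := hζ.pow_eq_one
  have hζ0 : ζ ≠ 0 := hζ.ne_zero hp.ne_zero
  have hζi : IsIntegral ℤ ζ := IsIntegral.of_pow hp.pos (hζp ▸ isIntegral_one)
  have hζinvp : ζ⁻¹ ^ p = 1 := by rw [inv_pow, hζp, inv_one]
  have hζinvi : IsIntegral ℤ ζ⁻¹ := IsIntegral.of_pow hp.pos (hζinvp ▸ isIntegral_one)
  -- the character values and the normalised values
  set S : ℕ → ℂ := fun j => ∑ i ∈ Finset.range p, (m i : ℂ) * ζ ^ (i * j) with hS
  set α : ℕ → ℂ := fun j => (e : ℂ) * S j / n with hα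
  have hS0 : S 0 = n := by
    simp only [hS, Nat.mul_zero, pow_zero, mul_one]
    rw [← hn]; push_cast; rfl
  have hα0 : α 0 = e := by
    simp only [hα, hS0]
    field_simp
  have hαi : ∀ j < p, IsIntegral ℤ (α j) := by
    intro j hj
    rcases Nat.eq_zero_or_pos j with rfl | hj0
    · rw [hα0]; exact isIntegral_algebraMap (R := ℤ) (A := ℂ) (x := (e : ℤ)) |> fun h => by simpa using h
    · exact hint j hj0 hj
  -- Fourier inversion
  have hfour : ∀ i < p, ∑ j ∈ Finset.range p, α j * ζ⁻¹ ^ (i * j) = (p : ℂ) * e * m i / n := by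
    intro i hi
    have h1 : ∀ j ∈ Finset.range p, α j * ζ⁻¹ ^ (i * j) =
        ∑ i' ∈ Finset.range p, ((e : ℂ) / n * m i') * (ζ ^ i' * ζ⁻¹ ^ i) ^ j := by
      intro j _
      simp only [hα, hS]
      rw [Finset.mul_sum, Finset.sum_div, Finset.sum_mul]
      refine Finset.sum_congr rfl (fun i' _ => ?_)
      rw [mul_pow, ← pow_mul, ← pow_mul]
      ring
    rw [Finset.sum_congr rfl h1, Finset.sum_comm]
    have h2 : ∀ i' ∈ Finset.range p,
        ∑ j ∈ Finset.range p, ((e : ℂ) / n * m i') * (ζ ^ i' * ζ⁻¹ ^ i) ^ j =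
          if i' = i then (p : ℂ) * e * m i / n else 0 := by
      intro i' hi'
      rw [← Finset.mul_sum]
      split_ifs with h
      · subst h
        have : ζ ^ i' * ζ⁻¹ ^ i' = 1 := by rw [← mul_pow, mul_inv_cancel₀ hζ0, one_pow]
        rw [this]
        simp
        ring
      · have hw : (ζ ^ i' * ζ⁻¹ ^ i) ^ p = 1 := by
          rw [mul_pow, ← pow_mul, ← pow_mul, mul_comm i' p, mul_comm i p, pow_mul, pow_mul, hζp,
            hζinvp, one_pow, one_pow, one_mul]
        have hw1 : ζ ^ i' * ζ⁻¹ ^ i ≠ 1 := by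
          intro h1
          apply h
          have : ζ ^ i' = ζ ^ i := by
            have h2 : ζ ^ i' * ζ⁻¹ ^ i * ζ ^ i = ζ ^ i := by rw [h1, one_mul]
            rwa [mul_assoc, ← mul_pow, inv_mul_cancel₀ hζ0, one_pow, mul_one] at h2
          exact hζ.pow_inj (Finset.mem_range.mp hi') hi this
        rw [geom_sum_eq_zero_of_ne_one hw hw1, mul_zero]
    rw [Finset.sum_congr rfl h2, Finset.sum_ite_eq' (Finset.range p) i]
    rw [if_pos (Finset.mem_range.mpr hi)]
  -- the integers `t i`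
  have hT : ∀ i < p, ∃ t : ℤ, (t : ℂ) = (p : ℂ) * e * m i / n := by
    intro i hi
    have h1 : IsIntegral ℤ ((p : ℂ) * e * m i / n) := by
      rw [← hfour i hi]
      refine IsIntegral.sum _ (fun j hj => ?_)
      exact (hαi j (Finset.mem_range.mp hj)).mul (hζinvi.pow _)
    obtain ⟨t, ht⟩ := exists_int_of_isIntegral_of_rat h1 ((p : ℚ) * e * m i / n) (by push_cast; rfl)
    exact ⟨t, ht.symm⟩
  choose! t ht using hT
  have htn : ∀ i < p, (n : ℤ) * t i = (p : ℤ) * e * m i := by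
    intro i hi
    have h1 : ((n : ℤ) * t i : ℂ) = ((p : ℤ) * e * m i : ℤ) := by
      push_cast
      rw [ht i hi]
      field_simp
    exact_mod_cast h1
  -- all `t i` are congruent to `t 0` modulo `p`
  have hcongr : ∀ i < p, (p : ℤ) ∣ t i - t 0 := by
    intro i hi
    rw [← intCast_memLocalIdeal_iff hM]
    push_cast
    rw [ht i hi, ht 0 hp.pos, ← hfour i hi, ← hfour 0 hp.pos, ← Finset.sum_sub_distrib]
    refine memLocalIdeal_sum _ _ (fun j hj => ?_)
    have h1 : α j * ζ⁻¹ ^ (i * j) - α j * ζ⁻¹ ^ (0 * j) = α j * (ζ⁻¹ ^ (i * j) - 1) := by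
      rw [zero_mul, pow_zero]; ring
    rw [h1]
    refine memLocalIdeal_mul_left (isIntegral_mem_localRing (hαi j (Finset.mem_range.mp hj))) ?_
    apply sub_one_memLocalIdeal hM
    rw [← pow_mul, mul_comm, pow_mul, hζinvp, one_pow]
  have hS' : ∀ i < p, ∃ s : ℤ, t i = t 0 + p * s := by
    intro i hi
    obtain ⟨s, hs⟩ := hcongr i hi
    exact ⟨s, by linarith⟩
  choose! s hs using hS'
  -- sums
  have hsum_t : ∑ i ∈ Finset.range p, t i = (p : ℤ) * e := by
    have h1 : (n : ℤ) * ∑ i ∈ Finset.range p, t i = (n : ℤ) * ((p : ℤ) * e) := by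
      rw [Finset.mul_sum, Finset.sum_congr rfl (fun i hi => htn i (Finset.mem_range.mp hi)),
        ← Finset.mul_sum]
      have : ∑ i ∈ Finset.range p, (m i : ℤ) = n := by exact_mod_cast hn
      rw [this]; ring
    exact mul_left_cancel₀ (Nat.cast_ne_zero.mpr hn0.ne') h1
  have hsum_s : (t 0 : ℤ) + ∑ i ∈ Finset.range p, s i = e := by
    have h1 : ∑ i ∈ Finset.range p, t i = ∑ i ∈ Finset.range p, (t 0 + p * s i) :=
      Finset.sum_congr rfl (fun i hi => hs i (Finset.mem_range.mp hi))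
    rw [hsum_t, Finset.sum_add_distrib, Finset.sum_const, Finset.card_range, ← Finset.mul_sum,
      nsmul_eq_mul, ← mul_add] at h1
    exact (mul_left_cancel₀ (Nat.cast_ne_zero.mpr hp.ne_zero) h1).symm
  have hζ1 : ζ ≠ 1 := hζ.ne_one hp.one_lt
  have hgeom : ∑ i ∈ Finset.range p, ζ ^ i = 0 := geom_sum_eq_zero_of_ne_one hζp hζ1
  have hα1 : α 1 = ∑ i ∈ Finset.range p, (s i : ℂ) * ζ ^ i := by
    have h1 : (p : ℂ) * α 1 = ∑ i ∈ Finset.range p, (t i : ℂ) * ζ ^ i := by
      simp only [hα, hS, mul_one]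
      rw [Finset.mul_sum, Finset.sum_div, Finset.mul_sum]
      refine Finset.sum_congr rfl (fun i hi => ?_)
      rw [ht i (Finset.mem_range.mp hi)]
      ring
    have h2 : ∑ i ∈ Finset.range p, (t i : ℂ) * ζ ^ i =
        (p : ℂ) * ∑ i ∈ Finset.range p, (s i : ℂ) * ζ ^ i := by
      have : ∀ i ∈ Finset.range p, (t i : ℂ) * ζ ^ i = (t 0 : ℂ) * ζ ^ i + (p : ℂ) * ((s i : ℂ) * ζ ^ i) := by
        intro i hi
        rw [hs i (Finset.mem_range.mp hi)]
        push_cast
        ring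
      rw [Finset.sum_congr rfl this, Finset.sum_add_distrib, ← Finset.mul_sum, hgeom, mul_zero,
        zero_add, ← Finset.mul_sum]
    rw [h2] at h1
    exact mul_left_cancel₀ hpC h1
  -- `p ∣ t 0`
  have ht0 : (p : ℤ) ∣ t 0 := by
    rw [← intCast_memLocalIdeal_iff hM]
    have h1 : ((t 0 : ℤ) : ℂ) =
        ∑ i ∈ Finset.range p, (s i : ℂ) * (ζ ^ i - 1) - (α 1 - e) := by
      have h2 : ((t 0 : ℤ) : ℂ) + ∑ i ∈ Finset.range p, (s i : ℂ) = e := by exact_mod_cast hsum_s
      rw [hα1]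
      simp only [mul_sub, mul_one, Finset.sum_sub_distrib]
      linear_combination h2
    rw [h1]
    refine memLocalIdeal_sub (memLocalIdeal_sum _ _ (fun i _ => ?_)) ?_
    · refine memLocalIdeal_mul_left (intCast_mem_localRing (s i)) ?_
      apply sub_one_memLocalIdeal hM
      rw [← pow_mul, mul_comm, pow_mul, hζp, one_pow]
    · have : α 1 - e = (e : ℂ) * (∑ i ∈ Finset.range p, (m i : ℂ) * ζ ^ i) / n - e := by
        simp only [hα, hS, mul_one]
      rw [this]
      exact hcong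
  -- conclusion
  intro i hi
  have h1 : (p : ℤ) ∣ t i := by
    have := hcongr i hi
    have h2 : t i = (t i - t 0) + t 0 := by ring
    rw [h2]
    exact dvd_add this ht0
  obtain ⟨c, hc⟩ := h1
  have h2 : (n : ℤ) * c = (e : ℤ) * m i := by
    have := htn i hi
    rw [hc] at this
    have h3 : (p : ℤ) * ((n : ℤ) * c) = (p : ℤ) * ((e : ℤ) * m i) := by linarith
    exact mul_left_cancel₀ (Nat.cast_ne_zero.mpr hp.ne_zero) h3
  have h3 : (n : ℤ) ∣ ((e * m i : ℕ) : ℤ) := ⟨c, by push_cast; exact h2.symm⟩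
  exact Int.natCast_dvd_natCast.mp h3

/-- (A5), multiplicity form: at most `e` of the multiplicities are nonzero -/
theorem card_support_le_of_block (hM : IsPModular p M) (ζ : ℂ) (hζ : IsPrimitiveRoot ζ p)
    (m : ℕ → ℕ) (n e : ℕ) (hn : ∑ i ∈ Finset.range p, m i = n) (hn0 : 0 < n) (he : 0 < e)
    (hint : ∀ j, 1 ≤ j → j < p →
      IsIntegral ℤ ((e : ℂ) * (∑ i ∈ Finset.range p, (m i : ℂ) * ζ ^ (i * j)) / n))
    (hcong : MemLocalIdeal M ((e : ℂ) * (∑ i ∈ Finset.range p, (m i : ℂ) * ζ ^ i) / n - e)) :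
    ((Finset.range p).filter (fun i => m i ≠ 0)).card ≤ e := by
  classical
  have hdvd := mult_dvd_of_block hM ζ hζ m n e hn hn0 hint hcong
  have hsum : ∑ i ∈ Finset.range p, e * m i / n = e := by
    have h1 : (∑ i ∈ Finset.range p, e * m i / n) * n = e * n := by
      rw [Finset.sum_mul]
      rw [Finset.sum_congr rfl (fun i hi => Nat.div_mul_cancel (hdvd i (Finset.mem_range.mp hi))),
        ← Finset.mul_sum, hn]
    exact Nat.eq_of_mul_eq_mul_right hn0 h1
  calc ((Finset.range p).filter (fun i => m i ≠ 0)).card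
      = ∑ i ∈ (Finset.range p).filter (fun i => m i ≠ 0), 1 := by simp
    _ ≤ ∑ i ∈ (Finset.range p).filter (fun i => m i ≠ 0), e * m i / n := by
        refine Finset.sum_le_sum (fun i hi => ?_)
        rw [Finset.mem_filter] at hi
        have h1 : 0 < e * m i := Nat.mul_pos he (Nat.pos_of_ne_zero hi.2)
        have h2 : n ≤ e * m i := Nat.le_of_dvd h1 (hdvd i (Finset.mem_range.mp hi.1))
        exact (Nat.one_le_div_iff hn0).mpr h2
    _ ≤ ∑ i ∈ Finset.range p, e * m i / n :=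
        Finset.sum_le_sum_of_subset (Finset.filter_subset _ _)
    _ = e := hsum

/-- (A3)-(A5), eigenvalue-list form: `a` the eigenvalues of `R x` (`x ^ p = 1`) in a character of degree `n`,
`∑ k, a k ^ j = χ (x ^ j)`. -/
theorem card_image_le_of_block (hM : IsPModular p M) {n : ℕ} (a : Fin n → ℂ) (ha : ∀ k, a k ^ p = 1)
    (hn0 : 0 < n) (e : ℕ) (he : 0 < e)
    (hint : ∀ j, 1 ≤ j → j < p → IsIntegral ℤ ((e : ℂ) * (∑ k, a k ^ j) / n))
    (hcong : MemLocalIdeal M ((e : ℂ) * (∑ k, a k) / n - e)) :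
    (Finset.univ.image a).card ≤ e := by
  classical
  have hp := prime_of_isPModular hM
  set ζ : ℂ := Complex.exp (2 * Real.pi * Complex.I / p) with hζdef
  have hζ : IsPrimitiveRoot ζ p := Complex.isPrimitiveRoot_exp p hp.ne_zero
  have : NeZero p := ⟨hp.ne_zero⟩
  have hidx : ∀ k, ∃ i, i < p ∧ ζ ^ i = a k := fun k => hζ.eq_pow_of_pow_eq_one (ha k)
  choose idx hidx1 hidx2 using hidx
  set m : ℕ → ℕ := fun i => (Finset.univ.filter (fun k => idx k = i)).card with hm
  have hmaps : ∀ k ∈ (Finset.univ : Finset (Fin n)), idx k ∈ Finset.range p :=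
    fun k _ => Finset.mem_range.mpr (hidx1 k)
  have hfib : ∀ g : ℂ → ℂ, ∑ k, g (a k) = ∑ i ∈ Finset.range p, (m i : ℂ) * g (ζ ^ i) := by
    intro g
    rw [← Finset.sum_fiberwise_of_maps_to hmaps]
    refine Finset.sum_congr rfl (fun i _ => ?_)
    have : ∀ k ∈ Finset.univ.filter (fun k => idx k = i), g (a k) = g (ζ ^ i) := by
      intro k hk
      rw [Finset.mem_filter] at hk
      rw [← hidx2 k, hk.2]
    rw [Finset.sum_congr rfl this, Finset.sum_const, nsmul_eq_mul]
  have hn : ∑ i ∈ Finset.range p, m i = n := by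
    have := Finset.card_eq_sum_card_fiberwise hmaps
    simpa using this.symm
  have hint' : ∀ j, 1 ≤ j → j < p →
      IsIntegral ℤ ((e : ℂ) * (∑ i ∈ Finset.range p, (m i : ℂ) * ζ ^ (i * j)) / n) := by
    intro j hj1 hjp
    have := hint j hj1 hjp
    rw [hfib (fun z => z ^ j)] at this
    simpa only [← pow_mul] using this
  have hcong' : MemLocalIdeal M ((e : ℂ) * (∑ i ∈ Finset.range p, (m i : ℂ) * ζ ^ i) / n - e) := by
    have := hcong
    rw [hfib (fun z => z)] at this
    exact this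
  have hcard := card_support_le_of_block hM ζ hζ m n e hn hn0 he hint' hcong'
  refine le_trans ?_ hcard
  have hsub : Finset.univ.image a ⊆
      ((Finset.range p).filter (fun i => m i ≠ 0)).image (fun i => ζ ^ i) := by
    intro z hz
    obtain ⟨k, _, rfl⟩ := Finset.mem_image.mp hz
    refine Finset.mem_image.mpr ⟨idx k, ?_, hidx2 k⟩
    rw [Finset.mem_filter]
    refine ⟨Finset.mem_range.mpr (hidx1 k), ?_⟩
    simp only [hm]
    exact Finset.card_ne_zero.mpr ⟨k, Finset.mem_filter.mpr ⟨Finset.mem_univ _, rfl⟩⟩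
  exact (Finset.card_le_card hsub).trans Finset.card_image_le

end Cfsg.Agent.Lib.H25.BR6
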