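import Mathlib

set_option autoImplicit false

/-!
Bisets (helper25): the algebra of the transfer. Given a finite `G`-set `I`, a cocycle
`h : G → I → G` with `h a k ∈ a B` for a normal subgroup `B`, and a `G`-invariant homomorphism `t`
from `B` to a commutative group, the map `a ↦ ∏ k, t (a⁻¹ h(a, k))` is a homomorphism of `G`
whose restriction to `B` is `t ^ (-|I|)` times the transfer `τ` of `t`; and `τ` is invariant under
the maps that the cocycle is stable under.
-/

namespace Cfsg.Agent.Lib.H25.Bis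

open scoped BigOperators

section Alg

variable {G : Type*} [Group G] {I : Type*} [Fintype I] [MulAction G I]
  (h : G → I → G) (hmul : ∀ a a' k, h (a * a') k = h a (a' • k) * h a' k)
  (B : Subgroup G) [hBn : B.Normal] (hB : ∀ a k, a⁻¹ * h a k ∈ B)
  {W : Type*} [CommGroup W] (t : G → W)
  (ht_mul : ∀ x ∈ B, ∀ y ∈ B, t (x * y) = t x * t y)
  (ht_conj : ∀ (a : G), ∀ x ∈ B, t (a * x * a⁻¹) = t x)

include ht_mul in
theorem t_one : t 1 = 1 := by
  have := ht_mul 1 B.one_mem 1 B.one_mem
  rw [mul_one] at this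
  exact (mul_eq_left.1 this.symm)

include ht_mul in
theorem t_inv {x : G} (hx : x ∈ B) : t x⁻¹ = (t x)⁻¹ := by
  have := ht_mul x hx x⁻¹ (B.inv_mem hx)
  rw [mul_inv_cancel, t_one B t ht_mul] at this
  exact eq_inv_of_mul_eq_one_right this.symm

include hB in
theorem h_mem {b : G} (hb : b ∈ B) (k : I) : h b k ∈ B := by
  have := B.mul_mem hb (hB b k)
  rwa [mul_inv_cancel_left] at this

/-- The transfer-like homomorphism. -/
def gfun (a : G) : W := ∏ k, t (a⁻¹ * h a k)

include hmul hB ht_mul ht_conj in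
theorem gfun_mul (a a' : G) : gfun h t (a * a') = gfun h t a * gfun h t a' := by
  unfold gfun
  have h1 : ∀ k, t ((a * a')⁻¹ * h (a * a') k) = t (a⁻¹ * h a (a' • k)) * t (a'⁻¹ * h a' k) := by
    intro k
    have e : (a * a')⁻¹ * h (a * a') k =
        (a'⁻¹ * (a⁻¹ * h a (a' • k)) * a'⁻¹⁻¹) * (a'⁻¹ * h a' k) := by
      rw [hmul]; group
    rw [e, ht_mul _ (hBn.conj_mem _ (hB a (a' • k)) a'⁻¹) _ (hB a' k), ht_conj _ _ (hB a (a' • k))]
  rw [Finset.prod_congr rfl (fun k _ => h1 k), Finset.prod_mul_distrib]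
  congr 1
  exact Equiv.prod_comp (MulAction.toPerm a') (fun k => t (a⁻¹ * h a k))

/-- The transfer of `t`. -/
def tau (b : G) : W := ∏ k, t (h b k)

include hmul hB ht_mul in
theorem tau_mul {b b' : G} (hb : b ∈ B) (hb' : b' ∈ B) :
    tau h t (b * b') = tau h t b * tau h t b' := by
  unfold tau
  have h1 : ∀ k, t (h (b * b') k) = t (h b (b' • k)) * t (h b' k) := by
    intro k
    rw [hmul, ht_mul _ (h_mem h B hB hb _) _ (h_mem h B hB hb' _)]
  rw [Finset.prod_congr rfl (fun k _ => h1 k), Finset.prod_mul_distrib]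
  congr 1
  exact Equiv.prod_comp (MulAction.toPerm b') (fun k => t (h b k))

include hB ht_mul in
theorem gfun_eq {b : G} (hb : b ∈ B) :
    gfun h t b = ((t b) ^ Fintype.card I)⁻¹ * tau h t b := by
  unfold gfun tau
  have h1 : ∀ k, t (b⁻¹ * h b k) = (t b)⁻¹ * t (h b k) := by
    intro k
    rw [ht_mul _ (B.inv_mem hb) _ (h_mem h B hB hb _), t_inv B t ht_mul hb]
  rw [Finset.prod_congr rfl (fun k _ => h1 k), Finset.prod_mul_distrib, Finset.prod_const,
    Finset.card_univ, inv_pow]

/-- An extension of `t` to `G` compatible with multiplication by `B` on both sides. -/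
noncomputable def that (x : G) : W :=
  t ((Quotient.out (QuotientGroup.mk x : G ⧸ B))⁻¹ * x)

theorem out_inv_mul_mem (x : G) : (Quotient.out (QuotientGroup.mk x : G ⧸ B))⁻¹ * x ∈ B := by
  rw [← QuotientGroup.eq, QuotientGroup.out_eq']

include ht_mul in
theorem that_mul_right (x : G) {b : G} (hb : b ∈ B) : that B t (x * b) = that B t x * t b := by
  unfold that
  have e : (QuotientGroup.mk (x * b) : G ⧸ B) = QuotientGroup.mk x := by
    rw [QuotientGroup.eq]
    have : (x * b)⁻¹ * x = b⁻¹ := by group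
    rw [this]
    exact B.inv_mem hb
  rw [e, ← mul_assoc, ht_mul _ (out_inv_mul_mem B x) _ hb]

include ht_mul ht_conj in
theorem that_mul_left (x : G) {b : G} (hb : b ∈ B) : that B t (b * x) = that B t x * t b := by
  have e : b * x = x * (x⁻¹ * b * x⁻¹⁻¹) := by group
  rw [e, that_mul_right B t ht_mul x (hBn.conj_mem b hb x⁻¹), ht_conj _ _ hb]

include hB ht_mul ht_conj in
/-- The transfer is invariant under the maps under which the cocycle is stable. -/
theorem tau_eq_of_stable {u fu : G} (hu : u ∈ B) (hfu : fu ∈ B) (ebar : I ≃ I) (c : I → G)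
    (hc : ∀ k, h fu (ebar k) * c k = c (u • k) * h u k) : tau h t fu = tau h t u := by
  unfold tau
  rw [← Equiv.prod_comp ebar (fun k => t (h fu k))]
  have h1 : ∀ k, t (h fu (ebar k)) = that B t (c (u • k)) * t (h u k) * (that B t (c k))⁻¹ := by
    intro k
    have h2 := congrArg (that B t) (hc k)
    rw [that_mul_left B t ht_mul ht_conj _ (h_mem h B hB hfu _),
      that_mul_right B t ht_mul _ (h_mem h B hB hu _)] at h2
    rw [← h2, mul_comm (that B t (c k)), mul_inv_cancel_right]
  rw [Finset.prod_congr rfl (fun k _ => h1 k), Finset.prod_mul_distrib, Finset.prod_mul_distrib,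
    Finset.prod_inv_distrib]
  have h3 : ∏ k, that B t (c (u • k)) = ∏ k, that B t (c k) :=
    Equiv.prod_comp (MulAction.toPerm u) (fun k => that B t (c k))
  rw [h3, mul_comm (∏ k, that B t (c k)), mul_inv_cancel_right]

include hmul hB ht_mul in
/-- If the transfer vanishes on generators of `B` inside `B`, it vanishes on `B`. -/
theorem tau_eq_one_of_gens (gens : Set G) (hgB : gens ⊆ B) (hBg : B ≤ Subgroup.closure gens)
    (hg : ∀ y ∈ gens, tau h t y = 1) : ∀ b ∈ B, tau h t b = 1 := by
  intro b hb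
  have key : ∀ y ∈ Subgroup.closure gens, y ∈ B ∧ tau h t y = 1 := by
    intro y hy
    induction hy using Subgroup.closure_induction with
    | mem y hy => exact ⟨hgB hy, hg y hy⟩
    | one =>
      refine ⟨B.one_mem, ?_⟩
      have := tau_mul h hmul B hB t ht_mul B.one_mem B.one_mem
      rw [mul_one] at this
      exact (mul_eq_left.1 this.symm)
    | mul x y _ _ hx hy =>
      refine ⟨B.mul_mem hx.1 hy.1, ?_⟩
      rw [tau_mul h hmul B hB t ht_mul hx.1 hy.1, hx.2, hy.2, mul_one]
    | inv x _ hx =>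
      refine ⟨B.inv_mem hx.1, ?_⟩
      have h1 := tau_mul h hmul B hB t ht_mul hx.1 (B.inv_mem hx.1)
      have h2 : tau h t (1 : G) = 1 := by
        have := tau_mul h hmul B hB t ht_mul B.one_mem B.one_mem
        rw [mul_one] at this
        exact (mul_eq_left.1 this.symm)
      rw [mul_inv_cancel, h2, hx.2, one_mul] at h1
      exact h1.symm
  exact (key b (hBg hb)).2

include hmul hB ht_mul ht_conj in
/-- **The extension**: if the transfer of `t` vanishes on `B`, the homomorphism `gfun` restricts to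
`t ^ (-|I|)` on `B`. -/
theorem exists_hom_of_tau_eq_one (hτ : ∀ b ∈ B, tau h t b = 1) :
    ∃ g : G →* W, ∀ b ∈ B, g b = ((t b) ^ Fintype.card I)⁻¹ := by
  refine ⟨MonoidHom.mk' (gfun h t) (gfun_mul h hmul B hB t ht_mul ht_conj), fun b hb => ?_⟩
  show gfun h t b = _
  rw [gfun_eq h B hB t ht_mul hb, hτ b hb, mul_one]

end Alg

end Cfsg.Agent.Lib.H25.Bis
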