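import Cfsg.Agent.Lib.H25.BisTransfer

set_option autoImplicit false

/-!
Bisets (helper25): the transfer through a right-free biset of a homomorphism defined on the whole
group, and sections of representatives adapted to an element acting centrally.
-/

namespace Cfsg.Agent.Lib.H25.Bis

variable {G : Type*} [Group G] {X : Type*} [MulAction (G × G) X]

section Full

variable {W : Type*} [CommGroup W] [Fintype (RO G X)]
  (rep : RO G X → X) (hrep : ∀ k, ro (rep k) = k)

/-- The transfer of `t : G →* W` through `X`. -/
noncomputable def transferX (t : G →* W) (a : G) : W := tau (hh rep) t a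

include hrep in
theorem transferX_mul (hfree : RFree G X) (t : G →* W) (a b : G) :
    transferX rep t (a * b) = transferX rep t a * transferX rep t b :=
  tau_mul (hh rep) (hh_mul rep hrep hfree) ⊤ (fun _ _ => Subgroup.mem_top _) t
    (fun x _ y _ => map_mul t x y) (Subgroup.mem_top a) (Subgroup.mem_top b)

include hrep in
/-- The transfer as a homomorphism. -/
noncomputable def transferHom (hfree : RFree G X) (t : G →* W) : G →* W :=
  MonoidHom.mk' (transferX rep t) (transferX_mul rep hrep hfree t)

include hrep in
theorem transferX_stable (hfree : RFree G X) (t : G →* W) (U : Subgroup G) (f : G → G)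
    (hf1 : f 1 = 1) (e : X ≃ X) (he : ∀ v ∈ U, ∀ (s : G) (z : X),
      e (((v, s) : G × G) • z) = ((f v, s) : G × G) • e z) :
    ∀ u ∈ U, transferX rep t (f u) = transferX rep t u := by
  intro u hu
  obtain ⟨ebar, c, hc⟩ := exists_stable_data rep hrep hfree U f hf1 e he
  exact tau_eq_of_stable (hh rep) ⊤ (fun _ _ => Subgroup.mem_top _) t
    (fun x _ y _ => map_mul t x y)
    (fun a x _ => by rw [map_mul, map_mul, map_inv, mul_comm (t a), mul_inv_cancel_right])
    (Subgroup.mem_top u) (Subgroup.mem_top (f u)) ebar c (hc u hu)

include hrep in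
/-- If the representatives are adapted to `z`, the transfer of `z` is `t z ^ |I|`. -/
theorem transferX_of_adapted (hfree : RFree G X) (t : G →* W) (z : G)
    (hz : ∀ k, ((z, z) : G × G) • rep k = rep (z • k)) :
    transferX rep t z = t z ^ Fintype.card (RO G X) := by
  have h1 : ∀ k, hh rep z k = z := by
    intro k
    have h2 := hh_spec rep hrep z k
    have h3 : ((z, (1 : G)) : G × G) • rep k = (((1 : G), z⁻¹) : G × G) • rep (z • k) := by
      rw [← hz k, ← mul_smul]
      congr 1
      apply Prod.ext
      · show z = 1 * z
        rw [one_mul]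
      · show (1 : G) = z⁻¹ * z
        rw [inv_mul_cancel]
    rw [h3] at h2
    have h4 : coord rep (z • k, z) = coord rep (z • k, hh rep z k) := h2
    have h5 := coord_injective rep hrep hfree h4
    exact (congrArg Prod.snd h5).symm
  unfold transferX tau
  rw [Finset.prod_congr rfl (fun k _ => by rw [h1 k]), Finset.prod_const, Finset.card_univ]

end Full

/-- Representatives adapted to an element `z` whose powers fix pointwise (two-sidedly) the right
orbits that they fix. -/
theorem exists_adapted_rep (z : G)
    (hP : ∀ g ∈ Subgroup.zpowers z, ∀ ω : X, g • (ro ω : RO G X) = ro ω →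
      ((g, g) : G × G) • ω = ω) :
    ∃ rep : RO G X → X, (∀ k, ro (rep k) = k) ∧
      ∀ k, ((z, z) : G × G) • rep k = rep (z • k) := by
  classical
  let zs : Setoid (RO G X) :=
    { r := fun k k' => ∃ g ∈ Subgroup.zpowers z, g • k = k'
      iseqv :=
        { refl := fun k => ⟨1, Subgroup.one_mem _, one_smul _ k⟩
          symm := by
            rintro k k' ⟨g, hg, rfl⟩
            exact ⟨g⁻¹, Subgroup.inv_mem _ hg, inv_smul_smul g k⟩
          trans := by
            rintro k k' k'' ⟨g, hg, rfl⟩ ⟨g', hg', rfl⟩
            exact ⟨g' * g, Subgroup.mul_mem _ hg' hg, mul_smul g' g k⟩ } }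
  let base : RO G X → RO G X := fun k => Quotient.out (Quotient.mk zs k)
  have hbase : ∀ k, ∃ g ∈ Subgroup.zpowers z, g • base k = k := by
    intro k
    have : zs.r (base k) k := Quotient.exact (Quotient.out_eq (Quotient.mk zs k))
    exact this
  have hbase_congr : ∀ k k', zs.r k k' → base k = base k' := by
    intro k k' h
    show Quotient.out (Quotient.mk zs k) = Quotient.out (Quotient.mk zs k')
    rw [Quotient.sound h]
  choose g hg hgk using hbase
  let pt : RO G X → X := fun k => Quotient.out (base k)
  have hpt : ∀ k, ro (pt k) = base k := fun k => Quotient.out_eq (base k)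
  refine ⟨fun k => ((g k, g k) : G × G) • pt k, fun k => ?_, fun k => ?_⟩
  · rw [ro_pair_smul, hpt, hgk]
  · have hb : base (z • k) = base k :=
      (hbase_congr k (z • k) ⟨z, Subgroup.mem_zpowers z, rfl⟩).symm
    have hptk : pt (z • k) = pt k := by
      show Quotient.out (base (z • k)) = Quotient.out (base k)
      rw [hb]
    show ((z, z) : G × G) • ((g k, g k) : G × G) • pt k =
      ((g (z • k), g (z • k)) : G × G) • pt (z • k)
    rw [hptk]
    set d := (g (z • k))⁻¹ * (z * g k) with hd
    have hdz : d ∈ Subgroup.zpowers z :=
      Subgroup.mul_mem _ (Subgroup.inv_mem _ (hg _))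
        (Subgroup.mul_mem _ (Subgroup.mem_zpowers z) (hg _))
    have hdfix : d • (ro (pt k) : RO G X) = ro (pt k) := by
      rw [hpt, hd, mul_smul, mul_smul, hgk k]
      have := hgk (z • k)
      rw [hb] at this
      rw [inv_smul_eq_iff]
      exact this.symm
    have h1 := hP d hdz (pt k) hdfix
    have h2 : ((z, z) : G × G) * ((g k, g k) : G × G) =
        ((g (z • k), g (z • k)) : G × G) * ((d, d) : G × G) := by
      apply Prod.ext
      · show z * g k = g (z • k) * d
        rw [hd]; group
      · show z * g k = g (z • k) * d
        rw [hd]; group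
    rw [← mul_smul, h2, mul_smul, h1]

end Cfsg.Agent.Lib.H25.Bis
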