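import Cfsg.Agent.Lib.H25.BisExt
import Cfsg.Agent.Lib.H25.BisFull
import Cfsg.Agent.S5092
import Cfsg.Agent.S5144
import Cfsg.Agent.S5084

set_option autoImplicit false

/-!
Transfer and the centre of a saturated fusion system (helper25): the focal subgroup and the derived
subgroup of `S` meet the centre of the system in the same subgroup.
-/

namespace Cfsg.Agent.Lib.H25.Bis

open Cfsg Cfsg.FusionSystem Cfsg.Agent.Lib.H25 Cfsg.Agent.Lib.H25.GSet Cfsg.Agent.Lib.H25.PP
open MulAction
open scoped commutatorElement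

variable {Ω : Type*} [Group Ω] {S : Subgroup Ω}

theorem focal_inf_center [Finite S] {p : ℕ} [hp : Fact p.Prime] (hS : IsPGroup p S)
    {F : FusionSystem S} (hF : F.IsSaturated p) :
    F.focalSubgroup ⊓ F.center = ⁅(S : Subgroup Ω), (S : Subgroup Ω)⁆ ⊓ F.center := by
  apply le_antisymm
  · rintro y ⟨hyf, hyc⟩
    refine ⟨?_, hyc⟩
    have hcen : F.IsCentral F.center := Cfsg.Agent.S5144.result F
    have hcS : F.center ≤ S := hcen.1
    have hfix : ∀ x ∈ F.center, ∀ y' : Ω, F.IsConjElt x y' → y' = x :=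
      ((Cfsg.Agent.S5084.result p hS F hF F.center).1 hcen).2
    have hyS : y ∈ S := hcS hyc
    let z : ↥S := ⟨y, hyS⟩
    obtain ⟨L, hLT, hLstab, n, hn, hpn⟩ := exists_charBiset hS hF
    have hX : ∀ ω : XL L, FType F (stabilizer (↥S × ↥S) ω) := fType_stabilizer_XL hLT
    have hstab : ∀ D D' : Subgroup (↥S × ↥S), FType F D → FType F D' →
        F.IsConj (src D) (src D') → fp (XL L) D = fp (XL L) D' := by
      intro D D' hD hD' hc
      rw [fp_XL, fp_XL]
      exact hLstab D D' hD hD' hc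
    have hfree : RFree ↥S (XL L) := rFree_of_fType hX
    have hP : ∀ g ∈ Subgroup.zpowers z, ∀ ω : XL L, g • (ro ω : RO ↥S (XL L)) = ro ω →
        ((g, g) : ↥S × ↥S) • ω = ω := by
      intro g hg ω hfixo
      rw [smul_ro] at hfixo
      obtain ⟨b, hb⟩ := ro_eq_iff.1 hfixo.symm
      have hst : ((g, b⁻¹) : ↥S × ↥S) • ω = ω := by
        rw [pair_smul, ← hb, right_mul_smul, inv_mul_cancel, right_one_smul]
      obtain ⟨P, Q, f, hf, hgr⟩ := hX ω
      obtain ⟨hgP, hbf⟩ := (hgr _).1 (mem_stabilizer_iff.2 hst)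
      have hgc : (g : Ω) ∈ F.center := by
        obtain ⟨i, rfl⟩ := Subgroup.mem_zpowers_iff.1 hg
        rw [Subgroup.coe_zpow]
        exact Subgroup.zpow_mem _ hyc i
      have hconj : F.IsConjElt (g : Ω) (f g) := by
        obtain ⟨Q', -, hf', -⟩ := hf.restrict
          (show Subgroup.zpowers (g : Ω) ≤ P from (Subgroup.zpowers_le).2 hgP)
        obtain ⟨φ, hφ, hφf, -⟩ := hf'
        exact ⟨φ, hφ, hφf ⟨g, Subgroup.mem_zpowers _⟩⟩
      have hfg := hfix _ hgc _ hconj
      have hbg : b⁻¹ = g := Subtype.ext (hbf.trans hfg)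
      rw [hbg] at hst
      exact hst
    obtain ⟨rep, hrep, hz⟩ := exists_adapted_rep z hP
    classical
    haveI : Fintype (RO ↥S (XL L)) := Fintype.ofFinite _
    let t : ↥S →* Abelianization ↥S := Abelianization.of
    have hτz := transferX_of_adapted rep hrep hfree t z hz
    have hcard : Fintype.card (RO ↥S (XL L)) = n := by
      have h1 := card_eq_mul rep hrep hfree
      rw [hn] at h1
      have h2 : Nat.card (RO ↥S (XL L)) = Fintype.card (RO ↥S (XL L)) := Nat.card_eq_fintype_card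
      rw [h2] at h1
      exact (Nat.eq_of_mul_eq_mul_right Nat.card_pos h1).symm
    have hτfoc : F.focalSubgroup ≤ (transferHom rep hrep hfree t).ker.map S.subtype := by
      unfold focalSubgroup
      rw [Subgroup.closure_le]
      rintro _ ⟨P, φ, x, hφ, rfl⟩
      have hPS := hom_le F hφ
      have hiso : IsIso F P φ.range (ext1 φ) := isIso_of_mem F hφ
      obtain ⟨e, he⟩ := exists_equiv_of_isIso hX hstab hiso
      let fS : ↥S → ↥S := fun a =>
        if ha : (a : Ω) ∈ P then ⟨ext1 φ a, hiso.le_right (hiso.map_mem ha)⟩ else 1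
      have hfS : ∀ (a : ↥S) (ha : (a : Ω) ∈ P),
          fS a = ⟨ext1 φ a, hiso.le_right (hiso.map_mem ha)⟩ := by
        intro a ha
        simp only [fS, dif_pos ha]
      have hf1 : fS 1 = 1 := by
        rw [hfS 1 P.one_mem]
        apply Subtype.ext
        exact hiso.map_one
      have hxS : (x : Ω) ∈ S := hPS x.2
      have hφS : φ x ∈ S := hom_mem_S F hφ x
      have hst := transferX_stable rep hrep hfree t (P.subgroupOf S) fS hf1 e
        (fun v hv s ω => by
          have hv' : (v : Ω) ∈ P := Subgroup.mem_subgroupOf.1 hv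
          rw [he v hv' s ω, hfS v hv'])
        ⟨x, hxS⟩ (Subgroup.mem_subgroupOf.2 x.2)
      have hfx : fS ⟨x, hxS⟩ = ⟨φ x, hφS⟩ := by
        rw [hfS _ x.2]
        apply Subtype.ext
        exact ext1_apply φ x
      refine ⟨(⟨x, hxS⟩ : ↥S)⁻¹ * ⟨φ x, hφS⟩, ?_, rfl⟩
      rw [SetLike.mem_coe, MonoidHom.mem_ker, map_mul, map_inv]
      show (transferX rep t ⟨x, hxS⟩)⁻¹ * transferX rep t ⟨φ x, hφS⟩ = 1
      rw [← hfx, hst, inv_mul_cancel]
    obtain ⟨k, hk, hky⟩ := hτfoc hyf
    have hkz : k = z := Subtype.ext hky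
    rw [hkz, SetLike.mem_coe, MonoidHom.mem_ker] at hk
    have h1 : t z ^ n = 1 := by
      rw [← hcard, ← hτz]
      exact hk
    obtain ⟨j, hj⟩ := hS z
    have h2 : t z ^ (p ^ j) = 1 := by rw [← map_pow, hj, map_one]
    have h3 : t z = 1 := by
      have hd1 := orderOf_dvd_of_pow_eq_one h1
      have hd2 := orderOf_dvd_of_pow_eq_one h2
      have hcop : Nat.Coprime n (p ^ j) :=
        Nat.Coprime.pow_right j ((Nat.Prime.coprime_iff_not_dvd hp.out).2 hpn).symm
      have h4 := Nat.dvd_gcd hd1 hd2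
      rw [hcop.gcd_eq_one] at h4
      exact orderOf_eq_one_iff.1 (Nat.dvd_one.1 h4)
    have h4 : z ∈ commutator ↥S := by
      rw [← Abelianization.ker_of]
      exact h3
    rw [← Subgroup.map_subtype_commutator]
    exact ⟨z, h4, rfl⟩
  · apply inf_le_inf_right
    rw [Cfsg.Agent.S5092.result p hS F hF]
    exact le_sup_right

end Cfsg.Agent.Lib.H25.Bis
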