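import Cfsg.Agent.Lib.H25.BisTop

set_option autoImplicit false

/-!
Bisets for fusion systems (helper25): existence of a characteristic biset of a saturated fusion
system (Broto–Levi–Oliver, Proposition 5.5), as a list of twisted diagonal subgroups of `S × S`.
-/

namespace Cfsg.Agent.Lib.H25.Bis

open Cfsg Cfsg.FusionSystem Cfsg.Agent.Lib.H25 Cfsg.Agent.Lib.H25.GSet Cfsg.Agent.Lib.H25.PP
open MulAction

variable {Ω : Type*} [Group Ω] {S : Subgroup Ω} {F : FusionSystem S}

/-- The class relation on twisted diagonal subgroups: conjugate sources. -/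
def Cls (F : FusionSystem S) (D D' : Subgroup (↥S × ↥S)) : Prop :=
  FType F D ∧ FType F D' ∧ F.IsConj (src D) (src D')

theorem Cls.card_eq [Finite S] {D D' : Subgroup (↥S × ↥S)} (h : Cls F D D') :
    Nat.card D = Nat.card D' := by
  obtain ⟨h1, h2, h3⟩ := h
  obtain ⟨f, hf⟩ := (isConj_iff F).1 h3
  rw [h1.card_eq, h2.card_eq, hf.card_eq]

theorem FType.card_le [Finite S] {D : Subgroup (↥S × ↥S)} (h : FType F D) :
    Nat.card D ≤ Nat.card S := by
  rw [h.card_eq]
  exact Subgroup.card_le_of_le (src_le D)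

theorem FType.card_dvd [Finite S] {D : Subgroup (↥S × ↥S)} (h : FType F D) :
    Nat.card D ∣ Nat.card S := by
  rw [h.card_eq]
  exact Subgroup.card_dvd_of_le (src_le D)

/-- The stabilizers of `XL L` are twisted diagonal subgroups when the members of `L` are. -/
theorem fType_stabilizer_XL [Finite S] {L : List (Subgroup (↥S × ↥S))} (hL : ∀ D ∈ L, FType F D)
    (z : XL L) : FType F (stabilizer (↥S × ↥S) z) := by
  obtain ⟨D, hD, g, hg⟩ := stabilizer_XL L z
  rw [hg]
  exact (hL D hD).cj g

/-- The chosen fully automized receptive conjugate. -/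
noncomputable def base (F : FusionSystem S) (p : ℕ) (P : Subgroup Ω) : Subgroup Ω :=
  Classical.epsilon (fun Q => F.IsConj P Q ∧ F.IsFullyAutomized p Q ∧ F.IsReceptive Q)

theorem base_spec {p : ℕ} (hF : F.IsSaturated p) {P : Subgroup Ω} (hP : P ≤ S) :
    F.IsConj P (base F p P) ∧ F.IsFullyAutomized p (base F p P) ∧ F.IsReceptive (base F p P) :=
  Classical.epsilon_spec (hF P hP)

theorem base_congr {p : ℕ} {P P' : Subgroup Ω} (h : F.IsConj P P') : base F p P = base F p P' := by
  unfold base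
  congr 1
  funext Q
  apply propext
  constructor
  · rintro ⟨h1, h2⟩
    exact ⟨isConj_trans F (isConj_symm F h) h1, h2⟩
  · rintro ⟨h1, h2⟩
    exact ⟨isConj_trans F h h1, h2⟩

/-- **The step** for a saturated system. -/
theorem sat_step [Finite S] {p : ℕ} [Fact p.Prime] (hS : IsPGroup p S) (hF : F.IsSaturated p)
    (m : ℕ) (L : List (Subgroup (↥S × ↥S))) (hL : ∀ D ∈ L, FType F D ∧ m < Nat.card D)
    (hstab : ∀ D D' : Subgroup (↥S × ↥S), FType F D → FType F D' → F.IsConj (src D) (src D') →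
      m < Nat.card D → fpL L D = fpL L D') :
    ∃ Lnew : List (Subgroup (↥S × ↥S)), (∀ D ∈ Lnew, FType F D ∧ Nat.card D = m) ∧
      ∀ D D' : Subgroup (↥S × ↥S), FType F D → FType F D' → F.IsConj (src D) (src D') →
        m ≤ Nat.card D → fpL (L ++ Lnew) D = fpL (L ++ Lnew) D' := by
  have hLT : ∀ D ∈ L, FType F D := fun D hD => (hL D hD).1
  obtain ⟨Lnew, h1, h2⟩ := step {D | FType F D} (fun D hD g => FType.cj hD g) (Cls F)
    (fun D D' h => h.card_eq) (fun D hD g => ⟨hD, hD.cj g, (hD.cj' g).2⟩) m L hL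
    (fun D hD D' hD' hc hm => hstab D D' hD hD' hc.2.2 hm)
    (fun D => fpL L (diag (S := S) (base F p (src D))))
    (fun D _ D' _ _ hc => by
      show fpL L (diag (base F p (src D))) = fpL L (diag (base F p (src D')))
      rw [base_congr hc.2.2])
    (fun D hD hDm => by
      obtain ⟨hb1, hb2, hb3⟩ := base_spec hF (src_le D)
      have := fp_congr_diag hS (X := XL L) (fType_stabilizer_XL hLT) m
        (fun z => by
          obtain ⟨D₁, hD₁, g, hg⟩ := stabilizer_XL L z
          rw [hg, card_cj]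
          exact (hL D₁ hD₁).2)
        (fun D₁ D₂ hD₁ hD₂ hc hm => by
          rw [fp_XL, fp_XL]
          exact hstab D₁ D₂ hD₁ hD₂ hc hm)
        hD hDm hb1 hb2 hb3
      rwa [fp_XL, fp_XL] at this)
  exact ⟨Lnew, h1, fun D D' hD hD' hc hm => h2 D hD D' hD' ⟨hD, hD', hc⟩ hm⟩

/-- The number of right orbits of `XL L`. -/
noncomputable def cnt (L : List (Subgroup (↥S × ↥S))) : ℕ :=
  (L.map (fun D : Subgroup (↥S × ↥S) => Nat.card ↥S / Nat.card ↥D)).sum

theorem cnt_append (L L' : List (Subgroup (↥S × ↥S))) : cnt (L ++ L') = cnt L + cnt L' := by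
  unfold cnt
  rw [List.map_append, List.sum_append]

theorem card_XL_eq [Finite S] {L : List (Subgroup (↥S × ↥S))} (hL : ∀ D ∈ L, FType F D) :
    Nat.card (XL L) = cnt L * Nat.card S := by
  rw [card_XL]
  unfold cnt
  induction L with
  | nil => simp
  | cons D L ih =>
    rw [List.map_cons, List.sum_cons, List.map_cons, List.sum_cons,
      ih (fun D' hD' => hL D' (List.mem_cons_of_mem _ hD')), add_mul]
    congr 1
    have hD := hL D List.mem_cons_self
    have h1 := D.index_mul_card
    rw [Nat.card_prod] at h1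
    obtain ⟨c, hc⟩ := hD.card_dvd
    have hpos : 0 < Nat.card D := Nat.card_pos
    have h2 : Nat.card ↥S / Nat.card D = c := by
      rw [hc, Nat.mul_div_cancel_left _ hpos]
    rw [h2]
    apply Nat.eq_of_mul_eq_mul_right hpos
    rw [h1]
    have e : c * Nat.card ↥S * Nat.card ↥D = Nat.card ↥S * (Nat.card ↥D * c) := by ring
    rw [e, ← hc]

theorem dvd_cnt [Finite S] {p : ℕ} [Fact p.Prime] (hS : IsPGroup p S)
    {L : List (Subgroup (↥S × ↥S))}
    (hL : ∀ D ∈ L, FType F D ∧ Nat.card D < Nat.card S) : p ∣ cnt L := by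
  unfold cnt
  apply List.dvd_sum
  intro x hx
  rw [List.mem_map] at hx
  obtain ⟨D, hD, rfl⟩ := hx
  obtain ⟨hDT, hDlt⟩ := hL D hD
  obtain ⟨a, ha⟩ := IsPGroup.iff_card.1 hS
  have hdvd := hDT.card_dvd
  rw [ha] at hdvd
  obtain ⟨b, hb, hDb⟩ := (Nat.dvd_prime_pow (Fact.out : p.Prime)).1 hdvd
  have hp : 1 < p := (Fact.out : p.Prime).one_lt
  have hlt : b < a := by
    rw [ha, hDb] at hDlt
    exact (Nat.pow_lt_pow_iff_right hp).1 hDlt
  rw [ha, hDb, Nat.pow_div hb (Fact.out : p.Prime).pos]
  exact dvd_pow_self p (by omega)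

/-- **Existence of a characteristic biset** for a saturated fusion system. -/
theorem exists_charBiset [Finite S] {p : ℕ} [Fact p.Prime] (hS : IsPGroup p S)
    (hF : F.IsSaturated p) :
    ∃ L : List (Subgroup (↥S × ↥S)), (∀ D ∈ L, FType F D) ∧
      (∀ D D' : Subgroup (↥S × ↥S), FType F D → FType F D' → F.IsConj (src D) (src D') →
        fpL L D = fpL L D') ∧
      ∃ n : ℕ, Nat.card (XL L) = n * Nat.card S ∧ ¬ p ∣ n := by
  have hpos : 0 < Nat.card S := Nat.card_pos
  have key : ∀ k : ℕ, k + 1 ≤ Nat.card S →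
      ∃ L : List (Subgroup (↥S × ↥S)), (∀ D ∈ L, FType F D ∧ Nat.card S - 1 - k < Nat.card D) ∧
        (∀ D D' : Subgroup (↥S × ↥S), FType F D → FType F D' → F.IsConj (src D) (src D') →
          Nat.card S - 1 - k < Nat.card D → fpL L D = fpL L D') ∧ ¬ p ∣ cnt L := by
    intro k
    induction k with
    | zero =>
      intro _
      obtain ⟨L, hL1, hL2, hL3⟩ := exists_top hF
      refine ⟨L, fun D hD => ⟨(hL1 D hD).1, by rw [(hL1 D hD).2]; omega⟩, ?_, ?_⟩
      · intro D D' hD hD' hc hm
        have h1 : Nat.card D = Nat.card S := by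
          have := hD.card_le
          omega
        have h2 : Nat.card D' = Nat.card S := by
          rw [← h1]
          exact (Cls.card_eq ⟨hD, hD', hc⟩).symm
        exact hL2 D D' hD hD' h1 h2
      · have : cnt L = L.length := by
          unfold cnt
          have : ∀ D ∈ L, Nat.card ↥S / Nat.card D = 1 := by
            intro D hD
            rw [(hL1 D hD).2, Nat.div_self hpos]
          rw [List.map_congr_left this]
          simp
        rwa [this]
    | succ k ih =>
      intro hk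
      obtain ⟨L, hL1, hL2, hL3⟩ := ih (by omega)
      obtain ⟨Lnew, hn1, hn2⟩ := sat_step hS hF (Nat.card S - 1 - k) L hL1 hL2
      refine ⟨L ++ Lnew, ?_, ?_, ?_⟩
      · intro D hD
        rw [List.mem_append] at hD
        rcases hD with hD | hD
        · exact ⟨(hL1 D hD).1, by have := (hL1 D hD).2; omega⟩
        · exact ⟨(hn1 D hD).1, by rw [(hn1 D hD).2]; omega⟩
      · intro D D' hD hD' hc hm
        exact hn2 D D' hD hD' hc (by omega)
      · rw [cnt_append]
        have : p ∣ cnt Lnew :=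
          dvd_cnt hS (fun D hD => ⟨(hn1 D hD).1, by rw [(hn1 D hD).2]; omega⟩)
        intro h
        exact hL3 ((Nat.dvd_add_left this).1 h)
  obtain ⟨L, hL1, hL2, hL3⟩ := key (Nat.card S - 1) (by omega)
  have hLT : ∀ D ∈ L, FType F D := fun D hD => (hL1 D hD).1
  refine ⟨L, hLT, ?_, cnt L, card_XL_eq hLT, hL3⟩
  intro D D' hD hD' hc
  apply hL2 D D' hD hD' hc
  have : 0 < Nat.card D := Nat.card_pos
  omega

end Cfsg.Agent.Lib.H25.Bis
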