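import Cfsg.Agent.Lib.H25.BisFType
import Cfsg.Agent.Lib.H25.Saturation

set_option autoImplicit false

/-!
Bisets for fusion systems (helper25): products of isomorphisms of the system acting on subgroups of
`S × S`, comparison of marks, and the congruence of marks in a saturated system.
-/

namespace Cfsg.Agent.Lib.H25.Bis

open Cfsg Cfsg.FusionSystem Cfsg.Agent.Lib.H25 Cfsg.Agent.Lib.H25.GSet Cfsg.Agent.Lib.H25.PP
open MulAction

variable {Ω : Type*} [Group Ω] {S : Subgroup Ω} {F : FusionSystem S}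

/-- The homomorphism `K → S × S` given by `r₁ × r₂` on a subgroup `K` whose projections lie in the
sources of the isomorphisms `r₁`, `r₂`. -/
def prodHom {N₁ N₁' N₂ N₂' : Subgroup Ω} {r₁ r₂ : Ω → Ω}
    (h₁ : IsIso F N₁ N₁' r₁) (h₂ : IsIso F N₂ N₂' r₂) (K : Subgroup (↥S × ↥S))
    (hK₁ : ∀ x ∈ K, (x.1 : Ω) ∈ N₁) (hK₂ : ∀ x ∈ K, (x.2 : Ω) ∈ N₂) : ↥K →* ↥S × ↥S :=
  MonoidHom.mk' (fun k => (⟨r₁ (k.1.1 : Ω), h₁.le_right (h₁.map_mem (hK₁ k.1 k.2))⟩,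
      ⟨r₂ (k.1.2 : Ω), h₂.le_right (h₂.map_mem (hK₂ k.1 k.2))⟩))
    (fun a b => by
      apply Prod.ext
      · apply Subtype.ext
        show r₁ (((a * b : ↥K) : ↥S × ↥S).1 : Ω) = r₁ (a.1.1 : Ω) * r₁ (b.1.1 : Ω)
        rw [← h₁.map_mul (hK₁ a.1 a.2) (hK₁ b.1 b.2)]
        rfl
      · apply Subtype.ext
        show r₂ (((a * b : ↥K) : ↥S × ↥S).2 : Ω) = r₂ (a.1.2 : Ω) * r₂ (b.1.2 : Ω)
        rw [← h₂.map_mul (hK₂ a.1 a.2) (hK₂ b.1 b.2)]
        rfl)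

section

variable {N₁ N₁' N₂ N₂' : Subgroup Ω} {r₁ r₂ : Ω → Ω}
    (h₁ : IsIso F N₁ N₁' r₁) (h₂ : IsIso F N₂ N₂' r₂) (K : Subgroup (↥S × ↥S))
    (hK₁ : ∀ x ∈ K, (x.1 : Ω) ∈ N₁) (hK₂ : ∀ x ∈ K, (x.2 : Ω) ∈ N₂)

theorem prodHom_fst (k : ↥K) : ((prodHom h₁ h₂ K hK₁ hK₂ k).1 : Ω) = r₁ (k.1.1 : Ω) := rfl

theorem prodHom_snd (k : ↥K) : ((prodHom h₁ h₂ K hK₁ hK₂ k).2 : Ω) = r₂ (k.1.2 : Ω) := rfl

theorem prodHom_injective : Function.Injective (prodHom h₁ h₂ K hK₁ hK₂) := by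
  intro a b hab
  apply Subtype.ext
  apply Prod.ext
  · apply Subtype.ext
    apply h₁.injOn (hK₁ a.1 a.2) (hK₁ b.1 b.2)
    have := congrArg (fun t : ↥S × ↥S => (t.1 : Ω)) hab
    exact this
  · apply Subtype.ext
    apply h₂.injOn (hK₂ a.1 a.2) (hK₂ b.1 b.2)
    have := congrArg (fun t : ↥S × ↥S => (t.2 : Ω)) hab
    exact this

theorem isImage_map_prodHom (E : Subgroup ↥K) :
    IsImage (E.map K.subtype) (E.map (prodHom h₁ h₂ K hK₁ hK₂)) r₁ r₂ := by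
  intro y
  constructor
  · rintro ⟨k, hk, rfl⟩
    exact ⟨k.1, ⟨k, hk, rfl⟩, rfl, rfl⟩
  · rintro ⟨x, ⟨k, hk, rfl⟩, hy1, hy2⟩
    refine ⟨k, hk, ?_⟩
    apply Prod.ext
    · apply Subtype.ext
      exact hy1.symm
    · apply Subtype.ext
      exact hy2.symm

end

theorem fp_eq_zero_of_not_fType {X : Type*} [MulAction (↥S × ↥S) X]
    (hX : ∀ z : X, FType F (stabilizer (↥S × ↥S) z)) {H : Subgroup (↥S × ↥S)}
    (hH : ¬ FType F H) : fp X H = 0 := by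
  unfold fp
  have : Fix X H = ∅ := by
    rw [Set.eq_empty_iff_forall_notMem]
    intro z hz
    exact hH ((hX z).of_le (mem_Fix_iff_le.1 hz))
  rw [this, Set.ncard_empty]

/-- The marks of a set with twisted diagonal stabilizers that is stable above `m` are invariant
under products of isomorphisms of the system, above `m`. -/
theorem fp_map_prodHom {X : Type*} [MulAction (↥S × ↥S) X]
    (hX : ∀ z : X, FType F (stabilizer (↥S × ↥S) z)) (m : ℕ)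
    (hstab : ∀ D D' : Subgroup (↥S × ↥S), FType F D → FType F D' → F.IsConj (src D) (src D') →
      m < Nat.card D → fp X D = fp X D')
    {N₁ N₁' N₂ N₂' : Subgroup Ω} {r₁ r₂ : Ω → Ω}
    (h₁ : IsIso F N₁ N₁' r₁) (h₂ : IsIso F N₂ N₂' r₂) (K : Subgroup (↥S × ↥S))
    (hK₁ : ∀ x ∈ K, (x.1 : Ω) ∈ N₁) (hK₂ : ∀ x ∈ K, (x.2 : Ω) ∈ N₂)
    (E : Subgroup ↥K) (hE : m < Nat.card E) :
    fp X (E.map K.subtype) = fp X (E.map (prodHom h₁ h₂ K hK₁ hK₂)) := by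
  have him := isImage_map_prodHom h₁ h₂ K hK₁ hK₂ E
  have hE₁ : ∀ x ∈ E.map K.subtype, (x.1 : Ω) ∈ N₁ := by
    rintro _ ⟨k, -, rfl⟩
    exact hK₁ k.1 k.2
  have hE₂ : ∀ x ∈ E.map K.subtype, (x.2 : Ω) ∈ N₂ := by
    rintro _ ⟨k, -, rfl⟩
    exact hK₂ k.1 k.2
  by_cases hT : FType F (E.map K.subtype)
  · obtain ⟨hT', hc⟩ := FType.image h₁ h₂ hE₁ hE₂ him hT
    apply hstab _ _ hT hT' hc
    rwa [Subgroup.card_map_of_injective K.subtype_injective]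
  · rw [fp_eq_zero_of_not_fType hX hT,
      fp_eq_zero_of_not_fType hX (fun h => hT (FType.of_image h₁ h₂ hE₁ hE₂ him h))]

/-- Normalizers grow in finite `p`-groups. -/
theorem exists_normalizer_mem {Γ : Type*} [Group Γ] [Finite Γ] {p : ℕ} [Fact p.Prime]
    (hΓ : IsPGroup p Γ) {D St : Subgroup Γ} (h : D < St) :
    ∃ n ∈ St, n ∈ Subgroup.normalizer (D : Set Γ) ∧ n ∉ D := by
  haveI : Group.IsNilpotent ↥St := (hΓ.to_subgroup St).isNilpotent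
  have hnc : NormalizerCondition ↥St := normalizerCondition_of_isNilpotent
  have hlt : D.subgroupOf St < ⊤ := by
    rw [lt_top_iff_ne_top, Ne, Subgroup.subgroupOf_eq_top]
    exact not_le_of_gt h
  have h2 := hnc _ hlt
  obtain ⟨n, hn, hnD⟩ := SetLike.exists_of_lt h2
  refine ⟨n.1, n.2, ?_, fun hD => hnD (Subgroup.mem_subgroupOf.2 hD)⟩
  rw [← Subgroup.subgroupOf_normalizer_eq h.le] at hn
  exact Subgroup.mem_subgroupOf.1 hn


theorem isPGroup_prod {G : Type*} [Group G] [Finite G] {p : ℕ} [Fact p.Prime]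
    (hG : IsPGroup p G) : IsPGroup p (G × G) := by
  obtain ⟨n, hn⟩ := IsPGroup.iff_card.1 hG
  apply IsPGroup.of_card (n := n + n)
  rw [Nat.card_prod, hn, pow_add]

/-- **The congruence for the marks** in a saturated system: the mark of a twisted diagonal subgroup
`D` of order `m` is congruent to that of the diagonal of a fully automized receptive conjugate of
its source, modulo `|N(D) : D|`, provided the set is stable above `m` and has stabilizers of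
order `> m`. -/
theorem fp_congr_diag [Finite S] {p : ℕ} [Fact p.Prime] (hS : IsPGroup p S)
    {X : Type*} [MulAction (↥S × ↥S) X] [Finite X]
    (hX : ∀ z : X, FType F (stabilizer (↥S × ↥S) z)) (m : ℕ)
    (hXm : ∀ z : X, m < Nat.card (stabilizer (↥S × ↥S) z))
    (hstab : ∀ D D' : Subgroup (↥S × ↥S), FType F D → FType F D' → F.IsConj (src D) (src D') →
      m < Nat.card D → fp X D = fp X D')
    {D : Subgroup (↥S × ↥S)} (hD : FType F D) (hDm : Nat.card D = m)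
    {P₀ : Subgroup Ω} (hc : F.IsConj (src D) P₀) (hfa : F.IsFullyAutomized p P₀)
    (hrec : F.IsReceptive P₀) :
    fp X D ≡ fp X (diag (S := S) P₀) [MOD w D] := by
  obtain ⟨P'', f, hf, hg⟩ := hD.isGraph_src
  obtain ⟨ρ₁, N', hρ₁, hN', hρ₁P⟩ := exists_normalizer_map hS hfa hrec hc
  have hP'S : src D ≤ S := src_le D
  have hP''S : P'' ≤ S := hf.le_right
  haveI : Finite (src D) := finite_of_le S hP'S
  haveI : Finite P'' := finite_of_le S hP''S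
  set K : Subgroup (↥S × ↥S) := Subgroup.normalizer (D : Set (↥S × ↥S)) with hKdef
  have hDK : D ≤ K := Subgroup.le_normalizer
  -- elements of `K`
  have hK : ∀ k ∈ K, ∀ x ∈ src D, (k.1 : Ω) * x * (k.1 : Ω)⁻¹ ∈ src D ∧
      f ((k.1 : Ω) * x * (k.1 : Ω)⁻¹) = (k.2 : Ω) * f x * (k.2 : Ω)⁻¹ := by
    intro k hk x hx
    have hd : ((⟨x, hP'S hx⟩, ⟨f x, hP''S (hf.map_mem hx)⟩) : ↥S × ↥S) ∈ D :=
      (hg _).2 ⟨hx, rfl⟩
    have h2 := (Subgroup.mem_normalizer_iff.1 hk _).1 hd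
    have h3 := (hg _).1 h2
    exact ⟨h3.1, h3.2.symm⟩
  have hK₁ : ∀ k ∈ K, (k.1 : Ω) ∈ normalizerIn S (src D) := by
    intro k hk
    exact ⟨k.1.2, mem_normalizer_of_conj_mem (fun x hx => (hK k hk x hx).1)⟩
  obtain ⟨fi, hfi, hfi1, hfi2⟩ := hf.symm
  have hg₂ : IsIso F P'' P₀ (ρ₁ ∘ fi) := hfi.trans hρ₁P
  let N₂ : Subgroup Ω := (K.map (MonoidHom.snd ↥S ↥S)).map S.subtype
  have hN₂mem : ∀ k ∈ K, (k.2 : Ω) ∈ N₂ := fun k hk => ⟨k.2, ⟨k, hk, rfl⟩, rfl⟩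
  have hPN : src D ≤ normalizerIn S (src D) := le_normalizerIn hP'S
  have hN₂ : ∀ b ∈ N₂, b ∈ S ∧ b ∈ Subgroup.normalizer (P'' : Set Ω) ∧
      ∃ h ∈ S, ∀ y ∈ P'', (ρ₁ ∘ fi) (b * y * b⁻¹) = h * (ρ₁ ∘ fi) y * h⁻¹ := by
    rintro _ ⟨_, ⟨k, hk, rfl⟩, rfl⟩
    have hconj : ∀ y ∈ P'', (k.2 : Ω) * y * (k.2 : Ω)⁻¹ ∈ P'' ∧
        fi ((k.2 : Ω) * y * (k.2 : Ω)⁻¹) = (k.1 : Ω) * fi y * (k.1 : Ω)⁻¹ := by
      intro y hy
      have hx : fi y ∈ src D := hfi.map_mem hy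
      obtain ⟨h1, h2⟩ := hK k hk (fi y) hx
      rw [hfi2 y hy] at h2
      rw [← h2]
      exact ⟨hf.map_mem h1, hfi1 _ h1⟩
    refine ⟨k.2.2, mem_normalizer_of_conj_mem (fun y hy => (hconj y hy).1),
      ρ₁ (k.1 : Ω), hρ₁.le_right (hρ₁.map_mem (hK₁ k hk)), fun y hy => ?_⟩
    show ρ₁ (fi ((k.2 : Ω) * y * (k.2 : Ω)⁻¹)) = ρ₁ (k.1 : Ω) * ρ₁ (fi y) * (ρ₁ (k.1 : Ω))⁻¹
    have hk1 := hK₁ k hk
    have hx : fi y ∈ normalizerIn S (src D) := hPN (hfi.map_mem hy)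
    rw [(hconj y hy).2, hρ₁.map_mul (Subgroup.mul_mem _ hk1 hx) (Subgroup.inv_mem _ hk1),
      hρ₁.map_mul hk1 hx, hρ₁.map_inv hk1]
  obtain ⟨ρ₂, N₂', hρ₂, hρ₂g⟩ := IsReceptive_extend hrec hg₂ N₂ hN₂
  let ρ := prodHom hρ₁ hρ₂ K hK₁ hN₂mem
  let D' : Subgroup ↥K := D.subgroupOf K
  haveI hD'n : D'.Normal := Subgroup.normal_in_normalizer
  have e1 : D'.map K.subtype = D := by
    rw [Subgroup.subgroupOf_map_subtype]
    exact inf_eq_left.2 hDK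
  have e2 : D'.map ρ = diag P₀ := by
    ext y
    constructor
    · rintro ⟨k, hk, rfl⟩
      have hk' : k.1 ∈ D := Subgroup.mem_subgroupOf.1 hk
      obtain ⟨hk1, hk2⟩ := (hg k.1).1 hk'
      refine ⟨hρ₁P.map_mem hk1, ?_⟩
      show ρ₂ (k.1.2 : Ω) = ρ₁ (k.1.1 : Ω)
      rw [hk2, hρ₂g _ (hf.map_mem hk1) (by rw [← hk2]; exact hN₂mem k.1 k.2)]
      show ρ₁ (fi (f _)) = _
      rw [hfi1 _ hk1]
    · rintro ⟨hy1, hy2⟩
      obtain ⟨x, hx, hxy⟩ := hρ₁P.surjOn hy1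
      have hd : ((⟨x, hP'S hx⟩, ⟨f x, hP''S (hf.map_mem hx)⟩) : ↥S × ↥S) ∈ D :=
        (hg _).2 ⟨hx, rfl⟩
      refine ⟨⟨_, hDK hd⟩, Subgroup.mem_subgroupOf.2 hd, ?_⟩
      apply Prod.ext
      · apply Subtype.ext
        exact hxy
      · apply Subtype.ext
        show ρ₂ (f x) = (y.2 : Ω)
        rw [hy2, ← hxy, hρ₂g _ (hf.map_mem hx) (hN₂mem _ (hDK hd))]
        show ρ₁ (fi (f x)) = _
        rw [hfi1 _ hx]
  have hcardD' : Nat.card D' = Nat.card D :=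
    Nat.card_congr (Subgroup.subgroupOfEquivOfLe hDK).toEquiv
  have hidx : D'.index = w D := by
    have h1 := w_mul_card D
    have h2 := D'.index_mul_card
    rw [hcardD', ← h1] at h2
    exact Nat.eq_of_mul_eq_mul_right Nat.card_pos h2
  have habove : ∀ E : Subgroup ↥K, D' < E → fp X (E.map K.subtype) = fp X (E.map ρ) := by
    intro E hE
    apply fp_map_prodHom hX m hstab
    rw [← hDm, ← hcardD']
    rcases lt_or_eq_of_le (Subgroup.card_le_of_le hE.le) with h | h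
    · exact h
    · exact absurd (Subgroup.eq_of_le_of_card_ge hE.le h.ge) hE.ne
  have hΓ : IsPGroup p (↥S × ↥S) := isPGroup_prod hS
  have hfree : FreePart X K.subtype D' = ∅ := by
    rw [Set.eq_empty_iff_forall_notMem]
    intro z hz
    have hle : D ≤ stabilizer (↥S × ↥S) z := fun d hd =>
      mem_stabilizer_iff.2 ((hz ⟨d, hDK hd⟩).2 (Subgroup.mem_subgroupOf.2 hd))
    have hlt : D < stabilizer (↥S × ↥S) z := by
      refine lt_of_le_of_ne hle (fun h => ?_)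
      have := hXm z
      rw [← h, hDm] at this
      exact lt_irrefl _ this
    obtain ⟨n, hnSt, hnN, hnD⟩ := exists_normalizer_mem hΓ hlt
    exact hnD (Subgroup.mem_subgroupOf.1 ((hz ⟨n, hnN⟩).1 (mem_stabilizer_iff.1 hnSt)))
  have := marks_congr (X := X) K.subtype ρ D' habove hfree
  rwa [e1, e2, hidx] at this

end Cfsg.Agent.Lib.H25.Bis
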