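import Mathlib

set_option autoImplicit false

/-!
Bisets (helper25): coordinates on a right-free `(G, G)`-biset `X` (a `G × G`-set with
`(a, b) • z = a z b⁻¹`): the set `RO X` of right orbits with its left action, a section `rep` of
representatives, the cocycle `hh` with `a · rep k = rep (a • k) · hh a k`, and the bijection
`RO X × G ≃ X`.
-/

namespace Cfsg.Agent.Lib.H25.Bis

variable {G : Type*} [Group G] {X : Type*} [MulAction (G × G) X]

/-- The right action is free. -/
def RFree (G : Type*) [Group G] (X : Type*) [MulAction (G × G) X] : Prop :=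
  ∀ (z : X) (b : G), ((1 : G), b) • z = z → b = 1

/-- Two points in the same right orbit. -/
def rSetoid (G : Type*) [Group G] (X : Type*) [MulAction (G × G) X] : Setoid X where
  r z z' := ∃ b : G, ((1 : G), b) • z = z'
  iseqv :=
    { refl := fun z => ⟨1, by
        show ((1 : G × G)) • z = z
        rw [one_smul]⟩
      symm := by
        rintro z z' ⟨b, rfl⟩
        refine ⟨b⁻¹, ?_⟩
        rw [← mul_smul]
        have : (((1 : G), b⁻¹) : G × G) * ((1 : G), b) = 1 := by
          apply Prod.ext
          · show (1 : G) * 1 = 1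
            rw [mul_one]
          · show b⁻¹ * b = 1
            rw [inv_mul_cancel]
        rw [this, one_smul]
      trans := by
        rintro z z' z'' ⟨b, rfl⟩ ⟨b', rfl⟩
        refine ⟨b' * b, ?_⟩
        rw [← mul_smul]
        congr 1
        apply Prod.ext
        · show (1 : G) = 1 * 1
          rw [mul_one]
        · rfl }

/-- The set of right orbits. -/
def RO (G : Type*) [Group G] (X : Type*) [MulAction (G × G) X] : Type _ := Quotient (rSetoid G X)

/-- The right orbit of a point. -/
def ro (z : X) : RO G X := Quotient.mk (rSetoid G X) z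

theorem ro_eq_iff {z z' : X} : (ro z : RO G X) = ro z' ↔ ∃ b : G, ((1 : G), b) • z = z' :=
  Quotient.eq (r := rSetoid G X)

theorem smul_comm' (a b : G) (z : X) :
    ((a, (1 : G)) : G × G) • (((1 : G), b) : G × G) • z =
      (((1 : G), b) : G × G) • ((a, (1 : G)) : G × G) • z := by
  rw [← mul_smul, ← mul_smul]
  congr 1
  apply Prod.ext
  · show a * 1 = 1 * a
    rw [mul_one, one_mul]
  · show 1 * b = b * 1
    rw [mul_one, one_mul]

theorem pair_smul (a b : G) (z : X) :
    ((a, b) : G × G) • z = (((1 : G), b) : G × G) • ((a, (1 : G)) : G × G) • z := by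
  rw [← mul_smul]
  congr 1
  apply Prod.ext
  · show a = 1 * a
    rw [one_mul]
  · show b = b * 1
    rw [mul_one]

theorem right_mul_smul (b b' : G) (z : X) :
    (((1 : G), b) : G × G) • (((1 : G), b') : G × G) • z = (((1 : G), b * b') : G × G) • z := by
  rw [← mul_smul]
  congr 1
  apply Prod.ext
  · show (1 : G) * 1 = 1
    rw [mul_one]
  · rfl

theorem left_mul_smul (a a' : G) (z : X) :
    ((a, (1 : G)) : G × G) • ((a', (1 : G)) : G × G) • z = ((a * a', (1 : G)) : G × G) • z := by
  rw [← mul_smul]
  congr 1
  apply Prod.ext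
  · rfl
  · show (1 : G) * 1 = 1
    rw [mul_one]

theorem right_one_smul (z : X) : (((1 : G), (1 : G)) : G × G) • z = z := one_smul _ z

/-- The left action on right orbits. -/
instance : MulAction G (RO G X) where
  smul a := Quotient.map' (fun z => ((a, (1 : G)) : G × G) • z) (by
    rintro z z' ⟨b, rfl⟩
    exact ⟨b, (smul_comm' a b z).symm⟩)
  one_smul := by
    intro k
    induction k using Quotient.inductionOn' with
    | h z =>
      show Quotient.mk'' ((((1 : G), (1 : G)) : G × G) • z) = Quotient.mk'' z
      rw [right_one_smul]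
  mul_smul := by
    intro a a' k
    induction k using Quotient.inductionOn' with
    | h z =>
      show Quotient.mk'' (((a * a', (1 : G)) : G × G) • z) =
        Quotient.mk'' (((a, (1 : G)) : G × G) • ((a', (1 : G)) : G × G) • z)
      rw [left_mul_smul]

theorem smul_ro (a : G) (z : X) : a • (ro z : RO G X) = ro (((a, (1 : G)) : G × G) • z) := rfl

theorem ro_right_smul (b : G) (z : X) : (ro ((((1 : G), b) : G × G) • z) : RO G X) = ro z :=
  (ro_eq_iff.2 ⟨b, rfl⟩).symm

theorem ro_pair_smul (a b : G) (z : X) : (ro (((a, b) : G × G) • z) : RO G X) = a • ro z := by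
  rw [pair_smul, ro_right_smul, smul_ro]

section Coord

variable (rep : RO G X → X) (hrep : ∀ k, ro (rep k) = k)

include hrep in
theorem exists_coord (z : X) : ∃ s : G, z = (((1 : G), s⁻¹) : G × G) • rep (ro z) := by
  have h := hrep (ro z)
  obtain ⟨b, hb⟩ := ro_eq_iff.1 h
  exact ⟨b⁻¹, by rw [inv_inv, hb]⟩

/-- The cocycle: `a · rep k = rep (a • k) · hh a k`. -/
noncomputable def hh (a : G) (k : RO G X) : G := by
  classical
  exact if h : ∃ s : G, ((a, (1 : G)) : G × G) • rep k = (((1 : G), s⁻¹) : G × G) • rep (a • k)
    then Classical.choose h else 1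

include hrep in
theorem hh_spec (a : G) (k : RO G X) :
    ((a, (1 : G)) : G × G) • rep k = (((1 : G), (hh rep a k)⁻¹) : G × G) • rep (a • k) := by
  have h : ∃ s : G, ((a, (1 : G)) : G × G) • rep k = (((1 : G), s⁻¹) : G × G) • rep (a • k) := by
    obtain ⟨s, hs⟩ := exists_coord rep hrep (((a, (1 : G)) : G × G) • rep k)
    refine ⟨s, ?_⟩
    rw [← smul_ro, hrep] at hs
    exact hs
  unfold hh
  rw [dif_pos h]
  exact Classical.choose_spec h

/-- The coordinate map. -/
def coord (x : RO G X × G) : X := (((1 : G), x.2⁻¹) : G × G) • rep x.1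

include hrep in
theorem ro_coord (x : RO G X × G) : ro (coord rep x) = x.1 := by
  unfold coord
  rw [ro_right_smul, hrep]

include hrep in
theorem coord_injective (hfree : RFree G X) : Function.Injective (coord rep) := by
  rintro ⟨k, s⟩ ⟨k', s'⟩ h
  have hk : k = k' := by
    have := congrArg (ro (G := G)) h
    rwa [ro_coord rep hrep, ro_coord rep hrep] at this
  subst hk
  unfold coord at h
  have h2 : (((1 : G), s' * s⁻¹) : G × G) • rep k = rep k := by
    have := congrArg (fun z => (((1 : G), s') : G × G) • z) h
    simp only [right_mul_smul] at this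
    rw [this, mul_inv_cancel, right_one_smul]
  have h3 := hfree _ _ h2
  have : s' = s := by
    calc s' = s' * s⁻¹ * s := by group
      _ = s := by rw [h3, one_mul]
  rw [this]

include hrep in
theorem coord_surjective : Function.Surjective (coord rep) := by
  intro z
  obtain ⟨s, hs⟩ := exists_coord rep hrep z
  exact ⟨(ro z, s), hs.symm⟩

include hrep in
/-- The action in coordinates. -/
theorem smul_coord (a b : G) (k : RO G X) (s : G) :
    ((a, b) : G × G) • coord rep (k, s) = coord rep (a • k, hh rep a k * s * b⁻¹) := by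
  unfold coord
  show ((a, b) : G × G) • (((1 : G), s⁻¹) : G × G) • rep k = _
  rw [pair_smul, smul_comm', hh_spec rep hrep, right_mul_smul, right_mul_smul]
  congr 2
  group

include hrep in
/-- The cocycle identity. -/
theorem hh_mul (hfree : RFree G X) (a a' : G) (k : RO G X) :
    hh rep (a * a') k = hh rep a (a' • k) * hh rep a' k := by
  have h1 := smul_coord rep hrep (a * a') 1 k 1
  have h2 : ((a * a', (1 : G)) : G × G) • coord rep (k, (1 : G)) =
      ((a, (1 : G)) : G × G) • ((a', (1 : G)) : G × G) • coord rep (k, (1 : G)) :=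
    (left_mul_smul a a' _).symm
  rw [smul_coord rep hrep a' 1 k 1, smul_coord rep hrep a 1] at h2
  rw [h2] at h1
  have h3 := coord_injective rep hrep hfree h1
  have h4 := congrArg Prod.snd h3
  simp only [mul_one, inv_one] at h4
  exact h4.symm

include hrep in
theorem hh_one (hfree : RFree G X) (k : RO G X) : hh rep 1 k = 1 := by
  have h := hh_mul rep hrep hfree 1 1 k
  rw [one_mul, one_smul] at h
  exact (mul_eq_left.1 h.symm)

include hrep in
theorem card_eq_mul [Finite G] (hfree : RFree G X) :
    Nat.card X = Nat.card (RO G X) * Nat.card G := by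
  rw [← Nat.card_prod]
  exact (Nat.card_congr (Equiv.ofBijective (coord rep)
    ⟨coord_injective rep hrep hfree, coord_surjective rep hrep⟩)).symm

end Coord

instance [Finite X] : Finite (RO G X) := Quotient.finite _

end Cfsg.Agent.Lib.H25.Bis
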