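import Cfsg.Agent.Lib.H25.BisCoord
import Cfsg.Agent.Lib.H25.BisAlg

set_option autoImplicit false

/-!
Bisets (helper25): the transfer of a right-free biset with a degree map to `G / B`: homomorphisms
of `B` invariant under `G` whose transfer vanishes extend, up to the power `|X| / |G|`, to `G`.
-/

namespace Cfsg.Agent.Lib.H25.Bis

variable {G : Type*} [Group G] {X : Type*} [MulAction (G × G) X]

section Deg

variable (B : Subgroup G) [hBn : B.Normal] (deg : X → G ⧸ B)
  (hdeg : ∀ (a b : G) (z : X), deg (((a, b) : G × G) • z) =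
    (a : G ⧸ B) * deg z * ((b : G ⧸ B))⁻¹)

include hdeg in
/-- Representatives of degree one. -/
theorem exists_rep_deg_one :
    ∃ rep : RO G X → X, (∀ k, ro (rep k) = k) ∧ ∀ k, deg (rep k) = 1 := by
  refine ⟨fun k => (((1 : G), Quotient.out (deg (Quotient.out k))) : G × G) • Quotient.out k,
    fun k => ?_, fun k => ?_⟩
  · rw [ro_right_smul]
    exact Quotient.out_eq k
  · rw [hdeg, QuotientGroup.out_eq', QuotientGroup.mk_one, one_mul, mul_inv_cancel]

variable (rep : RO G X → X) (hrep : ∀ k, ro (rep k) = k) (hrep1 : ∀ k, deg (rep k) = 1)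

include hdeg hrep1 in
theorem deg_coord (k : RO G X) (s : G) : deg (coord rep (k, s)) = (s : G ⧸ B) := by
  unfold coord
  rw [hdeg, hrep1, QuotientGroup.mk_one, one_mul, one_mul, QuotientGroup.mk_inv, inv_inv]

include hdeg hrep hrep1 in
theorem hh_mem (a : G) (k : RO G X) : a⁻¹ * hh rep a k ∈ B := by
  have h1 := congrArg deg (smul_coord rep hrep a 1 k 1)
  rw [hdeg, deg_coord B deg hdeg rep hrep1, deg_coord B deg hdeg rep hrep1] at h1
  rw [← QuotientGroup.eq]
  simpa using h1

end Deg

/-- The map induced on right orbits by an equivalence commuting with the right action. -/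
def roMap (e : X ≃ X)
    (he : ∀ (s : G) (z : X), e ((((1 : G), s) : G × G) • z) = (((1 : G), s) : G × G) • e z) :
    RO G X ≃ RO G X where
  toFun := Quotient.map' e (by
    rintro z z' ⟨b, rfl⟩
    exact ⟨b, (he b z).symm⟩)
  invFun := Quotient.map' e.symm (by
    rintro z z' ⟨b, rfl⟩
    refine ⟨b, ?_⟩
    apply e.injective
    rw [he]
    simp)
  left_inv := by
    intro k
    induction k using Quotient.inductionOn' with
    | h z =>
      show Quotient.mk'' (e.symm (e z)) = Quotient.mk'' z
      rw [Equiv.symm_apply_apply]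
  right_inv := by
    intro k
    induction k using Quotient.inductionOn' with
    | h z =>
      show Quotient.mk'' (e (e.symm z)) = Quotient.mk'' z
      rw [Equiv.apply_symm_apply]

theorem roMap_ro (e : X ≃ X)
    (he : ∀ (s : G) (z : X), e ((((1 : G), s) : G × G) • z) = (((1 : G), s) : G × G) • e z)
    (z : X) : roMap e he (ro z) = ro (e z) := rfl

section Stable

variable (rep : RO G X → X) (hrep : ∀ k, ro (rep k) = k)

include hrep in
/-- The stability data of the cocycle given by an equivalence twisting the left action. -/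
theorem exists_stable_data (hfree : RFree G X) (U : Subgroup G) (f : G → G) (hf1 : f 1 = 1)
    (e : X ≃ X) (he : ∀ v ∈ U, ∀ (s : G) (z : X),
      e (((v, s) : G × G) • z) = ((f v, s) : G × G) • e z) :
    ∃ (ebar : RO G X ≃ RO G X) (c : RO G X → G), ∀ u ∈ U, ∀ k,
      hh rep (f u) (ebar k) * c k = c (u • k) * hh rep u k := by
  have he1 : ∀ (s : G) (z : X),
      e ((((1 : G), s) : G × G) • z) = (((1 : G), s) : G × G) • e z := by
    intro s z
    have := he 1 U.one_mem s z
    rwa [hf1] at this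
  have hex : ∀ k, ∃ s : G, e (rep k) = coord rep (roMap e he1 k, s) := by
    intro k
    obtain ⟨⟨k', s⟩, hks⟩ := coord_surjective rep hrep (e (rep k))
    have : k' = roMap e he1 k := by
      have h1 : ro (coord rep (k', s)) = k' := ro_coord rep hrep (k', s)
      rw [hks] at h1
      rw [← h1, ← roMap_ro e he1, hrep]
    rw [this] at hks
    exact ⟨s, hks.symm⟩
  choose c hc using hex
  refine ⟨roMap e he1, c, fun u hu k => ?_⟩
  have hrepk : ∀ k, rep k = coord rep (k, (1 : G)) := by
    intro k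
    unfold coord
    show rep k = (((1 : G), (1 : G)⁻¹) : G × G) • rep k
    rw [inv_one, right_one_smul]
  -- route 1
  have r1 : e (((u, (1 : G)) : G × G) • rep k) =
      coord rep (roMap e he1 (u • k), c (u • k) * hh rep u k) := by
    rw [hrepk k, smul_coord rep hrep u 1 k 1]
    have e1 : coord rep (u • k, hh rep u k * 1 * (1 : G)⁻¹) =
        (((1 : G), (hh rep u k)⁻¹) : G × G) • rep (u • k) := by
      unfold coord
      simp
    rw [e1, he1, hc, smul_coord rep hrep 1 _ _ _, hh_one rep hrep hfree, one_smul, one_mul, inv_inv]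
  -- route 2
  have r2 : e (((u, (1 : G)) : G × G) • rep k) =
      coord rep (f u • roMap e he1 k, hh rep (f u) (roMap e he1 k) * c k) := by
    rw [he u hu, hc, smul_coord rep hrep (f u) 1 _ _, inv_one, mul_one]
  rw [r1] at r2
  have h3 := coord_injective rep hrep hfree r2
  exact (congrArg Prod.snd h3).symm

end Stable

/-- **The transfer theorem** for a right-free biset with a degree map. -/
theorem exists_transfer [Finite G] [Finite X] (hfree : RFree G X)
    (B : Subgroup G) [hBn : B.Normal] (deg : X → G ⧸ B)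
    (hdeg : ∀ (a b : G) (z : X), deg (((a, b) : G × G) • z) =
      (a : G ⧸ B) * deg z * ((b : G ⧸ B))⁻¹)
    {W : Type*} [CommGroup W] (t : G → W)
    (ht_mul : ∀ x ∈ B, ∀ y ∈ B, t (x * y) = t x * t y)
    (ht_conj : ∀ (a : G), ∀ x ∈ B, t (a * x * a⁻¹) = t x)
    (gens : Set G) (hgB : gens ⊆ B) (hBg : B ≤ Subgroup.closure gens)
    (hgens : ∀ y ∈ gens, ∃ (U : Subgroup G) (f : G → G) (u : G), u ∈ U ∧ y = u⁻¹ * f u ∧ U ≤ B ∧
      (∀ v ∈ U, f v ∈ B) ∧ f 1 = 1 ∧
      ∃ e : X ≃ X, ∀ v ∈ U, ∀ (s : G) (z : X),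
        e (((v, s) : G × G) • z) = ((f v, s) : G × G) • e z) :
    ∃ (g : G →* W) (n : ℕ), Nat.card X = n * Nat.card G ∧ ∀ b ∈ B, g b = ((t b) ^ n)⁻¹ := by
  classical
  obtain ⟨rep, hrep, hrep1⟩ := exists_rep_deg_one B deg hdeg
  haveI : Fintype (RO G X) := Fintype.ofFinite _
  have hmul := hh_mul rep hrep hfree
  have hB := hh_mem B deg hdeg rep hrep hrep1
  have hτ : ∀ b ∈ B, tau (hh rep) t b = 1 := by
    apply tau_eq_one_of_gens (hh rep) hmul B hB t ht_mul gens hgB hBg
    intro y hy
    obtain ⟨U, f, u, hu, rfl, hUB, hfB, hf1, e, he⟩ := hgens y hy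
    obtain ⟨ebar, c, hc⟩ := exists_stable_data rep hrep hfree U f hf1 e he
    have h1 := tau_eq_of_stable (hh rep) B hB t ht_mul ht_conj (hUB hu) (hfB u hu) ebar c (hc u hu)
    have h2 := tau_mul (hh rep) hmul B hB t ht_mul (hUB hu) (hgB hy)
    rw [mul_inv_cancel_left, h1] at h2
    exact (mul_eq_left.1 h2.symm)
  obtain ⟨g, hg⟩ := exists_hom_of_tau_eq_one (hh rep) hmul B hB t ht_mul ht_conj hτ
  refine ⟨g, Fintype.card (RO G X), ?_, hg⟩
  rw [card_eq_mul rep hrep hfree, Nat.card_eq_fintype_card]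

end Cfsg.Agent.Lib.H25.Bis
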