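import Cfsg.Agent.Lib.H25.PPNormal
import Cfsg.Prelude.Def_FusionReduction

set_option autoImplicit false
set_option linter.unusedSectionVars false

/-!
Residual limits (helper25): a subsystem of `p`-power index has the same hyperfocal subgroup, the
residual limit is unique, and a normal subsystem of `p`-power index has the same residual limit.
-/

namespace Cfsg.Agent.Lib.H25.PP

open Cfsg Cfsg.FusionSystem Cfsg.Agent.Lib.H25 Cfsg.Agent.Lib.H26.Nil

variable {Ω : Type*} [Group Ω] {S : Subgroup Ω}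

/-- Isomorphisms of `F` map the parts in a strongly closed subgroup onto each other. -/
theorem IsIso.inf_of_stronglyClosed {F : FusionSystem S} {T : Subgroup Ω} (hsc : F.StronglyClosed T)
    {P Q : Subgroup Ω} {f : Ω → Ω} (hf : IsIso F P Q f) : IsIso F (P ⊓ T) (Q ⊓ T) f := by
  have key : ∀ {A B : Subgroup Ω} {k : Ω → Ω}, IsIso F A B k → ∀ x ∈ A ⊓ T, k x ∈ T := by
    intro A B k hk x hx
    obtain ⟨B', -, hB', -⟩ := hk.restrict (inf_le_left : A ⊓ T ≤ A)
    obtain ⟨φ, hφ, hφk, -⟩ := hB'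
    have := hsc.2 (A ⊓ T) inf_le_right φ hφ ⟨x, hx⟩
    rwa [hφk] at this
  refine hf.restrict' inf_le_left (fun x hx => ⟨hf.map_mem hx.1, key hf x hx⟩) (fun y hy => ?_)
  obtain ⟨x, hx, rfl⟩ := hf.surjOn hy.1
  obtain ⟨k, hk, hk1, -⟩ := hf.symm
  have := key hk (f x) hy
  rw [hk1 x hx] at this
  exact ⟨x, ⟨hx, this⟩, rfl⟩

/-- The hyperfocal subgroup of `F` lies in that of any subsystem of `p`-power index over a
strongly closed subgroup. -/
theorem hyp_le_of_ppower [Finite S] {p : ℕ} [hp : Fact p.Prime] (hS : IsPGroup p S)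
    {F : FusionSystem S} {T : Subgroup Ω} {E : FusionSystem T} (hsc : F.StronglyClosed T)
    (hEi : E.HasPPowerIndexIn F p) : F.hyperfocalSubgroup p ≤ E.hyperfocalSubgroup p := by
  have hTS := hsc.1
  have key : ∀ (P : Subgroup Ω), P ≤ S → ∀ f, QAut F p P f → ∀ x ∈ P,
      x⁻¹ * f x ∈ E.hyperfocalSubgroup p := by
    intro P hP f hf x hx
    have hf' := hf
    obtain ⟨hiso, n, hn, hfn⟩ := hf
    have hiso₀ : IsIso F (P ⊓ T) (P ⊓ T) f := IsIso.inf_of_stronglyClosed hsc hiso
    have hq₀ : QAut F p (P ⊓ T) f := ⟨hiso₀, n, hn, fun y hy => hfn y hy.1⟩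
    have hqE : QAut E p (P ⊓ T) f :=
      ⟨hq₀.isIso_of_ppower hEi inf_le_right, n, hn, fun y hy => hfn y hy.1⟩
    have hA : ∀ y ∈ P ⊓ T, y⁻¹ * f y ∈ E.hyperfocalSubgroup p := fun y hy => hqE.inv_mul_mem_hyp hy
    have ht1 : x⁻¹ * f x ∈ P ⊓ T :=
      ⟨P.mul_mem (P.inv_mem hx) (hiso.map_mem hx), hEi.2.1 (hf'.inv_mul_mem_hyp hx)⟩
    have claim : ∀ i : ℕ, f^[i] x ∈ P ∧ x⁻¹ * f^[i] x ∈ P ⊓ T ∧
        ∃ a ∈ E.hyperfocalSubgroup p, x⁻¹ * f^[i] x = (x⁻¹ * f x) ^ i * a := by
      intro i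
      induction i with
      | zero =>
        refine ⟨hx, ?_, 1, Subgroup.one_mem _, ?_⟩
        · simp only [Function.iterate_zero, id_eq, inv_mul_cancel]
          exact Subgroup.one_mem _
        · simp
      | succ i ih =>
        obtain ⟨h1, h2, a, ha, hia⟩ := ih
        rw [Function.iterate_succ_apply']
        have h3 : f (f^[i] x) ∈ P := hiso.map_mem h1
        have e1 : x⁻¹ * f (f^[i] x) = (x⁻¹ * f x) * f (x⁻¹ * f^[i] x) := by
          rw [hiso.map_mul (P.inv_mem hx) h1, hiso.map_inv hx]; group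
        have e2 : f (x⁻¹ * f^[i] x) =
            (x⁻¹ * f^[i] x) * ((x⁻¹ * f^[i] x)⁻¹ * f (x⁻¹ * f^[i] x)) := by group
        refine ⟨h3, ?_, a * ((x⁻¹ * f^[i] x)⁻¹ * f (x⁻¹ * f^[i] x)),
          Subgroup.mul_mem _ ha (hA _ h2), ?_⟩
        · rw [e1]; exact Subgroup.mul_mem _ ht1 (hiso₀.map_mem h2)
        · rw [e1]
          conv_lhs => rw [e2]
          rw [hia, pow_succ']
          simp only [mul_assoc]
    obtain ⟨-, -, a, ha, hna⟩ := claim n
    rw [hfn x hx, inv_mul_cancel] at hna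
    have htn : (x⁻¹ * f x) ^ n ∈ E.hyperfocalSubgroup p := by
      have : (x⁻¹ * f x) ^ n = a⁻¹ := eq_inv_of_mul_eq_one_left hna.symm
      rw [this]
      exact Subgroup.inv_mem _ ha
    -- `x⁻¹ f(x)` is a `p`-element
    obtain ⟨k, hk⟩ := hS ⟨x⁻¹ * f x, hTS ht1.2⟩
    have hk' : (x⁻¹ * f x) ^ (p ^ k) = 1 := by
      have := congrArg Subtype.val hk
      simpa using this
    have hcop : Nat.Coprime n (p ^ k) := Nat.Coprime.pow_right k hn
    have hbez : (n : ℤ) * Nat.gcdA n (p ^ k) + ((p ^ k : ℕ) : ℤ) * Nat.gcdB n (p ^ k) = 1 := by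
      have := Nat.gcd_eq_gcd_ab n (p ^ k)
      rw [hcop.gcd_eq_one] at this
      exact_mod_cast this.symm
    have e3 : x⁻¹ * f x = ((x⁻¹ * f x) ^ n) ^ (Nat.gcdA n (p ^ k)) := by
      have h1 : (x⁻¹ * f x) ^ ((n : ℤ) * Nat.gcdA n (p ^ k) +
          ((p ^ k : ℕ) : ℤ) * Nat.gcdB n (p ^ k)) = x⁻¹ * f x := by
        rw [hbez, zpow_one]
      rw [zpow_add, zpow_mul, zpow_mul, zpow_natCast, zpow_natCast, hk', one_zpow, mul_one] at h1
      exact h1.symm
    rw [e3]
    exact Subgroup.zpow_mem _ htn _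
  have hle : ∀ y ∈ {y : Ω | ∃ (P : Subgroup Ω) (α : F.autGroup P) (x : P), P ≤ S ∧
      α ∈ pResidual p (F.autGroup P) ∧ y = (x : Ω)⁻¹ * ((α : MulAut P) x : P)},
      y ∈ E.hyperfocalSubgroup p := by
    rintro _ ⟨P, α, x, hP, hα, rfl⟩
    have : ∀ β ∈ pResidual p (F.autGroup P), ∀ x : P,
        (x : Ω)⁻¹ * (((β : MulAut P) x : P) : Ω) ∈ E.hyperfocalSubgroup p := by
      intro β hβ
      induction hβ using Subgroup.closure_induction with
      | mem β hβ =>
        intro x
        have hord : (orderOf (β : MulAut P)).Coprime p := by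
          rw [Subgroup.orderOf_coe]; exact hβ
        have hq := qAut_of_orderOf (p := p) hP β.2 hord
        have := key P hP _ hq x x.2
        rwa [aut1_apply] at this
      | one =>
        intro x
        simp only [OneMemClass.coe_one, MulAut.one_apply, inv_mul_cancel]
        exact Subgroup.one_mem _
      | mul β γ _ _ ihβ ihγ =>
        intro x
        have e : (x : Ω)⁻¹ * ((((β * γ : F.autGroup P) : MulAut P) x : P) : Ω) =
            ((x : Ω)⁻¹ * (((γ : MulAut P) x : P) : Ω)) *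
              ((((γ : MulAut P) x : P) : Ω)⁻¹ *
                (((β : MulAut P) ((γ : MulAut P) x) : P) : Ω)) := by
          simp only [Subgroup.coe_mul, MulAut.mul_apply]; group
        rw [e]
        exact Subgroup.mul_mem _ (ihγ x) (ihβ _)
      | inv β _ ih =>
        intro x
        have h := ih ((β : MulAut P)⁻¹ x)
        have e : (x : Ω)⁻¹ * ((((β⁻¹ : F.autGroup P) : MulAut P) x : P) : Ω) =
            ((((β : MulAut P)⁻¹ x : P) : Ω)⁻¹ *
              (((β : MulAut P) ((β : MulAut P)⁻¹ x) : P) : Ω))⁻¹ := by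
          simp
        rw [e]
        exact Subgroup.inv_mem _ h
    exact this α hα x
  exact (Subgroup.closure_le _).2 hle

/-- Systems over possibly different subgroups with the same maps. -/
def HomEq {S₁ S₂ : Subgroup Ω} (F₁ : FusionSystem S₁) (F₂ : FusionSystem S₂) : Prop :=
  S₁ = S₂ ∧ ∀ P : Subgroup Ω, F₁.Hom P = F₂.Hom P

namespace HomEq

variable {S₁ S₂ S₃ : Subgroup Ω} {F₁ : FusionSystem S₁} {F₂ : FusionSystem S₂}
  {F₃ : FusionSystem S₃}

theorem refl (F : FusionSystem S) : HomEq F F := ⟨rfl, fun _ => rfl⟩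

theorem symm (h : HomEq F₁ F₂) : HomEq F₂ F₁ := ⟨h.1.symm, fun P => (h.2 P).symm⟩

theorem trans (h : HomEq F₁ F₂) (h' : HomEq F₂ F₃) : HomEq F₁ F₃ :=
  ⟨h.1.trans h'.1, fun P => (h.2 P).trans (h'.2 P)⟩

theorem of_eq {F F' : FusionSystem S} (h : F = F') : HomEq F F' := h ▸ refl F

end HomEq

/-- Uniqueness of the saturated subsystem of `p`-power index, over propositionally equal
subgroups. -/
theorem sat_ppower_homEq [Finite S] {p : ℕ} [Fact p.Prime] (hS : IsPGroup p S)
    {F : FusionSystem S} {T T' : Subgroup Ω} (hTS : T ≤ S) (hTT' : T = T') {E : FusionSystem T}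
    {E' : FusionSystem T'} (hE : E.IsSaturated p) (hEi : E.HasPPowerIndexIn F p)
    (hE' : E'.IsSaturated p) (hE'i : E'.HasPPowerIndexIn F p) : HomEq E E' := by
  subst hTT'
  exact HomEq.of_eq (sat_ppower_unique hS hTS hE' hE'i hE hEi)

/-- Two `p'`-residual subsystems of the same system are equal. -/
theorem pPrimeResidual_unique {p : ℕ} {F D D' : FusionSystem S} (h : F.IsPPrimeResidual p D)
    (h' : F.IsPPrimeResidual p D') : D = D' :=
  fusionSystem_ext (fun P => Set.Subset.antisymm (h.2.2 D' h'.1 h'.2.1 P) (h'.2.2 D h.1 h.2.1 P))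

/-- Residual limits can be transported along equality of maps. -/
theorem limit_of_homEq {p : ℕ} {T S₁ S₂ : Subgroup Ω} {L : FusionSystem T}
    {F₁ : FusionSystem S₁} {F₂ : FusionSystem S₂} (h : L.IsResidualLimitOf F₁ p)
    (he : HomEq F₁ F₂) : L.IsResidualLimitOf F₂ p := by
  obtain ⟨rfl, he⟩ := he
  have := fusionSystem_ext he
  subst this
  exact h

/-- The `p'`-residual subsystems of systems with the same maps have the same maps. -/
theorem pPrimeResidual_homEq {p : ℕ} {S₁ S₂ : Subgroup Ω} {D₁ D₁' : FusionSystem S₁}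
    {D₂ D₂' : FusionSystem S₂} (h : HomEq D₁ D₂) (h1 : D₁.IsPPrimeResidual p D₁')
    (h2 : D₂.IsPPrimeResidual p D₂') : HomEq D₁' D₂' := by
  obtain ⟨rfl, he⟩ := h
  have := fusionSystem_ext he
  subst this
  exact HomEq.of_eq (pPrimeResidual_unique h1 h2)

/-- A system that is its own `p`-residual and `p'`-residual subsystem. -/
def Stable {S : Subgroup Ω} (F : FusionSystem S) (p : ℕ) : Prop :=
  F.hyperfocalSubgroup p = S ∧ F.IsPPrimeResidual p F

theorem Stable.of_homEq {p : ℕ} {S₁ S₂ : Subgroup Ω} {F₁ : FusionSystem S₁}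
    {F₂ : FusionSystem S₂} (h : Stable F₂ p) (he : HomEq F₁ F₂) : Stable F₁ p := by
  obtain ⟨rfl, he⟩ := he
  have := fusionSystem_ext he
  subst this
  exact h

/-- Every residual limit of a stable system is the system. -/
theorem homEq_of_stable' {p : ℕ} {T S' : Subgroup Ω} {L : FusionSystem T}
    {F : FusionSystem S'} (h : L.IsResidualLimitOf F p) :
    Fact p.Prime → Finite S' → IsPGroup p S' → Stable F p → HomEq L F := by
  induction h with
  | stable F p _ _ => intro _ _ _ _; exact HomEq.refl F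
  | @step S' L F p D D' hD hD' hlim ih =>
    intro hp hfin hS hst
    haveI := hfin
    haveI := hp
    have hle : F.hyperfocalSubgroup p ≤ S' := hyperfocal_le F p
    have hDF : HomEq D F :=
      sat_ppower_homEq hS hle hst.1 hD.1 hD.2 hst.2.1 (hasPPowerIndexIn_self F p)
    have hstD : Stable D p := hst.of_homEq hDF
    have hD'D : D' = D := pPrimeResidual_unique hD' hstD.2
    have hstD' : Stable D' p := hD'D ▸ hstD
    have h1 := ih hp (finite_of_le S' hle) (hS.to_le hle) hstD'
    exact h1.trans ((HomEq.of_eq hD'D).trans hDF)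

theorem homEq_of_stable {p : ℕ} [hp : Fact p.Prime] {T S' : Subgroup Ω} {L : FusionSystem T}
    {F : FusionSystem S'} (h : L.IsResidualLimitOf F p) (hfin : Finite S') (hS : IsPGroup p S')
    (hst : Stable F p) : HomEq L F := homEq_of_stable' h hp hfin hS hst

/-- **Uniqueness of the residual limit.** -/
theorem residualLimit_unique' {p : ℕ} {T₁ S' : Subgroup Ω} {L₁ : FusionSystem T₁}
    {F : FusionSystem S'} (h₁ : L₁.IsResidualLimitOf F p) :
    Fact p.Prime → Finite S' → IsPGroup p S' → ∀ {T₂ : Subgroup Ω} {L₂ : FusionSystem T₂},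
      L₂.IsResidualLimitOf F p → HomEq L₁ L₂ := by
  induction h₁ with
  | stable F p h1 h2 =>
    intro hp hfin hS T₂ L₂ h₂
    haveI := hp
    exact (homEq_of_stable h₂ hfin hS ⟨h1, h2⟩).symm
  | @step S' L F p D D' hD hD' hlim ih =>
    intro hp hfin hS T₂ L₂ h₂
    haveI := hfin
    haveI := hp
    have hle : F.hyperfocalSubgroup p ≤ S' := hyperfocal_le F p
    cases h₂ with
    | stable _ _ h1 h2 =>
      exact homEq_of_stable (IsResidualLimitOf.step F p D D' hD hD' hlim) hfin hS ⟨h1, h2⟩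
    | step _ _ D₂ D₂' hD₂ hD₂' hlim₂ =>
      have e1 : D₂ = D := sat_ppower_unique hS hle hD.1 hD.2 hD₂.1 hD₂.2
      subst e1
      have e2 : D₂' = D' := pPrimeResidual_unique hD₂' hD'
      subst e2
      exact ih hp (finite_of_le S' hle) (hS.to_le hle) hlim₂

theorem residualLimit_unique {p : ℕ} [hp : Fact p.Prime] {T₁ S' : Subgroup Ω}
    {L₁ : FusionSystem T₁} {F : FusionSystem S'} (h₁ : L₁.IsResidualLimitOf F p)
    (hfin : Finite S') (hS : IsPGroup p S') {T₂ : Subgroup Ω} {L₂ : FusionSystem T₂}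
    (h₂ : L₂.IsResidualLimitOf F p) : HomEq L₁ L₂ := residualLimit_unique' h₁ hp hfin hS h₂

/-- **A normal subsystem of `p`-power index has the same residual limit.** -/
theorem residualLimit_ppower [Finite S] {p : ℕ} [Fact p.Prime] (hS : IsPGroup p S)
    {F : FusionSystem S} {T : Subgroup Ω} {E : FusionSystem T} (hEsat : E.IsSaturated p)
    (hsc : F.StronglyClosed T) (hidx : E.HasPPowerIndexIn F p) {U V : Subgroup Ω}
    {Finf : FusionSystem U} (hFinf : Finf.IsResidualLimitOf F p) {Einf : FusionSystem V}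
    (hEinf : Einf.IsResidualLimitOf E p) : HomEq Finf Einf := by
  have hTS : T ≤ S := hsc.1
  haveI hfinT : Finite T := finite_of_le S hTS
  have hTp : IsPGroup p T := hS.to_le hTS
  have hhyp : E.hyperfocalSubgroup p = F.hyperfocalSubgroup p :=
    le_antisymm (hyp_mono p hTS hidx.1) (hyp_le_of_ppower hS hsc hidx)
  -- it suffices to see `Einf` as a residual limit of `F`
  suffices h : Einf.IsResidualLimitOf F p from residualLimit_unique hFinf inferInstance hS h
  have hleF : F.hyperfocalSubgroup p ≤ S := hyperfocal_le F p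
  have hleE : E.hyperfocalSubgroup p ≤ T := hyperfocal_le E p
  cases hFinf with
  | stable _ _ h1 h2 =>
    -- `T = S` and `E = F`
    have hTS' : T = S := le_antisymm hTS (h1 ▸ hidx.2.1)
    have hEF : HomEq E F :=
      sat_ppower_homEq hS hTS hTS' hEsat hidx h2.1 (hasPPowerIndexIn_self F p)
    exact limit_of_homEq hEinf hEF
  | step _ _ D D' hD hD' hlim =>
    cases hEinf with
    | stable _ _ h1 h2 =>
      -- `E` is the `p`-residual of `F`
      have hT : T = F.hyperfocalSubgroup p := by rw [← hhyp, h1]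
      have hED : HomEq E D := sat_ppower_homEq hS hTS hT hEsat hidx hD.1 hD.2
      have hstD : Stable D p := Stable.of_homEq ⟨h1, h2⟩ hED.symm
      have hD'D : D' = D := pPrimeResidual_unique hD' hstD.2
      have hE_lim : E.IsResidualLimitOf D' p :=
        limit_of_homEq (IsResidualLimitOf.stable E p h1 h2) (hED.trans (HomEq.of_eq hD'D.symm))
      exact IsResidualLimitOf.step F p D D' hD hD' hE_lim
    | step _ _ DE DE' hDE hDE' hlimE =>
      have hDEF : DE.HasPPowerIndexIn F p :=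
        hasPPowerIndexIn_trans hleE hidx hDE.2 (hhyp ▸ le_rfl)
      have hDED : HomEq DE D :=
        sat_ppower_homEq hS (hleE.trans hTS) hhyp hDE.1 hDEF hD.1 hD.2
      -- transport the `p'`-residual
      have hDE'D' : HomEq DE' D' := pPrimeResidual_homEq hDED hDE' hD'
      exact IsResidualLimitOf.step F p D D' hD hD' (limit_of_homEq hlimE hDE'D')

end Cfsg.Agent.Lib.H25.PP
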