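import Cfsg.Agent.Lib.H25.BisStable
import Cfsg.Agent.Lib.H25.BisTransfer
import Cfsg.Agent.Lib.H25.PPResLimit

set_option autoImplicit false

/-!
Bisets for fusion systems (helper25): in a saturated fusion system, a homomorphism of the
hyperfocal subgroup to a commutative group that is invariant under `S` extends to `S`, up to a
power prime to `p` (transfer through a characteristic biset).
-/

namespace Cfsg.Agent.Lib.H25.Bis

open Cfsg Cfsg.FusionSystem Cfsg.Agent.Lib.H25 Cfsg.Agent.Lib.H25.GSet Cfsg.Agent.Lib.H25.PP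
open MulAction

variable {Ω : Type*} [Group Ω] {S : Subgroup Ω} {F : FusionSystem S}

/-- The hyperfocal subgroup is generated by the elements `u⁻¹ f(u)` for the automorphisms `f`, of
order prime to `p`, of its own subgroups. -/
theorem hyp_le_of_qAut_gens [Finite S] {p : ℕ} [hp : Fact p.Prime] (hS : IsPGroup p S)
    (hF : F.IsSaturated p) (A : Subgroup Ω)
    (hA : ∀ (U : Subgroup Ω) (f : Ω → Ω), U ≤ F.hyperfocalSubgroup p → QAut F p U f →
      ∀ u ∈ U, u⁻¹ * f u ∈ A) : F.hyperfocalSubgroup p ≤ A := by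
  set T := F.hyperfocalSubgroup p with hT
  have hTS : T ≤ S := hyperfocal_le F p
  have hTn : ∀ g ∈ S, ∀ x ∈ T, g * x * g⁻¹ ∈ T := fun g hg x hx => hyperfocal_conj_mem F p hg hx
  have hsc : F.StronglyClosed T := stronglyClosed_of_hyp_le hS hF hTS hTn le_rfl
  have key : ∀ (P : Subgroup Ω), P ≤ S → ∀ f, QAut F p P f → ∀ x ∈ P, x⁻¹ * f x ∈ A := by
    intro P hP f hf x hx
    have hf' := hf
    obtain ⟨hiso, n, hn, hfn⟩ := hf
    have hiso₀ : IsIso F (P ⊓ T) (P ⊓ T) f := IsIso.inf_of_stronglyClosed hsc hiso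
    have hq₀ : QAut F p (P ⊓ T) f := ⟨hiso₀, n, hn, fun y hy => hfn y hy.1⟩
    have hA' : ∀ y ∈ P ⊓ T, y⁻¹ * f y ∈ A := fun y hy => hA (P ⊓ T) f inf_le_right hq₀ y hy
    have ht1 : x⁻¹ * f x ∈ P ⊓ T :=
      ⟨P.mul_mem (P.inv_mem hx) (hiso.map_mem hx), hf'.inv_mul_mem_hyp hx⟩
    have claim : ∀ i : ℕ, f^[i] x ∈ P ∧ x⁻¹ * f^[i] x ∈ P ⊓ T ∧
        ∃ a ∈ A, x⁻¹ * f^[i] x = (x⁻¹ * f x) ^ i * a := by
      intro i
      induction i with
      | zero =>
        refine ⟨hx, ?_, 1, Subgroup.one_mem _, ?_⟩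
        · simp only [Function.iterate_zero, id_eq, inv_mul_cancel]
          exact Subgroup.one_mem _
        · simp
      | succ i ih =>
        obtain ⟨h1, h2, a, ha, hia⟩ := ih
        rw [Function.iterate_succ_apply']
        have h3 : f (f^[i] x) ∈ P := hiso.map_mem h1
        have e1 : x⁻¹ * f (f^[i] x) = (x⁻¹ * f x) * f (x⁻¹ * f^[i] x) := by
          rw [hiso.map_mul (P.inv_mem hx) h1, hiso.map_inv hx]; group
        have e2 : f (x⁻¹ * f^[i] x) =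
            (x⁻¹ * f^[i] x) * ((x⁻¹ * f^[i] x)⁻¹ * f (x⁻¹ * f^[i] x)) := by group
        refine ⟨h3, ?_, a * ((x⁻¹ * f^[i] x)⁻¹ * f (x⁻¹ * f^[i] x)),
          Subgroup.mul_mem _ ha (hA' _ h2), ?_⟩
        · rw [e1]; exact Subgroup.mul_mem _ ht1 (hiso₀.map_mem h2)
        · rw [e1]
          conv_lhs => rw [e2]
          rw [hia, pow_succ']
          simp only [mul_assoc]
    obtain ⟨-, -, a, ha, hna⟩ := claim n
    rw [hfn x hx, inv_mul_cancel] at hna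
    have htn : (x⁻¹ * f x) ^ n ∈ A := by
      have : (x⁻¹ * f x) ^ n = a⁻¹ := eq_inv_of_mul_eq_one_left hna.symm
      rw [this]
      exact Subgroup.inv_mem _ ha
    obtain ⟨k, hk⟩ := hS ⟨x⁻¹ * f x, hTS ht1.2⟩
    have hk' : (x⁻¹ * f x) ^ (p ^ k) = 1 := by
      have := congrArg Subtype.val hk
      simpa using this
    have hcop : Nat.Coprime n (p ^ k) := Nat.Coprime.pow_right k hn
    have hbez : (n : ℤ) * Nat.gcdA n (p ^ k) + ((p ^ k : ℕ) : ℤ) * Nat.gcdB n (p ^ k) = 1 := by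
      have := Nat.gcd_eq_gcd_ab n (p ^ k)
      rw [hcop.gcd_eq_one] at this
      exact_mod_cast this.symm
    have e3 : x⁻¹ * f x = ((x⁻¹ * f x) ^ n) ^ (Nat.gcdA n (p ^ k)) := by
      have h1 : (x⁻¹ * f x) ^ ((n : ℤ) * Nat.gcdA n (p ^ k) +
          ((p ^ k : ℕ) : ℤ) * Nat.gcdB n (p ^ k)) = x⁻¹ * f x := by
        rw [hbez, zpow_one]
      rw [zpow_add, zpow_mul, zpow_mul, zpow_natCast, zpow_natCast, hk', one_zpow, mul_one] at h1
      exact h1.symm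
    rw [e3]
    exact Subgroup.zpow_mem _ htn _
  have hle : ∀ y ∈ {y : Ω | ∃ (P : Subgroup Ω) (α : F.autGroup P) (x : P), P ≤ S ∧
      α ∈ pResidual p (F.autGroup P) ∧ y = (x : Ω)⁻¹ * ((α : MulAut P) x : P)}, y ∈ A := by
    rintro _ ⟨P, α, x, hP, hα, rfl⟩
    have : ∀ β ∈ pResidual p (F.autGroup P), ∀ x : P,
        (x : Ω)⁻¹ * (((β : MulAut P) x : P) : Ω) ∈ A := by
      intro β hβ
      induction hβ using Subgroup.closure_induction with
      | mem β hβ =>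
        intro x
        have hord : (orderOf (β : MulAut P)).Coprime p := by
          rw [Subgroup.orderOf_coe]; exact hβ
        have hq := qAut_of_orderOf (p := p) hP β.2 hord
        have := key P hP _ hq x x.2
        rwa [aut1_apply] at this
      | one =>
        intro x
        simp only [OneMemClass.coe_one, MulAut.one_apply, inv_mul_cancel]
        exact Subgroup.one_mem _
      | mul β γ _ _ ihβ ihγ =>
        intro x
        have e : (x : Ω)⁻¹ * ((((β * γ : F.autGroup P) : MulAut P) x : P) : Ω) =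
            ((x : Ω)⁻¹ * (((γ : MulAut P) x : P) : Ω)) *
              ((((γ : MulAut P) x : P) : Ω)⁻¹ *
                (((β : MulAut P) ((γ : MulAut P) x) : P) : Ω)) := by
          simp only [Subgroup.coe_mul, MulAut.mul_apply]; group
        rw [e]
        exact Subgroup.mul_mem _ (ihγ x) (ihβ _)
      | inv β _ ih =>
        intro x
        have h := ih ((β : MulAut P)⁻¹ x)
        have e : (x : Ω)⁻¹ * ((((β⁻¹ : F.autGroup P) : MulAut P) x : P) : Ω) =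
            ((((β : MulAut P)⁻¹ x : P) : Ω)⁻¹ *
              (((β : MulAut P) ((β : MulAut P)⁻¹ x) : P) : Ω))⁻¹ := by
          simp
        rw [e]
        exact Subgroup.inv_mem _ h
    exact this α hα x
  exact (Subgroup.closure_le _).2 hle

/-- The right action on a set with twisted diagonal stabilizers is free. -/
theorem rFree_of_fType {X : Type*} [MulAction (↥S × ↥S) X]
    (hX : ∀ z : X, FType F (stabilizer (↥S × ↥S) z)) : RFree ↥S X := by
  intro z b hb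
  obtain ⟨P, Q, f, hf, hg⟩ := hX z
  have h1 := (hg _).1 (mem_stabilizer_iff.2 hb)
  apply Subtype.ext
  have h2 : (b : Ω) = f ((1 : ↥S) : Ω) := h1.2
  rw [h2, Subgroup.coe_one, hf.map_one]


/-- The hyperfocal subgroup, as a subgroup of `S`. -/
abbrev hypS (F : FusionSystem S) (p : ℕ) : Subgroup ↥S := (F.hyperfocalSubgroup p).subgroupOf S

instance hypS_normal (F : FusionSystem S) (p : ℕ) : (hypS F p).Normal :=
  ⟨fun n hn g => by
    rw [Subgroup.mem_subgroupOf] at hn ⊢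
    exact hyperfocal_conj_mem F p g.2 hn⟩

section Ext

variable [Finite S] {p : ℕ} [Fact p.Prime]

/-- Each twisted diagonal subgroup is compatible with a degree map to `S / hyp(F)`. -/
theorem exists_deg_base (hS : IsPGroup p S) (hF : F.IsSaturated p) {D : Subgroup (↥S × ↥S)}
    (hD : FType F D) :
    ∃ d : ↥S, ∀ x ∈ D,
      ((x.1 * d * x.2⁻¹ : ↥S) : ↥S ⧸ hypS F p) = (d : ↥S ⧸ hypS F p) := by
  obtain ⟨P, Q, f, hf, hg⟩ := hD
  obtain ⟨g, hgS, P₀, f₀, hch, hfg⟩ := exists_conj_chain hS hF (le_refl S)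
    (fun g hg x hx => S.mul_mem (S.mul_mem hg hx) (S.inv_mem hg)) (hyperfocal_le F p) hf hf.le_left
  refine ⟨(⟨g, hgS⟩ : ↥S)⁻¹, fun x hx => ?_⟩
  obtain ⟨hx1, hx2⟩ := (hg x).1 hx
  rw [QuotientGroup.eq, Subgroup.mem_subgroupOf]
  have e : (((x.1 * (⟨g, hgS⟩ : ↥S)⁻¹ * x.2⁻¹)⁻¹ * (⟨g, hgS⟩ : ↥S)⁻¹ : ↥S) : Ω) =
      g * ((x.1 : Ω) * ((x.1 : Ω)⁻¹ * f₀ x.1) * (x.1 : Ω)⁻¹) * g⁻¹ := by
    simp only [Subgroup.coe_mul, Subgroup.coe_inv, mul_inv_rev, inv_inv]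
    rw [hx2, hfg _ hx1]; group
  rw [e]
  exact hyperfocal_conj_mem F p hgS
    (hyperfocal_conj_mem F p (hf.le_left hx1) (hch.inv_mul_mem_hyp _ hx1))

/-- The degree map of `XL L`. -/
noncomputable def degL (L : List (Subgroup (↥S × ↥S))) (d : Fin L.length → ↥S)
    (hd : ∀ i, ∀ x ∈ L.get i,
      ((x.1 * d i * x.2⁻¹ : ↥S) : ↥S ⧸ hypS F p) = (d i : ↥S ⧸ hypS F p)) :
    XL L → ↥S ⧸ hypS F p :=
  fun z => Quotient.liftOn' z.2
    (fun γ => ((γ.1 * d z.1 * γ.2⁻¹ : ↥S) : ↥S ⧸ hypS F p)) (by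
      intro γ γ' h
      rw [QuotientGroup.leftRel_apply] at h
      have h1 := hd z.1 _ h
      have e : γ'.1 * d z.1 * γ'.2⁻¹ =
          γ.1 * ((γ⁻¹ * γ').1 * d z.1 * (γ⁻¹ * γ').2⁻¹) * γ.2⁻¹ := by
        show _ = γ.1 * ((γ.1⁻¹ * γ'.1) * d z.1 * (γ.2⁻¹ * γ'.2)⁻¹) * γ.2⁻¹
        group
      have h2 : ((γ.1 * ((γ⁻¹ * γ').1 * d z.1 * (γ⁻¹ * γ').2⁻¹) * γ.2⁻¹ : ↥S) : ↥S ⧸ hypS F p) =
          (γ.1 : ↥S ⧸ hypS F p) *
            (((γ⁻¹ * γ').1 * d z.1 * (γ⁻¹ * γ').2⁻¹ : ↥S) : ↥S ⧸ hypS F p) *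
            ((γ.2⁻¹ : ↥S) : ↥S ⧸ hypS F p) := by
        rw [QuotientGroup.mk_mul, QuotientGroup.mk_mul]
      have h3 : ((γ.1 * d z.1 * γ.2⁻¹ : ↥S) : ↥S ⧸ hypS F p) =
          (γ.1 : ↥S ⧸ hypS F p) * (d z.1 : ↥S ⧸ hypS F p) * ((γ.2⁻¹ : ↥S) : ↥S ⧸ hypS F p) := by
        rw [QuotientGroup.mk_mul, QuotientGroup.mk_mul]
      show ((γ.1 * d z.1 * γ.2⁻¹ : ↥S) : ↥S ⧸ hypS F p) = ((γ'.1 * d z.1 * γ'.2⁻¹ : ↥S) : _)
      rw [e, h2, h1, h3])

theorem degL_smul (L : List (Subgroup (↥S × ↥S))) (d : Fin L.length → ↥S)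
    (hd : ∀ i, ∀ x ∈ L.get i,
      ((x.1 * d i * x.2⁻¹ : ↥S) : ↥S ⧸ hypS F p) = (d i : ↥S ⧸ hypS F p))
    (a b : ↥S) (z : XL L) :
    degL L d hd (((a, b) : ↥S × ↥S) • z) =
      (a : ↥S ⧸ hypS F p) * degL L d hd z * ((b : ↥S ⧸ hypS F p))⁻¹ := by
  obtain ⟨i, q⟩ := z
  induction q using QuotientGroup.induction_on with
  | H γ =>
    show (((a * γ.1) * d i * (b * γ.2)⁻¹ : ↥S) : ↥S ⧸ hypS F p) =
      (a : ↥S ⧸ hypS F p) * ((γ.1 * d i * γ.2⁻¹ : ↥S) : ↥S ⧸ hypS F p) * ((b : ↥S ⧸ hypS F p))⁻¹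
    rw [← QuotientGroup.mk_inv, ← QuotientGroup.mk_mul, ← QuotientGroup.mk_mul]
    congr 1
    group


/-- **The extension theorem**: in a saturated fusion system, a multiplicative map on the
hyperfocal subgroup, invariant under `S`, with values in a commutative group, extends to a
homomorphism of `S`, up to a power prime to `p`. -/
theorem exists_extension (hS : IsPGroup p S) (hF : F.IsSaturated p)
    {W : Type*} [CommGroup W] (t : ↥S → W)
    (ht_mul : ∀ x ∈ hypS F p, ∀ y ∈ hypS F p, t (x * y) = t x * t y)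
    (ht_conj : ∀ (a : ↥S), ∀ x ∈ hypS F p, t (a * x * a⁻¹) = t x) :
    ∃ (g : ↥S →* W) (n : ℕ), ¬ p ∣ n ∧ ∀ b ∈ hypS F p, g b = ((t b) ^ n)⁻¹ := by
  obtain ⟨L, hLT, hLstab, n, hn, hpn⟩ := exists_charBiset hS hF
  have hX : ∀ z : XL L, FType F (stabilizer (↥S × ↥S) z) := fType_stabilizer_XL hLT
  have hstab : ∀ D D' : Subgroup (↥S × ↥S), FType F D → FType F D' →
      F.IsConj (src D) (src D') → fp (XL L) D = fp (XL L) D' := by
    intro D D' hD hD' hc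
    rw [fp_XL, fp_XL]
    exact hLstab D D' hD hD' hc
  have hfree : RFree ↥S (XL L) := rFree_of_fType hX
  have hex : ∀ i : Fin L.length, ∃ d : ↥S, ∀ x ∈ L.get i,
      ((x.1 * d * x.2⁻¹ : ↥S) : ↥S ⧸ hypS F p) = (d : ↥S ⧸ hypS F p) :=
    fun i => exists_deg_base hS hF (hLT _ (List.get_mem L i))
  choose d hd using hex
  let gens : Set ↥S := {y | ∃ (U : Subgroup Ω) (f : Ω → Ω) (u : Ω),
    U ≤ F.hyperfocalSubgroup p ∧ QAut F p U f ∧ u ∈ U ∧ (y : Ω) = u⁻¹ * f u}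
  have hgB : gens ⊆ hypS F p := by
    rintro y ⟨U, f, u, hU, hq, hu, hy⟩
    rw [SetLike.mem_coe, Subgroup.mem_subgroupOf, hy]
    exact hq.inv_mul_mem_hyp hu
  have hBg : hypS F p ≤ Subgroup.closure gens := by
    intro b hb
    have h1 : F.hyperfocalSubgroup p ≤ (Subgroup.closure gens).map S.subtype := by
      apply hyp_le_of_qAut_gens hS hF
      intro U f hU hq u hu
      have hmem : u⁻¹ * f u ∈ S := hyperfocal_le F p (hq.inv_mul_mem_hyp hu)
      exact ⟨⟨u⁻¹ * f u, hmem⟩, Subgroup.subset_closure ⟨U, f, u, hU, hq, hu, rfl⟩, rfl⟩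
    obtain ⟨y, hy, hyb⟩ := h1 (Subgroup.mem_subgroupOf.1 hb)
    have : y = b := Subtype.ext hyb
    rwa [← this]
  have hgens : ∀ y ∈ gens, ∃ (U : Subgroup ↥S) (f : ↥S → ↥S) (u : ↥S), u ∈ U ∧ y = u⁻¹ * f u ∧
      U ≤ hypS F p ∧ (∀ v ∈ U, f v ∈ hypS F p) ∧ f 1 = 1 ∧
      ∃ e : XL L ≃ XL L, ∀ v ∈ U, ∀ (s : ↥S) (z : XL L),
        e (((v, s) : ↥S × ↥S) • z) = ((f v, s) : ↥S × ↥S) • e z := by
    rintro y ⟨U, f, u, hU, hq, hu, hy⟩
    have hUS : U ≤ S := hU.trans (hyperfocal_le F p)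
    have hiso := hq.isIso
    classical
    let fS : ↥S → ↥S := fun x => if hx : (x : Ω) ∈ U then ⟨f x, hUS (hiso.map_mem hx)⟩ else 1
    have hfS : ∀ (x : ↥S) (hx : (x : Ω) ∈ U), fS x = ⟨f x, hUS (hiso.map_mem hx)⟩ := by
      intro x hx
      simp only [fS, dif_pos hx]
    obtain ⟨e, he⟩ := exists_equiv_of_isIso hX hstab hiso
    refine ⟨U.subgroupOf S, fS, ⟨u, hUS hu⟩, Subgroup.mem_subgroupOf.2 hu, ?_, ?_, ?_, ?_, e, ?_⟩
    · apply Subtype.ext
      rw [hfS ⟨u, hUS hu⟩ hu]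
      exact hy
    · intro v hv
      exact Subgroup.mem_subgroupOf.2 (hU (Subgroup.mem_subgroupOf.1 hv))
    · intro v hv
      have hv' : (v : Ω) ∈ U := Subgroup.mem_subgroupOf.1 hv
      rw [hfS v hv']
      exact Subgroup.mem_subgroupOf.2 (hU (hiso.map_mem hv'))
    · rw [hfS 1 U.one_mem]
      apply Subtype.ext
      exact hiso.map_one
    · intro v hv s z
      have hv' : (v : Ω) ∈ U := Subgroup.mem_subgroupOf.1 hv
      rw [he v hv' s z, hfS v hv']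
  obtain ⟨g, n', hn', hg⟩ := exists_transfer hfree (hypS F p) (degL L d hd) (degL_smul L d hd) t
    ht_mul ht_conj gens hgB hBg hgens
  have hnn : n' = n := by
    have := hn.symm.trans hn'
    exact (Nat.eq_of_mul_eq_mul_right Nat.card_pos this).symm
  subst hnn
  exact ⟨g, n', hpn, hg⟩

end Ext

end Cfsg.Agent.Lib.H25.Bis
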