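import Cfsg.Agent.Lib.H25.GSetList

set_option autoImplicit false

/-!
Finite `Γ`-sets (helper25): the abstract step that makes the marks constant on classes of subgroups
of a given order by adding orbits.
-/

namespace Cfsg.Agent.Lib.H25.GSet

open MulAction

variable {Γ : Type*} [Group Γ] [Finite Γ]

/-- Representatives of the conjugacy classes in a conjugation-invariant set of subgroups. -/
theorem exists_reps (𝒜 : Set (Subgroup Γ)) (hconj : ∀ D ∈ 𝒜, ∀ g : Γ, cj g D ∈ 𝒜) :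
    ∃ R : List (Subgroup Γ), R.Nodup ∧ (∀ D ∈ R, D ∈ 𝒜) ∧
      (∀ D ∈ 𝒜, ∃ D' ∈ R, ∃ g : Γ, D = cj g D') ∧
      ∀ D' ∈ R, ∀ D'' ∈ R, (∃ g : Γ, D'' = cj g D') → D' = D'' := by
  classical
  haveI : Fintype (Subgroup Γ) := Fintype.ofFinite _
  let cl : Subgroup Γ → Set (Subgroup Γ) := fun D => {D' | ∃ g : Γ, D' = cj g D}
  have hcl_self : ∀ D, D ∈ cl D := fun D => ⟨1, (cj_one D).symm⟩
  have hcl_eq : ∀ D D', D' ∈ cl D → cl D' = cl D := by
    rintro D D' ⟨g, rfl⟩
    ext E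
    constructor
    · rintro ⟨h, rfl⟩
      exact ⟨h * g, (cj_mul h g D).symm⟩
    · rintro ⟨h, rfl⟩
      refine ⟨h * g⁻¹, ?_⟩
      rw [cj_mul, cj_inv_cj]
  let rep : Subgroup Γ → Subgroup Γ := fun D => Classical.epsilon (fun D' => D' ∈ cl D)
  have hrep_mem : ∀ D, rep D ∈ cl D := fun D => Classical.epsilon_spec ⟨D, hcl_self D⟩
  have hrep_eq : ∀ D D', D' ∈ cl D → rep D' = rep D := by
    intro D D' h
    show Classical.epsilon (fun E => E ∈ cl D') = Classical.epsilon (fun E => E ∈ cl D)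
    rw [hcl_eq D D' h]
  refine ⟨(Finset.univ.filter (fun D => D ∈ 𝒜 ∧ rep D = D)).toList, Finset.nodup_toList _,
    ?_, ?_, ?_⟩
  · intro D hD
    rw [Finset.mem_toList, Finset.mem_filter] at hD
    exact hD.2.1
  · intro D hD
    obtain ⟨g, hg⟩ := hrep_mem D
    refine ⟨rep D, ?_, g⁻¹, ?_⟩
    · rw [Finset.mem_toList, Finset.mem_filter]
      refine ⟨Finset.mem_univ _, ?_, hrep_eq D (rep D) (hrep_mem D)⟩
      rw [hg]; exact hconj D hD g
    · rw [hg, cj_inv_cj]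
  · intro D' hD' D'' hD'' hg
    rw [Finset.mem_toList, Finset.mem_filter] at hD' hD''
    rw [← hD'.2.2, ← hD''.2.2]
    exact (hrep_eq D' D'' hg).symm

theorem fpL_replicate (n : ℕ) (D H : Subgroup Γ) :
    fpL (List.replicate n D) H = n * fp (Γ ⧸ D) H := by
  induction n with
  | zero => simp [fpL]
  | succ n ih =>
    rw [List.replicate_succ, fpL_cons, ih]; ring

theorem fpL_flatMap_replicate (R : List (Subgroup Γ)) (c : Subgroup Γ → ℕ) (H : Subgroup Γ) :
    fpL (R.flatMap (fun D => List.replicate (c D) D)) H =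
      (R.map (fun D => c D * fp (Γ ⧸ D) H)).sum := by
  induction R with
  | nil => simp [fpL]
  | cons D R ih =>
    rw [List.flatMap_cons, fpL_append, fpL_replicate, ih, List.map_cons, List.sum_cons]

theorem sum_map_eq_single {α : Type*} [DecidableEq α] {R : List α} (hR : R.Nodup) (f : α → ℕ)
    {a : α} (ha : a ∈ R) (h0 : ∀ b ∈ R, b ≠ a → f b = 0) : (R.map f).sum = f a := by
  rw [← List.sum_toFinset f hR]
  exact Finset.sum_eq_single a (fun b hb hba => h0 b (List.mem_toFinset.1 hb) hba)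
    (fun h => absurd (List.mem_toFinset.2 ha) h)

/-- **The step**: given congruences for the marks of the subgroups of order `m` in `𝒯`, add orbits
with stabilizers of order `m` so that the marks become constant on classes for orders `≥ m`. -/
theorem step (𝒯 : Set (Subgroup Γ)) (hconj : ∀ D ∈ 𝒯, ∀ g : Γ, cj g D ∈ 𝒯)
    (cls : Subgroup Γ → Subgroup Γ → Prop)
    (hcls_card : ∀ D D', cls D D' → Nat.card D = Nat.card D')
    (hcls_conj : ∀ D ∈ 𝒯, ∀ g : Γ, cls D (cj g D))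
    (m : ℕ) (L : List (Subgroup Γ)) (hL : ∀ D ∈ L, D ∈ 𝒯 ∧ m < Nat.card D)
    (hstab : ∀ D ∈ 𝒯, ∀ D' ∈ 𝒯, cls D D' → m < Nat.card D → fpL L D = fpL L D')
    (r : Subgroup Γ → ℕ)
    (hr : ∀ D ∈ 𝒯, ∀ D' ∈ 𝒯, Nat.card D = m → cls D D' → r D = r D')
    (hcong : ∀ D ∈ 𝒯, Nat.card D = m → fpL L D ≡ r D [MOD w D]) :
    ∃ Lnew : List (Subgroup Γ), (∀ D ∈ Lnew, D ∈ 𝒯 ∧ Nat.card D = m) ∧
      ∀ D ∈ 𝒯, ∀ D' ∈ 𝒯, cls D D' → m ≤ Nat.card D →
        fpL (L ++ Lnew) D = fpL (L ++ Lnew) D' := by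
  classical
  have h𝒜conj : ∀ D ∈ {D | D ∈ 𝒯 ∧ Nat.card D = m}, ∀ g : Γ,
      cj g D ∈ {D | D ∈ 𝒯 ∧ Nat.card D = m} := by
    rintro D ⟨h1, h2⟩ g
    exact ⟨hconj D h1 g, by rw [card_cj, h2]⟩
  obtain ⟨R, hRnd, hRmem, hRex, hRuniq⟩ := exists_reps _ h𝒜conj
  let M : Subgroup Γ → ℕ := fun D => r D + fpL L ⊥ * Nat.card Γ
  have hMge : ∀ D, fpL L D ≤ M D := by
    intro D
    have h1 : fpL L D ≤ fpL L ⊥ := fpL_mono L bot_le
    have h2 : fpL L ⊥ ≤ fpL L ⊥ * Nat.card Γ := Nat.le_mul_of_pos_right _ Nat.card_pos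
    exact (h1.trans h2).trans (Nat.le_add_left _ _)
  have hMdvd : ∀ D ∈ 𝒯, Nat.card D = m → w D ∣ M D - fpL L D := by
    intro D hD hDm
    rw [← Nat.modEq_iff_dvd' (hMge D)]
    have h1 : fpL L ⊥ * Nat.card Γ ≡ 0 [MOD w D] :=
      (Nat.modEq_zero_iff_dvd).2 (Dvd.dvd.mul_left (w_dvd_card D) _)
    have h2 : M D ≡ r D + 0 [MOD w D] := Nat.ModEq.add_left _ h1
    rw [add_zero] at h2
    exact (hcong D hD hDm).trans h2.symm
  let c : Subgroup Γ → ℕ := fun D => (M D - fpL L D) / w D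
  have hc : ∀ D ∈ 𝒯, Nat.card D = m → c D * w D = M D - fpL L D := fun D hD hDm =>
    Nat.div_mul_cancel (hMdvd D hD hDm)
  refine ⟨R.flatMap (fun D => List.replicate (c D) D), ?_, ?_⟩
  · intro D hD
    rw [List.mem_flatMap] at hD
    obtain ⟨D', hD'R, hD⟩ := hD
    rw [List.mem_replicate] at hD
    rw [hD.2]
    exact hRmem D' hD'R
  -- marks of the new part
  have hnew_m : ∀ H ∈ 𝒯, Nat.card H = m →
      fpL (L ++ R.flatMap (fun D => List.replicate (c D) D)) H = M H := by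
    intro H hH hHm
    obtain ⟨D₀, hD₀R, g, hg⟩ := hRex H ⟨hH, hHm⟩
    obtain ⟨hD₀T, hD₀m⟩ := hRmem D₀ hD₀R
    have h1 : fpL (R.flatMap (fun D => List.replicate (c D) D)) H = c D₀ * w D₀ := by
      rw [fpL_flatMap_replicate]
      rw [sum_map_eq_single hRnd (fun D => c D * fp (Γ ⧸ D) H) hD₀R]
      · rw [hg, fp_quotient_cj]
      · intro D hDR hne
        have hDm : Nat.card D = m := (hRmem D hDR).2
        have : fp (Γ ⧸ D) H = 0 := by
          apply fp_quotient_eq_zero_of_not_conj (by rw [hHm, hDm])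
          rintro ⟨g', hg'⟩
          apply hne
          refine (hRuniq D₀ hD₀R D hDR ⟨g'⁻¹ * g, ?_⟩).symm
          rw [cj_mul, ← hg, hg', cj_inv_cj]
        rw [this, mul_zero]
    rw [fpL_append, h1, hc D₀ hD₀T hD₀m]
    have h2 : fpL L H = fpL L D₀ := by rw [hg, fpL_cj]
    rw [h2, Nat.add_sub_cancel' (hMge D₀)]
    show r D₀ + _ = r H + _
    rw [hr D₀ hD₀T H hH hD₀m (by rw [hg]; exact hcls_conj D₀ hD₀T g)]
  have hnew_gt : ∀ H : Subgroup Γ, m < Nat.card H →
      fpL (L ++ R.flatMap (fun D => List.replicate (c D) D)) H = fpL L H := by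
    intro H hHm
    rw [fpL_append, fpL_flatMap_replicate]
    have : (R.map (fun D => c D * fp (Γ ⧸ D) H)).sum = 0 := by
      apply List.sum_eq_zero
      intro x hx
      rw [List.mem_map] at hx
      obtain ⟨D, hDR, rfl⟩ := hx
      rw [fp_quotient_eq_zero_of_card_lt (by rw [(hRmem D hDR).2]; exact hHm), mul_zero]
    rw [this, add_zero]
  intro D hD D' hD' hcl hm
  rcases Nat.eq_or_lt_of_le hm with hm' | hm'
  · have hD'm : Nat.card D' = m := by rw [← hcls_card D D' hcl, ← hm']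
    rw [hnew_m D hD hm'.symm, hnew_m D' hD' hD'm]
    show r D + _ = r D' + _
    rw [hr D hD D' hD' hm'.symm hcl]
  · have hD'm : m < Nat.card D' := by rw [← hcls_card D D' hcl]; exact hm'
    rw [hnew_gt D hm', hnew_gt D' hD'm]
    exact hstab D hD D' hD' hcl hm'

/-- Repeating a list `N` times multiplies the marks by `N`. -/
theorem fpL_flatten_replicate (N : ℕ) (L : List (Subgroup Γ)) (H : Subgroup Γ) :
    fpL (List.replicate N L).flatten H = N * fpL L H := by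
  induction N with
  | zero => simp [fpL]
  | succ N ih =>
    rw [List.replicate_succ, List.flatten_cons, fpL_append, ih]; ring

end Cfsg.Agent.Lib.H25.GSet
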