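import Cfsg.Agent.Lib.H25.PPBasic
import Cfsg.Agent.Lib.H25.SatEquiv

set_option autoImplicit false

/-!
Subsystems of `p`-power index, part 2 (helper25): for `T` normal in `S` containing the hyperfocal
subgroup of the saturated system `F`, `T` is strongly closed and every isomorphism of `F` between
subgroups of `T` is a chain of restrictions of automorphisms of order prime to `p` of subgroups of
`T`, followed by conjugation by an element of `S`.
-/

namespace Cfsg.Agent.Lib.H25.PP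

open Cfsg Cfsg.FusionSystem Cfsg.Agent.Lib.H25 Cfsg.Agent.Lib.H26.Nil

variable {Ω : Type*} [Group Ω] {S : Subgroup Ω}

/-- Conjugation by `g`, as a function. -/
def cf (g : Ω) : Ω → Ω := fun x => g * x * g⁻¹

theorem cf_apply (g x : Ω) : cf g x = g * x * g⁻¹ := rfl

theorem cf_inv_cf (g x : Ω) : cf g⁻¹ (cf g x) = x := by
  simp only [cf_apply]; group

theorem cf_cf_inv (g x : Ω) : cf g (cf g⁻¹ x) = x := by
  simp only [cf_apply]; group

theorem cf_mul (g h x : Ω) : cf (g * h) x = cf g (cf h x) := by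
  simp only [cf_apply]; group

theorem cf_one (x : Ω) : cf (1 : Ω) x = x := by
  simp only [cf_apply]; group

/-- The conjugate of a subgroup. -/
def cjs (g : Ω) (P : Subgroup Ω) : Subgroup Ω := P.map (MulAut.conj g).toMonoidHom

theorem mem_cjs {g : Ω} {P : Subgroup Ω} {y : Ω} : y ∈ cjs g P ↔ ∃ x ∈ P, cf g x = y := Iff.rfl

theorem cf_mem_cjs {g : Ω} {P : Subgroup Ω} {x : Ω} (hx : x ∈ P) : cf g x ∈ cjs g P :=
  ⟨x, hx, rfl⟩

theorem isIso_cf (F : FusionSystem S) {P : Subgroup Ω} (hP : P ≤ S) {g : Ω} (hg : g ∈ S) :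
    IsIso F P (cjs g P) (cf g) := IsIso.conj hP hg

theorem cjs_inv_cjs (g : Ω) (P : Subgroup Ω) : cjs g⁻¹ (cjs g P) = P := by
  ext y
  constructor
  · rintro ⟨_, ⟨x, hx, rfl⟩, rfl⟩
    show cf g⁻¹ (cf g x) ∈ P
    rw [cf_inv_cf]
    exact hx
  · intro hy
    exact ⟨cf g y, cf_mem_cjs hy, cf_inv_cf g y⟩

theorem cjs_mono (g : Ω) {P Q : Subgroup Ω} (h : P ≤ Q) : cjs g P ≤ cjs g Q :=
  Subgroup.map_mono h

theorem cjs_le_of_conj_mem {T : Subgroup Ω} {g : Ω} (hgT : ∀ x ∈ T, g * x * g⁻¹ ∈ T)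
    {P : Subgroup Ω} (hP : P ≤ T) : cjs g P ≤ T := by
  rintro _ ⟨x, hx, rfl⟩
  exact hgT x (hP hx)

theorem cjs_le_of_normal {T : Subgroup Ω} (hTn : ∀ g ∈ S, ∀ x ∈ T, g * x * g⁻¹ ∈ T) {g : Ω}
    (hg : g ∈ S) {P : Subgroup Ω} (hP : P ≤ T) : cjs g P ≤ T :=
  cjs_le_of_conj_mem (hTn g hg) hP

theorem isIso_cf_inv (F : FusionSystem S) {P : Subgroup Ω} (hP : P ≤ S) {g : Ω} (hg : g ∈ S) :
    IsIso F (cjs g P) P (cf g⁻¹) := by
  have h := isIso_cf F (IsIso.le_right (isIso_cf F hP hg)) (S.inv_mem hg)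
  rwa [cjs_inv_cjs] at h

/-- If conjugation by `g ∈ S` is an isomorphism `P → P₁`, then `P₁` is the conjugate of `P`. -/
theorem eq_cjs_of_isIso {F : FusionSystem S} {P P₁ : Subgroup Ω} {g : Ω} (hg : g ∈ S)
    (h : IsIso F P P₁ (cf g)) : P₁ = cjs g P :=
  IsIso.target_eq h (isIso_cf F h.le_left hg) (fun _ _ => rfl)

namespace PChain

variable {F : FusionSystem S} {p : ℕ} {T : Subgroup Ω} {P Q R : Subgroup Ω} {f : Ω → Ω}

/-- Chains are invariant under conjugation by elements of `S` normalizing `T`. -/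
theorem conj' (h : PChain F p T P Q f) {g : Ω} (hg : g ∈ S)
    (hgT : ∀ x ∈ T, g * x * g⁻¹ ∈ T) :
    PChain F p T (cjs g P) (cjs g Q) (cf g ∘ f ∘ cf g⁻¹) := by
  induction h with
  | @base U P Q b f hU hb hP hf hfb =>
    have hUS : U ≤ S := hb.1.le_left
    have hb' : QAut F p (cjs g U) (cf g ∘ b ∘ cf g⁻¹) :=
      hb.transport (isIso_cf F hUS hg) (isIso_cf_inv F hUS hg) (fun x _ => cf_inv_cf g x)
    have hPS : P ≤ S := hP.trans hUS
    have hiso : IsIso F (cjs g P) (cjs g Q) (cf g ∘ f ∘ cf g⁻¹) :=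
      ((isIso_cf_inv F hPS hg).trans hf).trans (isIso_cf F hf.le_right hg)
    refine base (cjs_le_of_conj_mem hgT hU) hb' (cjs_mono g hP) hiso (fun y hy => ?_)
    obtain ⟨x, hx, rfl⟩ := hy
    show cf g (f (cf g⁻¹ (cf g x))) = cf g (b (cf g⁻¹ (cf g x)))
    rw [cf_inv_cf, hfb x hx]
  | @trans P Q R f k h _ _ hh ih1 ih2 =>
    refine trans ih1 ih2 (fun y hy => ?_)
    obtain ⟨x, hx, rfl⟩ := hy
    show cf g (h (cf g⁻¹ (cf g x))) = cf g (k (cf g⁻¹ (cf g (f (cf g⁻¹ (cf g x))))))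
    rw [cf_inv_cf, cf_inv_cf, hh x hx]

/-- Chains are invariant under conjugation by elements of `S` when `T` is normal in `S`. -/
theorem conj (hTn : ∀ g ∈ S, ∀ x ∈ T, g * x * g⁻¹ ∈ T) (h : PChain F p T P Q f) {g : Ω}
    (hg : g ∈ S) : PChain F p T (cjs g P) (cjs g Q) (cf g ∘ f ∘ cf g⁻¹) :=
  h.conj' hg (hTn g hg)

end PChain

section

variable [Finite S] {p : ℕ} [Fact p.Prime] (hS : IsPGroup p S) {F : FusionSystem S}
  (hF : F.IsSaturated p) {T : Subgroup Ω} (hTS : T ≤ S)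
  (hTn : ∀ g ∈ S, ∀ x ∈ T, g * x * g⁻¹ ∈ T) (hyp : F.hyperfocalSubgroup p ≤ T)

include hS hF hTS hTn hyp in
/-- A subgroup of `S` normal in `S` and containing the hyperfocal subgroup is strongly closed. -/
theorem stronglyClosed_of_hyp_le : F.StronglyClosed T := by
  refine stronglyClosed_of_essential hS hF hTS (fun U hU α hα x hx => ?_)
  have hUS : U ≤ S := le_of_eq_or_essential hU
  have hfn : F.IsFullyNormalized U := isFullyNormalized_of_eq_or_essential hU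
  have hfa : F.IsFullyAutomized p U := (fullyNormalized_props hS hF hfn).2
  obtain ⟨g, hg, u, hu, hαu⟩ := exists_conj_mul_pResidual hfa ⟨α, hα⟩
  rw [hαu x]
  apply hTn g hg.1
  have h1 := mem_hyperfocal_gen F p hUS u hu x
  have e : (((u : MulAut U) x : U) : Ω) = (x : Ω) * ((x : Ω)⁻¹ * (((u : MulAut U) x : U) : Ω)) := by
    group
  rw [e]
  exact T.mul_mem hx (hyp h1)

include hS hF hTS hTn hyp in
/-- Isomorphisms of `F` map `T`-parts onto `T`-parts. -/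
theorem IsIso.inf_T {P Q : Subgroup Ω} {f : Ω → Ω} (hf : IsIso F P Q f) :
    IsIso F (P ⊓ T) (Q ⊓ T) f := by
  have hsc := stronglyClosed_of_hyp_le hS hF hTS hTn hyp
  have key : ∀ {A B : Subgroup Ω} {k : Ω → Ω}, IsIso F A B k → ∀ x ∈ A ⊓ T, k x ∈ T := by
    intro A B k hk x hx
    obtain ⟨B', -, hB', -⟩ := hk.restrict (inf_le_left : A ⊓ T ≤ A)
    obtain ⟨φ, hφ, hφk, -⟩ := hB'
    have := hsc.2 (A ⊓ T) inf_le_right φ hφ ⟨x, hx⟩
    rwa [hφk] at this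
  refine hf.restrict' inf_le_left (fun x hx => ⟨hf.map_mem hx.1, key hf x hx⟩) (fun y hy => ?_)
  obtain ⟨x, hx, rfl⟩ := hf.surjOn hy.1
  obtain ⟨k, hk, hk1, -⟩ := hf.symm
  have := key hk (f x) hy
  rw [hk1 x hx] at this
  exact ⟨x, ⟨hx, this⟩, rfl⟩

include hS hF hTS hTn hyp in
/-- An automorphism of `U` of order prime to `p` restricts to such an automorphism of `U ⊓ T`. -/
theorem QAut.inf_T {U : Subgroup Ω} {b : Ω → Ω} (hb : QAut F p U b) : QAut F p (U ⊓ T) b := by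
  obtain ⟨hiso, n, hn, hbn⟩ := hb
  exact ⟨IsIso.inf_T hS hF hTS hTn hyp hiso, n, hn, fun x hx => hbn x hx.1⟩

include hS hF hTS hTn hyp in
/-- The elements of `O^p(Aut_F(U))` restrict to chains on `U ⊓ T`. -/
theorem chain_of_mem_pResidual {U : Subgroup Ω} (hU : U ≤ S) (u : F.autGroup U)
    (hu : u ∈ pResidual p (F.autGroup U)) :
    PChain F p T (U ⊓ T) (U ⊓ T) (aut1 (u : MulAut U)) := by
  have hUT : U ⊓ T ≤ T := inf_le_right
  unfold pResidual at hu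
  refine Subgroup.closure_induction
    (p := fun (v : F.autGroup U) _ => PChain F p T (U ⊓ T) (U ⊓ T) (aut1 (v : MulAut U)))
    ?_ ?_ ?_ ?_ hu
  · intro v hv
    have hord : (orderOf (v : MulAut U)).Coprime p := by
      rw [Subgroup.orderOf_coe]
      exact hv
    have hq : QAut F p U (aut1 (v : MulAut U)) := qAut_of_orderOf hU v.2 hord
    have hq' := QAut.inf_T hS hF hTS hTn hyp hq
    exact PChain.base hUT hq' le_rfl hq'.1 (fun _ _ => rfl)
  · refine (PChain.refl hTS hUT).congr (fun x hx => ?_)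
    rw [aut1_apply_mem _ hx.1]
    rfl
  · intro v w _ _ hv hw
    refine PChain.trans hw hv (fun x hx => ?_)
    rw [aut1_apply_mem _ hx.1, aut1_apply_mem _ hx.1, aut1_apply]
    rfl
  · intro v _ hv
    refine hv.symm ?_ (fun x hx => ?_)
    · have := isIso_aut1 F hU (v⁻¹).2
      exact IsIso.inf_T hS hF hTS hTn hyp this
    · rw [aut1_apply_mem _ hx.1, aut1_apply]
      simp

include hS hF hTS hTn hyp in
/-- **Frattini factorization**: every isomorphism of `F` with source in `T` is a chain followed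
by conjugation by an element of `S`. -/
theorem exists_conj_chain {P P' : Subgroup Ω} {f : Ω → Ω} (hf : IsIso F P P' f) (hPT : P ≤ T) :
    ∃ g ∈ S, ∃ (P₀ : Subgroup Ω) (f₀ : Ω → Ω), PChain F p T P P₀ f₀ ∧
      ∀ x ∈ P, f x = g * f₀ x * g⁻¹ := by
  have hsc := stronglyClosed_of_hyp_le hS hF hTS hTn hyp
  have key := alperin_pred hS F hF
    (fun P φ => ∃ g ∈ S, ∃ P₀ : Subgroup Ω, PChain F p T (P ⊓ T) P₀ (cf g⁻¹ ∘ ext1 φ)) ?_ ?_ ?_ ?_
  · obtain ⟨φ, hφ, hφf, -⟩ := hf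
    obtain ⟨g, hg, P₀, hc⟩ := key P φ hφ
    rw [inf_of_le_left hPT] at hc
    refine ⟨g, hg, P₀, _, hc, fun x hx => ?_⟩
    show f x = g * (cf g⁻¹ (ext1 φ x)) * g⁻¹
    rw [ext1_apply_mem φ hx, hφf, cf_apply]
    group
  · -- conjugation
    intro P s hP hs
    refine ⟨s, hs, P ⊓ T, (PChain.refl hTS inf_le_right).congr (fun x hx => ?_)⟩
    show x = cf s⁻¹ (ext1 (conjHom P s) x)
    rw [ext1_apply_mem _ hx.1, conjHom_apply]
    exact (cf_inv_cf s x).symm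
  · -- composition
    rintro P Q φ ψ h hφ hψ ⟨g, hg, P₀, c₁⟩ ⟨k, hk, Q₀, c₂⟩
    have hP₀T : P₀ ≤ T := c₁.le_right
    have hP₀S : P₀ ≤ S := hP₀T.trans hTS
    -- the conjugate of `P₀` by `g` lies in `Q ⊓ T`
    have hle : cjs g P₀ ≤ Q ⊓ T := by
      rintro _ ⟨y, hy, rfl⟩
      obtain ⟨x, hx, rfl⟩ := c₁.isIso.surjOn hy
      refine ⟨?_, hTn g hg _ (hP₀T (c₁.isIso.map_mem hx))⟩
      show cf g (cf g⁻¹ (ext1 φ x)) ∈ Q
      have := cf_cf_inv g (ext1 φ x)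
      rw [this, ext1_apply_mem φ hx.1]
      exact h ⟨x, hx.1⟩
    obtain ⟨Q₁, -, c₂'⟩ := c₂.exists_restrict hle
    have c₃ := c₂'.conj hTn (S.inv_mem hg)
    rw [cjs_inv_cjs] at c₃
    refine ⟨k * g, S.mul_mem hk hg, _, PChain.trans c₁ c₃ (fun x hx => ?_)⟩
    show cf (k * g)⁻¹ (ext1 (ψ.comp (φ.codRestrict Q h)) x) =
      cf g⁻¹ (cf k⁻¹ (ext1 ψ (cf g⁻¹⁻¹ (cf g⁻¹ (ext1 φ x)))))
    rw [inv_inv, cf_cf_inv, ext1_apply_mem _ hx.1, ext1_apply_mem φ hx.1,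
      ext1_apply_mem ψ (h ⟨x, hx.1⟩), mul_inv_rev, cf_mul]
    rfl
  · -- inverses
    rintro P φ ψ hφ hψ hψφ ⟨g, hg, P₀, c₁⟩
    have hP₀T : P₀ ≤ T := c₁.le_right
    have hP₀S : P₀ ≤ S := hP₀T.trans hTS
    have hφi : IsIso F P φ.range (ext1 φ) := isIso_of_mem F hφ
    have hφT : IsIso F (P ⊓ T) (φ.range ⊓ T) (ext1 φ) := IsIso.inf_T hS hF hTS hTn hyp hφi
    -- `φ(P ⊓ T)` is the conjugate of `P₀`
    have htarget : cjs g P₀ = φ.range ⊓ T := by
      have h1 : IsIso F (P ⊓ T) (cjs g P₀) (cf g ∘ (cf g⁻¹ ∘ ext1 φ)) :=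
        c₁.isIso.trans (isIso_cf F hP₀S hg)
      exact IsIso.target_eq h1 hφT (fun x _ => cf_cf_inv g _)
    obtain ⟨k, hk, hk1, hk2⟩ := c₁.isIso.symm
    have c₂ : PChain F p T P₀ (P ⊓ T) k := c₁.symm hk hk1
    have c₃ := c₂.conj hTn hg
    rw [htarget] at c₃
    have hPT' : cjs g (P ⊓ T) ≤ T := cjs_le_of_normal hTn hg inf_le_right
    refine ⟨g⁻¹, S.inv_mem hg, _, c₃.congr (fun y hy => ?_)⟩
    obtain ⟨x, hx, rfl⟩ := hφT.surjOn hy
    show cf g (k (cf g⁻¹ (ext1 φ x))) = cf g⁻¹⁻¹ (ext1 ψ (ext1 φ x))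
    have e1 : k (cf g⁻¹ (ext1 φ x)) = x := hk1 x hx
    rw [e1, inv_inv, ext1_apply_mem φ hx.1, ext1_apply_mem ψ ⟨⟨x, hx.1⟩, rfl⟩]
    congr 1
    exact (hψφ ⟨x, hx.1⟩).symm
  · -- automorphisms of `S` and of essential subgroups
    intro U hU α hα
    have hUS : U ≤ S := le_of_eq_or_essential hU
    have hfn : F.IsFullyNormalized U := isFullyNormalized_of_eq_or_essential hU
    have hfa : F.IsFullyAutomized p U := (fullyNormalized_props hS hF hfn).2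
    obtain ⟨g, hg, u, hu, hαu⟩ := exists_conj_mul_pResidual hfa ⟨α, hα⟩
    have hc := chain_of_mem_pResidual hS hF hTS hTn hyp hUS u hu
    refine ⟨g, hg.1, _, hc.congr (fun x hx => ?_)⟩
    show aut1 (u : MulAut U) x = cf g⁻¹ (ext1 (U.subtype.comp α.toMonoidHom) x)
    rw [aut1_apply_mem _ hx.1, ext1_apply_mem _ hx.1]
    show _ = cf g⁻¹ ((α ⟨x, hx.1⟩ : U) : Ω)
    rw [hαu ⟨x, hx.1⟩]
    exact (cf_inv_cf g _).symm

end

end Cfsg.Agent.Lib.H25.PP
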