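import Cfsg.Agent.Lib.H25.GSetMarks
import Cfsg.Agent.Lib.H25.GSetStep
import Cfsg.Agent.Lib.H25.PPClaimA

set_option autoImplicit false

/-!
Bisets for fusion systems (helper25): twisted diagonal subgroups of `S × S` given by the
isomorphisms of a fusion system.
-/

namespace Cfsg.Agent.Lib.H25.Bis

open Cfsg Cfsg.FusionSystem Cfsg.Agent.Lib.H25 Cfsg.Agent.Lib.H25.GSet Cfsg.Agent.Lib.H25.PP
open MulAction

variable {Ω : Type*} [Group Ω] {S : Subgroup Ω}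

/-- `D` is the graph of `f` on `P`. -/
def IsGraph (D : Subgroup (↥S × ↥S)) (P : Subgroup Ω) (f : Ω → Ω) : Prop :=
  ∀ x : ↥S × ↥S, x ∈ D ↔ (x.1 : Ω) ∈ P ∧ (x.2 : Ω) = f x.1

/-- Twisted diagonal subgroups of the system: graphs of isomorphisms of `F`. -/
def FType (F : FusionSystem S) (D : Subgroup (↥S × ↥S)) : Prop :=
  ∃ (P Q : Subgroup Ω) (f : Ω → Ω), IsIso F P Q f ∧ IsGraph D P f

/-- The first projection of `D`, as a subgroup of `Ω`. -/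
def src (D : Subgroup (↥S × ↥S)) : Subgroup Ω :=
  (D.map (MonoidHom.fst ↥S ↥S)).map S.subtype

theorem mem_src {D : Subgroup (↥S × ↥S)} {x : Ω} : x ∈ src D ↔ ∃ y ∈ D, (y.1 : Ω) = x := by
  unfold src
  constructor
  · rintro ⟨_, ⟨y, hy, rfl⟩, rfl⟩
    exact ⟨y, hy, rfl⟩
  · rintro ⟨y, hy, rfl⟩
    exact ⟨_, ⟨y, hy, rfl⟩, rfl⟩

theorem src_le (D : Subgroup (↥S × ↥S)) : src D ≤ S := by
  intro x hx
  obtain ⟨y, -, rfl⟩ := mem_src.1 hx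
  exact y.1.2

theorem src_mono {D D' : Subgroup (↥S × ↥S)} (h : D ≤ D') : src D ≤ src D' := by
  intro x hx
  obtain ⟨y, hy, rfl⟩ := mem_src.1 hx
  exact mem_src.2 ⟨y, h hy, rfl⟩

variable {F : FusionSystem S}

theorem IsGraph.src_eq {D : Subgroup (↥S × ↥S)} {P Q : Subgroup Ω} {f : Ω → Ω}
    (hf : IsIso F P Q f) (h : IsGraph D P f) : src D = P := by
  ext x
  rw [mem_src]
  constructor
  · rintro ⟨y, hy, rfl⟩
    exact ((h y).1 hy).1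
  · intro hx
    exact ⟨(⟨x, hf.le_left hx⟩, ⟨f x, hf.le_right (hf.map_mem hx)⟩), (h _).2 ⟨hx, rfl⟩, rfl⟩

theorem IsGraph.card_eq {D : Subgroup (↥S × ↥S)} {P Q : Subgroup Ω} {f : Ω → Ω}
    (hf : IsIso F P Q f) (h : IsGraph D P f) : Nat.card D = Nat.card P := by
  apply Nat.card_congr
  exact
    { toFun := fun x => ⟨(x.1.1 : Ω), ((h x.1).1 x.2).1⟩
      invFun := fun y => ⟨(⟨y.1, hf.le_left y.2⟩, ⟨f y.1, hf.le_right (hf.map_mem y.2)⟩),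
        (h _).2 ⟨y.2, rfl⟩⟩
      left_inv := by
        rintro ⟨x, hx⟩
        apply Subtype.ext
        apply Prod.ext
        · rfl
        · apply Subtype.ext
          exact ((h x).1 hx).2.symm
      right_inv := fun y => rfl }

theorem FType.card_eq {D : Subgroup (↥S × ↥S)} (h : FType F D) : Nat.card D = Nat.card (src D) := by
  obtain ⟨P, Q, f, hf, hg⟩ := h
  rw [hg.src_eq hf, hg.card_eq hf]

theorem FType.isGraph_src {D : Subgroup (↥S × ↥S)} (h : FType F D) :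
    ∃ (Q : Subgroup Ω) (f : Ω → Ω), IsIso F (src D) Q f ∧ IsGraph D (src D) f := by
  obtain ⟨P, Q, f, hf, hg⟩ := h
  rw [hg.src_eq hf]
  exact ⟨Q, f, hf, hg⟩

/-- The graph of an isomorphism of the system. -/
def graph {P Q : Subgroup Ω} {f : Ω → Ω} (hf : IsIso F P Q f) : Subgroup (↥S × ↥S) where
  carrier := {x | (x.1 : Ω) ∈ P ∧ (x.2 : Ω) = f x.1}
  mul_mem' := by
    rintro x y ⟨hx1, hx2⟩ ⟨hy1, hy2⟩
    refine ⟨P.mul_mem hx1 hy1, ?_⟩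
    show ((x.2 * y.2 : ↥S) : Ω) = f ((x.1 * y.1 : ↥S) : Ω)
    rw [Subgroup.coe_mul, Subgroup.coe_mul, hf.map_mul hx1 hy1, hx2, hy2]
  one_mem' := ⟨P.one_mem, by
    show ((1 : ↥S) : Ω) = f ((1 : ↥S) : Ω)
    rw [Subgroup.coe_one, hf.map_one]⟩
  inv_mem' := by
    rintro x ⟨hx1, hx2⟩
    refine ⟨P.inv_mem hx1, ?_⟩
    show ((x.2⁻¹ : ↥S) : Ω) = f ((x.1⁻¹ : ↥S) : Ω)
    rw [Subgroup.coe_inv, Subgroup.coe_inv, hf.map_inv hx1, hx2]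

theorem isGraph_graph {P Q : Subgroup Ω} {f : Ω → Ω} (hf : IsIso F P Q f) :
    IsGraph (graph hf) P f := fun _ => Iff.rfl

theorem fType_graph {P Q : Subgroup Ω} {f : Ω → Ω} (hf : IsIso F P Q f) : FType F (graph hf) :=
  ⟨P, Q, f, hf, isGraph_graph hf⟩

/-- The diagonal of `P`. -/
def diag (P : Subgroup Ω) : Subgroup (↥S × ↥S) where
  carrier := {x | (x.1 : Ω) ∈ P ∧ (x.2 : Ω) = x.1}
  mul_mem' := by
    rintro x y ⟨hx1, hx2⟩ ⟨hy1, hy2⟩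
    refine ⟨P.mul_mem hx1 hy1, ?_⟩
    show ((x.2 * y.2 : ↥S) : Ω) = ((x.1 * y.1 : ↥S) : Ω)
    rw [Subgroup.coe_mul, Subgroup.coe_mul, hx2, hy2]
  one_mem' := ⟨P.one_mem, rfl⟩
  inv_mem' := by
    rintro x ⟨hx1, hx2⟩
    refine ⟨P.inv_mem hx1, ?_⟩
    show ((x.2⁻¹ : ↥S) : Ω) = ((x.1⁻¹ : ↥S) : Ω)
    rw [Subgroup.coe_inv, Subgroup.coe_inv, hx2]

theorem isGraph_diag (P : Subgroup Ω) : IsGraph (diag (S := S) P) P id := fun _ => Iff.rfl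

theorem fType_diag {P : Subgroup Ω} (hP : P ≤ S) : FType F (diag P) :=
  ⟨P, P, id, IsIso.refl hP, isGraph_diag P⟩

theorem src_diag (F : FusionSystem S) {P : Subgroup Ω} (hP : P ≤ S) :
    src (diag (S := S) P) = P :=
  (isGraph_diag P).src_eq (F := F) (IsIso.refl hP)

/-- Subgroups of twisted diagonal subgroups are twisted diagonal subgroups. -/
theorem FType.of_le {D D' : Subgroup (↥S × ↥S)} (hD : FType F D) (hle : D' ≤ D) : FType F D' := by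
  obtain ⟨P, Q, f, hf, hg⟩ := hD
  have hP' : src D' ≤ P := fun x hx => by
    obtain ⟨y, hy, rfl⟩ := mem_src.1 hx
    exact ((hg y).1 (hle hy)).1
  obtain ⟨Q', -, hf', -⟩ := hf.restrict hP'
  refine ⟨src D', Q', f, hf', fun x =>
    ⟨fun hx => ⟨mem_src.2 ⟨x, hx, rfl⟩, ((hg x).1 (hle hx)).2⟩, ?_⟩⟩
  rintro ⟨hx1, hx2⟩
  obtain ⟨y, hy, hyx⟩ := mem_src.1 hx1
  have hy2 := ((hg y).1 (hle hy)).2
  have : y = x := by
    apply Prod.ext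
    · exact Subtype.ext hyx
    · apply Subtype.ext
      rw [hy2, hyx, hx2]
  rwa [← this]

/-- Conjugates of twisted diagonal subgroups are twisted diagonal subgroups, with conjugate
source. -/
theorem FType.cj' {D : Subgroup (↥S × ↥S)} (hD : FType F D) (g : ↥S × ↥S) :
    FType F (cj g D) ∧ F.IsConj (src D) (src (cj g D)) := by
  obtain ⟨P, Q, f, hf, hg⟩ := hD
  have hP := hf.le_left
  have hQ := hf.le_right
  have hiso : IsIso F (cjs (g.1 : Ω) P) (cjs (g.2 : Ω) Q) (cf (g.2 : Ω) ∘ f ∘ cf (g.1 : Ω)⁻¹) :=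
    ((isIso_cf_inv F hP g.1.2).trans hf).trans (isIso_cf F hQ g.2.2)
  have hgr : IsGraph (cj g D) (cjs (g.1 : Ω) P) (cf (g.2 : Ω) ∘ f ∘ cf (g.1 : Ω)⁻¹) := by
    intro x
    rw [mem_cj, hg]
    show ((g.1⁻¹ * x.1 * g.1 : ↥S) : Ω) ∈ P ∧ ((g.2⁻¹ * x.2 * g.2 : ↥S) : Ω) =
      f ((g.1⁻¹ * x.1 * g.1 : ↥S) : Ω) ↔ _
    simp only [Subgroup.coe_mul, Subgroup.coe_inv, Function.comp_apply, cf_apply, inv_inv]
    constructor
    · rintro ⟨h1, h2⟩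
      refine ⟨⟨_, h1, ?_⟩, ?_⟩
      · show cf (g.1 : Ω) _ = _
        rw [cf_apply]; group
      · rw [← h2]; group
    · rintro ⟨⟨y, hy, hyx⟩, h2⟩
      have e : (g.1 : Ω)⁻¹ * x.1 * g.1 = y := by
        rw [← hyx]
        show _ * cf (g.1 : Ω) y * _ = y
        rw [cf_apply]; group
      refine ⟨by rw [e]; exact hy, ?_⟩
      rw [h2]; group
  refine ⟨⟨_, _, _, hiso, hgr⟩, ?_⟩
  rw [hg.src_eq hf, hgr.src_eq hiso]
  exact (isIso_cf F hP g.1.2).isConj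

theorem FType.cj {D : Subgroup (↥S × ↥S)} (hD : FType F D) (g : ↥S × ↥S) : FType F (cj g D) :=
  (hD.cj' g).1

/-- `E'` is the image of `E` under `r₁ × r₂`. -/
def IsImage (E E' : Subgroup (↥S × ↥S)) (r₁ r₂ : Ω → Ω) : Prop :=
  ∀ y : ↥S × ↥S, y ∈ E' ↔ ∃ x ∈ E, (y.1 : Ω) = r₁ x.1 ∧ (y.2 : Ω) = r₂ x.2

/-- The image of a twisted diagonal subgroup under a product of isomorphisms of the system. -/
theorem FType.image {E E' : Subgroup (↥S × ↥S)} {N₁ N₁' N₂ N₂' : Subgroup Ω} {r₁ r₂ : Ω → Ω}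
    (h₁ : IsIso F N₁ N₁' r₁) (h₂ : IsIso F N₂ N₂' r₂)
    (hE₁ : ∀ x ∈ E, (x.1 : Ω) ∈ N₁) (hE₂ : ∀ x ∈ E, (x.2 : Ω) ∈ N₂)
    (him : IsImage E E' r₁ r₂) (hE : FType F E) :
    FType F E' ∧ F.IsConj (src E) (src E') := by
  obtain ⟨P, Q, f, hf, hg⟩ := hE
  have hP : P ≤ N₁ := fun x hx =>
    hE₁ (⟨x, hf.le_left hx⟩, ⟨f x, hf.le_right (hf.map_mem hx)⟩) ((hg _).2 ⟨hx, rfl⟩)
  have hQ : Q ≤ N₂ := fun y hy => by
    obtain ⟨x, hx, rfl⟩ := hf.surjOn hy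
    exact hE₂ (⟨x, hf.le_left hx⟩, ⟨f x, hf.le_right (hf.map_mem hx)⟩) ((hg _).2 ⟨hx, rfl⟩)
  obtain ⟨P', -, hr₁, hP'mem⟩ := h₁.restrict hP
  obtain ⟨Q', -, hr₂, -⟩ := h₂.restrict hQ
  obtain ⟨k₁, hk₁, hk₁r, -⟩ := hr₁.symm
  have hiso : IsIso F P' Q' (r₂ ∘ f ∘ k₁) := (hk₁.trans hf).trans hr₂
  have hgr : IsGraph E' P' (r₂ ∘ f ∘ k₁) := by
    intro y
    rw [him]
    constructor
    · rintro ⟨x, hx, hy1, hy2⟩
      obtain ⟨hx1, hx2⟩ := (hg x).1 hx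
      refine ⟨by rw [hy1]; exact hr₁.map_mem hx1, ?_⟩
      show (y.2 : Ω) = r₂ (f (k₁ y.1))
      rw [hy1, hk₁r _ hx1, ← hx2, hy2]
    · rintro ⟨hy1, hy2⟩
      obtain ⟨x₁, hx₁, hx₁y⟩ := (hP'mem _).1 hy1
      refine ⟨(⟨x₁, hf.le_left hx₁⟩, ⟨f x₁, hf.le_right (hf.map_mem hx₁)⟩), (hg _).2 ⟨hx₁, rfl⟩,
        hx₁y.symm, ?_⟩
      rw [hy2]
      show r₂ (f (k₁ y.1)) = r₂ (f x₁)
      rw [← hx₁y, hk₁r _ hx₁]
  refine ⟨⟨_, _, _, hiso, hgr⟩, ?_⟩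
  rw [hg.src_eq hf, hgr.src_eq hiso]
  exact hr₁.isConj

/-- The converse: the preimage of a twisted diagonal subgroup. -/
theorem FType.of_image {E E' : Subgroup (↥S × ↥S)} {N₁ N₁' N₂ N₂' : Subgroup Ω} {r₁ r₂ : Ω → Ω}
    (h₁ : IsIso F N₁ N₁' r₁) (h₂ : IsIso F N₂ N₂' r₂)
    (hE₁ : ∀ x ∈ E, (x.1 : Ω) ∈ N₁) (hE₂ : ∀ x ∈ E, (x.2 : Ω) ∈ N₂)
    (him : IsImage E E' r₁ r₂) (hE' : FType F E') : FType F E := by
  obtain ⟨k₁, hk₁, hk₁r, -⟩ := h₁.symm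
  obtain ⟨k₂, hk₂, hk₂r, -⟩ := h₂.symm
  have hE'₁ : ∀ y ∈ E', (y.1 : Ω) ∈ N₁' := by
    intro y hy
    obtain ⟨x, hx, hy1, -⟩ := (him y).1 hy
    rw [hy1]
    exact h₁.map_mem (hE₁ x hx)
  have hE'₂ : ∀ y ∈ E', (y.2 : Ω) ∈ N₂' := by
    intro y hy
    obtain ⟨x, hx, -, hy2⟩ := (him y).1 hy
    rw [hy2]
    exact h₂.map_mem (hE₂ x hx)
  have him' : IsImage E' E k₁ k₂ := by
    intro x
    constructor
    · intro hx
      refine ⟨(⟨r₁ x.1, h₁.le_right (h₁.map_mem (hE₁ x hx))⟩,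
        ⟨r₂ x.2, h₂.le_right (h₂.map_mem (hE₂ x hx))⟩), (him _).2 ⟨x, hx, rfl, rfl⟩, ?_, ?_⟩
      · exact (hk₁r _ (hE₁ x hx)).symm
      · exact (hk₂r _ (hE₂ x hx)).symm
    · rintro ⟨y, hy, hx1, hx2⟩
      obtain ⟨x', hx', hy1, hy2⟩ := (him y).1 hy
      have : x = x' := by
        apply Prod.ext
        · apply Subtype.ext
          rw [hx1, hy1, hk₁r _ (hE₁ x' hx')]
        · apply Subtype.ext
          rw [hx2, hy2, hk₂r _ (hE₂ x' hx')]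
      rwa [this]
  exact (FType.image hk₁ hk₂ hE'₁ hE'₂ him' hE').1

end Cfsg.Agent.Lib.H25.Bis
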