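import Cfsg.Agent.Lib.H25.BisFull

set_option autoImplicit false

/-!
Bisets (helper25): the transfer of an involution through a right-free biset with an odd number of
right orbits, computed by fixed points (Thompson's transfer argument).
-/

namespace Cfsg.Agent.Lib.H25.Bis

open scoped BigOperators

/-- A finite set with a fixed-point-free involution has even cardinality. -/
theorem even_card_of_involution {α : Type*} (s : Finset α) (g : α → α)
    (hmem : ∀ a ∈ s, g a ∈ s) (hne : ∀ a ∈ s, g a ≠ a) (hinv : ∀ a ∈ s, g (g a) = a) :
    Even s.card := by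
  have h := Finset.prod_involution (s := s) (f := fun _ => (-1 : ℤˣ)) (fun a _ => g a)
    (fun _ _ => by simp) (fun a ha _ => hne a ha) (fun a ha => hmem a ha) (fun a ha => hinv a ha)
  rw [Finset.prod_const] at h
  exact (neg_one_pow_eq_one_iff_even (by decide)).1 h

variable {G : Type*} [Group G] {X : Type*} [MulAction (G × G) X]

section Parity

variable {W : Type*} [CommGroup W] [Fintype (RO G X)]
  (rep : RO G X → X) (hrep : ∀ k, ro (rep k) = k)

include hrep in
/-- **The transfer of an involution**, computed by fixed points. -/
theorem transferX_involution (hfree : RFree G X) (t : G →* W) (i : G) (hi2 : i * i = 1)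
    (A : Subgroup G) [Finite A] (hA : IsPGroup 2 A) (hAi : ∀ a ∈ A, a * i = i * a)
    (hodd : Odd (Fintype.card (RO G X))) (g₀ : W) (hg₀ : g₀ * g₀ = 1) (hg₀ne : g₀ ≠ 1)
    (hval : ∀ k : RO G X, i • k = k → t (hh rep i k) = 1 ∨ t (hh rep i k) = g₀)
    (hfix : ∀ k : RO G X, i • k = k → (∀ a ∈ A, a • k = k) → t (hh rep i k) = g₀) :
    transferX rep t i = g₀ := by
  classical
  have hmul := hh_mul rep hrep hfree
  have hone := hh_one rep hrep hfree
  set ψ : RO G X → W := fun k => t (hh rep i k) with hψ
  have hii : ∀ k : RO G X, i • i • k = k := by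
    intro k
    rw [← mul_smul, hi2, one_smul]
  -- step 1: the non-fixed orbits cancel
  have h1 : ∏ k ∈ Finset.univ.filter (fun k : RO G X => ¬ i • k = k), ψ k = 1 := by
    apply Finset.prod_involution (fun k _ => i • k)
    · intro k _
      show t (hh rep i k) * t (hh rep i (i • k)) = 1
      rw [mul_comm, ← map_mul, ← hmul, hi2, hone, map_one]
    · intro k hk _
      exact (Finset.mem_filter.1 hk).2
    · intro k _
      exact hii k
    · intro k hk
      rw [Finset.mem_filter] at hk ⊢
      refine ⟨Finset.mem_univ _, ?_⟩
      rw [hii]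
      exact fun h => hk.2 h.symm
  have h2 : transferX rep t i = ∏ k ∈ Finset.univ.filter (fun k : RO G X => i • k = k), ψ k := by
    unfold transferX tau
    rw [← Finset.prod_filter_mul_prod_filter_not Finset.univ (fun k : RO G X => i • k = k), h1,
      mul_one]
  -- step 2: the fixed orbits contribute `g₀` to the number of those with nontrivial value
  set Fix := Finset.univ.filter (fun k : RO G X => i • k = k) with hFix
  have h3 : ∏ k ∈ Fix, ψ k = g₀ ^ (Fix.filter (fun k => ¬ ψ k = 1)).card := by
    rw [← Finset.prod_filter_mul_prod_filter_not Fix (fun k => ψ k = 1)]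
    have e1 : ∏ k ∈ Fix.filter (fun k => ψ k = 1), ψ k = 1 :=
      Finset.prod_eq_one (fun k hk => (Finset.mem_filter.1 hk).2)
    have e2 : ∏ k ∈ Fix.filter (fun k => ¬ ψ k = 1), ψ k =
        ∏ _k ∈ Fix.filter (fun k => ¬ ψ k = 1), g₀ := by
      apply Finset.prod_congr rfl
      intro k hk
      rw [Finset.mem_filter] at hk
      have hkF : i • k = k := (Finset.mem_filter.1 hk.1).2
      rcases hval k hkF with h | h
      · exact absurd h hk.2
      · exact h
    rw [e1, e2, one_mul, Finset.prod_const]
  -- step 3: parities
  have hFixodd : Odd Fix.card := by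
    have hev : Even (Finset.univ.filter (fun k : RO G X => ¬ i • k = k)).card := by
      apply even_card_of_involution _ (fun k => i • k)
      · intro k hk
        rw [Finset.mem_filter] at hk ⊢
        refine ⟨Finset.mem_univ _, ?_⟩
        rw [hii]
        exact fun h => hk.2 h.symm
      · intro k hk
        exact (Finset.mem_filter.1 hk).2
      · intro k _
        exact hii k
    have hsum := Finset.card_filter_add_card_filter_not (s := (Finset.univ : Finset (RO G X)))
      (fun k : RO G X => i • k = k)
    rw [Finset.card_univ] at hsum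
    rw [← hsum] at hodd
    rcases Nat.even_or_odd Fix.card with h | h
    · exact absurd (h.add hev) (Nat.not_even_iff_odd.2 hodd)
    · exact h
  have hTeven : Even (Fix.filter (fun k => ψ k = 1)).card := by
    -- the action of `A` on the fixed orbits with trivial value
    let Y := {k : RO G X // i • k = k ∧ ψ k = 1}
    have hinv : ∀ (a : ↥A) (k : RO G X), i • k = k ∧ ψ k = 1 →
        i • ((a : G) • k) = (a : G) • k ∧ ψ ((a : G) • k) = 1 := by
      intro a k hk
      have hcomm := hAi a a.2
      refine ⟨by rw [← mul_smul, ← hcomm, mul_smul, hk.1], ?_⟩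
      show t (hh rep i ((a : G) • k)) = 1
      have e1 := hmul i a k
      have e2 := hmul a i k
      rw [hk.1] at e2
      rw [← hcomm, e2] at e1
      have e3 : hh rep i ((a : G) • k) = hh rep a k * hh rep i k * (hh rep a k)⁻¹ := by
        rw [e1]; group
      rw [e3, map_mul, map_mul, map_inv, mul_comm (t (hh rep a k)), mul_inv_cancel_right]
      exact hk.2
    letI : MulAction ↥A Y :=
      { smul := fun a k => ⟨(a : G) • k.1, hinv a k.1 k.2⟩
        one_smul := fun k => Subtype.ext (one_smul G k.1)
        mul_smul := fun a b k => Subtype.ext (mul_smul (a : G) (b : G) k.1) }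
    have hcardY : Nat.card Y = (Fix.filter (fun k => ψ k = 1)).card := by
      rw [Nat.card_eq_fintype_card, Fintype.card_subtype]
      congr 1
      ext k
      simp only [Finset.mem_filter, Finset.mem_univ, true_and, hFix]
    have hmod := hA.card_modEq_card_fixedPoints Y
    have hempty : MulAction.fixedPoints ↥A Y = ∅ := by
      rw [Set.eq_empty_iff_forall_notMem]
      intro k hk
      have h1' : ∀ a ∈ A, a • k.1 = k.1 := by
        intro a ha
        have := hk ⟨a, ha⟩
        exact congrArg Subtype.val this
      have h2' : ψ k.1 = g₀ := hfix k.1 k.2.1 h1'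
      have h3' : ψ k.1 = 1 := k.2.2
      exact hg₀ne (h2'.symm.trans h3')
    rw [hempty, hcardY] at hmod
    have h0 : Nat.card (∅ : Set Y) = 0 := by simp
    rw [h0] at hmod
    exact Nat.even_iff.2 hmod
  have hsum2 := Finset.card_filter_add_card_filter_not (s := Fix) (fun k => ψ k = 1)
  have hNodd : Odd (Fix.filter (fun k => ¬ ψ k = 1)).card := by
    rcases Nat.even_or_odd (Fix.filter (fun k => ¬ ψ k = 1)).card with h | h
    · rw [← hsum2] at hFixodd
      exact absurd (hTeven.add h) (Nat.not_even_iff_odd.2 hFixodd)
    · exact h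
  rw [h2, h3]
  obtain ⟨m, hm⟩ := hNodd
  rw [hm, pow_succ, pow_mul, pow_two, hg₀, one_pow, one_mul]

end Parity

end Cfsg.Agent.Lib.H25.Bis
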