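import Cfsg.Agent.Lib.H25.BisStable

set_option autoImplicit false

/-!
Bisets for fusion systems (helper25): every fusion system over a finite group `S` is realized in
the finite group of automorphisms of a stable biset as a right `S`-set (Park).
-/

namespace Cfsg.Agent.Lib.H25.Bis

open Cfsg Cfsg.FusionSystem Cfsg.Agent.Lib.H25 Cfsg.Agent.Lib.H25.GSet Cfsg.Agent.Lib.H25.PP
open MulAction

universe u

variable {Ω : Type u} [Group Ω] {S : Subgroup Ω}

/-- The permutations of `X` commuting with the right action of `S`. -/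
def REq (X : Type*) [MulAction (↥S × ↥S) X] : Subgroup (Equiv.Perm X) where
  carrier := {σ | ∀ (b : ↥S) (z : X), σ (((1 : ↥S), b) • z) = ((1 : ↥S), b) • σ z}
  mul_mem' := by
    intro σ τ hσ hτ b z
    show σ (τ _) = _ • σ (τ z)
    rw [hτ, hσ]
  one_mem' := fun _ _ => rfl
  inv_mem' := by
    intro σ hσ b z
    apply σ.injective
    rw [hσ]
    simp

theorem mem_REq {X : Type*} [MulAction (↥S × ↥S) X] {σ : Equiv.Perm X} :
    σ ∈ REq (S := S) X ↔ ∀ (b : ↥S) (z : X), σ (((1 : ↥S), b) • z) = ((1 : ↥S), b) • σ z :=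
  Iff.rfl

/-- Left multiplication, as a homomorphism to the permutations commuting with the right action. -/
def leftHom (X : Type*) [MulAction (↥S × ↥S) X] : ↥S →* ↥(REq (S := S) X) :=
  MonoidHom.codRestrict ((MulAction.toPermHom (↥S × ↥S) X).comp (MonoidHom.inl ↥S ↥S)) _
    (fun a b z => by
      show ((a, (1 : ↥S)) : ↥S × ↥S) • (((1 : ↥S), b) : ↥S × ↥S) • z =
        (((1 : ↥S), b) : ↥S × ↥S) • ((a, (1 : ↥S)) : ↥S × ↥S) • z
      rw [← mul_smul, ← mul_smul]
      congr 1
      apply Prod.ext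
      · show a * 1 = 1 * a
        rw [mul_one, one_mul]
      · show 1 * b = b * 1
        rw [mul_one, one_mul])

theorem leftHom_apply {X : Type*} [MulAction (↥S × ↥S) X] (a : ↥S) (z : X) :
    ((leftHom X a : ↥(REq (S := S) X)) : Equiv.Perm X) z = ((a, (1 : ↥S)) : ↥S × ↥S) • z := rfl

/-- A twisted diagonal subgroup containing the diagonal of `S` is the diagonal of `S`. -/
theorem eq_diag_of_le [Finite S] {F : FusionSystem S} {D : Subgroup (↥S × ↥S)} (hD : FType F D)
    (hle : diag (S := S) S ≤ D) : D = diag (S := S) S := by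
  symm
  apply Subgroup.eq_of_le_of_card_ge hle
  rw [(isGraph_diag (S := S) S).card_eq (F := F) (IsIso.refl le_rfl)]
  exact hD.card_le

theorem mem_diag_self {x : ↥S × ↥S} : x ∈ diag (S := S) S ↔ x.2 = x.1 := by
  constructor
  · rintro ⟨-, h⟩
    exact Subtype.ext h
  · intro h
    exact ⟨x.1.2, congrArg Subtype.val h⟩

/-- **Realization of an arbitrary fusion system in a finite group.** -/
theorem exists_realization [Finite S] (F : FusionSystem S) :
    ∃ (G : Type u) (_ : Group G) (_ : Finite G) (ι : ↥S →* G), F.IsRealizedBy ι := by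
  obtain ⟨L, hLT, hLstab, hLpos⟩ := exists_stableBiset F
  have hX : ∀ z : XL L, FType F (stabilizer (↥S × ↥S) z) := fType_stabilizer_XL hLT
  have hstab : ∀ D D' : Subgroup (↥S × ↥S), FType F D → FType F D' →
      F.IsConj (src D) (src D') → fp (XL L) D = fp (XL L) D' := by
    intro D D' hD hD' hc
    rw [fp_XL, fp_XL]
    exact hLstab D D' hD hD' hc
  -- the base point
  have hz₀ : ∃ z₀ : XL L, stabilizer (↥S × ↥S) z₀ = diag (S := S) S := by
    rw [← fp_XL] at hLpos
    unfold fp at hLpos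
    obtain ⟨z₀, hz₀⟩ := (Set.ncard_pos (Set.toFinite _)).1 hLpos
    exact ⟨z₀, eq_diag_of_le (hX z₀) (mem_Fix_iff_le.1 hz₀)⟩
  obtain ⟨z₀, hz₀⟩ := hz₀
  have hz₀mem : ∀ x : ↥S × ↥S, x • z₀ = z₀ ↔ x.2 = x.1 := by
    intro x
    rw [← mem_stabilizer_iff, hz₀, mem_diag_self]
  refine ⟨↥(REq (S := S) (XL L)), inferInstance, inferInstance, leftHom (XL L), ?_, ?_⟩
  · -- injectivity
    intro a a' h
    have h1 : ((a, (1 : ↥S)) : ↥S × ↥S) • z₀ = ((a', (1 : ↥S)) : ↥S × ↥S) • z₀ := by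
      rw [← leftHom_apply, ← leftHom_apply, h]
    have h2 : ((a'⁻¹ * a, (1 : ↥S)) : ↥S × ↥S) • z₀ = z₀ := by
      have e : ((a'⁻¹ * a, (1 : ↥S)) : ↥S × ↥S) =
          ((a', (1 : ↥S)) : ↥S × ↥S)⁻¹ * ((a, (1 : ↥S)) : ↥S × ↥S) := by
        apply Prod.ext
        · rfl
        · show (1 : ↥S) = 1⁻¹ * 1
          simp
      rw [e, mul_smul, h1, inv_smul_smul]
    have h3 := (hz₀mem _).1 h2
    have h4 : (1 : ↥S) = a'⁻¹ * a := h3
    calc a = a' * (a'⁻¹ * a) := by group
      _ = a' := by rw [← h4, mul_one]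
  · intro P hP φ hφ
    constructor
    · -- maps of the system are conjugations
      intro hφF
      have hf : IsIso F P φ.range (ext1 φ) := isIso_of_mem F hφF
      obtain ⟨e, he⟩ := exists_equiv_of_isIso hX hstab hf
      have heR : e ∈ REq (S := S) (XL L) := by
        intro b z
        have := he 1 P.one_mem b z
        rw [this]
        congr 1
        apply Prod.ext
        · apply Subtype.ext
          show ext1 φ ((1 : ↥S) : Ω) = ((1 : ↥S) : Ω)
          rw [Subgroup.coe_one, hf.map_one]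
        · rfl
      refine ⟨⟨e, heR⟩, fun x => ?_⟩
      rw [eq_mul_inv_iff_mul_eq]
      apply Subtype.ext
      apply Equiv.ext
      intro z
      show ((⟨φ x, hφ x⟩, (1 : ↥S)) : ↥S × ↥S) • e z = e (((⟨x, hP x.2⟩, (1 : ↥S)) : ↥S × ↥S) • z)
      rw [he ⟨x, hP x.2⟩ x.2 1 z]
      congr 1
      apply Prod.ext
      · apply Subtype.ext
        show φ x = ext1 φ x
        rw [ext1_apply]
      · rfl
    · -- conjugations are maps of the system
      rintro ⟨g, hg⟩
      obtain ⟨P₁, Q₁, f₁, hf₁, hgr₁⟩ := hX ((g : Equiv.Perm (XL L)) z₀)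
      have hgR := g.2
      have key : ∀ x : P, φ x ∈ P₁ ∧ (x : Ω) = f₁ (φ x) := by
        intro x
        have h1 := hg x
        rw [eq_mul_inv_iff_mul_eq] at h1
        have h2 : ((⟨φ x, hφ x⟩, (1 : ↥S)) : ↥S × ↥S) • (g : Equiv.Perm (XL L)) z₀ =
            (g : Equiv.Perm (XL L)) (((⟨x, hP x.2⟩, (1 : ↥S)) : ↥S × ↥S) • z₀) := by
          have := congrArg (fun σ : ↥(REq (S := S) (XL L)) => (σ : Equiv.Perm (XL L)) z₀) h1
          exact this
        have h3 : ((⟨x, hP x.2⟩, (1 : ↥S)) : ↥S × ↥S) • z₀ =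
            (((1 : ↥S), (⟨x, hP x.2⟩ : ↥S)⁻¹) : ↥S × ↥S) • z₀ := by
          have h4 : (((⟨x, hP x.2⟩ : ↥S), (⟨x, hP x.2⟩ : ↥S)) : ↥S × ↥S) • z₀ = z₀ :=
            (hz₀mem _).2 rfl
          conv_rhs => rw [← h4]
          rw [← mul_smul]
          congr 1
          apply Prod.ext
          · show _ = 1 * _
            rw [one_mul]
          · show (1 : ↥S) = _⁻¹ * _
            rw [inv_mul_cancel]
        rw [h3, mem_REq.1 hgR] at h2
        have h5 : (((⟨φ x, hφ x⟩ : ↥S), (⟨x, hP x.2⟩ : ↥S)) : ↥S × ↥S) •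
            (g : Equiv.Perm (XL L)) z₀ = (g : Equiv.Perm (XL L)) z₀ := by
          have e : (((⟨φ x, hφ x⟩ : ↥S), (⟨x, hP x.2⟩ : ↥S)) : ↥S × ↥S) =
              (((1 : ↥S), (⟨x, hP x.2⟩ : ↥S)) : ↥S × ↥S) * ((⟨φ x, hφ x⟩, (1 : ↥S)) : ↥S × ↥S) := by
            apply Prod.ext
            · show _ = 1 * _
              rw [one_mul]
            · show _ = _ * 1
              rw [mul_one]
          rw [e, mul_smul, h2, ← mul_smul]
          have e2 : (((1 : ↥S), (⟨x, hP x.2⟩ : ↥S)) : ↥S × ↥S) *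
              (((1 : ↥S), (⟨x, hP x.2⟩ : ↥S)⁻¹) : ↥S × ↥S) = 1 := by
            apply Prod.ext
            · show (1 : ↥S) * 1 = 1
              rw [mul_one]
            · show (⟨x, hP x.2⟩ : ↥S) * (⟨x, hP x.2⟩ : ↥S)⁻¹ = 1
              rw [mul_inv_cancel]
          rw [e2, one_smul]
        have h6 := (hgr₁ _).1 (mem_stabilizer_iff.2 h5)
        exact h6
      -- `φ` is the inverse of the restriction of `f₁` to `φ(P)`
      have hR : φ.range ≤ P₁ := by
        rintro _ ⟨x, rfl⟩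
        exact (key x).1
      have hiso : IsIso F φ.range P f₁ := by
        refine hf₁.restrict' hR ?_ ?_
        · rintro _ ⟨x, rfl⟩
          rw [← (key x).2]
          exact x.2
        · intro y hy
          exact ⟨φ ⟨y, hy⟩, ⟨⟨y, hy⟩, rfl⟩, ((key ⟨y, hy⟩).2).symm⟩
      obtain ⟨k, hk, hk1, -⟩ := hiso.symm
      refine mem_hom_of_isIso F hk (fun x => ?_)
      have := hk1 (φ x) ⟨x, rfl⟩
      rw [← (key x).2] at this
      exact this.symm

end Cfsg.Agent.Lib.H25.Bis
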