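import Cfsg.Agent.Lib.H25.BisChar

set_option autoImplicit false

/-!
Bisets for fusion systems (helper25): a stable biset for an arbitrary fusion system (not
necessarily saturated), and the equivalences of a stable biset given by the isomorphisms of the
system.
-/

namespace Cfsg.Agent.Lib.H25.Bis

open Cfsg Cfsg.FusionSystem Cfsg.Agent.Lib.H25 Cfsg.Agent.Lib.H25.GSet Cfsg.Agent.Lib.H25.PP
open MulAction

variable {Ω : Type*} [Group Ω] {S : Subgroup Ω} {F : FusionSystem S}

theorem diag_eq_graphAut : diag (S := S) S = graphAut (1 : MulAut ↥S) := by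
  ext x
  rw [mem_graphAut]
  constructor
  · rintro ⟨-, h⟩
    exact Subtype.ext h
  · intro h
    exact ⟨x.1.2, congrArg Subtype.val h⟩

/-- The step for an arbitrary fusion system: after repeating the list `|S × S|` times all the
congruences hold trivially. -/
theorem gen_step [Finite S] (m : ℕ) (L : List (Subgroup (↥S × ↥S)))
    (hL : ∀ D ∈ L, FType F D ∧ m < Nat.card D)
    (hstab : ∀ D D' : Subgroup (↥S × ↥S), FType F D → FType F D' → F.IsConj (src D) (src D') →
      m < Nat.card D → fpL L D = fpL L D') :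
    ∃ L' : List (Subgroup (↥S × ↥S)), (∀ D ∈ L', FType F D ∧ m ≤ Nat.card D) ∧
      (∀ D D' : Subgroup (↥S × ↥S), FType F D → FType F D' → F.IsConj (src D) (src D') →
        m ≤ Nat.card D → fpL L' D = fpL L' D') ∧
      ∀ H : Subgroup (↥S × ↥S), fpL L H ≤ fpL L' H := by
  set N := Nat.card (↥S × ↥S) with hN
  have hNpos : 0 < N := Nat.card_pos
  set L₁ := (List.replicate N L).flatten with hL₁
  have hL₁mem : ∀ D ∈ L₁, D ∈ L := by
    intro D hD
    rw [hL₁, List.mem_flatten] at hD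
    obtain ⟨l, hl, hDl⟩ := hD
    rw [List.mem_replicate] at hl
    rw [hl.2] at hDl
    exact hDl
  have hfp : ∀ H, fpL L₁ H = N * fpL L H := fun H => fpL_flatten_replicate N L H
  obtain ⟨Lnew, h1, h2⟩ := step {D | FType F D} (fun D hD g => FType.cj hD g) (Cls F)
    (fun D D' h => h.card_eq) (fun D hD g => ⟨hD, hD.cj g, (hD.cj' g).2⟩) m L₁
    (fun D hD => hL D (hL₁mem D hD))
    (fun D hD D' hD' hc hm => by
      rw [hfp, hfp, hstab D D' hD hD' hc.2.2 hm])
    (fun _ => 0) (fun _ _ _ _ _ _ => rfl)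
    (fun D _ _ => by
      rw [hfp]
      exact (Nat.modEq_zero_iff_dvd).2 (Dvd.dvd.mul_right (w_dvd_card D) _))
  refine ⟨L₁ ++ Lnew, ?_, fun D D' hD hD' hc hm => h2 D hD D' hD' ⟨hD, hD', hc⟩ hm, ?_⟩
  · intro D hD
    rw [List.mem_append] at hD
    rcases hD with hD | hD
    · exact ⟨(hL D (hL₁mem D hD)).1, (hL D (hL₁mem D hD)).2.le⟩
    · exact ⟨(h1 D hD).1, (h1 D hD).2.ge⟩
  · intro H
    rw [fpL_append, hfp]
    calc fpL L H = 1 * fpL L H := (one_mul _).symm
      _ ≤ N * fpL L H := Nat.mul_le_mul_right _ hNpos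
      _ ≤ _ := Nat.le_add_right _ _

/-- **A stable biset for an arbitrary fusion system**, containing a point fixed by the diagonal
of `S`. -/
theorem exists_stableBiset [Finite S] (F : FusionSystem S) :
    ∃ L : List (Subgroup (↥S × ↥S)), (∀ D ∈ L, FType F D) ∧
      (∀ D D' : Subgroup (↥S × ↥S), FType F D → FType F D' → F.IsConj (src D) (src D') →
        fpL L D = fpL L D') ∧ 0 < fpL L (diag (S := S) S) := by
  have hpos : 0 < Nat.card S := Nat.card_pos
  have key : ∀ k : ℕ, k + 1 ≤ Nat.card S →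
      ∃ L : List (Subgroup (↥S × ↥S)), (∀ D ∈ L, FType F D ∧ Nat.card S - 1 - k < Nat.card D) ∧
        (∀ D D' : Subgroup (↥S × ↥S), FType F D → FType F D' → F.IsConj (src D) (src D') →
          Nat.card S - 1 - k < Nat.card D → fpL L D = fpL L D') ∧
        0 < fpL L (diag (S := S) S) := by
    intro k
    induction k with
    | zero =>
      intro _
      obtain ⟨L, hL1, hL2, -⟩ := exists_topList F
      refine ⟨L, fun D hD => ⟨(hL1 D hD).1, by rw [(hL1 D hD).2]; omega⟩, ?_, ?_⟩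
      · intro D D' hD hD' hc hm
        have h1 : Nat.card D = Nat.card S := by
          have := hD.card_le
          omega
        have h2 : Nat.card D' = Nat.card S := by
          rw [← h1]
          exact (Cls.card_eq ⟨hD, hD', hc⟩).symm
        obtain ⟨β, hβ, rfl⟩ := exists_eq_graphAut hD h1
        obtain ⟨β', hβ', rfl⟩ := exists_eq_graphAut hD' h2
        rw [hL2 β hβ, hL2 β' hβ']
      · rw [diag_eq_graphAut, hL2 1 (Subgroup.one_mem _)]
        exact w_pos _
    | succ k ih =>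
      intro hk
      obtain ⟨L, hL1, hL2, hL3⟩ := ih (by omega)
      obtain ⟨L', hn1, hn2, hn3⟩ := gen_step (Nat.card S - 1 - k) L hL1 hL2
      refine ⟨L', ?_, ?_, lt_of_lt_of_le hL3 (hn3 _)⟩
      · intro D hD
        exact ⟨(hn1 D hD).1, by have := (hn1 D hD).2; omega⟩
      · intro D D' hD hD' hc hm
        exact hn2 D D' hD hD' hc (by omega)
  obtain ⟨L, hL1, hL2, hL3⟩ := key (Nat.card S - 1) (by omega)
  refine ⟨L, fun D hD => (hL1 D hD).1, ?_, hL3⟩
  intro D D' hD hD' hc
  apply hL2 D D' hD hD' hc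
  have : 0 < Nat.card D := Nat.card_pos
  omega

/-- **Stability as an equivalence**: an isomorphism of the system gives an equivalence of a stable
set twisting the left action. -/
theorem exists_equiv_of_isIso [Finite S] {X : Type*} [MulAction (↥S × ↥S) X] [Finite X]
    (hX : ∀ z : X, FType F (stabilizer (↥S × ↥S) z))
    (hstab : ∀ D D' : Subgroup (↥S × ↥S), FType F D → FType F D' → F.IsConj (src D) (src D') →
      fp X D = fp X D')
    {P Q : Subgroup Ω} {f : Ω → Ω} (hf : IsIso F P Q f) :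
    ∃ e : X ≃ X, ∀ (x : ↥S) (hx : (x : Ω) ∈ P) (b : ↥S) (z : X),
      e ((x, b) • z) = ((⟨f x, hf.le_right (hf.map_mem hx)⟩ : ↥S), b) • e z := by
  let K : Subgroup (↥S × ↥S) := (P.subgroupOf S).prod ⊤
  have hK₁ : ∀ x ∈ K, (x.1 : Ω) ∈ P := fun x hx => Subgroup.mem_subgroupOf.1 hx.1
  have hK₂ : ∀ x ∈ K, (x.2 : Ω) ∈ S := fun x _ => x.2.2
  have h₂ : IsIso F S S id := IsIso.refl le_rfl
  obtain ⟨e, he⟩ := marks_equiv (X := X) K.subtype (prodHom hf h₂ K hK₁ hK₂) (fun E =>
    fp_map_prodHom hX 0 (fun D D' hD hD' hc _ => hstab D D' hD hD' hc) hf h₂ K hK₁ hK₂ E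
      Nat.card_pos)
  refine ⟨e, fun x hx b z => ?_⟩
  have hk : ((x, b) : ↥S × ↥S) ∈ K := ⟨Subgroup.mem_subgroupOf.2 hx, Subgroup.mem_top _⟩
  exact he ⟨(x, b), hk⟩ z

end Cfsg.Agent.Lib.H25.Bis
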