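import Mathlib
import Cfsg.Agent.Lib.H10.PGroup

set_option autoImplicit false

/-!
Finite `p`-groups (helper25): below a normal subgroup `B` and above a smaller normal subgroup `A`
there is a normal subgroup `N < B` with `B / N` central of exponent `p`.
-/

namespace Cfsg.Agent.Lib.H25

theorem exists_central_chief {G : Type*} [Group G] [Finite G] {p : ℕ} [hp : Fact p.Prime]
    (hG : IsPGroup p G) (A B : Subgroup G) [hAn : A.Normal] [hBn : B.Normal] (hAB : A < B) :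
    ∃ N : Subgroup G, N.Normal ∧ A ≤ N ∧ N < B ∧ (∀ b ∈ B, ∀ g : G, g * b * g⁻¹ * b⁻¹ ∈ N) ∧
      ∀ b ∈ B, b ^ p ∈ N := by
  obtain ⟨N, -, hNmax⟩ := Finite.exists_le_maximal
    (p := fun N : Subgroup G => N.Normal ∧ A ≤ N ∧ N < B) (a := A) ⟨hAn, le_rfl, hAB⟩
  obtain ⟨⟨hNn, hAN, hNB⟩, hmax⟩ := hNmax
  haveI := hNn
  let π : G →* G ⧸ N := QuotientGroup.mk' N
  have hπs : Function.Surjective π := QuotientGroup.mk'_surjective N
  have hker : ∀ x : G, π x = 1 ↔ x ∈ N := fun x => QuotientGroup.eq_one_iff x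
  have hQ : IsPGroup p (G ⧸ N) := hG.to_quotient N
  haveI hBbar : (B.map π).Normal := hBn.map π hπs
  have hBne : B.map π ≠ ⊥ := by
    intro h
    apply hNB.not_ge
    intro b hb
    rw [← hker]
    have : π b ∈ B.map π := Subgroup.mem_map_of_mem π hb
    rw [h, Subgroup.mem_bot] at this
    exact this
  obtain ⟨x, hxB, hx1, hxc⟩ := Cfsg.Agent.Lib.H10.exists_ne_one_mem_center_of_normal hQ _ hBne
  set K : Subgroup (G ⧸ N) := B.map π ⊓ Subgroup.center (G ⧸ N) with hK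
  have hKnt : Nontrivial K := by
    rw [Subgroup.nontrivial_iff_exists_ne_one]
    exact ⟨x, ⟨hxB, hxc⟩, hx1⟩
  have hKp : IsPGroup p K := hQ.to_subgroup K
  have hdvd : p ∣ Nat.card K := by
    obtain ⟨n, hn0, hn⟩ := hKp.nontrivial_iff_card.mp hKnt
    exact hn.symm ▸ dvd_pow_self _ (ne_of_gt hn0)
  obtain ⟨z, hz⟩ := exists_prime_orderOf_dvd_card' p hdvd
  have hz₀ : orderOf (z : G ⧸ N) = p := by rw [Subgroup.orderOf_coe]; exact hz
  have hzB : (z : G ⧸ N) ∈ B.map π := z.2.1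
  have hzc : (z : G ⧸ N) ∈ Subgroup.center (G ⧸ N) := z.2.2
  have hz1 : (z : G ⧸ N) ≠ 1 := by
    intro h
    rw [h, orderOf_one] at hz₀
    exact hp.out.one_lt.ne hz₀
  have hzp : (z : G ⧸ N) ^ p = 1 := by rw [← hz₀]; exact pow_orderOf_eq_one _
  set Z : Subgroup (G ⧸ N) := Subgroup.zpowers (z : G ⧸ N) with hZ
  have hZc : Z ≤ Subgroup.center (G ⧸ N) := by
    rw [hZ, Subgroup.zpowers_le]
    exact hzc
  have hZB : Z ≤ B.map π := by
    rw [hZ, Subgroup.zpowers_le]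
    exact hzB
  haveI hZn : Z.Normal := by
    refine ⟨fun n hn g => ?_⟩
    have hc := Subgroup.mem_center_iff.1 (hZc hn) g
    have : g * n * g⁻¹ = n := by rw [hc]; group
    rwa [this]
  have hN₁n : (Z.comap π).Normal := hZn.comap π
  have hNN₁ : N ≤ Z.comap π := by
    intro y hy
    rw [Subgroup.mem_comap, (hker y).2 hy]
    exact Z.one_mem
  have hN₁B : Z.comap π ≤ B := by
    intro y hy
    obtain ⟨b, hb, hby⟩ := hZB (Subgroup.mem_comap.1 hy)
    have h1 : π (b⁻¹ * y) = 1 := by rw [map_mul, map_inv, hby, inv_mul_cancel]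
    have h2 : b⁻¹ * y ∈ B := hNB.le ((hker _).1 h1)
    have h3 := B.mul_mem hb h2
    rwa [mul_inv_cancel_left] at h3
  have hN₁eq : Z.comap π = B := by
    by_contra hne
    have hlt : Z.comap π < B := lt_of_le_of_ne hN₁B hne
    have hle := hmax ⟨hN₁n, hAN.trans hNN₁, hlt⟩ hNN₁
    obtain ⟨y, hy⟩ := hπs (z : G ⧸ N)
    have hyN₁ : y ∈ Z.comap π := by
      rw [Subgroup.mem_comap, hy]
      exact Subgroup.mem_zpowers _
    have := (hker y).2 (hle hyN₁)
    rw [hy] at this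
    exact hz1 this
  have hBZ : ∀ b ∈ B, π b ∈ Z := by
    intro b hb
    rw [← hN₁eq] at hb
    exact Subgroup.mem_comap.1 hb
  refine ⟨N, hNn, hAN, hNB, ?_, ?_⟩
  · intro b hb g
    rw [← hker]
    have hc := Subgroup.mem_center_iff.1 (hZc (hBZ b hb)) (π g)
    rw [map_mul, map_mul, map_mul, map_inv, map_inv, hc]
    group
  · intro b hb
    rw [← hker, map_pow]
    obtain ⟨i, hi⟩ := Subgroup.mem_zpowers_iff.1 (hBZ b hb)
    rw [← hi, ← zpow_natCast, ← zpow_mul, mul_comm, zpow_mul, zpow_natCast, hzp, one_zpow]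

end Cfsg.Agent.Lib.H25
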