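import Cfsg.Agent.Lib.H25.BisExt
import Cfsg.Agent.Lib.H25.PGroupChief
import Cfsg.Agent.Lib.H1.PGroupBasic
import Cfsg.Agent.S5092

set_option autoImplicit false

/-!
Tate's theorem for fusion systems (helper25): if the elementary focal subgroups of a saturated
system and of a saturated subsystem over the same group agree, so do the hyperfocal subgroups.
-/

namespace Cfsg.Agent.Lib.H25.Bis

open Cfsg Cfsg.FusionSystem Cfsg.Agent.Lib.H25 Cfsg.Agent.Lib.H25.GSet Cfsg.Agent.Lib.H25.PP
open scoped commutatorElement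

variable {Ω : Type*} [Group Ω] {S : Subgroup Ω}

theorem hyp_le_focal [Finite S] {p : ℕ} [Fact p.Prime] (hS : IsPGroup p S) {F : FusionSystem S}
    (hF : F.IsSaturated p) : F.hyperfocalSubgroup p ≤ F.focalSubgroup := by
  rw [Cfsg.Agent.S5092.result p hS F hF]
  exact le_sup_left

/-- **Tate's theorem**, the main implication. -/
theorem tate_main [Finite S] {p : ℕ} [hp : Fact p.Prime] (hS : IsPGroup p S)
    {F H : FusionSystem S} (hF : F.IsSaturated p) (hH : H.IsSaturated p)
    (hHF : H.IsSubsystemOf F)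
    (heq : (frattini ↥S).map S.subtype ⊔ F.focalSubgroup =
      (frattini ↥S).map S.subtype ⊔ H.focalSubgroup) :
    F.hyperfocalSubgroup p = H.hyperfocalSubgroup p := by
  have hAB : H.hyperfocalSubgroup p ≤ F.hyperfocalSubgroup p := hyp_mono p le_rfl hHF
  by_contra hne
  have hle : hypS H p ≤ hypS F p := Subgroup.comap_mono hAB
  have hlt : hypS H p < hypS F p := by
    refine lt_of_le_of_ne hle (fun h => hne ?_)
    apply le_antisymm _ hAB
    intro y hy
    have hyS : y ∈ S := hyperfocal_le F p hy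
    have h1 : (⟨y, hyS⟩ : ↥S) ∈ hypS F p := Subgroup.mem_subgroupOf.2 hy
    rw [← h] at h1
    exact Subgroup.mem_subgroupOf.1 h1
  obtain ⟨N, hNn, hAN, hNB, hcomm, hpow⟩ := exists_central_chief hS (hypS H p) (hypS F p) hlt
  haveI := hNn
  let π : ↥S →* ↥S ⧸ N := QuotientGroup.mk' N
  have hker : ∀ x : ↥S, π x = 1 ↔ x ∈ N := fun x => QuotientGroup.eq_one_iff x
  letI : CommGroup ↥((hypS F p).map π) :=
    { (inferInstance : Group ↥((hypS F p).map π)) with
      mul_comm := by
        rintro ⟨_, a, ha, rfl⟩ ⟨_, b, hb, rfl⟩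
        apply Subtype.ext
        show π a * π b = π b * π a
        rw [← commutatorElement_eq_one_iff_mul_comm, ← map_commutatorElement, hker,
          commutatorElement_def]
        exact hcomm b hb a }
  classical
  let t : ↥S → ↥((hypS F p).map π) := fun x =>
    if hx : x ∈ hypS F p then ⟨π x, Subgroup.mem_map_of_mem π hx⟩ else 1
  have ht : ∀ (x : ↥S) (hx : x ∈ hypS F p), t x = ⟨π x, Subgroup.mem_map_of_mem π hx⟩ := by
    intro x hx
    simp only [t, dif_pos hx]
  have ht_mul : ∀ x ∈ hypS F p, ∀ y ∈ hypS F p, t (x * y) = t x * t y := by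
    intro x hx y hy
    rw [ht x hx, ht y hy, ht (x * y) (Subgroup.mul_mem _ hx hy)]
    apply Subtype.ext
    exact map_mul π x y
  have ht_conj : ∀ (a : ↥S), ∀ x ∈ hypS F p, t (a * x * a⁻¹) = t x := by
    intro a x hx
    rw [ht x hx, ht (a * x * a⁻¹) ((hypS_normal F p).conj_mem x hx a)]
    apply Subtype.ext
    show π (a * x * a⁻¹) = π x
    have h1 := (hker _).2 (hcomm x hx a)
    rw [map_mul, map_inv, mul_inv_eq_one] at h1
    exact h1
  have htp : ∀ w : ↥((hypS F p).map π), w ^ p = 1 := by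
    rintro ⟨_, b, hb, rfl⟩
    apply Subtype.ext
    show (π b) ^ p = 1
    rw [← map_pow, hker]
    exact hpow b hb
  obtain ⟨g, n, hpn, hg⟩ := exists_extension hS hF t ht_mul ht_conj
  -- the kernel of `g`
  have hcK : commutator ↥S ≤ g.ker := Abelianization.commutator_subset_ker g
  have hΦ : frattini ↥S ≤ g.ker := by
    apply Cfsg.Agent.Lib.H1.frattini_le_of_commutator_le_of_pow_mem (p := p) g.ker hcK
    intro x
    rw [MonoidHom.mem_ker, map_pow]
    exact htp _
  have hHhyp : H.hyperfocalSubgroup p ≤ g.ker.map S.subtype := by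
    intro y hy
    have hyS : y ∈ S := hyperfocal_le H p hy
    have h1 : (⟨y, hyS⟩ : ↥S) ∈ hypS H p := Subgroup.mem_subgroupOf.2 hy
    have h2 : (⟨y, hyS⟩ : ↥S) ∈ hypS F p := hle h1
    refine ⟨⟨y, hyS⟩, ?_, rfl⟩
    rw [SetLike.mem_coe, MonoidHom.mem_ker, hg _ h2, ht _ h2]
    have h3 : π ⟨y, hyS⟩ = 1 := (hker _).2 (hAN h1)
    have h4 : (⟨π ⟨y, hyS⟩, Subgroup.mem_map_of_mem π h2⟩ : ↥((hypS F p).map π)) = 1 :=
      Subtype.ext h3
    rw [h4, one_pow, inv_one]
  have hcomS : ⁅(S : Subgroup Ω), (S : Subgroup Ω)⁆ ≤ g.ker.map S.subtype := by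
    rw [Subgroup.commutator_le]
    intro a ha b hb
    refine ⟨⁅(⟨a, ha⟩ : ↥S), (⟨b, hb⟩ : ↥S)⁆, hcK ?_, ?_⟩
    · rw [commutator_def]
      exact Subgroup.commutator_mem_commutator (Subgroup.mem_top _) (Subgroup.mem_top _)
    · simp [commutatorElement_def]
  have hHfoc : H.focalSubgroup ≤ g.ker.map S.subtype := by
    rw [Cfsg.Agent.S5092.result p hS H hH]
    exact sup_le hHhyp hcomS
  have hFfoc : F.focalSubgroup ≤ g.ker.map S.subtype := by
    have h1 : (frattini ↥S).map S.subtype ⊔ H.focalSubgroup ≤ g.ker.map S.subtype :=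
      sup_le (Subgroup.map_mono hΦ) hHfoc
    rw [← heq] at h1
    exact le_sup_right.trans h1
  have hFhyp : F.hyperfocalSubgroup p ≤ g.ker.map S.subtype := (hyp_le_focal hS hF).trans hFfoc
  -- contradiction: `B ≤ N`
  apply hNB.not_ge
  intro b hb
  obtain ⟨k, hk, hkb⟩ := hFhyp (Subgroup.mem_subgroupOf.1 hb)
  have hkb' : k = b := Subtype.ext hkb
  rw [hkb', SetLike.mem_coe, MonoidHom.mem_ker, hg b hb, inv_eq_one] at hk
  have h1 : orderOf (t b) ∣ n := orderOf_dvd_of_pow_eq_one hk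
  have h2 : orderOf (t b) ∣ p := orderOf_dvd_of_pow_eq_one (htp _)
  have h3 : orderOf (t b) = 1 := by
    rcases (Nat.dvd_prime hp.out).1 h2 with h | h
    · exact h
    · rw [h] at h1
      exact absurd h1 hpn
  rw [orderOf_eq_one_iff, ht b hb] at h3
  rw [← hker]
  exact congrArg Subtype.val h3

/-- **Tate's theorem for fusion systems.** -/
theorem tate [Finite S] {p : ℕ} [Fact p.Prime] (hS : IsPGroup p S)
    {F H : FusionSystem S} (hF : F.IsSaturated p) (hH : H.IsSaturated p)
    (hHF : H.IsSubsystemOf F) :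
    (((frattini ↥S).map S.subtype ⊔ F.focalSubgroup) =
        ((frattini ↥S).map S.subtype ⊔ H.focalSubgroup) ↔ F.focalSubgroup = H.focalSubgroup) ∧
      (F.focalSubgroup = H.focalSubgroup ↔ F.hyperfocalSubgroup p = H.hyperfocalSubgroup p) := by
  have h1 : F.hyperfocalSubgroup p = H.hyperfocalSubgroup p → F.focalSubgroup = H.focalSubgroup := by
    intro h
    rw [Cfsg.Agent.S5092.result p hS F hF, Cfsg.Agent.S5092.result p hS H hH, h]
  refine ⟨⟨fun h => h1 (tate_main hS hF hH hHF h), fun h => by rw [h]⟩,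
    ⟨fun h => tate_main hS hF hH hHF (by rw [h]), h1⟩⟩

end Cfsg.Agent.Lib.H25.Bis
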