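import Cfsg.Agent.Lib.H25.BisExt
import Cfsg.Agent.Lib.H25.BisParity
import Cfsg.Agent.S5092

set_option autoImplicit false

/-!
A Thompson-type transfer for saturated fusion systems (helper25), through a characteristic biset.
-/

namespace Cfsg.Agent.Lib.H25.Bis

open Cfsg Cfsg.FusionSystem Cfsg.Agent.Lib.H25 Cfsg.Agent.Lib.H25.GSet Cfsg.Agent.Lib.H25.PP
open MulAction

variable {Ω : Type*} [Group Ω] {S : Subgroup Ω}

/-- The transfer through a stable biset with twisted diagonal stabilizers kills the focal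
subgroup. -/
theorem focal_le_ker_transferHom [Finite S] {F : FusionSystem S}
    {X : Type*} [MulAction (↥S × ↥S) X] [Finite X]
    (hX : ∀ ω : X, FType F (stabilizer (↥S × ↥S) ω))
    (hstab : ∀ D D' : Subgroup (↥S × ↥S), FType F D → FType F D' →
      F.IsConj (src D) (src D') → fp X D = fp X D')
    {W : Type*} [CommGroup W] [Fintype (RO ↥S X)]
    (rep : RO ↥S X → X) (hrep : ∀ k, ro (rep k) = k) (hfree : RFree ↥S X) (t : ↥S →* W) :
    F.focalSubgroup ≤ (transferHom rep hrep hfree t).ker.map S.subtype := by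
  classical
  unfold focalSubgroup
  rw [Subgroup.closure_le]
  rintro _ ⟨P, φ, x, hφ, rfl⟩
  have hPS := hom_le F hφ
  have hiso : IsIso F P φ.range (ext1 φ) := isIso_of_mem F hφ
  obtain ⟨e, he⟩ := exists_equiv_of_isIso hX hstab hiso
  let fS : ↥S → ↥S := fun a =>
    if ha : (a : Ω) ∈ P then ⟨ext1 φ a, hiso.le_right (hiso.map_mem ha)⟩ else 1
  have hfS : ∀ (a : ↥S) (ha : (a : Ω) ∈ P),
      fS a = ⟨ext1 φ a, hiso.le_right (hiso.map_mem ha)⟩ := by
    intro a ha
    simp only [fS, dif_pos ha]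
  have hf1 : fS 1 = 1 := by
    rw [hfS 1 P.one_mem]
    apply Subtype.ext
    exact hiso.map_one
  have hxS : (x : Ω) ∈ S := hPS x.2
  have hφS : φ x ∈ S := hom_mem_S F hφ x
  have hst := transferX_stable rep hrep hfree t (P.subgroupOf S) fS hf1 e
    (fun v hv s ω => by
      have hv' : (v : Ω) ∈ P := Subgroup.mem_subgroupOf.1 hv
      rw [he v hv' s ω, hfS v hv'])
    ⟨x, hxS⟩ (Subgroup.mem_subgroupOf.2 x.2)
  have hfx : fS ⟨x, hxS⟩ = ⟨φ x, hφS⟩ := by
    rw [hfS _ x.2]
    apply Subtype.ext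
    exact ext1_apply φ x
  refine ⟨(⟨x, hxS⟩ : ↥S)⁻¹ * ⟨φ x, hφS⟩, ?_, rfl⟩
  rw [SetLike.mem_coe, MonoidHom.mem_ker, map_mul, map_inv]
  show (transferX rep t ⟨x, hxS⟩)⁻¹ * transferX rep t ⟨φ x, hφS⟩ = 1
  rw [← hfx, hst, inv_mul_cancel]

/-- Elements of the group generated by an involution. -/
theorem eq_one_or_eq_of_mem_zpowers {G : Type*} [Group G] {i y : G} (hi : orderOf i = 2)
    (hy : y ∈ Subgroup.zpowers i) : y = 1 ∨ y = i := by
  obtain ⟨m, rfl⟩ := Subgroup.mem_zpowers_iff.1 hy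
  rw [← zpow_mod_orderOf, hi]
  rcases Int.emod_two_eq_zero_or_one m with h | h
  · left
    rw [show (m % ((2 : ℕ) : ℤ)) = 0 from h, zpow_zero]
  · right
    rw [show (m % ((2 : ℕ) : ℤ)) = 1 from h, zpow_one]


/-- The image of a fully normalized subgroup under an isomorphism defined on its normalizer is
fully normalized. -/
theorem isFullyNormalized_map [Finite S] {F : FusionSystem S} {P Q : Subgroup Ω} {f : Ω → Ω}
    (hf : IsIso F P Q f) {R : Subgroup Ω} (hR : F.IsFullyNormalized R)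
    (hNP : normalizerIn S R ≤ P) {R' : Subgroup Ω} (hRR' : IsIso F R R' f) :
    F.IsFullyNormalized R' := by
  refine ⟨hRR'.le_right, fun Q' hQ' => ?_⟩
  have h1 := hR.2 Q' (isConj_trans F hRR'.isConj hQ')
  refine h1.trans ?_
  haveI : Finite R' := finite_of_le S hRR'.le_right
  have hRN : R ≤ normalizerIn S R := le_normalizerIn hR.1
  let k : normalizerIn S R → normalizerIn S R' := fun a =>
    ⟨f a, hf.le_right (hf.map_mem (hNP a.2)), mem_normalizer_of_conj_mem (fun y hy => by
      obtain ⟨x, hx, rfl⟩ := hRR'.surjOn hy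
      have hxP : x ∈ P := hNP (hRN hx)
      have haP : (a : Ω) ∈ P := hNP a.2
      have e : f a * f x * (f a)⁻¹ = f ((a : Ω) * x * (a : Ω)⁻¹) := by
        rw [hf.map_mul (P.mul_mem haP hxP) (P.inv_mem haP), hf.map_mul haP hxP, hf.map_inv haP]
      rw [e]
      exact hRR'.map_mem ((Subgroup.mem_normalizer_iff.1 a.2.2 x).1 hx))⟩
  have hk : Function.Injective k := by
    intro a b hab
    have : f a = f b := congrArg Subtype.val hab
    exact Subtype.ext (hf.injOn (hNP a.2) (hNP b.2) this)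
  haveI : Finite (normalizerIn S R') := finite_of_le S (inf_le_left : normalizerIn S R' ≤ S)
  exact Nat.card_le_card_of_injective k hk

/-- **A Thompson-type transfer**: an involution all of whose fully normalized conjugates lie
outside a subgroup `T` of index `2` is not in the hyperfocal subgroup. -/
theorem thompson_transfer [Finite S] (hS : IsPGroup 2 ↥S) {F : FusionSystem S}
    (hF : F.IsSaturated 2) (T : Subgroup Ω) (hT : T.relIndex S = 2)
    (i : Ω) (hi : i ∈ S) (hi2 : orderOf i = 2)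
    (h : ∀ j : Ω, F.IsConjElt i j → F.IsFullyNormalized (Subgroup.zpowers j) → j ∉ T) :
    i ∉ F.hyperfocalSubgroup 2 := by
  classical
  intro hih
  haveI : Fact (Nat.Prime 2) := ⟨Nat.prime_two⟩
  -- the quotient of order two
  set TS : Subgroup ↥S := T.subgroupOf S with hTS
  have hidx : TS.index = 2 := hT
  haveI hTn : TS.Normal := Subgroup.normal_of_index_eq_two hidx
  have hcardW : Nat.card (↥S ⧸ TS) = 2 := by rw [← Subgroup.index_eq_card]; exact hidx
  haveI : IsCyclic (↥S ⧸ TS) := isCyclic_of_prime_card hcardW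
  letI : CommGroup (↥S ⧸ TS) := IsCyclic.commGroup
  let t : ↥S →* ↥S ⧸ TS := QuotientGroup.mk' TS
  have ht1 : ∀ s : ↥S, t s = 1 ↔ s ∈ TS := fun s => QuotientGroup.eq_one_iff s
  obtain ⟨s₀, hs₀⟩ : ∃ s₀ : ↥S, s₀ ∉ TS := by
    by_contra hcon
    have htop : TS = ⊤ := by
      rw [eq_top_iff]
      intro x _
      by_contra hx
      exact hcon ⟨x, hx⟩
    rw [htop, Subgroup.index_top] at hidx
    exact absurd hidx (by norm_num)
  have hg₀ne : t s₀ ≠ 1 := fun hh' => hs₀ ((ht1 s₀).1 hh')
  have hg₀2 : t s₀ * t s₀ = 1 := by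
    rw [← map_mul, ht1, Subgroup.mul_mem_iff_of_index_two hidx]
  have htval : ∀ s : ↥S, s ∉ TS → t s = t s₀ := by
    intro s hs
    have h1 : s₀⁻¹ * s ∈ TS := by
      rw [Subgroup.mul_mem_iff_of_index_two hidx, Subgroup.inv_mem_iff]
      exact ⟨fun h' => absurd h' hs₀, fun h' => absurd h' hs⟩
    have h2 := (ht1 _).2 h1
    rw [map_mul, map_inv, inv_mul_eq_one] at h2
    exact h2.symm
  -- the biset
  obtain ⟨L, hLT, hLstab, n, hn, hpn⟩ := exists_charBiset hS hF
  have hX : ∀ ω : XL L, FType F (stabilizer (↥S × ↥S) ω) := fType_stabilizer_XL hLT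
  have hstab : ∀ D D' : Subgroup (↥S × ↥S), FType F D → FType F D' →
      F.IsConj (src D) (src D') → fp (XL L) D = fp (XL L) D' := by
    intro D D' hD hD' hc
    rw [fp_XL, fp_XL]
    exact hLstab D D' hD hD' hc
  have hfree : RFree ↥S (XL L) := rFree_of_fType hX
  haveI : Fintype (RO ↥S (XL L)) := Fintype.ofFinite _
  let rep : RO ↥S (XL L) → XL L := fun k => Quotient.out k
  have hrep : ∀ k, ro (rep k) = k := fun k => Quotient.out_eq k
  have hcard : Fintype.card (RO ↥S (XL L)) = n := by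
    have h1 := card_eq_mul rep hrep hfree
    rw [hn] at h1
    have h2 : Nat.card (RO ↥S (XL L)) = Fintype.card (RO ↥S (XL L)) := Nat.card_eq_fintype_card
    rw [h2] at h1
    exact (Nat.eq_of_mul_eq_mul_right Nat.card_pos h1).symm
  have hτfoc := focal_le_ker_transferHom hX hstab rep hrep hfree t
  -- a fully normalized conjugate of `i`
  have hZS : Subgroup.zpowers i ≤ S := (Subgroup.zpowers_le).2 hi
  obtain ⟨Q, hQc, hQfn⟩ := exists_fullyNormalized_conj F hZS
  obtain ⟨φ, hφ, hφr⟩ := hQc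
  set i' : Ω := φ ⟨i, Subgroup.mem_zpowers i⟩ with hi'
  have hi'S : i' ∈ S := hom_mem_S F hφ _
  have hi'2 : orderOf i' = 2 := by
    rw [hi', orderOf_injective φ (F.injective_of_mem hφ), Subgroup.orderOf_mk, hi2]
  have hQeq : Q = Subgroup.zpowers i' := by
    rw [← hφr]
    apply le_antisymm
    · rintro _ ⟨x, rfl⟩
      rcases eq_one_or_eq_of_mem_zpowers hi2 x.2 with hx | hx
      · have : x = 1 := Subtype.ext hx
        rw [this, map_one]
        exact Subgroup.one_mem _
      · have : x = ⟨i, Subgroup.mem_zpowers i⟩ := Subtype.ext hx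
        rw [this]
        exact Subgroup.mem_zpowers _
    · rw [Subgroup.zpowers_le]
      exact ⟨_, rfl⟩
  rw [hQeq] at hQfn
  have hiso_i : IsIso F (Subgroup.zpowers i) (Subgroup.zpowers i') (ext1 φ) := by
    have := isIso_of_mem F hφ
    rwa [hφr, hQeq] at this
  -- the transfer vanishes on `i'`
  have hτi' : transferX rep t ⟨i', hi'S⟩ = 1 := by
    have h1 : i ∈ (transferHom rep hrep hfree t).ker.map S.subtype :=
      hτfoc ((show F.hyperfocalSubgroup 2 ≤ F.focalSubgroup by
        rw [Cfsg.Agent.S5092.result 2 hS F hF]; exact le_sup_left) hih)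
    have h2 : i⁻¹ * i' ∈ (transferHom rep hrep hfree t).ker.map S.subtype := by
      apply hτfoc
      exact Subgroup.subset_closure ⟨Subgroup.zpowers i, φ, ⟨i, Subgroup.mem_zpowers i⟩, hφ, rfl⟩
    have h3 := Subgroup.mul_mem _ h1 h2
    rw [mul_inv_cancel_left] at h3
    obtain ⟨k, hk, hki⟩ := h3
    have : k = ⟨i', hi'S⟩ := Subtype.ext hki
    rw [this, SetLike.mem_coe, MonoidHom.mem_ker] at hk
    exact hk
  -- but it is nontrivial
  set iS : ↥S := ⟨i', hi'S⟩ with hiS
  have hiS2 : iS * iS = 1 := by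
    apply Subtype.ext
    show i' * i' = 1
    rw [← pow_two, ← hi'2, pow_orderOf_eq_one]
  set A : Subgroup ↥S := (normalizerIn S (Subgroup.zpowers i')).subgroupOf S with hAdef
  have hA : IsPGroup 2 ↥A := hS.to_subgroup A
  have hAi : ∀ a ∈ A, a * iS = iS * a := by
    intro a ha
    have ha' : (a : Ω) ∈ normalizerIn S (Subgroup.zpowers i') := Subgroup.mem_subgroupOf.1 ha
    have h1 : (a : Ω) * i' * (a : Ω)⁻¹ ∈ Subgroup.zpowers i' :=
      (Subgroup.mem_normalizer_iff.1 ha'.2 i').1 (Subgroup.mem_zpowers i')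
    have h2 : (a : Ω) * i' * (a : Ω)⁻¹ = i' := by
      rcases eq_one_or_eq_of_mem_zpowers hi'2 h1 with h3 | h3
      · exfalso
        have h4 : i' = 1 := by
          have := congrArg (fun y => (a : Ω)⁻¹ * y * (a : Ω)) h3
          simpa [mul_assoc] using this
        rw [h4, orderOf_one] at hi'2
        exact absurd hi'2 (by norm_num)
      · exact h3
    apply Subtype.ext
    show (a : Ω) * i' = i' * (a : Ω)
    calc (a : Ω) * i' = (a : Ω) * i' * (a : Ω)⁻¹ * (a : Ω) := by group
      _ = i' * (a : Ω) := by rw [h2]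
  have hodd : Odd (Fintype.card (RO ↥S (XL L))) := by
    rw [hcard, ← Nat.not_even_iff_odd, even_iff_two_dvd]
    exact hpn
  have hval : ∀ k : RO ↥S (XL L), iS • k = k →
      t (hh rep iS k) = 1 ∨ t (hh rep iS k) = t s₀ := by
    intro k _
    by_cases hmem : hh rep iS k ∈ TS
    · exact Or.inl ((ht1 _).2 hmem)
    · exact Or.inr (htval _ hmem)
  have hfix : ∀ k : RO ↥S (XL L), iS • k = k → (∀ a ∈ A, a • k = k) →
      t (hh rep iS k) = t s₀ := by
    intro k hik hAk
    apply htval
    intro hmem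
    obtain ⟨P, Q', f, hf, hgr⟩ := hX (rep k)
    -- elements of `A` lie in the source
    have hAP : normalizerIn S (Subgroup.zpowers i') ≤ P := by
      intro a ha
      have haA : (⟨a, ha.1⟩ : ↥S) ∈ A := Subgroup.mem_subgroupOf.2 ha
      have h1 := hAk _ haA
      conv_lhs at h1 => rw [← hrep k]
      rw [smul_ro] at h1
      conv_rhs at h1 => rw [← hrep k]
      obtain ⟨b, hb⟩ := ro_eq_iff.1 h1.symm
      have hst : (((⟨a, ha.1⟩ : ↥S), b⁻¹) : ↥S × ↥S) • rep k = rep k := by
        rw [pair_smul, ← hb, right_mul_smul, inv_mul_cancel, right_one_smul]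
      exact ((hgr _).1 (mem_stabilizer_iff.2 hst)).1
    -- the value of the cocycle
    have hspec := hh_spec rep hrep iS k
    rw [hik] at hspec
    have hst : ((iS, hh rep iS k) : ↥S × ↥S) • rep k = rep k := by
      rw [pair_smul, hspec, right_mul_smul, mul_inv_cancel, right_one_smul]
    obtain ⟨hiP, hhf⟩ := (hgr _).1 (mem_stabilizer_iff.2 hst)
    have hiP' : i' ∈ P := hiP
    have hhf' : ((hh rep iS k : ↥S) : Ω) = f i' := hhf
    -- the image of `⟨i'⟩`
    have hZP : Subgroup.zpowers i' ≤ P := (Subgroup.zpowers_le).2 hiP'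
    obtain ⟨R', -, hR'iso, hR'mem⟩ := hf.restrict hZP
    have hR'eq : R' = Subgroup.zpowers (f i') := by
      apply le_antisymm
      · intro y hy
        obtain ⟨x, hx, rfl⟩ := (hR'mem y).1 hy
        rcases eq_one_or_eq_of_mem_zpowers hi'2 hx with h1 | h1
        · rw [h1, hf.map_one]
          exact Subgroup.one_mem _
        · rw [h1]
          exact Subgroup.mem_zpowers _
      · rw [Subgroup.zpowers_le]
        exact (hR'mem _).2 ⟨i', Subgroup.mem_zpowers i', rfl⟩
    rw [hR'eq] at hR'iso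
    have hfn := isFullyNormalized_map hf hQfn hAP hR'iso
    have hconj : F.IsConjElt i (f i') := by
      obtain ⟨ψ, hψ, hψf, -⟩ := hiso_i.trans hR'iso
      refine ⟨ψ, hψ, ?_⟩
      rw [hψf]
      show f (ext1 φ i) = f i'
      rw [ext1_apply_mem φ (Subgroup.mem_zpowers i)]
    have hnT := h (f i') hconj hfn
    apply hnT
    rw [← hhf']
    exact Subgroup.mem_subgroupOf.1 hmem
  have hτ := transferX_involution rep hrep hfree t iS hiS2 A hA hAi hodd (t s₀) hg₀2 hg₀ne hval hfix
  rw [hτi'] at hτ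
  exact hg₀ne hτ.symm

end Cfsg.Agent.Lib.H25.Bis
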