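import Cfsg.Agent.Lib.H25.BisCongr
import Cfsg.Agent.Lib.H25.Alperin

set_option autoImplicit false

/-!
Bisets for fusion systems (helper25): the top level of the characteristic biset, the twisted
diagonal subgroups given by the automorphisms of `S` in the system.
-/

namespace Cfsg.Agent.Lib.H25.Bis

open Cfsg Cfsg.FusionSystem Cfsg.Agent.Lib.H25 Cfsg.Agent.Lib.H25.GSet Cfsg.Agent.Lib.H25.PP
open MulAction

variable {Ω : Type*} [Group Ω] {S : Subgroup Ω}

/-- The graph of an automorphism of `S`. -/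
def graphAut (α : MulAut ↥S) : Subgroup (↥S × ↥S) where
  carrier := {x | x.2 = α x.1}
  mul_mem' := by
    intro x y hx hy
    have hx' : x.2 = α x.1 := hx
    have hy' : y.2 = α y.1 := hy
    show x.2 * y.2 = α (x.1 * y.1)
    rw [map_mul, ← hx', ← hy']
  one_mem' := by
    show (1 : ↥S) = α 1
    rw [map_one]
  inv_mem' := by
    intro x hx
    have hx' : x.2 = α x.1 := hx
    show x.2⁻¹ = α x.1⁻¹
    rw [map_inv, ← hx']

theorem mem_graphAut {α : MulAut ↥S} {x : ↥S × ↥S} : x ∈ graphAut α ↔ x.2 = α x.1 := Iff.rfl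

theorem graphAut_injective : Function.Injective (graphAut (S := S)) := by
  intro α β h
  ext x
  have h1 : ((x, α x) : ↥S × ↥S) ∈ graphAut β := by
    rw [← h]
    exact mem_graphAut.2 rfl
  exact congrArg Subtype.val (mem_graphAut.1 h1)

theorem cj_graphAut (g : ↥S × ↥S) (α : MulAut ↥S) :
    cj g (graphAut α) = graphAut (MulAut.conj g.2 * α * (MulAut.conj g.1)⁻¹) := by
  ext x
  rw [mem_cj, mem_graphAut, mem_graphAut]
  show g.2⁻¹ * x.2 * g.2 = α (g.1⁻¹ * x.1 * g.1) ↔ _
  simp only [MulAut.mul_apply, MulAut.conj_apply, MulAut.conj_inv_apply]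
  constructor
  · intro h
    rw [← h]; group
  · intro h
    rw [h]; group

theorem card_graphAut (α : MulAut ↥S) : Nat.card (graphAut α) = Nat.card S := by
  apply Nat.card_congr
  exact
    { toFun := fun x => x.1.1
      invFun := fun a => ⟨(a, α a), mem_graphAut.2 rfl⟩
      left_inv := by
        rintro ⟨⟨a, b⟩, h⟩
        apply Subtype.ext
        exact Prod.ext rfl (mem_graphAut.1 h).symm
      right_inv := fun a => rfl }

theorem fType_graphAut (F : FusionSystem S) {α : MulAut ↥S} (hα : α ∈ F.autGroup S) :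
    FType F (graphAut α) := by
  refine ⟨S, S, _, isIso_of_mem_autGroup F le_rfl hα, fun x => ?_⟩
  rw [mem_graphAut, ext1_apply (S.subtype.comp α.toMonoidHom) x.1]
  constructor
  · intro h
    refine ⟨x.1.2, ?_⟩
    show (x.2 : Ω) = ((α x.1 : ↥S) : Ω)
    rw [h]
  · rintro ⟨-, h⟩
    exact Subtype.ext h

/-- A twisted diagonal subgroup of order `|S|` is the graph of an automorphism. -/
theorem exists_eq_graphAut [Finite S] {F : FusionSystem S} {D : Subgroup (↥S × ↥S)}
    (hD : FType F D) (hc : Nat.card D = Nat.card S) :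
    ∃ β ∈ F.autGroup S, D = graphAut β := by
  obtain ⟨Q, f, hf, hg⟩ := hD.isGraph_src
  have h1 : src D = S := by
    apply Subgroup.eq_of_le_of_card_ge (src_le D)
    rw [← hD.card_eq, hc]
  rw [h1] at hf hg
  have h2 : Q = S := by
    apply Subgroup.eq_of_le_of_card_ge hf.le_right
    rw [← hf.card_eq]
  rw [h2] at hf
  obtain ⟨β, hβ, hβf⟩ := exists_mem_autGroup_of_isIso F hf
  refine ⟨β, hβ, ?_⟩
  ext x
  rw [hg, mem_graphAut]
  constructor
  · rintro ⟨-, h⟩
    apply Subtype.ext
    rw [h, hβf]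
  · intro h
    refine ⟨x.1.2, ?_⟩
    rw [h, hβf]

theorem conj_mem_autInducedBy (s : ↥S) : MulAut.conj s ∈ autInducedBy S S := by
  rw [mem_autInducedBy_iff]
  exact ⟨s, s.2, fun x => rfl⟩

theorem exists_conj_of_mem_autInducedBy {γ : MulAut ↥S} (h : γ ∈ autInducedBy S S) :
    ∃ s : ↥S, γ = MulAut.conj s := by
  rw [mem_autInducedBy_iff] at h
  obtain ⟨g, hg, h⟩ := h
  refine ⟨⟨g, hg⟩, ?_⟩
  ext x
  exact h x

theorem conj_mul_aut (α : MulAut ↥S) (b : ↥S) :
    α⁻¹ * MulAut.conj b * α = MulAut.conj (α⁻¹ b) := by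
  ext x
  simp only [MulAut.mul_apply, MulAut.conj_apply, map_mul, map_inv, MulAut.inv_apply_self]

/-- `w` is invariant under automorphisms of the group. -/
theorem w_map_equiv {Γ : Type*} [Group Γ] [Finite Γ] (Θ : Γ ≃* Γ) (D : Subgroup Γ) :
    w (D.map Θ.toMonoidHom) = w D := by
  have h1 := w_mul_card D
  have h2 := w_mul_card (D.map Θ.toMonoidHom)
  rw [← Subgroup.map_equiv_normalizer_eq, Subgroup.card_map_of_injective Θ.injective,
    Subgroup.card_map_of_injective Θ.injective] at h2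
  exact Nat.eq_of_mul_eq_mul_right Nat.card_pos (h2.trans h1.symm)

theorem graphAut_eq_map (β : MulAut ↥S) :
    graphAut β = (graphAut (1 : MulAut ↥S)).map
      (MulEquiv.prodCongr (MulEquiv.refl ↥S) β).toMonoidHom := by
  ext x
  rw [mem_graphAut]
  constructor
  · intro h
    refine ⟨(x.1, x.1), mem_graphAut.2 rfl, ?_⟩
    apply Prod.ext
    · rfl
    · exact h.symm
  · rintro ⟨y, hy, rfl⟩
    have hy' : y.2 = y.1 := mem_graphAut.1 hy
    show β y.2 = β y.1
    rw [hy']

theorem w_graphAut [Finite S] (β : MulAut ↥S) : w (graphAut β) = w (graphAut (1 : MulAut ↥S)) := by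
  rw [graphAut_eq_map β, w_map_equiv]


/-- `Inn(S)` inside `Aut_F(S)`. -/
abbrev innSub (F : FusionSystem S) : Subgroup ↥(F.autGroup S) :=
  (autInducedBy S S).subgroupOf (F.autGroup S)

/-- The top level list: graphs of representatives of `Aut_F(S) / Inn(S)`. -/
theorem exists_topList [Finite S] (F : FusionSystem S) :
    ∃ L : List (Subgroup (↥S × ↥S)), (∀ D ∈ L, FType F D ∧ Nat.card D = Nat.card S) ∧
      (∀ β ∈ F.autGroup S, fpL L (graphAut β) = w (graphAut (1 : MulAut ↥S))) ∧
      L.length = (innSub F).index := by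
  classical
  haveI : Fintype (↥(F.autGroup S) ⧸ innSub F) := Fintype.ofFinite _
  refine ⟨(Finset.univ : Finset (↥(F.autGroup S) ⧸ innSub F)).toList.map
    (fun q => graphAut ((q.out : ↥(F.autGroup S)) : MulAut ↥S)), ?_, ?_, ?_⟩
  · intro D hD
    rw [List.mem_map] at hD
    obtain ⟨q, -, rfl⟩ := hD
    exact ⟨fType_graphAut F q.out.2, card_graphAut _⟩
  · intro β hβ
    let β' : ↥(F.autGroup S) := ⟨β, hβ⟩
    unfold fpL
    rw [List.map_map, Finset.sum_map_toList,
      Finset.sum_eq_single (QuotientGroup.mk β' : ↥(F.autGroup S) ⧸ innSub F)]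
    · obtain ⟨ι, hι⟩ := QuotientGroup.mk_out_eq_mul (innSub F) β'
      obtain ⟨s, hs⟩ := exists_conj_of_mem_autInducedBy (Subgroup.mem_subgroupOf.1 ι.2)
      have e : graphAut β = cj ((s, 1) : ↥S × ↥S) (graphAut
          (((QuotientGroup.mk β' : ↥(F.autGroup S) ⧸ innSub F).out : ↥(F.autGroup S)) :
            MulAut ↥S)) := by
        rw [cj_graphAut, hι]
        congr 1
        show β = MulAut.conj 1 * (β * ((ι : ↥(F.autGroup S)) : MulAut ↥S)) * (MulAut.conj s)⁻¹
        rw [hs, map_one, one_mul, mul_assoc, mul_inv_cancel, mul_one]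
      show fp ((↥S × ↥S) ⧸ graphAut _) (graphAut β) = _
      rw [e, fp_quotient_cj, w_graphAut]
    · intro q _ hq
      show fp ((↥S × ↥S) ⧸ graphAut _) (graphAut β) = 0
      apply fp_quotient_eq_zero_of_not_conj (by rw [card_graphAut, card_graphAut])
      rintro ⟨g, hg⟩
      apply hq
      rw [cj_graphAut] at hg
      have h3 := graphAut_injective hg
      rw [← QuotientGroup.out_eq' q, QuotientGroup.eq, Subgroup.mem_subgroupOf]
      show ((q.out : ↥(F.autGroup S)) : MulAut ↥S)⁻¹ * β ∈ autInducedBy S S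
      rw [h3]
      have e2 : ((q.out : ↥(F.autGroup S)) : MulAut ↥S)⁻¹ *
          (MulAut.conj g.2 * ((q.out : ↥(F.autGroup S)) : MulAut ↥S) * (MulAut.conj g.1)⁻¹) =
          MulAut.conj (((q.out : ↥(F.autGroup S)) : MulAut ↥S)⁻¹ g.2) * (MulAut.conj g.1)⁻¹ := by
        rw [← conj_mul_aut]; group
      rw [e2]
      exact Subgroup.mul_mem _ (conj_mem_autInducedBy _)
        (Subgroup.inv_mem _ (conj_mem_autInducedBy _))
    · intro h
      exact absurd (Finset.mem_univ _) h
  · rw [List.length_map, Finset.length_toList, Finset.card_univ, ← Nat.card_eq_fintype_card]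
    rfl

theorem isFullyAutomized_self [Finite S] {p : ℕ} [Fact p.Prime] {F : FusionSystem S}
    (hF : F.IsSaturated p) : F.IsFullyAutomized p S := by
  obtain ⟨Q, hSQ, hfa, -⟩ := hF S le_rfl
  obtain ⟨f, hf⟩ := (isConj_iff F).1 hSQ
  have : Q = S := by
    apply Subgroup.eq_of_le_of_card_ge hf.le_right
    rw [← hf.card_eq]
  rwa [this] at hfa

/-- **The top level** of the characteristic biset of a saturated system. -/
theorem exists_top [Finite S] {p : ℕ} [Fact p.Prime] {F : FusionSystem S}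
    (hF : F.IsSaturated p) :
    ∃ L : List (Subgroup (↥S × ↥S)), (∀ D ∈ L, FType F D ∧ Nat.card D = Nat.card S) ∧
      (∀ D D' : Subgroup (↥S × ↥S), FType F D → FType F D' → Nat.card D = Nat.card S →
        Nat.card D' = Nat.card S → fpL L D = fpL L D') ∧ ¬ p ∣ L.length := by
  obtain ⟨L, hL1, hL2, hL3⟩ := exists_topList F
  refine ⟨L, hL1, ?_, ?_⟩
  · intro D D' hD hD' hc hc'
    obtain ⟨β, hβ, rfl⟩ := exists_eq_graphAut hD hc
    obtain ⟨β', hβ', rfl⟩ := exists_eq_graphAut hD' hc'
    rw [hL2 β hβ, hL2 β' hβ']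
  · obtain ⟨-, R, hR⟩ := isFullyAutomized_self hF
    rw [hL3]
    have e : innSub F = (R : Subgroup ↥(F.autGroup S)) := hR.symm
    rw [e]
    exact R.not_dvd_index

end Cfsg.Agent.Lib.H25.Bis
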