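import Mathlib
import Cfsg.Agent.Lib.H9.TransferInvolution

set_option autoImplicit false

/-!
One-cocycles of a group action with values in a commutative group, and the Mackey formula:
the product of a cocycle over an orbit is the transfer of its restriction to a stabilizer
(helper25).
-/

namespace Cfsg.Agent.Lib.H25.Cocycle

open MulAction Cfsg.Agent.Lib.H9

variable {G : Type*} [Group G] {Y : Type*} [MulAction G Y] {W : Type*} [CommGroup W]

/-- The one-cocycle condition. -/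
def IsCocycle (ψ : G → Y → W) : Prop := ∀ (a b : G) (k : Y), ψ (a * b) k = ψ a (b • k) * ψ b k

theorem IsCocycle.one {ψ : G → Y → W} (h : IsCocycle ψ) (k : Y) : ψ 1 k = 1 := by
  have := h 1 1 k
  rw [one_mul, one_smul] at this
  exact mul_eq_left.1 this.symm

theorem IsCocycle.inv {ψ : G → Y → W} (h : IsCocycle ψ) (a : G) (k : Y) :
    ψ a⁻¹ (a • k) = (ψ a k)⁻¹ := by
  have := h a⁻¹ a k
  rw [inv_mul_cancel, h.one] at this
  exact eq_inv_of_mul_eq_one_left this.symm

/-- The restriction of a cocycle to a stabilizer is a homomorphism. -/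
def stabHom (ψ : G → Y → W) (h : IsCocycle ψ) (k₀ : Y) : stabilizer G k₀ →* W where
  toFun e := ψ (e : G) k₀
  map_one' := h.one k₀
  map_mul' a b := by
    show ψ ((a : G) * (b : G)) k₀ = _
    rw [h, (mem_stabilizer_iff.1 b.2 : (b : G) • k₀ = k₀)]

theorem stabHom_apply (ψ : G → Y → W) (h : IsCocycle ψ) (k₀ : Y) (e : stabilizer G k₀) :
    stabHom ψ h k₀ e = ψ (e : G) k₀ := rfl

/-- **Mackey formula**: the product of a cocycle over an orbit is a transfer. -/
theorem prod_orbit_eq_transfer [Fintype Y] [DecidableEq Y] {ψ : G → Y → W} (h : IsCocycle ψ)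
    (k₀ : Y) [(stabilizer G k₀).FiniteIndex] [DecidablePred (fun k : Y => k ∈ orbit G k₀)]
    (a : G) :
    ∏ k ∈ Finset.univ.filter (fun k : Y => k ∈ orbit G k₀), ψ a k =
      (stabHom ψ h k₀).transfer a := by
  classical
  letI : Fintype (G ⧸ stabilizer G k₀) := (stabilizer G k₀).fintypeQuotientOfFiniteIndex
  rw [transfer_eq_prod_out (stabHom ψ h k₀) a]
  -- the three factors
  have hterm : ∀ q : G ⧸ stabilizer G k₀,
      extendHom (stabHom ψ h k₀) (q.out⁻¹ * a * (a⁻¹ • q).out) =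
        (ψ q.out k₀)⁻¹ * ψ a ((a⁻¹ • q).out • k₀) * ψ (a⁻¹ • q).out k₀ := by
    intro q
    rw [extendHom_of_mem _ (out_inv_mul_smul_out_mem a q), stabHom_apply]
    show ψ (q.out⁻¹ * a * (a⁻¹ • q).out) k₀ = _
    have hfix : (q.out⁻¹ * a * (a⁻¹ • q).out) • k₀ = k₀ :=
      mem_stabilizer_iff.1 (out_inv_mul_smul_out_mem a q)
    have e1 : (a * (a⁻¹ • q).out) • k₀ = q.out • k₀ := by
      have : q.out • (q.out⁻¹ * a * (a⁻¹ • q).out) • k₀ = q.out • k₀ := by rw [hfix]
      rw [← mul_smul] at this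
      rw [← this]
      congr 1
      group
    rw [mul_assoc, h, e1, h.inv, h a]
    rw [mul_assoc]
  rw [Finset.prod_congr rfl (fun q _ => hterm q), Finset.prod_mul_distrib,
    Finset.prod_mul_distrib, Finset.prod_inv_distrib]
  have hre1 : ∏ q : G ⧸ stabilizer G k₀, ψ (a⁻¹ • q).out k₀ =
      ∏ q : G ⧸ stabilizer G k₀, ψ q.out k₀ :=
    Equiv.prod_comp (MulAction.toPerm a⁻¹) (fun q : G ⧸ stabilizer G k₀ => ψ q.out k₀)
  have hre2 : ∏ q : G ⧸ stabilizer G k₀, ψ a ((a⁻¹ • q).out • k₀) =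
      ∏ q : G ⧸ stabilizer G k₀, ψ a (q.out • k₀) :=
    Equiv.prod_comp (MulAction.toPerm a⁻¹) (fun q : G ⧸ stabilizer G k₀ => ψ a (q.out • k₀))
  rw [hre1, hre2, mul_comm ((∏ q : G ⧸ stabilizer G k₀, ψ q.out k₀)⁻¹), mul_assoc,
    inv_mul_cancel, mul_one]
  -- reindex along the orbit
  symm
  refine Finset.prod_bij (fun q _ => q.out • k₀) ?_ ?_ ?_ ?_
  · intro q _
    rw [Finset.mem_filter]
    exact ⟨Finset.mem_univ _, mem_orbit k₀ q.out⟩
  · intro q₁ _ q₂ _ heq
    have h1 : (q₂.out⁻¹ * q₁.out) • k₀ = k₀ := by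
      rw [mul_smul, heq, inv_smul_smul]
    have h2 : ((q₂.out : G) : G ⧸ stabilizer G k₀) = ((q₁.out : G) : G ⧸ stabilizer G k₀) :=
      QuotientGroup.eq.2 (mem_stabilizer_iff.2 h1)
    rw [← q₁.out_eq', ← q₂.out_eq']
    exact h2.symm
  · intro k hk
    rw [Finset.mem_filter] at hk
    obtain ⟨g, rfl⟩ := hk.2
    refine ⟨((g : G) : G ⧸ stabilizer G k₀), Finset.mem_univ _, ?_⟩
    have h1 : (((g : G) : G ⧸ stabilizer G k₀).out : G)⁻¹ * g ∈ stabilizer G k₀ :=
      QuotientGroup.eq.1 (((g : G) : G ⧸ stabilizer G k₀).out_eq')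
    have h2 := mem_stabilizer_iff.1 h1
    rw [mul_smul] at h2
    show (((g : G) : G ⧸ stabilizer G k₀).out : G) • k₀ = g • k₀
    calc (((g : G) : G ⧸ stabilizer G k₀).out : G) • k₀
        = (((g : G) : G ⧸ stabilizer G k₀).out : G) •
            ((((g : G) : G ⧸ stabilizer G k₀).out : G)⁻¹ • g • k₀) := by rw [h2]
      _ = g • k₀ := smul_inv_smul _ _
  · intro q _
    rfl

end Cfsg.Agent.Lib.H25.Cocycle
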