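import Mathlib
import Cfsg.Agent.Lib.H9.HallWielandt4
import Cfsg.Agent.Lib.H1.PGroupBasic

set_option autoImplicit false

/-!
In a finite `p`-group with no quotient `C_p ≀ C_p`, the transfer to a proper subgroup of a
homomorphism into a group of order `p` vanishes on `u`, provided the conjugates of the proper powers
of elements of the order of `u` contribute trivially (helper25, from helper9's Hall--Wielandt
lemmas).
-/

namespace Cfsg.Agent.Lib.H25

open Cfsg.Agent.Lib.H9 Cfsg.Agent.Lib.H9.HW MulAction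

theorem extendHom_of_not_mem {G : Type*} [Group G] {H : Subgroup G} {A : Type*} [CommGroup A]
    (ϕ : H →* A) {x : G} (h : x ∉ H) : extendHom ϕ x = 1 := by
  classical
  simp [extendHom, h]

theorem transfer_eq_one_of_no_wreath {G : Type*} [Group G] [Finite G] {p : ℕ} [hp : Fact p.Prime]
    (hG : IsPGroup p G)
    (hno : ¬ ∃ (W : Sylow p (Equiv.Perm (Fin (p ^ 2))))
      (f : G →* ↥(W : Subgroup (Equiv.Perm (Fin (p ^ 2))))), Function.Surjective f)
    {H : Subgroup G} (hH : H ≠ ⊤) {C : Type*} [CommGroup C] (hC : Nat.card C = p) (ρ : H →* C)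
    (u : G)
    (hIH : ∀ v : G, orderOf v = orderOf u → ∀ g : G, ∀ k : ℕ, k ≠ 1 → k ∣ orderOf v →
      g⁻¹ * v ^ k * g ∈ H → extendHom ρ (g⁻¹ * v ^ k * g) = 1) :
    ρ.transfer u = 1 := by
  classical
  haveI : Fintype (G ⧸ H) := Fintype.ofFinite _
  have hpp := hp.out
  have hCp : ∀ c : C, c ^ p = 1 := by
    intro c
    rw [← hC]
    exact pow_card_eq_one'
  have hbig : ∀ ω : G ⧸ H, Function.minimalPeriod (u • ·) ω ≠ 1 →
      extendHom ρ (ω.out⁻¹ * u ^ Function.minimalPeriod (u • ·) ω * ω.out) = 1 := by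
    intro ω hω
    apply hIH u rfl _ _ hω
    · rw [← MulAction.pow_smul_eq_iff_minimalPeriod_dvd, pow_orderOf_eq_one, one_smul]
    · exact QuotientGroup.out_conj_pow_minimalPeriod_mem H u ω
  rw [transfer_eq_prod_fixed ρ u hbig]
  by_cases hex : ∃ ω₀ : G ⧸ H, u • ω₀ = ω₀
  swap
  · apply Finset.prod_eq_one
    intro ω hω
    rw [Finset.mem_filter] at hω
    exact absurd ⟨ω, hω.2⟩ hex
  obtain ⟨ω₀, hω₀⟩ := hex
  have hstabne : MulAction.stabilizer G ω₀ ≠ ⊤ := by
    intro htop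
    apply hH
    rw [eq_top_iff]
    intro g _
    have h1 : (ω₀.out * g * ω₀.out⁻¹) • ω₀ = ω₀ := by
      have : ω₀.out * g * ω₀.out⁻¹ ∈ MulAction.stabilizer G ω₀ := by rw [htop]; trivial
      exact MulAction.mem_stabilizer_iff.1 this
    have h2 : ((ω₀.out * g * ω₀.out⁻¹ * ω₀.out : G) : G ⧸ H) = ((ω₀.out : G) : G ⧸ H) := by
      have e : ((ω₀.out * g * ω₀.out⁻¹ * ω₀.out : G) : G ⧸ H) =
          (ω₀.out * g * ω₀.out⁻¹) • (((ω₀.out : G)) : G ⧸ H) := rfl
      rw [e, QuotientGroup.out_eq', h1]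
    have h3 := QuotientGroup.eq.1 h2
    have h4 : (ω₀.out * g * ω₀.out⁻¹ * ω₀.out)⁻¹ * ω₀.out = g⁻¹ := by group
    rw [h4] at h3
    exact (Subgroup.inv_mem_iff H).1 h3
  obtain ⟨M, hMco, hEM⟩ := (eq_top_or_exists_le_coatom _).resolve_left hstabne
  haveI hMn : M.Normal := Cfsg.Agent.Lib.H1.isPGroup_coatom_normal hG hMco
  have hMi : M.index = p := Cfsg.Agent.Lib.H1.isPGroup_coatom_index hG hMco
  have huM : u ∈ M := hEM (MulAction.mem_stabilizer_iff.2 hω₀)
  obtain ⟨z, hzM⟩ : ∃ z, z ∉ M := by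
    by_contra hcon
    push Not at hcon
    exact hMco.1 (eq_top_iff.2 fun g _ => hcon g)
  obtain ⟨hcos, hzi⟩ := exists_pow_mul_mem_of_index_prime M hMi z hzM
  have hfilt : Finset.univ.filter (fun ω : G ⧸ H => u • ω = ω) =
      Finset.univ.filter (fun ω' : G ⧸ H => u • ω' = ω' ∧
        ω' ∈ MulAction.orbit ↥(⊤ : Subgroup G) ω₀) := by
    ext ω
    simp only [Finset.mem_filter, Finset.mem_univ, true_and]
    refine ⟨fun h => ⟨h, ?_⟩, fun h => h.1⟩
    obtain ⟨g, hg⟩ := MulAction.exists_smul_eq G ω₀ ω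
    exact ⟨⟨g, Subgroup.mem_top g⟩, hg⟩
  rw [hfilt]
  refine prod_orbit_eq_one hpp hCp ρ ⊤ M le_top z (Subgroup.mem_top z) (fun d hd => ?_)
    (fun g _ => hcos g) hzi u huM ω₀ (by rw [top_inf_eq]; exact hEM) ?_ ?_
  · have := hMn.conj_mem d hd z⁻¹
    simpa using this
  · intro v _ hvu g k hk1 hk2 hk3
    exact hIH v hvu g k hk1 hk2 hk3
  · intro T
    by_contra hne
    obtain ⟨y, hy⟩ : ∃ y : G, y = (fun y : G => y⁻¹ * z⁻¹ * y * z)^[p - 1] u := ⟨_, rfl⟩
    rw [← hy] at hne
    have hyM : y ∈ M := by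
      by_contra h
      exact hne (extendHom_of_not_mem T h)
    rw [extendHom_of_mem T hyM] at hne
    obtain ⟨K, hK⟩ : ∃ K : Subgroup G, K = T.ker.map M.subtype := ⟨_, rfl⟩
    have hKM : K ≤ M := by rw [hK]; exact Subgroup.map_subtype_le _
    have hrange : T.range = ⊤ := by
      haveI : Fact (Nat.card C).Prime := ⟨by rw [hC]; exact hpp⟩
      rcases Subgroup.eq_bot_or_eq_top_of_prime_card T.range with h | h
      · exfalso
        apply hne
        have : T ⟨y, hyM⟩ ∈ T.range := ⟨_, rfl⟩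
        rw [h, Subgroup.mem_bot] at this
        exact this
      · exact h
    have hKi : K.relIndex M = p := by
      have h1 : K.subgroupOf M = T.ker := by
        rw [hK]
        exact Subgroup.comap_map_eq_self_of_injective (Subgroup.subtype_injective M) T.ker
      show (K.subgroupOf M).index = p
      rw [h1, Subgroup.index_ker, hrange, Subgroup.card_top, hC]
    have hyK : y ∉ K := by
      rw [hK]
      rintro ⟨y', hy'ker, hy'y⟩
      apply hne
      have : y' = ⟨y, hyM⟩ := Subtype.ext hy'y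
      rw [← this]
      exact hy'ker
    rw [hy] at hyK
    exact hno (exists_surjective_sylow_perm hG M hMi z K hKM hKi u huM hyK)

end Cfsg.Agent.Lib.H25
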