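import Cfsg.Agent.Lib.H25.BisThompson
import Cfsg.Agent.Lib.H25.CocycleTransfer
import Cfsg.Agent.Lib.H25.WreathFree
import Cfsg.Agent.Lib.H26.FusionAbelian

set_option autoImplicit false

/-!
Yoshida's theorem for fusion systems (helper25): the stability step.  If `S` has no quotient
`C_p ≀ C_p`, a homomorphism from `S` to a group of order `p` that is stable under `Aut_F(S)` is
stable under all of `F`.
-/

namespace Cfsg.Agent.Lib.H25.Bis

open Cfsg Cfsg.FusionSystem Cfsg.Agent.Lib.H25 Cfsg.Agent.Lib.H25.GSet Cfsg.Agent.Lib.H25.PP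
open Cfsg.Agent.Lib.H25.Cocycle Cfsg.Agent.Lib.H9
open MulAction

variable {Ω : Type*} [Group Ω] {S : Subgroup Ω}

section Local

variable {F : FusionSystem S} {X : Type*} [MulAction (↥S × ↥S) X]
  (rep : RO ↥S X → X) (hrep : ∀ k, ro (rep k) = k)

include hrep in
/-- The value of the coordinate cocycle on the stabilizer of a right orbit. -/
theorem hh_stabilizer (hX : ∀ ω : X, FType F (stabilizer (↥S × ↥S) ω)) (k : RO ↥S X) :
    ∃ (P Q : Subgroup Ω) (f : Ω → Ω), IsIso F P Q f ∧
      ∀ y : ↥S, y • k = k → (y : Ω) ∈ P ∧ ((hh rep y k : ↥S) : Ω) = f y := by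
  obtain ⟨P, Q', f, hf, hgr⟩ := hX (rep k)
  refine ⟨P, Q', f, hf, fun y hyk => ?_⟩
  have hspec := hh_spec rep hrep y k
  rw [hyk] at hspec
  have hst : ((y, hh rep y k) : ↥S × ↥S) • rep k = rep k := by
    rw [pair_smul, hspec, right_mul_smul, mul_inv_cancel, right_one_smul]
  exact (hgr _).1 (mem_stabilizer_iff.2 hst)

end Local

/-- **Stability under `F`** of `Aut_F(S)`-stable homomorphisms to a group of order `p`, when `S`
has no quotient `C_p ≀ C_p`. -/
theorem yoshida_stable [Finite S] {p : ℕ} [hp : Fact p.Prime] (hS : IsPGroup p ↥S)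
    {F : FusionSystem S} (hF : F.IsSaturated p)
    (hno : ¬ ∃ (W : Sylow p (Equiv.Perm (Fin (p ^ 2))))
      (f : ↥S →* ↥(W : Subgroup (Equiv.Perm (Fin (p ^ 2))))), Function.Surjective f)
    {W : Type*} [CommGroup W] (hW : Nat.card W = p) (t : ↥S →* W)
    (htS : ∀ f : Ω → Ω, IsIso F S S f → ∀ (s : ↥S) (h : f s ∈ S), t ⟨f s, h⟩ = t s) :
    ∀ (P Q : Subgroup Ω) (f : Ω → Ω), IsIso F P Q f → ∀ x : ↥S, (x : Ω) ∈ P →
      ∀ hfx : f x ∈ S, t ⟨f x, hfx⟩ = t x := by
  classical
  have hpp := hp.out
  have hWp : ∀ c : W, c ^ p = 1 := by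
    intro c
    rw [← hW]
    exact pow_card_eq_one'
  -- the biset
  obtain ⟨L, hLT, hLstab, n₀, hn₀, hpn₀⟩ := exists_charBiset hS hF
  have hX : ∀ ω : XL L, FType F (stabilizer (↥S × ↥S) ω) := fType_stabilizer_XL hLT
  have hstab : ∀ D D' : Subgroup (↥S × ↥S), FType F D → FType F D' →
      F.IsConj (src D) (src D') → fp (XL L) D = fp (XL L) D' := by
    intro D D' hD hD' hc
    rw [fp_XL, fp_XL]
    exact hLstab D D' hD hD' hc
  have hfree : RFree ↥S (XL L) := rFree_of_fType hX
  haveI : Fintype (RO ↥S (XL L)) := Fintype.ofFinite _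
  let rep : RO ↥S (XL L) → XL L := fun k => Quotient.out k
  have hrep : ∀ k, ro (rep k) = k := fun k => Quotient.out_eq k
  have hcardRO : Fintype.card (RO ↥S (XL L)) = n₀ := by
    have h1 := card_eq_mul rep hrep hfree
    rw [hn₀] at h1
    have h2 : Nat.card (RO ↥S (XL L)) = Fintype.card (RO ↥S (XL L)) := Nat.card_eq_fintype_card
    rw [h2] at h1
    exact (Nat.eq_of_mul_eq_mul_right Nat.card_pos h1).symm
  have hτfoc := focal_le_ker_transferHom hX hstab rep hrep hfree t
  -- the cocycle
  set ψ : ↥S → RO ↥S (XL L) → W := fun a k => t (hh rep a k) with hψdef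
  have hψ : IsCocycle ψ := by
    intro a b k
    show t (hh rep (a * b) k) = t (hh rep a (b • k)) * t (hh rep b k)
    rw [hh_mul rep hrep hfree, map_mul]
  -- the points fixed by `S`
  set FixS : Finset (RO ↥S (XL L)) := Finset.univ.filter (fun k => ∀ s : ↥S, s • k = k) with hFixS
  set m : ℕ := FixS.card with hm
  have hpm : ¬ p ∣ m := by
    have h1 := hS.card_modEq_card_fixedPoints (RO ↥S (XL L))
    have h2 : Nat.card (fixedPoints ↥S (RO ↥S (XL L))) = m := by
      rw [hm, hFixS, Nat.card_eq_fintype_card, ← Fintype.card_subtype]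
      apply Fintype.card_congr
      exact Equiv.subtypeEquivRight (fun k => by rw [mem_fixedPoints])
    rw [h2, Nat.card_eq_fintype_card, hcardRO] at h1
    intro hdvd
    apply hpn₀
    exact (Nat.modEq_zero_iff_dvd.1 (h1.trans (Nat.modEq_zero_iff_dvd.2 hdvd)))
  -- conjugation invariance of `t`
  have htconj : ∀ g a : ↥S, t (g⁻¹ * a * g) = t a := by
    intro g a
    rw [map_mul, map_mul, map_inv, mul_comm (t g)⁻¹, mul_assoc, inv_mul_cancel, mul_one]
  -- the induction
  have key : ∀ n : ℕ, ∀ x : ↥S, orderOf x = n → ∀ (P Q : Subgroup Ω) (f : Ω → Ω),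
      IsIso F P Q f → (x : Ω) ∈ P → ∀ hfx : f x ∈ S, t ⟨f x, hfx⟩ = t x := by
    intro n
    induction n using Nat.strong_induction_on with
    | _ n ih =>
    -- Step 1: the transfer of an element of order `n`
    have step1 : ∀ u : ↥S, orderOf u = n → transferX rep t u = t u ^ m := by
      intro u hun
      have hsplit : transferX rep t u = (∏ k ∈ FixS, ψ u k) *
          ∏ k ∈ Finset.univ.filter (fun k : RO ↥S (XL L) => ¬ ∀ s : ↥S, s • k = k), ψ u k := by
        unfold transferX tau
        rw [hFixS, Finset.prod_filter_mul_prod_filter_not]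
      rw [hsplit]
      -- the fixed points
      have h1 : ∏ k ∈ FixS, ψ u k = t u ^ m := by
        rw [hm, ← Finset.prod_const]
        apply Finset.prod_congr rfl
        intro k hk
        rw [hFixS, Finset.mem_filter] at hk
        obtain ⟨P, Q, f, hf, hval⟩ := hh_stabilizer rep hrep hX k
        have hPS : P = S := by
          apply le_antisymm hf.le_left
          intro s hs
          exact (hval ⟨s, hs⟩ (hk.2 _)).1
        subst hPS
        have hQ : Q = P := Cfsg.Agent.Lib.H26.isIso_top_range hf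
        subst hQ
        obtain ⟨-, h2⟩ := hval u (hk.2 u)
        show t (hh rep u k) = t u
        have h3 : hh rep u k = ⟨f u, by rw [← h2]; exact (hh rep u k).2⟩ := Subtype.ext h2
        rw [h3]
        exact htS f hf u _
      -- the other points
      have h2 : ∏ k ∈ Finset.univ.filter (fun k : RO ↥S (XL L) => ¬ ∀ s : ↥S, s • k = k),
          ψ u k = 1 := by
        apply Finset.prod_cancels_of_partition_cancels (orbitRel ↥S (RO ↥S (XL L)))
        intro k hk
        rw [Finset.mem_filter] at hk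
        have hfilt : (Finset.univ.filter
            (fun k : RO ↥S (XL L) => ¬ ∀ s : ↥S, s • k = k)).filter
              (fun a => (orbitRel ↥S (RO ↥S (XL L))) a k) =
            Finset.univ.filter (fun k' : RO ↥S (XL L) => k' ∈ orbit ↥S k) := by
          ext a
          simp only [Finset.mem_filter, Finset.mem_univ, true_and, orbitRel_apply]
          refine ⟨fun h => h.2, fun h => ⟨?_, h⟩⟩
          intro hfix
          apply hk.2
          obtain ⟨g, rfl⟩ := h
          intro s
          have e1 := hfix (g * s * g⁻¹)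
          rw [← mul_smul, inv_mul_cancel_right, mul_smul] at e1
          exact smul_left_cancel g e1
        rw [hfilt, prod_orbit_eq_transfer hψ k u]
        have hne : stabilizer ↥S k ≠ ⊤ := by
          intro htop
          apply hk.2
          intro s
          have : s ∈ stabilizer ↥S k := by rw [htop]; trivial
          exact mem_stabilizer_iff.1 this
        apply transfer_eq_one_of_no_wreath hS hno hne hW
        intro v hvu g j hj1 hjn hmem
        rw [extendHom_of_mem _ hmem, stabHom_apply]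
        show t (hh rep (g⁻¹ * v ^ j * g) k) = 1
        obtain ⟨P, Q, f, hf, hval⟩ := hh_stabilizer rep hrep hX k
        obtain ⟨hyP, hyf⟩ := hval (g⁻¹ * v ^ j * g) (mem_stabilizer_iff.1 hmem)
        -- orders
        have hvn : orderOf v = n := hvu.trans hun
        have hn0 : 0 < n := by rw [← hvn]; exact orderOf_pos v
        obtain ⟨e, he⟩ : ∃ e, orderOf v = p ^ e := by
          obtain ⟨e, he⟩ := (IsPGroup.iff_orderOf.1 hS) v
          exact ⟨e, he⟩
        have hpj : p ∣ j := by
          rw [he] at hjn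
          obtain ⟨i, _, hi⟩ := (Nat.dvd_prime_pow hpp).1 hjn
          rcases Nat.eq_zero_or_pos i with h0 | h0
          · rw [h0, pow_zero] at hi; exact absurd hi hj1
          · rw [hi]; exact dvd_pow_self p (by omega)
        have hj0 : j ≠ 0 := by
          intro h0
          rw [h0] at hjn
          have := Nat.eq_zero_of_zero_dvd hjn
          omega
        have hord : orderOf (g⁻¹ * v ^ j * g) < n := by
          have h1 : orderOf (g⁻¹ * v ^ j * g) = orderOf (v ^ j) := by
            have := (MulAut.conj g⁻¹).orderOf_eq (v ^ j)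
            rw [MulAut.conj_apply, inv_inv] at this
            exact this
          rw [h1, orderOf_pow_of_dvd hj0 hjn, hvn]
          have h2 : 1 < j := by
            have := hpp.two_le
            have := Nat.le_of_dvd (Nat.pos_of_ne_zero hj0) hpj
            omega
          exact Nat.div_lt_self hn0 h2
        have hfS : f ((g⁻¹ * v ^ j * g : ↥S) : Ω) ∈ S := by
          rw [← hyf]; exact (hh rep (g⁻¹ * v ^ j * g) k).2
        have h3 : hh rep (g⁻¹ * v ^ j * g) k = ⟨f ((g⁻¹ * v ^ j * g : ↥S) : Ω), hfS⟩ :=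
          Subtype.ext hyf
        rw [h3, ih _ hord (g⁻¹ * v ^ j * g) rfl P Q f hf hyP hfS, htconj, map_pow]
        obtain ⟨i, rfl⟩ := hpj
        rw [pow_mul, hWp, one_pow]
      rw [h1, h2, mul_one]
    -- Step 2: conclusion
    intro x hxn P Q f hf hxP hfx
    have hfxn : orderOf (⟨f x, hfx⟩ : ↥S) = n := by
      rw [← hxn, ← Subgroup.orderOf_coe, ← Subgroup.orderOf_coe]
      show orderOf (f x) = orderOf (x : Ω)
      obtain ⟨φ, hφ, hφf, -⟩ := hf
      have h1 : f x = φ ⟨x, hxP⟩ := (hφf ⟨x, hxP⟩).symm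
      rw [h1, orderOf_injective φ (F.injective_of_mem hφ), Subgroup.orderOf_mk]
    have e1 := step1 x hxn
    have e2 := step1 ⟨f x, hfx⟩ hfxn
    -- the transfer is stable
    have e3 : transferX rep t ⟨f x, hfx⟩ = transferX rep t x := by
      obtain ⟨φ, hφ, hφf, -⟩ := hf
      have h1 : (x : Ω)⁻¹ * f x ∈ F.focalSubgroup := by
        apply Subgroup.subset_closure
        exact ⟨P, φ, ⟨x, hxP⟩, hφ, by rw [hφf]⟩
      obtain ⟨y, hy, hyx⟩ := hτfoc h1
      have hyeq : y = x⁻¹ * ⟨f x, hfx⟩ := Subtype.ext hyx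
      rw [SetLike.mem_coe, MonoidHom.mem_ker, hyeq, map_mul, map_inv, inv_mul_eq_one] at hy
      exact hy.symm
    rw [e1, e2] at e3
    -- cancel the exponent
    have hc : (t ⟨f x, hfx⟩ * (t x)⁻¹) ^ m = 1 := by
      rw [mul_pow, inv_pow, e3, mul_inv_cancel]
    have hc' : (t ⟨f x, hfx⟩ * (t x)⁻¹) ^ p = 1 := hWp _
    have hgcd : Nat.gcd m p = 1 := by
      have : Nat.Coprime p m := (Nat.Prime.coprime_iff_not_dvd hpp).2 hpm
      exact Nat.Coprime.symm this
    have h1 := pow_gcd_eq_one.2 ⟨hc, hc'⟩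
    rw [hgcd, pow_one] at h1
    exact mul_inv_eq_one.1 h1
  intro P Q f hf x hxP hfx
  exact key _ x rfl P Q f hf hxP hfx

end Cfsg.Agent.Lib.H25.Bis
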