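import Cfsg.Agent.Lib.H25.BisYoshida
import Cfsg.Agent.Lib.H25.BisTate
import Cfsg.Agent.Lib.H25.KNormSpecial
import Cfsg.Agent.S5096

set_option autoImplicit false

/-!
Yoshida's theorem for fusion systems (helper25): if `S` has no quotient `C_p ≀ C_p` then
`N_F(S)` controls transfer.
-/

namespace Cfsg.Agent.Lib.H25.Bis

open Cfsg Cfsg.FusionSystem Cfsg.Agent.Lib.H25 Cfsg.Agent.Lib.H25.PP
open scoped commutatorElement

/-- In a finite `p`-group, a subgroup containing the Frattini subgroup is an intersection of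
normal subgroups of index `p`. -/
theorem exists_normal_index_p_of_frattini_le {G : Type*} [Group G] [Finite G] {p : ℕ}
    [hp : Fact p.Prime] (hG : IsPGroup p G) (K : Subgroup G) (hK : frattini G ≤ K) {y : G}
    (hy : y ∉ K) : ∃ M : Subgroup G, M.Normal ∧ M.index = p ∧ K ≤ M ∧ y ∉ M := by
  have hcommK : commutator G ≤ K := (Cfsg.Agent.Lib.H1.isPGroup_commutator_le_frattini hG).trans hK
  haveI hKn : K.Normal := Cfsg.Agent.Lib.H1.normal_of_commutator_le hcommK
  let π : G →* G ⧸ K := QuotientGroup.mk' K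
  have hπs : Function.Surjective π := QuotientGroup.mk'_surjective K
  have hπ1 : ∀ x : G, π x = 1 ↔ x ∈ K := fun x => QuotientGroup.eq_one_iff x
  have hCp : IsPGroup p (G ⧸ K) := hG.to_quotient K
  have hfr : frattini (G ⧸ K) ≤ ⊥ := by
    apply Cfsg.Agent.Lib.H1.frattini_le_of_commutator_le_of_pow_mem (p := p)
    · rw [commutator_def, Subgroup.commutator_le]
      intro a _ b _
      obtain ⟨a, rfl⟩ := hπs a
      obtain ⟨b, rfl⟩ := hπs b
      rw [Subgroup.mem_bot, ← map_commutatorElement, hπ1]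
      apply hcommK
      rw [commutator_def]
      exact Subgroup.commutator_mem_commutator (Subgroup.mem_top _) (Subgroup.mem_top _)
    · intro x
      obtain ⟨x, rfl⟩ := hπs x
      rw [Subgroup.mem_bot, ← map_pow, hπ1]
      exact hK (Cfsg.Agent.Lib.H1.isPGroup_pow_mem_frattini hG x)
  have hy' : ¬ Subgroup.zpowers (π y) ≤ frattini (G ⧸ K) := by
    intro h
    have := hfr (h (Subgroup.mem_zpowers _))
    rw [Subgroup.mem_bot, hπ1] at this
    exact hy this
  rw [Cfsg.Agent.Lib.H1.le_frattini_iff] at hy'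
  push Not at hy'
  obtain ⟨D, hDco, hDy⟩ := hy'
  haveI hDn : D.Normal := Cfsg.Agent.Lib.H1.isPGroup_coatom_normal hCp hDco
  have hDi : D.index = p := Cfsg.Agent.Lib.H1.isPGroup_coatom_index hCp hDco
  refine ⟨D.comap π, inferInstance, ?_, ?_, ?_⟩
  · rw [Subgroup.index_comap_of_surjective D hπs, hDi]
  · intro k hk
    rw [Subgroup.mem_comap, (hπ1 k).2 hk]
    exact D.one_mem
  · intro h
    apply hDy
    rw [Subgroup.zpowers_le]
    exact h

variable {Ω : Type*} [Group Ω] {S : Subgroup Ω}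

/-- Transport of a fusion system along an equality of the underlying subgroups. -/
theorem exists_transport {T : Subgroup Ω} (h : T = S) (E : FusionSystem T) (p : ℕ) :
    ∃ E' : FusionSystem S, (∀ P : Subgroup Ω, E'.Hom P = E.Hom P) ∧
      (E.IsSaturated p → E'.IsSaturated p) ∧ E'.focalSubgroup = E.focalSubgroup := by
  subst h
  exact ⟨E, fun _ => rfl, id, rfl⟩

/-- **Yoshida's theorem for fusion systems.** -/
theorem yoshida_focal [Finite S] {p : ℕ} [hp : Fact p.Prime] (hS : IsPGroup p ↥S)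
    {F : FusionSystem S} (hF : F.IsSaturated p)
    (hno : ¬ ∃ (W : Sylow p (Equiv.Perm (Fin (p ^ 2))))
      (f : ↥S →* ↥(W : Subgroup (Equiv.Perm (Fin (p ^ 2))))), Function.Surjective f)
    (N : FusionSystem (normalizerIn S S)) (hN : F.IsNormalizerSystem S N) :
    N.focalSubgroup = F.focalSubgroup := by
  classical
  have hT : normalizerIn S S = S := inf_eq_left.2 Subgroup.le_normalizer
  have hNsat : N.IsSaturated p :=
    normalizerSystem_isSaturated hS hF (isFullyNormalized_self F) N hN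
  obtain ⟨H, hHhom, hHsat', hHfoc⟩ := exists_transport hT N p
  have hHsat := hHsat' hNsat
  have hsub : H.IsSubsystemOf F := by
    intro P φ hφ
    rw [hHhom P, hN P] at hφ
    exact hφ.1
  rw [← hHfoc]
  set Φ : Subgroup Ω := (frattini ↥S).map S.subtype with hΦ
  set K : Subgroup Ω := Φ ⊔ H.focalSubgroup with hK
  have hΦS : Φ ≤ S := by
    rintro _ ⟨x, -, rfl⟩
    exact x.2
  -- automorphisms of `S` in `F` lie in `H`
  have hautH : ∀ f : Ω → Ω, IsIso F S S f → ∀ s : ↥S, (s : Ω)⁻¹ * f s ∈ H.focalSubgroup := by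
    intro f hf s
    obtain ⟨φ, hφ, hφf, hφr⟩ := hf
    have hmem : φ ∈ H.Hom S := by
      rw [hHhom S, hN S, Cfsg.Agent.S5096.mem_normalizerHom_iff]
      have hSS : S ≤ normalizerIn S S := le_of_eq hT.symm
      refine ⟨hφ, hSS, fun x => hSS (hom_mem_S F hφ x), f, S, ?_, fun x => (hφf x).symm, ?_, ?_⟩
      · rw [sup_idem]
        exact ⟨φ, hφ, hφf, hφr⟩
      · intro x hx
        rw [← hφf ⟨x, hx⟩]
        exact hom_mem_S F hφ _
      · intro y hy
        rw [← hφr] at hy
        obtain ⟨x, rfl⟩ := hy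
        exact ⟨x, x.2, (hφf x).symm⟩
    apply Subgroup.subset_closure
    exact ⟨S, φ, s, hmem, by rw [hφf]⟩
  -- the focal subgroup of `F` lies in `K`
  have hFK : F.focalSubgroup ≤ K := by
    unfold focalSubgroup
    rw [Subgroup.closure_le]
    rintro _ ⟨P, φ, x, hφ, rfl⟩
    by_contra hyK
    have hPS := hom_le F hφ
    have hxS : (x : Ω) ∈ S := hPS x.2
    have hφS : φ x ∈ S := hom_mem_S F hφ x
    set y : ↥S := (⟨x, hxS⟩ : ↥S)⁻¹ * ⟨φ x, hφS⟩ with hy
    have hyK' : y ∉ K.subgroupOf S := by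
      intro h
      exact hyK (Subgroup.mem_subgroupOf.1 h)
    have hfrK : frattini ↥S ≤ K.subgroupOf S := by
      intro z hz
      rw [Subgroup.mem_subgroupOf]
      exact (le_sup_left : Φ ≤ K) ⟨z, hz, rfl⟩
    obtain ⟨M, hMn, hMi, hKM, hyM⟩ := exists_normal_index_p_of_frattini_le hS _ hfrK hyK'
    haveI := hMn
    have hcardW : Nat.card (↥S ⧸ M) = p := by rw [← Subgroup.index_eq_card]; exact hMi
    haveI : IsCyclic (↥S ⧸ M) := isCyclic_of_prime_card hcardW
    letI : CommGroup (↥S ⧸ M) := IsCyclic.commGroup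
    let t : ↥S →* ↥S ⧸ M := QuotientGroup.mk' M
    have ht1 : ∀ s : ↥S, t s = 1 ↔ s ∈ M := fun s => QuotientGroup.eq_one_iff s
    have htS : ∀ f : Ω → Ω, IsIso F S S f → ∀ (s : ↥S) (h : f s ∈ S), t ⟨f s, h⟩ = t s := by
      intro f hf s h
      have h1 : s⁻¹ * ⟨f s, h⟩ ∈ M := by
        apply hKM
        rw [Subgroup.mem_subgroupOf]
        exact (le_sup_right : H.focalSubgroup ≤ K) (hautH f hf s)
      have h2 := (ht1 _).2 h1
      rw [map_mul, map_inv, inv_mul_eq_one] at h2
      exact h2.symm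
    have hst := yoshida_stable hS hF hno hcardW t htS P φ.range (ext1 φ) (isIso_of_mem F hφ)
      ⟨x, hxS⟩ x.2 (by rw [ext1_apply φ x]; exact hφS)
    apply hyM
    rw [← ht1, hy, map_mul, map_inv, inv_mul_eq_one, ← hst]
    congr 1
    apply Subtype.ext
    exact ext1_apply φ x
  have hHF : H.focalSubgroup ≤ F.focalSubgroup := by
    unfold focalSubgroup
    apply Subgroup.closure_mono
    rintro _ ⟨P, φ, x, hφ, rfl⟩
    exact ⟨P, φ, x, hsub P hφ, rfl⟩
  have heq : Φ ⊔ F.focalSubgroup = Φ ⊔ H.focalSubgroup :=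
    le_antisymm (sup_le le_sup_left hFK) (sup_le le_sup_left (le_sup_of_le_right hHF))
  exact ((tate hS hF hHsat hsub).1.1 heq).symm

end Cfsg.Agent.Lib.H25.Bis
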