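import Mathlib
import Cfsg.Agent.S2490

/-!
# S3413 (commuting graph of `M₁₁`): the group-theoretic core (helper25)

* `extend` : a bijection of the non-identity elements of two groups extends to a bijection of the groups;
* `card_centralizer_eq` : an isomorphism of commuting graphs preserves the orders of centralizers;
* `no_order_eleven_mul` : a group of order 7920 with an element `y ≠ 1` whose centralizer has order 11 has no
  element of order `11 b`, `b > 1`;
* `isSimpleGroup_of_card_centralizer_eq_eleven` : such a group is simple (landed S2490 with `A = {11}`).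
-/

set_option autoImplicit false

namespace Cfsg.Agent.Lib.H25.CG11

section Extend

variable {H M : Type*} [Group H] [Group M]

/-- a bijection of the non-identity elements extends to a bijection of the groups (`1 ↦ 1`) -/
noncomputable def extend (f : {h : H // h ≠ 1} ≃ {g : M // g ≠ 1}) : H ≃ M := by
  classical
  exact
  { toFun := fun h => if hh : h = 1 then 1 else (f ⟨h, hh⟩ : M)
    invFun := fun g => if hg : g = 1 then 1 else (f.symm ⟨g, hg⟩ : H)
    left_inv := by
      intro h
      by_cases hh : h = 1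
      · simp [hh]
      · have h1 : (f ⟨h, hh⟩ : M) ≠ 1 := (f ⟨h, hh⟩).2
        simp only [hh, dif_neg, not_false_eq_true, h1, Subtype.coe_eta, Equiv.symm_apply_apply]
    right_inv := by
      intro g
      by_cases hg : g = 1
      · simp [hg]
      · have h1 : (f.symm ⟨g, hg⟩ : H) ≠ 1 := (f.symm ⟨g, hg⟩).2
        simp only [hg, dif_neg, not_false_eq_true, h1, Subtype.coe_eta, Equiv.apply_symm_apply] }

theorem extend_one (f : {h : H // h ≠ 1} ≃ {g : M // g ≠ 1}) : extend f 1 = 1 := by
  simp [extend]

theorem extend_of_ne (f : {h : H // h ≠ 1} ≃ {g : M // g ≠ 1}) {h : H} (hh : h ≠ 1) :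
    extend f h = (f ⟨h, hh⟩ : M) := by
  simp [extend, hh]

theorem card_eq_of_equiv_ne_one (f : {h : H // h ≠ 1} ≃ {g : M // g ≠ 1}) : Nat.card H = Nat.card M :=
  Nat.card_congr (extend f)

/-- an isomorphism of commuting graphs preserves the orders of centralizers -/
theorem card_centralizer_eq (f : {h : H // h ≠ 1} ≃ {g : M // g ≠ 1})
    (hf : ∀ x y : {h : H // h ≠ 1}, (x : H) * y = y * x ↔ ((f x : M)) * (f y) = (f y) * (f x))
    (x : {h : H // h ≠ 1}) :
    Nat.card (Subgroup.centralizer ({(x : H)} : Set H)) =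
      Nat.card (Subgroup.centralizer ({(f x : M)} : Set M)) := by
  refine Nat.card_congr ((extend f).subtypeEquiv ?_)
  intro h
  rw [Subgroup.mem_centralizer_singleton_iff, Subgroup.mem_centralizer_singleton_iff]
  by_cases hh : h = 1
  · subst hh
    rw [extend_one]
    simp
  · rw [extend_of_ne f hh]
    exact hf ⟨h, hh⟩ x

end Extend

section Eleven

variable {H : Type*} [Group H] [Finite H]

/-- a subgroup of order 11 of a group of order 7920 is (the carrier of) a Sylow 11-subgroup -/
theorem exists_sylow_eq (hcard : Nat.card H = 7920) (T : Subgroup H) (hT : Nat.card T = 11) :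
    ∃ P : Sylow 11 H, (P : Subgroup H) = T := by
  have : Fact (Nat.Prime 11) := ⟨by norm_num⟩
  have hTp : IsPGroup 11 T := IsPGroup.of_card (n := 1) (by rw [hT]; norm_num)
  obtain ⟨P, hTP⟩ := hTp.exists_le_sylow
  refine ⟨P, ?_⟩
  obtain ⟨k, hk⟩ := P.2.exists_card_eq
  have hdvd : Nat.card (P : Subgroup H) ∣ 7920 := hcard ▸ Subgroup.card_subgroup_dvd_card _
  have h11 : 11 ∣ Nat.card (P : Subgroup H) := by
    have h := Subgroup.card_dvd_of_le hTP
    rwa [hT] at h
  have hk1 : k = 1 := by
    rcases Nat.lt_or_ge k 2 with hlt | hge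
    · interval_cases k
      · rw [hk] at h11
        norm_num at h11
      · rfl
    · exfalso
      have h121 : 11 ^ 2 ∣ 11 ^ k := pow_dvd_pow 11 hge
      rw [← hk] at h121
      have := h121.trans hdvd
      norm_num at this
  rw [hk1, pow_one] at hk
  exact (Subgroup.eq_of_le_of_card_ge hTP (by rw [hk, hT])).symm

/-- no element of order `11 b`, `b > 1`, when some `y ≠ 1` has a centralizer of order 11 -/
theorem no_order_eleven_mul (hcard : Nat.card H = 7920) (y : H) (hy1 : y ≠ 1)
    (hy : Nat.card (Subgroup.centralizer ({y} : Set H)) = 11) (b : ℕ) (hb : 1 < b) :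
    ¬ ∃ g : H, orderOf g = 11 * b := by
  have : Fact (Nat.Prime 11) := ⟨by norm_num⟩
  rintro ⟨g, hg⟩
  -- `y` has order 11
  have hyC : y ∈ Subgroup.centralizer ({y} : Set H) := Subgroup.mem_centralizer_singleton_iff.2 rfl
  have hyord : orderOf y = 11 := by
    have h1 : orderOf (⟨y, hyC⟩ : Subgroup.centralizer ({y} : Set H)) ∣ 11 := hy ▸ orderOf_dvd_natCard _
    rw [Subgroup.orderOf_mk] at h1
    rcases (Nat.dvd_prime (by norm_num : Nat.Prime 11)).1 h1 with h | h
    · exact absurd (orderOf_eq_one_iff.1 h) hy1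
    · exact h
  have hZy : Nat.card (Subgroup.zpowers y) = 11 := by rw [Nat.card_zpowers, hyord]
  -- `t = g ^ b` has order 11
  have htord : orderOf (g ^ b) = 11 := by
    rw [orderOf_pow' g (by omega : b ≠ 0), hg, Nat.gcd_eq_right (Dvd.intro_left 11 rfl)]
    exact Nat.mul_div_cancel 11 (by omega)
  have hZt : Nat.card (Subgroup.zpowers (g ^ b)) = 11 := by rw [Nat.card_zpowers, htord]
  obtain ⟨P, hP⟩ := exists_sylow_eq hcard _ hZt
  obtain ⟨Q, hQ⟩ := exists_sylow_eq hcard _ hZy
  obtain ⟨c, hc⟩ := MulAction.exists_smul_eq H P Q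
  -- `s = c t c⁻¹ ∈ ⟨y⟩`
  have hs : c * g ^ b * c⁻¹ ∈ Subgroup.zpowers y := by
    rw [← hQ, ← hc, Sylow.coe_subgroup_smul, Subgroup.mem_pointwise_smul_iff_inv_smul_mem, hP]
    simp only [MulAut.smul_def, MulAut.conj_inv_apply]
    have : c⁻¹ * (c * g ^ b * c⁻¹) * c = g ^ b := by group
    rw [this]
    exact Subgroup.mem_zpowers _
  set s := c * g ^ b * c⁻¹ with hsdef
  have hsord : orderOf s = 11 := by
    have := orderOf_injective (MulAut.conj c).toMonoidHom (MulAut.conj c).injective (g ^ b)
    simp only [MulEquiv.coe_toMonoidHom, MulAut.conj_apply] at this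
    rw [hsdef, this, htord]
  -- `⟨s⟩ = ⟨y⟩`, so `y` is a power of `s`
  have hZs : Subgroup.zpowers s = Subgroup.zpowers y := by
    refine Subgroup.eq_of_le_of_card_ge ((Subgroup.zpowers_le).2 hs) ?_
    rw [hZy, Nat.card_zpowers, hsord]
  have hys : y ∈ Subgroup.zpowers s := hZs ▸ Subgroup.mem_zpowers y
  obtain ⟨k, hk⟩ := Subgroup.mem_zpowers_iff.1 hys
  -- `g' = c g c⁻¹` commutes with `s = g' ^ b`, hence with `y`
  set g' := c * g * c⁻¹ with hg'def
  have hsg' : s = g' ^ b := by
    rw [hsdef, hg'def, conj_pow]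
  have hcomm : Commute g' s := by
    rw [hsg']
    exact Commute.pow_right (Commute.refl g') b
  have hcommy : Commute g' y := by
    rw [← hk]
    exact Commute.zpow_right hcomm k
  have hg'C : g' ∈ Subgroup.centralizer ({y} : Set H) :=
    Subgroup.mem_centralizer_singleton_iff.2 hcommy.eq
  have h1 : orderOf (⟨g', hg'C⟩ : Subgroup.centralizer ({y} : Set H)) ∣ 11 := hy ▸ orderOf_dvd_natCard _
  rw [Subgroup.orderOf_mk] at h1
  have hg'ord : orderOf g' = 11 * b := by
    have := orderOf_injective (MulAut.conj c).toMonoidHom (MulAut.conj c).injective g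
    simp only [MulEquiv.coe_toMonoidHom, MulAut.conj_apply] at this
    rw [hg'def, this, hg]
  rw [hg'ord] at h1
  have : 11 * b ≤ 11 := Nat.le_of_dvd (by norm_num) h1
  nlinarith

/-- a group of order 7920 with an element `y ≠ 1` whose centralizer has order 11 is simple -/
theorem isSimpleGroup_of_card_centralizer_eq_eleven (hcard : Nat.card H = 7920) (y : H) (hy1 : y ≠ 1)
    (hy : Nat.card (Subgroup.centralizer ({y} : Set H)) = 11) : IsSimpleGroup H := by
  refine Cfsg.Agent.S2490.result hcard ⟨{11}, ⟨11, rfl, by norm_num, by rw [hcard]; norm_num⟩,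
    ⟨2, by simp, by norm_num, by rw [hcard]; norm_num⟩, ?_⟩
  intro a ha b hb _ hbp _ _
  rw [Set.mem_singleton_iff] at ha
  subst ha
  exact no_order_eleven_mul hcard y hy1 hy b hbp.one_lt

end Eleven

end Cfsg.Agent.Lib.H25.CG11

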