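import Mathlib
import Cfsg.Agent.Lib.H28.CSL2Defs

/-!
# S3211 piece ISO1 (helper25): the coset `L₁L₂n` contains no involution.
-/

set_option autoImplicit false

namespace Cfsg.Agent.Lib.H25.CSL2

open Cfsg.Agent.Lib.H28.CSL2

variable {G : Type*} [Group G] {L₁ L₂ : Subgroup G} {j n : G}

/-- **ISO1**. The coset `L₁L₂n` contains no involution. -/
theorem cfg_no_inv (h : Cfg L₁ L₂ j n) {a b : G} (ha : a ∈ L₁) (hb : b ∈ L₂) :
    (a * b * n) * (a * b * n) ≠ 1 := by
  intro hw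
  have ha2m : n * a * n⁻¹ ∈ L₂ := h.n12 a ha
  have hb1m : n * b * n⁻¹ ∈ L₁ := h.n21 b hb
  -- abbreviations
  obtain ⟨a2, ha2⟩ : ∃ a2, a2 = n * a * n⁻¹ := ⟨_, rfl⟩
  obtain ⟨b1, hb1⟩ : ∃ b1, b1 = n * b * n⁻¹ := ⟨_, rfl⟩
  rw [← ha2] at ha2m
  rw [← hb1] at hb1m
  have hna : n * a = a2 * n := by rw [ha2]; group
  have hnb : n * b = b1 * n := by rw [hb1]; group
  have e1 : (a * b * n) * (a * b * n) = a * b * a2 * b1 * j := by
    calc (a * b * n) * (a * b * n) = a * b * (n * a) * b * n := by group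
      _ = a * b * (a2 * n) * b * n := by rw [hna]
      _ = a * b * a2 * (n * b) * n := by group
      _ = a * b * a2 * (b1 * n) * n := by rw [hnb]
      _ = a * b * a2 * b1 * (n * n) := by group
      _ = a * b * a2 * b1 * j := by rw [h.nn]
  have c1 : b1 * b = b * b1 := h.comm b1 hb1m b hb
  have c2 : b1 * a2 = a2 * b1 := h.comm b1 hb1m a2 ha2m
  have e2 : a * b * a2 * b1 = (a * b1) * (b * a2) := by
    calc a * b * a2 * b1 = a * b * (a2 * b1) := by group
      _ = a * b * (b1 * a2) := by rw [c2]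
      _ = a * (b * b1) * a2 := by group
      _ = a * (b1 * b) * a2 := by rw [c1]
      _ = (a * b1) * (b * a2) := by group
  have ha'm : a * b1 ∈ L₁ := L₁.mul_mem ha hb1m
  have hb'm : b * a2 ∈ L₂ := L₂.mul_mem hb ha2m
  have e3 : (a * b1) * (b * a2) * j = 1 := by rw [← e2, ← e1]; exact hw
  -- a' ∈ L₂
  have ha'2 : a * b1 ∈ L₂ := by
    have : a * b1 = ((b * a2) * j)⁻¹ := by
      rw [eq_inv_iff_mul_eq_one, ← mul_assoc]; exact e3
    rw [this]
    exact L₂.inv_mem (L₂.mul_mem hb'm h.s2.jL)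
  -- n a' n⁻¹ = a2 * b
  have hjb : b * j = j * b := h.s2.cen b hb
  have hnb1 : n * b1 * n⁻¹ = b := by
    have : n * b1 * n⁻¹ = (n * n) * b * (n * n)⁻¹ := by rw [hb1]; group
    rw [this, h.nn]
    calc j * b * j⁻¹ = (j * b) * j⁻¹ := by group
      _ = (b * j) * j⁻¹ := by rw [hjb]
      _ = b := by group
  have hna' : n * (a * b1) * n⁻¹ = a2 * b := by
    calc n * (a * b1) * n⁻¹ = (n * a * n⁻¹) * (n * b1 * n⁻¹) := by group
      _ = a2 * b := by rw [← ha2, hnb1]
  have hb' : b * a2 = b * (n * (a * b1) * n⁻¹) * b⁻¹ := by rw [hna']; group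
  rcases h.meet _ ha'm ha'2 with h1 | h1
  · -- a' = 1 : b' = 1, so j = 1
    rw [h1] at hb' e3
    have hb'1 : b * a2 = 1 := by rw [hb']; group
    rw [hb'1] at e3
    apply h.s1.jne
    simpa using e3
  · -- a' = j : b' = j, so j j j = 1, j = 1
    rw [h1] at hb' e3
    have hnj : n * j * n⁻¹ = j := by
      calc n * j * n⁻¹ = (n * j) * n⁻¹ := by group
        _ = (j * n) * n⁻¹ := by rw [h.nj]
        _ = j := by group
    have hb'1 : b * a2 = j := by
      rw [hb', hnj]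
      calc b * j * b⁻¹ = (b * j) * b⁻¹ := by group
        _ = (j * b) * b⁻¹ := by rw [hjb]
        _ = j := by group
    rw [hb'1] at e3
    apply h.s1.jne
    have hjj := h.s1.jj
    calc j = (j * j) * j := by rw [hjj]; group
      _ = 1 := e3

end Cfsg.Agent.Lib.H25.CSL2
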