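import Mathlib
import Cfsg.Agent.Lib.H28.CSL2Defs

/-!
# S3211 piece ISO2 (helper25): the involutions of `L₁L₂` and their conjugacy.
-/

set_option autoImplicit false

namespace Cfsg.Agent.Lib.H25.CSL2

open Cfsg.Agent.Lib.H28.CSL2

variable {G : Type*} [Group G] {L₁ L₂ : Subgroup G} {j n : G}

/-- **ISO2** (a). The involutions of `L₁L₂`. -/
theorem cfg_inv_cases (h : Cfg L₁ L₂ j n) {a b : G} (ha : a ∈ L₁) (hb : b ∈ L₂)
    (hw : (a * b) * (a * b) = 1) : a * b = 1 ∨ a * b = j ∨ (a * a = j ∧ b * b = j) := by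
  have c1 : a * b = b * a := h.comm a ha b hb
  have e1 : (a * a) * (b * b) = 1 := by
    calc (a * a) * (b * b) = a * (a * b) * b := by group
      _ = a * (b * a) * b := by rw [c1]
      _ = (a * b) * (a * b) := by group
      _ = 1 := hw
  have haa2 : a * a ∈ L₂ := by
    have : a * a = (b * b)⁻¹ := by rw [eq_inv_iff_mul_eq_one]; exact e1
    rw [this]; exact L₂.inv_mem (L₂.mul_mem hb hb)
  have hjj := h.s1.jj
  rcases h.meet _ (L₁.mul_mem ha ha) haa2 with h1 | h1
  · -- a a = 1, b b = 1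
    have hbb : b * b = 1 := by rw [h1] at e1; simpa using e1
    rcases h.s1.inv a ha h1 with h2 | h2 <;> rcases h.s2.inv b hb hbb with h3 | h3
    · left; rw [h2, h3]; group
    · right; left; rw [h2, h3]; group
    · right; left; rw [h2, h3]; group
    · left; rw [h2, h3]; exact hjj
  · -- a a = j, b b = j⁻¹ = j
    right; right
    refine ⟨h1, ?_⟩
    rw [h1] at e1
    calc b * b = (j * j) * (b * b) := by rw [hjj]; group
      _ = j * (j * (b * b)) := by group
      _ = j := by rw [e1]; group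

/-- **ISO2** (b). The involutions `a b`, `a² = b² = j`, are conjugate under `L₁L₂ ≤ C(j)`. -/
theorem cfg_conj_inv (h : Cfg L₁ L₂ j n) {a b a' b' : G} (ha : a ∈ L₁) (hb : b ∈ L₂)
    (ha' : a' ∈ L₁) (hb' : b' ∈ L₂) (haa : a * a = j) (hbb : b * b = j) (haa' : a' * a' = j)
    (hbb' : b' * b' = j) : ∃ c : G, c * j = j * c ∧ c * (a * b) * c⁻¹ = a' * b' := by
  obtain ⟨k, hk, hka⟩ := h.s1.conj a ha a' ha' haa haa'
  obtain ⟨l, hl, hlb⟩ := h.s2.conj b hb b' hb' hbb hbb'
  refine ⟨k * l, ?_, ?_⟩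
  · have e1 := h.s1.cen k hk
    have e2 := h.s2.cen l hl
    calc k * l * j = k * (l * j) := by group
      _ = k * (j * l) := by rw [e2]
      _ = (k * j) * l := by group
      _ = (j * k) * l := by rw [e1]
      _ = j * (k * l) := by group
  · have c1 : a * l = l * a := h.comm a ha l hl
    have c2 : k⁻¹ * b' = b' * k⁻¹ := h.comm k⁻¹ (L₁.inv_mem hk) b' hb'
    calc k * l * (a * b) * (k * l)⁻¹ = k * (l * a) * b * l⁻¹ * k⁻¹ := by group
      _ = k * (a * l) * b * l⁻¹ * k⁻¹ := by rw [c1]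
      _ = k * a * (l * b * l⁻¹) * k⁻¹ := by group
      _ = k * a * b' * k⁻¹ := by rw [hlb]
      _ = k * a * (b' * k⁻¹) := by group
      _ = k * a * (k⁻¹ * b') := by rw [c2]
      _ = (k * a * k⁻¹) * b' := by group
      _ = a' * b' := by rw [hka]

end Cfsg.Agent.Lib.H25.CSL2
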