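import Mathlib
import Cfsg.Agent.Lib.H28.CSL2Defs
import Cfsg.Agent.Lib.H25.CSL2ISO1
import Cfsg.Agent.Lib.H25.CSL2ISO2

/-!
# S3211 piece ISO3 (helper25): if `j` commutes with a conjugate `≠ j`, some element swaps `j` and `x₁x₂`.
-/

set_option autoImplicit false

namespace Cfsg.Agent.Lib.H25.CSL2

open Cfsg.Agent.Lib.H28.CSL2

variable {G : Type*} [Group G] {L₁ L₂ : Subgroup G} {j n : G}

/-- every involution `t ≠ j` of `C(j)` is `C(j)`-conjugate to `x₁x₂`. -/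
theorem cfg_conj_to (h : Cfg L₁ L₂ j n) {x₁ x₂ : G} (hx₁ : x₁ ∈ L₁) (hx₂ : x₂ ∈ L₂)
    (h1 : x₁ * x₁ = j) (h2 : x₂ * x₂ = j) {t : G} (htj : t * j = j * t) (htt : t * t = 1)
    (ht1 : t ≠ 1) (htne : t ≠ j) :
    ∃ c : G, c * j = j * c ∧ c * t * c⁻¹ = x₁ * x₂ := by
  obtain ⟨a, ha, b, hb, hab | hab⟩ := h.cover t htj
  · have hw : (a * b) * (a * b) = 1 := by rw [← hab]; exact htt
    rcases cfg_inv_cases h ha hb hw with e | e | ⟨e1, e2⟩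
    · exact absurd (hab.trans e) ht1
    · exact absurd (hab.trans e) htne
    · obtain ⟨c, hc1, hc2⟩ := cfg_conj_inv h ha hb hx₁ hx₂ e1 e2 h1 h2
      exact ⟨c, hc1, by rw [hab]; exact hc2⟩
  · exfalso
    apply cfg_no_inv h ha hb
    rw [← hab]; exact htt

/-- **ISO3**. If `j` commutes with a conjugate `≠ j`, then for every involution `x₁ x₂ ≠ j` of `C(j)`
some element swaps `j` and `x₁ x₂`. -/
theorem cfg_exists_swap (h : Cfg L₁ L₂ j n) {x₁ x₂ : G} (hx₁ : x₁ ∈ L₁) (hx₂ : x₂ ∈ L₂)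
    (h1 : x₁ * x₁ = j) (h2 : x₂ * x₂ = j) {g : G} (hg : Commute j (g * j * g⁻¹))
    (hne : g * j * g⁻¹ ≠ j) :
    ∃ h' : G, h' * j * h'⁻¹ = x₁ * x₂ ∧ h' * (x₁ * x₂) * h'⁻¹ = j := by
  have hjj := h.s1.jj
  have hj1 := h.s1.jne
  -- t = g j g⁻¹
  have ht_j : (g * j * g⁻¹) * j = j * (g * j * g⁻¹) := hg.eq.symm
  have ht_t : (g * j * g⁻¹) * (g * j * g⁻¹) = 1 := by
    calc (g * j * g⁻¹) * (g * j * g⁻¹) = g * (j * j) * g⁻¹ := by group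
      _ = 1 := by rw [hjj]; group
  have ht_1 : g * j * g⁻¹ ≠ 1 := by
    intro e
    apply hj1
    calc j = g⁻¹ * (g * j * g⁻¹) * g := by group
      _ = 1 := by rw [e]; group
  -- t'' = g⁻¹ j g
  have hs_j : (g⁻¹ * j * g) * j = j * (g⁻¹ * j * g) := by
    calc (g⁻¹ * j * g) * j = g⁻¹ * (j * (g * j * g⁻¹)) * g := by group
      _ = g⁻¹ * ((g * j * g⁻¹) * j) * g := by rw [ht_j]
      _ = j * (g⁻¹ * j * g) := by group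
  have hs_s : (g⁻¹ * j * g) * (g⁻¹ * j * g) = 1 := by
    calc (g⁻¹ * j * g) * (g⁻¹ * j * g) = g⁻¹ * (j * j) * g := by group
      _ = 1 := by rw [hjj]; group
  have hs_1 : g⁻¹ * j * g ≠ 1 := by
    intro e
    apply hj1
    calc j = g * (g⁻¹ * j * g) * g⁻¹ := by group
      _ = 1 := by rw [e]; group
  have hs_ne : g⁻¹ * j * g ≠ j := by
    intro e
    apply hne
    calc g * j * g⁻¹ = g * (g⁻¹ * j * g) * g⁻¹ := by rw [e]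
      _ = j := by group
  obtain ⟨c₁, hc₁j, hc₁⟩ := cfg_conj_to h hx₁ hx₂ h1 h2 ht_j ht_t ht_1 hne
  obtain ⟨c₂, hc₂j, hc₂⟩ := cfg_conj_to h hx₁ hx₂ h1 h2 hs_j hs_s hs_1 hs_ne
  refine ⟨c₂ * g⁻¹ * c₁⁻¹, ?_, ?_⟩
  · have e1 : c₁⁻¹ * j * c₁ = j := by
      calc c₁⁻¹ * j * c₁ = c₁⁻¹ * (j * c₁) := by group
        _ = c₁⁻¹ * (c₁ * j) := by rw [hc₁j]
        _ = j := by group
    calc c₂ * g⁻¹ * c₁⁻¹ * j * (c₂ * g⁻¹ * c₁⁻¹)⁻¹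
        = c₂ * (g⁻¹ * (c₁⁻¹ * j * c₁) * g) * c₂⁻¹ := by group
      _ = c₂ * (g⁻¹ * j * g) * c₂⁻¹ := by rw [e1]
      _ = x₁ * x₂ := hc₂
  · have e1 : c₁⁻¹ * (x₁ * x₂) * c₁ = g * j * g⁻¹ := by
      rw [← hc₁]; group
    have e2 : c₂ * j * c₂⁻¹ = j := by
      calc c₂ * j * c₂⁻¹ = (c₂ * j) * c₂⁻¹ := by group
        _ = (j * c₂) * c₂⁻¹ := by rw [hc₂j]
        _ = j := by group
    calc c₂ * g⁻¹ * c₁⁻¹ * (x₁ * x₂) * (c₂ * g⁻¹ * c₁⁻¹)⁻¹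
        = c₂ * (g⁻¹ * (c₁⁻¹ * (x₁ * x₂) * c₁) * g) * c₂⁻¹ := by group
      _ = c₂ * (g⁻¹ * (g * j * g⁻¹) * g) * c₂⁻¹ := by rw [e1]
      _ = c₂ * j * c₂⁻¹ := by group
      _ = j := e2

end Cfsg.Agent.Lib.H25.CSL2
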