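import Mathlib

/-!
# S1950, END3 route A, piece ARITH3 (helper25): the arithmetic endgame of the case `e = p - 1`, `q ≥ p²`

Exact statement of `Cfsg.Agent.Lib.H12.CY.Sigs.arith3` (tools/blueprints/S1950_sigs_h12.lean), pure Mathlib.
-/

set_option autoImplicit false

namespace Cfsg.Agent.Lib.H25.CY

open scoped ComplexConjugate

/-- ARITH3.  The arithmetic endgame of the case `e = p - 1`, `q ≥ p²` (pure).  `X`-part `≤ 1 + (p-2)/(p+1) < 2`,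
`Y`-part has real part `≤ p - 1`, total `< p + 1 ≤ q (p-2)/(p-1)`. -/
theorem arith3 {ι : Type*} [Fintype ι] [DecidableEq ι] (X Y : Finset ι) (hXY : Disjoint X Y)
    (hU : X ∪ Y = Finset.univ) (i₀ : ι) (hi₀ : i₀ ∈ X) (p q m : ℕ) (hp3 : 3 ≤ p) (hq : p ^ 2 ≤ q) (hm : m ≤ p - 1)
    (a : ι → ℤ) (c : ι → ℂ) (D : ι → ℕ) (hDpos : ∀ i, 0 < D i)
    (hXc : ∀ i ∈ X, c i = (a i : ℂ)) (ha0 : a i₀ = 1) (hD0 : D i₀ = 1)
    (hXdeg : ∀ i ∈ X, i ≠ i₀ → 0 < a i → a i + (q : ℤ) ≤ (D i : ℤ))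
    (hXsum : ∑ i ∈ X, (a i) ^ 2 = (m : ℤ))
    (hYc : ∀ i ∈ Y, ‖c i‖ ≤ (p : ℝ) - 1) (hYdeg : ∀ i ∈ Y, (q : ℤ) - (m : ℤ) ≤ (D i : ℤ))
    (hnorm : ∑ i, c i * conj (c i) = (q : ℂ))
    (hcube : ((p : ℂ) - 1) * ∑ i, c i * c i * conj (c i) / (D i : ℂ) = (q : ℂ) * ((p : ℂ) - 2)) : False := by
  classical
  -- numerical basics
  have hp3R : (3 : ℝ) ≤ (p : ℝ) := by exact_mod_cast hp3
  have hqR : (p : ℝ) ^ 2 ≤ (q : ℝ) := by exact_mod_cast hq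
  have hmR : (m : ℝ) ≤ (p : ℝ) - 1 := by
    have h1 : 1 ≤ p := by omega
    have : (m : ℝ) ≤ ((p - 1 : ℕ) : ℝ) := by exact_mod_cast hm
    rw [Nat.cast_sub h1] at this
    simpa using this
  have hqm : (0 : ℝ) < (q : ℝ) - (m : ℝ) := by nlinarith
  -- squared norms
  set n : ι → ℝ := fun i => Complex.normSq (c i) with hn
  have hnn : ∀ i, 0 ≤ n i := fun i => Complex.normSq_nonneg _
  have hnX : ∀ i ∈ X, n i = ((a i : ℤ) : ℝ) ^ 2 := by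
    intro i hi
    simp only [hn, hXc i hi]
    rw [show ((a i : ℤ) : ℂ) = (((a i : ℤ) : ℝ) : ℂ) by push_cast; rfl, Complex.normSq_ofReal]
    ring
  have hsplit : ∀ f : ι → ℝ, ∑ i, f i = ∑ i ∈ X, f i + ∑ i ∈ Y, f i := by
    intro f
    rw [← hU, Finset.sum_union hXY]
  have hsumn : ∑ i, n i = (q : ℝ) := by
    have h : ((∑ i, n i : ℝ) : ℂ) = (q : ℂ) := by
      rw [← hnorm]
      push_cast
      refine Finset.sum_congr rfl fun i _ => ?_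
      rw [Complex.mul_conj]
    exact_mod_cast h
  have hsumX : ∑ i ∈ X, n i = (m : ℝ) := by
    rw [Finset.sum_congr rfl hnX]
    have h := congrArg (fun z : ℤ => (z : ℝ)) hXsum
    push_cast at h
    exact h
  have hsumY : ∑ i ∈ Y, n i = (q : ℝ) - (m : ℝ) := by
    have := hsplit n
    rw [hsumn, hsumX] at this
    linarith
  -- the real parts of the terms
  set T : ι → ℝ := fun i => (c i).re * (n i / (D i : ℝ)) with hT
  have hterm : ∀ i, (c i * c i * conj (c i) / (D i : ℂ)).re = T i := by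
    intro i
    have h : c i * c i * conj (c i) / (D i : ℂ) = c i * (((n i / (D i : ℝ)) : ℝ) : ℂ) := by
      rw [mul_assoc, Complex.mul_conj]
      push_cast
      ring
    rw [h, Complex.re_mul_ofReal]
  have hDR : ∀ i, (0 : ℝ) < (D i : ℝ) := fun i => by exact_mod_cast hDpos i
  -- the real part of the cube identity
  have hre : ((p : ℝ) - 1) * ∑ i, T i = (q : ℝ) * ((p : ℝ) - 2) := by
    have h := congrArg Complex.re hcube
    have e1 : ((p : ℂ) - 1) = (((p : ℝ) - 1 : ℝ) : ℂ) := by push_cast; ring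
    have e2 : (q : ℂ) * ((p : ℂ) - 2) = (((q : ℝ) * ((p : ℝ) - 2) : ℝ) : ℂ) := by push_cast; ring
    rw [e1, Complex.re_ofReal_mul, e2, Complex.ofReal_re, Complex.re_sum] at h
    rw [← h]
    congr 1
    exact (Finset.sum_congr rfl fun i _ => hterm i).symm
  -- bound on Y
  have hYb : ∀ i ∈ Y, T i ≤ ((p : ℝ) - 1) * (n i / ((q : ℝ) - (m : ℝ))) := by
    intro i hi
    have h1 : (c i).re ≤ (p : ℝ) - 1 := le_trans (Complex.re_le_norm (c i)) (hYc i hi)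
    have h2 : (q : ℝ) - (m : ℝ) ≤ (D i : ℝ) := by
      have := hYdeg i hi
      have h' : ((q : ℤ) - (m : ℤ) : ℤ) ≤ (D i : ℤ) := this
      exact_mod_cast h'
    have h3 : 0 ≤ n i / (D i : ℝ) := div_nonneg (hnn i) (hDR i).le
    have h4 : n i / (D i : ℝ) ≤ n i / ((q : ℝ) - (m : ℝ)) :=
      div_le_div_of_nonneg_left (hnn i) hqm h2
    have h5 : (0 : ℝ) ≤ (p : ℝ) - 1 := by linarith
    calc T i = (c i).re * (n i / (D i : ℝ)) := rfl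
      _ ≤ ((p : ℝ) - 1) * (n i / (D i : ℝ)) := mul_le_mul_of_nonneg_right h1 h3
      _ ≤ ((p : ℝ) - 1) * (n i / ((q : ℝ) - (m : ℝ))) := mul_le_mul_of_nonneg_left h4 h5
  have hYtot : ∑ i ∈ Y, T i ≤ (p : ℝ) - 1 := by
    calc ∑ i ∈ Y, T i ≤ ∑ i ∈ Y, ((p : ℝ) - 1) * (n i / ((q : ℝ) - (m : ℝ))) := Finset.sum_le_sum hYb
      _ = ((p : ℝ) - 1) * ((∑ i ∈ Y, n i) / ((q : ℝ) - (m : ℝ))) := by
        rw [Finset.sum_div, Finset.mul_sum]
      _ = (p : ℝ) - 1 := by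
        rw [hsumY, div_self hqm.ne', mul_one]
  -- bound on X
  have hreX : ∀ i ∈ X, (c i).re = ((a i : ℤ) : ℝ) := by
    intro i hi
    rw [hXc i hi]
    simp
  have hT0 : T i₀ = 1 := by
    simp only [hT, hreX i₀ hi₀, hnX i₀ hi₀, ha0, hD0]
    norm_num
  have haZle : ∀ i ∈ X, (a i) ^ 2 ≤ (m : ℤ) := by
    intro i hi
    rw [← hXsum]
    exact Finset.single_le_sum (f := fun i => (a i) ^ 2) (fun j _ => sq_nonneg (a j)) hi
  have hXb : ∀ i ∈ X.erase i₀, T i ≤ ((a i : ℤ) : ℝ) ^ 2 / ((p : ℝ) + 1) := by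
    intro i hi
    obtain ⟨hne, hiX⟩ := Finset.mem_erase.1 hi
    have hpp : (0 : ℝ) < (p : ℝ) + 1 := by linarith
    have hsq : (0 : ℝ) ≤ ((a i : ℤ) : ℝ) ^ 2 := sq_nonneg _
    simp only [hT, hreX i hiX, hnX i hiX]
    rcases le_or_gt (a i) 0 with hle | hpos
    · have h1 : ((a i : ℤ) : ℝ) ≤ 0 := by exact_mod_cast hle
      have h2 : 0 ≤ ((a i : ℤ) : ℝ) ^ 2 / (D i : ℝ) := div_nonneg hsq (hDR i).le
      have h3 : ((a i : ℤ) : ℝ) * (((a i : ℤ) : ℝ) ^ 2 / (D i : ℝ)) ≤ 0 :=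
        mul_nonpos_of_nonpos_of_nonneg h1 h2
      exact le_trans h3 (div_nonneg hsq hpp.le)
    · -- `1 ≤ a i ≤ (a i)^2 ≤ m ≤ p - 1`, `D i ≥ a i + q ≥ a i + p^2 ≥ a i * (p + 1)`
      have hdeg := hXdeg i hiX hne hpos
      have hdegR : ((a i : ℤ) : ℝ) + (q : ℝ) ≤ (D i : ℝ) := by exact_mod_cast hdeg
      have ha1 : (1 : ℝ) ≤ ((a i : ℤ) : ℝ) := by exact_mod_cast hpos
      have hale : ((a i : ℤ) : ℝ) ≤ (p : ℝ) - 1 := by
        have h1 : (a i) ≤ (a i) ^ 2 := by nlinarith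
        have h2 : (a i) ≤ (m : ℤ) := le_trans h1 (haZle i hiX)
        have h3 : ((a i : ℤ) : ℝ) ≤ (m : ℝ) := by exact_mod_cast h2
        linarith
      have hkey : ((a i : ℤ) : ℝ) * ((p : ℝ) + 1) ≤ (D i : ℝ) := by nlinarith
      have hfrac : ((a i : ℤ) : ℝ) / (D i : ℝ) ≤ 1 / ((p : ℝ) + 1) := by
        rw [div_le_div_iff₀ (hDR i) hpp]
        linarith
      calc ((a i : ℤ) : ℝ) * (((a i : ℤ) : ℝ) ^ 2 / (D i : ℝ))
          = ((a i : ℤ) : ℝ) ^ 2 * (((a i : ℤ) : ℝ) / (D i : ℝ)) := by ring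
        _ ≤ ((a i : ℤ) : ℝ) ^ 2 * (1 / ((p : ℝ) + 1)) := mul_le_mul_of_nonneg_left hfrac hsq
        _ = ((a i : ℤ) : ℝ) ^ 2 / ((p : ℝ) + 1) := by ring
  have hsumXe : ∑ i ∈ X.erase i₀, ((a i : ℤ) : ℝ) ^ 2 = (m : ℝ) - 1 := by
    have h := Finset.add_sum_erase X (fun i => ((a i : ℤ) : ℝ) ^ 2) hi₀
    have h2 : ∑ i ∈ X, ((a i : ℤ) : ℝ) ^ 2 = (m : ℝ) := by
      rw [← hsumX]
      exact (Finset.sum_congr rfl hnX).symm
    rw [h2, ha0] at h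
    have : ((1 : ℤ) : ℝ) ^ 2 = 1 := by norm_num
    rw [this] at h
    linarith
  have hXtot : ∑ i ∈ X, T i ≤ 1 + ((m : ℝ) - 1) / ((p : ℝ) + 1) := by
    rw [← Finset.add_sum_erase X T hi₀, hT0]
    have : ∑ i ∈ X.erase i₀, T i ≤ ((m : ℝ) - 1) / ((p : ℝ) + 1) := by
      calc ∑ i ∈ X.erase i₀, T i ≤ ∑ i ∈ X.erase i₀, ((a i : ℤ) : ℝ) ^ 2 / ((p : ℝ) + 1) :=
            Finset.sum_le_sum hXb
        _ = ((m : ℝ) - 1) / ((p : ℝ) + 1) := by rw [← Finset.sum_div, hsumXe]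
    linarith
  -- total
  have hpp : (0 : ℝ) < (p : ℝ) + 1 := by linarith
  have hfr : ((m : ℝ) - 1) / ((p : ℝ) + 1) < 1 := by
    rw [div_lt_one hpp]
    linarith
  have htot : ∑ i, T i < (p : ℝ) + 1 := by
    rw [hsplit T]
    linarith
  have hp1 : (0 : ℝ) < (p : ℝ) - 1 := by linarith
  have hlt : ((p : ℝ) - 1) * ∑ i, T i < ((p : ℝ) - 1) * ((p : ℝ) + 1) :=
    mul_lt_mul_of_pos_left htot hp1
  rw [hre] at hlt
  nlinarith

end Cfsg.Agent.Lib.H25.CY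

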