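import Mathlib

/-!
# S4645 pieces (B1), (B3): automorphisms of a cyclic `p`-group (pure Mathlib)

* `pow_mem_centralizer_of_cyclic` (B1): `P = ⟨x⟩` of order `p ^ n`, `g ∈ N_G(P)` centralizing some `y ≠ 1` of `P`
  ⟹ `g ^ (p ^ (n - 1)) ∈ C_G(P)`;
* `mem_centralizer_of_pow_mem` (B1 + B3): if moreover `g ^ r ∈ C_G(P)` with `p ∤ r`, then `g ∈ C_G(P)`.
-/

set_option autoImplicit false

namespace Cfsg.Agent.Lib.H25.CY

variable {G : Type*} [Group G]

/-- conjugation by a power -/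
theorem conj_pow_of_conj_eq {g x : G} {k : ℕ} (h : g * x * g⁻¹ = x ^ k) (m : ℕ) :
    g ^ m * x * (g ^ m)⁻¹ = x ^ (k ^ m) := by
  induction m with
  | zero => simp
  | succ m ih =>
    have h1 : g ^ (m + 1) * x * (g ^ (m + 1))⁻¹ = g * (g ^ m * x * (g ^ m)⁻¹) * g⁻¹ := by
      rw [pow_succ']
      group
    rw [h1, ih]
    have h2 : g * x ^ (k ^ m) * g⁻¹ = (g * x * g⁻¹) ^ (k ^ m) := (conj_pow).symm
    rw [h2, h, ← pow_mul, pow_succ, mul_comm]

/-- commuting with a generator means centralizing the cyclic subgroup -/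
theorem mem_centralizer_zpowers_of_commute {g x : G} (P : Subgroup G) (hx : P = Subgroup.zpowers x)
    (h : g * x = x * g) : g ∈ Subgroup.centralizer (P : Set G) := by
  rw [Subgroup.mem_centralizer_iff]
  intro z hz
  rw [SetLike.mem_coe, hx, Subgroup.mem_zpowers_iff] at hz
  obtain ⟨i, rfl⟩ := hz
  have hc : Commute g x := h
  exact ((hc.zpow_right i).eq).symm

/-- (B1) a normalizing element centralizing a nontrivial element of the cyclic `p`-group `P` of order `p ^ n`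
has its `p ^ (n - 1)`-th power in `C_G(P)`. -/
theorem pow_mem_centralizer_of_cyclic (P : Subgroup G) (x : G) (hx : P = Subgroup.zpowers x) {p n : ℕ}
    (hp : p.Prime) (hord : orderOf x = p ^ n) (g : G) (hg : g ∈ Subgroup.normalizer (P : Set G))
    (y : G) (hy : y ∈ P) (hy1 : y ≠ 1) (hgy : g * y = y * g) :
    g ^ (p ^ (n - 1)) ∈ Subgroup.centralizer (P : Set G) := by
  have hpos : 0 < orderOf x := by rw [hord]; exact pow_pos hp.pos n
  have hfin : IsOfFinOrder x := orderOf_pos_iff.mp hpos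
  have hxP : x ∈ P := by rw [hx]; exact Subgroup.mem_zpowers x
  have hgx : g * x * g⁻¹ ∈ P := (Subgroup.mem_normalizer_iff.mp hg x).mp hxP
  -- natural exponents
  rw [hx, ← hfin.mem_powers_iff_mem_zpowers, Submonoid.mem_powers_iff] at hgx
  obtain ⟨k, hk⟩ := hgx
  rw [hx, ← hfin.mem_powers_iff_mem_zpowers, Submonoid.mem_powers_iff] at hy
  obtain ⟨j, rfl⟩ := hy
  -- `n ≥ 1` and `p ^ n ∤ j`
  have hj : ¬ p ^ n ∣ j := by
    intro h
    apply hy1
    rw [← hord] at h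
    exact orderOf_dvd_iff_pow_eq_one.mp h
  have hn : 1 ≤ n := by
    rcases Nat.eq_zero_or_pos n with h0 | h0
    · exfalso
      apply hj
      rw [h0, pow_zero]
      exact one_dvd j
    · exact h0
  -- `x ^ (k * j) = x ^ j`
  have hk' : g * x * g⁻¹ = x ^ k := hk.symm
  have h1 : x ^ (k * j) = x ^ j := by
    have h2 : g * x ^ j * g⁻¹ = x ^ j := by
      rw [hgy]; group
    rw [← conj_pow, hk', ← pow_mul] at h2
    exact h2
  have h3 : k * j ≡ j [MOD p ^ n] := by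
    rw [← hord]
    exact pow_eq_pow_iff_modEq.mp h1
  -- `p ∣ k - 1`
  have h4 : (p : ℤ) ∣ (k : ℤ) - 1 := by
    by_contra hnd
    have hcop : IsCoprime ((p : ℤ) ^ n) ((k : ℤ) - 1) := by
      apply IsCoprime.pow_left
      exact (Prime.coprime_iff_not_dvd (Nat.prime_iff_prime_int.mp hp)).mpr hnd
    have h5 : ((p : ℤ) ^ n) ∣ ((k : ℤ) - 1) * j := by
      have := (Int.natCast_modEq_iff.mpr h3).symm.dvd
      push_cast at this
      have e : ((k : ℤ) - 1) * j = (k : ℤ) * j - j := by ring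
      rw [e]
      exact this
    have h6 : ((p : ℤ) ^ n) ∣ (j : ℤ) := hcop.dvd_of_dvd_mul_left h5
    apply hj
    exact_mod_cast h6
  -- `k ^ (p ^ (n - 1)) ≡ 1 mod p ^ n`
  have h7 : ((p : ℤ) ^ (n - 1 + 1)) ∣ (k : ℤ) ^ p ^ (n - 1) - 1 ^ p ^ (n - 1) :=
    dvd_sub_pow_of_dvd_sub h4 (n - 1)
  rw [Nat.sub_add_cancel hn, one_pow] at h7
  have h8 : k ^ p ^ (n - 1) ≡ 1 [MOD p ^ n] := by
    apply Int.natCast_modEq_iff.mp
    push_cast
    exact (Int.modEq_iff_dvd.mpr h7).symm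
  have h9 : g ^ (p ^ (n - 1)) * x * (g ^ (p ^ (n - 1)))⁻¹ = x := by
    rw [conj_pow_of_conj_eq hk' (p ^ (n - 1))]
    have : x ^ (k ^ p ^ (n - 1)) = x ^ 1 := by
      rw [pow_eq_pow_iff_modEq, hord]
      exact h8
    rw [this, pow_one]
  apply mem_centralizer_zpowers_of_commute P hx
  exact mul_inv_eq_iff_eq_mul.mp h9

/-- (B1) + (B3): if moreover a power `g ^ r` with `p ∤ r` centralizes `P`, then `g` centralizes `P`. -/
theorem mem_centralizer_of_pow_mem (P : Subgroup G) (x : G) (hx : P = Subgroup.zpowers x) {p n : ℕ}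
    (hp : p.Prime) (hord : orderOf x = p ^ n) (g : G) (hg : g ∈ Subgroup.normalizer (P : Set G))
    (y : G) (hy : y ∈ P) (hy1 : y ≠ 1) (hgy : g * y = y * g) (r : ℕ) (hr : ¬ p ∣ r)
    (hgr : g ^ r ∈ Subgroup.centralizer (P : Set G)) :
    g ∈ Subgroup.centralizer (P : Set G) := by
  have h1 := pow_mem_centralizer_of_cyclic P x hx hp hord g hg y hy hy1 hgy
  have hcop : Nat.Coprime r (p ^ (n - 1)) :=
    Nat.Coprime.pow_right _ ((Nat.Prime.coprime_iff_not_dvd hp).mpr hr).symm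
  have h2 : g ^ ((Nat.gcd r (p ^ (n - 1)) : ℕ) : ℤ) ∈ Subgroup.centralizer (P : Set G) := by
    rw [Nat.gcd_eq_gcd_ab, zpow_add, zpow_mul, zpow_mul, zpow_natCast, zpow_natCast]
    exact Subgroup.mul_mem _ (Subgroup.zpow_mem _ hgr _) (Subgroup.zpow_mem _ h1 _)
  rw [hcop, Nat.cast_one, zpow_one] at h2
  exact h2

end Cfsg.Agent.Lib.H25.CY
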