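import Cfsg.Agent.Lib.H25.CYB1
import Cfsg.Agent.Lib.H25.CYC

/-!
# S4645 piece (B1) in the architect's exact signature (pure Mathlib)

`exists_pow_mem_centralizer_of_cyclic`: `P` a finite cyclic `p`-subgroup, `g ∈ N_G(P)` fixing some `y ≠ 1` of `P`
⟹ `∃ k, g ^ (p ^ k) ∈ C_G(P)` (wrapper of `pow_mem_centralizer_of_cyclic`, with `k = n - 1`, `|P| = p ^ n`).
(`normalizer_le_of_cyclic` of `CYC.lean` is already in the exact signature.)
-/

set_option autoImplicit false

namespace Cfsg.Agent.Lib.H25.CY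

variable {G : Type*} [Group G]

/-- a generator of the cyclic subgroup `P`, as an element of `G` -/
theorem exists_eq_zpowers_of_isCyclic (P : Subgroup G) (hcyc : IsCyclic P) :
    ∃ x : G, x ∈ P ∧ P = Subgroup.zpowers x ∧ orderOf x = Nat.card P := by
  obtain ⟨x, hx⟩ := hcyc.exists_generator
  refine ⟨(x : G), x.2, ?_, ?_⟩
  · ext z
    constructor
    · intro hz
      have h1 := hx ⟨z, hz⟩
      rw [Subgroup.mem_zpowers_iff] at h1 ⊢
      obtain ⟨i, hi⟩ := h1
      refine ⟨i, ?_⟩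
      have h2 := congrArg Subtype.val hi
      rw [Subgroup.coe_zpow] at h2
      exact h2
    · intro hz
      rw [Subgroup.mem_zpowers_iff] at hz
      obtain ⟨i, rfl⟩ := hz
      exact Subgroup.zpow_mem _ x.2 i
  · rw [Subgroup.orderOf_coe, orderOf_eq_card_of_forall_mem_zpowers hx]

/-- (B1), exact signature of `tools/blueprints/S4645_sigs.lean`. -/
theorem exists_pow_mem_centralizer_of_cyclic (p : ℕ) [Fact p.Prime] (P : Subgroup G) [Finite P]
    (hcyc : IsCyclic P) (hP : IsPGroup p P) (g : G) (hg : g ∈ Subgroup.normalizer (P : Set G))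
    (y : G) (hy : y ∈ P) (hy1 : y ≠ 1) (hgy : g * y * g⁻¹ = y) :
    ∃ k : ℕ, g ^ (p ^ k) ∈ Subgroup.centralizer (P : Set G) := by
  obtain ⟨x, -, hPx, hox⟩ := exists_eq_zpowers_of_isCyclic P hcyc
  obtain ⟨n, hn⟩ := IsPGroup.iff_card.mp hP
  have hord : orderOf x = p ^ n := by rw [hox, hn]
  exact ⟨n - 1, pow_mem_centralizer_of_cyclic P x hPx (Fact.out : p.Prime) hord g hg y hy hy1
    (mul_inv_eq_iff_eq_mul.mp hgy)⟩

end Cfsg.Agent.Lib.H25.CY
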