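import Mathlib
import Cfsg.Prelude.Def_BrauerPairs
import Cfsg.Prelude.Def_BlockLocal
import Cfsg.Agent.Lib.L0.BrauerAbelian
import Cfsg.Agent.Lib.H25.CYB1X

/-!
# S4645 piece (B3) `cyclic_free` (with its own copy of (B2)), exact signature

`(P, c)` a maximal `B`-pair with `P` cyclic, `1 ≠ Q ≤ P`: an element of `C_G(Q)` that lies in the inertial group
`T = N_G(P, c)` centralizes `P`.  [`T / C_G(P)` is a `p'`-group (B2, `fong_of_localMax`), and an element of `N_G(P)`
fixing a nontrivial element of the cyclic `p`-group `P` induces a `p`-automorphism of `P` (B1); Bezout.]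
-/

set_option autoImplicit false

namespace Cfsg.Agent.Lib.H25.CY

open Cfsg Cfsg.Agent.Lib.H23 Cfsg.Agent.Lib.L0 Cfsg.Agent.Lib.L0.BrauerStab
  Cfsg.Agent.Lib.L0.BrauerAutomizer Cfsg.Agent.Lib.L0.BrauerAbelian

variable {G : Type*} [Group G] [Fintype G] {p : ℕ} {M : Ideal Cfsg.AlgInt}

omit [Fintype G] in
/-- a cyclic subgroup is abelian, elementwise -/
theorem comm_of_isCyclic {P : Subgroup G} (hcyc : IsCyclic P) :
    ∀ x ∈ P, ∀ y ∈ P, x * y = y * x := by
  intro x hx y hy
  have h := hcyc.isMulCommutative.is_comm.comm (⟨x, hx⟩ : P) ⟨y, hy⟩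
  exact congrArg Subtype.val h

/-- (B2), exact signature (own copy; twins by helper8 / helper18): the inertial quotient `T / C_G(P)` of a maximal
pair with abelian `P` is a `p'`-group. -/
theorem not_dvd_index_centralizer (hM : Cfsg.IsPModular p M) {B : Set (Cfsg.IrrCharacter G)}
    {P : Subgroup G} {c : Set (Cfsg.IrrCharacter (Subgroup.centralizer (P : Set G)))}
    (hmax : Cfsg.IsMaximalBrauerPair p M B P c) (hab : ∀ x ∈ P, ∀ y ∈ P, x * y = y * x)
    (T : Subgroup G) (hT : ∀ g : G, g ∈ T ↔ (g ∈ Subgroup.normalizer (P : Set G) ∧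
      Cfsg.StabilizesBlock (Subgroup.centralizer (P : Set G)) c g)) :
    ¬ p ∣ ((Subgroup.centralizer (P : Set G)).subgroupOf T).index := by
  have hPe : IsBrauerPair p M P c := hmax.1.1
  have h := (fong_of_localMax hM hPe hPe.2 Relation.ReflTransGen.refl
    (localMax_of_maximal hM hmax _) T hT).2
  have hPC : P ≤ Subgroup.centralizer (P : Set G) := le_centralizer_of_abelian hab le_rfl
  have hle : (P ⊓ Subgroup.normalizer (P : Set G)).subgroupOf T ≤
      (Subgroup.centralizer (P : Set G)).subgroupOf T := by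
    intro t ht
    rw [Subgroup.mem_subgroupOf] at ht ⊢
    exact hPC ht.1
  rw [sup_eq_right.2 hle] at h
  exact h

/-- (B3), exact signature of `tools/blueprints/S4645_sigs.lean`. -/
theorem cyclic_free (hM : Cfsg.IsPModular p M) {B : Set (Cfsg.IrrCharacter G)}
    {P : Subgroup G} {c : Set (Cfsg.IrrCharacter (Subgroup.centralizer (P : Set G)))}
    (hmax : Cfsg.IsMaximalBrauerPair p M B P c) (hcyc : IsCyclic P)
    {Q : Subgroup G} (hQP : Q ≤ P) (hQ1 : Q ≠ ⊥) :
    ∀ g : G, g ∈ Subgroup.centralizer (Q : Set G) → g ∈ Subgroup.normalizer (P : Set G) →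
      Cfsg.StabilizesBlock (Subgroup.centralizer (P : Set G)) c g →
      g ∈ Subgroup.centralizer (P : Set G) := by
  intro g hgQ hgN hgst
  have hPr := isPrime_of_isPModular hM
  have hp : p.Prime := hM.1
  have : Fact p.Prime := ⟨hp⟩
  have hPe : IsBrauerPair p M P c := hmax.1.1
  have hab := comm_of_isCyclic hcyc
  have hT : ∀ g : G, g ∈ stabSub P c ↔ (g ∈ Subgroup.normalizer (P : Set G) ∧
      Cfsg.StabilizesBlock (Subgroup.centralizer (P : Set G)) c g) :=
    fun g => mem_stabSub_iff P hPe.2 g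
  have hB2 := not_dvd_index_centralizer hM hmax hab (stabSub P c) hT
  -- `C_G(P) ∩ T` is normal in `T`
  have hnorm : ((Subgroup.centralizer (P : Set G)).subgroupOf (stabSub P c)).Normal := by
    apply Subgroup.normal_subgroupOf_of_le_normalizer
    intro t ht
    exact ((hT t).1 ht).2.1
  have hgT : g ∈ stabSub P c := (hT g).2 ⟨hgN, hgst⟩
  have hpow := Subgroup.pow_index_mem
    ((Subgroup.centralizer (P : Set G)).subgroupOf (stabSub P c)) (⟨g, hgT⟩ : stabSub P c)
  rw [Subgroup.mem_subgroupOf, Subgroup.coe_pow] at hpow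
  -- a nontrivial element of `Q`
  obtain ⟨y, hy1⟩ := (Subgroup.ne_bot_iff_exists_ne_one).1 hQ1
  obtain ⟨x, -, hPx, hox⟩ := exists_eq_zpowers_of_isCyclic P hcyc
  obtain ⟨n, hn⟩ := IsPGroup.iff_card.mp hPe.1
  have hord : orderOf x = p ^ n := by rw [hox, hn]
  have hgy : g * (y : G) = (y : G) * g := ((Subgroup.mem_centralizer_iff.1 hgQ) (y : G) y.2).symm
  exact mem_centralizer_of_pow_mem P x hPx hp hord g hgN (y : G) (hQP y.2)
    (fun h => hy1 (Subtype.ext h)) hgy _ hB2 hpow

end Cfsg.Agent.Lib.H25.CY
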