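import Mathlib
set_option autoImplicit false

/-!
The "trace" (orbit product) lemma for quadratic actions (helper25): if a finite `p`-group `A` acts
quadratically on a commutative group `V` and permutes a finite subset `Ω ⊆ V` with exactly one
fixed point `x₀` (and no orbit of length `2` when `p = 2`), then `∏ Ω ∈ x₀ · ℧¹(⟨Ω⟩)`.
-/

open Classical

namespace Cfsg.Agent.Lib.H25.Glau


/-- The product of the elements of `zpowers b`, for `b` of order `n`. -/
theorem prod_zpowers_eq {U : Type*} [CommGroup U] [Finite U] (b : U)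
    [Fintype (Subgroup.zpowers b)] :
    ∏ k : Subgroup.zpowers b, (k : U) = b ^ ∑ i ∈ Finset.range (orderOf b), i := by
  have hb : IsOfFinOrder b := isOfFinOrder_of_finite b
  rw [← Finset.prod_pow_eq_pow_sum, ← Fin.prod_univ_eq_prod_range (fun i => b ^ i)]
  symm
  apply Fintype.prod_bijective (finEquivZPowers hb) (finEquivZPowers hb).bijective
  intro i
  simp [finEquivZPowers_apply]

/-- In a finite commutative `p`-group `U ≠ 1` (of order `≠ 2` if `p = 2`) the product of all the
elements is a `p`-th power. -/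
theorem prod_univ_eq_pow {U : Type*} [CommGroup U] [Fintype U] {p : ℕ} [hp : Fact p.Prime]
    (hU : IsPGroup p U) (hne : Nat.card U ≠ 1) (h2 : p ≠ 2 ∨ Nat.card U ≠ 2) :
    ∃ w : U, ∏ u : U, u = w ^ p := by
  obtain ⟨n, hn⟩ := hU.exists_card_eq
  have hn0 : n ≠ 0 := by
    rintro rfl
    rw [pow_zero] at hn
    exact hne hn
  have hdvd : p ∣ Nat.card U := by
    rw [hn]; exact dvd_pow_self p hn0
  obtain ⟨b, hb⟩ := exists_prime_orderOf_dvd_card' p hdvd
  set B := Subgroup.zpowers b with hB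
  have hcardB : Fintype.card B = p := by rw [Fintype.card_zpowers, hb]
  -- the bijection
  let Φ : (U ⧸ B) × B → U := fun x => x.1.out * x.2
  have hΦ : Function.Bijective Φ := by
    constructor
    · rintro ⟨q, k⟩ ⟨q', k'⟩ h
      have h' : q.out * (k : U) = q'.out * (k' : U) := h
      have hq : q = q' := by
        have h1 : ((q.out * (k : U) : U) : U ⧸ B) = q := by
          rw [← QuotientGroup.out_eq' q]
          rw [QuotientGroup.eq]
          simp
        have h2 : ((q'.out * (k' : U) : U) : U ⧸ B) = q' := by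
          rw [← QuotientGroup.out_eq' q']
          rw [QuotientGroup.eq]
          simp
        rw [← h1, ← h2, h']
      subst hq
      have : (k : U) = k' := mul_left_cancel h'
      exact Prod.ext rfl (Subtype.ext this)
    · intro u
      have hmem : ((u : U ⧸ B)).out⁻¹ * u ∈ B := by
        rw [← QuotientGroup.eq, QuotientGroup.out_eq']
      refine ⟨((u : U ⧸ B), ⟨_, hmem⟩), ?_⟩
      show ((u : U ⧸ B)).out * (((u : U ⧸ B)).out⁻¹ * u) = u
      group
  have e1 : ∏ u : U, u = ∏ x : (U ⧸ B) × B, (x.1.out * (x.2 : U)) := by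
    symm
    exact Fintype.prod_bijective Φ hΦ _ _ (fun x => rfl)
  rw [e1, Fintype.prod_prod_type]
  have e2 : ∀ q : U ⧸ B, ∏ k : B, (q.out * (k : U)) = q.out ^ p * ∏ k : B, (k : U) := by
    intro q
    rw [Finset.prod_mul_distrib, Finset.prod_const, Finset.card_univ, hcardB]
  simp_rw [e2]
  rw [Finset.prod_mul_distrib, Finset.prod_const, Finset.card_univ, Finset.prod_pow]
  -- the product over `B` to the power `|U / B|` is trivial
  have e3 : (∏ k : B, (k : U)) ^ Fintype.card (U ⧸ B) = 1 := by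
    have hpB : ∏ k : B, (k : U) = b ^ ∑ i ∈ Finset.range (orderOf b), i := prod_zpowers_eq b
    rw [hpB, hb]
    have hsum := Finset.sum_range_id_mul_two p
    have hbp : b ^ p = 1 := by rw [← hb]; exact pow_orderOf_eq_one b
    rcases hp.out.eq_two_or_odd' with h | h
    · -- `p = 2`
      subst h
      have hcard2 : Nat.card U ≠ 2 := by
        rcases h2 with h | h
        · exact absurd rfl h
        · exact h
      have hn2 : 2 ≤ n := by
        rcases Nat.lt_or_ge n 2 with h | h
        · exfalso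
          have : n = 1 := by omega
          rw [this, pow_one] at hn
          exact hcard2 hn
        · exact h
      have hidx : Fintype.card (U ⧸ B) * 2 = 2 ^ n := by
        have := Subgroup.card_eq_card_quotient_mul_card_subgroup B
        rw [Nat.card_eq_fintype_card, Nat.card_eq_fintype_card, Nat.card_eq_fintype_card, hcardB] at this
        rw [← this, ← hn, Nat.card_eq_fintype_card]
      obtain ⟨m, rfl⟩ : ∃ m, n = m + 2 := ⟨n - 2, by omega⟩
      have hidx' : Fintype.card (U ⧸ B) = 2 * 2 ^ m := by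
        have : 2 ^ (m + 2) = (2 * 2 ^ m) * 2 := by ring
        rw [this] at hidx
        exact Nat.eq_of_mul_eq_mul_right (by norm_num) hidx
      rw [hidx', ← pow_mul]
      have : (∑ i ∈ Finset.range 2, i) * (2 * 2 ^ m) = 2 * 2 ^ m := by
        simp [Finset.sum_range_succ]
      rw [this, pow_mul, hbp, one_pow]
    · -- `p` odd
      obtain ⟨k, hk⟩ := h
      have hs : ∑ i ∈ Finset.range p, i = p * k := by
        have h1 : (∑ i ∈ Finset.range p, i) * 2 = (p * k) * 2 := by
          rw [hsum, hk]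
          have : 2 * k + 1 - 1 = 2 * k := by omega
          rw [this]; ring
        exact Nat.eq_of_mul_eq_mul_right (by norm_num) h1
      rw [hs, pow_mul, hbp, one_pow, one_pow]
  rw [e3, mul_one]
  exact ⟨_, rfl⟩

section trace

variable {V : Type*} [CommGroup V] {A : Type*} [Group A] [Fintype A] {p : ℕ} [hp : Fact p.Prime]
  (ρ : A →* MulAut V)

/-- quadratic action -/
def Quad : Prop := ∀ a b : A, ∀ v : V, ρ b (v⁻¹ * ρ a v) = v⁻¹ * ρ a v

/-- the commutator map `a ↦ [y, a]` -/
def cmap (hq : Quad ρ) (y : V) : A →* V where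
  toFun a := y⁻¹ * ρ a y
  map_one' := by simp
  map_mul' a b := by
    have h1 : ρ (a * b) y = ρ a (ρ b y) := by rw [map_mul]; rfl
    have h2 : ρ b y = y * (y⁻¹ * ρ b y) := by group
    have h3 : ρ a (y * (y⁻¹ * ρ b y)) = ρ a y * ρ a (y⁻¹ * ρ b y) := map_mul _ _ _
    rw [h1, h2, h3, hq b a y]
    group

theorem cmap_apply (hq : Quad ρ) (y : V) (a : A) : cmap ρ hq y a = y⁻¹ * ρ a y := rfl

/-- the orbit of `y` -/
noncomputable def orb (y : V) : Finset V := Finset.univ.image (fun a : A => ρ a y)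

theorem mem_orb {y z : V} : z ∈ orb ρ y ↔ ∃ a : A, ρ a y = z := by
  unfold orb
  simp

theorem self_mem_orb (y : V) : y ∈ orb ρ y := (mem_orb ρ).2 ⟨1, by simp⟩

theorem orb_eq_image (hq : Quad ρ) (y : V) :
    orb ρ y = Finset.image (fun u : ↥(cmap ρ hq y).range => y * (u : V)) Finset.univ := by
  ext z
  rw [mem_orb]
  constructor
  · rintro ⟨a, rfl⟩
    refine Finset.mem_image.2 ⟨⟨cmap ρ hq y a, ⟨a, rfl⟩⟩, Finset.mem_univ _, ?_⟩
    show y * (y⁻¹ * ρ a y) = ρ a y
    group
  · intro h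
    obtain ⟨⟨u, a, rfl⟩, -, rfl⟩ := Finset.mem_image.1 h
    refine ⟨a, ?_⟩
    show ρ a y = y * (y⁻¹ * ρ a y)
    group

theorem card_orb (hq : Quad ρ) (y : V) : (orb ρ y).card = Nat.card (cmap ρ hq y).range := by
  rw [orb_eq_image ρ hq y, Finset.card_image_of_injective, Finset.card_univ,
    Nat.card_eq_fintype_card]
  intro u v h
  exact Subtype.ext (mul_left_cancel h)

/-- The product over a nontrivial orbit is a `p`-th power. -/
theorem orbit_prod (hA : IsPGroup p A) (hq : Quad ρ) (y : V) (hy : ∃ a, ρ a y ≠ y)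
    (h2 : p ≠ 2 ∨ (orb ρ y).card ≠ 2) (H : Subgroup V) (hH : ∀ a, ρ a y ∈ H) :
    ∃ w ∈ H, ∏ z ∈ orb ρ y, z = w ^ p := by
  have hyH : y ∈ H := by simpa using hH 1
  set U := (cmap ρ hq y).range with hUdef
  have hUH : U ≤ H := by
    rintro _ ⟨a, rfl⟩
    exact H.mul_mem (H.inv_mem hyH) (hH a)
  have hUp : IsPGroup p U :=
    IsPGroup.of_surjective hA (cmap ρ hq y).rangeRestrict (cmap ρ hq y).rangeRestrict_surjective
  have hcard := card_orb ρ hq y
  have hne : Nat.card U ≠ 1 := by
    intro h1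
    obtain ⟨a, ha⟩ := hy
    apply ha
    have hbot : U = ⊥ := Subgroup.card_eq_one.1 h1
    have hmem : cmap ρ hq y a ∈ U := ⟨a, rfl⟩
    rw [hbot, Subgroup.mem_bot, cmap_apply] at hmem
    calc ρ a y = y * (y⁻¹ * ρ a y) := by group
      _ = y := by rw [hmem, mul_one]
  have h2' : p ≠ 2 ∨ Nat.card U ≠ 2 := by
    rcases h2 with h | h
    · exact Or.inl h
    · exact Or.inr (hcard ▸ h)
  obtain ⟨w₀, hw₀⟩ := prod_univ_eq_pow hUp hne h2'
  obtain ⟨n, hn⟩ := hUp.exists_card_eq
  have hn0 : n ≠ 0 := by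
    rintro rfl
    rw [pow_zero] at hn
    exact hne hn
  obtain ⟨m, rfl⟩ : ∃ m, n = m + 1 := ⟨n - 1, by omega⟩
  refine ⟨y ^ p ^ m * (w₀ : V), H.mul_mem (H.pow_mem hyH _) (hUH w₀.2), ?_⟩
  rw [orb_eq_image ρ hq y, Finset.prod_image]
  · rw [Finset.prod_mul_distrib, Finset.prod_const, Finset.card_univ, ← Nat.card_eq_fintype_card,
      hn, mul_pow, ← pow_mul, ← pow_succ]
    congr 1
    have := congrArg (Subtype.val : U → V) hw₀
    rw [Subgroup.coe_pow] at this
    rw [← this]
    exact (map_prod U.subtype _ _).symm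
  · intro u _ v _ h
    exact Subtype.ext (mul_left_cancel h)

/-- **The trace lemma.** -/
theorem trace_lemma (hA : IsPGroup p A) (hq : Quad ρ) :
    ∀ n : ℕ, ∀ Ω : Finset V, Ω.card = n → (∀ a, ∀ y ∈ Ω, ρ a y ∈ Ω) → ∀ x₀ ∈ Ω,
      (∀ a, ρ a x₀ = x₀) → (∀ y ∈ Ω, (∀ a, ρ a y = y) → y = x₀) →
      (p ≠ 2 ∨ ∀ y ∈ Ω, (orb ρ y).card ≠ 2) →
      ∃ w ∈ Subgroup.closure (Ω : Set V), ∏ y ∈ Ω, y = x₀ * w ^ p := by
  intro n
  induction n using Nat.strong_induction_on with
  | _ n ih =>
    intro Ω hcard hstab x₀ hx₀ hfix huniq h2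
    by_cases hall : ∀ y ∈ Ω, y = x₀
    · refine ⟨1, Subgroup.one_mem _, ?_⟩
      have : Ω = {x₀} := by
        ext y
        rw [Finset.mem_singleton]
        exact ⟨hall y, fun h => h ▸ hx₀⟩
      rw [this]
      simp
    · push Not at hall
      obtain ⟨y, hyΩ, hyx⟩ := hall
      have hynf : ∃ a, ρ a y ≠ y := by
        by_contra hcon
        push Not at hcon
        exact hyx (huniq y hyΩ hcon)
      have hOsub : orb ρ y ⊆ Ω := by
        intro z hz
        obtain ⟨a, rfl⟩ := (mem_orb ρ).1 hz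
        exact hstab a y hyΩ
      set Ω' := Ω \ orb ρ y with hΩ'
      have hx₀' : x₀ ∈ Ω' := by
        rw [hΩ', Finset.mem_sdiff]
        refine ⟨hx₀, fun h => ?_⟩
        obtain ⟨a, ha⟩ := (mem_orb ρ).1 h
        apply hyx
        have h1 : ρ a⁻¹ (ρ a y) = y := by
          rw [map_inv]; simp
        rw [← h1, ha, hfix]
      have hstab' : ∀ a, ∀ z ∈ Ω', ρ a z ∈ Ω' := by
        intro a z hz
        rw [hΩ', Finset.mem_sdiff] at hz ⊢
        refine ⟨hstab a z hz.1, fun h => hz.2 ?_⟩
        obtain ⟨b, hb⟩ := (mem_orb ρ).1 h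
        refine (mem_orb ρ).2 ⟨a⁻¹ * b, ?_⟩
        rw [map_mul, MulAut.mul_apply, hb, map_inv]
        simp
      have hlt : Ω'.card < n := by
        rw [← hcard]
        apply Finset.card_lt_card
        rw [hΩ']
        refine ⟨Finset.sdiff_subset, fun h => ?_⟩
        have := h hyΩ
        rw [Finset.mem_sdiff] at this
        exact this.2 (self_mem_orb ρ y)
      have hsubΩ : Ω' ⊆ Ω := Finset.sdiff_subset
      obtain ⟨w', hw', hprod'⟩ := ih _ hlt Ω' rfl hstab' x₀ hx₀' hfix
        (fun z hz => huniq z (hsubΩ hz))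
        (h2.imp id (fun h z hz => h z (hsubΩ hz)))
      have h2y : p ≠ 2 ∨ (orb ρ y).card ≠ 2 := h2.imp id (fun h => h y hyΩ)
      obtain ⟨w'', hw'', hprod''⟩ := orbit_prod ρ hA hq y hynf h2y
        (Subgroup.closure (Ω : Set V)) (fun a => Subgroup.subset_closure (hstab a y hyΩ))
      refine ⟨w' * w'', Subgroup.mul_mem _ (Subgroup.closure_mono (by exact_mod_cast hsubΩ) hw') hw'', ?_⟩
      rw [← Finset.prod_sdiff hOsub, ← hΩ', hprod', hprod'', mul_pow, mul_assoc]

end trace

end Cfsg.Agent.Lib.H25.Glau
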