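import Mathlib
import Cfsg.Agent.Lib.H26.GenQuad
import Cfsg.Agent.Lib.H26.Involves
import Cfsg.Agent.Lib.H5.SylowIn
import Cfsg.Agent.Lib.H15.Conj
import Cfsg.Agent.Lib.H1.PCore
import Cfsg.Agent.Lib.H25.Alperin
import Cfsg.Agent.Lib.H25.GlauTrace

set_option autoImplicit false

namespace Cfsg.Agent.Lib.H25.Glau

open Cfsg Cfsg.Agent.Lib.H15 Cfsg.Agent.Lib.H5 Cfsg.Agent.Lib.H4.ZJ Cfsg.Agent.Lib.H26.Gen
  Cfsg.Agent.Lib.H26.Nil

universe u

/-- the side condition -/
def Side (p : ℕ) (G : Type u) [Group G] : Prop :=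
  p ≠ 2 ∨ ¬ Cfsg.Involves (Equiv.Perm (Fin 4)) G

/-- The statement, for groups of order `n`. -/
def GStmt (p : ℕ) [Fact p.Prime] (n : ℕ) : Prop :=
  ∀ (G : Type u) [Group G] [Finite G], Nat.card G = n → Side p G → ∀ (P : Sylow p G) (x : G),
    x ∈ pCore p G →
    (∀ m ∈ Subgroup.normalizer ((thompsonSubgroupAOf (P : Subgroup G) : Subgroup G) : Set G),
      m * x = x * m) → ∀ g : G, g * x = x * g

variable {G : Type u} [Group G]

/-- the centralizer of an element -/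
def Cx (x : G) : Subgroup G := Subgroup.centralizer ({x} : Set G)

theorem mem_Cx {x g : G} : g ∈ Cx x ↔ g * x = x * g := by
  unfold Cx
  rw [Subgroup.mem_centralizer_iff]
  constructor
  · intro h
    exact (h x rfl).symm
  · intro h y hy
    rw [Set.mem_singleton_iff] at hy
    rw [hy, h]

theorem Side.sub {p : ℕ} (h : Side p G) (X : Subgroup G) : Side p ↥X := by
  rcases h with h | h
  · exact Or.inl h
  · exact Or.inr (fun h' => h (Cfsg.Agent.Lib.H26.involves_of_injective X.subtype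
      X.subtype_injective h'))

variable [Finite G] {p : ℕ} [Fact p.Prime]

theorem card_lt_of_ne_top {X : Subgroup G} (hX : X ≠ ⊤) : Nat.card X < Nat.card G := by
  refine lt_of_le_of_ne (Subgroup.card_le_card_group X) (fun h => hX ?_)
  exact Subgroup.eq_top_of_card_eq X h

/-- Apply the statement to a proper subgroup. -/
theorem apply_sub (ih : ∀ m < Nat.card G, GStmt.{u} p m) (hside : Side p G) {X T : Subgroup G}
    (hX : X ≠ ⊤) (hT : IsSylowIn p T X) {I : Subgroup G} (hIX : I ≤ X) (hIp : IsPGroup p I)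
    (hXI : X ≤ Subgroup.normalizer (I : Set G)) {x : G} (hx : x ∈ I)
    (hN : ∀ m ∈ X, m ∈ Subgroup.normalizer ((thompsonSubgroupAOf T : Subgroup G) : Set G) →
      m * x = x * m) : ∀ g ∈ X, g * x = x * g := by
  obtain ⟨S', hS'⟩ := hT.exists_sylow
  have hnorm : (I.subgroupOf X).Normal :=
    (Subgroup.normal_subgroupOf_iff_le_normalizer hIX).2 hXI
  have hxcore : (⟨x, hIX hx⟩ : ↥X) ∈ pCore p ↥X := by
    apply Cfsg.Agent.Lib.H1.le_pCore hnorm hIp.comap_subtype
    exact Subgroup.mem_subgroupOf.2 hx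
  have hfin : Finite (S' : Subgroup ↥X) := inferInstance
  have hJ : thompsonSubgroupAOf T = (thompsonSubgroupAOf (S' : Subgroup ↥X)).map X.subtype := by
    have := (jFun p).map X.subtype (S' : Subgroup ↥X) hfin S'.2 (X.subtype_injective.injOn)
    rw [hS'] at this
    exact this
  have key := ih _ (card_lt_of_ne_top hX) ↥X rfl (hside.sub X) S' ⟨x, hIX hx⟩ hxcore
    (by
      intro m hm
      have h1 : (m : G) ∈ Subgroup.normalizer ((thompsonSubgroupAOf T : Subgroup G) : Set G) := by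
        rw [hJ]
        exact Subgroup.le_normalizer_map X.subtype ⟨m, hm, rfl⟩
      exact Subtype.ext (hN m m.2 h1))
  intro g hg
  exact congrArg Subtype.val (key ⟨g, hg⟩)

/-- `Z(O_p(G))` as a subgroup of `G` -/
def ZQ (p : ℕ) (G : Type u) [Group G] : Subgroup G :=
  (Subgroup.center ↥(pCore p G)).map (pCore p G).subtype

theorem mem_ZQ {a : G} : a ∈ ZQ p G ↔ a ∈ pCore p G ∧ ∀ q ∈ pCore p G, q * a = a * q := by
  constructor
  · rintro ⟨a', ha', rfl⟩
    refine ⟨a'.2, fun q hq => ?_⟩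
    have := Subgroup.mem_center_iff.1 ha' ⟨q, hq⟩
    exact congrArg Subtype.val this
  · rintro ⟨haQ, ha⟩
    have hc : (⟨a, haQ⟩ : ↥(pCore p G)) ∈ Subgroup.center ↥(pCore p G) := by
      rw [Subgroup.mem_center_iff]
      intro q
      exact Subtype.ext (ha q q.2)
    exact ⟨⟨a, haQ⟩, hc, rfl⟩

theorem ZQ_conj (t : G) {a : G} (ha : a ∈ ZQ p G) : t * a * t⁻¹ ∈ ZQ p G := by
  have hQn : (pCore p G).Normal := Cfsg.Agent.Lib.H1.pCore_normal p G
  obtain ⟨haQ, hac⟩ := mem_ZQ.1 ha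
  refine mem_ZQ.2 ⟨hQn.conj_mem a haQ t, fun q hq => ?_⟩
  have h1 : t⁻¹ * q * t ∈ pCore p G := by
    have := hQn.conj_mem q hq t⁻¹
    simpa using this
  have h2 := hac _ h1
  calc q * (t * a * t⁻¹) = t * ((t⁻¹ * q * t) * a) * t⁻¹ := by group
    _ = t * (a * (t⁻¹ * q * t)) * t⁻¹ := by rw [h2]
    _ = t * a * t⁻¹ * q := by group

theorem ZQ_comm {a b : G} (ha : a ∈ ZQ p G) (hb : b ∈ ZQ p G) : a * b = b * a :=
  (mem_ZQ.1 hb).2 a (mem_ZQ.1 ha).1

theorem ZQ_le : ZQ p G ≤ pCore p G := fun _ ha => (mem_ZQ.1 ha).1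

instance ZQ_normal : (ZQ p G).Normal := ⟨fun _ ha t => ZQ_conj t ha⟩

/-- If `J(P)` is not normal, some abelian subgroup of `P` of largest order is not contained in
`O_p(G)` and is normalized by `Z(O_p(G))`. -/
theorem exists_quad_A (P : Sylow p G)
    (hn : ¬ (thompsonSubgroupAOf (P : Subgroup G)).Normal) :
    ∃ A ∈ maxSet (abClass G) (P : Subgroup G), ¬ A ≤ pCore p G ∧
      ZQ p G ≤ Subgroup.normalizer (A : Set G) := by
  classical
  set Q := pCore p G with hQdef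
  have hQn : Q.Normal := Cfsg.Agent.Lib.H1.pCore_normal p G
  have hQP : Q ≤ P := Cfsg.Agent.Lib.H1.pCore_le_sylow P
  set Z := ZQ p G with hZdef
  have hZQ : Z ≤ Q := ZQ_le
  have hex : ∃ A ∈ maxSet (abClass G) (P : Subgroup G), ¬ A ≤ Q := by
    by_contra hcon
    push Not at hcon
    obtain ⟨A₀, hA₀⟩ := maxSet_nonempty (𝒞 := abClass G) (P : Subgroup G)
    have hsub := maxSet_subset_of_le hA₀ (hcon A₀ hA₀) hQP
    have heq : maxSet (abClass G) Q = maxSet (abClass G) (P : Subgroup G) :=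
      Set.Subset.antisymm hsub (fun A hA => mem_maxSet_of_le hA (hcon A hA) hQP)
    have hJ : J (abClass G) Q = J (abClass G) (P : Subgroup G) := by
      unfold J; rw [heq]
    apply hn
    rw [← J_abClass, ← hJ]
    have h1 := normalizer_le_normalizer_J (𝒞 := abClass G) Q
    rw [Subgroup.normalizer_eq_top_iff.2 hQn] at h1
    exact Subgroup.normalizer_eq_top_iff.1 (top_le_iff.1 h1)
  obtain ⟨A, ⟨hA, hAQ⟩, hmax⟩ := Set.exists_max_image
    {A : Subgroup G | A ∈ maxSet (abClass G) (P : Subgroup G) ∧ ¬ A ≤ Q}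
    (fun A => Nat.card ↥(A ⊓ Z)) (Set.toFinite _) (let ⟨A, h1, h2⟩ := hex; ⟨A, h1, h2⟩)
  refine ⟨A, hA, hAQ, ?_⟩
  by_contra hcon
  have hAZ : A ≤ Subgroup.normalizer (Z : Set G) := by
    intro a _
    apply Cfsg.Agent.Lib.H26.mem_normalizer_of_conj_mem (fun x hx => ZQ_conj a hx)
    intro x hx
    have := ZQ_conj (p := p) a⁻¹ hx
    rwa [inv_inv] at this
  obtain ⟨A', hA', hlt, hN⟩ := replacement_in (P : Subgroup G) P.2 hA (hZQ.trans hQP)
    (fun x hx y hy => ZQ_comm hx hy) hAZ hcon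
  have hA'Q : A' ≤ Q := by
    by_contra h
    have h1 : Nat.card ↥(A' ⊓ Z) ≤ Nat.card ↥(A ⊓ Z) := hmax A' ⟨hA', h⟩
    exact absurd (Cfsg.Agent.Lib.H19.card_lt_of_lt hlt) (not_lt.2 h1)
  have hsup : (abClass G).pred (A' ⊔ Z) :=
    (abClass G).sup A' Z hA'.2.1 (fun x hx y hy => ZQ_comm hx hy)
      (fun x hx y hy => ((mem_ZQ.1 hy).2 x (hA'Q hx)))
  have hcard := hA'.2.2 (A' ⊔ Z) (sup_le hA'.1 (hZQ.trans hQP)) hsup
  have heq : A' = A' ⊔ Z := Subgroup.eq_of_le_of_card_ge le_sup_left hcard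
  apply hcon
  exact ((le_sup_right : Z ≤ A' ⊔ Z).trans heq.ge).trans hN


/-- A `p`-subgroup of `H` is conjugate in `H` into a given Sylow `p`-subgroup of `H`. -/
theorem exists_conj_le {P H R : Subgroup G} (hP : IsSylowIn p P H) (hR : IsPGroup p R)
    (hRH : R ≤ H) : ∃ z ∈ H, cj z R ≤ P := by
  obtain ⟨S, hS, hRS⟩ := exists_isSylowIn_ge hR hRH
  obtain ⟨z, hz, hzP⟩ := hS.exists_conj hP
  refine ⟨z, hz, ?_⟩
  rw [hzP]
  exact cj_mono z hRS

/-- a conjugate inside `P` of a largest abelian subgroup of `P` is one -/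
theorem cj_mem_maxSet {P A : Subgroup G} (hA : A ∈ maxSet (abClass G) P) (g : G)
    (h : cj g A ≤ P) : cj g A ∈ maxSet (abClass G) P := by
  refine ⟨h, (abClass G).map (MulAut.conj g) A hA.2.1, fun B hB hBp => ?_⟩
  rw [card_cj]
  exact hA.2.2 B hB hBp

theorem cj_Cx_of_mem {x z : G} (hz : z ∈ Cx x) : cj z (Cx x) = Cx x := cj_eq_self_of_mem hz

theorem cj_pCore (g : G) : cj g (pCore p G) = pCore p G := by
  have hQn : (pCore p G).Normal := Cfsg.Agent.Lib.H1.pCore_normal p G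
  exact cj_le_of_mem_normalizer (by rw [Subgroup.normalizer_eq_top_iff.2 hQn]; trivial)

/-- The context of the inductive proof. -/
structure Ctx (p : ℕ) [Fact p.Prime] (G : Type u) [Group G] [Finite G] (P : Sylow p G) (x : G) :
    Prop where
  ih : ∀ m < Nat.card G, GStmt.{u} p m
  side : Side p G
  hx : x ∈ pCore p G
  hN : ∀ m ∈ Subgroup.normalizer ((thompsonSubgroupAOf (P : Subgroup G) : Subgroup G) : Set G),
    m * x = x * m

/-- the subgroups of `P` to which the chain argument applies -/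
def Big (P : Sylow p G) (I : Subgroup G) : Prop :=
  pCore p G ≤ I ∧ I ≤ P ∧ ∃ A ∈ maxSet (abClass G) (P : Subgroup G), A ≤ I ∧ ¬ A ≤ pCore p G

theorem Ctx.P_le {P : Sylow p G} {x : G} (h : Ctx p G P x) : (P : Subgroup G) ≤ Cx x := by
  intro g hg
  apply mem_Cx.2
  apply h.hN
  have h1 := (jFun p).normalizer_le (P : Subgroup G) inferInstance P.2
  exact h1 (Subgroup.le_normalizer hg)

theorem Ctx.normalizer_P_le {P : Sylow p G} {x : G} (h : Ctx p G P x) :
    Subgroup.normalizer ((P : Subgroup G) : Set G) ≤ Cx x := by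
  intro g hg
  apply mem_Cx.2
  apply h.hN
  exact (jFun p).normalizer_le (P : Subgroup G) inferInstance P.2 hg

theorem Ctx.isSylowIn {P : Sylow p G} {x : G} (h : Ctx p G P x) :
    IsSylowIn p (P : Subgroup G) (Cx x) :=
  (isSylowIn_top_of_sylow P).mono h.P_le le_top


end Cfsg.Agent.Lib.H25.Glau
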