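import Mathlib
import Cfsg.Agent.Lib.H25.GlauGroupA

set_option autoImplicit false

/-!
The chain argument in the proof of Glauberman's theorem on weakly closed elements (helper25):
the normalizer of every subgroup `I` of `P` containing `O_p(G)` and an abelian subgroup of `P` of
largest order outside `O_p(G)` centralizes `x`.
-/

namespace Cfsg.Agent.Lib.H25.Glau

open Cfsg Cfsg.Agent.Lib.H15 Cfsg.Agent.Lib.H5 Cfsg.Agent.Lib.H4.ZJ Cfsg.Agent.Lib.H26.Gen
  Cfsg.Agent.Lib.H26.Nil

universe u
variable {G : Type u} [Group G] [Finite G] {p : ℕ} [Fact p.Prime]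

/-- normalizers of `I` normalize `I ⊔ Q` for normal `Q` -/
theorem normalizer_le_normalizer_sup_pCore (I : Subgroup G) :
    Subgroup.normalizer (I : Set G) ≤
      Subgroup.normalizer ((I ⊔ pCore p G : Subgroup G) : Set G) := by
  intro g hg
  rw [mem_normalizer_iff_cj_eq] at hg ⊢
  show (I ⊔ pCore p G).map (MulAut.conj g).toMonoidHom = _
  rw [Subgroup.map_sup]
  change cj g I ⊔ cj g (pCore p G) = _
  rw [hg, cj_pCore]

theorem chain {P : Sylow p G} {x : G} (h : Ctx p G P x) : ∀ d : ℕ, ∀ I : Subgroup G, Big P I →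
    Nat.card (P : Subgroup G) -
      Nat.card ↥((P : Subgroup G) ⊓ Subgroup.normalizer (I : Set G)) = d →
    Subgroup.normalizer (I : Set G) ≤ Cx x := by
  intro d
  induction d using Nat.strong_induction_on with
  | _ d IH =>
  intro I hI hd
  obtain ⟨hQI, hIP, A', hA', hA'I, hA'Q⟩ := hI
  have hQP : pCore p G ≤ P := Cfsg.Agent.Lib.H1.pCore_le_sylow P
  have hPp : IsPGroup p (P : Subgroup G) := P.2
  obtain ⟨X, hXdef⟩ : ∃ X : Subgroup G, X = Subgroup.normalizer (I : Set G) := ⟨_, rfl⟩
  obtain ⟨T, hTdef⟩ : ∃ T : Subgroup G, T = (P : Subgroup G) ⊓ X := ⟨_, rfl⟩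
  rw [← hXdef] at hd ⊢
  rw [← hTdef] at hd
  have hTP : T ≤ P := hTdef ▸ inf_le_left
  have hTX : T ≤ X := hTdef ▸ inf_le_right
  have hIX : I ≤ X := hXdef ▸ Subgroup.le_normalizer
  have hIT : I ≤ T := hTdef ▸ le_inf hIP hIX
  have hTp : IsPGroup p T := hPp.to_le hTP
  have hIp : IsPGroup p I := hPp.to_le hIP
  have hXne : X ≠ ⊤ := by
    intro htop
    have hn : I.Normal := Subgroup.normalizer_eq_top_iff.1 (hXdef ▸ htop)
    exact hA'Q (hA'I.trans (Cfsg.Agent.Lib.H1.le_pCore hn hIp))
  have hxI : x ∈ I := hQI h.hx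
  have hA'T : A' ∈ maxSet (abClass G) T := mem_maxSet_of_le hA' (hA'I.trans hIT) hTP
  have hcardTP : Nat.card T ≤ Nat.card (P : Subgroup G) := Subgroup.card_le_of_le hTP
  -- Step A
  have hJT : Subgroup.normalizer ((thompsonSubgroupAOf T : Subgroup G) : Set G) ≤ Cx x := by
    by_cases hTeq : T = P
    · rw [hTeq]
      exact fun m hm => mem_Cx.2 (h.hN m hm)
    · have hTlt : T < P := lt_of_le_of_ne hTP hTeq
      have hJle : thompsonSubgroupAOf T ≤ T := by
        rw [← J_abClass]; exact J_le T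
      have hBig₂ : Big P (thompsonSubgroupAOf T ⊔ pCore p G) := by
        refine ⟨le_sup_right, sup_le (hJle.trans hTP) hQP, A', hA', ?_, hA'Q⟩
        refine le_trans ?_ le_sup_left
        rw [← J_abClass]
        exact le_J hA'T
      have h1 : Subgroup.normalizer (T : Set G) ≤
          Subgroup.normalizer ((thompsonSubgroupAOf T ⊔ pCore p G : Subgroup G) : Set G) := by
        refine le_trans ?_ (normalizer_le_normalizer_sup_pCore _)
        have := normalizer_le_normalizer_J (𝒞 := abClass G) T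
        rwa [J_abClass] at this
      obtain ⟨g, hgP, hgN, hgT⟩ := Cfsg.Agent.Lib.H19.exists_mem_normalizer_not_mem hPp hTlt
      have hlt : Nat.card T < Nat.card ↥((P : Subgroup G) ⊓
          Subgroup.normalizer ((thompsonSubgroupAOf T ⊔ pCore p G : Subgroup G) : Set G)) := by
        apply Cfsg.Agent.Lib.H19.card_lt_of_lt
        refine lt_of_le_of_ne (le_inf hTP (Subgroup.le_normalizer.trans h1)) ?_
        intro heq
        apply hgT
        rw [heq]
        exact ⟨hgP, h1 hgN⟩
      have hle : Nat.card ↥((P : Subgroup G) ⊓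
          Subgroup.normalizer ((thompsonSubgroupAOf T ⊔ pCore p G : Subgroup G) : Set G)) ≤
          Nat.card (P : Subgroup G) := Subgroup.card_le_of_le inf_le_left
      have h2 := IH _ (by omega) _ hBig₂ rfl
      exact (normalizer_le_normalizer_sup_pCore _).trans h2
  -- Step B
  obtain ⟨SX, hSX, hTSX⟩ := exists_isSylowIn_ge hTp hTX
  by_cases hTS : T = SX
  · intro g hg
    apply mem_Cx.2
    refine apply_sub h.ih h.side hXne (hTS ▸ hSX) hIX hIp (hXdef ▸ le_rfl) hxI ?_ g hg
    intro m _ hm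
    exact mem_Cx.1 (hJT hm)
  · have hTlt : T < SX := lt_of_le_of_ne hTSX hTS
    obtain ⟨g, hgS, hgN, hgT⟩ := Cfsg.Agent.Lib.H19.exists_mem_normalizer_not_mem hSX.2.1 hTlt
    obtain ⟨T', hT'def⟩ : ∃ T' : Subgroup G, T' = SX ⊓ Subgroup.normalizer (T : Set G) := ⟨_, rfl⟩
    have hT'S : T' ≤ SX := hT'def ▸ inf_le_left
    have hT'N : T' ≤ Subgroup.normalizer (T : Set G) := hT'def ▸ inf_le_right
    have hTT' : T < T' := by
      refine lt_of_le_of_ne (hT'def ▸ le_inf hTSX Subgroup.le_normalizer) ?_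
      intro heq
      apply hgT
      rw [heq, hT'def]
      exact ⟨hgS, hgN⟩
    have hT'p : IsPGroup p T' := hSX.2.1.to_le hT'S
    have hT'C : T' ≤ Cx x := by
      refine hT'N.trans (le_trans ?_ hJT)
      have := normalizer_le_normalizer_J (𝒞 := abClass G) T
      rwa [J_abClass] at this
    obtain ⟨z, hz, hzP⟩ := exists_conj_le h.isSylowIn hT'p hT'C
    have hIT' : I ≤ T' := hIT.trans hTT'.le
    have hBig' : Big P (cj z I) := by
      refine ⟨?_, (cj_mono z hIT').trans hzP, cj z A', ?_, cj_mono z hA'I, ?_⟩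
      · rw [← cj_pCore (p := p) z]
        exact cj_mono z hQI
      · exact cj_mem_maxSet hA' z ((cj_mono z (hA'I.trans hIT')).trans hzP)
      · intro hle
        apply hA'Q
        rw [cj_le_iff, cj_pCore] at hle
        exact hle
    have hnorm : Subgroup.normalizer ((cj z I : Subgroup G) : Set G) = cj z X := by
      rw [normalizer_cj, hXdef]
    have hlt : Nat.card T < Nat.card ↥((P : Subgroup G) ⊓
        Subgroup.normalizer ((cj z I : Subgroup G) : Set G)) := by
      have h1 : cj z T' ≤ (P : Subgroup G) ⊓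
          Subgroup.normalizer ((cj z I : Subgroup G) : Set G) := by
        refine le_inf hzP ?_
        rw [hnorm]
        exact cj_mono z (hT'S.trans hSX.1)
      have h2 := Subgroup.card_le_of_le h1
      rw [card_cj] at h2
      exact lt_of_lt_of_le (Cfsg.Agent.Lib.H19.card_lt_of_lt hTT') h2
    have hle : Nat.card ↥((P : Subgroup G) ⊓
        Subgroup.normalizer ((cj z I : Subgroup G) : Set G)) ≤
        Nat.card (P : Subgroup G) := Subgroup.card_le_of_le inf_le_left
    have h2 := IH _ (by omega) _ hBig' rfl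
    rw [hnorm, cj_le_iff, cj_Cx_of_mem (Subgroup.inv_mem _ hz)] at h2
    exact h2

end Cfsg.Agent.Lib.H25.Glau
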