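import Mathlib
import Cfsg.Agent.Lib.H25.GlauGroupB

set_option autoImplicit false

/-!
Glauberman's theorem on weakly closed elements (helper25): an abelian subgroup of `P` of largest
order outside `O_p(G)` fixes exactly one conjugate of `x`.
-/

namespace Cfsg.Agent.Lib.H25.Glau

open Cfsg Cfsg.Agent.Lib.H15 Cfsg.Agent.Lib.H5 Cfsg.Agent.Lib.H4.ZJ Cfsg.Agent.Lib.H26.Gen
  Cfsg.Agent.Lib.H26.Nil

universe u
variable {G : Type u} [Group G] [Finite G] {p : ℕ} [Fact p.Prime]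

/-- The normalizer of a `p`-subgroup `R ≥ O_p(G)` of a conjugate of `C(x)` containing a large
abelian subgroup outside `O_p(G)` lies in that conjugate. -/
theorem big_normalizer {P : Sylow p G} {x : G} (h : Ctx p G P x) {R A₀ : Subgroup G}
    (hQR : pCore p G ≤ R) (hRp : IsPGroup p R) (hA₀R : A₀ ≤ R) (hA₀ : (abClass G).pred A₀)
    (hA₀max : ∀ B : Subgroup G, B ≤ (P : Subgroup G) → (abClass G).pred B →
      Nat.card B ≤ Nat.card A₀) (hA₀Q : ¬ A₀ ≤ pCore p G) (u : G) (hRu : R ≤ cj u (Cx x)) :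
    ∃ g : G, cj g R ≤ P ∧ g * u ∈ Cx x ∧ Subgroup.normalizer (R : Set G) ≤ cj u (Cx x) := by
  have hsyl : IsSylowIn p (cj u (P : Subgroup G)) (cj u (Cx x)) := h.isSylowIn.conj u
  obtain ⟨c, hc, hcR⟩ := exists_conj_le hsyl hRp hRu
  have hgR : cj (u⁻¹ * c) R ≤ P := by
    rw [← cj_cj, cj_le_iff, inv_inv]
    exact hcR
  refine ⟨u⁻¹ * c, hgR, ?_, ?_⟩
  · rw [mem_cj_iff] at hc
    exact hc
  · have hBig : Big P (cj (u⁻¹ * c) R) := by
      refine ⟨?_, hgR, cj (u⁻¹ * c) A₀, ⟨(cj_mono _ hA₀R).trans hgR,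
        (abClass G).map (MulAut.conj (u⁻¹ * c)) A₀ hA₀, fun B hB hBp => ?_⟩, cj_mono _ hA₀R, ?_⟩
      · rw [← cj_pCore (p := p) (u⁻¹ * c)]
        exact cj_mono _ hQR
      · rw [card_cj]
        exact hA₀max B hB hBp
      · intro hle
        apply hA₀Q
        rw [cj_le_iff, cj_pCore] at hle
        exact hle
    have h1 := chain h _ _ hBig rfl
    rw [normalizer_cj, cj_le_iff] at h1
    have h2 : cj (u⁻¹ * c)⁻¹ (Cx x) = cj u (Cx x) := by
      have e : (u⁻¹ * c)⁻¹ = c⁻¹ * u := by group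
      rw [e, ← cj_cj]
      exact cj_eq_self_of_mem (Subgroup.inv_mem _ hc)
    rw [h2] at h1
    exact h1

/-- An abelian subgroup of `P` of largest order not in `O_p(G)` centralizes no conjugate of `x`
other than `x`. -/
theorem unique_fixed {P : Sylow p G} {x : G} (h : Ctx p G P x) {A : Subgroup G}
    (hA : A ∈ maxSet (abClass G) (P : Subgroup G)) (hAQ : ¬ A ≤ pCore p G) (t : G)
    (hfix : ∀ a ∈ A, a * (t * x * t⁻¹) = (t * x * t⁻¹) * a) : t * x * t⁻¹ = x := by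
  have hQP : pCore p G ≤ P := Cfsg.Agent.Lib.H1.pCore_le_sylow P
  have hPp : IsPGroup p (P : Subgroup G) := P.2
  have hPC := h.P_le
  obtain ⟨D, hDdef⟩ : ∃ D : Subgroup G, D = Cx x ⊓ cj t (Cx x) := ⟨_, rfl⟩
  have hAD : A ⊔ pCore p G ≤ D := by
    rw [hDdef]
    refine sup_le (le_inf (hA.1.trans hPC) ?_) (le_inf (hQP.trans hPC) ?_)
    · intro a ha
      rw [mem_cj_iff, mem_Cx]
      have := hfix a ha
      calc t⁻¹ * a * t * x = t⁻¹ * (a * (t * x * t⁻¹)) * t := by group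
        _ = t⁻¹ * ((t * x * t⁻¹) * a) * t := by rw [this]
        _ = x * (t⁻¹ * a * t) := by group
    · rw [← cj_pCore (p := p) t]
      exact cj_mono t (hQP.trans hPC)
  have hAQp : IsPGroup p ↥(A ⊔ pCore p G) := hPp.to_le (sup_le hA.1 hQP)
  obtain ⟨R, hR, hAR⟩ := exists_isSylowIn_ge hAQp hAD
  have hRD := hR.1
  have hRp := hR.2.1
  have hD1 : D ≤ Cx x := hDdef ▸ inf_le_left
  have hD2 : D ≤ cj t (Cx x) := hDdef ▸ inf_le_right
  obtain ⟨g₁, hg₁R, hg₁, hN₁⟩ := big_normalizer h (le_sup_right.trans hAR) hRp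
    (le_sup_left.trans hAR) hA.2.1 hA.2.2 hAQ 1 (by rw [cj_one]; exact hRD.trans hD1)
  obtain ⟨g₂, hg₂R, hg₂, hN₂⟩ := big_normalizer h (le_sup_right.trans hAR) hRp
    (le_sup_left.trans hAR) hA.2.1 hA.2.2 hAQ t (hRD.trans hD2)
  rw [cj_one] at hN₁
  rw [mul_one] at hg₁
  have hND : Subgroup.normalizer (R : Set G) ≤ D := hDdef ▸ le_inf hN₁ hN₂
  -- `R` is a Sylow subgroup of `C(x)`
  obtain ⟨S₁, hS₁, hRS₁⟩ := exists_isSylowIn_ge hRp (hRD.trans hD1)
  have hRS : R = S₁ := by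
    by_contra hne
    have hlt : R < S₁ := lt_of_le_of_ne hRS₁ hne
    obtain ⟨g, hgS, hgN, hgR⟩ := Cfsg.Agent.Lib.H19.exists_mem_normalizer_not_mem hS₁.2.1 hlt
    have h1 := hR.2.2 (S₁ ⊓ Subgroup.normalizer (R : Set G)) (hS₁.2.1.to_le inf_le_left)
      (le_inf hRS₁ Subgroup.le_normalizer) (inf_le_right.trans hND)
    apply hgR
    rw [← h1]
    exact ⟨hgS, hgN⟩
  have hcard : Nat.card R = Nat.card (P : Subgroup G) := by
    rw [hRS, hS₁.card_eq, h.isSylowIn.card_eq]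
  have e₁ : cj g₁ R = P := by
    apply Subgroup.eq_of_le_of_card_ge hg₁R
    rw [card_cj, hcard]
  have e₂ : cj g₂ R = P := by
    apply Subgroup.eq_of_le_of_card_ge hg₂R
    rw [card_cj, hcard]
  have h3 : g₂ * g₁⁻¹ ∈ Subgroup.normalizer ((P : Subgroup G) : Set G) := by
    rw [mem_normalizer_iff_cj_eq, ← cj_cj]
    have : cj g₁⁻¹ (P : Subgroup G) = R := by
      rw [← e₁, cj_inv_cj]
    rw [this, e₂]
  have h4 : g₂ * g₁⁻¹ ∈ Cx x := h.normalizer_P_le h3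
  have h5 : g₂ ∈ Cx x := by
    have := (Cx x).mul_mem h4 hg₁
    simpa using this
  have h6 : t ∈ Cx x := by
    have := (Cx x).mul_mem ((Cx x).inv_mem h5) hg₂
    simpa using this
  rw [mem_Cx] at h6
  rw [h6, mul_inv_cancel_right]

end Cfsg.Agent.Lib.H25.Glau
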