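import Mathlib
import Cfsg.Agent.Lib.H14.SFour7
import Cfsg.Agent.Lib.H14.SFour2
import Cfsg.Agent.Lib.H14.SFour5

set_option autoImplicit false

/-!
Two transvections on a four-group generate `S₃`, and then `S₄` is involved (helper25).
-/

namespace Cfsg.Agent.Lib.H25.Glau

open Cfsg.Agent.Lib.H14.SFour

variable {G : Type*} [Group G]

theorem involves_of_transvections [Finite G] (a a' u u' : G)
    (hu2 : u * u = 1) (hu'2 : u' * u' = 1) (hcomm : u' * u = u * u') (hu1 : u ≠ 1)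
    (hu'1 : u' ≠ 1) (hne : u ≠ u')
    (hau : a * u * a⁻¹ = u) (hau' : a * u' * a⁻¹ = u * u')
    (ha'u' : a' * u' * a'⁻¹ = u') (ha'u : a' * u * a'⁻¹ = u * u')
    (haa : (a * a) * u = u * (a * a)) (haa' : (a * a) * u' = u' * (a * a))
    (ha'a : (a' * a') * u = u * (a' * a')) (ha'a' : (a' * a') * u' = u' * (a' * a')) :
    Cfsg.Involves (Equiv.Perm (Fin 4)) G := by
  classical
  obtain ⟨E, hE⟩ : ∃ E, E = kleinSub u u' hu2 hu'2 hcomm := ⟨_, rfl⟩
  have hmemE : ∀ x, x ∈ E ↔ x = 1 ∨ x = u ∨ x = u' ∨ x = u * u' := by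
    intro x; rw [hE]; exact mem_kleinSub
  have hE2 : IsPGroup 2 E := by
    apply IsPGroup.of_card (n := 2)
    rw [hE, card_kleinSub hu2 hu'2 hcomm hu1 hu'1 hne]
    norm_num
  have huE : u ∈ E := (hmemE u).2 (Or.inr (Or.inl rfl))
  have hu'E : u' ∈ E := (hmemE u').2 (Or.inr (Or.inr (Or.inl rfl)))
  have huu'E : u * u' ∈ E := (hmemE _).2 (Or.inr (Or.inr (Or.inr rfl)))
  have hcent : ∀ g, g * u = u * g → g * u' = u' * g → g ∈ Subgroup.centralizer (E : Set G) := by
    intro g h1 h2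
    rw [Subgroup.mem_centralizer_iff]
    intro h hh
    rcases (hmemE h).1 hh with rfl | rfl | rfl | rfl
    · simp
    · exact h1.symm
    · exact h2.symm
    · rw [mul_assoc, ← h2, ← mul_assoc, ← h1, mul_assoc]
  -- conjugation facts
  have e1 : u * (u * u') = u' := by rw [← mul_assoc, hu2, one_mul]
  have e2 : u' * (u * u') = u := by rw [← mul_assoc, hcomm, mul_assoc, hu'2, mul_one]
  have ka_uu' : a * (u * u') * a⁻¹ = u' := by
    have : a * (u * u') * a⁻¹ = (a * u * a⁻¹) * (a * u' * a⁻¹) := by group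
    rw [this, hau, hau', e1]
  have ka'_uu' : a' * (u * u') * a'⁻¹ = u := by
    have : a' * (u * u') * a'⁻¹ = (a' * u * a'⁻¹) * (a' * u' * a'⁻¹) := by group
    rw [this, ha'u, ha'u', mul_assoc, hu'2, mul_one]
  have haN : a ∈ Subgroup.normalizer (E : Set G) := by
    apply mem_nzr_of_conj_mem_finite
    intro x hx
    rcases (hmemE x).1 hx with rfl | rfl | rfl | rfl
    · simp [E.one_mem]
    · rw [hau]; exact huE
    · rw [hau']; exact huu'E
    · rw [ka_uu']; exact hu'E
  have ha'N : a' ∈ Subgroup.normalizer (E : Set G) := by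
    apply mem_nzr_of_conj_mem_finite
    intro x hx
    rcases (hmemE x).1 hx with rfl | rfl | rfl | rfl
    · simp [E.one_mem]
    · rw [ha'u]; exact huu'E
    · rw [ha'u']; exact hu'E
    · rw [ka'_uu']; exact huE
  -- the element `c = a a'`
  have kc_u : (a * a') * u * (a * a')⁻¹ = u' := by
    have : (a * a') * u * (a * a')⁻¹ = a * (a' * u * a'⁻¹) * a⁻¹ := by group
    rw [this, ha'u, ka_uu']
  have kc_u' : (a * a') * u' * (a * a')⁻¹ = u * u' := by
    have : (a * a') * u' * (a * a')⁻¹ = a * (a' * u' * a'⁻¹) * a⁻¹ := by group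
    rw [this, ha'u', hau']
  have kc_uu' : (a * a') * (u * u') * (a * a')⁻¹ = u := by
    have : (a * a') * (u * u') * (a * a')⁻¹ =
        ((a * a') * u * (a * a')⁻¹) * ((a * a') * u' * (a * a')⁻¹) := by group
    rw [this, kc_u, kc_u', e2]
  have kc3_u : (a * a') ^ 3 * u = u * (a * a') ^ 3 := by
    have h1 : (a * a') ^ 3 * u * ((a * a') ^ 3)⁻¹ = u := by
      have : ∀ c : G, c ^ 3 * u * (c ^ 3)⁻¹ = c * (c * (c * u * c⁻¹) * c⁻¹) * c⁻¹ := by
        intro c
        have h3 : c ^ 3 = c * c * c := by rw [pow_succ, pow_two]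
        rw [h3]; group
      rw [this, kc_u, kc_u', kc_uu']
    calc (a * a') ^ 3 * u = ((a * a') ^ 3 * u * ((a * a') ^ 3)⁻¹) * (a * a') ^ 3 := by group
      _ = u * (a * a') ^ 3 := by rw [h1]
  have kc3_u' : (a * a') ^ 3 * u' = u' * (a * a') ^ 3 := by
    have h1 : (a * a') ^ 3 * u' * ((a * a') ^ 3)⁻¹ = u' := by
      have : ∀ c : G, c ^ 3 * u' * (c ^ 3)⁻¹ = c * (c * (c * u' * c⁻¹) * c⁻¹) * c⁻¹ := by
        intro c
        have h3 : c ^ 3 = c * c * c := by rw [pow_succ, pow_two]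
        rw [h3]; group
      rw [this, kc_u', kc_uu', kc_u]
    calc (a * a') ^ 3 * u' = ((a * a') ^ 3 * u' * ((a * a') ^ 3)⁻¹) * (a * a') ^ 3 := by group
      _ = u' * (a * a') ^ 3 := by rw [h1]
  have hc3 : (a * a') ^ 3 ∈ Subgroup.centralizer (E : Set G) := hcent _ kc3_u kc3_u'
  have hcN : a * a' ∈ Subgroup.normalizer (E : Set G) := Subgroup.mul_mem _ haN ha'N
  have hcC : a * a' ∉ Subgroup.centralizer (E : Set G) := by
    intro h
    rw [Subgroup.mem_centralizer_iff] at h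
    have h1 := h u huE
    apply hne
    rw [← kc_u, ← h1, mul_inv_cancel_right]
  have hsq : (a * a) * (a' * a') ∈ Subgroup.centralizer (E : Set G) :=
    Subgroup.mul_mem _ (hcent _ haa haa') (hcent _ ha'a ha'a')
  -- the quotient
  obtain ⟨e, t, he3, ht2, hinv, heC⟩ := exists_pair_of_map_pair
    (QuotientGroup.mk' ((Subgroup.centralizer (E : Set G)).subgroupOf
      (Subgroup.normalizer (E : Set G)))) (QuotientGroup.mk'_surjective _)
    (QuotientGroup.mk' _ ⟨a * a', hcN⟩) (QuotientGroup.mk' _ ⟨a, haN⟩)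
    ⟨1, by
      rw [← map_pow, QuotientGroup.mk'_apply, QuotientGroup.eq_one_iff, Subgroup.mem_subgroupOf]
      simpa using hc3⟩
    (by
      intro h
      rw [QuotientGroup.mk'_apply, QuotientGroup.eq_one_iff, Subgroup.mem_subgroupOf] at h
      exact hcC h)
    (by
      rw [eq_inv_iff_mul_eq_one, ← map_inv, ← map_mul, ← map_mul, ← map_mul,
        QuotientGroup.mk'_apply, QuotientGroup.eq_one_iff, Subgroup.mem_subgroupOf]
      have : (((⟨a, haN⟩ * ⟨a * a', hcN⟩ * (⟨a, haN⟩)⁻¹ * ⟨a * a', hcN⟩ :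
          ↥(Subgroup.normalizer (E : Set G))) : G)) = (a * a) * (a' * a') := by
        show a * (a * a') * a⁻¹ * (a * a') = _
        group
      rw [this]
      exact hsq)
  obtain ⟨n₂, hn₂⟩ := he3
  obtain ⟨k₂, hk₂⟩ := ht2
  apply involves_of_pair E hE2 (e : G) (t : G) e.2 t.2
    ⟨n₂, by have := congrArg Subtype.val hn₂; simpa using this⟩
    ⟨k₂, by have := congrArg Subtype.val hk₂; simpa using this⟩
    (by have := congrArg Subtype.val hinv; simpa using this)
  intro hC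
  apply heC
  rw [QuotientGroup.mk'_apply, QuotientGroup.eq_one_iff, Subgroup.mem_subgroupOf]
  exact hC

end Cfsg.Agent.Lib.H25.Glau
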