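import Mathlib
import Cfsg.Agent.Lib.H25.GlauGroupC
import Cfsg.Agent.Lib.H25.GlauSFour

set_option autoImplicit false

/-!
Glauberman's theorem on weakly closed elements (helper25): for `p = 2` and `S₄` not involved, an
abelian subgroup of `P` of largest order outside `O_2(G)` has no orbit of length `2` on the
conjugates of `x`.
-/

namespace Cfsg.Agent.Lib.H25.Glau

open Cfsg Cfsg.Agent.Lib.H15 Cfsg.Agent.Lib.H5 Cfsg.Agent.Lib.H4.ZJ Cfsg.Agent.Lib.H26.Gen
  Cfsg.Agent.Lib.H26.Nil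

universe u

section elem

variable {G : Type u} [Group G]

theorem conj_mul' (g a b : G) : g * (a * b) * g⁻¹ = (g * a * g⁻¹) * (g * b * g⁻¹) := by group

theorem comm_of_conj_eq {g v : G} (h : g * v * g⁻¹ = v) : g * v = v * g := by
  calc g * v = (g * v * g⁻¹) * g := by group
    _ = v * g := by rw [h]

theorem conj_eq_of_comm {g v : G} (h : g * v = v * g) : g * v * g⁻¹ = v := by
  rw [h, mul_inv_cancel_right]

end elem

variable {G : Type u} [Group G] [Finite G] {p : ℕ} [Fact p.Prime]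

theorem Ctx.x_mem_ZQ {P : Sylow p G} {x : G} (h : Ctx p G P x) : x ∈ ZQ p G := by
  have hQP : pCore p G ≤ P := Cfsg.Agent.Lib.H1.pCore_le_sylow P
  exact mem_ZQ.2 ⟨h.hx, fun q hq => mem_Cx.1 (h.P_le (hQP hq))⟩

/-- There is no orbit of length two. -/
theorem no_orbit_two {P : Sylow p G} {x : G} (h : Ctx p G P x) (hp2 : p = 2) {A : Subgroup G}
    (hA : A ∈ maxSet (abClass G) (P : Subgroup G)) (hAQ : ¬ A ≤ pCore p G)
    (hAN : ZQ p G ≤ Subgroup.normalizer (A : Set G)) (t : G) {B : Subgroup G} (hBA : B ≤ A)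
    (hcard : Nat.card A = 2 * Nat.card B)
    (hBy : ∀ a ∈ A, a ∈ B ↔ a * (t * x * t⁻¹) = (t * x * t⁻¹) * a)
    (hidx : ∀ a₁ ∈ A, ∀ a₂ ∈ A, a₁ ∉ B → a₂ ∉ B → a₁⁻¹ * a₂ ∈ B) : False := by
  have hside : ¬ Cfsg.Involves (Equiv.Perm (Fin 4)) G := by
    rcases h.side with h1 | h1
    · exact absurd hp2 h1
    · exact h1
  have hQP : pCore p G ≤ P := Cfsg.Agent.Lib.H1.pCore_le_sylow P
  have hPC := h.P_le
  have hxZ := h.x_mem_ZQ
  obtain ⟨y, hydef⟩ : ∃ y, y = t * x * t⁻¹ := ⟨_, rfl⟩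
  rw [← hydef] at hBy
  have hyZ : y ∈ ZQ p G := hydef ▸ ZQ_conj t hxZ
  have hAab : ∀ a ∈ A, ∀ b ∈ A, a * b = b * a := hA.2.1
  have hBpos : 0 < Nat.card B := Nat.card_pos
  have hAB : ¬ A ≤ B := by
    intro hle
    have := Subgroup.card_le_of_le hle
    omega
  have hyx : y ≠ x := by
    intro heq
    apply hAB
    intro a ha
    rw [hBy a ha, heq]
    exact mem_Cx.1 (hPC (hA.1 ha))
  have hyB : y ∉ B := by
    intro hy
    apply hAB
    intro a ha
    rw [hBy a ha]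
    exact hAab a ha y (hBA hy)
  by_cases hBQ : B ≤ pCore p G
  · -- the `S₄` case
    have hBV : ∀ b ∈ B, ∀ v ∈ ZQ p G, b * v = v * b :=
      fun b hb v hv => (mem_ZQ.1 hv).2 b (hBQ hb)
    obtain ⟨a, haA, haB⟩ := SetLike.not_le_iff_exists.1 hAB
    have hay : a * y ≠ y * a := fun hc => haB ((hBy a haA).2 hc)
    -- the index of `B` in `B ⊔ Z(Q)`
    have hKP : B ⊔ ZQ p G ≤ P := sup_le (hBA.trans hA.1) (ZQ_le.trans hQP)
    have hKab : (abClass G).pred (B ⊔ ZQ p G) :=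
      (abClass G).sup B (ZQ p G) ((abClass G).mono A B hA.2.1 hBA)
        (fun x hx y hy => ZQ_comm hx hy) (fun b hb v hv => hBV b hb v hv)
    have hKcard : Nat.card ↥(B ⊔ ZQ p G) ≤ 2 * Nat.card B := hcard ▸ hA.2.2 _ hKP hKab
    have hidx2 : (B.subgroupOf (B ⊔ ZQ p G)).index = 2 := by
      have h1 := Subgroup.card_mul_index (B.subgroupOf (B ⊔ ZQ p G))
      have h2 : Nat.card (B.subgroupOf (B ⊔ ZQ p G)) = Nat.card B :=
        Nat.card_congr (Subgroup.subgroupOfEquivOfLe (le_sup_left : B ≤ B ⊔ ZQ p G)).toEquiv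
      rw [h2] at h1
      have h3 : (B.subgroupOf (B ⊔ ZQ p G)).index ≠ 0 := Subgroup.index_ne_zero_of_finite
      have h4 : (B.subgroupOf (B ⊔ ZQ p G)).index ≠ 1 := by
        intro h1'
        rw [Subgroup.index_eq_one, Subgroup.subgroupOf_eq_top] at h1'
        exact hyB (h1' ((le_sup_right : ZQ p G ≤ B ⊔ ZQ p G) hyZ))
      have h5 : (B.subgroupOf (B ⊔ ZQ p G)).index ≤ 2 := by
        by_contra hgt
        push Not at hgt
        have : 3 * Nat.card B ≤ Nat.card B * (B.subgroupOf (B ⊔ ZQ p G)).index := by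
          rw [mul_comm]
          exact Nat.mul_le_mul_left _ hgt
        omega
      omega
    have hT : ∀ v₁ ∈ ZQ p G, ∀ v₂ ∈ ZQ p G, v₁ ∉ B → v₂ ∉ B → v₁⁻¹ * v₂ ∈ B := by
      intro v₁ hv₁ v₂ hv₂ h1 h2
      have hv₁K : v₁⁻¹ ∈ B ⊔ ZQ p G := (le_sup_right : ZQ p G ≤ B ⊔ ZQ p G) (inv_mem hv₁)
      have hv₂K : v₂ ∈ B ⊔ ZQ p G := (le_sup_right : ZQ p G ≤ B ⊔ ZQ p G) hv₂
      have := Subgroup.mul_mem_iff_of_index_two hidx2 (a := ⟨v₁⁻¹, hv₁K⟩) (b := ⟨v₂, hv₂K⟩)
      rw [Subgroup.mem_subgroupOf, Subgroup.mem_subgroupOf, Subgroup.mem_subgroupOf] at this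
      apply this.2
      constructor
      · intro h'
        exact absurd (by simpa using B.inv_mem h') h1
      · intro h'
        exact absurd h' h2
    have hnotB : ∀ v ∈ ZQ p G, a * v ≠ v * a → v ∉ B :=
      fun v _ hv hvB => hv (hAab a haA v (hBA hvB))
    obtain ⟨u, hudef⟩ : ∃ u, u = y⁻¹ * (a * y * a⁻¹) := ⟨_, rfl⟩
    have hyaZ : a * y * a⁻¹ ∈ ZQ p G := ZQ_conj a hyZ
    have huZ : u ∈ ZQ p G := hudef ▸ mul_mem (inv_mem hyZ) hyaZ
    have huA : u ∈ A := by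
      have h1 : y⁻¹ ∈ Subgroup.normalizer (A : Set G) := inv_mem (hAN hyZ)
      have h2 := (Subgroup.mem_normalizer_iff.1 h1 a).1 haA
      rw [inv_inv] at h2
      have h3 : u = (y⁻¹ * a * y) * a⁻¹ := by rw [hudef]; group
      rw [h3]
      exact mul_mem h2 (inv_mem haA)
    have hau : a * u * a⁻¹ = u := conj_eq_of_comm (hAab a haA u huA)
    have hu1 : u ≠ 1 := by
      intro h1
      apply hay
      apply comm_of_conj_eq
      rw [hudef] at h1
      have := eq_of_inv_mul_eq_one h1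
      exact this.symm
    -- the transvection property
    have F1 : ∀ v ∈ ZQ p G, a * v ≠ v * a → a * v * a⁻¹ = v * u := by
      intro v hv hav
      have hw : y⁻¹ * v ∈ B := hT y hyZ v hv hyB (hnotB v hv hav)
      have h1 : a * (y⁻¹ * v) * a⁻¹ = y⁻¹ * v :=
        conj_eq_of_comm (hAab a haA _ (hBA hw))
      rw [conj_mul'] at h1
      have h2 : a * y⁻¹ * a⁻¹ = (a * y * a⁻¹)⁻¹ := by group
      rw [h2] at h1
      have h3 : a * v * a⁻¹ = (a * y * a⁻¹) * (y⁻¹ * v) := by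
        rw [← h1]; group
      rw [h3, hudef]
      have c1 : (a * y * a⁻¹) * (y⁻¹ * v) = (y⁻¹ * v) * (a * y * a⁻¹) :=
        ZQ_comm hyaZ (mul_mem (inv_mem hyZ) hv)
      have c2 : y⁻¹ * v = v * y⁻¹ := ZQ_comm (inv_mem hyZ) hv
      rw [c1, c2, mul_assoc]
    have haaB : a * a ∈ B := by
      have := hidx a⁻¹ (inv_mem haA) a haA (fun h' => haB (by simpa using B.inv_mem h')) haB
      simpa using this
    have hay' : a * y * a⁻¹ = y * u := F1 y hyZ hay
    have hu2 : u * u = 1 := by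
      have h1 : (a * a) * y * (a * a)⁻¹ = y := conj_eq_of_comm ((hBy _ (mul_mem haA haA)).1 haaB)
      have h2 : (a * a) * y * (a * a)⁻¹ = a * (a * y * a⁻¹) * a⁻¹ := by group
      rw [h2, hay', conj_mul', hay', hau, mul_assoc] at h1
      exact mul_left_cancel (h1.trans (mul_one y).symm)
    have F4 : ∀ s : G, s * x * s⁻¹ ≠ x → a * (s * x * s⁻¹) * a⁻¹ = (s * x * s⁻¹) * u := by
      intro s hs
      apply F1 _ (ZQ_conj s hxZ)
      intro hc
      apply hs
      apply unique_fixed h hA hAQ s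
      intro a₁ ha₁
      by_cases ha₁B : a₁ ∈ B
      · exact hBV a₁ ha₁B _ (ZQ_conj s hxZ)
      · have hb := hidx a haA a₁ ha₁ haB ha₁B
        have hb' := hBV _ hb _ (ZQ_conj s hxZ)
        calc a₁ * (s * x * s⁻¹) = a * ((a⁻¹ * a₁) * (s * x * s⁻¹)) := by group
          _ = a * ((s * x * s⁻¹) * (a⁻¹ * a₁)) := by rw [hb']
          _ = (a * (s * x * s⁻¹)) * (a⁻¹ * a₁) := by group
          _ = ((s * x * s⁻¹) * a) * (a⁻¹ * a₁) := by rw [hc]
          _ = (s * x * s⁻¹) * a₁ := by group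
    have hax : a * x * a⁻¹ = x := conj_eq_of_comm (mem_Cx.1 (hPC (hA.1 haA)))
    -- the conjugate transvection
    obtain ⟨a', ha'def⟩ : ∃ a', a' = t * a * t⁻¹ := ⟨_, rfl⟩
    obtain ⟨u', hu'def⟩ : ∃ u', u' = t * u * t⁻¹ := ⟨_, rfl⟩
    have hu'Z : u' ∈ ZQ p G := hu'def ▸ ZQ_conj t huZ
    have F4' : ∀ s : G, s * x * s⁻¹ ≠ y → a' * (s * x * s⁻¹) * a'⁻¹ = (s * x * s⁻¹) * u' := by
      intro s hs
      have h1 : (t⁻¹ * s) * x * (t⁻¹ * s)⁻¹ ≠ x := by
        intro hc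
        apply hs
        calc s * x * s⁻¹ = t * ((t⁻¹ * s) * x * (t⁻¹ * s)⁻¹) * t⁻¹ := by group
          _ = t * x * t⁻¹ := by rw [hc]
          _ = y := hydef.symm
      have h2 := F4 (t⁻¹ * s) h1
      rw [ha'def, hu'def]
      calc t * a * t⁻¹ * (s * x * s⁻¹) * (t * a * t⁻¹)⁻¹
          = t * (a * ((t⁻¹ * s) * x * (t⁻¹ * s)⁻¹) * a⁻¹) * t⁻¹ := by group
        _ = t * (((t⁻¹ * s) * x * (t⁻¹ * s)⁻¹) * u) * t⁻¹ := by rw [h2]
        _ = (s * x * s⁻¹) * (t * u * t⁻¹) := by group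
    have hu'2 : u' * u' = 1 := by
      rw [hu'def]
      calc t * u * t⁻¹ * (t * u * t⁻¹) = t * (u * u) * t⁻¹ := by group
        _ = 1 := by rw [hu2]; group
    have hu'1 : u' ≠ 1 := by
      intro h1
      apply hu1
      rw [hu'def] at h1
      calc u = t⁻¹ * (t * u * t⁻¹) * t := by group
        _ = 1 := by rw [h1]; group
    have ha'u' : a' * u' * a'⁻¹ = u' := by
      rw [ha'def, hu'def]
      calc t * a * t⁻¹ * (t * u * t⁻¹) * (t * a * t⁻¹)⁻¹ = t * (a * u * a⁻¹) * t⁻¹ := by group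
        _ = t * u * t⁻¹ := by rw [hau]
    have hcomm : u' * u = u * u' := ZQ_comm hu'Z huZ
    have h1x : a' * x * a'⁻¹ = x * u' := by
      have := F4' 1 (by simpa using hyx.symm)
      simpa using this
    have hau' : a * u' * a⁻¹ = u * u' := by
      have hne : a' * x * a'⁻¹ ≠ x := by
        rw [h1x]
        intro hc
        exact hu'1 (mul_left_cancel (hc.trans (mul_one x).symm))
      have h2 := F4 a' hne
      rw [h1x, conj_mul', hax] at h2
      have h3 : x * (a * u' * a⁻¹) = x * (u' * u) := by rw [h2, mul_assoc]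
      rw [mul_left_cancel h3, hcomm]
    have ha'y : a' * y * a'⁻¹ = y := by
      rw [ha'def, hydef]
      calc t * a * t⁻¹ * (t * x * t⁻¹) * (t * a * t⁻¹)⁻¹ = t * (a * x * a⁻¹) * t⁻¹ := by group
        _ = t * x * t⁻¹ := by rw [hax]
    have ha'u : a' * u * a'⁻¹ = u * u' := by
      have hconj : a * y * a⁻¹ = (a * t) * x * (a * t)⁻¹ := by rw [hydef]; group
      have hne : (a * t) * x * (a * t)⁻¹ ≠ y := by
        rw [← hconj, hay']
        intro hc
        exact hu1 (mul_left_cancel (hc.trans (mul_one y).symm))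
      have h2 := F4' (a * t) hne
      rw [← hconj, hay', conj_mul', ha'y] at h2
      have h3 : y * (a' * u * a'⁻¹) = y * (u * u') := by rw [h2, mul_assoc]
      exact mul_left_cancel h3
    have hne : u ≠ u' := by
      intro heq
      rw [← heq, hau, hu2] at hau'
      exact hu1 hau'
    have haa : (a * a) * u = u * (a * a) := hBV _ haaB u huZ
    have haa' : (a * a) * u' = u' * (a * a) := hBV _ haaB u' hu'Z
    have hconjZ : ∀ v ∈ ZQ p G, (a' * a') * v = v * (a' * a') := by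
      intro v hv
      have h1 := hBV _ haaB _ (ZQ_conj t⁻¹ hv)
      rw [inv_inv] at h1
      rw [ha'def]
      calc t * a * t⁻¹ * (t * a * t⁻¹) * v = t * ((a * a) * (t⁻¹ * v * t)) * t⁻¹ := by group
        _ = t * ((t⁻¹ * v * t) * (a * a)) * t⁻¹ := by rw [h1]
        _ = v * (t * a * t⁻¹ * (t * a * t⁻¹)) := by group
    exact hside (involves_of_transvections a a' u u' hu2 hu'2 hcomm hu1 hu'1 hne hau hau' ha'u'
      ha'u haa haa' (hconjZ u huZ) (hconjZ u' hu'Z))
  · -- `B` not in `O_p(G)`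
    have hBsP : B ⊔ Subgroup.zpowers y ≤ P :=
      sup_le (hBA.trans hA.1) ((Subgroup.zpowers_le).2 (hQP (ZQ_le hyZ)))
    have hBCy : B ⊔ Subgroup.zpowers y ≤ Cx y := by
      refine sup_le (fun b hb => mem_Cx.2 ((hBy b (hBA hb)).1 hb)) ?_
      rw [Subgroup.zpowers_le]
      exact mem_Cx.2 rfl
    have hzab : (abClass G).pred (Subgroup.zpowers y) := by
      intro a ha b hb
      obtain ⟨k, rfl⟩ := Subgroup.mem_zpowers_iff.1 ha
      obtain ⟨l, rfl⟩ := Subgroup.mem_zpowers_iff.1 hb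
      rw [← zpow_add, ← zpow_add, add_comm]
    have hBsab : (abClass G).pred (B ⊔ Subgroup.zpowers y) := by
      refine (abClass G).sup B (Subgroup.zpowers y) ((abClass G).mono A B hA.2.1 hBA) hzab ?_
      intro b hb z hz
      have h1 : b ∈ Cx y := hBCy ((le_sup_left : B ≤ B ⊔ Subgroup.zpowers y) hb)
      obtain ⟨k, rfl⟩ := Subgroup.mem_zpowers_iff.1 hz
      have h2 : Commute b y := mem_Cx.1 h1
      exact (h2.zpow_right k).eq
    have hlt : B < B ⊔ Subgroup.zpowers y := by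
      refine lt_of_le_of_ne le_sup_left (fun heq => hyB ?_)
      rw [heq]
      exact (le_sup_right : Subgroup.zpowers y ≤ B ⊔ Subgroup.zpowers y)
        (Subgroup.mem_zpowers y)
    have hge : Nat.card A ≤ Nat.card ↥(B ⊔ Subgroup.zpowers y) := by
      have h1 := Cfsg.Agent.Lib.H19.card_lt_of_lt hlt
      obtain ⟨k, hk⟩ := Subgroup.card_dvd_of_le (le_sup_left : B ≤ B ⊔ Subgroup.zpowers y)
      rw [hk, hcard, mul_comm]
      apply Nat.mul_le_mul_left
      by_contra hk2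
      push Not at hk2
      interval_cases k
      · rw [hk] at h1; omega
      · rw [hk] at h1; omega
    have hmax : B ⊔ Subgroup.zpowers y ∈ maxSet (abClass G) (P : Subgroup G) :=
      ⟨hBsP, hBsab, fun B' hB' hB'p => (hA.2.2 B' hB' hB'p).trans hge⟩
    have hnQ : ¬ B ⊔ Subgroup.zpowers y ≤ pCore p G := fun hle => hBQ (le_sup_left.trans hle)
    apply hyx
    rw [hydef]
    apply unique_fixed h hmax hnQ t
    intro b hb
    rw [← hydef]
    exact mem_Cx.1 (hBCy hb)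

end Cfsg.Agent.Lib.H25.Glau
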