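import Mathlib
import Cfsg.Agent.Lib.H25.GlauGroupD

set_option autoImplicit false

/-!
Glauberman's theorem on weakly closed elements, group form (helper25): if `x ∈ O_p(G)` is
centralized by `N_G(J(P))` and `p` is odd or `S₄` is not involved in `G`, then `x ∈ Z(G)`.
-/

namespace Cfsg.Agent.Lib.H25.Glau

open Cfsg Cfsg.Agent.Lib.H15 Cfsg.Agent.Lib.H5 Cfsg.Agent.Lib.H4.ZJ Cfsg.Agent.Lib.H26.Gen
  Cfsg.Agent.Lib.H26.Nil

universe u

/-- In a finite commutative `p`-group, a set all of whose elements lie in `x₀ ℧¹(⟨S⟩)` generates a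
subgroup of `⟨x₀⟩`. -/
theorem closure_le_zpowers {V : Type*} [CommGroup V] [Finite V] {p : ℕ} [Fact p.Prime]
    (hV : IsPGroup p V) (x₀ : V) (S : Set V)
    (hS : ∀ y ∈ S, ∃ w ∈ Subgroup.closure S, y = x₀ * w ^ p) :
    Subgroup.closure S ≤ Subgroup.zpowers x₀ := by
  have step1 : ∀ m ∈ Subgroup.closure S, ∃ i : ℤ, ∃ m' ∈ Subgroup.closure S,
      m = x₀ ^ i * m' ^ p := by
    intro m hm
    induction hm using Subgroup.closure_induction with
    | mem y hy =>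
      obtain ⟨w, hw, rfl⟩ := hS y hy
      exact ⟨1, w, hw, by rw [zpow_one]⟩
    | one => exact ⟨0, 1, Subgroup.one_mem _, by simp⟩
    | mul a b _ _ iha ihb =>
      obtain ⟨i, m₁, hm₁, rfl⟩ := iha
      obtain ⟨j, m₂, hm₂, rfl⟩ := ihb
      refine ⟨i + j, m₁ * m₂, Subgroup.mul_mem _ hm₁ hm₂, ?_⟩
      rw [zpow_add, mul_pow]
      exact mul_mul_mul_comm _ _ _ _
    | inv a _ iha =>
      obtain ⟨i, m₁, hm₁, rfl⟩ := iha
      refine ⟨-i, m₁⁻¹, Subgroup.inv_mem _ hm₁, ?_⟩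
      rw [mul_inv, zpow_neg, inv_pow]
  have step2 : ∀ k : ℕ, ∀ m ∈ Subgroup.closure S, ∃ i : ℤ, ∃ m' ∈ Subgroup.closure S,
      m = x₀ ^ i * m' ^ (p ^ k) := by
    intro k
    induction k with
    | zero =>
      intro m hm
      exact ⟨0, m, hm, by simp⟩
    | succ k ih =>
      intro m hm
      obtain ⟨i, m₁, hm₁, rfl⟩ := ih m hm
      obtain ⟨j, m₂, hm₂, rfl⟩ := step1 m₁ hm₁
      refine ⟨i + j * (p ^ k : ℕ), m₂, hm₂, ?_⟩
      rw [mul_pow, zpow_add, zpow_mul, zpow_natCast, ← pow_mul, ← pow_succ', mul_assoc]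
  obtain ⟨k, hk⟩ := hV.exists_card_eq
  intro m hm
  obtain ⟨i, m', -, rfl⟩ := step2 k m hm
  rw [← hk, pow_card_eq_one', mul_one]
  exact Subgroup.zpow_mem _ (Subgroup.mem_zpowers x₀) i

variable {G : Type u} [Group G] [Finite G] {p : ℕ} [Fact p.Prime]

/-- If all conjugates of `x` are powers of `x`, then `x` is central (Frattini argument). -/
theorem central_of_powers {P : Sylow p G} {x : G} (h : Ctx p G P x)
    (hpow : ∀ g : G, ∃ i : ℤ, g * x * g⁻¹ = x ^ i) : ∀ g : G, g * x = x * g := by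
  have hnorm : ∀ g : G, cj g (Cx x) ≤ Cx x := by
    rintro g _ ⟨c, hc, rfl⟩
    obtain ⟨i, hi⟩ := hpow g⁻¹
    rw [inv_inv] at hi
    have hc' : Commute c x := mem_Cx.1 hc
    have h1 : c * (g⁻¹ * x * g) = (g⁻¹ * x * g) * c := by
      rw [hi]
      exact (hc'.zpow_right i).eq
    apply mem_Cx.2
    show g * c * g⁻¹ * x = x * (g * c * g⁻¹)
    calc g * c * g⁻¹ * x = g * (c * (g⁻¹ * x * g)) * g⁻¹ := by group
      _ = g * ((g⁻¹ * x * g) * c) * g⁻¹ := by rw [h1]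
      _ = x * (g * c * g⁻¹) := by group
  have hnorm' : ∀ g : G, cj g (Cx x) = Cx x := fun g => cj_eq_of_cj_le (hnorm g)
  intro g
  apply mem_Cx.1
  have h1 : IsSylowIn p (cj g (P : Subgroup G)) (Cx x) := by
    have := h.isSylowIn.conj g
    change IsSylowIn p (cj g (P : Subgroup G)) (cj g (Cx x)) at this
    rwa [hnorm' g] at this
  obtain ⟨z, hz, hzP⟩ := h.isSylowIn.exists_conj h1
  change cj g (P : Subgroup G) = cj z (P : Subgroup G) at hzP
  have h2 : z⁻¹ * g ∈ Subgroup.normalizer ((P : Subgroup G) : Set G) := by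
    rw [mem_normalizer_iff_cj_eq, ← cj_cj, hzP, cj_inv_cj]
  have h3 := (Cx x).mul_mem hz (h.normalizer_P_le h2)
  simpa using h3

end Cfsg.Agent.Lib.H25.Glau
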