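import Mathlib
import Cfsg.Agent.Lib.H25.GlauGroupE

set_option autoImplicit false

/-!
Glauberman's theorem on weakly closed elements, group form (helper25): the final step, through
the trace lemma.
-/

namespace Cfsg.Agent.Lib.H25.Glau

open Cfsg Cfsg.Agent.Lib.H15 Cfsg.Agent.Lib.H5 Cfsg.Agent.Lib.H4.ZJ Cfsg.Agent.Lib.H26.Gen
  Cfsg.Agent.Lib.H26.Nil

universe u

variable {G : Type u} [Group G] [Finite G] {p : ℕ} [Fact p.Prime]

/-- `Z(O_p(G))` is a commutative group -/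
@[reducible] def zqCommGroup (p : ℕ) (G : Type u) [Group G] [Finite G] [Fact p.Prime] :
    CommGroup ↥(ZQ p G) :=
  { (inferInstance : Group ↥(ZQ p G)) with
    mul_comm := fun a b => Subtype.ext (ZQ_comm a.2 b.2) }

theorem finish {P : Sylow p G} {x : G} (h : Ctx p G P x) {A : Subgroup G}
    (hA : A ∈ maxSet (abClass G) (P : Subgroup G)) (hAQ : ¬ A ≤ pCore p G)
    (hAN : ZQ p G ≤ Subgroup.normalizer (A : Set G)) : ∀ g : G, g * x = x * g := by
  classical
  apply central_of_powers h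
  have hxZ := h.x_mem_ZQ
  have hAab : ∀ a ∈ A, ∀ b ∈ A, a * b = b * a := hA.2.1
  have hAp : IsPGroup p ↥A := P.2.to_le hA.1
  have hPC := h.P_le
  letI : Fintype ↥A := Fintype.ofFinite _
  letI : Fintype G := Fintype.ofFinite _
  letI instC : CommGroup ↥(ZQ p G) := zqCommGroup p G
  -- the action
  obtain ⟨ρ, hρ⟩ : ∃ ρ : ↥A →* MulAut ↥(ZQ p G), ∀ (a : ↥A) (v : ↥(ZQ p G)),
      ((ρ a v : ↥(ZQ p G)) : G) = a * v * (a : G)⁻¹ :=
    ⟨(MulAut.conjNormal (H := ZQ p G)).comp A.subtype, fun a v => rfl⟩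
  have hq : Quad ρ := by
    intro a b v
    apply Subtype.ext
    rw [hρ]
    show (b : G) * ((v : G)⁻¹ * ((ρ a v : ↥(ZQ p G)) : G)) * (b : G)⁻¹ =
      (v : G)⁻¹ * ((ρ a v : ↥(ZQ p G)) : G)
    rw [hρ]
    have h1 : (v : G)⁻¹ ∈ Subgroup.normalizer (A : Set G) := inv_mem (hAN v.2)
    have h2 := (Subgroup.mem_normalizer_iff.1 h1 a).1 a.2
    rw [inv_inv] at h2
    have h3 : (v : G)⁻¹ * ((a : G) * v * (a : G)⁻¹) = ((v : G)⁻¹ * a * v) * (a : G)⁻¹ := by group
    have h4 : (v : G)⁻¹ * ((a : G) * v * (a : G)⁻¹) ∈ A := by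
      rw [h3]; exact mul_mem h2 (inv_mem a.2)
    exact conj_eq_of_comm (hAab b b.2 _ h4)
  -- the set of conjugates
  obtain ⟨Ω, hΩ⟩ : ∃ Ω : Finset ↥(ZQ p G), ∀ y : ↥(ZQ p G), y ∈ Ω ↔ ∃ g : G, (y : G) = g * x * g⁻¹ := by
    refine ⟨Finset.univ.image (fun g : G => (⟨g * x * g⁻¹, ZQ_conj g hxZ⟩ : ↥(ZQ p G))), ?_⟩
    intro y
    rw [Finset.mem_image]
    constructor
    · rintro ⟨g, -, rfl⟩
      exact ⟨g, rfl⟩
    · rintro ⟨g, hg⟩
      exact ⟨g, Finset.mem_univ _, Subtype.ext hg.symm⟩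
  obtain ⟨x₀, hx₀def⟩ : ∃ x₀ : ↥(ZQ p G), (x₀ : G) = x := ⟨⟨x, hxZ⟩, rfl⟩
  have hx₀Ω : x₀ ∈ Ω := (hΩ x₀).2 ⟨1, by rw [hx₀def]; group⟩
  have hstabG : ∀ (g : G) (y : ↥(ZQ p G)), y ∈ Ω → MulAut.conjNormal g y ∈ Ω := by
    intro g y hy
    obtain ⟨s, hs⟩ := (hΩ y).1 hy
    refine (hΩ _).2 ⟨g * s, ?_⟩
    rw [MulAut.conjNormal_apply, hs]
    group
  have hstab : ∀ a, ∀ y ∈ Ω, ρ a y ∈ Ω := by
    intro a y hy
    have h1 := hstabG a y hy
    have h2 : ρ a y = MulAut.conjNormal (a : G) y := by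
      apply Subtype.ext
      rw [hρ, MulAut.conjNormal_apply]
    rw [h2]; exact h1
  have hfix : ∀ a, ρ a x₀ = x₀ := by
    intro a
    apply Subtype.ext
    rw [hρ, hx₀def]
    exact conj_eq_of_comm (mem_Cx.1 (hPC (hA.1 a.2)))
  have huniq : ∀ y ∈ Ω, (∀ a, ρ a y = y) → y = x₀ := by
    intro y hy hfy
    obtain ⟨t, ht⟩ := (hΩ y).1 hy
    apply Subtype.ext
    rw [hx₀def, ht]
    apply unique_fixed h hA hAQ t
    intro a ha
    have h1 := congrArg Subtype.val (hfy ⟨a, ha⟩)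
    rw [hρ, ht] at h1
    exact comm_of_conj_eq h1
  have h2 : p ≠ 2 ∨ ∀ y ∈ Ω, (orb ρ y).card ≠ 2 := by
    by_cases hp2 : p = 2
    · right
      intro y hy hc
      obtain ⟨t, ht⟩ := (hΩ y).1 hy
      have hcr := card_orb ρ hq y
      obtain ⟨κ, hκ⟩ : ∃ κ : ↥A →* ↥(ZQ p G), κ = cmap ρ hq y := ⟨_, rfl⟩
      rw [← hκ] at hcr
      have hidx : κ.ker.index = 2 := by rw [Subgroup.index_ker, ← hcr, hc]
      have memB : ∀ a (ha : a ∈ A), a ∈ κ.ker.map A.subtype ↔ (⟨a, ha⟩ : ↥A) ∈ κ.ker := by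
        intro a ha
        constructor
        · rintro ⟨a', ha', rfl⟩
          exact ha'
        · intro h'
          exact ⟨⟨a, ha⟩, h', rfl⟩
      have hker : ∀ a : ↥A, a ∈ κ.ker ↔ (a : G) * (t * x * t⁻¹) = (t * x * t⁻¹) * a := by
        intro a
        rw [MonoidHom.mem_ker, hκ, cmap_apply]
        constructor
        · intro h1
          have h2 := congrArg Subtype.val (eq_of_inv_mul_eq_one h1)
          rw [hρ, ht] at h2
          exact comm_of_conj_eq h2.symm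
        · intro h1
          have h2 : ρ a y = y := by
            apply Subtype.ext
            rw [hρ, ht]
            exact conj_eq_of_comm h1
          rw [h2, inv_mul_cancel]
      apply no_orbit_two h hp2 hA hAQ hAN t (B := κ.ker.map A.subtype)
        (Subgroup.map_subtype_le _)
      · have h1 := Subgroup.card_mul_index κ.ker
        rw [hidx] at h1
        rw [Subgroup.card_map_of_injective A.subtype_injective, ← h1, mul_comm]
      · intro a ha
        rw [memB a ha, hker]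
      · intro a₁ ha₁ a₂ ha₂ h1 h2
        rw [memB a₁ ha₁] at h1
        rw [memB a₂ ha₂] at h2
        rw [memB _ (mul_mem (inv_mem ha₁) ha₂)]
        have := Subgroup.mul_mem_iff_of_index_two hidx (a := (⟨a₁, ha₁⟩ : ↥A)⁻¹) (b := ⟨a₂, ha₂⟩)
        apply this.2
        constructor
        · intro h'
          exact absurd (by simpa using κ.ker.inv_mem h') h1
        · intro h'
          exact absurd h' h2
    · exact Or.inl hp2
  obtain ⟨w, hw, hprod⟩ := trace_lemma ρ hAp hq Ω.card Ω rfl hstab x₀ hx₀Ω hfix huniq h2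
  -- invariance of the product
  have hinv : ∀ g : G, MulAut.conjNormal g (∏ y ∈ Ω, y) = ∏ y ∈ Ω, y := by
    intro g
    rw [map_prod]
    have himg : Ω.image (MulAut.conjNormal g : MulAut ↥(ZQ p G)) = Ω := by
      apply Finset.eq_of_subset_of_card_le
      · intro z hz
        obtain ⟨y, hy, rfl⟩ := Finset.mem_image.1 hz
        exact hstabG g y hy
      · rw [Finset.card_image_of_injective _ (MulAut.conjNormal g : MulAut ↥(ZQ p G)).injective]
    conv_rhs => rw [← himg]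
    rw [Finset.prod_image]
    intro a _ b _ hab
    exact (MulAut.conjNormal g : MulAut ↥(ZQ p G)).injective hab
  have hclos : ∀ (g : G) (m : ↥(ZQ p G)), m ∈ Subgroup.closure (Ω : Set ↥(ZQ p G)) →
      MulAut.conjNormal g m ∈ Subgroup.closure (Ω : Set ↥(ZQ p G)) := by
    intro g m hm
    have h1 : (Subgroup.closure (Ω : Set ↥(ZQ p G))).map
        (MulAut.conjNormal g : MulAut ↥(ZQ p G)).toMonoidHom ≤
        Subgroup.closure (Ω : Set ↥(ZQ p G)) := by
      rw [MonoidHom.map_closure, Subgroup.closure_le]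
      rintro _ ⟨y, hy, rfl⟩
      exact Subgroup.subset_closure (hstabG g y hy)
    exact h1 ⟨m, hm, rfl⟩
  have hS : ∀ y ∈ (Ω : Set ↥(ZQ p G)), ∃ w' ∈ Subgroup.closure (Ω : Set ↥(ZQ p G)),
      y = x₀ * w' ^ p := by
    intro y hy
    obtain ⟨g, hg⟩ := (hΩ y).1 hy
    have hy' : y = MulAut.conjNormal g x₀ := by
      apply Subtype.ext
      rw [MulAut.conjNormal_apply, hx₀def, hg]
    refine ⟨w * (MulAut.conjNormal g w)⁻¹, mul_mem hw (inv_mem (hclos g w hw)), ?_⟩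
    have h1 := hinv g
    rw [hprod, map_mul, map_pow] at h1
    rw [hy', mul_pow, inv_pow, ← mul_assoc, ← h1]
    simp
  have hVp : IsPGroup p ↥(ZQ p G) := (Cfsg.Agent.Lib.H1.pCore_isPGroup p G).to_le ZQ_le
  have hle := closure_le_zpowers hVp x₀ (Ω : Set ↥(ZQ p G)) hS
  intro g
  have h1 : (⟨g * x * g⁻¹, ZQ_conj g hxZ⟩ : ↥(ZQ p G)) ∈ Ω := (hΩ _).2 ⟨g, rfl⟩
  obtain ⟨i, hi⟩ := Subgroup.mem_zpowers_iff.1 (hle (Subgroup.subset_closure h1))
  refine ⟨i, ?_⟩
  have h2 := congrArg Subtype.val hi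
  rw [Subgroup.coe_zpow, hx₀def] at h2
  exact h2.symm

end Cfsg.Agent.Lib.H25.Glau
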