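import Mathlib
import Cfsg.Agent.Lib.H25.GlauGroupF

set_option autoImplicit false

/-!
**Glauberman's theorem on weakly closed elements, local group form** (helper25): let `P` be a Sylow
`p`-subgroup of the finite group `G` and `x ∈ O_p(G)` an element centralized by `N_G(J(P))`.  If
`p` is odd or `S₄` is not involved in `G`, then `x ∈ Z(G)`.
-/

namespace Cfsg.Agent.Lib.H25.Glau

open Cfsg Cfsg.Agent.Lib.H4.ZJ

universe u

variable {p : ℕ} [Fact p.Prime]

theorem gstmt_all : ∀ n : ℕ, GStmt.{u} p n := by
  intro n
  induction n using Nat.strong_induction_on with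
  | _ n ih =>
    intro G _ _ hcard hside P x hx hN
    have hctx : Ctx p G P x := ⟨hcard ▸ ih, hside, hx, hN⟩
    by_cases hn : (thompsonSubgroupAOf (P : Subgroup G)).Normal
    · intro g
      apply hN
      rw [Subgroup.normalizer_eq_top_iff.2 hn]
      trivial
    · obtain ⟨A, hA, hAQ, hAN⟩ := exists_quad_A P hn
      exact finish hctx hA hAQ hAN

/-- **Glauberman**: an element of `O_p(G)` centralized by `N_G(J(P))` is central, if `p` is odd or
`S₄` is not involved in `G`. -/
theorem glauberman_center (G : Type u) [Group G] [Finite G]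
    (hside : p ≠ 2 ∨ ¬ Cfsg.Involves (Equiv.Perm (Fin 4)) G) (P : Sylow p G) (x : G)
    (hx : x ∈ pCore p G)
    (hN : ∀ m ∈ Subgroup.normalizer ((thompsonSubgroupAOf (P : Subgroup G) : Subgroup G) : Set G),
      m * x = x * m) : x ∈ Subgroup.center G := by
  rw [Subgroup.mem_center_iff]
  exact gstmt_all _ G rfl hside P x hx hN

end Cfsg.Agent.Lib.H25.Glau
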