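import Mathlib
import Cfsg.Agent.Lib.H26.GenQuad
import Cfsg.Agent.Lib.H4.ZJInst

set_option autoImplicit false

/-!
The centre of a finite group lies in its Thompson subgroup (abelian version) (helper25).
-/

namespace Cfsg.Agent.Lib.H25.Glau

open Cfsg Cfsg.Agent.Lib.H4.ZJ Cfsg.Agent.Lib.H26.Gen

universe u

theorem center_le_thompsonSubgroupA (P : Type*) [Group P] [Finite P] :
    Subgroup.center P ≤ thompsonSubgroupA P := by
  obtain ⟨A, hA⟩ := maxSet_nonempty (𝒞 := abClass P) (⊤ : Subgroup P)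
  have hA' : A ∈ maxAbelianSubgroups P := by rw [← maxSet_abClass_top]; exact hA
  have hpred : (abClass P).pred (A ⊔ Subgroup.center P) := by
    apply (abClass P).sup A (Subgroup.center P) hA.2.1
    · intro x hx y _
      exact (Subgroup.mem_center_iff.1 hx y).symm
    · intro x _ y hy
      exact Subgroup.mem_center_iff.1 hy x
  have hcard := hA.2.2 _ le_top hpred
  have heq : A = A ⊔ Subgroup.center P := Subgroup.eq_of_le_of_card_ge le_sup_left hcard
  have h1 : Subgroup.center P ≤ A := by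
    rw [heq]; exact le_sup_right
  exact h1.trans (le_sSup hA')

/-- `Z(Q) ≤ J(Q)` -/
theorem jFun_center_le {p : ℕ} [Fact p.Prime] {G : Type u} [Group G] (Q : Subgroup G)
    (hfin : Finite Q) : Q ⊓ Subgroup.centralizer (Q : Set G) ≤ (jFun p).W Q := by
  intro x hx
  have hxQ : x ∈ Q := hx.1
  have hxc : x ∈ Subgroup.centralizer (Q : Set G) := hx.2
  rw [Subgroup.mem_centralizer_iff] at hxc
  have h1 : (⟨x, hxQ⟩ : ↥Q) ∈ Subgroup.center ↥Q := by
    rw [Subgroup.mem_center_iff]
    intro g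
    exact Subtype.ext (hxc g g.2)
  exact ⟨⟨x, hxQ⟩, center_le_thompsonSubgroupA ↥Q h1, rfl⟩

end Cfsg.Agent.Lib.H25.Glau
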