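import Mathlib
import Cfsg.Agent.Lib.H26.CtlAdm
import Cfsg.Agent.Lib.H26.QuadCenter
import Cfsg.Agent.Lib.H25.GlauFusion
import Cfsg.Agent.Lib.H25.GlauGroup
import Cfsg.Agent.Lib.H25.GlauJCenter

set_option autoImplicit false

/-!
Glauberman's theorem on weakly closed elements for saturated fusion systems, in terms of `FixZ`
(helper25): a central subgroup `Z` of `S` fixed by `Aut_F(J(S))` is fixed by all maps of `F`, if
`p` is odd, or `F` is `S₄`-free, or `Z` consists of `p`-th powers of central elements.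
-/

namespace Cfsg.Agent.Lib.H25.GlauF

open Cfsg Cfsg.FusionSystem Cfsg.Agent.Lib.H25 Cfsg.Agent.Lib.H26 Cfsg.Agent.Lib.H26.Nil
  Cfsg.Agent.Lib.H26.Ctl Cfsg.Agent.Lib.H26.Thompson Cfsg.Agent.Lib.H26.Gen

universe u

variable {Ω : Type u} [Group Ω] {S : Subgroup Ω} {p : ℕ} [Fact p.Prime]

theorem fixZ_of_fr [Finite S] (hS : IsPGroup p S) (F : FusionSystem S) (hF : F.IsSaturated p)
    (hfr : Fr p F) (Z : Subgroup Ω) (hZ : Z ≤ S ⊓ Subgroup.centralizer (S : Set Ω))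
    (hfix : ∀ f : Ω → Ω, IsIso F (thompsonSubgroupAOf S) (thompsonSubgroupAOf S) f →
      ∀ x ∈ Z, f x = x) : FixZ F Z := by
  have hWZ' : ∀ {G : Type u} [Group G] (Q : Subgroup G), Finite Q → IsPGroup p Q →
      Q ⊓ Subgroup.centralizer (Q : Set G) ≤ (jFun p).W Q :=
    fun Q hfin _ => Cfsg.Agent.Lib.H25.Glau.jFun_center_le Q hfin
  have hC' : ∀ (L : Type u) [Group L] [Finite L] (P : Sylow p L) (x : L),
      (p ≠ 2 ∨ ¬ Cfsg.Involves (Equiv.Perm (Fin 4)) L) → x ∈ Cfsg.pCore p L →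
      x ∈ Subgroup.normalizer (((jFun p).W (P : Subgroup L) : Subgroup L) : Set L) →
      (∀ m ∈ Subgroup.normalizer (((jFun p).W (P : Subgroup L) : Subgroup L) : Set L),
        m * x = x * m) → x ∈ Subgroup.center L := by
    intro L _ _ P x hside hx _ hcomm
    exact Cfsg.Agent.Lib.H25.Glau.glauberman_center L hside P x hx hcomm
  exact main_center_fr (jFun p) hWZ' hC' (Nat.card S) rfl hS F hF hfr Z hZ hfix

theorem fixZ_of_pow [Finite S] (hS : IsPGroup p S) (F : FusionSystem S) (hF : F.IsSaturated p)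
    (Z : Subgroup Ω)
    (hZadm : ∀ z ∈ Z, ∃ y : Ω, y ∈ S ⊓ Subgroup.centralizer (S : Set Ω) ∧ y ^ p = z)
    (hfix : ∀ f : Ω → Ω, IsIso F (thompsonSubgroupAOf S) (thompsonSubgroupAOf S) f →
      ∀ x ∈ Z, f x = x) : FixZ F Z := by
  have hWZ' : ∀ {G : Type u} [Group G] (Q : Subgroup G), Finite Q → IsPGroup p Q →
      Q ⊓ Subgroup.centralizer (Q : Set G) ≤ (jFun p).W Q :=
    fun Q hfin _ => Cfsg.Agent.Lib.H25.Glau.jFun_center_le Q hfin
  let Adm : ∀ {G : Type u} [Group G], Subgroup G → G → Prop :=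
    fun {G} _ T x => ∃ y : G, y ∈ T ⊓ Subgroup.centralizer (T : Set G) ∧ y ^ p = x
  have hA1 : ∀ {G : Type u} [Group G] (T : Subgroup G) (z : G), Adm T z →
      z ∈ T ⊓ Subgroup.centralizer (T : Set G) := by
    rintro G _ T z ⟨y, hy, rfl⟩
    exact Subgroup.pow_mem _ hy p
  have hA2 : ∀ {G : Type u} [Group G] (S T : Subgroup G) (z : G), Adm S z → T ≤ S →
      S ⊓ Subgroup.centralizer (S : Set G) ≤ T → Adm T z := by
    rintro G _ S T z ⟨y, hy, rfl⟩ hTS hZT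
    refine ⟨y, ⟨hZT hy, ?_⟩, rfl⟩
    have hyc : y ∈ Subgroup.centralizer (S : Set G) := hy.2
    exact Subgroup.centralizer_le (show (T : Set G) ⊆ (S : Set G) from hTS) hyc
  have hA3 : ∀ {G G' : Type u} [Group G] [Group G'] (S : Subgroup G) (f : S →* G') (z : G)
      (hz : z ∈ S), Adm S z → Adm f.range (f ⟨z, hz⟩) := by
    rintro G G' _ _ S f z hz ⟨y, hy, rfl⟩
    have hyS : y ∈ S := hy.1
    have hyc : y ∈ Subgroup.centralizer (S : Set G) := hy.2
    rw [Subgroup.mem_centralizer_iff] at hyc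
    refine ⟨f ⟨y, hyS⟩, ⟨⟨⟨y, hyS⟩, rfl⟩, ?_⟩, ?_⟩
    · show f ⟨y, hyS⟩ ∈ Subgroup.centralizer ((f.range : Subgroup G') : Set G')
      rw [Subgroup.mem_centralizer_iff]
      rintro _ ⟨s, rfl⟩
      rw [← map_mul, ← map_mul]
      congr 1
      exact Subtype.ext (hyc s s.2)
    · rw [← map_pow]
      rfl
  have hC' : ∀ (L : Type u) [Group L] [Finite L] (P : Sylow p L),
      Subgroup.centralizer ((Cfsg.pCore p L : Subgroup L) : Set L) ≤ Cfsg.pCore p L → ∀ x : L,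
      Adm (P : Subgroup L) x → x ∈ Cfsg.pCore p L →
      (∀ m ∈ Subgroup.normalizer (((jFun p).W (P : Subgroup L) : Subgroup L) : Set L),
        m * x = x * m) → x ∈ Subgroup.center L := by
    rintro L _ _ P hchar x ⟨y, hy, rfl⟩ - hcomm
    exact Cfsg.Agent.Lib.H26.CtlA.quad_center (jFun p)
      (fun G _ _ P hn => Cfsg.Agent.Lib.H26.Gen.quad_J G P hn) (Nat.card L) L rfl P hchar y hy
      hcomm
  exact Cfsg.Agent.Lib.H26.CtlA.main_adm (jFun p) Adm hWZ' hA1 hA2 hA3 hC' (Nat.card S) rfl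
    hS F hF Z hZadm hfix

end Cfsg.Agent.Lib.H25.GlauF
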