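import Mathlib

set_option autoImplicit false

/-!
The relative trace for a subgroup of index prime to `p` acting on a finite commutative `p`-group
(helper25): the fixed points of the whole group form a direct factor of the fixed points of the
subgroup.
-/

open Classical

namespace Cfsg.Agent.Lib.H25.RelTrace

variable {A : Type*} [Group A] [Finite A] {V : Type*} [CommGroup V] [Finite V] {p : ℕ}
  [Fact p.Prime]

/-- the fixed points of a subgroup -/
def fixedSub (ρ : A →* MulAut V) (H : Subgroup A) : Subgroup V where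
  carrier := {v | ∀ h ∈ H, ρ h v = v}
  one_mem' := fun h _ => map_one _
  mul_mem' := by
    intro a b ha hb h hh
    rw [map_mul, ha h hh, hb h hh]
  inv_mem' := by
    intro a ha h hh
    rw [map_inv, ha h hh]

theorem mem_fixedSub (ρ : A →* MulAut V) (H : Subgroup A) (v : V) :
    v ∈ fixedSub ρ H ↔ ∀ h ∈ H, ρ h v = v := Iff.rfl

/-- the relative trace -/
noncomputable def tr (ρ : A →* MulAut V) (H : Subgroup A) : V →* V :=
  letI : Fintype (A ⧸ H) := Fintype.ofFinite _
  ∏ q : A ⧸ H, ((ρ q.out : MulAut V).toMonoidHom : V →* V)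

theorem tr_apply (ρ : A →* MulAut V) (H : Subgroup A) [Fintype (A ⧸ H)] (v : V) :
    tr ρ H v = ∏ q : A ⧸ H, ρ q.out v := by
  unfold tr
  rw [MonoidHom.finset_prod_apply]
  apply Finset.prod_congr
  · ext q; simp
  · intro q _; rfl

theorem tr_mem_fixed (ρ : A →* MulAut V) (H : Subgroup A) {v : V} (hv : v ∈ fixedSub ρ H) :
    tr ρ H v ∈ fixedSub ρ ⊤ := by
  letI : Fintype (A ⧸ H) := Fintype.ofFinite _
  intro b _
  rw [tr_apply, map_prod]
  have key : ∀ q : A ⧸ H, ρ b (ρ q.out v) = ρ ((b • q).out) v := by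
    intro q
    have h1 : ((b • q).out)⁻¹ * (b * q.out) ∈ H := by
      rw [← QuotientGroup.eq, QuotientGroup.out_eq']
      conv_lhs => rw [← QuotientGroup.out_eq' q]
      rfl
    have h2 : b * q.out = (b • q).out * (((b • q).out)⁻¹ * (b * q.out)) := by group
    have h3 : ρ b (ρ q.out v) = ρ (b * q.out) v := by rw [map_mul]; rfl
    rw [h3, h2, map_mul]
    show ρ ((b • q).out) (ρ (((b • q).out)⁻¹ * (b * q.out)) v) = _
    rw [hv _ h1]
  simp_rw [key]
  exact Equiv.prod_comp (MulAction.toPerm b : Equiv.Perm (A ⧸ H)) (fun q => ρ q.out v)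

theorem tr_of_fixed (ρ : A →* MulAut V) (H : Subgroup A) {v : V} (hv : v ∈ fixedSub ρ ⊤) :
    tr ρ H v = v ^ H.index := by
  letI : Fintype (A ⧸ H) := Fintype.ofFinite _
  rw [tr_apply]
  have : ∀ q : A ⧸ H, ρ q.out v = v := fun q => hv _ (Subgroup.mem_top _)
  simp_rw [this]
  rw [Finset.prod_const, Finset.card_univ, Subgroup.index, Nat.card_eq_fintype_card]

/-- The fixed points of `A` form a direct factor of the fixed points of a subgroup `H` of index
prime to `p`. -/
theorem exists_complement (ρ : A →* MulAut V) (H : Subgroup A) (hV : IsPGroup p V)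
    (hidx : ¬ p ∣ H.index) :
    ∃ K : Subgroup V, K ≤ fixedSub ρ H ∧ fixedSub ρ ⊤ ⊓ K = ⊥ ∧
      fixedSub ρ ⊤ ⊔ K = fixedSub ρ H := by
  have hp : p.Prime := Fact.out
  have hle : fixedSub ρ ⊤ ≤ fixedSub ρ H := fun v hv h _ => hv h (Subgroup.mem_top _)
  obtain ⟨k, hk⟩ := (hV.to_subgroup (fixedSub ρ ⊤)).exists_card_eq
  have hcop : (Nat.card ↥(fixedSub ρ ⊤)).Coprime H.index := by
    rw [hk]
    exact Nat.Coprime.pow_left k ((Nat.Prime.coprime_iff_not_dvd hp).2 hidx)
  refine ⟨fixedSub ρ H ⊓ (tr ρ H).ker, inf_le_left, ?_, ?_⟩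
  · rw [eq_bot_iff]
    rintro v ⟨hvA, -, hvker⟩
    rw [Subgroup.mem_bot]
    have h1 : v ^ H.index = 1 := by
      rw [← tr_of_fixed ρ H hvA]
      exact hvker
    have h2 : (⟨v, hvA⟩ : ↥(fixedSub ρ ⊤)) ^ H.index = 1 := Subtype.ext (by simpa using h1)
    have h3 : (powCoprime hcop) ⟨v, hvA⟩ = (powCoprime hcop) 1 := by
      simp only [powCoprime_apply]
      rw [h2, one_pow]
    have h4 := (powCoprime hcop).injective h3
    exact congrArg Subtype.val h4
  · apply le_antisymm (sup_le hle inf_le_left)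
    intro v hv
    have hu := tr_mem_fixed ρ H hv
    obtain ⟨w, hw⟩ := (powCoprime hcop).surjective ⟨tr ρ H v, hu⟩
    have hw' : (w : V) ^ H.index = tr ρ H v := by
      have := congrArg Subtype.val hw
      simpa using this
    have h1 : tr ρ H (w : V) = tr ρ H v := by
      rw [tr_of_fixed ρ H w.2, hw']
    have h2 : (w : V)⁻¹ * v ∈ fixedSub ρ H ⊓ (tr ρ H).ker := by
      have ha : (w : V)⁻¹ * v ∈ fixedSub ρ H :=
        Subgroup.mul_mem _ (Subgroup.inv_mem _ (hle w.2)) hv
      have hb : (w : V)⁻¹ * v ∈ (tr ρ H).ker := by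
        rw [MonoidHom.mem_ker, map_mul, map_inv, h1, inv_mul_cancel]
      exact ⟨ha, hb⟩
    have h3 : v = (w : V) * ((w : V)⁻¹ * v) := by group
    rw [h3]
    exact Subgroup.mul_mem_sup w.2 h2

end Cfsg.Agent.Lib.H25.RelTrace
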