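import Mathlib
import Cfsg.Agent.Lib.H26.CtlAdm
import Cfsg.Agent.Lib.H26.ModelFusion
import Cfsg.Agent.Lib.H25.GlauMain
import Cfsg.Agent.Lib.H25.RelTrace
import Cfsg.Agent.Lib.H25.SatEquiv
import Cfsg.Agent.S5144

set_option autoImplicit false

/-!
For `p` odd (or `F` being `S₄`-free), the centre of a saturated fusion system `F` over `S` is a
direct factor of `Z(S)` (helper25): by Glauberman's theorem `Z(F)` is the set of fixed points of
`Aut_F(J(S))` on `Z(S)`, and `Z(S)` is the set of fixed points of the Sylow subgroup `Aut_S(J(S))`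
on `Z(J(S))`, so that the relative trace applies.
-/

namespace Cfsg.Agent.Lib.H25.CenterFactor

open Cfsg

universe u

open scoped IsMulCommutative in
theorem center_factor {Ω : Type u} [Group Ω] {S : Subgroup Ω} [Finite S] (p : ℕ) [Fact p.Prime]
    (hS : IsPGroup p S) (F : Cfsg.FusionSystem S) (hF : F.IsSaturated p)
    (hfr : Cfsg.Agent.Lib.H26.Thompson.Fr p F) :
    ∃ K : Subgroup Ω, K ≤ (S ⊓ Subgroup.centralizer (S : Set Ω)) ∧ F.center ⊓ K = ⊥ ∧
      F.center ⊔ K = (S ⊓ Subgroup.centralizer (S : Set Ω)) := by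
  classical
  obtain ⟨Q, hQdef⟩ : ∃ Q : Subgroup Ω, Q = Cfsg.thompsonSubgroupAOf S := ⟨_, rfl⟩
  have hQS : Q ≤ S := by
    rw [hQdef]; exact (Cfsg.Agent.Lib.H26.Gen.jFun p).le S
  have hQn : Cfsg.FusionSystem.normalizerIn S Q = S := by
    rw [hQdef]; exact (Cfsg.Agent.Lib.H26.Gen.jFun p).normalizerIn_self S hS
  have hZ : (S ⊓ Subgroup.centralizer (S : Set Ω)) ≤ Q := by
    rw [hQdef]; exact Cfsg.Agent.Lib.H25.Glau.jFun_center_le (p := p) S inferInstance
  have hfinQ : Finite Q := Cfsg.Agent.Lib.H25.finite_of_le S hQS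
  have hfn : F.IsFullyNormalized Q :=
    Cfsg.Agent.Lib.H26.ZJ.isFullyNormalized_of_normalizerIn_eq hQS hQn
  obtain ⟨-, R, hR⟩ := (Cfsg.Agent.Lib.H25.fullyNormalized_props hS hF hfn).2
  have hfinA : Finite ↥(F.autGroup Q) := inferInstance
  have hidx : ¬ p ∣ (R : Subgroup ↥(F.autGroup Q)).index := R.not_dvd_index
  have hMp : IsPGroup p ↥(Subgroup.center ↥Q) := (hS.to_le hQS).to_subgroup _
  obtain ⟨ρ, hρ⟩ : ∃ ρ : ↥(F.autGroup Q) →* MulAut ↥(Subgroup.center ↥Q),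
      ρ = (MulAut.characteristic (Subgroup.center ↥Q)).comp (F.autGroup Q).subtype := ⟨_, rfl⟩
  have hρapp : ∀ (α : ↥(F.autGroup Q)) (z : ↥(Subgroup.center ↥Q)),
      (((ρ α z : ↥(Subgroup.center ↥Q)) : ↥Q) : Ω) = (((α : MulAut ↥Q) (z : ↥Q) : ↥Q) : Ω) := by
    intro α z
    rw [hρ]
    rfl
  obtain ⟨K', hK'le, hK'inf, hK'sup⟩ :=
    Cfsg.Agent.Lib.H25.RelTrace.exists_complement (p := p) ρ
      (R : Subgroup ↥(F.autGroup Q)) hMp hidx
  obtain ⟨ι, hι⟩ : ∃ ι : ↥(Subgroup.center ↥Q) →* Ω,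
      ι = Q.subtype.comp (Subgroup.center ↥Q).subtype := ⟨_, rfl⟩
  have hιapp : ∀ z : ↥(Subgroup.center ↥Q), ι z = ((z : ↥Q) : Ω) := by
    intro z; rw [hι]; rfl
  have hιinj : Function.Injective ι := by
    rw [hι]
    exact Q.subtype_injective.comp (Subgroup.center ↥Q).subtype_injective
  -- elements of `Z(S)` as elements of `Z(Q)`
  have hZSmem : ∀ z ∈ S ⊓ Subgroup.centralizer (S : Set Ω),
      ∃ m : ↥(Subgroup.center ↥Q), ι m = z := by
    intro z hz
    have hzQ : z ∈ Q := hZ hz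
    have hzc : (⟨z, hzQ⟩ : ↥Q) ∈ Subgroup.center ↥Q := by
      rw [Subgroup.mem_center_iff]
      intro g
      apply Subtype.ext
      exact (Subgroup.mem_centralizer_iff.1 hz.2) g (hQS g.2)
    exact ⟨⟨⟨z, hzQ⟩, hzc⟩, by rw [hιapp]⟩
  -- (a) the fixed points of `Aut_S(Q)` are `Z(S)`
  have ha : (Cfsg.Agent.Lib.H25.RelTrace.fixedSub ρ (R : Subgroup ↥(F.autGroup Q))).map ι =
      S ⊓ Subgroup.centralizer (S : Set Ω) := by
    apply le_antisymm
    · rintro _ ⟨m, hm, rfl⟩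
      rw [hιapp]
      refine ⟨hQS (m : ↥Q).2, ?_⟩
      show _ ∈ Subgroup.centralizer (S : Set Ω)
      rw [Subgroup.mem_centralizer_iff]
      intro s hs
      have hsn : s ∈ Subgroup.normalizer (Q : Set Ω) := by
        have : s ∈ Cfsg.FusionSystem.normalizerIn S Q := by rw [hQn]; exact hs
        exact this.2
      have hα := Cfsg.Agent.Lib.H26.Model.conjAut_mem_autGroup F hQS hs hsn
      have hαR : (⟨Cfsg.Agent.Lib.H26.Model.conjAut Q s hsn, hα⟩ : ↥(F.autGroup Q)) ∈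
          (R : Subgroup ↥(F.autGroup Q)) := by
        rw [hR, Subgroup.mem_subgroupOf]
        exact (Cfsg.Agent.Lib.H25.mem_autInducedBy_iff S Q _).2 ⟨s, hs, fun x => rfl⟩
      have h1 := hm _ hαR
      have h2 := congrArg (fun y : ↥(Subgroup.center ↥Q) => ((y : ↥Q) : Ω)) h1
      rw [hρapp] at h2
      have h3 : s * ((m : ↥Q) : Ω) * s⁻¹ = ((m : ↥Q) : Ω) := h2
      calc s * ((m : ↥Q) : Ω) = (s * ((m : ↥Q) : Ω) * s⁻¹) * s := by group
        _ = ((m : ↥Q) : Ω) * s := by rw [h3]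
    · intro z hz
      obtain ⟨m, hm⟩ := hZSmem z hz
      refine ⟨m, ?_, hm⟩
      intro α hα
      rw [hR, Subgroup.mem_subgroupOf] at hα
      obtain ⟨s, hs, hαs⟩ := (Cfsg.Agent.Lib.H25.mem_autInducedBy_iff S Q _).1 hα
      apply Subtype.ext
      apply Subtype.ext
      rw [hρapp, hαs, ← hιapp, hm]
      have := (Subgroup.mem_centralizer_iff.1 hz.2) s hs
      rw [this]
      group
  -- (b) the fixed points of `Aut_F(Q)` are `Z(F)`
  have hc : F.IsCentral F.center := Cfsg.Agent.S5144.result F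
  have hfixc := Cfsg.Agent.Lib.H26.Ctl.fixZ_of_isCentral hc
  have hcZS : F.center ≤ S ⊓ Subgroup.centralizer (S : Set Ω) :=
    Cfsg.Agent.Lib.H26.Ctl.le_center_of_fixZ hc.1 hfixc
  have hb : (Cfsg.Agent.Lib.H25.RelTrace.fixedSub ρ ⊤).map ι = F.center := by
    apply le_antisymm
    · set Z₁ : Subgroup Ω := (Cfsg.Agent.Lib.H25.RelTrace.fixedSub ρ ⊤).map ι with hZ₁
      have hZ₁le : Z₁ ≤ S ⊓ Subgroup.centralizer (S : Set Ω) := by
        rw [← ha]
        apply Subgroup.map_mono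
        intro v hv h _
        exact hv h (Subgroup.mem_top _)
      have hfix : ∀ f : Ω → Ω, Cfsg.Agent.Lib.H25.IsIso F (Cfsg.thompsonSubgroupAOf S)
          (Cfsg.thompsonSubgroupAOf S) f → ∀ x ∈ Z₁, f x = x := by
        rw [← hQdef]
        rintro f hf _ ⟨m, hm, rfl⟩
        obtain ⟨α, hα, hαf⟩ := Cfsg.Agent.Lib.H25.exists_mem_autGroup_of_isIso F hf
        have h1 := hm ⟨α, hα⟩ (Subgroup.mem_top _)
        have h2 := congrArg (fun y : ↥(Subgroup.center ↥Q) => ((y : ↥Q) : Ω)) h1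
        rw [hρapp] at h2
        have h3 : ((α (m : ↥Q) : ↥Q) : Ω) = ((m : ↥Q) : Ω) := h2
        rw [hαf] at h3
        rw [hιapp]
        exact h3
      have hfixF := Cfsg.Agent.Lib.H25.GlauF.fixZ_of_fr hS F hF hfr Z₁ hZ₁le hfix
      have hn := Cfsg.Agent.Lib.H26.Ctl.isNormal_of_fixZ hS hF hZ₁le hfixF
      exact le_sSup (Cfsg.Agent.Lib.H26.Ctl.isCentral_of_isNormal_of_fixZ hn hfixF)
    · intro z hz
      obtain ⟨m, hm⟩ := hZSmem z (hcZS hz)
      refine ⟨m, ?_, hm⟩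
      intro α _
      apply Subtype.ext
      apply Subtype.ext
      rw [hρapp]
      have hzm : ((m : ↥Q) : Ω) = z := by rw [← hιapp, hm]
      have hiso := Cfsg.Agent.Lib.H25.isIso_of_mem_autGroup F hQS α.2
      have h1 := hfixc _ _ _ hiso z (hzm ▸ (m : ↥Q).2) hz
      rw [← hzm, Cfsg.Agent.Lib.H25.ext1_apply] at h1
      exact h1
  refine ⟨K'.map ι, ?_, ?_, ?_⟩
  · rw [← ha]
    exact Subgroup.map_mono hK'le
  · rw [← hb, ← Subgroup.map_inf _ _ ι hιinj, hK'inf, Subgroup.map_bot]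
  · rw [← hb, ← Subgroup.map_sup, hK'sup, ha]

end Cfsg.Agent.Lib.H25.CenterFactor
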