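import Mathlib
import Cfsg.Agent.Lib.H25.SimpleCrit
import Cfsg.Agent.Lib.H25.AutTwoGroup
import Cfsg.Agent.S1255

set_option autoImplicit false

/-!
# Groups with a dihedral Sylow 2-subgroup of order at least 8 and no subgroup of index 2 have a
simple 2-fusion system (helper25)
-/

namespace Cfsg.Agent.Lib.H25.DihSimple

open Cfsg Cfsg.FusionSystem Cfsg.Agent.Lib.H25 Subgroup

theorem dihedral_isPGroup (k : ℕ) : IsPGroup 2 (DihedralGroup (2 ^ k)) := by
  haveI : NeZero (2 ^ k) := ⟨by positivity⟩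
  apply IsPGroup.of_card (n := k + 1)
  rw [DihedralGroup.nat_card, ← pow_succ']

theorem dihedral_aut (k : ℕ) (hk : 2 ≤ k) : IsPGroup 2 (MulAut (DihedralGroup (2 ^ k))) := by
  have hNpos : 0 < 2 ^ k := by positivity
  haveI : NeZero (2 ^ k) := ⟨hNpos.ne'⟩
  have hcard : Nat.card (DihedralGroup (2 ^ k)) = 2 * 2 ^ k := DihedralGroup.nat_card
  have hge : 4 ≤ 2 ^ k := by
    calc 4 = 2 ^ 2 := by norm_num
      _ ≤ 2 ^ k := Nat.pow_le_pow_right (by norm_num) hk
  apply isPGroup_mulAut_of_cyclic_index_two (dihedral_isPGroup k) (DihedralGroup.r 1)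
  · have h1 := Subgroup.card_mul_index (zpowers (DihedralGroup.r (1 : ZMod (2 ^ k))))
    rw [Nat.card_zpowers, DihedralGroup.orderOf_r_one, hcard] at h1
    have : 2 ^ k * (zpowers (DihedralGroup.r (1 : ZMod (2 ^ k)))).index = 2 ^ k * 2 := by
      rw [h1, mul_comm]
    exact Nat.eq_of_mul_eq_mul_left hNpos this
  · intro x hx
    rw [DihedralGroup.orderOf_r_one]
    cases x with
    | r i =>
      exfalso
      apply hx
      rw [mem_zpowers_iff]
      refine ⟨(i.val : ℤ), ?_⟩
      rw [DihedralGroup.r_one_zpow]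
      simp
    | sr i =>
      rw [DihedralGroup.orderOf_sr]
      omega

variable {G : Type*} [Group G] [Finite G]

theorem isSimple_of_dihedral (S : Sylow 2 G) (k : ℕ) (hk : 2 ≤ k)
    (e : (S : Subgroup G) ≃* DihedralGroup (2 ^ k)) (hidx : ∀ H : Subgroup G, H.index ≠ 2) :
    (groupFusionSystem (S : Subgroup G)).IsSimple 2 := by
  haveI : Fact (Nat.Prime 2) := ⟨Nat.prime_two⟩
  haveI : NeZero (2 ^ k) := ⟨by positivity⟩
  have hm : 2 ≤ 2 ^ k := by
    calc 2 = 2 ^ 1 := by norm_num
      _ ≤ 2 ^ k := Nat.pow_le_pow_right (by norm_num) (by omega)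
  obtain ⟨z, hz, hconj, -, -⟩ := Cfsg.Agent.S1255.main S (2 ^ k) hm e
  have hall := hconj hidx
  have hcardS : Nat.card (S : Subgroup G) = 2 * 2 ^ k := by
    rw [Nat.card_congr e.toEquiv, DihedralGroup.nat_card]
  apply SimpleCrit.groupFusionSystem_isSimple S
  · intro h
    rw [h, Subgroup.card_bot] at hcardS
    omega
  · intro T hT
    by_cases hTb : T = ⊥
    · exact Or.inl hTb
    right
    apply le_antisymm hT.1
    -- an involution in `T`
    have hTp : IsPGroup 2 T := S.isPGroup'.to_le hT.1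
    have hTnt : Nontrivial T := (Subgroup.nontrivial_iff_ne_bot T).2 hTb
    obtain ⟨n, hn⟩ := hTp.exists_card_eq
    have hn0 : n ≠ 0 := by
      rintro rfl
      rw [pow_zero] at hn
      have := (Nat.card_eq_one_iff_unique.1 hn).1
      exact not_subsingleton T this
    have h2T : 2 ∣ Nat.card T := by rw [hn]; exact dvd_pow_self 2 hn0
    obtain ⟨t, ht⟩ := exists_prime_orderOf_dvd_card' 2 h2T
    have ht2 : orderOf (t : G) = 2 := by rw [Subgroup.orderOf_coe]; exact ht
    -- every involution of `S` lies in `T`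
    have hinv : ∀ a : G, a ∈ (S : Subgroup G) → orderOf a = 2 → a ∈ T := by
      intro a haS ha
      have h1 : IsConj a z := hall a ha
      have h2 : IsConj (t : G) z := hall _ ht2
      obtain ⟨c, hc⟩ := _root_.isConj_iff.1 (h2.trans h1.symm)
      rw [← hc]
      apply hT.2 _ t.2 c
      rw [hc]
      exact haS
    -- `S` is generated by involutions
    have hsr : ∀ i : ZMod (2 ^ k), ((e.symm (DihedralGroup.sr i) : (S : Subgroup G)) : G) ∈ T := by
      intro i
      apply hinv _ (e.symm (DihedralGroup.sr i)).2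
      rw [Subgroup.orderOf_coe, MulEquiv.orderOf_eq, DihedralGroup.orderOf_sr]
    intro x hx
    have hxe : (⟨x, hx⟩ : (S : Subgroup G)) = e.symm (e ⟨x, hx⟩) := (e.symm_apply_apply _).symm
    rcases hd : e ⟨x, hx⟩ with i | i
    · have : (DihedralGroup.r i : DihedralGroup (2 ^ k)) =
          DihedralGroup.sr 0 * DihedralGroup.sr i := by
        rw [DihedralGroup.sr_mul_sr, sub_zero]
      rw [hd, this, map_mul] at hxe
      have h3 := congrArg (Subtype.val) hxe
      simp only [Subgroup.coe_mul] at h3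
      rw [h3]
      exact T.mul_mem (hsr 0) (hsr i)
    · rw [hd] at hxe
      have h3 := congrArg (Subtype.val) hxe
      simp only at h3
      rw [h3]
      exact hsr i
  · have h1 := dihedral_aut k hk
    exact h1.of_equiv (MulAut.congr e).symm

end Cfsg.Agent.Lib.H25.DihSimple
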