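import Mathlib
import Cfsg.Agent.Lib.H25.Ex4C
import Cfsg.Agent.Lib.H4.Symp

/-!
# Explicit semisimple derangements for `N(2^{1+4}_-)` in `Sp_4(F)` (helper25)
-/

set_option autoImplicit false
open scoped MatrixGroups
open Matrix

namespace Cfsg.Agent.Lib.H25.Ex4

variable {F : Type*} [Field F]

/-- diagonal `2 × 2` matrix -/
def dg (a b : F) : Matrix (Fin 2) (Fin 2) F := Matrix.diagonal ![a, b]

theorem dg_mul (a b c d : F) : dg a b * dg c d = dg (a * c) (b * d) := by
  unfold dg
  rw [Matrix.diagonal_mul_diagonal]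
  congr 1
  funext i
  fin_cases i <;> rfl

theorem dg_add (a b c d : F) : dg a b + dg c d = dg (a + c) (b + d) := by
  unfold dg
  rw [Matrix.diagonal_add]
  congr 1
  funext i
  fin_cases i <;> rfl

theorem dg_one : dg (1 : F) 1 = 1 := by
  unfold dg
  rw [← Matrix.diagonal_one]
  congr 1
  funext i
  fin_cases i <;> rfl

theorem dg_zero : dg (0 : F) 0 = 0 := by
  unfold dg
  rw [← Matrix.diagonal_zero]
  congr 1
  funext i
  fin_cases i <;> rfl

theorem dg_transpose (a b : F) : (dg a b)ᵀ = dg a b := by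
  unfold dg
  rw [Matrix.diagonal_transpose]

theorem trace_dg (a b : F) : Matrix.trace (dg a b) = a + b := by
  unfold dg
  rw [Matrix.trace_diagonal, Fin.sum_univ_two]
  rfl

/-- a `2 × 2` matrix acting on the first hyperbolic plane -/
def emb (y : Matrix (Fin 2) (Fin 2) F) : Matrix I4 I4 F :=
  Matrix.fromBlocks (dg (y 0 0) 1) (dg (y 0 1) 0) (dg (y 1 0) 0) (dg (y 1 1) 1)

theorem emb_one : emb (1 : Matrix (Fin 2) (Fin 2) F) = 1 := by
  unfold emb
  simp only [Matrix.one_apply_eq, ne_eq, zero_ne_one, not_false_eq_true, Matrix.one_apply_ne,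
    one_ne_zero, dg_one, dg_zero]
  exact Matrix.fromBlocks_one

theorem emb_mul (y z : Matrix (Fin 2) (Fin 2) F) : emb (y * z) = emb y * emb z := by
  unfold emb
  rw [Matrix.fromBlocks_multiply]
  simp only [dg_mul, dg_add, Matrix.mul_apply, Fin.sum_univ_two, mul_one, mul_zero, add_zero,
    zero_add]

/-- `emb` as a monoid hom -/
def embHom : Matrix (Fin 2) (Fin 2) F →* Matrix I4 I4 F where
  toFun := emb
  map_one' := emb_one
  map_mul' := emb_mul

theorem trace_fromBlocks' (A B C D : Matrix (Fin 2) (Fin 2) F) :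
    Matrix.trace (Matrix.fromBlocks A B C D) = Matrix.trace A + Matrix.trace D := by
  simp [Matrix.trace, Fintype.sum_sum_type]

theorem trace_emb (y : Matrix (Fin 2) (Fin 2) F) : Matrix.trace (emb y) = Matrix.trace y + 2 := by
  unfold emb
  rw [trace_fromBlocks', trace_dg, trace_dg, Matrix.trace_fin_two]
  ring

theorem emb_symp (y : Matrix (Fin 2) (Fin 2) F) (hy : y.det = 1) :
    emb y ∈ Matrix.symplecticGroup (Fin 2) F := by
  unfold emb
  rw [SymplecticGroup.fromBlocks_mem_iff]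
  rw [Matrix.det_fin_two] at hy
  have e : ∀ a b c d : F, dg a b - dg c d = dg (a - c) (b - d) := by
    intro a b c d
    rw [sub_eq_iff_eq_add, dg_add, sub_add_cancel, sub_add_cancel]
  refine ⟨?_, ?_, ?_⟩
  · rw [dg_transpose, dg_transpose, dg_mul, dg_mul, mul_comm (y 0 0), mul_comm (1 : F)]
  · rw [dg_transpose, dg_transpose, dg_mul, dg_mul, mul_comm (y 0 1), mul_comm (0 : F)]
  · rw [dg_transpose, dg_transpose, dg_mul, dg_mul, e]
    have e1 : y 0 0 * y 1 1 - y 1 0 * y 0 1 = 1 := by linear_combination hy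
    have e2 : (1 : F) * 1 - 0 * 0 = 1 := by ring
    rw [e1, e2, dg_one]

/-- the embedding `SL_2(F) → GL_4(F)` -/
noncomputable def embGL : Matrix.SpecialLinearGroup (Fin 2) F →* GL I4 F :=
  (embHom.comp ((Units.coeHom _).comp Matrix.SpecialLinearGroup.toGL)).toHomUnits

theorem embGL_val (y : Matrix.SpecialLinearGroup (Fin 2) F) :
    ((embGL y : GL I4 F) : Matrix I4 I4 F) = emb (y : Matrix (Fin 2) (Fin 2) F) := rfl

theorem embGL_mem (y : Matrix.SpecialLinearGroup (Fin 2) F) : embGL y ∈ Cfsg.spGL 2 F := by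
  show ∀ u v, _
  have := emb_symp (y : Matrix (Fin 2) (Fin 2) F) y.2
  rw [Cfsg.Agent.Lib.H4.mem_symplecticGroup_iff_sympForm] at this
  exact this

theorem trace_embGL (y : Matrix.SpecialLinearGroup (Fin 2) F) :
    Matrix.trace ((embGL y : GL I4 F) : Matrix I4 I4 F) =
      Matrix.trace (y : Matrix (Fin 2) (Fin 2) F) + 2 := by
  rw [embGL_val, trace_emb]

theorem trace_inv_sl (y : Matrix.SpecialLinearGroup (Fin 2) F) :
    Matrix.trace ((y⁻¹ : Matrix.SpecialLinearGroup (Fin 2) F) : Matrix (Fin 2) (Fin 2) F) =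
      Matrix.trace (y : Matrix (Fin 2) (Fin 2) F) := by
  rw [Matrix.SpecialLinearGroup.coe_inv, Matrix.adjugate_fin_two, Matrix.trace_fin_two,
    Matrix.trace_fin_two]
  simp only [Matrix.of_apply, Matrix.cons_val', Matrix.cons_val_zero, Matrix.cons_val_one,
    Matrix.cons_val_fin_one]
  ring

/-- the companion matrix of `X² - τ X + 1` -/
def yt (τ : F) : Matrix.SpecialLinearGroup (Fin 2) F :=
  ⟨!![0, -1; 1, τ], by rw [Matrix.det_fin_two_of]; ring⟩

theorem trace_yt (τ : F) : Matrix.trace ((yt τ : Matrix.SpecialLinearGroup (Fin 2) F) :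
    Matrix (Fin 2) (Fin 2) F) = τ := by
  rw [Matrix.trace_fin_two]
  simp [yt]

theorem yt_pow_three : (yt (-1 : F)) ^ 3 = 1 := by
  apply Subtype.ext
  rw [Matrix.SpecialLinearGroup.coe_pow, Matrix.SpecialLinearGroup.coe_one]
  simp only [yt, pow_succ, pow_zero, one_mul]
  ext i j
  fin_cases i <;> fin_cases j <;> simp [Matrix.mul_apply, Fin.sum_univ_two]

theorem yt_pow_five (τ : F) (hτ : τ ^ 2 + τ - 1 = 0) : (yt τ) ^ 5 = 1 := by
  apply Subtype.ext
  rw [Matrix.SpecialLinearGroup.coe_pow, Matrix.SpecialLinearGroup.coe_one]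
  simp only [yt, pow_succ, pow_zero, one_mul]
  ext i j
  fin_cases i <;> fin_cases j <;> simp [Matrix.mul_apply, Fin.sum_univ_two]
  · linear_combination (-(τ - 1)) * hτ
  · linear_combination (-(τ ^ 2 - τ - 1)) * hτ
  · linear_combination (τ ^ 2 - τ - 1) * hτ
  · linear_combination (τ ^ 3 - τ ^ 2 - 2 * τ + 1) * hτ

theorem trace_conj (g x : GL I4 F) :
    Matrix.trace ((g⁻¹ * x * g : GL I4 F) : Matrix I4 I4 F) =
      Matrix.trace (x : Matrix I4 I4 F) := by
  rw [Units.val_mul, Units.val_mul, Matrix.trace_mul_comm, ← Matrix.mul_assoc, ← Units.val_mul,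
    mul_inv_cancel, Units.val_one, Matrix.one_mul]

theorem scalar_comm {x : GL I4 F} {c : F} (hx : (x : Matrix I4 I4 F) = c • (1 : Matrix I4 I4 F))
    (k : GL I4 F) : x * k = k * x := by
  apply Units.ext
  rw [Units.val_mul, Units.val_mul, hx, Matrix.smul_mul, Matrix.mul_smul, Matrix.one_mul,
    Matrix.mul_one]

section derange

variable [Fintype F] {R : Subgroup (GL I4 F)}

/-- the numerical constraints on an element of order `r` modulo scalars having a conjugate
in the normalizer of `R` -/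
theorem Extra.derange_core (h : Extra R) {x : GL I4 F} (r : ℕ) [Fact r.Prime]
    (hxr : ∃ c : F, ((x ^ r : GL I4 F) : Matrix I4 I4 F) = c • (1 : Matrix I4 I4 F))
    (hns : ∀ c : F, (x : Matrix I4 I4 F) ≠ c • (1 : Matrix I4 I4 F)) (g : GL I4 F)
    (hmem : g⁻¹ * x * g ∈ Subgroup.normalizer (R : Set (GL I4 F))) :
    (r = 3 → 2 * (Matrix.trace (x : Matrix I4 I4 F) *
        Matrix.trace ((x⁻¹ : GL I4 F) : Matrix I4 I4 F)) = 0 ∨
      2 * (Matrix.trace (x : Matrix I4 I4 F) *
        Matrix.trace ((x⁻¹ : GL I4 F) : Matrix I4 I4 F)) = 8) ∧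
    (r = 5 → 2 * (Matrix.trace (x : Matrix I4 I4 F) *
        Matrix.trace ((x⁻¹ : GL I4 F) : Matrix I4 I4 F)) = 0 ∨
      2 * (Matrix.trace (x : Matrix I4 I4 F) *
        Matrix.trace ((x⁻¹ : GL I4 F) : Matrix I4 I4 F)) = 2) ∧
    (7 ≤ r → False) := by
  classical
  obtain ⟨c, hc⟩ := hxr
  have hpow : (g⁻¹ * x * g) ^ r = x ^ r := by
    have e : (g⁻¹ * x * g) ^ r = g⁻¹ * x ^ r * g := by
      have := conj_pow (a := g⁻¹) (b := x) (i := r)
      rwa [inv_inv] at this
    rw [e, mul_assoc, scalar_comm hc g, ← mul_assoc, inv_mul_cancel, one_mul]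
  have hxr' : ∀ k ∈ R, (g⁻¹ * x * g) ^ r * k = k * (g⁻¹ * x * g) ^ r := by
    intro k _
    rw [hpow]
    exact scalar_comm hc k
  have hnc : ∃ k ∈ R, k * (g⁻¹ * x * g) ≠ (g⁻¹ * x * g) * k := by
    by_contra hcon
    push Not at hcon
    obtain ⟨c', hc'⟩ := h.scal ((g⁻¹ * x * g : GL I4 F) : Matrix I4 I4 F) (by
      intro a ha
      have := hcon a ha
      have := congrArg (fun u : GL I4 F => (u : Matrix I4 I4 F)) this
      simp only [Units.val_mul] at this ⊢
      exact this.symm)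
    apply hns c'
    have e : x = g * (g⁻¹ * x * g) * g⁻¹ := by group
    rw [e, Units.val_mul, Units.val_mul, hc', Matrix.mul_smul, Matrix.smul_mul, Matrix.mul_one,
      ← Units.val_mul, mul_inv_cancel, Units.val_one]
  have hcases := h.card_cent_cases hmem r hxr' hnc
  have htr := h.trace_cases' hmem
  have einv : (g⁻¹ * x * g)⁻¹ = g⁻¹ * x⁻¹ * g := by group
  rw [einv, trace_conj, trace_conj] at htr
  refine ⟨?_, ?_, hcases.2.2⟩
  · intro hr
    rw [hcases.1 hr] at htr
    rcases htr with h1 | h1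
    · left; exact h1
    · right; rw [h1]; norm_num
  · intro hr
    rw [hcases.2.1 hr] at htr
    rcases htr with h1 | h1
    · left; exact h1
    · right; rw [h1]; norm_num

theorem embGL_yt_not_scalar (τ c : F) :
    ((embGL (yt τ) : GL I4 F) : Matrix I4 I4 F) ≠ c • (1 : Matrix I4 I4 F) := by
  intro h1
  have h2 := congrFun (congrFun h1 (Sum.inl 0)) (Sum.inr 0)
  rw [embGL_val] at h2
  simp [emb, yt, dg] at h2

theorem embGL_pow_scalar (y : Matrix.SpecialLinearGroup (Fin 2) F) (r : ℕ) (hy : y ^ r = 1) :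
    ∃ c : F, (((embGL y) ^ r : GL I4 F) : Matrix I4 I4 F) = c • (1 : Matrix I4 I4 F) := by
  refine ⟨1, ?_⟩
  rw [← map_pow, hy, map_one, Units.val_one, one_smul]

/-- the element of order three with a two-dimensional fixed space is a derangement -/
theorem Extra.derange3 (h : Extra R) (h3 : (3 : F) ≠ 0) (g : GL I4 F) :
    g⁻¹ * embGL (yt (-1 : F)) * g ∉ Subgroup.normalizer (R : Set (GL I4 F)) := by
  intro hmem
  haveI : Fact (Nat.Prime 3) := ⟨Nat.prime_three⟩
  have hc := (h.derange_core 3 (embGL_pow_scalar _ 3 yt_pow_three) (embGL_yt_not_scalar _) g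
    hmem).1 rfl
  rw [← map_inv, trace_embGL, trace_embGL, trace_inv_sl, trace_yt] at hc
  have h6 : (2 : F) * 3 ≠ 0 := mul_ne_zero h.two_ne h3
  rcases hc with h1 | h1
  · apply h.two_ne
    linear_combination h1
  · apply h6
    linear_combination -h1

/-- the element of order five with a two-dimensional fixed space is a derangement -/
theorem Extra.derange5 (h : Extra R) (h5 : (5 : F) ≠ 0) (τ : F) (hτ : τ ^ 2 + τ - 1 = 0)
    (g : GL I4 F) :
    g⁻¹ * embGL (yt τ) * g ∉ Subgroup.normalizer (R : Set (GL I4 F)) := by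
  intro hmem
  haveI : Fact (Nat.Prime 5) := ⟨Nat.prime_five⟩
  have hc := (h.derange_core 5 (embGL_pow_scalar _ 5 (yt_pow_five τ hτ)) (embGL_yt_not_scalar _) g
    hmem).2.1 rfl
  rw [← map_inv, trace_embGL, trace_embGL, trace_inv_sl, trace_yt] at hc
  rcases hc with h1 | h1
  · have e : (τ + 2) * (τ + 2) = 0 := by
      rcases mul_eq_zero.1 h1 with h2 | h2
      · exact absurd h2 h.two_ne
      · exact h2
    have : (1 : F) = 0 := by
      linear_combination (3 * τ + 7) * hτ - (3 * τ - 2) * e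
    exact one_ne_zero this
  · have e : (τ + 2) * (τ + 2) = 1 := by
      apply mul_left_cancel₀ h.two_ne
      rw [h1, mul_one]
    apply h5
    linear_combination (-(3 * τ + 8)) * hτ + (3 * τ - 1) * e

end derange

end Cfsg.Agent.Lib.H25.Ex4
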