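import Mathlib
import Cfsg.Agent.Lib.H25.Ex4E
import Cfsg.Agent.Lib.H23.SpUG

/-!
# Symplectic transvections are derangements for `N(2^{1+4}_-)` (helper25)
-/

set_option autoImplicit false
open scoped MatrixGroups
open Matrix

namespace Cfsg.Agent.Lib.H25.Ex4

open Cfsg.Agent.Lib.H23.SpU

variable {F : Type*} [Field F] [Fintype F] {R : Subgroup (GL I4 F)}

theorem J_mulVec_ne_zero (v : I4 → F) (hv : v ≠ 0) : Matrix.J (Fin 2) F *ᵥ v ≠ 0 := by
  intro h0
  apply hv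
  have := Cfsg.Agent.Lib.H4.J_mulVec_J_mulVec (F := F) 2 v
  rw [h0, Matrix.mulVec_zero] at this
  have h1 : v = -(-v) := (neg_neg v).symm
  rw [h1, ← this, neg_zero]

/-- no conjugate of a symplectic transvection normalizes `R` -/
theorem Extra.derange_tv (h : Extra R) (v : I4 → F) (hv : v ≠ 0) (g : GL I4 F) :
    g⁻¹ * tvGL v * g ∉ Subgroup.normalizer (R : Set (GL I4 F)) := by
  set G := (g : Matrix I4 I4 F) with hG
  set Gi := ((g⁻¹ : GL I4 F) : Matrix I4 I4 F) with hGi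
  have hGiG : Gi * G = 1 := by rw [hGi, hG, ← Units.val_mul, inv_mul_cancel, Units.val_one]
  have hGGi : G * Gi = 1 := by rw [hGi, hG, ← Units.val_mul, mul_inv_cancel, Units.val_one]
  apply h.not_tv (g⁻¹ * tvGL v * g) (Gi *ᵥ v) ((Matrix.J (Fin 2) F *ᵥ v) ᵥ* G)
  · rw [Units.val_mul, Units.val_mul, tvGL_val]
    unfold Cfsg.sympTransvection
    rw [one_smul, Matrix.mul_add, Matrix.add_mul, Matrix.mul_one, hGiG, mul_vecMulVec,
      vecMulVec_mul]
  · have e : (g⁻¹ * tvGL v * g)⁻¹ = g⁻¹ * (tvGL v)⁻¹ * g := by group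
    rw [e, Units.val_mul, Units.val_mul]
    have e2 : (((tvGL v)⁻¹ : GL I4 F) : Matrix I4 I4 F) = Cfsg.sympTransvection 2 v (-1) := rfl
    rw [e2]
    unfold Cfsg.sympTransvection
    rw [neg_smul, one_smul, ← sub_eq_add_neg, Matrix.mul_sub, Matrix.sub_mul, Matrix.mul_one, hGiG,
      mul_vecMulVec, vecMulVec_mul]
  · rw [Ne, vecMulVec_eq_zero, not_or]
    constructor
    · intro h0
      apply hv
      have : v = G *ᵥ (Gi *ᵥ v) := by rw [Matrix.mulVec_mulVec, hGGi, Matrix.one_mulVec]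
      rw [this, h0, Matrix.mulVec_zero]
    · intro h0
      apply J_mulVec_ne_zero v hv
      have : Matrix.J (Fin 2) F *ᵥ v = ((Matrix.J (Fin 2) F *ᵥ v) ᵥ* G) ᵥ* Gi := by
        rw [Matrix.vecMul_vecMul, hGGi, Matrix.vecMul_one]
      rw [this, h0, Matrix.zero_vecMul]

end Cfsg.Agent.Lib.H25.Ex4
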