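import Mathlib
import Cfsg.Agent.Lib.H25.Ex4C
import Cfsg.Agent.Lib.H23.SpUF

/-!
# Conjugacy of elements with scalar square in `Sp_4(F)` (helper25)
-/

set_option autoImplicit false
open scoped MatrixGroups
open Matrix Module

namespace Cfsg.Agent.Lib.H25.Ex4

open Cfsg.Agent.Lib.H13 Cfsg.Agent.Lib.H13.SpInvolCount Cfsg.Agent.Lib.H13.Singer
  Cfsg.Agent.Lib.H23.SpU

variable {F : Type*} [Field F]

/-- normalized symplectic eigenbasis of a non-scalar symplectic involution in dimension four -/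
theorem invol_basis (h2 : (2 : F) ≠ 0) {V : Type*} [AddCommGroup V] [Module F V]
    [FiniteDimensional F V] (B : LinearMap.BilinForm F V) (x : Module.End F V)
    (halt : ∀ v, B v v = 0) (hnd : ∀ v, (∀ w, B v w = 0) → v = 0)
    (hiso : ∀ u v, B (x u) (x v) = B u v) (hsq : ∀ v, x (x v) = v) (hV : finrank F V = 4)
    (hx1 : ∃ v, x v ≠ v) (hx2 : ∃ v, x v ≠ -v) :
    ∃ b : Basis (Fin 2 ⊕ Fin 2) F V, IsSymp B b ∧ x (b (.inl 0)) = b (.inl 0) ∧
      x (b (.inr 0)) = b (.inr 0) ∧ x (b (.inl 1)) = -b (.inl 1) ∧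
      x (b (.inr 1)) = -b (.inr 1) := by
  classical
  obtain ⟨ι, hι, hdec, b, ε, hb, h1, h2'⟩ := caseA_aux h2 4 B x halt hnd hiso hsq hV
  have hcard : Fintype.card ι = 2 := by
    have := Module.finrank_eq_card_basis b
    rw [Fintype.card_sum, hV] at this
    omega
  have hε : ∀ i, ε i = 1 ∨ ε i = -1 := by
    intro i
    have e1 : (ε i * ε i) • b (.inl i) = (1 : F) • b (.inl i) := by
      rw [one_smul, ← smul_smul, ← h1 i, ← map_smul, ← h1 i, hsq]
    have e2 : (ε i * ε i - 1) • b (.inl i) = 0 := by rw [sub_smul, e1, sub_self]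
    rcases smul_eq_zero.1 e2 with h3 | h3
    · have : (ε i - 1) * (ε i + 1) = 0 := by linear_combination h3
      rcases mul_eq_zero.1 this with h4 | h4
      · left; exact sub_eq_zero.1 h4
      · right; exact eq_neg_of_add_eq_zero_left h4
    · exact absurd h3 (b.ne_zero _)
  obtain ⟨i, hi⟩ : ∃ i, ε i = 1 := by
    by_contra hcon
    push Not at hcon
    obtain ⟨v, hv⟩ := hx2
    apply hv
    have key : x = -LinearMap.id := by
      apply b.ext
      intro k
      rcases k with k | k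
      · rw [h1 k]
        rcases hε k with h3 | h3
        · exact absurd h3 (hcon k)
        · rw [h3]; simp
      · rw [h2' k]
        rcases hε k with h3 | h3
        · exact absurd h3 (hcon k)
        · rw [h3]; simp
    rw [key]
    simp
  obtain ⟨j, hj⟩ : ∃ j, ε j = -1 := by
    by_contra hcon
    push Not at hcon
    obtain ⟨v, hv⟩ := hx1
    apply hv
    have key : x = LinearMap.id := by
      apply b.ext
      intro k
      rcases k with k | k
      · rw [h1 k]
        rcases hε k with h3 | h3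
        · rw [h3]; simp
        · exact absurd h3 (hcon k)
      · rw [h2' k]
        rcases hε k with h3 | h3
        · rw [h3]; simp
        · exact absurd h3 (hcon k)
    rw [key]
    simp
  have hij : j ≠ i := by
    intro h3
    rw [h3, hi] at hj
    have : (2 : F) = 0 := by linear_combination hj
    exact h2 this
  let f : ι → Fin 2 := fun k => if k = i then 0 else 1
  have hf : Function.Bijective f := by
    rw [Fintype.bijective_iff_surjective_and_card]
    refine ⟨?_, by rw [hcard, Fintype.card_fin]⟩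
    intro k
    fin_cases k
    · exact ⟨i, by simp [f]⟩
    · exact ⟨j, by simp [f, hij]⟩
  let e : ι ≃ Fin 2 := Equiv.ofBijective f hf
  have hei : e.symm 0 = i := by
    rw [Equiv.symm_apply_eq]
    simp [e, f]
  have hej : e.symm 1 = j := by
    rw [Equiv.symm_apply_eq]
    simp [e, f, hij]
  refine ⟨b.reindex (e.sumCongr e), IsSymp.reindex B b hb e, ?_, ?_, ?_, ?_⟩
  · simp only [Basis.reindex_apply, Equiv.sumCongr_symm, Equiv.sumCongr_apply, Sum.map_inl]
    rw [hei, h1, hi, one_smul]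
  · simp only [Basis.reindex_apply, Equiv.sumCongr_symm, Equiv.sumCongr_apply, Sum.map_inr]
    rw [hei, h2', hi, one_smul]
  · simp only [Basis.reindex_apply, Equiv.sumCongr_symm, Equiv.sumCongr_apply, Sum.map_inl]
    rw [hej, h1, hj, neg_smul, one_smul]
  · simp only [Basis.reindex_apply, Equiv.sumCongr_symm, Equiv.sumCongr_apply, Sum.map_inr]
    rw [hej, h2', hj, neg_smul, one_smul]

/-- two non-scalar symplectic involutions in dimension four are conjugate by an isometry -/
theorem invol_conj_lin (h2 : (2 : F) ≠ 0) {V : Type*} [AddCommGroup V] [Module F V]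
    [FiniteDimensional F V] (B : LinearMap.BilinForm F V) (x x' : Module.End F V)
    (halt : ∀ v, B v v = 0) (hnd : ∀ v, (∀ w, B v w = 0) → v = 0)
    (hiso : ∀ u v, B (x u) (x v) = B u v) (hsq : ∀ v, x (x v) = v)
    (hiso' : ∀ u v, B (x' u) (x' v) = B u v) (hsq' : ∀ v, x' (x' v) = v)
    (hV : finrank F V = 4)
    (hx1 : ∃ v, x v ≠ v) (hx2 : ∃ v, x v ≠ -v) (hx1' : ∃ v, x' v ≠ v) (hx2' : ∃ v, x' v ≠ -v) :
    ∃ φ : V ≃ₗ[F] V, (∀ u v, B (φ u) (φ v) = B u v) ∧ ∀ v, φ (x v) = x' (φ v) := by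
  classical
  obtain ⟨b, hb, b1, b2, b3, b4⟩ := invol_basis h2 B x halt hnd hiso hsq hV hx1 hx2
  obtain ⟨b', hb', b1', b2', b3', b4'⟩ := invol_basis h2 B x' halt hnd hiso' hsq' hV hx1' hx2'
  set φ : V ≃ₗ[F] V := b.equiv b' (Equiv.refl _) with hφ
  have hφb : ∀ k, φ (b k) = b' k := by
    intro k
    rw [hφ, Basis.equiv_apply]
    rfl
  refine ⟨φ, ?_, ?_⟩
  · have key : B.compl₁₂ (φ : V →ₗ[F] V) (φ : V →ₗ[F] V) = B := by
      apply LinearMap.BilinForm.ext_basis b
      intro k l
      rw [LinearMap.compl₁₂_apply, LinearEquiv.coe_coe, hφb, hφb]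
      rcases k with i | i <;> rcases l with j | j
      · rw [hb.iso_l, hb'.iso_l]
      · rw [hb.pair, hb'.pair]
      · rw [IsSymp.swap_pair halt hb, IsSymp.swap_pair halt hb']
      · rw [hb.iso_r, hb'.iso_r]
    intro u v
    have := congrArg (fun T : LinearMap.BilinForm F V => T u v) key
    simpa using this
  · have key : (φ : V →ₗ[F] V) ∘ₗ x = x' ∘ₗ (φ : V →ₗ[F] V) := by
      apply b.ext
      intro k
      rw [LinearMap.comp_apply, LinearMap.comp_apply, LinearEquiv.coe_coe, hφb]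
      rcases k with i | i <;> fin_cases i
      · show φ (x (b (.inl 0))) = x' (b' (.inl 0))
        rw [b1, b1', hφb]
      · show φ (x (b (.inl 1))) = x' (b' (.inl 1))
        rw [b3, b3', map_neg, hφb]
      · show φ (x (b (.inr 0))) = x' (b' (.inr 0))
        rw [b2, b2', hφb]
      · show φ (x (b (.inr 1))) = x' (b' (.inr 1))
        rw [b4, b4', map_neg, hφb]
    intro v
    exact congrArg (fun T : V →ₗ[F] V => T v) key

/-- a non-identity matrix moves some vector -/
theorem exists_mulVec_ne {x : GL I4 F} (hx : x ≠ 1) :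
    ∃ v, Matrix.toLin' (x : Matrix I4 I4 F) v ≠ v := by
  by_contra hcon
  push Not at hcon
  apply hx
  apply Units.ext
  apply Matrix.toLin'.injective
  apply LinearMap.ext
  intro v
  rw [hcon v, Units.val_one, Matrix.toLin'_one]
  rfl

theorem exists_mulVec_ne_neg {x : GL I4 F} (hx : x ≠ -1) :
    ∃ v, Matrix.toLin' (x : Matrix I4 I4 F) v ≠ -v := by
  by_contra hcon
  push Not at hcon
  apply hx
  apply Units.ext
  apply Matrix.toLin'.injective
  apply LinearMap.ext
  intro v
  rw [hcon v, Units.val_neg, Units.val_one, map_neg, Matrix.toLin'_one]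
  rfl

/-- two non-scalar involutions of `Sp_4(F)` are conjugate -/
theorem invol_conj (h2 : (2 : F) ≠ 0) (x x' : GL I4 F) (hx : x ∈ Cfsg.spGL 2 F)
    (hx' : x' ∈ Cfsg.spGL 2 F) (hxx : x * x = 1) (hxx' : x' * x' = 1) (h1 : x ≠ 1) (h1' : x' ≠ 1)
    (hn : x ≠ -1) (hn' : x' ≠ -1) : ∃ g ∈ Cfsg.spGL 2 F, g⁻¹ * x * g = x' := by
  have hsq : ∀ (y : GL I4 F), y * y = 1 → ∀ v, Matrix.toLin' (y : Matrix I4 I4 F)
      (Matrix.toLin' (y : Matrix I4 I4 F) v) = v := by
    intro y hy v
    rw [Matrix.toLin'_apply, Matrix.toLin'_apply, Matrix.mulVec_mulVec, ← Units.val_mul, hy,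
      Units.val_one, Matrix.one_mulVec]
  have hiso : ∀ (y : GL I4 F), y ∈ Cfsg.spGL 2 F → ∀ u v,
      sympB (F := F) 2 (Matrix.toLin' (y : Matrix I4 I4 F) u)
        (Matrix.toLin' (y : Matrix I4 I4 F) v) = sympB (F := F) 2 u v := by
    intro y hy u v
    rw [sympB_apply, sympB_apply, Matrix.toLin'_apply, Matrix.toLin'_apply]
    exact (mem_spGL_iff y).1 hy u v
  obtain ⟨φ, hφB, hφx⟩ := invol_conj_lin h2 (sympB (F := F) 2)
    (Matrix.toLin' (x' : Matrix I4 I4 F)) (Matrix.toLin' (x : Matrix I4 I4 F))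
    (sympB_alt 2) (sympB_nondeg 2).1 (hiso x' hx') (hsq x' hxx') (hiso x hx) (hsq x hxx)
    (by rw [finrank_II]) (exists_mulVec_ne h1') (exists_mulVec_ne_neg hn') (exists_mulVec_ne h1)
    (exists_mulVec_ne_neg hn)
  refine ⟨glOf φ, ?_, ?_⟩
  · rw [mem_spGL_iff]
    intro u v
    rw [glOf_mulVec, glOf_mulVec, ← sympB_apply, ← sympB_apply, hφB]
  · have key : glOf φ * x' = x * glOf φ := by
      apply Units.ext
      apply Matrix.toLin'.injective
      apply LinearMap.ext
      intro u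
      rw [Units.val_mul, Units.val_mul, Matrix.toLin'_apply, Matrix.toLin'_apply,
        ← Matrix.mulVec_mulVec, ← Matrix.mulVec_mulVec, glOf_mulVec, glOf_mulVec,
        ← Matrix.toLin'_apply, hφx, Matrix.toLin'_apply]
    calc (glOf φ)⁻¹ * x * glOf φ = (glOf φ)⁻¹ * (x * glOf φ) := by group
      _ = x' := by rw [← key]; group

/-- a symplectic matrix of square `-1` is skew-adjoint -/
theorem adj_of_sq_neg (x : GL I4 F) (hx : x ∈ Cfsg.spGL 2 F) (hxx : x * x = -1) :
    Adj (x : Matrix I4 I4 F) (-(x : Matrix I4 I4 F)) := by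
  intro u v
  have e : v = (x : Matrix I4 I4 F) *ᵥ (-(x : Matrix I4 I4 F) *ᵥ v) := by
    rw [Matrix.mulVec_mulVec, Matrix.mul_neg, ← Units.val_mul, hxx, Units.val_neg, neg_neg,
      Units.val_one, Matrix.one_mulVec]
  nth_rewrite 1 [e]
  exact (mem_spGL_iff x).1 hx u _

/-- two elements of `Sp_4(F)` of square `-1` are conjugate -/
theorem sqneg_conj [Fintype F] (hodd : Fintype.card F % 2 = 1) (h2 : (2 : F) ≠ 0) (x x' : GL I4 F)
    (hx : x ∈ Cfsg.spGL 2 F) (hx' : x' ∈ Cfsg.spGL 2 F) (hxx : x * x = -1) (hxx' : x' * x' = -1) :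
    ∃ g ∈ Cfsg.spGL 2 F, g⁻¹ * x * g = x' := by
  have hsq : ∀ y : GL I4 F, y * y = -1 →
      (y : Matrix I4 I4 F) * (y : Matrix I4 I4 F) = (-1 : F) • (1 : Matrix I4 I4 F) := by
    intro y hy
    rw [← Units.val_mul, hy, Units.val_neg, Units.val_one, neg_smul, one_smul]
  obtain ⟨g, hg, hgx⟩ := exists_sp_conj hodd h2 (x' : Matrix I4 I4 F) (x : Matrix I4 I4 F) (-1)
    (neg_ne_zero.2 one_ne_zero) (hsq x' hxx') (adj_of_sq_neg x' hx' hxx') (hsq x hxx)
    (adj_of_sq_neg x hx hxx)
  refine ⟨g, hg, ?_⟩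
  have key : g * x' = x * g := by
    apply Units.ext
    rw [Units.val_mul, Units.val_mul]
    exact hgx
  calc g⁻¹ * x * g = g⁻¹ * (x * g) := by group
    _ = x' := by rw [← key]; group

variable [Fintype F] {R : Subgroup (GL I4 F)}

/-- every element of `Sp_4(F)` with scalar square has a conjugate in `R` -/
theorem Extra.two_suff (h : Extra R) (hRf : R ≤ Cfsg.spGL 2 F) (hodd : Fintype.card F % 2 = 1)
    (x : GL I4 F) (hx : x ∈ Cfsg.spGL 2 F)
    (hxr : ∃ z : F, ((x ^ 2 : GL I4 F) : Matrix I4 I4 F) = z • (1 : Matrix I4 I4 F))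
    (hns : ∀ z : F, (x : Matrix I4 I4 F) ≠ z • (1 : Matrix I4 I4 F)) :
    ∃ g ∈ Cfsg.spGL 2 F, g⁻¹ * x * g ∈ Subgroup.normalizer (R : Set (GL I4 F)) := by
  classical
  obtain ⟨z, hz⟩ := hxr
  have hzz : z * z = 1 := by
    obtain ⟨u, v, huv⟩ := exists_form_ne_zero (F := F) (d := 2) (by norm_num)
    have h1 := (mem_spGL_iff (x ^ 2)).1 ((Cfsg.spGL 2 F).pow_mem hx 2) u v
    rw [hz, Matrix.smul_mulVec, Matrix.smul_mulVec, Matrix.one_mulVec, Matrix.one_mulVec,
      Cfsg.Agent.Lib.H4.sympForm_smul_left, Cfsg.Agent.Lib.H4.sympForm_smul_right, ← mul_assoc] at h1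
    have h3 : (z * z - 1) * Cfsg.sympForm 2 F u v = 0 := by
      rw [sub_mul, h1, one_mul, sub_self]
    rcases mul_eq_zero.1 h3 with h4 | h4
    · exact sub_eq_zero.1 h4
    · exact absurd h4 huv
  have hz1 : z = 1 ∨ z = -1 := by
    have : (z - 1) * (z + 1) = 0 := by linear_combination hzz
    rcases mul_eq_zero.1 this with h4 | h4
    · left; exact sub_eq_zero.1 h4
    · right; exact eq_neg_of_add_eq_zero_left h4
  have hx1 : x ≠ 1 := by
    intro h3
    apply hns 1
    rw [h3, Units.val_one, one_smul]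
  have hxn : x ≠ -1 := by
    intro h3
    apply hns (-1)
    rw [h3, Units.val_neg, Units.val_one, neg_smul, one_smul]
  rcases hz1 with rfl | rfl
  · have hxx : x * x = 1 := by
      apply Units.ext
      rw [← pow_two, hz, one_smul, Units.val_one]
    obtain ⟨a, ha, haa, ha1, han⟩ := h.exists_invol
    obtain ⟨g, hg, hgx⟩ := invol_conj h.two_ne x a hx (hRf ha) hxx haa hx1 ha1 hxn han
    refine ⟨g, hg, ?_⟩
    rw [hgx]
    exact Subgroup.le_normalizer ha
  · have hxx : x * x = -1 := by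
      apply Units.ext
      rw [← pow_two, hz, neg_smul, one_smul, Units.val_neg, Units.val_one]
    obtain ⟨b, hb, hbb⟩ : ∃ b ∈ R, b * b = -1 := by
      by_contra hcon
      push Not at hcon
      have h3 : (Rf R).filter (fun g => g * g = 1) = Rf R := by
        apply Finset.filter_true_of_mem
        intro g hg
        rw [mem_Rf] at hg
        rcases h.sq g hg with h4 | h4
        · exact h4
        · exact absurd h4 (hcon g hg)
      have h4 := h.card_invol
      rw [h3, h.card_Rf] at h4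
      omega
    obtain ⟨g, hg, hgx⟩ := sqneg_conj hodd h.two_ne x b hx (hRf hb) hxx hbb
    refine ⟨g, hg, ?_⟩
    rw [hgx]
    exact Subgroup.le_normalizer hb

end Cfsg.Agent.Lib.H25.Ex4
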