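import Mathlib
import Cfsg.Agent.Lib.H25.Ex4C
import Cfsg.Agent.Lib.H23.SpUD

/-!
# The elements `1 + u` normalizing `2^{1+4}_-` and an element of order five (helper25)
-/

set_option autoImplicit false
open scoped MatrixGroups
open Matrix

namespace Cfsg.Agent.Lib.H25.Ex4

open Cfsg.Agent.Lib.H23.SpU

variable {F : Type*} [Field F]

/-- the element `1 + u` for `u` of square `-1` -/
noncomputable def wGL (h2 : (2 : F) ≠ 0) (u : GL I4 F) (huu : u * u = -1) : GL I4 F :=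
  ⟨1 + (u : Matrix I4 I4 F), (2 : F)⁻¹ • (1 - (u : Matrix I4 I4 F)), by
    have e : (u : Matrix I4 I4 F) * (u : Matrix I4 I4 F) = -1 := by
      rw [← Units.val_mul, huu, Units.val_neg, Units.val_one]
    rw [Matrix.mul_smul]
    have : (1 + (u : Matrix I4 I4 F)) * (1 - (u : Matrix I4 I4 F)) = (2 : F) • 1 := by
      rw [two_smul]
      calc (1 + (u : Matrix I4 I4 F)) * (1 - (u : Matrix I4 I4 F))
          = 1 - (u : Matrix I4 I4 F) * (u : Matrix I4 I4 F) := by noncomm_ring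
        _ = 1 + 1 := by rw [e, sub_neg_eq_add]
    rw [this, smul_smul, inv_mul_cancel₀ h2, one_smul], by
    have e : (u : Matrix I4 I4 F) * (u : Matrix I4 I4 F) = -1 := by
      rw [← Units.val_mul, huu, Units.val_neg, Units.val_one]
    rw [Matrix.smul_mul]
    have : (1 - (u : Matrix I4 I4 F)) * (1 + (u : Matrix I4 I4 F)) = (2 : F) • 1 := by
      rw [two_smul]
      calc (1 - (u : Matrix I4 I4 F)) * (1 + (u : Matrix I4 I4 F))
          = 1 - (u : Matrix I4 I4 F) * (u : Matrix I4 I4 F) := by noncomm_ring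
        _ = 1 + 1 := by rw [e, sub_neg_eq_add]
    rw [this, smul_smul, inv_mul_cancel₀ h2, one_smul]⟩

theorem wGL_val (h2 : (2 : F) ≠ 0) (u : GL I4 F) (huu : u * u = -1) :
    ((wGL h2 u huu : GL I4 F) : Matrix I4 I4 F) = 1 + (u : Matrix I4 I4 F) := rfl

theorem wGL_inv_val (h2 : (2 : F) ≠ 0) (u : GL I4 F) (huu : u * u = -1) :
    (((wGL h2 u huu)⁻¹ : GL I4 F) : Matrix I4 I4 F) = (2 : F)⁻¹ • (1 - (u : Matrix I4 I4 F)) := rfl

/-- conjugation by `1 + u` fixes the elements commuting with `u` -/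
theorem wGL_conj_comm (h2 : (2 : F) ≠ 0) (u : GL I4 F) (huu : u * u = -1) (g : GL I4 F)
    (hg : g * u = u * g) : wGL h2 u huu * g * (wGL h2 u huu)⁻¹ = g := by
  have e : wGL h2 u huu * g = g * wGL h2 u huu := by
    apply Units.ext
    rw [Units.val_mul, Units.val_mul, wGL_val, Matrix.add_mul, Matrix.mul_add, Matrix.one_mul,
      Matrix.mul_one, ← Units.val_mul, ← Units.val_mul, hg]
  rw [e, mul_assoc, mul_inv_cancel, mul_one]

/-- conjugation by `1 + u` maps `g` anticommuting with `u` to `-(g u)` -/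
theorem wGL_conj_anti (h2 : (2 : F) ≠ 0) (u : GL I4 F) (huu : u * u = -1) (g : GL I4 F)
    (hg : g * u = -(u * g)) : wGL h2 u huu * g * (wGL h2 u huu)⁻¹ = -(g * u) := by
  rw [mul_inv_eq_iff_eq_mul]
  apply Units.ext
  have e : (u : Matrix I4 I4 F) * (u : Matrix I4 I4 F) = -1 := by
    rw [← Units.val_mul, huu, Units.val_neg, Units.val_one]
  have e2 : (u : Matrix I4 I4 F) * (g : Matrix I4 I4 F) =
      -((g : Matrix I4 I4 F) * (u : Matrix I4 I4 F)) := by
    have : u * g = -(g * u) := by rw [hg, neg_neg]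
    have := congrArg (fun x : GL I4 F => (x : Matrix I4 I4 F)) this
    simpa using this
  rw [Units.val_mul, Units.val_mul, wGL_val, Units.val_neg, Units.val_mul, Matrix.add_mul,
    Matrix.one_mul, e2, Matrix.neg_mul, Matrix.mul_add, Matrix.mul_one, Matrix.mul_assoc, e]
  simp only [Matrix.mul_neg, Matrix.mul_one, neg_neg]
  abel

variable {R : Subgroup (GL I4 F)}

theorem Extra.wGL_mem_normalizer [Fintype F] (h : Extra R) (u : GL I4 F) (hu : u ∈ R)
    (huu : u * u = -1) : wGL h.two_ne u huu ∈ Subgroup.normalizer (R : Set (GL I4 F)) := by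
  haveI : Finite (R : Set (GL I4 F)) := Set.toFinite _
  apply Subgroup.mem_normalizer_fintype
  intro g hg
  rcases h.comm g hg u hu with h1 | h1
  · rw [wGL_conj_comm h.two_ne u huu g h1]
    exact hg
  · rw [wGL_conj_anti h.two_ne u huu g h1]
    exact h.neg_mem' (R.mul_mem hg hu)

/-- `1 + u` is a similitude with multiplier two -/
theorem wGL_form (h2 : (2 : F) ≠ 0) (u : GL I4 F) (hu : u ∈ Cfsg.spGL 2 F) (huu : u * u = -1)
    (v w : I4 → F) :
    Cfsg.sympForm 2 F ((wGL h2 u huu : Matrix I4 I4 F) *ᵥ v) ((wGL h2 u huu : Matrix I4 I4 F) *ᵥ w) =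
      2 * Cfsg.sympForm 2 F v w := by
  have hiso := (mem_spGL_iff u).1 hu
  have e : (u : Matrix I4 I4 F) * (u : Matrix I4 I4 F) = -1 := by
    rw [← Units.val_mul, huu, Units.val_neg, Units.val_one]
  have h1 : Cfsg.sympForm 2 F ((u : Matrix I4 I4 F) *ᵥ v) w =
      - Cfsg.sympForm 2 F v ((u : Matrix I4 I4 F) *ᵥ w) := by
    have e3 : w = (u : Matrix I4 I4 F) *ᵥ (-((u : Matrix I4 I4 F) *ᵥ w)) := by
      rw [Matrix.mulVec_neg, Matrix.mulVec_mulVec, e, Matrix.neg_mulVec, neg_neg,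
        Matrix.one_mulVec]
    nth_rewrite 1 [e3]
    rw [hiso, Cfsg.Agent.Lib.H4.sympForm_swap, Cfsg.Agent.Lib.H4.sympForm_swap 2 v]
    rw [Cfsg.Agent.Lib.H4.sympForm_swap]
    have : Cfsg.sympForm 2 F v (-((u : Matrix I4 I4 F) *ᵥ w)) =
        -Cfsg.sympForm 2 F v ((u : Matrix I4 I4 F) *ᵥ w) := by
      have := Cfsg.Agent.Lib.H4.sympForm_smul_right 2 (-1 : F) v ((u : Matrix I4 I4 F) *ᵥ w)
      rwa [neg_smul, one_smul, neg_mul, one_mul] at this
    rw [this, Cfsg.Agent.Lib.H4.sympForm_swap 2 v]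
    ring
  rw [wGL_val, Matrix.add_mulVec, Matrix.add_mulVec, Matrix.one_mulVec, Matrix.one_mulVec,
    Cfsg.Agent.Lib.H4.sympForm_add_left, Cfsg.Agent.Lib.H4.sympForm_add_right,
    Cfsg.Agent.Lib.H4.sympForm_add_right, hiso, h1]
  ring

/-- a non-zero scalar matrix as a unit -/
noncomputable def zGL (c : F) (hc : c ≠ 0) : GL I4 F :=
  ⟨c • 1, c⁻¹ • 1, by
    rw [Matrix.smul_mul, Matrix.mul_smul, Matrix.one_mul, smul_smul, mul_inv_cancel₀ hc, one_smul],
    by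
    rw [Matrix.smul_mul, Matrix.mul_smul, Matrix.one_mul, smul_smul, inv_mul_cancel₀ hc, one_smul]⟩

theorem zGL_val (c : F) (hc : c ≠ 0) :
    ((zGL c hc : GL I4 F) : Matrix I4 I4 F) = c • 1 := rfl

theorem zGL_comm (c : F) (hc : c ≠ 0) (g : GL I4 F) : zGL c hc * g = g * zGL c hc := by
  apply Units.ext
  rw [Units.val_mul, Units.val_mul, zGL_val, Matrix.smul_mul, Matrix.mul_smul, Matrix.one_mul,
    Matrix.mul_one]

theorem zGL_conj (c : F) (hc : c ≠ 0) (g : GL I4 F) : zGL c hc * g * (zGL c hc)⁻¹ = g := by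
  rw [zGL_comm, mul_assoc, mul_inv_cancel, mul_one]

theorem zGL_mem_normalizer (c : F) (hc : c ≠ 0) :
    zGL c hc ∈ Subgroup.normalizer (R : Set (GL I4 F)) := by
  rw [Subgroup.mem_normalizer_iff]
  intro g
  rw [zGL_conj]

/-- the product of two elements `1 + u`, rescaled into the symplectic group -/
noncomputable def pGL (h2 : (2 : F) ≠ 0) (u : GL I4 F) (huu : u * u = -1) (u' : GL I4 F)
    (huu' : u' * u' = -1) : GL I4 F :=
  wGL h2 u huu * wGL h2 u' huu' * zGL (2 : F)⁻¹ (inv_ne_zero h2)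

theorem pGL_mem_sp (h2 : (2 : F) ≠ 0) (u : GL I4 F) (huu : u * u = -1) (u' : GL I4 F)
    (huu' : u' * u' = -1) (hu : u ∈ Cfsg.spGL 2 F) (hu' : u' ∈ Cfsg.spGL 2 F) :
    pGL h2 u huu u' huu' ∈ Cfsg.spGL 2 F := by
  rw [mem_spGL_iff]
  intro v w
  unfold pGL
  rw [Units.val_mul, Units.val_mul, zGL_val, ← Matrix.mulVec_mulVec, ← Matrix.mulVec_mulVec,
    ← Matrix.mulVec_mulVec, ← Matrix.mulVec_mulVec, wGL_form h2 u hu huu, wGL_form h2 u' hu' huu',
    Matrix.smul_mulVec, Matrix.smul_mulVec, Matrix.one_mulVec, Matrix.one_mulVec,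
    Cfsg.Agent.Lib.H4.sympForm_smul_left, Cfsg.Agent.Lib.H4.sympForm_smul_right]
  field_simp

theorem pGL_conj (h2 : (2 : F) ≠ 0) (u : GL I4 F) (huu : u * u = -1) (u' : GL I4 F)
    (huu' : u' * u' = -1) (g : GL I4 F) :
    pGL h2 u huu u' huu' * g * (pGL h2 u huu u' huu')⁻¹ =
      wGL h2 u huu * (wGL h2 u' huu' * g * (wGL h2 u' huu')⁻¹) * (wGL h2 u huu)⁻¹ := by
  unfold pGL
  have e := zGL_conj (2 : F)⁻¹ (inv_ne_zero h2) g
  calc wGL h2 u huu * wGL h2 u' huu' * zGL (2 : F)⁻¹ (inv_ne_zero h2) * g *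
        (wGL h2 u huu * wGL h2 u' huu' * zGL (2 : F)⁻¹ (inv_ne_zero h2))⁻¹
      = wGL h2 u huu * (wGL h2 u' huu' * (zGL (2 : F)⁻¹ (inv_ne_zero h2) * g *
          (zGL (2 : F)⁻¹ (inv_ne_zero h2))⁻¹) * (wGL h2 u' huu')⁻¹) * (wGL h2 u huu)⁻¹ := by group
    _ = _ := by rw [e]

theorem Extra.pGL_mem_normalizer [Fintype F] (h : Extra R) (u : GL I4 F) (hu : u ∈ R)
    (huu : u * u = -1) (u' : GL I4 F) (hu' : u' ∈ R) (huu' : u' * u' = -1) :
    pGL h.two_ne u huu u' huu' ∈ Subgroup.normalizer (R : Set (GL I4 F)) := by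
  unfold pGL
  exact Subgroup.mul_mem _ (Subgroup.mul_mem _ (h.wGL_mem_normalizer u hu huu)
    (h.wGL_mem_normalizer u' hu' huu')) (zGL_mem_normalizer _ _)

end Cfsg.Agent.Lib.H25.Ex4
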