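import Mathlib
import Cfsg.Agent.Lib.H25.Ex4H

/-!
# An element of order five in `N(2^{1+4}_-) ∩ Sp_4(F)` (helper25)
-/

set_option autoImplicit false
open scoped MatrixGroups
open Matrix

namespace Cfsg.Agent.Lib.H25.Ex4

variable {F : Type*} [Field F] [Fintype F] {R : Subgroup (GL I4 F)}

open Classical in
/-- an element of square `-1` in `R` commuting with a given non-central involution -/
theorem Extra.exists_sqneg_comm (h : Extra R) {b : GL I4 F} (hb : b ∈ Sf R) :
    ∃ u ∈ R, u * u = -1 ∧ u * b = b * u := by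
  rw [mem_Sf] at hb
  obtain ⟨hbR, hbb, hb1, hbn⟩ := hb
  by_contra hcon
  push Not at hcon
  have h1 : (Rf R).filter (fun g => g * b = b * g) ⊆
      (Rf R).filter (fun g => g * g = 1 ∧ g * b = b * g) := by
    intro g hg
    rw [Finset.mem_filter, mem_Rf] at hg ⊢
    refine ⟨hg.1, ?_, hg.2⟩
    rcases h.sq g hg.1 with h3 | h3
    · exact h3
    · exact absurd hg.2 (hcon g hg.1 h3)
  have h2 := Finset.card_le_card h1
  rw [h.card_comm hbR hb1 hbn, h.card_invol_comm hbR hbb hb1 hbn] at h2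
  omega

/-- `N(R) ∩ Sp` is transitive on the non-central involutions of `R` -/
theorem Extra.exists_conj (h : Extra R) (hRf : R ≤ Cfsg.spGL 2 F) {a b : GL I4 F}
    (ha : a ∈ Sf R) (hb : b ∈ Sf R) :
    ∃ t ∈ Subgroup.normalizer (R : Set (GL I4 F)) ⊓ Cfsg.spGL 2 F, t * a * t⁻¹ = b := by
  have ha' := mem_Sf.1 ha
  have hb' := mem_Sf.1 hb
  obtain ⟨haR, haa, ha1, han⟩ := ha'
  obtain ⟨hbR, hbb, hb1, hbn⟩ := hb'
  by_cases hab : b = a
  · exact ⟨1, Subgroup.one_mem _, by rw [hab]; group⟩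
  by_cases hab' : b = -a
  · obtain ⟨k, hk, hka⟩ := h.exists_anti haR ha1 han
    refine ⟨k, ⟨Subgroup.le_normalizer hk, hRf hk⟩, ?_⟩
    rw [hka, neg_mul, mul_assoc, mul_inv_cancel, mul_one, hab']
  -- `a` and `b` anticommute
  have hanti : a * b = -(b * a) := by
    rcases h.comm a haR b hbR with h1 | h1
    · exfalso
      rcases h.minus a haR b hbR haa hbb h1 ha1 han hb1 hbn with h2 | h2
      · exact hab h2.symm
      · apply hab'
        rw [h2, neg_neg]
    · exact h1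
  have hu : a * b ∈ R := R.mul_mem haR hbR
  have huu : a * b * (a * b) = -1 := by
    calc a * b * (a * b) = a * (b * a) * b := by group
      _ = -(a * a * (b * b)) := by
        have : b * a = -(a * b) := by rw [hanti, neg_neg]
        rw [this, mul_neg, neg_mul]
        group
      _ = -1 := by rw [haa, hbb, one_mul]
  have hau : a * (a * b) = -((a * b) * a) := by
    rw [mul_assoc a b a]
    have : b * a = -(a * b) := by rw [hanti, neg_neg]
    rw [this, mul_neg, neg_neg]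
  have e1 : wGL h.two_ne (a * b) huu * a * (wGL h.two_ne (a * b) huu)⁻¹ = -b := by
    rw [wGL_conj_anti h.two_ne (a * b) huu a hau, ← mul_assoc, haa, one_mul]
  obtain ⟨u', hu', huu', hub⟩ := h.exists_sqneg_comm hb
  have e2 : wGL h.two_ne u' huu' * (-b) * (wGL h.two_ne u' huu')⁻¹ = -b := by
    apply wGL_conj_comm
    rw [neg_mul, mul_neg, hub]
  obtain ⟨k, hk, hkb⟩ := h.exists_anti hbR hb1 hbn
  refine ⟨k * pGL h.two_ne u' huu' (a * b) huu, ⟨?_, ?_⟩, ?_⟩
  · exact Subgroup.mul_mem _ (Subgroup.le_normalizer hk)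
      (h.pGL_mem_normalizer u' hu' huu' (a * b) hu huu)
  · exact Subgroup.mul_mem _ (hRf hk)
      (pGL_mem_sp h.two_ne u' huu' (a * b) huu (hRf hu') (hRf hu))
  · calc k * pGL h.two_ne u' huu' (a * b) huu * a * (k * pGL h.two_ne u' huu' (a * b) huu)⁻¹
        = k * (pGL h.two_ne u' huu' (a * b) huu * a * (pGL h.two_ne u' huu' (a * b) huu)⁻¹) *
            k⁻¹ := by group
      _ = k * (-b) * k⁻¹ := by rw [pGL_conj, e1, e2]
      _ = b := by
          rw [mul_neg, hkb, neg_neg, mul_assoc, mul_inv_cancel, mul_one]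

theorem Extra.conj_mem_Sf (h : Extra R) {x : GL I4 F}
    (hx : x ∈ Subgroup.normalizer (R : Set (GL I4 F))) {g : GL I4 F} (hg : g ∈ Sf R) :
    x * g * x⁻¹ ∈ Sf R := by
  rw [mem_Sf] at hg ⊢
  obtain ⟨hg, hgg, g1, g2⟩ := hg
  refine ⟨h.conj_mem hx hg, ?_, ?_, ?_⟩
  · calc x * g * x⁻¹ * (x * g * x⁻¹) = x * (g * g) * x⁻¹ := by group
      _ = 1 := by rw [hgg]; group
  · intro h3
    apply g1
    calc g = x⁻¹ * (x * g * x⁻¹) * x := by group
      _ = 1 := by rw [h3]; group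
  · intro h3
    apply g2
    calc g = x⁻¹ * (x * g * x⁻¹) * x := by group
      _ = -1 := by rw [h3, mul_neg, neg_mul]; group

/-- `N(R) ∩ Sp_4(F)` contains an element of order five -/
theorem Extra.exists_order_five (h : Extra R) (hRf : R ≤ Cfsg.spGL 2 F) :
    ∃ t ∈ Subgroup.normalizer (R : Set (GL I4 F)) ⊓ Cfsg.spGL 2 F, orderOf t = 5 := by
  classical
  obtain ⟨H, hH⟩ : ∃ H : Subgroup (GL I4 F),
      H = Subgroup.normalizer (R : Set (GL I4 F)) ⊓ Cfsg.spGL 2 F := ⟨_, rfl⟩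
  rw [← hH]
  have hHn : ∀ t : H, (t : GL I4 F) ∈ Subgroup.normalizer (R : Set (GL I4 F)) := by
    intro t
    have h1 : H ≤ Subgroup.normalizer (R : Set (GL I4 F)) := by
      rw [hH]
      exact inf_le_left
    exact h1 t.2
  letI : MulAction H {g // g ∈ Sf R} :=
    { smul := fun t g => ⟨(t : GL I4 F) * g.1 * (t : GL I4 F)⁻¹, h.conj_mem_Sf (hHn t) g.2⟩
      one_smul := fun g => by
        apply Subtype.ext
        show ((1 : H) : GL I4 F) * g.1 * ((1 : H) : GL I4 F)⁻¹ = g.1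
        rw [Subgroup.coe_one, one_mul, inv_one, mul_one]
      mul_smul := fun s t g => by
        apply Subtype.ext
        show ((s * t : H) : GL I4 F) * g.1 * ((s * t : H) : GL I4 F)⁻¹ =
          (s : GL I4 F) * ((t : GL I4 F) * g.1 * (t : GL I4 F)⁻¹) * (s : GL I4 F)⁻¹
        rw [Subgroup.coe_mul]
        group }
  haveI : MulAction.IsPretransitive H {g // g ∈ Sf R} := by
    constructor
    intro a b
    obtain ⟨t, ht, e⟩ := h.exists_conj hRf a.2 b.2
    rw [← hH] at ht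
    exact ⟨⟨t, ht⟩, Subtype.ext e⟩
  have hX : Nat.card {g // g ∈ Sf R} = 10 := by
    rw [Nat.card_eq_fintype_card, Fintype.card_coe, h.card_Sf]
  obtain ⟨a, ha, haa, ha1, han⟩ := h.exists_invol
  have haS : a ∈ Sf R := mem_Sf.2 ⟨ha, haa, ha1, han⟩
  have hidx := MulAction.index_stabilizer_of_transitive H (⟨a, haS⟩ : {g // g ∈ Sf R})
  rw [hX] at hidx
  have hdvd : 10 ∣ Nat.card H := by
    rw [← hidx]
    exact Subgroup.index_dvd_card _
  have h5 : 5 ∣ Nat.card H := Dvd.dvd.trans (by norm_num) hdvd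
  haveI : Fact (Nat.Prime 5) := ⟨Nat.prime_five⟩
  obtain ⟨t, ht⟩ := exists_prime_orderOf_dvd_card' 5 h5
  refine ⟨t.1, t.2, ?_⟩
  rw [Subgroup.orderOf_coe]
  exact ht

end Cfsg.Agent.Lib.H25.Ex4
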