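import Mathlib
import Cfsg.Agent.Lib.H25.Ex4A
import Cfsg.Agent.Lib.H13.SpDerange

/-!
# Finite `5`-subgroups of `GL_4(q)` are cyclic when `q` has order four modulo five (helper25)
-/

set_option autoImplicit false
open scoped MatrixGroups
open Matrix Module

namespace Cfsg.Agent.Lib.H25.Ex4

variable {F : Type*} [Field F] [Fintype F]

/-- a finite group of matrices centralizing an irreducible matrix is cyclic -/
theorem cyclic_of_irred {P : Type*} [Group P] [Finite P] (ψ : P →* GL I4 F)
    (hψ : Function.Injective ψ) (y : GL I4 F) (hy : ∀ g : P, ψ g * y = y * ψ g)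
    (hirr : ∀ S : Submodule F (I4 → F), (∀ v ∈ S, (y : Matrix I4 I4 F) *ᵥ v ∈ S) →
      S = ⊥ ∨ S = ⊤) : IsCyclic P := by
  classical
  let D : Subring (Matrix I4 I4 F) := Subring.centralizer {(y : Matrix I4 I4 F)}
  have hD : ∀ d : D, (y : Matrix I4 I4 F) * (d : Matrix I4 I4 F) =
      (d : Matrix I4 I4 F) * (y : Matrix I4 I4 F) := by
    intro d
    have := d.2
    rw [Subring.mem_centralizer_iff] at this
    exact this _ rfl
  haveI : NoZeroDivisors D := by
    constructor
    intro d₁ d₂ h12
    by_cases h1 : d₁ = 0
    · left; exact h1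
    right
    have hker : LinearMap.ker (Matrix.toLin' (d₁ : Matrix I4 I4 F)) = ⊥ := by
      rcases hirr (LinearMap.ker (Matrix.toLin' (d₁ : Matrix I4 I4 F))) (by
        intro v hv
        rw [LinearMap.mem_ker, Matrix.toLin'_apply] at hv ⊢
        rw [Matrix.mulVec_mulVec, ← hD d₁, ← Matrix.mulVec_mulVec, hv, Matrix.mulVec_zero]) with
        h3 | h3
      · exact h3
      · exfalso
        apply h1
        apply Subtype.ext
        apply Matrix.toLin'.injective
        rw [LinearMap.ker_eq_top] at h3
        rw [h3]
        simp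
    apply Subtype.ext
    apply Matrix.toLin'.injective
    apply LinearMap.ext
    intro v
    have h4 : Matrix.toLin' (d₁ : Matrix I4 I4 F) (Matrix.toLin' (d₂ : Matrix I4 I4 F) v) = 0 := by
      rw [Matrix.toLin'_apply, Matrix.toLin'_apply, Matrix.mulVec_mulVec]
      have := congrArg (fun d : D => (d : Matrix I4 I4 F)) h12
      simp only [Subring.coe_mul, Subring.coe_zero] at this
      rw [this, Matrix.zero_mulVec]
    have h5 := LinearMap.ker_eq_bot.1 hker
    have h6 : Matrix.toLin' (d₂ : Matrix I4 I4 F) v = 0 := by
      apply h5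
      rw [h4, map_zero]
    rw [h6]
    simp
  haveI : IsDomain D := NoZeroDivisors.to_isDomain D
  have hfield : IsField D := Finite.isDomain_to_isField D
  letI : CommRing D := { (inferInstance : Ring D) with mul_comm := hfield.mul_comm }
  haveI : IsDomain D := NoZeroDivisors.to_isDomain D
  let f : P →* D :=
    { toFun := fun g => ⟨((ψ g : GL I4 F) : Matrix I4 I4 F), by
        rw [Subring.mem_centralizer_iff]
        intro z hz
        rw [Set.mem_singleton_iff] at hz
        rw [hz, ← Units.val_mul, ← Units.val_mul, hy g]⟩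
      map_one' := by
        apply Subtype.ext
        simp
      map_mul' := fun a b => by
        apply Subtype.ext
        simp }
  have hf : Function.Injective f := by
    intro a b hab
    apply hψ
    apply Units.ext
    exact congrArg (fun d : D => (d : Matrix I4 I4 F)) hab
  exact isCyclic_of_injective_ringHom f hf

/-- finite `5`-groups of `4 × 4` matrices over a field whose order has order four modulo
five are cyclic -/
theorem cyclic_of_ppd (q : ℕ) (hq : Fintype.card F = q) (h5q : ¬ 5 ∣ q)
    (hmin : ∀ k, 0 < k → k < 4 → ¬ 5 ∣ q ^ k - 1) {P : Type*} [Group P] [Finite P]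
    (hP : IsPGroup 5 P) (ψ : P →* GL I4 F) (hψ : Function.Injective ψ) : IsCyclic P := by
  classical
  haveI : Fact (Nat.Prime 5) := ⟨Nat.prime_five⟩
  rcases subsingleton_or_nontrivial P with hs | hn
  · exact isCyclic_of_subsingleton
  · haveI := hP.center_nontrivial
    have hdvd : 5 ∣ Nat.card (Subgroup.center P) := by
      rcases (hP.to_subgroup (Subgroup.center P)).card_eq_or_dvd with h1 | h1
      · exfalso
        have := Finite.one_lt_card_iff_nontrivial.2 (inferInstance : Nontrivial (Subgroup.center P))
        omega
      · exact h1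
    obtain ⟨y₀, hy₀⟩ := exists_prime_orderOf_dvd_card' 5 hdvd
    have hy₀c : ∀ g : P, g * (y₀ : P) = (y₀ : P) * g := by
      intro g
      exact (Subgroup.mem_center_iff.1 y₀.2 g)
    have hord : orderOf (ψ (y₀ : P)) = 5 := by
      rw [orderOf_injective ψ hψ, Subgroup.orderOf_coe]
      exact hy₀
    set y := ψ (y₀ : P) with hy
    have hy5 : y ^ 5 = 1 := by rw [← hord]; exact pow_orderOf_eq_one y
    have hy1 : y ≠ 1 := by
      intro h1
      rw [h1, orderOf_one] at hord
      omega
    apply cyclic_of_irred ψ hψ y
    · intro g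
      rw [hy, ← map_mul, ← map_mul, hy₀c g]
    · intro S hS
      apply Cfsg.Agent.Lib.H13.SpDerange.irreducible_of_ppd q hq 4 (by
          rw [Module.finrank_fintype_fun_eq_card]; simp [I4]) 5 h5q hmin
        (Matrix.toLin' (y : Matrix I4 I4 F))
      · rw [← Cfsg.Agent.Lib.H13.SpDerange.toLin'_pow', ← Units.val_pow_eq_pow_val, hy5,
          Units.val_one, Matrix.toLin'_one]
        rfl
      · intro h1
        apply hy1
        apply Units.ext
        apply Matrix.toLin'.injective
        rw [h1, Units.val_one, Matrix.toLin'_one]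
        rfl
      · intro v hv
        rw [Matrix.toLin'_apply]
        exact hS v hv

end Cfsg.Agent.Lib.H25.Ex4
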