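import Mathlib
import Cfsg.Agent.Lib.H25.Ex4I
import Cfsg.Agent.Lib.H25.Ex4J
import Cfsg.Agent.Lib.H23.SpUF

/-!
# Elements of order five of `Sp_4(q)`, `q` of order four modulo five, fix a point (helper25)
-/

set_option autoImplicit false
open scoped MatrixGroups
open Matrix

namespace Cfsg.Agent.Lib.H25.Ex4

theorem mem_zpowers_of_cyclic {P : Type*} [Group P] [Finite P] [IsCyclic P] {t c : P} {n : ℕ}
    (hn : 0 < n) (ht : orderOf t = n) (hc : c ^ n = 1) : c ∈ Subgroup.zpowers t := by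
  classical
  haveI : Fintype P := Fintype.ofFinite P
  have h1 := IsCyclic.card_pow_eq_one_le (α := P) hn
  have h2 : ((Subgroup.zpowers t : Set P).toFinset).card = n := by
    rw [Set.toFinset_card, ← Nat.card_eq_fintype_card]
    show Nat.card (Subgroup.zpowers t) = n
    rw [Nat.card_zpowers, ht]
  have h3 : (Subgroup.zpowers t : Set P).toFinset ⊆ Finset.univ.filter (fun a : P => a ^ n = 1) := by
    intro a ha
    rw [Set.mem_toFinset, SetLike.mem_coe, Subgroup.mem_zpowers_iff] at ha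
    obtain ⟨k, rfl⟩ := ha
    rw [Finset.mem_filter]
    refine ⟨Finset.mem_univ _, ?_⟩
    rw [← zpow_natCast, ← _root_.zpow_mul, mul_comm, _root_.zpow_mul, zpow_natCast, ← ht,
      pow_orderOf_eq_one, _root_.one_zpow]
  have h4 := Finset.eq_of_subset_of_card_le h3 (by rw [h2]; exact h1)
  have h5 : c ∈ Finset.univ.filter (fun a : P => a ^ n = 1) := by
    rw [Finset.mem_filter]
    exact ⟨Finset.mem_univ _, hc⟩
  rw [← h4, Set.mem_toFinset] at h5
  exact h5

/-- if the Sylow `p`-subgroups are cyclic, any two elements of order `p` generate conjugate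
subgroups -/
theorem conj_mem_zpowers {G : Type*} [Group G] [Finite G] (p : ℕ) [Fact p.Prime]
    (hcyc : ∀ P : Sylow p G, IsCyclic P) (t x : G) (ht : orderOf t = p) (hx : orderOf x = p) :
    ∃ g : G, g⁻¹ * x * g ∈ Subgroup.zpowers t := by
  have hp : p.Prime := Fact.out
  have hpg : ∀ y : G, orderOf y = p → IsPGroup p (Subgroup.zpowers y) := by
    intro y hy
    apply IsPGroup.of_card (n := 1)
    rw [Nat.card_zpowers, hy, pow_one]
  obtain ⟨P, hP⟩ := (hpg t ht).exists_le_sylow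
  obtain ⟨Q, hQ⟩ := (hpg x hx).exists_le_sylow
  obtain ⟨g, hg⟩ := MulAction.exists_smul_eq G P Q
  have hxQ : x ∈ (Q : Subgroup G) := hQ (Subgroup.mem_zpowers x)
  have htP : t ∈ (P : Subgroup G) := hP (Subgroup.mem_zpowers t)
  have hc : g⁻¹ * x * g ∈ (P : Subgroup G) := by
    rw [← hg, Sylow.coe_subgroup_smul, Subgroup.mem_pointwise_smul_iff_inv_smul_mem] at hxQ
    have e : (MulAut.conj g)⁻¹ • x = g⁻¹ * x * g := by
      rw [MulAut.smul_def, MulAut.conj_inv_apply]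
    rwa [e] at hxQ
  haveI := hcyc P
  have h1 : orderOf (⟨t, htP⟩ : (P : Subgroup G)) = p := by
    rw [Subgroup.orderOf_mk t htP]
    exact ht
  have h2 : (⟨g⁻¹ * x * g, hc⟩ : (P : Subgroup G)) ^ p = 1 := by
    apply Subtype.ext
    rw [Subgroup.coe_pow, Subgroup.coe_one]
    show (g⁻¹ * x * g) ^ p = 1
    have e : (g⁻¹ * x * g) ^ p = g⁻¹ * x ^ p * g := by
      have := conj_pow (a := g⁻¹) (b := x) (i := p)
      rwa [inv_inv] at this
    rw [e, ← hx, pow_orderOf_eq_one]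
    group
  have h3 := mem_zpowers_of_cyclic hp.pos h1 h2
  rw [Subgroup.mem_zpowers_iff] at h3
  obtain ⟨k, hk⟩ := h3
  refine ⟨g, ?_⟩
  rw [Subgroup.mem_zpowers_iff]
  refine ⟨k, ?_⟩
  have := congrArg (fun z : (P : Subgroup G) => (z : G)) hk
  simpa using this

open Cfsg.Agent.Lib.H23.SpU

variable {F : Type*} [Field F]

/-- a scalar symplectic matrix is `±1` -/
theorem scalar_of_mem_sp {y : GL I4 F} (hy : y ∈ Cfsg.spGL 2 F) {z : F}
    (hz : (y : Matrix I4 I4 F) = z • (1 : Matrix I4 I4 F)) : z = 1 ∨ z = -1 := by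
  have hzz : z * z = 1 := by
    obtain ⟨u, v, huv⟩ := exists_form_ne_zero (F := F) (d := 2) (by norm_num)
    have h1 := (mem_spGL_iff y).1 hy u v
    rw [hz, Matrix.smul_mulVec, Matrix.smul_mulVec, Matrix.one_mulVec, Matrix.one_mulVec,
      Cfsg.Agent.Lib.H4.sympForm_smul_left, Cfsg.Agent.Lib.H4.sympForm_smul_right, ← mul_assoc] at h1
    have h3 : (z * z - 1) * Cfsg.sympForm 2 F u v = 0 := by
      rw [sub_mul, h1, one_mul, sub_self]
    rcases mul_eq_zero.1 h3 with h4 | h4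
    · exact sub_eq_zero.1 h4
    · exact absurd h4 huv
  have : (z - 1) * (z + 1) = 0 := by linear_combination hzz
  rcases mul_eq_zero.1 this with h4 | h4
  · left; exact sub_eq_zero.1 h4
  · right; exact eq_neg_of_add_eq_zero_left h4

variable [Fintype F] {R : Subgroup (GL I4 F)}

/-- every element of order five modulo scalars of `Sp_4(q)` has a conjugate normalizing `R`,
when `q` has order four modulo five -/
theorem Extra.five_suff (h : Extra R) (hRf : R ≤ Cfsg.spGL 2 F) (q : ℕ)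
    (hq : Fintype.card F = q) (h5q : ¬ 5 ∣ q) (hmin : ∀ k, 0 < k → k < 4 → ¬ 5 ∣ q ^ k - 1)
    (x : GL I4 F) (hx : x ∈ Cfsg.spGL 2 F)
    (hxr : ∃ z : F, ((x ^ 5 : GL I4 F) : Matrix I4 I4 F) = z • (1 : Matrix I4 I4 F))
    (hns : ∀ z : F, (x : Matrix I4 I4 F) ≠ z • (1 : Matrix I4 I4 F)) :
    ∃ g ∈ Cfsg.spGL 2 F, g⁻¹ * x * g ∈ Subgroup.normalizer (R : Set (GL I4 F)) := by
  classical
  haveI : Fact (Nat.Prime 5) := ⟨Nat.prime_five⟩
  obtain ⟨z, hz⟩ := hxr
  have hneg_sp : (-1 : GL I4 F) ∈ Cfsg.spGL 2 F := hRf h.neg_mem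
  -- normalise to an element of order five
  obtain ⟨x₁, hx₁, hx₁5, hx₁1, hx₁x⟩ : ∃ x₁ ∈ Cfsg.spGL 2 F, x₁ ^ 5 = 1 ∧ x₁ ≠ 1 ∧
      (x = x₁ ∨ x = -x₁) := by
    rcases scalar_of_mem_sp ((Cfsg.spGL 2 F).pow_mem hx 5) hz with rfl | rfl
    · refine ⟨x, hx, ?_, ?_, Or.inl rfl⟩
      · apply Units.ext
        rw [hz, one_smul, Units.val_one]
      · intro h1
        apply hns 1
        rw [h1, Units.val_one, one_smul]
    · refine ⟨-x, ?_, ?_, ?_, Or.inr (neg_neg x).symm⟩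
      · have : -x = (-1 : GL I4 F) * x := by rw [neg_mul, one_mul]
        rw [this]
        exact (Cfsg.spGL 2 F).mul_mem hneg_sp hx
      · have h5 : x ^ 5 = -1 := by
          apply Units.ext
          rw [hz, neg_smul, one_smul, Units.val_neg, Units.val_one]
        rw [Odd.neg_pow (by decide), h5, neg_neg]
      · intro h1
        apply hns (-1)
        have : x = -1 := by rw [← h1, neg_neg]
        rw [this, Units.val_neg, Units.val_one, neg_smul, one_smul]
  obtain ⟨t, ht, ht5⟩ := h.exists_order_five hRf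
  have hcyc : ∀ P : Sylow 5 (Cfsg.spGL 2 F), IsCyclic P := by
    intro P
    apply cyclic_of_ppd q hq h5q hmin P.isPGroup'
      ((Cfsg.spGL 2 F).subtype.comp (P : Subgroup (Cfsg.spGL 2 F)).subtype)
    intro a b hab
    apply Subtype.ext
    apply Subtype.ext
    exact hab
  have hto : orderOf (⟨t, ht.2⟩ : Cfsg.spGL 2 F) = 5 := by
    rw [Subgroup.orderOf_mk]
    exact ht5
  have hxo : orderOf (⟨x₁, hx₁⟩ : Cfsg.spGL 2 F) = 5 := by
    rw [Subgroup.orderOf_mk]
    exact orderOf_eq_prime hx₁5 hx₁1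
  obtain ⟨g, hg⟩ := conj_mem_zpowers 5 hcyc _ _ hto hxo
  rw [Subgroup.mem_zpowers_iff] at hg
  obtain ⟨k, hk⟩ := hg
  have hk' : t ^ k = (g : GL I4 F)⁻¹ * x₁ * (g : GL I4 F) := by
    have := congrArg (fun y : Cfsg.spGL 2 F => (y : GL I4 F)) hk
    simpa using this
  have hmem : (g : GL I4 F)⁻¹ * x₁ * (g : GL I4 F) ∈ Subgroup.normalizer (R : Set (GL I4 F)) := by
    rw [← hk']
    exact Subgroup.zpow_mem _ ht.1 k
  refine ⟨g, g.2, ?_⟩
  rcases hx₁x with rfl | rfl
  · exact hmem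
  · have e : (g : GL I4 F)⁻¹ * (-x₁) * (g : GL I4 F) =
        (-1 : GL I4 F) * ((g : GL I4 F)⁻¹ * x₁ * (g : GL I4 F)) := by
      rw [mul_neg, neg_mul, neg_mul, one_mul]
    rw [e]
    exact Subgroup.mul_mem _ (Subgroup.le_normalizer h.neg_mem) hmem

end Cfsg.Agent.Lib.H25.Ex4
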