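import Mathlib
import Cfsg.Agent.Lib.H25.Ex4A
import Cfsg.Agent.Lib.H22.SympExtra3

/-!
# The hypotheses of S6002 give the elementwise data `Extra R` (helper25)
-/

set_option autoImplicit false
open scoped MatrixGroups
open Matrix

namespace Cfsg.Agent.Lib.H25.Ex4

variable {F : Type*} [Field F]

/-- the minus type condition, elementwise -/
theorem minus_of_hyp {R : Subgroup (GL I4 F)} (h2 : (2 : F) ≠ 0) (hneg : (-1 : GL I4 F) ∈ R)
    (hcard : Nat.card R = 32) (hRm : Cfsg.Geo.IsOfMinusType 2 R)
    (a : GL I4 F) (ha : a ∈ R) (b : GL I4 F) (hb : b ∈ R) (haa : a * a = 1) (hbb : b * b = 1)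
    (hab : a * b = b * a) (ha1 : a ≠ 1) (han : a ≠ -1) (hb1 : b ≠ 1) (hbn : b ≠ -1) :
    a = b ∨ a = -b := by
  by_contra hcon
  rw [not_or] at hcon
  obtain ⟨hne, hnn⟩ := hcon
  haveI : Finite R := Nat.finite_of_card_ne_zero (by rw [hcard]; norm_num)
  set z' : R := ⟨-1, hneg⟩ with hz'
  set a' : R := ⟨a, ha⟩ with ha'
  set b' : R := ⟨b, hb⟩ with hb'
  set A : Subgroup R := Subgroup.closure {z', a', b'} with hA
  have hz'c : ∀ x : R, x * z' = z' * x := by
    intro x
    apply Subtype.ext
    show (x : GL I4 F) * (-1) = (-1) * (x : GL I4 F)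
    rw [mul_neg, neg_mul, mul_one, one_mul]
  have hcomm : ∀ x ∈ ({z', a', b'} : Set R), ∀ y ∈ ({z', a', b'} : Set R), x * y = y * x := by
    have hab' : a' * b' = b' * a' := Subtype.ext hab
    intro x hx y hy
    simp only [Set.mem_insert_iff, Set.mem_singleton_iff] at hx hy
    rcases hx with rfl | rfl | rfl <;> rcases hy with rfl | rfl | rfl
    · rfl
    · exact (hz'c _).symm
    · exact (hz'c _).symm
    · exact hz'c _
    · rfl
    · exact hab'
    · exact hz'c _
    · exact hab'.symm
    · rfl
  haveI hAc : IsMulCommutative A := Subgroup.isMulCommutative_closure hcomm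
  have hsq : ∀ x ∈ A, x * x = 1 := by
    intro x hx
    induction hx using Subgroup.closure_induction with
    | mem x hx =>
      simp only [Set.mem_insert_iff, Set.mem_singleton_iff] at hx
      rcases hx with rfl | rfl | rfl
      · apply Subtype.ext
        show (-1 : GL I4 F) * (-1) = 1
        rw [neg_mul_neg, one_mul]
      · exact Subtype.ext haa
      · exact Subtype.ext hbb
    | one => exact one_mul 1
    | mul x y hx hy hxx hyy =>
      have hxy : x * y = y * x := by
        have := isMulCommutative_iff.1 hAc (⟨x, hx⟩ : A) ⟨y, hy⟩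
        exact congrArg (fun u : A => (u : R)) this
      calc x * y * (x * y) = x * (y * x) * y := by group
        _ = x * x * (y * y) := by rw [← hxy]; group
        _ = 1 := by rw [hxx, hyy, one_mul]
    | inv x hx hxx =>
      have : x⁻¹ = x := inv_eq_of_mul_eq_one_right hxx
      rw [this, hxx]
  have hlt := hRm A hAc hsq
  -- five distinct elements
  have hzA : z' ∈ A := Subgroup.subset_closure (by simp)
  have haA : a' ∈ A := Subgroup.subset_closure (by simp)
  have hbA : b' ∈ A := Subgroup.subset_closure (by simp)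
  have hsub : ({1, z', a', b', z' * a'} : Set R) ⊆ (A : Set R) := by
    intro x hx
    simp only [Set.mem_insert_iff, Set.mem_singleton_iff] at hx
    rcases hx with rfl | rfl | rfl | rfl | rfl
    · exact A.one_mem
    · exact hzA
    · exact haA
    · exact hbA
    · exact A.mul_mem hzA haA
  have hval : ∀ x y : R, (x : GL I4 F) ≠ (y : GL I4 F) → x ≠ y := fun x y h h' => h (congrArg _ h')
  have hza : ((z' * a' : R) : GL I4 F) = -a := by
    show (-1 : GL I4 F) * a = -a
    rw [neg_mul, one_mul]
  have hcard5 : ({1, z', a', b', z' * a'} : Set R).ncard = 5 := by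
    rw [Set.ncard_insert_of_notMem, Set.ncard_insert_of_notMem, Set.ncard_insert_of_notMem,
      Set.ncard_insert_of_notMem, Set.ncard_singleton]
    · rw [Set.mem_singleton_iff]
      apply hval
      rw [hza]
      intro h3
      apply hnn
      have h4 : b = -a := h3
      rw [h4, neg_neg]
    · simp only [Set.mem_insert_iff, Set.mem_singleton_iff, not_or]
      refine ⟨hval _ _ hne, hval _ _ ?_⟩
      rw [hza]
      exact fun h3 => neg_ne_self h2 a h3.symm
    · simp only [Set.mem_insert_iff, Set.mem_singleton_iff, not_or]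
      refine ⟨hval _ _ (Ne.symm han), hval _ _ (Ne.symm hbn), hval _ _ ?_⟩
      rw [hza]
      show (-1 : GL I4 F) ≠ -a
      intro h3
      apply ha1
      have := congrArg (fun u : GL I4 F => -u) h3
      simpa using this.symm
    · simp only [Set.mem_insert_iff, Set.mem_singleton_iff, not_or]
      refine ⟨hval _ _ ?_, hval _ _ (Ne.symm ha1), hval _ _ (Ne.symm hb1), hval _ _ ?_⟩
      · show (1 : GL I4 F) ≠ -1
        exact fun h3 => neg_ne_self h2 1 h3.symm
      · rw [hza]
        show (1 : GL I4 F) ≠ -a
        intro h3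
        apply han
        rw [h3, neg_neg]
  have hge : 5 ≤ Nat.card A := by
    rw [← hcard5]
    have := Set.ncard_le_ncard hsub (Set.toFinite _)
    rwa [← Nat.card_coe_set_eq (A : Set R)] at this
  have hdvd : Nat.card A ∣ 32 := by
    rw [← hcard]
    exact Subgroup.card_subgroup_dvd_card A
  have h8 : Nat.card A < 8 := by
    have : (2 : ℕ) ^ (2 + 1) = 8 := by norm_num
    rw [← this]
    exact hlt
  have hle : Nat.card A ≤ 32 := Nat.le_of_dvd (by norm_num) hdvd
  obtain ⟨n, hn⟩ : ∃ n, n = Nat.card A := ⟨_, rfl⟩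
  rw [← hn] at hge hdvd h8
  interval_cases n <;> omega

/-- the hypotheses of S6002 give the elementwise data -/
theorem extra_of_hyp {p : ℕ} [Fact p.Prime] [CharP F p] (hodd : Odd p)
    (R : Subgroup (GL I4 F)) (hRs : Cfsg.Geo.IsSymplecticTypeGroup 2 R)
    (hRi : Cfsg.Geo.ActsAbsolutelyIrreducibly (Cfsg.Geo.matrixSet R))
    (hR5 : Nat.card R = 2 ^ 5) (hRZ : Nat.card (Subgroup.center R) = 2)
    (hRm : Cfsg.Geo.IsOfMinusType 2 R) : Extra R := by
  have hp : p.Prime := Fact.out
  have h2 : (2 : F) ≠ 0 := by
    intro h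
    have h1 : ((2 : ℕ) : F) = 0 := by exact_mod_cast h
    rw [CharP.cast_eq_zero_iff F p] at h1
    have := (Nat.prime_dvd_prime_iff_eq hp Nat.prime_two).1 h1
    rw [this] at hodd
    exact absurd hodd (by decide)
  have hcard : Nat.card R = 32 := by rw [hR5]; norm_num
  haveI : Finite R := Nat.finite_of_card_ne_zero (by rw [hcard]; norm_num)
  have hscal : ∀ M : Matrix I4 I4 F,
      (∀ a ∈ R, M * (a : Matrix I4 I4 F) = (a : Matrix I4 I4 F) * M) →
        ∃ c : F, M = c • (1 : Matrix I4 I4 F) := by
    intro M hM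
    apply hRi.2 M
    rintro s ⟨g, hg, rfl⟩
    exact hM g hg
  -- the central involution is `-1`
  have hneg : (-1 : GL I4 F) ∈ R := by
    haveI : Nontrivial (Subgroup.center R) := by
      rw [← Finite.one_lt_card_iff_nontrivial, hRZ]
      norm_num
    obtain ⟨c, hc⟩ := exists_ne (1 : Subgroup.center R)
    have hcc : ∀ a : R, a * (c : R) = (c : R) * a := fun a => Subgroup.mem_center_iff.1 c.2 a
    obtain ⟨l, hl⟩ := hscal (((c : R) : GL I4 F) : Matrix I4 I4 F) (by
      intro a ha
      have := hcc ⟨a, ha⟩
      have := congrArg (fun u : R => ((u : GL I4 F) : Matrix I4 I4 F)) this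
      simp only [Subgroup.coe_mul, Units.val_mul] at this
      exact this.symm)
    have hc2 : c ^ 2 = 1 := by
      have := pow_card_eq_one' (G := Subgroup.center R) (x := c)
      rwa [hRZ] at this
    have hM2 : (((c : R) : GL I4 F) : Matrix I4 I4 F) * (((c : R) : GL I4 F) : Matrix I4 I4 F) =
        1 := by
      have := congrArg (fun u : Subgroup.center R => (((u : R) : GL I4 F) : Matrix I4 I4 F)) hc2
      simpa [pow_two] using this
    rw [hl, Matrix.smul_mul, Matrix.mul_smul, Matrix.one_mul, smul_smul] at hM2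
    have hll : l * l = 1 := by
      have := congrFun (congrFun hM2 (Sum.inl 0)) (Sum.inl 0)
      simpa using this
    have hl1 : l = 1 ∨ l = -1 := by
      have : (l - 1) * (l + 1) = 0 := by linear_combination hll
      rcases mul_eq_zero.1 this with h4 | h4
      · left; exact sub_eq_zero.1 h4
      · right; exact eq_neg_of_add_eq_zero_left h4
    rcases hl1 with rfl | rfl
    · exfalso
      apply hc
      apply Subtype.ext
      apply Subtype.ext
      apply Units.ext
      rw [hl, one_smul]
      rfl
    · have : (-1 : GL I4 F) = ((c : R) : GL I4 F) := by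
        apply Units.ext
        rw [hl, neg_smul, one_smul, Units.val_neg, Units.val_one]
      rw [this]
      exact (c : R).2
  set z' : R := ⟨-1, hneg⟩ with hz'
  have hz1 : z' ≠ 1 := by
    intro h
    have := congrArg (fun u : R => (u : GL I4 F)) h
    exact neg_ne_self h2 1 this
  have hzz : z' * z' = 1 := by
    apply Subtype.ext
    show (-1 : GL I4 F) * (-1) = 1
    rw [neg_mul_neg, one_mul]
  have hzc : ∀ a : R, a * z' = z' * a := by
    intro x
    apply Subtype.ext
    show (x : GL I4 F) * (-1) = (-1) * (x : GL I4 F)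
    rw [mul_neg, neg_mul, mul_one, one_mul]
  have h4 : ∀ q : R, q ^ 4 = 1 := by
    intro q
    have h5 : Monoid.exponent R = 4 := by
      rw [hRs.exponent_eq]
      rfl
    rw [← h5]
    exact Monoid.pow_exponent_eq_one q
  obtain ⟨d1, d2, d3⟩ := Cfsg.Agent.Lib.H22.LargeExtra.symp_data hRs.pGroup
    hRs.cyclic_of_characteristic h4 z' hz1 hzz hzc
  refine ⟨h2, hneg, hcard, ?_, ?_, ?_, hscal, ?_⟩
  · intro a ha
    rcases d2 ⟨a, ha⟩ with h5 | h5
    · left
      exact congrArg (fun u : R => (u : GL I4 F)) h5
    · right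
      exact congrArg (fun u : R => (u : GL I4 F)) h5
  · intro a ha b hb
    rcases d1 ⟨a, ha⟩ ⟨b, hb⟩ with h5 | h5
    · left
      have h6 := congrArg (fun u : R => (u : GL I4 F)) h5
      simp only [Subgroup.coe_mul, Subgroup.coe_inv, Subgroup.coe_one] at h6
      calc a * b = a * b * a⁻¹ * b⁻¹ * (b * a) := by group
        _ = b * a := by rw [h6, one_mul]
    · right
      have h6 := congrArg (fun u : R => (u : GL I4 F)) h5
      simp only [Subgroup.coe_mul, Subgroup.coe_inv] at h6
      calc a * b = a * b * a⁻¹ * b⁻¹ * (b * a) := by group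
        _ = -(b * a) := by
          rw [h6]
          show (-1 : GL I4 F) * (b * a) = -(b * a)
          rw [neg_mul, one_mul]
  · intro c hc hcc
    have hcen : (⟨c, hc⟩ : R) ∈ Subgroup.center R := by
      rw [Subgroup.mem_center_iff]
      intro a
      apply Subtype.ext
      exact hcc a a.2
    rcases d3 ⟨c, hc⟩ (fun a => Subtype.ext (hcc a a.2)) with h5 | h5 | h5
    · left
      exact congrArg (fun u : R => (u : GL I4 F)) h5
    · right
      exact congrArg (fun u : R => (u : GL I4 F)) h5
    · exfalso
      have h6 : (⟨⟨c, hc⟩, hcen⟩ : Subgroup.center R) ^ 2 = 1 := by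
        have := pow_card_eq_one' (G := Subgroup.center R) (x := ⟨⟨c, hc⟩, hcen⟩)
        rwa [hRZ] at this
      have h7 : (⟨c, hc⟩ : R) * ⟨c, hc⟩ = 1 := by
        have := congrArg (fun u : Subgroup.center R => (u : R)) h6
        simpa [pow_two] using this
      rw [h7] at h5
      exact hz1 h5.symm
  · intro a ha b hb haa hbb hab ha1 han hb1 hbn
    exact minus_of_hyp h2 hneg hcard hRm a ha b hb haa hbb hab ha1 han hb1 hbn

end Cfsg.Agent.Lib.H25.Ex4
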