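import Mathlib
import Cfsg.Agent.Lib.H25.Ex4D
import Cfsg.Agent.Lib.H25.Ex4F
import Cfsg.Agent.Lib.H25.Ex4G
import Cfsg.Agent.Lib.H25.Ex4K
import Cfsg.Agent.Lib.H25.Ex4L
import Cfsg.Agent.Lib.H25.Ex4M

/-!
# S6002: prime order elements of `PSp_4(p)` and the normalizer of `2^{1+4}_-` (helper25)
-/

set_option autoImplicit false
open scoped MatrixGroups
open Matrix

namespace Cfsg.Agent.Lib.H25.Ex4

open Cfsg.Agent.Lib.H23.SpU

theorem prime_ge_seven {r : ℕ} (hr : r.Prime) (h2 : r ≠ 2) (h3 : r ≠ 3) (h5 : r ≠ 5) : 7 ≤ r := by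
  by_contra hlt
  push Not at hlt
  have := hr.two_le
  interval_cases r
  · exact h2 rfl
  · exact h3 rfl
  · exact absurd hr (by norm_num)
  · exact h5 rfl
  · exact absurd hr (by norm_num)

theorem natCast_ne_zero_of_prime_ne {F : Type*} [Field F] {p : ℕ} [CharP F p] (hp : p.Prime)
    {n : ℕ} (hn : n.Prime) (hne : n ≠ p) : ((n : ℕ) : F) ≠ 0 := by
  intro h
  rw [CharP.cast_eq_zero_iff F p] at h
  exact hne ((Nat.prime_dvd_prime_iff_eq hp hn).1 h).symm

theorem main {F : Type*} [Field F] [Fintype F] {p : ℕ} [Fact p.Prime] [CharP F p]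
    (hF : Fintype.card F = p) (hodd : Odd p)
    (R : Subgroup (GL I4 F)) (hRs : Cfsg.Geo.IsSymplecticTypeGroup 2 R)
    (hRi : Cfsg.Geo.ActsAbsolutelyIrreducibly (Cfsg.Geo.matrixSet R))
    (hRf : R ≤ Cfsg.spGL 2 F) (hR5 : Nat.card R = 2 ^ 5) (hRZ : Nat.card (Subgroup.center R) = 2)
    (hRm : Cfsg.Geo.IsOfMinusType 2 R) (r : ℕ) [Fact r.Prime]
    (hΩ : r ∣ (Cfsg.Geo.subgroupNormalizer R).relIndex (Cfsg.spGL 2 F)) :
    (∀ x ∈ Cfsg.spGL 2 F,
      (∃ z : F, ((x ^ r : GL I4 F) : Matrix I4 I4 F) = z • (1 : Matrix I4 I4 F)) →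
      (∀ z : F, (x : Matrix I4 I4 F) ≠ z • (1 : Matrix I4 I4 F)) →
      ∃ g ∈ Cfsg.spGL 2 F, g⁻¹ * x * g ∈ Cfsg.Geo.subgroupNormalizer R) ↔
      (r = 2 ∨ (r = 5 ∧ orderOf (p : ZMod 5) = 4)) := by
  have h := extra_of_hyp hodd R hRs hRi hR5 hRZ hRm
  have hp : p.Prime := Fact.out
  have hr : r.Prime := Fact.out
  have hp2 : p ≠ 2 := by
    intro h2
    rw [h2] at hodd
    exact absurd hodd (by decide)
  have hodd' : Fintype.card F % 2 = 1 := by
    rw [hF]
    exact Nat.odd_iff.1 hodd
  unfold Cfsg.Geo.subgroupNormalizer at hΩ ⊢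
  constructor
  · intro hall
    by_contra hcon
    rw [not_or, not_and] at hcon
    obtain ⟨hr2, hr5⟩ := hcon
    by_cases hrp : r = p
    · -- a transvection
      have hv : (Pi.single (Sum.inl 0) 1 : I4 → F) ≠ 0 := by
        intro h0
        have := congrFun h0 (Sum.inl 0)
        simp at this
      haveI : CharP F r := by rw [hrp]; infer_instance
      obtain ⟨g, _, hmem⟩ := hall (tvGL (Pi.single (Sum.inl 0) 1)) (tvGL_mem _)
        ⟨1, by rw [tvGL_pow _ r, one_smul]⟩ (tvGL_not_scalar _ hv)
      exact h.derange_tv _ hv g hmem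
    · by_cases hr3 : r = 3
      · have h3 : (3 : F) ≠ 0 := by
          have := natCast_ne_zero_of_prime_ne (F := F) hp Nat.prime_three (by rw [← hr3]; exact hrp)
          exact_mod_cast this
        obtain ⟨g, _, hmem⟩ := hall (embGL (yt (-1 : F))) (embGL_mem _)
          (by rw [hr3]; exact embGL_pow_scalar _ 3 yt_pow_three) (embGL_yt_not_scalar _)
        exact h.derange3 h3 g hmem
      · by_cases hr5' : r = 5
        · have h5 : (5 : F) ≠ 0 := by
            have := natCast_ne_zero_of_prime_ne (F := F) hp Nat.prime_five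
              (by rw [← hr5']; exact hrp)
            exact_mod_cast this
          have hp5 : p ≠ 5 := by
            intro h6
            apply hrp
            rw [hr5', h6]
          obtain ⟨τ, hτ⟩ := exists_tau (F := F) (p := p) hp2 (mod_of_order_ne hp hp5 (hr5 hr5'))
          obtain ⟨g, _, hmem⟩ := hall (embGL (yt τ)) (embGL_mem _)
            (by rw [hr5']; exact embGL_pow_scalar _ 5 (yt_pow_five τ hτ)) (embGL_yt_not_scalar _)
          exact h.derange5 h5 τ hτ g hmem
        · have hr7 := prime_ge_seven hr hr2 hr3 hr5'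
          have hdvd : r ∣ Nat.card (Cfsg.spGL 2 F) := dvd_trans hΩ (Subgroup.relIndex_dvd_card _ _)
          obtain ⟨x₀, hx₀⟩ := exists_prime_orderOf_dvd_card' r hdvd
          have hxo : orderOf (x₀ : GL I4 F) = r := by
            rw [Subgroup.orderOf_coe]
            exact hx₀
          have hxr : ∃ z : F, (((x₀ : GL I4 F) ^ r : GL I4 F) : Matrix I4 I4 F) =
              z • (1 : Matrix I4 I4 F) := by
            refine ⟨1, ?_⟩
            rw [← hxo, pow_orderOf_eq_one, Units.val_one, one_smul]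
          have hns : ∀ z : F, ((x₀ : GL I4 F) : Matrix I4 I4 F) ≠ z • (1 : Matrix I4 I4 F) := by
            intro z hz
            rcases scalar_of_mem_sp x₀.2 hz with rfl | rfl
            · have : (x₀ : GL I4 F) = 1 := by
                apply Units.ext
                rw [hz, one_smul, Units.val_one]
              rw [this, orderOf_one] at hxo
              omega
            · have : (x₀ : GL I4 F) = -1 := by
                apply Units.ext
                rw [hz, neg_smul, one_smul, Units.val_neg, Units.val_one]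
              have h2 : (x₀ : GL I4 F) ^ 2 = 1 := by
                rw [this, pow_two, neg_mul_neg, one_mul]
              have := orderOf_dvd_of_pow_eq_one h2
              rw [hxo] at this
              have := Nat.le_of_dvd (by norm_num) this
              omega
          obtain ⟨g, _, hmem⟩ := hall x₀ x₀.2 hxr hns
          exact (h.derange_core r hxr hns g hmem).2.2 hr7
  · rintro (rfl | ⟨rfl, h4⟩)
    · intro x hx hxr hns
      exact h.two_suff hRf hodd' x hx hxr hns
    · intro x hx hxr hns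
      obtain ⟨h5p, hmin⟩ := hmin_of_order hp h4
      exact h.five_suff hRf p hF h5p hmin x hx hxr hns

end Cfsg.Agent.Lib.H25.Ex4
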