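import Cfsg.Agent.S5119
import Cfsg.Agent.Lib.H25.NormalSeries

/-!
# The `Aut_F(T)`-core of a subgroup of `T` (towards S5159)

For an invariant subsystem `E` over `T` of `F` and a subgroup `U` of `T` strongly closed in `E`, the subgroup
`autCoreFn F T U = {x ∈ T | a x ∈ U for every a ∈ Aut_F(T)}` is strongly closed in `F`; the construction is monotone,
respects abelian factors, and fixes `⊥` and `T`.  (helper25)
-/

set_option autoImplicit false

namespace Cfsg.Agent.Lib.H25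

open Cfsg Cfsg.FusionSystem
open scoped commutatorElement

variable {Ω : Type*} [Group Ω] {S : Subgroup Ω} {F : FusionSystem S} {T : Subgroup Ω}

/-- the elements of `T` all of whose images under `Aut_F(T)` lie in `U` -/
def autCoreFn (F : FusionSystem S) (T U : Subgroup Ω) : Subgroup Ω where
  carrier := {x | x ∈ T ∧ ∀ a : Ω → Ω, IsIso F T T a → a x ∈ U}
  one_mem' := ⟨T.one_mem, fun a ha => by rw [ha.map_one]; exact U.one_mem⟩
  mul_mem' := by
    rintro x y ⟨hx, hx'⟩ ⟨hy, hy'⟩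
    exact ⟨T.mul_mem hx hy, fun a ha => by
      rw [ha.map_mul hx hy]; exact U.mul_mem (hx' a ha) (hy' a ha)⟩
  inv_mem' := by
    rintro x ⟨hx, hx'⟩
    exact ⟨T.inv_mem hx, fun a ha => by rw [ha.map_inv hx]; exact U.inv_mem (hx' a ha)⟩

theorem mem_autCoreFn {U : Subgroup Ω} {x : Ω} :
    x ∈ autCoreFn F T U ↔ x ∈ T ∧ ∀ a : Ω → Ω, IsIso F T T a → a x ∈ U := Iff.rfl

theorem autCoreFn_le_T (U : Subgroup Ω) : autCoreFn F T U ≤ T := fun _ hx => hx.1

theorem autCoreFn_le (hTS : T ≤ S) (U : Subgroup Ω) : autCoreFn F T U ≤ U := fun _ hx =>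
  hx.2 id (IsIso.refl hTS)

theorem autCoreFn_mono {U₁ U₂ : Subgroup Ω} (h : U₁ ≤ U₂) : autCoreFn F T U₁ ≤ autCoreFn F T U₂ :=
  fun _ hx => ⟨hx.1, fun a ha => h (hx.2 a ha)⟩

theorem autCoreFn_bot (hTS : T ≤ S) : autCoreFn F T ⊥ = ⊥ :=
  le_antisymm (autCoreFn_le hTS ⊥) bot_le

theorem autCoreFn_self : autCoreFn F T T = T :=
  le_antisymm (autCoreFn_le_T T) fun _ hx => ⟨hx, fun _ ha => ha.map_mem hx⟩

theorem autCoreFn_comm {U₁ U₂ : Subgroup Ω} (h : ⁅U₂, U₂⁆ ≤ U₁) :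
    ⁅autCoreFn F T U₂, autCoreFn F T U₂⁆ ≤ autCoreFn F T U₁ := by
  rw [Subgroup.commutator_le]
  intro x hx y hy
  have hxT := hx.1
  have hyT := hy.1
  refine ⟨?_, fun a ha => ?_⟩
  · rw [commutatorElement_def]
    exact T.mul_mem (T.mul_mem (T.mul_mem hxT hyT) (T.inv_mem hxT)) (T.inv_mem hyT)
  · have e : a ⁅x, y⁆ = ⁅a x, a y⁆ := by
      rw [commutatorElement_def, commutatorElement_def,
        ha.map_mul (T.mul_mem (T.mul_mem hxT hyT) (T.inv_mem hxT)) (T.inv_mem hyT),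
        ha.map_mul (T.mul_mem hxT hyT) (T.inv_mem hxT), ha.map_mul hxT hyT,
        ha.map_inv hxT, ha.map_inv hyT]
    rw [e]
    exact h (Subgroup.commutator_mem_commutator (hx.2 a ha) (hy.2 a ha))

/-- The `Aut_F(T)`-core of a subgroup strongly closed in the invariant subsystem `E` is strongly closed in `F`. -/
theorem autCoreFn_stronglyClosed {E : FusionSystem T} (hinv : E.IsInvariantIn F) {U : Subgroup Ω}
    (hU : E.StronglyClosed U) : F.StronglyClosed (autCoreFn F T U) := by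
  have hTsc : F.StronglyClosed T := hinv.2.1
  have hTS : T ≤ S := hTsc.1
  refine ⟨(autCoreFn_le_T U).trans hTS, fun R hR φ hφ x => ?_⟩
  have hRT : R ≤ T := hR.trans (autCoreFn_le_T U)
  refine ⟨hTsc.2 R hRT φ hφ x, fun a ha => ?_⟩
  -- the composite `a ∘ φ`, an isomorphism of `F` with source `R`
  have hf : IsIso F R φ.range (ext1 φ) := isIso_of_mem F hφ
  have hR'T : φ.range ≤ T := stronglyClosed_image_le hTsc hf hRT
  obtain ⟨R'', -, haR', -⟩ := ha.restrict hR'T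
  obtain ⟨ψ, hψ, hψv, -⟩ := hf.trans haR'
  -- Frattini: `a ∘ φ = α ∘ φ₀`
  obtain ⟨α, hα, φ₀, hφ₀, hv⟩ := hinv.2.2.2 R hRT ψ hψ
  have hb : IsIso F T T (aut1 α) := isIso_aut1 F hTS hα
  have he : IsIso E R φ₀.range (ext1 φ₀) := isIso_of_mem E hφ₀
  have hφ₀T : φ₀ x ∈ T := hom_mem_S E hφ₀ x
  have h1 : a (φ x) = aut1 α (ext1 φ₀ x) := by
    have h2 := hψv x
    rw [hv x hφ₀T] at h2
    rw [ext1_apply φ₀ x, aut1_apply_mem α hφ₀T, h2]
    show a (φ x) = (a ∘ ext1 φ) x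
    rw [Function.comp_apply, ext1_apply φ x]
  -- invariance: `α ∘ φ₀ = χ ∘ α` on `R`
  obtain ⟨χ, R₂, R₃, hχ, hR₂, hχv⟩ :=
    (Cfsg.Agent.S5119.si_of_inv hinv).fn hRT he.le_right le_rfl he hb
  have hbxU : aut1 α x ∈ U := (hR x.2).2 _ hb
  have hbxR₂ : aut1 α x ∈ R₂ := (hR₂ _).2 ⟨x, x.2, rfl⟩
  obtain ⟨V', -, hχV, -⟩ := hχ.restrict (inf_le_left : R₂ ⊓ U ≤ R₂)
  have h3 : χ (aut1 α x) ∈ U := stronglyClosed_map_mem hU hχV inf_le_right ⟨hbxR₂, hbxU⟩
  rw [h1, ← hχv x x.2]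
  exact h3

end Cfsg.Agent.Lib.H25
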