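import Cfsg.Agent.Lib.H24.F59Def
import Cfsg.Agent.Lib.H25.SolvCore

/-!
# S5159, piece (INV): the `Aut_F(T)`-core of an `E`-strongly closed subgroup is `F`-strongly closed

Exact signatures of `tools/blueprints/S5159_sigs.lean` (architect helper24); the definitions `autImage`, `autCore`
are those of `Cfsg/Agent/Lib/H24/F59Def.lean`.  The core argument is `Cfsg.Agent.Lib.H25.autCoreFn_stronglyClosed`
(function form, `Lib/H25/SolvCore.lean`); here is the bridge to the `⨅`-definition.  (helper25)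
-/

set_option autoImplicit false

namespace Cfsg.Agent.Lib.H25.F59

open Cfsg Cfsg.FusionSystem Cfsg.Agent.Lib.H24.F59
open scoped commutatorElement

variable {Ω : Type*} [Group Ω] {S : Subgroup Ω}

theorem mem_autImage {T : Subgroup Ω} (α : MulAut T) (U : Subgroup Ω) (y : Ω) :
    y ∈ autImage α U ↔ ∃ u : T, (u : Ω) ∈ U ∧ ((α u : T) : Ω) = y := by
  unfold autImage
  constructor
  · rintro ⟨u, hu, rfl⟩
    exact ⟨u, Subgroup.mem_subgroupOf.1 hu, rfl⟩
  · rintro ⟨u, hu, rfl⟩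
    exact ⟨u, Subgroup.mem_subgroupOf.2 hu, rfl⟩

theorem autImage_le_T {T : Subgroup Ω} (α : MulAut T) (U : Subgroup Ω) : autImage α U ≤ T := by
  intro y hy
  obtain ⟨u, -, rfl⟩ := (mem_autImage α U y).1 hy
  exact (α u).2

theorem mem_autCore {T : Subgroup Ω} (F : FusionSystem S) (U : Subgroup Ω) (y : Ω) :
    y ∈ autCore (T := T) F U ↔ ∀ α ∈ F.autGroup T, y ∈ autImage α U := by
  unfold autCore
  rw [Subgroup.mem_iInf]
  exact ⟨fun h α hα => h ⟨α, hα⟩, fun h α => h α α.2⟩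

theorem autCore_le_T {T : Subgroup Ω} (F : FusionSystem S) (U : Subgroup Ω) :
    autCore (T := T) F U ≤ T := fun y hy =>
  autImage_le_T 1 U ((mem_autCore F U y).1 hy 1 (Subgroup.one_mem _))

/-- the bridge: the `⨅`-core is the function-level core -/
theorem autCore_eq {T : Subgroup Ω} (F : FusionSystem S) (hTS : T ≤ S) (U : Subgroup Ω) :
    autCore (T := T) F U = Cfsg.Agent.Lib.H25.autCoreFn F T U := by
  ext y
  rw [mem_autCore, Cfsg.Agent.Lib.H25.mem_autCoreFn]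
  constructor
  · intro h
    have hyT : y ∈ T := autImage_le_T 1 U (h 1 (Subgroup.one_mem _))
    refine ⟨hyT, fun a ha => ?_⟩
    obtain ⟨β, hβ, hβv⟩ := exists_mem_autGroup_of_isIso F ha
    obtain ⟨u, huU, huy⟩ := (mem_autImage β⁻¹ U y).1 (h β⁻¹ (Subgroup.inv_mem _ hβ))
    have h1 : β ⟨y, hyT⟩ = u := by
      have : (⟨y, hyT⟩ : T) = β⁻¹ u := Subtype.ext huy.symm
      rw [this, MulAut.apply_inv_self]
    rw [← hβv ⟨y, hyT⟩, h1]
    exact huU
  · rintro ⟨hyT, h⟩ α hα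
    rw [mem_autImage]
    refine ⟨α⁻¹ ⟨y, hyT⟩, ?_, by rw [MulAut.apply_inv_self]⟩
    have hb : IsIso F T T (aut1 α⁻¹) := isIso_aut1 F hTS (Subgroup.inv_mem _ hα)
    have := h _ hb
    rwa [aut1_apply_mem α⁻¹ hyT] at this

/-- (INV1) invariance clause: `α(U)` is again strongly closed in `E`. -/
theorem autImage_stronglyClosed {T : Subgroup Ω} {E : FusionSystem T} {F : FusionSystem S}
    (hinv : E.IsInvariantIn F) {U : Subgroup Ω} (hU : E.StronglyClosed U) {α : MulAut T}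
    (hα : α ∈ F.autGroup T) : E.StronglyClosed (autImage α U) := by
  have hTS : T ≤ S := hinv.2.1.1
  refine ⟨autImage_le_T α U, fun R hR ψ hψ x => ?_⟩
  have hRT : R ≤ T := hR.trans (autImage_le_T α U)
  have he : IsIso E R ψ.range (ext1 ψ) := isIso_of_mem E hψ
  have hb' : IsIso F T T (aut1 α⁻¹) := isIso_aut1 F hTS (Subgroup.inv_mem _ hα)
  obtain ⟨χ, R₂, R₃, hχ, hR₂, hχv⟩ :=
    (Cfsg.Agent.S5119.si_of_inv hinv).fn hRT he.le_right le_rfl he hb'
  -- `α⁻¹ x ∈ U`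
  obtain ⟨u, huU, hux⟩ := (mem_autImage α U x).1 (hR x.2)
  have hxT : (x : Ω) ∈ T := hRT x.2
  have h1 : aut1 α⁻¹ x = u := by
    rw [aut1_apply_mem α⁻¹ hxT]
    have : (⟨x, hxT⟩ : T) = α u := Subtype.ext hux.symm
    rw [this, MulAut.inv_apply_self]
  have hbxU : aut1 α⁻¹ x ∈ U := by rw [h1]; exact huU
  have hbxR₂ : aut1 α⁻¹ x ∈ R₂ := (hR₂ _).2 ⟨x, x.2, rfl⟩
  obtain ⟨V', -, hχV, -⟩ := hχ.restrict (inf_le_left : R₂ ⊓ U ≤ R₂)
  have h3 : χ (aut1 α⁻¹ x) ∈ U := stronglyClosed_map_mem hU hχV inf_le_right ⟨hbxR₂, hbxU⟩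
  rw [hχv x x.2, ext1_apply ψ x] at h3
  have hψT : ψ x ∈ T := hom_mem_S E hψ x
  rw [aut1_apply_mem α⁻¹ hψT] at h3
  rw [mem_autImage]
  exact ⟨α⁻¹ ⟨ψ x, hψT⟩, h3, by rw [MulAut.apply_inv_self]⟩

/-- (INV2) Frattini clause: the core is strongly closed in `F`. -/
theorem autCore_stronglyClosed {T : Subgroup Ω} {E : FusionSystem T} {F : FusionSystem S}
    (hinv : E.IsInvariantIn F) {U : Subgroup Ω} (hU : E.StronglyClosed U) :
    F.StronglyClosed (autCore (T := T) F U) := by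
  rw [autCore_eq F hinv.2.1.1 U]
  exact Cfsg.Agent.Lib.H25.autCoreFn_stronglyClosed hinv hU

/-- (INV3a) -/
theorem autCore_bot {T : Subgroup Ω} (F : FusionSystem S) : autCore (T := T) F ⊥ = ⊥ := by
  rw [eq_bot_iff]
  intro y hy
  obtain ⟨u, hu, rfl⟩ :=
    (mem_autImage 1 ⊥ y).1 ((mem_autCore F ⊥ y).1 hy 1 (Subgroup.one_mem _))
  rw [Subgroup.mem_bot] at hu ⊢
  rw [MulAut.one_apply, hu]

/-- (INV3b) -/
theorem autCore_self {T : Subgroup Ω} (F : FusionSystem S) : autCore (T := T) F T = T := by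
  apply le_antisymm (autCore_le_T F T)
  intro y hy
  rw [mem_autCore]
  intro α _
  rw [mem_autImage]
  exact ⟨α⁻¹ ⟨y, hy⟩, (α⁻¹ ⟨y, hy⟩).2, by rw [MulAut.apply_inv_self]⟩

/-- (INV3c) -/
theorem autCore_mono {T : Subgroup Ω} (F : FusionSystem S) {U V : Subgroup Ω} (h : U ≤ V) :
    autCore (T := T) F U ≤ autCore (T := T) F V := by
  intro y hy
  rw [mem_autCore] at hy ⊢
  intro α hα
  obtain ⟨u, hu, huy⟩ := (mem_autImage α U y).1 (hy α hα)
  exact (mem_autImage α V y).2 ⟨u, h hu, huy⟩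

/-- (INV3d) abelian factors survive. -/
theorem autCore_commutator_le {T : Subgroup Ω} (F : FusionSystem S) {U V : Subgroup Ω}
    (h : ⁅V, V⁆ ≤ U) : ⁅autCore (T := T) F V, autCore (T := T) F V⁆ ≤ autCore (T := T) F U := by
  rw [Subgroup.commutator_le]
  intro x hx y hy
  rw [mem_autCore] at hx hy ⊢
  intro α hα
  obtain ⟨u, hu, rfl⟩ := (mem_autImage α V x).1 (hx α hα)
  obtain ⟨v, hv, rfl⟩ := (mem_autImage α V y).1 (hy α hα)
  rw [mem_autImage]
  refine ⟨⁅u, v⁆, ?_, ?_⟩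
  · have : ((⁅u, v⁆ : T) : Ω) = ⁅(u : Ω), (v : Ω)⁆ := by
      simp [commutatorElement_def]
    rw [this]
    exact h (Subgroup.commutator_mem_commutator hu hv)
  · rw [map_commutatorElement]
    simp [commutatorElement_def]

end Cfsg.Agent.Lib.H25.F59
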