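import Cfsg.Agent.Lib.H1.Hall

set_option autoImplicit false

/-!
# S4404, piece HALL: a Hall `{3,p}`-subgroup containing `Q` and a conjugate of `E` (helper25)
-/

namespace Cfsg.Agent.Lib.H25.FG19

variable {S : Type*} [Group S]

theorem hall_coprime_ordCompl {N r : ℕ} (hN : N ≠ 0) (hr : r.Prime) {m n : ℕ} (hmn : N = m * n)
    (hm : r ^ N.factorization r ∣ m) : Nat.Coprime r n := by
  rw [Nat.Prime.coprime_iff_not_dvd hr]
  intro hdvd
  apply Nat.pow_succ_factorization_not_dvd hN hr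
  rw [pow_succ]
  have := Nat.mul_dvd_mul hm hdvd
  rwa [← hmn] at this

/-- **HALL** -/
theorem exists_hall_3p [Finite S] [Group.IsSolvable S] {p : ℕ} (hp : p.Prime) (hp3 : p ≠ 3)
    (Q E : Subgroup S) (hQ : IsPGroup 3 Q) (hE : IsPGroup p E) :
    ∃ (H : Subgroup S) (a b : ℕ), Nat.card H = 3 ^ a * p ^ b ∧ Q ≤ H ∧
      ∃ s : S, E.map (MulAut.conj s).toMonoidHom ≤ H := by
  have hN : Nat.card S ≠ 0 := Nat.card_pos.ne'
  have h3 : Nat.Prime 3 := Nat.prime_three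
  set a := (Nat.card S).factorization 3 with ha
  set b := (Nat.card S).factorization p with hb
  have hcop : Nat.Coprime (3 ^ a) (p ^ b) :=
    Nat.Coprime.pow a b ((Nat.coprime_primes h3 hp).mpr (Ne.symm hp3))
  have hdvd : 3 ^ a * p ^ b ∣ Nat.card S :=
    Nat.Coprime.mul_dvd_of_dvd_of_dvd hcop (Nat.ordProj_dvd _ _) (Nat.ordProj_dvd _ _)
  obtain ⟨n, hn⟩ := hdvd
  have hc3 : Nat.Coprime 3 n := hall_coprime_ordCompl hN h3 hn (Dvd.intro _ rfl)
  have hcp : Nat.Coprime p n := hall_coprime_ordCompl hN hp hn (Dvd.intro_left _ rfl)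
  have hmn : Nat.Coprime (3 ^ a * p ^ b) n :=
    Nat.Coprime.mul_left (Nat.Coprime.pow_left a hc3) (Nat.Coprime.pow_left b hcp)
  obtain ⟨k, hk⟩ := IsPGroup.iff_card.mp hQ
  have : Fact p.Prime := ⟨hp⟩
  obtain ⟨l, hl⟩ := IsPGroup.iff_card.mp hE
  obtain ⟨H, hH, hQH⟩ := Cfsg.Agent.Lib.H1.hall_contain hn hmn Q (by
    rw [hk]
    exact Nat.Coprime.pow_left k hc3)
  obtain ⟨H', hH', hEH'⟩ := Cfsg.Agent.Lib.H1.hall_contain hn hmn E (by
    rw [hl]
    exact Nat.Coprime.pow_left l hcp)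
  obtain ⟨g, hg⟩ := Cfsg.Agent.Lib.H1.hall_conj hn hmn H' H hH' hH
  refine ⟨H, a, b, hH, hQH, g, ?_⟩
  rw [← hg]
  intro x hx
  obtain ⟨e, he, rfl⟩ := Subgroup.mem_map.mp hx
  exact Subgroup.smul_mem_pointwise_smul e (MulAut.conj g) H' (hEH' he)

end Cfsg.Agent.Lib.H25.FG19
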