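import Mathlib
import Cfsg.Agent.Lib.H24.GlaubClasses

/-!
# S3816 (Flavell's fixed point theorem, `P` of odd prime order): the group-theoretic steps

`Γ` a finite group, `N ⊴ Γ`, `s : Γ` of odd prime order `p`, `(|N|, p) = 1`,
`Ks s h = ⟨h⁻¹ sⁱ h s⁻ⁱ : i⟩ = [h, ⟨s⟩]`.

* `conj_Ks_mem`, `conj_Ks_iff` : `s` normalizes `Ks s h`;
* `Ks_le` : `Ks s h ≤ N` for `h ∈ N`;
* `conj_to_fixed` : for `y ∈ N` the element `s · y s y⁻¹` is `N`-conjugate to `c s²` with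
  `c ∈ Ks s y⁻¹` centralizing `s`;
* `F_conj_mem` : `F = ⨆ h ∈ N, C_{Ks s h}(s)` is normalized by `C_N(s)`.
-/

set_option autoImplicit false

namespace Cfsg.Agent.Lib.H25.FLAV1G

universe u

variable {Γ : Type u} [Group Γ]

/-- `[h, ⟨s⟩]`, generated by the `h⁻¹ sⁱ h s⁻ⁱ` -/
def Ks (s h : Γ) : Subgroup Γ :=
  Subgroup.closure {c : Γ | ∃ i : ℕ, c = h⁻¹ * (s ^ i * h * (s ^ i)⁻¹)}

theorem Ks_def (s h : Γ) :
    Ks s h = Subgroup.closure {c : Γ | ∃ i : ℕ, c = h⁻¹ * (s ^ i * h * (s ^ i)⁻¹)} := rfl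

theorem gen_mem_Ks (s h : Γ) (i : ℕ) : h⁻¹ * (s ^ i * h * (s ^ i)⁻¹) ∈ Ks s h :=
  Subgroup.subset_closure ⟨i, rfl⟩

theorem Ks_le (N : Subgroup Γ) [N.Normal] (s : Γ) {h : Γ} (hh : h ∈ N) : Ks s h ≤ N := by
  rw [Ks, Subgroup.closure_le]
  rintro c ⟨i, rfl⟩
  exact N.mul_mem (N.inv_mem hh) (‹N.Normal›.conj_mem h hh (s ^ i))

/-- `s` maps `Ks s h` into itself -/
theorem conj_Ks_mem (s h : Γ) {w : Γ} (hw : w ∈ Ks s h) : s * w * s⁻¹ ∈ Ks s h := by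
  have hle : Ks s h ≤ (Ks s h).comap (MulAut.conj s).toMonoidHom := by
    rw [Ks_def s h, Subgroup.closure_le]
    rintro c ⟨i, rfl⟩
    change s * (h⁻¹ * (s ^ i * h * (s ^ i)⁻¹)) * s⁻¹ ∈ Ks s h
    have h1 : s * (h⁻¹ * (s ^ i * h * (s ^ i)⁻¹)) * s⁻¹ =
        (h⁻¹ * (s ^ 1 * h * (s ^ 1)⁻¹))⁻¹ * (h⁻¹ * (s ^ (i + 1) * h * (s ^ (i + 1))⁻¹)) := by
      rw [pow_succ']; group
    rw [h1]
    exact (Ks s h).mul_mem ((Ks s h).inv_mem (gen_mem_Ks s h 1)) (gen_mem_Ks s h (i + 1))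
  exact hle hw

theorem conj_pow_Ks_mem (s h : Γ) (j : ℕ) {w : Γ} (hw : w ∈ Ks s h) :
    s ^ j * w * (s ^ j)⁻¹ ∈ Ks s h := by
  induction j with
  | zero => simpa using hw
  | succ j ih =>
    have h1 : s ^ (j + 1) * w * (s ^ (j + 1))⁻¹ = s * (s ^ j * w * (s ^ j)⁻¹) * s⁻¹ := by
      rw [pow_succ']; group
    rw [h1]
    exact conj_Ks_mem s h ih

theorem conj_Ks_iff [Finite Γ] (s h : Γ) (w : Γ) : w ∈ Ks s h ↔ s * w * s⁻¹ ∈ Ks s h := by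
  refine ⟨conj_Ks_mem s h, fun hw => ?_⟩
  have hpos : 0 < orderOf s := orderOf_pos s
  have h1 := conj_pow_Ks_mem s h (orderOf s - 1) hw
  have h2 : s ^ (orderOf s - 1) * (s * w * s⁻¹) * (s ^ (orderOf s - 1))⁻¹ = w := by
    have h3 : s ^ (orderOf s - 1) * s = 1 := by
      rw [← pow_succ, Nat.sub_add_cancel hpos, pow_orderOf_eq_one]
    have h4 : s⁻¹ * (s ^ (orderOf s - 1))⁻¹ = 1 := by
      rw [← mul_inv_rev, h3, inv_one]
    calc s ^ (orderOf s - 1) * (s * w * s⁻¹) * (s ^ (orderOf s - 1))⁻¹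
        = (s ^ (orderOf s - 1) * s) * w * (s⁻¹ * (s ^ (orderOf s - 1))⁻¹) := by group
      _ = w := by rw [h3, h4, one_mul, mul_one]
  rwa [h2] at h1

theorem mem_normalizer_Ks [Finite Γ] (s h : Γ) : s ∈ Subgroup.normalizer (Ks s h : Set Γ) := by
  rw [Subgroup.mem_normalizer_iff]
  exact conj_Ks_iff s h

/-- step (3), group side: `s · y s y⁻¹` is `N`-conjugate to `c s²`, `c ∈ C_{[y⁻¹, s]}(s)` -/
theorem conj_to_fixed [Finite Γ] (N : Subgroup Γ) [N.Normal] (s : Γ) {p : ℕ} [hpf : Fact p.Prime]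
    (hp2 : p ≠ 2) (hs : orderOf s = p) (hcop : (Nat.card N).Coprime p) {y : Γ} (hy : y ∈ N) :
    ∃ k ∈ N, ∃ c ∈ Ks s y⁻¹, s * c = c * s ∧ k * (s * (y * s * y⁻¹)) * k⁻¹ = c * s ^ 2 := by
  have hodd : Odd p := hpf.out.odd_of_ne_two hp2
  have hKN : Ks s y⁻¹ ≤ N := Ks_le N s (N.inv_mem hy)
  -- `s²` has order `p` and normalizes `K`
  have hs2 : orderOf (s ^ 2) = p := by
    rw [orderOf_pow, hs]
    have : Nat.gcd p 2 = 1 := by
      rw [Nat.coprime_comm.1 (Nat.coprime_two_left.2 hodd)]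
    rw [this, Nat.div_one]
  have hnorm2 : s ^ 2 ∈ Subgroup.normalizer (Ks s y⁻¹ : Set Γ) :=
    Subgroup.pow_mem _ (mem_normalizer_Ks s y⁻¹) 2
  have hcop2 : (Nat.card (Ks s y⁻¹)).Coprime (orderOf (s ^ 2)) := by
    rw [hs2]
    exact Nat.Coprime.coprime_dvd_left (Subgroup.card_dvd_of_le hKN) hcop
  -- `n = s y s y⁻¹ s⁻²` lies in `K`
  have hn : s * y * s * y⁻¹ * (s ^ 2)⁻¹ ∈ Ks s y⁻¹ := by
    have h1 := conj_Ks_mem s y⁻¹ (gen_mem_Ks s y⁻¹ 1)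
    have h2 : s * ((y⁻¹)⁻¹ * (s ^ 1 * y⁻¹ * (s ^ 1)⁻¹)) * s⁻¹ = s * y * s * y⁻¹ * (s ^ 2)⁻¹ := by
      group
    rwa [h2] at h1
  obtain ⟨k, hk, c, hc, hkc⟩ :=
    Cfsg.Agent.Lib.H24.Glaub.exists_conj_coset hnorm2 hcop2 hn
  rw [Cfsg.Agent.Lib.H24.Glaub.mem_fixedSub] at hc
  refine ⟨k, hKN hk, c, hc.1, ?_, ?_⟩
  · -- `c` commutes with `s = (s²)^((p+1)/2)`
    obtain ⟨m, hm⟩ := hodd
    have h1 : (s ^ 2) ^ (m + 1) = s := by
      rw [← pow_mul]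
      have : 2 * (m + 1) = p + 1 := by omega
      rw [this, pow_succ, ← hs, pow_orderOf_eq_one, one_mul]
    have h2 : Commute c (s ^ 2) := hc.2
    have h3 : Commute c ((s ^ 2) ^ (m + 1)) := h2.pow_right (m + 1)
    rw [h1] at h3
    exact h3.eq.symm
  · have h1 : s * (y * s * y⁻¹) = s * y * s * y⁻¹ * (s ^ 2)⁻¹ * s ^ 2 := by group
    rw [h1]
    exact hkc

/-- step (1): `F = ⨆ h ∈ N, C_{[h, s]}(s)` is normalized by `C_N(s)` -/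
theorem F_conj_mem (N : Subgroup Γ) [hN : N.Normal] (s : Γ) {c : Γ} (_hcN : c ∈ N)
    (hcs : s * c = c * s) {w : Γ}
    (hw : w ∈ ⨆ h : N, (Ks s (h : Γ) ⊓ Subgroup.centralizer {s})) :
    c * w * c⁻¹ ∈ ⨆ h : N, (Ks s (h : Γ) ⊓ Subgroup.centralizer {s}) := by
  have hcomm : Commute s c := hcs
  have hle : (⨆ h : N, (Ks s (h : Γ) ⊓ Subgroup.centralizer {s})) ≤
      (⨆ h : N, (Ks s (h : Γ) ⊓ Subgroup.centralizer {s})).comap (MulAut.conj c).toMonoidHom := by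
    apply iSup_le
    rintro ⟨h, hh⟩ v ⟨hv1, hv2⟩
    change c * v * c⁻¹ ∈ (⨆ h : N, (Ks s (h : Γ) ⊓ Subgroup.centralizer {s}))
    have hmem : c * h * c⁻¹ ∈ N := hN.conj_mem h hh c
    refine (le_iSup (fun h : N => Ks s (h : Γ) ⊓ Subgroup.centralizer {s}) ⟨c * h * c⁻¹, hmem⟩) ⟨?_, ?_⟩
    · have hK : Ks s h ≤ (Ks s (c * h * c⁻¹)).comap (MulAut.conj c).toMonoidHom := by
        rw [Ks_def s h, Subgroup.closure_le]
        rintro g ⟨i, rfl⟩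
        change c * (h⁻¹ * (s ^ i * h * (s ^ i)⁻¹)) * c⁻¹ ∈ Ks s (c * h * c⁻¹)
        have hci : Commute (s ^ i) c := hcomm.pow_left i
        have h1 : c * (h⁻¹ * (s ^ i * h * (s ^ i)⁻¹)) * c⁻¹ =
            (c * h * c⁻¹)⁻¹ * (s ^ i * (c * h * c⁻¹) * (s ^ i)⁻¹) := by
          have e1 : s ^ i * (c * h * c⁻¹) * (s ^ i)⁻¹ = c * (s ^ i * h * (s ^ i)⁻¹) * c⁻¹ := by
            have e2 : s ^ i * c = c * s ^ i := hci.eq
            have e3 : c⁻¹ * (s ^ i)⁻¹ = (s ^ i)⁻¹ * c⁻¹ := by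
              rw [← mul_inv_rev, ← mul_inv_rev, e2]
            calc s ^ i * (c * h * c⁻¹) * (s ^ i)⁻¹
                = (s ^ i * c) * h * (c⁻¹ * (s ^ i)⁻¹) := by group
              _ = (c * s ^ i) * h * ((s ^ i)⁻¹ * c⁻¹) := by rw [e2, e3]
              _ = c * (s ^ i * h * (s ^ i)⁻¹) * c⁻¹ := by group
          rw [e1]; group
        rw [h1]
        exact gen_mem_Ks s (c * h * c⁻¹) i
      exact hK hv1
    · have hv2' : v ∈ Subgroup.centralizer ({s} : Set Γ) := hv2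
      change c * v * c⁻¹ ∈ Subgroup.centralizer ({s} : Set Γ)
      rw [Subgroup.mem_centralizer_singleton_iff] at hv2' ⊢
      have hv2 := hv2'
      have e2 : s * c = c * s := hcs
      have e3 : c⁻¹ * s = s * c⁻¹ := by
        have : Commute s c⁻¹ := hcomm.inv_right
        exact this.eq.symm
      calc c * v * c⁻¹ * s = c * v * (c⁻¹ * s) := by group
        _ = c * v * (s * c⁻¹) := by rw [e3]
        _ = c * (v * s) * c⁻¹ := by group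
        _ = c * (s * v) * c⁻¹ := by rw [hv2]
        _ = (c * s) * v * c⁻¹ := by group
        _ = (s * c) * v * c⁻¹ := by rw [e2]
        _ = s * (c * v * c⁻¹) := by group
  exact hle hw

end Cfsg.Agent.Lib.H25.FLAV1G
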