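import Cfsg.Agent.Lib.H24.CharDefl
import Cfsg.Agent.Lib.H24.CharSchur

/-!
# S3816 (Flavell's fixed point theorem): the separation step

`sep_of_irr` : in a finite group `C` with `F ⊴ C`, an element `z` on which every irreducible
character `β` with `F ≤ ker β` takes the value `β 1` lies in `F`
(the irreducible characters of `C ⧸ F` separate points).
`sep_of_irr_sub` : the same for subgroups `F ≤ C` of a group `Γ`, `C` normalizing `F`.
-/

set_option autoImplicit false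

namespace Cfsg.Agent.Lib.H25.FLAV1S

open Cfsg Cfsg.Agent.Lib.L0 Cfsg.Agent.Lib.H23 Cfsg.Agent.Lib.H24

theorem sep_of_irr {C : Type*} [Group C] [Finite C] (F : Subgroup C) [F.Normal] (z : C)
    (h : ∀ β : IrrCharacter C, (∀ w ∈ F, (β : C → ℂ) w = (β : C → ℂ) 1) →
      (β : C → ℂ) z = (β : C → ℂ) 1) : z ∈ F := by
  classical
  let _i1 : Fintype (C ⧸ F) := Fintype.ofFinite _
  let _i2 : Fintype (IrrCharacter (C ⧸ F)) := Fintype.ofFinite _
  have hsum := sum_irr_one_mul (G := C ⧸ F) ((z : C ⧸ F))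
  have hval : ∀ ψ : IrrCharacter (C ⧸ F),
      (ψ : C ⧸ F → ℂ) ((z : C ⧸ F)) = (ψ : C ⧸ F → ℂ) 1 := by
    intro ψ
    have h1 := h (inflIrr F ψ) (fun w hw => by
      rw [inflIrr_apply, inflIrr_apply, QuotientGroup.mk_one, (QuotientGroup.eq_one_iff w).2 hw])
    rw [inflIrr_apply, inflIrr_apply, QuotientGroup.mk_one] at h1
    exact h1
  by_contra hz
  have hne : ((z : C ⧸ F)) ≠ 1 := fun h1 => hz ((QuotientGroup.eq_one_iff z).1 h1)
  rw [if_neg hne] at hsum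
  have hsum2 : ∑ ψ : IrrCharacter (C ⧸ F), (ψ : C ⧸ F → ℂ) 1 * (ψ : C ⧸ F → ℂ) 1 = 0 := by
    rw [← hsum]
    exact Finset.sum_congr rfl (fun ψ _ => by rw [hval ψ])
  -- every term is a positive natural number
  have hpos : ∀ ψ : IrrCharacter (C ⧸ F), ∃ n : ℕ, 0 < n ∧
      (ψ : C ⧸ F → ℂ) 1 * (ψ : C ⧸ F → ℂ) 1 = ((n * n : ℕ) : ℂ) := by
    intro ψ
    obtain ⟨n, hn, hn1⟩ := irr_one_eq ψ
    exact ⟨n, hn, by rw [hn1]; push_cast; ring⟩
  choose f hf0 hf using hpos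
  have hsum3 : ((∑ ψ : IrrCharacter (C ⧸ F), f ψ * f ψ : ℕ) : ℂ) = 0 := by
    rw [← hsum2]
    push_cast
    exact Finset.sum_congr rfl (fun ψ _ => by rw [hf ψ]; push_cast; ring)
  have hsum4 : ∑ ψ : IrrCharacter (C ⧸ F), f ψ * f ψ = 0 := by exact_mod_cast hsum3
  -- there is at least one irreducible character
  obtain ⟨ψ0⟩ : Nonempty (IrrCharacter (C ⧸ F)) := by
    by_contra hemp
    rw [not_nonempty_iff] at hemp
    have h1 := sum_irr_one_mul (G := C ⧸ F) (1 : C ⧸ F)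
    rw [if_pos rfl, Finset.univ_eq_empty, Finset.sum_empty] at h1
    have h2 : (Nat.card (C ⧸ F) : ℂ) ≠ 0 := by
      exact_mod_cast (Nat.card_pos (α := C ⧸ F)).ne'
    exact h2 h1.symm
  have h5 := Finset.sum_eq_zero_iff.1 hsum4 ψ0 (Finset.mem_univ _)
  have h6 := hf0 ψ0
  have h7 : 0 < f ψ0 * f ψ0 := Nat.mul_pos h6 h6
  omega

/-- the same inside a group `Γ`: `F ≤ C` subgroups with `C` normalizing `F` -/
theorem sep_of_irr_sub {Γ : Type*} [Group Γ] [Finite Γ] (C F : Subgroup Γ) (_hFC : F ≤ C)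
    (hnorm : ∀ c ∈ C, ∀ w ∈ F, c * w * c⁻¹ ∈ F) (z : Γ) (hz : z ∈ C)
    (h : ∀ β : IrrCharacter C, (∀ w : C, (w : Γ) ∈ F → (β : C → ℂ) w = (β : C → ℂ) 1) →
      (β : C → ℂ) ⟨z, hz⟩ = (β : C → ℂ) 1) : z ∈ F := by
  have : (F.subgroupOf C).Normal := by
    constructor
    intro w hw c
    rw [Subgroup.mem_subgroupOf] at hw ⊢
    exact hnorm c c.2 w hw
  have h1 := sep_of_irr (F.subgroupOf C) ⟨z, hz⟩ (fun β hβ => h β (fun w hw => hβ w hw))
  exact h1

end Cfsg.Agent.Lib.H25.FLAV1S
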