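import Mathlib

/-!
# S3816 (Flavell's fixed point theorem, `P` of odd prime order): the translation

`FlavInternal` : the statement inside a group `Γ = N⟨s⟩`, `N ⊴ Γ`, `s` of odd prime order `p`,
`(|N|, p) = 1`: a fixed point of `s` in `[N, s]` lies in the join of the `C_{[h, s]}(s)`, `h ∈ N`.
`flavell_of_internal` : from it, the statement for a group `H` and an automorphism `x` of `H` of
order `p` (through `Γ = H ⋊ ⟨x⟩`).
-/

set_option autoImplicit false

namespace Cfsg.Agent.Lib.H25.FLAV2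

universe u

/-- the internal form of the theorem -/
def FlavInternal : Prop :=
  ∀ (Γ : Type u) [Group Γ] [Finite Γ] (N : Subgroup Γ) [N.Normal] (s : Γ) (p : ℕ) [Fact p.Prime],
    p ≠ 2 → orderOf s = p → (Nat.card N).Coprime p →
    (∀ g : Γ, ∃ n ∈ N, ∃ k : ℕ, g = n * s ^ k) →
    ∀ z : Γ, z ∈ Subgroup.closure
        {c : Γ | ∃ h ∈ N, ∃ i : ℕ, c = h⁻¹ * (s ^ i * h * (s ^ i)⁻¹)} →
      s * z = z * s →
      z ∈ ⨆ h : N, (Subgroup.closure
          {c : Γ | ∃ i : ℕ, c = (h : Γ)⁻¹ * (s ^ i * (h : Γ) * (s ^ i)⁻¹)} ⊓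
        Subgroup.centralizer {s})

section

variable {H : Type u} [Group H] (x : MulAut H)

/-- the semidirect product `H ⋊ ⟨x⟩` -/
abbrev Gam : Type u := H ⋊[(Subgroup.zpowers x).subtype] (Subgroup.zpowers x)

/-- the generator `x` inside `H ⋊ ⟨x⟩` -/
def sGen : Gam x := SemidirectProduct.inr ⟨x, Subgroup.mem_zpowers x⟩

/-- the embedding of `H` -/
def iota : H →* Gam x := SemidirectProduct.inl

theorem iota_injective : Function.Injective (iota x) := SemidirectProduct.inl_injective

theorem sGen_pow (i : ℕ) :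
    sGen x ^ i = SemidirectProduct.inr (⟨x, Subgroup.mem_zpowers x⟩ ^ i : Subgroup.zpowers x) := by
  rw [sGen, map_pow]

theorem conj_iota (i : ℕ) (h : H) :
    sGen x ^ i * iota x h * (sGen x ^ i)⁻¹ = iota x ((x ^ i) h) := by
  rw [sGen_pow, ← map_inv, iota, ← SemidirectProduct.inl_aut]
  simp

theorem conj_iota_one (h : H) : sGen x * iota x h * (sGen x)⁻¹ = iota x (x h) := by
  have := conj_iota x 1 h
  simpa using this

theorem comm_iff (k : H) : sGen x * iota x k = iota x k * sGen x ↔ x k = k := by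
  constructor
  · intro h
    have h1 : sGen x * iota x k * (sGen x)⁻¹ = iota x k := by rw [h]; group
    rw [conj_iota_one] at h1
    exact iota_injective x h1
  · intro h
    have h1 := conj_iota_one x k
    rw [h] at h1
    calc sGen x * iota x k = sGen x * iota x k * (sGen x)⁻¹ * sGen x := by group
      _ = iota x k * sGen x := by rw [h1]

theorem orderOf_sGen : orderOf (sGen x) = orderOf x := by
  rw [sGen, orderOf_injective _ SemidirectProduct.inr_injective, Subgroup.orderOf_mk]

theorem map_comm_set (h : H) :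
    (Subgroup.closure {c : H | ∃ i : ℕ, c = h⁻¹ * (x ^ i) h}).map (iota x) =
      Subgroup.closure {c : Gam x | ∃ i : ℕ,
        c = (iota x h)⁻¹ * (sGen x ^ i * iota x h * (sGen x ^ i)⁻¹)} := by
  rw [MonoidHom.map_closure]
  congr 1
  ext c
  constructor
  · rintro ⟨c', ⟨i, rfl⟩, rfl⟩
    exact ⟨i, by rw [map_mul, map_inv, conj_iota]⟩
  · rintro ⟨i, rfl⟩
    exact ⟨h⁻¹ * (x ^ i) h, ⟨i, rfl⟩, by rw [map_mul, map_inv, conj_iota]⟩

end

theorem flavell_of_internal (hint : FlavInternal.{u}) {H : Type u} [Group H] [Finite H] {p : ℕ}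
    [hpf : Fact p.Prime] (hp : p ≠ 2) (hcop : (Nat.card H).Coprime p) (x : MulAut H)
    (hx : orderOf x = p) :
    Subgroup.closure {c : H | ∃ h : H, ∃ i : ℕ, c = h⁻¹ * (x ^ i) h} ⊓ (x : H →* H).eqLocus (MonoidHom.id H) =
      ⨆ h : H, Subgroup.closure {c : H | ∃ i : ℕ, c = h⁻¹ * (x ^ i) h} ⊓ (x : H →* H).eqLocus (MonoidHom.id H) := by
  apply le_antisymm
  · intro z hz
    obtain ⟨hzW, hzC⟩ := hz
    have hzC' : x z = z := hzC
    have hfo : IsOfFinOrder x := by
      rw [← orderOf_pos_iff, hx]; exact hpf.out.pos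
    have : Finite (Subgroup.zpowers x) := by
      apply Nat.finite_of_card_ne_zero
      rw [Nat.card_zpowers, hx]; exact hpf.out.ne_zero
    have : Finite (Gam x) := Finite.of_equiv _ SemidirectProduct.equivProd.symm
    have hNn : ((iota x).range).Normal := by
      rw [iota, SemidirectProduct.range_inl_eq_ker_rightHom]; infer_instance
    have hcard : Nat.card (iota x).range = Nat.card H :=
      Nat.card_congr (MonoidHom.ofInjective (iota_injective x)).toEquiv.symm
    have hgen : ∀ g : Gam x, ∃ n ∈ (iota x).range, ∃ k : ℕ, g = n * sGen x ^ k := by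
      intro g
      obtain ⟨k, hk⟩ := (hfo.mem_powers_iff_mem_zpowers).2 g.right.2
      refine ⟨iota x g.left, ⟨g.left, rfl⟩, k, ?_⟩
      rw [sGen_pow]
      have : (⟨x, Subgroup.mem_zpowers x⟩ ^ k : Subgroup.zpowers x) = g.right := by
        apply Subtype.ext
        simpa using hk
      rw [this, iota, SemidirectProduct.inl_left_mul_inr_right]
    have hzW' : iota x z ∈ Subgroup.closure {c : Gam x | ∃ h ∈ (iota x).range, ∃ i : ℕ,
        c = h⁻¹ * (sGen x ^ i * h * (sGen x ^ i)⁻¹)} := by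
      have h1 : iota x z ∈ (Subgroup.closure
          {c : H | ∃ h : H, ∃ i : ℕ, c = h⁻¹ * (x ^ i) h}).map (iota x) :=
        Subgroup.mem_map_of_mem _ hzW
      rw [MonoidHom.map_closure] at h1
      refine Subgroup.closure_mono ?_ h1
      rintro c ⟨c', ⟨h, i, rfl⟩, rfl⟩
      exact ⟨iota x h, ⟨h, rfl⟩, i, by rw [map_mul, map_inv, conj_iota]⟩
    have hcomm : sGen x * iota x z = iota x z * sGen x := (comm_iff x z).2 hzC'
    have hmain := hint (Gam x) (iota x).range (sGen x) p hp ((orderOf_sGen x).trans hx)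
      (by rw [hcard]; exact hcop) hgen (iota x z) hzW' hcomm
    have hle : (⨆ h : (iota x).range, (Subgroup.closure {c : Gam x | ∃ i : ℕ,
          c = (h : Gam x)⁻¹ * (sGen x ^ i * (h : Gam x) * (sGen x ^ i)⁻¹)} ⊓
        Subgroup.centralizer {sGen x})) ≤
        (⨆ h : H, Subgroup.closure {c : H | ∃ i : ℕ, c = h⁻¹ * (x ^ i) h} ⊓
          (x : H →* H).eqLocus (MonoidHom.id H)).map (iota x) := by
      apply iSup_le
      rintro ⟨_, ⟨h, rfl⟩⟩
      intro w hw
      obtain ⟨hw1, hw2⟩ := hw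
      rw [← map_comm_set] at hw1
      obtain ⟨k, hk, rfl⟩ := hw1
      have hk2 : x k = k := by
        rw [← comm_iff]
        have := (Subgroup.mem_centralizer_iff.1 hw2) (sGen x) (Set.mem_singleton _)
        exact this
      refine Subgroup.mem_map_of_mem _ ?_
      exact (le_iSup (fun h : H => Subgroup.closure {c : H | ∃ i : ℕ, c = h⁻¹ * (x ^ i) h} ⊓
          (x : H →* H).eqLocus (MonoidHom.id H)) h) ⟨hk, hk2⟩
    exact (Subgroup.mem_map_iff_mem (iota_injective x)).1 (hle hmain)
  · apply iSup_le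
    intro h
    apply inf_le_inf_right
    apply Subgroup.closure_mono
    rintro c ⟨i, rfl⟩
    exact ⟨h, i, rfl⟩

end Cfsg.Agent.Lib.H25.FLAV2
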