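import Mathlib

/-!
# Free pairs of `p`-elements: basic notions (helper25, for S2276)

* `PE p x`: `x` is a `p`-element (`x ^ p ^ k = 1` for some `k`).
* `Good p x y`: `x * y` is not a `p`-element and `⟨x, y⟩` is not solvable.
* transport of `Good` along homomorphisms, restriction to an invariant subset.
-/

set_option autoImplicit false

namespace Cfsg.Agent.Lib.H25.FP

open Equiv Equiv.Perm

section General

variable {G : Type*} [Group G] {H : Type*} [Group H]

/-- `x` is a `p`-element -/
def PE (p : ℕ) (x : G) : Prop := ∃ k : ℕ, x ^ p ^ k = 1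

theorem PE.map {p : ℕ} (φ : G →* H) {x : G} (h : PE p x) : PE p (φ x) := by
  obtain ⟨k, hk⟩ := h
  exact ⟨k, by rw [← map_pow, hk, map_one]⟩

theorem PE.of_map_injective {p : ℕ} (φ : G →* H) (hφ : Function.Injective φ) {x : G}
    (h : PE p (φ x)) : PE p x := by
  obtain ⟨k, hk⟩ := h
  refine ⟨k, hφ ?_⟩
  rw [map_pow, hk, map_one]

theorem PE.conj {p : ℕ} {x : G} (g : G) (h : PE p x) : PE p (g * x * g⁻¹) := by
  obtain ⟨k, hk⟩ := h
  exact ⟨k, by rw [conj_pow, hk]; group⟩

theorem PE.of_conj {p : ℕ} {x : G} (g : G) (h : PE p (g * x * g⁻¹)) : PE p x := by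
  have := h.conj g⁻¹
  have e : g⁻¹ * (g * x * g⁻¹) * g⁻¹⁻¹ = x := by group
  rwa [e] at this

theorem PE.pow {p : ℕ} {x : G} (h : PE p x) (n : ℕ) : PE p (x ^ n) := by
  obtain ⟨k, hk⟩ := h
  exact ⟨k, by rw [← pow_mul, mul_comm, pow_mul, hk, one_pow]⟩

theorem PE.one (p : ℕ) : PE p (1 : G) := ⟨0, by simp⟩

theorem PE_of_orderOf {p : ℕ} {x : G} {k : ℕ} (h : orderOf x = p ^ k) : PE p x :=
  ⟨k, by rw [← h]; exact pow_orderOf_eq_one x⟩

theorem PE_of_pow_eq_one {p : ℕ} {x : G} {k : ℕ} (h : x ^ p ^ k = 1) : PE p x := ⟨k, h⟩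

theorem PE.mul_comm {p : ℕ} {x y : G} (h : PE p (x * y)) : PE p (y * x) := by
  have := h.conj x⁻¹
  have e : x⁻¹ * (x * y) * x⁻¹⁻¹ = y * x := by group
  rwa [e] at this

theorem not_PE_of_prime_order {p ℓ : ℕ} (hp : p.Prime) (hℓ : ℓ.Prime) (hne : ℓ ≠ p) {x : G}
    (hx : x ≠ 1) (hxl : x ^ ℓ = 1) : ¬ PE p x := by
  rintro ⟨k, hk⟩
  haveI : Fact ℓ.Prime := ⟨hℓ⟩
  have h1 : orderOf x = ℓ := orderOf_eq_prime hxl hx
  have h2 : orderOf x ∣ p ^ k := orderOf_dvd_of_pow_eq_one hk
  rw [h1] at h2
  exact hne ((Nat.prime_dvd_prime_iff_eq hℓ hp).1 (hℓ.dvd_of_dvd_pow h2))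

/-- a good pair: the product is not a `p`-element, and the group generated is not solvable -/
def Good (p : ℕ) (x y : G) : Prop :=
  ¬ PE p (x * y) ∧ ¬ Group.IsSolvable (Subgroup.closure ({x, y} : Set G))

theorem not_isSolvable_closure_of_subset {S S' : Set G}
    (h : S ⊆ (Subgroup.closure S' : Set G))
    (hS : ¬ Group.IsSolvable (Subgroup.closure S)) : ¬ Group.IsSolvable (Subgroup.closure S') := by
  intro hs
  apply hS
  have hle : Subgroup.closure S ≤ Subgroup.closure S' := (Subgroup.closure_le _).2 h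
  exact Group.isSolvable_of_isSolvable_injective (Subgroup.inclusion_injective hle)

theorem not_isSolvable_of_le {K K' : Subgroup G} (hle : K ≤ K')
    (hS : ¬ Group.IsSolvable K) : ¬ Group.IsSolvable K' := by
  intro hs
  exact hS (Group.isSolvable_of_isSolvable_injective (Subgroup.inclusion_injective hle))

/-- image of the closure of a pair -/
theorem map_closure_pair (φ : G →* H) (x y : G) :
    (Subgroup.closure ({x, y} : Set G)).map φ = Subgroup.closure ({φ x, φ y} : Set H) := by
  rw [MonoidHom.map_closure]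
  congr 1
  ext z
  simp [Set.image_pair]

/-- pull back along a homomorphism -/
theorem Good.of_map {p : ℕ} (φ : G →* H) {x y : G} (h : Good p (φ x) (φ y)) : Good p x y := by
  refine ⟨fun hpe => h.1 (by rw [← map_mul]; exact hpe.map φ), fun hs => h.2 ?_⟩
  rw [← map_closure_pair]
  exact Group.isSolvable_of_surjective
    (f := (φ.subgroupMap (Subgroup.closure ({x, y} : Set G))))
    (φ.subgroupMap_surjective _)

/-- push forward along an injective homomorphism -/
theorem Good.map_of_injective {p : ℕ} (φ : G →* H) (hφ : Function.Injective φ) {x y : G}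
    (h : Good p x y) : Good p (φ x) (φ y) := by
  refine ⟨fun hpe => h.1 ?_, fun hs => h.2 ?_⟩
  · rw [← map_mul] at hpe
    exact hpe.of_map_injective φ hφ
  · rw [← map_closure_pair] at hs
    exact Group.isSolvable_of_isSolvable_injective
      (f := ((Subgroup.closure ({x, y} : Set G)).equivMapOfInjective φ hφ).toMonoidHom)
      ((Subgroup.closure ({x, y} : Set G)).equivMapOfInjective φ hφ).injective

theorem Good.conj {p : ℕ} {x y : G} (g : G) (h : Good p x y) :
    Good p (g * x * g⁻¹) (g * y * g⁻¹) :=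
  h.map_of_injective (MulAut.conj g).toMonoidHom (MulAut.conj g).injective

theorem Good.symm {p : ℕ} {x y : G} (h : Good p x y) : Good p y x := by
  refine ⟨fun hpe => h.1 hpe.mul_comm, ?_⟩
  rw [Set.pair_comm]
  exact h.2

/-- replacing a generator `a` by `a * b` -/
theorem closure_mul_pair (a b : G) :
    Subgroup.closure ({a * b, b} : Set G) = Subgroup.closure ({a, b} : Set G) := by
  apply le_antisymm
  · rw [Subgroup.closure_le]
    rintro z (rfl | rfl)
    · exact Subgroup.mul_mem _ (Subgroup.subset_closure (by simp))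
        (Subgroup.subset_closure (by simp))
    · exact Subgroup.subset_closure (by simp)
  · rw [Subgroup.closure_le]
    rintro z (rfl | rfl)
    · have h1 : z * b ∈ Subgroup.closure ({z * b, b} : Set G) :=
        Subgroup.subset_closure (by simp)
      have h2 : b ∈ Subgroup.closure ({z * b, b} : Set G) := Subgroup.subset_closure (by simp)
      have := Subgroup.mul_mem _ h1 (Subgroup.inv_mem _ h2)
      simpa using this
    · exact Subgroup.subset_closure (by simp)

end General

section Perm

variable {Ω : Type*} [Fintype Ω] [DecidableEq Ω]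

/-- a subgroup of `Perm Ω` containing the alternating group is not solvable when `5 ≤ |Ω|` -/
theorem not_isSolvable_of_alternatingGroup_le (h5 : 5 ≤ Fintype.card Ω) (J : Subgroup (Perm Ω))
    (h : alternatingGroup Ω ≤ J) : ¬ Group.IsSolvable J := by
  intro hJ
  have hA : Group.IsSolvable (alternatingGroup Ω) :=
    Group.isSolvable_of_isSolvable_injective (Subgroup.inclusion_injective h)
  have hP : Group.IsSolvable (Perm Ω) := by
    refine Group.isSolvable_of_ker_le_range (alternatingGroup Ω).subtype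
      (Perm.sign : Perm Ω →* ℤˣ) ?_
    intro g hg
    rw [Subgroup.range_subtype]
    exact hg
  refine Equiv.Perm.not_isSolvable Ω ?_ hP
  rw [Cardinal.mk_fintype]
  exact_mod_cast h5

end Perm

section Stab

variable {Ω : Type*}

/-- the (setwise) stabilizer of a predicate -/
def stabP (P : Ω → Prop) : Subgroup (Perm Ω) where
  carrier := {g | ∀ x, P (g x) ↔ P x}
  mul_mem' := by
    intro a b ha hb x
    rw [Perm.mul_apply, ha, hb]
  one_mem' := by intro x; simp
  inv_mem' := by
    intro a ha x
    have := ha (a⁻¹ x)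
    simp only [Perm.coe_inv, Equiv.apply_symm_apply] at this
    exact this.symm

theorem mem_stabP {P : Ω → Prop} {g : Perm Ω} : g ∈ stabP P ↔ ∀ x, P (g x) ↔ P x := Iff.rfl

/-- restriction to the invariant subset -/
def resHom (P : Ω → Prop) : stabP P →* Perm {x // P x} where
  toFun g := g.1.subtypePerm (fun x => g.2 x)
  map_one' := by ext; rfl
  map_mul' := by intro a b; ext; rfl

theorem resHom_apply (P : Ω → Prop) (g : stabP P) (x : {x // P x}) :
    ((resHom P g) x : Ω) = g.1 x := rfl

/-- restriction principle -/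
theorem Good.of_res {p : ℕ} (P : Ω → Prop) {x y : Perm Ω} (hx : x ∈ stabP P) (hy : y ∈ stabP P)
    (h : Good p (x.subtypePerm hx) (y.subtypePerm hy)) : Good p x y := by
  have h1 : Good p (⟨x, hx⟩ : stabP P) ⟨y, hy⟩ := Good.of_map (resHom P) h
  exact h1.map_of_injective (stabP P).subtype (Subgroup.subtype_injective _)

end Stab

end Cfsg.Agent.Lib.H25.FP
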