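import Mathlib
import Cfsg.Agent.Lib.H25.FPBasic

/-!
# Full cycles and the properties `Q`, `QF` (helper25, for S2276)
-/

set_option autoImplicit false

namespace Cfsg.Agent.Lib.H25.FP

open Equiv Equiv.Perm

section Full

variable {α : Type*} {β : Type*}

/-- a full cycle: a permutation with a single orbit -/
def IsFull (u : Perm α) : Prop := ∀ x y, u.SameCycle x y

theorem IsFull.conj {u : Perm α} (h : IsFull u) (g : Perm α) : IsFull (g * u * g⁻¹) := by
  intro x y
  rw [sameCycle_conj]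
  exact h _ _

theorem IsFull.of_conj {u : Perm α} (g : Perm α) (h : IsFull (g * u * g⁻¹)) : IsFull u := by
  have := h.conj g⁻¹
  have e : g⁻¹ * (g * u * g⁻¹) * g⁻¹⁻¹ = u := by group
  rwa [e] at this

theorem IsFull.mul_comm {x y : Perm α} (h : IsFull (x * y)) : IsFull (y * x) := by
  have := h.conj y
  have e : y * (x * y) * y⁻¹ = y * x := by group
  rwa [e] at this

theorem permCongr_zpow (e : α ≃ β) (u : Perm α) (i : ℤ) :
    e.permCongr (u ^ i) = (e.permCongr u) ^ i :=
  map_zpow e.permCongrHom u i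

theorem permCongr_pow (e : α ≃ β) (u : Perm α) (i : ℕ) :
    e.permCongr (u ^ i) = (e.permCongr u) ^ i :=
  map_pow e.permCongrHom u i

theorem IsFull.permCongr {u : Perm α} (h : IsFull u) (e : α ≃ β) : IsFull (e.permCongr u) := by
  intro x y
  obtain ⟨i, hi⟩ := h (e.symm x) (e.symm y)
  refine ⟨i, ?_⟩
  rw [← permCongr_zpow, Equiv.permCongr_apply, hi, Equiv.apply_symm_apply]

theorem IsFull.of_subsingleton [Subsingleton α] (u : Perm α) : IsFull u := by
  intro x y
  rw [Subsingleton.elim x y]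

theorem IsFull.apply_ne [Nontrivial α] {u : Perm α} (h : IsFull u) (x : α) : u x ≠ x := by
  intro hfix
  obtain ⟨y, hy⟩ := exists_ne x
  obtain ⟨i, hi⟩ := h x y
  rw [zpow_apply_eq_self_of_apply_eq_self hfix i] at hi
  exact hy hi.symm

theorem IsFull.isCycle [Nontrivial α] {u : Perm α} (h : IsFull u) : u.IsCycle := by
  obtain ⟨x⟩ := (inferInstance : Nonempty α)
  exact ⟨x, h.apply_ne x, fun y _ => h x y⟩

variable [Fintype α] [DecidableEq α]

theorem IsFull.support [Nontrivial α] {u : Perm α} (h : IsFull u) : u.support = Finset.univ := by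
  ext x
  simp [h.apply_ne x]

theorem IsFull.orderOf [Nontrivial α] {u : Perm α} (h : IsFull u) :
    orderOf u = Fintype.card α := by
  rw [h.isCycle.orderOf, h.support, Finset.card_univ]

theorem IsFull.pow_card {u : Perm α} (h : IsFull u) : u ^ Fintype.card α = 1 := by
  rcases subsingleton_or_nontrivial α with hs | hn
  · exact Subsingleton.elim _ _
  · rw [← h.orderOf]
    exact pow_orderOf_eq_one u

theorem IsFull.isConj {u v : Perm α} (hu : IsFull u) (hv : IsFull v) : IsConj u v := by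
  rcases subsingleton_or_nontrivial α with hs | hn
  · rw [Subsingleton.elim u v]
  · rw [isConj_iff_cycleType_eq, hu.isCycle.cycleType, hv.isCycle.cycleType, hu.support,
      hv.support]

/-- the square of a full cycle on an odd number of points is a full cycle -/
theorem IsFull.mul_self {u : Perm α} (h : IsFull u) (hodd : Odd (Fintype.card α)) :
    IsFull (u * u) := by
  obtain ⟨m, hm⟩ := hodd
  have hu : (u * u) ^ (m + 1) = u := by
    rw [← pow_two, ← pow_mul]
    have : 2 * (m + 1) = Fintype.card α + 1 := by omega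
    rw [this, pow_succ, h.pow_card, one_mul]
  intro x y
  obtain ⟨i, hi⟩ := h x y
  refine ⟨((m + 1 : ℕ) : ℤ) * i, ?_⟩
  rw [zpow_mul, zpow_natCast, hu, hi]

theorem IsFull.PE {u : Perm α} (h : IsFull u) {p k : ℕ} (hc : Fintype.card α = p ^ k) :
    PE p u := ⟨k, by rw [← hc]; exact h.pow_card⟩

end Full

section Rot

/-- the rotation `x ↦ x + 1` of `ZMod q` -/
def rot (q : ℕ) : Perm (ZMod q) := Equiv.addRight 1

@[simp] theorem rot_apply (q : ℕ) (x : ZMod q) : rot q x = x + 1 := rfl

theorem rot_pow_apply (q : ℕ) (i : ℕ) (x : ZMod q) : (rot q ^ i) x = x + i := by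
  induction i generalizing x with
  | zero => simp
  | succ i ih =>
    rw [pow_succ, Perm.mul_apply, ih, rot_apply]
    push_cast
    ring

theorem rot_inv_apply (q : ℕ) (x : ZMod q) : (rot q)⁻¹ x = x - 1 := by
  rw [Perm.inv_eq_iff_eq, rot_apply]
  ring

theorem isFull_rot (q : ℕ) [NeZero q] : IsFull (rot q) := by
  intro x y
  refine ⟨((y - x).val : ℤ), ?_⟩
  rw [zpow_natCast, rot_pow_apply, ZMod.natCast_zmod_val]
  ring

end Rot

section Q

variable {α : Type*} [Fintype α] [DecidableEq α] {β : Type*} [Fintype β] [DecidableEq β]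

/-- conjugators of both parities making the pair good -/
def Q (p : ℕ) (u w : Perm α) : Prop :=
  ∀ ε : ℤˣ, ∃ g : Perm α, Perm.sign g = ε ∧ Good p u (g * w * g⁻¹)

/-- some conjugate of `w` makes the product a full cycle -/
def QF (u w : Perm α) : Prop := ∃ g : Perm α, IsFull (u * (g * w * g⁻¹))

theorem Q.conj_right {p : ℕ} {u w : Perm α} (h : Q p u w) (c : Perm α) :
    Q p u (c * w * c⁻¹) := by
  intro ε
  obtain ⟨g, hg, hgood⟩ := h (ε * Perm.sign c)
  refine ⟨g * c⁻¹, ?_, ?_⟩
  · rw [Perm.sign_mul, hg, Perm.sign_inv, mul_assoc, Int.units_mul_self, mul_one]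
  · have e : g * c⁻¹ * (c * w * c⁻¹) * (g * c⁻¹)⁻¹ = g * w * g⁻¹ := by group
    rwa [e]

theorem Q.conj_left {p : ℕ} {u w : Perm α} (h : Q p u w) (c : Perm α) :
    Q p (c * u * c⁻¹) w := by
  intro ε
  obtain ⟨g, hg, hgood⟩ := h (ε * Perm.sign c)
  refine ⟨c * g, ?_, ?_⟩
  · rw [Perm.sign_mul, hg, mul_comm, mul_assoc, Int.units_mul_self, mul_one]
  · have e : c * g * w * (c * g)⁻¹ = c * (g * w * g⁻¹) * c⁻¹ := by group
    rw [e]
    exact hgood.conj c

theorem Q.of_isConj {p : ℕ} {u u' w w' : Perm α} (h : Q p u w) (hu : IsConj u u')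
    (hw : IsConj w w') : Q p u' w' := by
  obtain ⟨c, hc⟩ := isConj_iff.1 hu
  obtain ⟨d, hd⟩ := isConj_iff.1 hw
  rw [← hc, ← hd]
  exact (h.conj_right d).conj_left c

theorem Q.of_permCongr {p : ℕ} {u w : Perm α} (e : α ≃ β)
    (h : Q p (e.permCongr u) (e.permCongr w)) : Q p u w := by
  intro ε
  obtain ⟨g, hg, hgood⟩ := h ε
  refine ⟨e.symm.permCongr g, by rw [Perm.sign_permCongr, hg], ?_⟩
  apply Good.of_map (e.permCongrHom : Perm α →* Perm β)
  have e1 : (e.permCongrHom : Perm α →* Perm β) (e.symm.permCongr g * w * (e.symm.permCongr g)⁻¹)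
      = g * e.permCongr w * g⁻¹ := by
    rw [map_mul, map_mul, map_inv]
    have : (e.permCongrHom : Perm α →* Perm β) (e.symm.permCongr g) = g := by
      ext x
      simp [Equiv.permCongrHom, Equiv.permCongr_apply]
    rw [this]
    rfl
  rw [e1]
  exact hgood

/-- a good pair with an odd permutation centralizing `w` -/
theorem Q.of_good_of_comm {p : ℕ} {u w : Perm α} (h : Good p u w) (z : Perm α)
    (hz : Perm.sign z = -1) (hzw : z * w = w * z) : Q p u w := by
  intro ε
  rcases Int.units_eq_one_or ε with rfl | rfl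
  · exact ⟨1, by simp, by simpa using h⟩
  · refine ⟨z, hz, ?_⟩
    have e : z * w * z⁻¹ = w := by rw [hzw]; group
    rwa [e]

theorem QF.conj_right {u w : Perm α} (h : QF u w) (c : Perm α) : QF u (c * w * c⁻¹) := by
  obtain ⟨g, hg⟩ := h
  refine ⟨g * c⁻¹, ?_⟩
  have e : g * c⁻¹ * (c * w * c⁻¹) * (g * c⁻¹)⁻¹ = g * w * g⁻¹ := by group
  rwa [e]

theorem QF.conj_left {u w : Perm α} (h : QF u w) (c : Perm α) : QF (c * u * c⁻¹) w := by
  obtain ⟨g, hg⟩ := h
  refine ⟨c * g, ?_⟩
  have e : c * u * c⁻¹ * (c * g * w * (c * g)⁻¹) = c * (u * (g * w * g⁻¹)) * c⁻¹ := by group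
  rw [e]
  exact hg.conj c

theorem QF.of_isConj {u u' w w' : Perm α} (h : QF u w) (hu : IsConj u u')
    (hw : IsConj w w') : QF u' w' := by
  obtain ⟨c, hc⟩ := isConj_iff.1 hu
  obtain ⟨d, hd⟩ := isConj_iff.1 hw
  rw [← hc, ← hd]
  exact (h.conj_right d).conj_left c

theorem QF.of_permCongr {u w : Perm α} (e : α ≃ β)
    (h : QF (e.permCongr u) (e.permCongr w)) : QF u w := by
  obtain ⟨g, hg⟩ := h
  refine ⟨e.symm.permCongr g, ?_⟩
  have e1 : e.permCongr (u * (e.symm.permCongr g * w * (e.symm.permCongr g)⁻¹))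
      = e.permCongr u * (g * e.permCongr w * g⁻¹) := by
    have hh : ∀ a b : Perm α, e.permCongr (a * b) = e.permCongr a * e.permCongr b :=
      fun a b => e.permCongr_mul a b
    have hi : ∀ a : Perm α, e.permCongr a⁻¹ = (e.permCongr a)⁻¹ :=
      fun a => map_inv e.permCongrHom a
    rw [hh, hh, hh, hi]
    have : e.permCongr (e.symm.permCongr g) = g := by
      ext x
      simp [Equiv.permCongr_apply]
    rw [this]
  have := hg
  rw [← e1] at this
  have h2 := this.permCongr e.symm
  have e2 : ∀ a : Perm α, e.symm.permCongr (e.permCongr a) = a := by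
    intro a; ext x; simp [Equiv.permCongr_apply]
  rwa [e2] at h2

end Q

end Cfsg.Agent.Lib.H25.FP
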