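import Mathlib
import Cfsg.Agent.Lib.H15.Min3C
import Cfsg.Agent.Lib.H25.FPFull

/-!
# The 3-cycle engine (helper25, for S2276)

A subgroup of `Perm (ZMod q)` containing the rotation and a 3-cycle moving some point `a` to
`a + s` with `s` a unit contains the alternating group.
-/

set_option autoImplicit false

namespace Cfsg.Agent.Lib.H25.FP

open Equiv Equiv.Perm Cfsg.Agent.Lib.H15.Min3

theorem rel_add_unit {q : ℕ} [NeZero q] (J : Subgroup (Perm (ZMod q))) (hσ : rot q ∈ J)
    {t : Perm (ZMod q)} (ht : t ∈ J) (h3 : t.IsThreeCycle) {a s : ZMod q} (hta : t a = a + s)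
    (x : ZMod q) : Rel J x (x + s) := by
  have h0 : Rel J a (a + s) := ⟨t, Subgroup.subset_closure ⟨ht, h3⟩, hta⟩
  have h1 := Rel.smul (J.pow_mem hσ (x - a).val) h0
  rw [rot_pow_apply, rot_pow_apply, ZMod.natCast_zmod_val] at h1
  have e1 : a + (x - a) = x := by ring
  have e2 : a + s + (x - a) = x + s := by ring
  rwa [e1, e2] at h1

theorem rel_of_unit {q : ℕ} [NeZero q] (J : Subgroup (Perm (ZMod q))) (hσ : rot q ∈ J)
    {t : Perm (ZMod q)} (ht : t ∈ J) (h3 : t.IsThreeCycle) {a s : ZMod q} (hs : IsUnit s)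
    (hta : t a = a + s) (x y : ZMod q) : Rel J x y := by
  have hstep : ∀ n : ℕ, Rel J x (x + n * s) := by
    intro n
    induction n with
    | zero => simpa using Rel.refl J x
    | succ n ih =>
      have := rel_add_unit J hσ ht h3 hta (x + n * s)
      have e : x + n * s + s = x + ((n + 1 : ℕ) : ZMod q) * s := by push_cast; ring
      rw [e] at this
      exact ih.trans this
  obtain ⟨v, rfl⟩ := hs
  have := hstep ((y - x) * (v⁻¹ : (ZMod q)ˣ)).val
  rw [ZMod.natCast_zmod_val, mul_assoc, Units.inv_mul, mul_one] at this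
  have e : x + (y - x) = y := by ring
  rwa [e] at this

/-- the engine -/
theorem not_isSolvable_of_rot_threeCycle {q : ℕ} [NeZero q] (hq : 5 ≤ q)
    (J : Subgroup (Perm (ZMod q))) (hσ : rot q ∈ J) {t : Perm (ZMod q)} (ht : t ∈ J)
    (h3 : t.IsThreeCycle) {a s : ZMod q} (hs : IsUnit s) (hta : t a = a + s) :
    ¬ Group.IsSolvable J := by
  haveI : Fact (1 < q) := ⟨by omega⟩
  have hle : alternatingGroup (ZMod q) ≤ J :=
    alternatingGroup_le_of_rel (fun x y => rel_of_unit J hσ ht h3 hs hta x y)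
  exact not_isSolvable_of_alternatingGroup_le (by rw [ZMod.card]; exact hq) J hle

end Cfsg.Agent.Lib.H25.FP
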