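import Mathlib
import Cfsg.Agent.Lib.H25.FPEngine

/-!
# The core case: two full cycles on `ZMod q` (helper25, for S2276)
-/

set_option autoImplicit false

namespace Cfsg.Agent.Lib.H25.FP

open Equiv Equiv.Perm

section Emb

variable {α : Type*} [DecidableEq α] {n : ℕ}

/-- `viaEmbeddingHom` maps swaps to swaps -/
theorem viaEmbeddingHom_swap (ι : Fin n ↪ α) (i j : Fin n) :
    Equiv.Perm.viaEmbeddingHom ι (swap i j) = swap (ι i) (ι j) := by
  ext x
  by_cases hx : x ∈ Set.range ι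
  · obtain ⟨k, rfl⟩ := hx
    rw [viaEmbeddingHom_apply, viaEmbedding_apply, ι.injective.swap_apply]
  · rw [viaEmbeddingHom_apply, viaEmbedding_apply_of_notMem _ _ _ hx]
    rw [swap_apply_of_ne_of_ne] <;> rintro rfl <;> exact hx ⟨_, rfl⟩

end Emb

section Pt

variable (n q : ℕ) [NeZero q]

/-- the embedding `i ↦ i` of `Fin n` into `ZMod q` -/
def ptEmb (h : n ≤ q) : Fin n ↪ ZMod q where
  toFun i := (i.val : ZMod q)
  inj' := by
    intro i j hij
    have h1 := congrArg ZMod.val hij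
    rw [ZMod.val_natCast_of_lt (lt_of_lt_of_le i.2 h),
      ZMod.val_natCast_of_lt (lt_of_lt_of_le j.2 h)] at h1
    exact Fin.ext h1

theorem ptEmb_apply (h : n ≤ q) (i : Fin n) : ptEmb n q h i = (i.val : ZMod q) := rfl

theorem rot_ptEmb (h : n ≤ q) (i : Fin n) (hi : i.val + 1 < n) :
    rot q (ptEmb n q h i) = ptEmb n q h ⟨i.val + 1, hi⟩ := by
  rw [rot_apply, ptEmb_apply, ptEmb_apply]
  push_cast
  rfl

/-- conjugating an embedded swap by the rotation -/
theorem rot_conj_swap (h : n ≤ q) (i j : Fin n) (hi : i.val + 1 < n) (hj : j.val + 1 < n) :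
    rot q * Equiv.Perm.viaEmbeddingHom (ptEmb n q h) (swap i j) * (rot q)⁻¹ =
      Equiv.Perm.viaEmbeddingHom (ptEmb n q h) (swap ⟨i.val + 1, hi⟩ ⟨j.val + 1, hj⟩) := by
  rw [viaEmbeddingHom_swap, viaEmbeddingHom_swap, ← swap_apply_apply, rot_ptEmb, rot_ptEmb]

end Pt

section Core

variable {q : ℕ} [NeZero q]

/-- negation conjugates the rotation to its inverse -/
theorem neg_conj_rot : (Equiv.neg (ZMod q)) * rot q * (Equiv.neg (ZMod q))⁻¹ = (rot q)⁻¹ := by
  ext x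
  rw [Perm.mul_apply, Perm.mul_apply, rot_inv_apply, rot_apply]
  have : (Equiv.neg (ZMod q))⁻¹ x = -x := rfl
  rw [this]
  simp only [Equiv.neg_apply]
  ring_nf

/-- the criterion used for both parities -/
theorem good_rot_of_tau {p : ℕ} (hq : 5 ≤ q) (τ : Perm (ZMod q))
    (h1 : ¬ PE p (rot q * τ * (rot q)⁻¹ * τ⁻¹))
    (h2 : ∃ t ∈ Subgroup.closure ({rot q, rot q * τ * (rot q)⁻¹ * τ⁻¹} : Set (Perm (ZMod q))),
      t.IsThreeCycle ∧ ∃ a s : ZMod q, IsUnit s ∧ t a = a + s) :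
    Good p (rot q) (τ * (rot q)⁻¹ * τ⁻¹) := by
  have e : rot q * (τ * (rot q)⁻¹ * τ⁻¹) = rot q * τ * (rot q)⁻¹ * τ⁻¹ := by group
  refine ⟨by rw [e]; exact h1, ?_⟩
  set J := Subgroup.closure ({rot q, τ * (rot q)⁻¹ * τ⁻¹} : Set (Perm (ZMod q))) with hJ
  have hσ : rot q ∈ J := Subgroup.subset_closure (by simp)
  have hw : τ * (rot q)⁻¹ * τ⁻¹ ∈ J := Subgroup.subset_closure (by simp)
  have hc : rot q * τ * (rot q)⁻¹ * τ⁻¹ ∈ J := by
    rw [← e]; exact J.mul_mem hσ hw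
  obtain ⟨t, ht, h3, a, s, hs, hta⟩ := h2
  have htJ : t ∈ J := by
    refine (Subgroup.closure_le J).2 ?_ ht
    rintro z (rfl | rfl)
    · exact hσ
    · exact hc
  exact not_isSolvable_of_rot_threeCycle hq J hσ htJ h3 hs hta

theorem isUnit_two_of_odd (hodd : Odd q) : IsUnit (2 : ZMod q) := by
  have : ((2 : ℕ) : ZMod q) = 2 := by norm_cast
  rw [← this, ZMod.isUnit_iff_coprime]
  exact Nat.coprime_two_left.mpr hodd

theorem isUnit_four_of_odd (hodd : Odd q) : IsUnit (4 : ZMod q) := by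
  have : ((4 : ℕ) : ZMod q) = 4 := by norm_cast
  rw [← this, ZMod.isUnit_iff_coprime]
  have h2 : Nat.Coprime (2 ^ 2) q := Nat.Coprime.pow_left 2 (Nat.coprime_two_left.mpr hodd)
  simpa using h2

end Core

section Constructions

variable {q : ℕ} [NeZero q] {n : ℕ}

theorem E_apply (h : n ≤ q) (x : Perm (Fin n)) (i : Fin n) :
    Equiv.Perm.viaEmbeddingHom (ptEmb n q h) x (ptEmb n q h i) = ptEmb n q h (x i) := by
  rw [viaEmbeddingHom_apply, viaEmbedding_apply]

theorem E_isThreeCycle (h : n ≤ q) (a b c : Fin n) (ab : a ≠ b) (ac : a ≠ c) (bc : b ≠ c) :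
    (Equiv.Perm.viaEmbeddingHom (ptEmb n q h) (swap a b * swap a c)).IsThreeCycle := by
  rw [map_mul, viaEmbeddingHom_swap, viaEmbeddingHom_swap]
  exact isThreeCycle_swap_mul_swap_same ((ptEmb n q h).injective.ne ab)
    ((ptEmb n q h).injective.ne ac) ((ptEmb n q h).injective.ne bc)

theorem E_not_PE {p ℓ : ℕ} (hp : p.Prime) (hℓ : ℓ.Prime) (hne : ℓ ≠ p) (h : n ≤ q)
    (x : Perm (Fin n)) (hx : x ≠ 1) (hxl : x ^ ℓ = 1) :
    ¬ PE p (Equiv.Perm.viaEmbeddingHom (ptEmb n q h) x) := by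
  apply not_PE_of_prime_order hp hℓ hne
  · intro h1
    apply hx
    apply Equiv.Perm.viaEmbeddingHom_injective (ptEmb n q h)
    rw [h1, map_one]
  · rw [← map_pow, hxl, map_one]

theorem conj_mul3 {G : Type*} [Group G] (s a b : G) :
    s * (a * b) * s⁻¹ = (s * a * s⁻¹) * (s * b * s⁻¹) := by group

/-- an odd `τ` -/
theorem core_odd {p : ℕ} (hp : p.Prime) (hp2 : p ≠ 2) (hq : 5 ≤ q) (hodd : Odd q) :
    ∃ τ : Perm (ZMod q), Perm.sign τ = -1 ∧ Good p (rot q) (τ * (rot q)⁻¹ * τ⁻¹) := by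
  set E := Equiv.Perm.viaEmbeddingHom (ptEmb 5 q hq) with hE
  have h13 : rot q * E (swap 0 2) * (rot q)⁻¹ = E (swap 1 3) :=
    rot_conj_swap 5 q hq 0 2 (by decide) (by decide)
  have h24 : rot q * E (swap 1 3) * (rot q)⁻¹ = E (swap 2 4) :=
    rot_conj_swap 5 q hq 1 3 (by decide) (by decide)
  have hc : rot q * E (swap 0 2) * (rot q)⁻¹ * (E (swap 0 2))⁻¹ = E (swap 1 3 * swap 0 2) := by
    rw [h13, map_mul, ← map_inv, swap_inv]
  refine ⟨E (swap 0 2), ?_, ?_⟩
  · rw [hE, viaEmbeddingHom_swap]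
    exact Perm.sign_swap ((ptEmb 5 q hq).injective.ne (by decide))
  · apply good_rot_of_tau hq
    · rw [hc]
      exact E_not_PE hp Nat.prime_two (Ne.symm hp2) hq _ (by decide) (by decide)
    · rw [hc]
      refine ⟨E (swap 2 0 * swap 2 4), ?_, E_isThreeCycle hq 2 0 4 (by decide) (by decide)
        (by decide), ptEmb 5 q hq 0, 2, isUnit_two_of_odd hodd, ?_⟩
      · have e1 : E (swap 2 0 * swap 2 4) =
            E (swap 1 3 * swap 0 2) * (rot q * E (swap 1 3 * swap 0 2) * (rot q)⁻¹) := by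
          rw [map_mul E (swap 1 3) (swap 0 2), conj_mul3, h13, h24, ← map_mul, ← map_mul,
            ← map_mul]
          congr 1
          decide
        rw [e1]
        have hσ : rot q ∈ Subgroup.closure
            ({rot q, E (swap 1 3 * swap 0 2)} : Set (Perm (ZMod q))) :=
          Subgroup.subset_closure (by simp)
        have hcm : E (swap 1 3 * swap 0 2) ∈ Subgroup.closure
            ({rot q, E (swap 1 3 * swap 0 2)} : Set (Perm (ZMod q))) :=
          Subgroup.subset_closure (by simp)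
        exact Subgroup.mul_mem _ hcm
          (Subgroup.mul_mem _ (Subgroup.mul_mem _ hσ hcm) (Subgroup.inv_mem _ hσ))
      · rw [hE, E_apply]
        have : (swap (2 : Fin 5) 0 * swap 2 4 : Perm (Fin 5)) 0 = 2 := by decide
        rw [this, ptEmb_apply, ptEmb_apply]
        simp

theorem rot_conj_swap2 (h : n ≤ q) (i j k l : Fin n) (hi : i.val + 1 < n) (hj : j.val + 1 < n)
    (hk : k.val + 1 < n) (hl : l.val + 1 < n) :
    rot q * Equiv.Perm.viaEmbeddingHom (ptEmb n q h) (swap i j * swap k l) * (rot q)⁻¹ =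
      Equiv.Perm.viaEmbeddingHom (ptEmb n q h)
        (swap ⟨i.val + 1, hi⟩ ⟨j.val + 1, hj⟩ * swap ⟨k.val + 1, hk⟩ ⟨l.val + 1, hl⟩) := by
  rw [map_mul, conj_mul3, rot_conj_swap n q h i j hi hj, rot_conj_swap n q h k l hk hl, map_mul]

/-- an even `τ`, for `p ≠ 3` -/
theorem core_even_ne3 {p : ℕ} (hp : p.Prime) (hp3 : p ≠ 3) (hq : 5 ≤ q) (hodd : Odd q) :
    ∃ τ : Perm (ZMod q), Perm.sign τ = 1 ∧ Good p (rot q) (τ * (rot q)⁻¹ * τ⁻¹) := by
  set E := Equiv.Perm.viaEmbeddingHom (ptEmb 5 q hq) with hE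
  have h1 : rot q * E (swap 0 2 * swap 1 3) * (rot q)⁻¹ = E (swap 1 3 * swap 2 4) :=
    rot_conj_swap2 hq 0 2 1 3 (by decide) (by decide) (by decide) (by decide)
  have hc : rot q * E (swap 0 2 * swap 1 3) * (rot q)⁻¹ * (E (swap 0 2 * swap 1 3))⁻¹ =
      E (swap 2 4 * swap 2 0) := by
    rw [h1, ← map_inv, ← map_mul]
    congr 1
    decide
  refine ⟨E (swap 0 2 * swap 1 3), ?_, ?_⟩
  · rw [hE, map_mul, viaEmbeddingHom_swap, viaEmbeddingHom_swap, Perm.sign_mul,
      Perm.sign_swap ((ptEmb 5 q hq).injective.ne (by decide)),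
      Perm.sign_swap ((ptEmb 5 q hq).injective.ne (by decide))]
    rfl
  · apply good_rot_of_tau hq
    · rw [hc]
      exact E_not_PE hp Nat.prime_three (Ne.symm hp3) hq _ (by decide) (by decide)
    · rw [hc]
      refine ⟨E (swap 2 4 * swap 2 0), Subgroup.subset_closure (by simp),
        E_isThreeCycle hq 2 4 0 (by decide) (by decide) (by decide), ptEmb 5 q hq 0, 4,
        isUnit_four_of_odd hodd, ?_⟩
      rw [hE, E_apply]
      have : (swap (2 : Fin 5) 4 * swap 2 0 : Perm (Fin 5)) 0 = 4 := by decide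
      rw [this, ptEmb_apply, ptEmb_apply]
      simp

/-- an even `τ`, for `p = 3` (any prime different from `5` would do) -/
theorem core_even_ne5 {p : ℕ} (hp : p.Prime) (hp5 : p ≠ 5) (hq : 6 ≤ q) (hodd : Odd q) :
    ∃ τ : Perm (ZMod q), Perm.sign τ = 1 ∧ Good p (rot q) (τ * (rot q)⁻¹ * τ⁻¹) := by
  set E := Equiv.Perm.viaEmbeddingHom (ptEmb 6 q hq) with hE
  have h1 : rot q * E (swap 0 3 * swap 1 2) * (rot q)⁻¹ = E (swap 1 4 * swap 2 3) :=
    rot_conj_swap2 hq 0 3 1 2 (by decide) (by decide) (by decide) (by decide)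
  have h2 : rot q * E (swap 1 4 * swap 2 3) * (rot q)⁻¹ = E (swap 2 5 * swap 3 4) :=
    rot_conj_swap2 hq 1 4 2 3 (by decide) (by decide) (by decide) (by decide)
  have hinv : (E (swap 0 3 * swap 1 2))⁻¹ = E (swap 0 3 * swap 1 2) := by
    rw [← map_inv]
    congr 1
    decide
  have hc : rot q * E (swap 0 3 * swap 1 2) * (rot q)⁻¹ * (E (swap 0 3 * swap 1 2))⁻¹ =
      E (swap 1 4 * swap 2 3) * E (swap 0 3 * swap 1 2) := by
    rw [h1, hinv]
  have hcc : rot q * (E (swap 1 4 * swap 2 3) * E (swap 0 3 * swap 1 2)) * (rot q)⁻¹ =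
      E (swap 2 5 * swap 3 4) * E (swap 1 4 * swap 2 3) := by
    rw [conj_mul3, h1, h2]
  have hq5 : 5 ≤ q := by omega
  refine ⟨E (swap 0 3 * swap 1 2), ?_, ?_⟩
  · rw [hE, map_mul, viaEmbeddingHom_swap, viaEmbeddingHom_swap, Perm.sign_mul,
      Perm.sign_swap ((ptEmb 6 q hq).injective.ne (by decide)),
      Perm.sign_swap ((ptEmb 6 q hq).injective.ne (by decide))]
    rfl
  · apply good_rot_of_tau hq5
    · rw [hc, ← map_mul]
      exact E_not_PE hp Nat.prime_five (Ne.symm hp5) hq _ (by decide) (by decide)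
    · rw [hc]
      set c := E (swap 1 4 * swap 2 3) * E (swap 0 3 * swap 1 2) with hcdef
      refine ⟨E (swap 3 0 * swap 3 5), ?_,
        E_isThreeCycle hq 3 0 5 (by decide) (by decide) (by decide), ptEmb 6 q hq 3, 2,
        isUnit_two_of_odd hodd, ?_⟩
      · have e1 : E (swap 3 0 * swap 3 5) = c⁻¹ * (rot q * c * (rot q)⁻¹) := by
          rw [hcc, hcdef, ← map_mul, ← map_mul, ← map_inv, ← map_mul]
          congr 1
          decide
        rw [e1]
        have hσ : rot q ∈ Subgroup.closure ({rot q, c} : Set (Perm (ZMod q))) :=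
          Subgroup.subset_closure (by simp)
        have hcm : c ∈ Subgroup.closure ({rot q, c} : Set (Perm (ZMod q))) :=
          Subgroup.subset_closure (by simp)
        exact Subgroup.mul_mem _ (Subgroup.inv_mem _ hcm)
          (Subgroup.mul_mem _ (Subgroup.mul_mem _ hσ hcm) (Subgroup.inv_mem _ hσ))
      · rw [hE, E_apply]
        have : (swap (3 : Fin 6) 0 * swap 3 5 : Perm (Fin 6)) 3 = 5 := by decide
        rw [this, ptEmb_apply, ptEmb_apply]
        simp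
        norm_num

/-- the core case: both parities for two full cycles -/
theorem Q_rot_rot {p : ℕ} (hp : p.Prime) (hp2 : p ≠ 2) (hq : 5 ≤ q) (hodd : Odd q)
    (h3 : p = 3 → 6 ≤ q) : Q p (rot q) (rot q) := by
  have key : ∀ τ : Perm (ZMod q), Good p (rot q) (τ * (rot q)⁻¹ * τ⁻¹) →
      Good p (rot q) ((τ * Equiv.neg (ZMod q)) * rot q * (τ * Equiv.neg (ZMod q))⁻¹) := by
    intro τ hτ
    have e : (τ * Equiv.neg (ZMod q)) * rot q * (τ * Equiv.neg (ZMod q))⁻¹ =
        τ * (Equiv.neg (ZMod q) * rot q * (Equiv.neg (ZMod q))⁻¹) * τ⁻¹ := by group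
    rw [e, neg_conj_rot]
    exact hτ
  obtain ⟨τ₁, hs₁, hg₁⟩ := core_odd hp hp2 hq hodd
  obtain ⟨τ₂, hs₂, hg₂⟩ : ∃ τ : Perm (ZMod q), Perm.sign τ = 1 ∧
      Good p (rot q) (τ * (rot q)⁻¹ * τ⁻¹) := by
    by_cases hp3 : p = 3
    · exact core_even_ne5 hp (by omega) (h3 hp3) hodd
    · exact core_even_ne3 hp hp3 hq hodd
  intro ε
  by_cases hε : ε = Perm.sign (Equiv.neg (ZMod q) : Perm (ZMod q))
  · exact ⟨τ₂ * Equiv.neg (ZMod q), by rw [Perm.sign_mul, hs₂, one_mul, hε], key τ₂ hg₂⟩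
  · refine ⟨τ₁ * Equiv.neg (ZMod q), ?_, key τ₁ hg₁⟩
    rw [Perm.sign_mul, hs₁]
    rcases Int.units_eq_one_or ε with h | h <;>
      rcases Int.units_eq_one_or (Perm.sign (Equiv.neg (ZMod q) : Perm (ZMod q))) with h' | h' <;>
      rw [h'] at hε ⊢ <;> rw [h] at hε ⊢ <;> simp at hε ⊢

end Constructions

end Cfsg.Agent.Lib.H25.FP
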