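import Mathlib
import Cfsg.Agent.Lib.H25.FPFull

/-!
# Orbits and invariant subsets of `p`-elements (helper25, for S2276)
-/

set_option autoImplicit false

namespace Cfsg.Agent.Lib.H25.FP

open Equiv Equiv.Perm

section Orb

variable {α : Type*} [DecidableEq α]

/-- the first `m` points of the forward orbit of `x` -/
def orb (w : Perm α) (x : α) (m : ℕ) : Finset α := (Finset.range m).image (fun i => (w ^ i) x)

theorem mem_orb {w : Perm α} {x : α} {m : ℕ} {y : α} :
    y ∈ orb w x m ↔ ∃ i < m, (w ^ i) x = y := by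
  simp [orb]

theorem self_mem_orb (w : Perm α) (x : α) {m : ℕ} (hm : 0 < m) : x ∈ orb w x m :=
  mem_orb.2 ⟨0, hm, by simp⟩

theorem orb_invariant (w : Perm α) (x : α) {m : ℕ} (hm : 0 < m) (h : (w ^ m) x = x) (y : α) :
    w y ∈ orb w x m ↔ y ∈ orb w x m := by
  rw [mem_orb, mem_orb]
  constructor
  · rintro ⟨i, hi, hy⟩
    rcases Nat.eq_zero_or_pos i with rfl | hpos
    · refine ⟨m - 1, by omega, ?_⟩
      apply w.injective
      rw [← Perm.mul_apply, ← pow_succ', show m - 1 + 1 = m by omega, h]
      simpa using hy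
    · refine ⟨i - 1, by omega, ?_⟩
      apply w.injective
      rw [← Perm.mul_apply, ← pow_succ', show i - 1 + 1 = i by omega, hy]
  · rintro ⟨i, hi, rfl⟩
    by_cases him : i + 1 < m
    · exact ⟨i + 1, him, by rw [pow_succ', Perm.mul_apply]⟩
    · refine ⟨0, hm, ?_⟩
      have : i + 1 = m := by omega
      rw [← Perm.mul_apply, ← pow_succ', this, h]
      simp

theorem orb_card {p : ℕ} (hp : p.Prime) (w : Perm α) (x : α) (j : ℕ)
    (h1 : (w ^ p ^ (j + 1)) x = x) (h2 : (w ^ p ^ j) x ≠ x) :
    (orb w x (p ^ (j + 1))).card = p ^ (j + 1) := by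
  have hper : Function.minimalPeriod w x = p ^ (j + 1) := by
    have hd : Function.minimalPeriod w x ∣ p ^ (j + 1) := by
      apply Function.IsPeriodicPt.minimalPeriod_dvd
      rw [Function.IsPeriodicPt, Function.IsFixedPt, iterate_eq_pow]
      exact h1
    obtain ⟨i, hi, hpi⟩ := (Nat.dvd_prime_pow hp).1 hd
    rcases Nat.lt_or_ge i (j + 1) with hlt | hge
    · exfalso
      apply h2
      have hd2 : Function.minimalPeriod w x ∣ p ^ j := by
        rw [hpi]; exact pow_dvd_pow p (by omega)
      have := (Function.isPeriodicPt_iff_minimalPeriod_dvd (f := w) (x := x)).2 hd2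
      rw [Function.IsPeriodicPt, Function.IsFixedPt, iterate_eq_pow] at this
      exact this
    · have : i = j + 1 := by omega
      rw [hpi, this]
  rw [orb, Finset.card_image_of_injOn, Finset.card_range]
  intro a ha b hb hab
  have hinj := Function.iterate_injOn_Iio_minimalPeriod (f := w) (x := x)
  rw [hper] at hinj
  apply hinj
  · simpa using ha
  · simpa using hb
  · simp only [iterate_eq_pow]
    exact hab

theorem orb_subset (w : Perm α) (x : α) (m : ℕ) (A : Finset α) (hA : ∀ y, w y ∈ A ↔ y ∈ A)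
    (hx : x ∈ A) : orb w x m ⊆ A := by
  have key : ∀ i : ℕ, (w ^ i) x ∈ A := by
    intro i
    induction i with
    | zero => simpa using hx
    | succ i ih => rw [pow_succ', Perm.mul_apply]; exact (hA _).2 ih
  intro y hy
  obtain ⟨i, -, rfl⟩ := mem_orb.1 hy
  exact key i

end Orb

section LemG

variable {α : Type*} [DecidableEq α]

theorem invariant_sdiff (w : Perm α) {A B : Finset α} (hA : ∀ y, w y ∈ A ↔ y ∈ A)
    (hB : ∀ y, w y ∈ B ↔ y ∈ B) : ∀ y, w y ∈ A \ B ↔ y ∈ A \ B := by
  intro y
  rw [Finset.mem_sdiff, Finset.mem_sdiff, hA, hB]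

theorem invariant_union (w : Perm α) {A B : Finset α} (hA : ∀ y, w y ∈ A ↔ y ∈ A)
    (hB : ∀ y, w y ∈ B ↔ y ∈ B) : ∀ y, w y ∈ A ∪ B ↔ y ∈ A ∪ B := by
  intro y
  rw [Finset.mem_union, Finset.mem_union, hA, hB]

/-- Lemma G: an invariant subset of size exactly `p ^ j` -/
theorem lemG {p : ℕ} (hp : p.Prime) (w : Perm α) : ∀ j : ℕ, ∀ A : Finset α,
    (∀ y, w y ∈ A ↔ y ∈ A) → (∀ x ∈ A, (w ^ p ^ j) x = x) → p ^ j ≤ A.card →
    ∃ B ⊆ A, (∀ y, w y ∈ B ↔ y ∈ B) ∧ B.card = p ^ j ∧
      ((∃ x ∈ A, w x ≠ x) → ∃ x ∈ B, w x ≠ x) := by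
  intro j
  induction j with
  | zero =>
    intro A hA hfix hcard
    have hne : A.Nonempty := by
      rw [← Finset.card_pos]; simpa using hcard
    obtain ⟨x, hx⟩ := hne
    have hwx : w x = x := by simpa using hfix x hx
    refine ⟨{x}, by simpa using hx, ?_, by simp, ?_⟩
    · intro y
      simp only [Finset.mem_singleton]
      constructor
      · intro h; apply w.injective; rw [h, hwx]
      · intro h; rw [h, hwx]
    · rintro ⟨y, hy, hwy⟩
      exact absurd (by simpa using hfix y hy) hwy
  | succ j ih =>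
    intro A hA hfix hcard
    by_cases h : ∃ x ∈ A, (w ^ p ^ j) x ≠ x
    · obtain ⟨x, hx, hne⟩ := h
      have hpos : 0 < p ^ (j + 1) := pow_pos hp.pos _
      refine ⟨orb w x (p ^ (j + 1)), orb_subset w x _ A hA hx,
        orb_invariant w x hpos (hfix x hx), orb_card hp w x j (hfix x hx) hne, fun _ => ?_⟩
      refine ⟨x, self_mem_orb w x hpos, fun hwx => hne ?_⟩
      exact pow_apply_eq_self_of_apply_eq_self hwx _
    · push Not at h
      have inner : ∀ i : ℕ, i ≤ p → ∃ B ⊆ A, (∀ y, w y ∈ B ↔ y ∈ B) ∧ B.card = i * p ^ j ∧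
          (0 < i → (∃ x ∈ A, w x ≠ x) → ∃ x ∈ B, w x ≠ x) := by
        intro i
        induction i with
        | zero =>
          intro _
          exact ⟨∅, by simp, by simp, by simp, fun h => absurd h (by simp)⟩
        | succ i ihi =>
          intro hi
          obtain ⟨B, hBA, hBinv, hBcard, hBnt⟩ := ihi (by omega)
          have hA' := invariant_sdiff w hA hBinv
          have hcard' : p ^ j ≤ (A \ B).card := by
            rw [Finset.card_sdiff_of_subset hBA, hBcard]
            have h1 : (i + 1) * p ^ j ≤ p ^ (j + 1) := by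
              rw [pow_succ, mul_comm (p ^ j) p]
              exact Nat.mul_le_mul_right _ hi
            have h2 : (i + 1) * p ^ j = i * p ^ j + p ^ j := by ring
            omega
          obtain ⟨B', hB'A, hB'inv, hB'card, hB'nt⟩ := ih (A \ B) hA'
            (fun x hx => h x (Finset.mem_sdiff.1 hx).1) hcard'
          have hdisj : Disjoint B B' := by
            rw [Finset.disjoint_left]
            intro a ha ha'
            exact (Finset.mem_sdiff.1 (hB'A ha')).2 ha
          refine ⟨B ∪ B', Finset.union_subset hBA (fun a ha => (Finset.mem_sdiff.1 (hB'A ha)).1),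
            invariant_union w hBinv hB'inv, ?_, ?_⟩
          · rw [Finset.card_union_of_disjoint hdisj, hBcard, hB'card]; ring
          · intro _ hnt
            rcases Nat.eq_zero_or_pos i with rfl | hipos
            · have hB0 : B = ∅ := by
                rw [← Finset.card_eq_zero, hBcard]; simp
              obtain ⟨x, hx, hwx⟩ := hnt
              obtain ⟨y, hy, hwy⟩ := hB'nt ⟨x, by rw [hB0]; simpa using hx, hwx⟩
              exact ⟨y, Finset.mem_union_right _ hy, hwy⟩
            · obtain ⟨y, hy, hwy⟩ := hBnt hipos hnt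
              exact ⟨y, Finset.mem_union_left _ hy, hwy⟩
      obtain ⟨B, hBA, hBinv, hBcard, hBnt⟩ := inner p le_rfl
      refine ⟨B, hBA, hBinv, by rw [hBcard, pow_succ, mul_comm], hBnt hp.pos⟩

end LemG

end Cfsg.Agent.Lib.H25.FP
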