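import Mathlib
import Cfsg.Agent.Lib.H25.FPOrbit

/-!
# Cutting the domain of a `p`-element into `p` invariant layers (helper25, for S2276)
-/

set_option autoImplicit false

namespace Cfsg.Agent.Lib.H25.FP

open Equiv Equiv.Perm

section Lab

variable {α : Type*} [DecidableEq α]

theorem exists_lab {p : ℕ} (hp : p.Prime) (w : Perm α) (k : ℕ) : ∀ s : ℕ, ∀ A : Finset α,
    (∀ y, w y ∈ A ↔ y ∈ A) → (∀ x ∈ A, (w ^ p ^ k) x = x) → A.card = s * p ^ k →
    ∃ lab : α → ℕ, (∀ x, lab (w x) = lab x) ∧ (∀ x ∈ A, lab x < s) ∧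
      ∀ t < s, (A.filter (fun x => lab x = t)).card = p ^ k := by
  intro s
  induction s with
  | zero =>
    intro A _ _ hcard
    have hA : A = ∅ := by rw [← Finset.card_eq_zero, hcard]; simp
    exact ⟨fun _ => 0, fun _ => rfl, by simp [hA], by simp⟩
  | succ s ih =>
    intro A hA hfix hcard
    have hge : p ^ k ≤ A.card := by
      rw [hcard]; exact Nat.le_mul_of_pos_left _ (Nat.succ_pos s)
    obtain ⟨B, hBA, hBinv, hBcard, -⟩ := lemG hp w k A hA hfix hge
    have hcard' : (A \ B).card = s * p ^ k := by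
      rw [Finset.card_sdiff_of_subset hBA, hBcard, hcard]
      have : (s + 1) * p ^ k = s * p ^ k + p ^ k := by ring
      omega
    obtain ⟨lab', hinv', hlt', hfib'⟩ := ih (A \ B) (invariant_sdiff w hA hBinv)
      (fun x hx => hfix x (Finset.mem_sdiff.1 hx).1) hcard'
    refine ⟨fun x => if x ∈ B then s else lab' x, ?_, ?_, ?_⟩
    · intro x
      by_cases hx : x ∈ B
      · simp [hx, (hBinv x).2 hx]
      · have : w x ∉ B := fun h => hx ((hBinv x).1 h)
        simp [hx, this, hinv' x]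
    · intro x hx
      by_cases hxB : x ∈ B
      · simp [hxB]
      · simp only [hxB, if_false]
        exact Nat.lt_succ_of_lt (hlt' x (Finset.mem_sdiff.2 ⟨hx, hxB⟩))
    · intro t ht
      rcases Nat.lt_succ_iff_lt_or_eq.1 ht with hlt | rfl
      · rw [← hfib' t hlt]
        congr 1
        ext x
        simp only [Finset.mem_filter, Finset.mem_sdiff]
        by_cases hxB : x ∈ B
        · simp only [hxB, if_true, not_true, and_false, false_and, iff_false, not_and]
          intro _ h; omega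
        · simp [hxB]
      · rw [← hBcard]
        congr 1
        ext x
        simp only [Finset.mem_filter]
        by_cases hxB : x ∈ B
        · simp [hxB, hBA hxB]
        · simp only [hxB, if_false, iff_false, not_and]
          intro hx h
          have := hlt' x (Finset.mem_sdiff.2 ⟨hx, hxB⟩)
          omega

end Lab

section Layers

variable {Ω : Type*} [Fintype Ω] [DecidableEq Ω]

theorem exists_layers {p : ℕ} (hp : p.Prime) (k : ℕ) (hcard : Fintype.card Ω = p ^ (k + 1))
    (w : Perm Ω) (hw : w ^ p ^ k = 1) :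
    ∃ lab : Ω → ℕ, (∀ x, lab (w x) = lab x) ∧ (∀ x, lab x < p) ∧
      (∀ t < p, (Finset.univ.filter (fun x => lab x = t)).card = p ^ k) ∧
      (w ≠ 1 → ∃ x, lab x = 0 ∧ w x ≠ x) := by
  have hfix : ∀ x ∈ (Finset.univ : Finset Ω), (w ^ p ^ k) x = x := by
    intro x _; rw [hw]; rfl
  have hge : p ^ k ≤ (Finset.univ : Finset Ω).card := by
    rw [Finset.card_univ, hcard]; exact Nat.pow_le_pow_right hp.pos (Nat.le_succ k)
  obtain ⟨B, -, hBinv, hBcard, hBnt⟩ := lemG hp w k Finset.univ (by simp) hfix hge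
  have hcard' : (Finset.univ \ B).card = (p - 1) * p ^ k := by
    rw [Finset.card_sdiff_of_subset (Finset.subset_univ B), hBcard, Finset.card_univ, hcard,
      pow_succ, Nat.sub_mul, one_mul, mul_comm]
  obtain ⟨lab', hinv', hlt', hfib'⟩ := exists_lab hp w k (p - 1) (Finset.univ \ B)
    (invariant_sdiff w (by simp) hBinv) (fun x _ => hfix x (Finset.mem_univ x)) hcard'
  refine ⟨fun x => if x ∈ B then 0 else lab' x + 1, ?_, ?_, ?_, ?_⟩
  · intro x
    by_cases hx : x ∈ B
    · simp [hx, (hBinv x).2 hx]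
    · have : w x ∉ B := fun h => hx ((hBinv x).1 h)
      simp [hx, this, hinv' x]
  · intro x
    by_cases hxB : x ∈ B
    · simp [hxB, hp.pos]
    · simp only [hxB, if_false]
      have := hlt' x (Finset.mem_sdiff.2 ⟨Finset.mem_univ x, hxB⟩)
      omega
  · intro t ht
    rcases Nat.eq_zero_or_pos t with rfl | htpos
    · rw [← hBcard]
      congr 1
      ext x
      by_cases hxB : x ∈ B <;> simp [hxB]
    · obtain ⟨t', rfl⟩ : ∃ t', t = t' + 1 := ⟨t - 1, by omega⟩
      rw [← hfib' t' (by omega)]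
      congr 1
      ext x
      by_cases hxB : x ∈ B <;> simp [hxB]
  · intro hw1
    have : ∃ x, w x ≠ x := by
      by_contra hcon
      push Not at hcon
      exact hw1 (Equiv.ext hcon)
    obtain ⟨x, hx⟩ := this
    obtain ⟨y, hyB, hwy⟩ := hBnt ⟨x, Finset.mem_univ x, hx⟩
    exact ⟨y, by simp [hyB], hwy⟩

/-- the layer decomposition as an equivalence with a product -/
theorem exists_layer_equiv {p : ℕ} [Fact p.Prime] (k : ℕ)
    (hcard : Fintype.card Ω = p ^ (k + 1)) (w : Perm Ω) (hw : w ^ p ^ k = 1) :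
    ∃ e : Ω ≃ ZMod p × ZMod (p ^ k), (∀ x, (e (w x)).1 = (e x).1) ∧
      (w ≠ 1 → ∃ x, (e x).1 = 0 ∧ w x ≠ x) := by
  have hp : p.Prime := Fact.out
  haveI : NeZero p := ⟨hp.ne_zero⟩
  haveI : NeZero (p ^ k) := ⟨pow_ne_zero k hp.ne_zero⟩
  obtain ⟨lab, hinv, hlt, hfib, hnt⟩ := exists_layers hp k hcard w hw
  let labZ : Ω → ZMod p := fun x => (lab x : ZMod p)
  have hiff : ∀ (x : Ω) (t : ZMod p), labZ x = t ↔ lab x = t.val := by
    intro x t
    constructor
    · intro h
      rw [← h]
      exact (ZMod.val_natCast_of_lt (hlt x)).symm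
    · intro h
      show ((lab x : ℕ) : ZMod p) = t
      rw [h, ZMod.natCast_zmod_val]
  have hc : ∀ t : ZMod p, Fintype.card {x // labZ x = t} = Fintype.card (ZMod (p ^ k)) := by
    intro t
    rw [Fintype.card_subtype, ZMod.card, ← hfib t.val (ZMod.val_lt t)]
    congr 1
    ext x
    simp only [Finset.mem_filter, Finset.mem_univ, true_and]
    exact hiff x t
  let et : ∀ t : ZMod p, {x // labZ x = t} ≃ ZMod (p ^ k) := fun t => Fintype.equivOfCardEq (hc t)
  refine ⟨(Equiv.sigmaFiberEquiv labZ).symm.trans (Equiv.sigmaEquivProdOfEquiv et), ?_, ?_⟩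
  · intro x
    show labZ (w x) = labZ x
    show ((lab (w x) : ℕ) : ZMod p) = ((lab x : ℕ) : ZMod p)
    rw [hinv]
  · intro hw1
    obtain ⟨x, hx0, hwx⟩ := hnt hw1
    refine ⟨x, ?_, hwx⟩
    show ((lab x : ℕ) : ZMod p) = 0
    rw [hx0]; simp

end Layers

end Cfsg.Agent.Lib.H25.FP
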