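import Mathlib
import Cfsg.Agent.Lib.H25.FPFull

/-!
# The layered model (helper25, for S2276)

On `ZMod r × F`: `lay w` acts on the layer `{t} × F` by `w t`, and `uL r ρ` moves the layer `t` to the
layer `t + 1`, applying `ρ` when it arrives in the layer `0`.
-/

set_option autoImplicit false

namespace Cfsg.Agent.Lib.H25.FP

open Equiv Equiv.Perm

section General

variable {G : Type*} [Group G] {H : Type*} [Group H]

theorem not_isSolvable_closure_pair_of_map (φ : G →* H) (x y : G)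
    (h : ¬ Group.IsSolvable (Subgroup.closure ({φ x, φ y} : Set H))) :
    ¬ Group.IsSolvable (Subgroup.closure ({x, y} : Set G)) := by
  intro hs
  apply h
  rw [← map_closure_pair]
  exact Group.isSolvable_of_surjective
    (f := (φ.subgroupMap (Subgroup.closure ({x, y} : Set G))))
    (φ.subgroupMap_surjective _)

theorem not_isSolvable_closure_pair_map_of_injective (φ : G →* H) (hφ : Function.Injective φ)
    (x y : G) (h : ¬ Group.IsSolvable (Subgroup.closure ({x, y} : Set G))) :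
    ¬ Group.IsSolvable (Subgroup.closure ({φ x, φ y} : Set H)) := by
  intro hs
  apply h
  rw [← map_closure_pair] at hs
  exact Group.isSolvable_of_isSolvable_injective
    (f := ((Subgroup.closure ({x, y} : Set G)).equivMapOfInjective φ hφ).toMonoidHom)
    ((Subgroup.closure ({x, y} : Set G)).equivMapOfInjective φ hφ).injective

end General

section Model

variable {r : ℕ} [NeZero r] {F : Type*}

/-- the layered permutation -/
def lay (w : ZMod r → Perm F) : Perm (ZMod r × F) := Equiv.prodCongrRight w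

@[simp] theorem lay_apply (w : ZMod r → Perm F) (t : ZMod r) (y : F) :
    lay w (t, y) = (t, w t y) := rfl

theorem lay_fst (w : ZMod r → Perm F) (x : ZMod r × F) : (lay w x).1 = x.1 := rfl

theorem lay_mul (w w' : ZMod r → Perm F) : lay (w * w') = lay w * lay w' := by
  ext ⟨t, y⟩ <;> rfl

theorem lay_one : lay (1 : ZMod r → Perm F) = 1 := by
  ext ⟨t, y⟩ <;> rfl

/-- `lay` as a homomorphism -/
def layHom : (ZMod r → Perm F) →* Perm (ZMod r × F) where
  toFun := lay
  map_one' := lay_one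
  map_mul' := lay_mul

theorem lay_inv (w : ZMod r → Perm F) : lay w⁻¹ = (lay w)⁻¹ := map_inv layHom w

theorem lay_conj (c w : ZMod r → Perm F) : lay (c * w * c⁻¹) = lay c * lay w * (lay c)⁻¹ := by
  rw [lay_mul, lay_mul, lay_inv]

/-- layers given by a sequence -/
def layN (r : ℕ) [NeZero r] (W : ℕ → Perm F) : Perm (ZMod r × F) := lay (fun t : ZMod r => W t.val)

theorem layN_apply (W : ℕ → Perm F) (t : ZMod r) (y : F) :
    layN r W (t, y) = (t, W t.val y) := rfl

/-- the shift of the layers -/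
def shiftT : Perm (ZMod r × F) := (Equiv.addRight (1 : ZMod r)).prodCongr (Equiv.refl F)

theorem shiftT_apply (t : ZMod r) (y : F) : (shiftT : Perm (ZMod r × F)) (t, y) = (t + 1, y) := rfl

/-- the model full cycle -/
def uL (r : ℕ) [NeZero r] (ρ : Perm F) : Perm (ZMod r × F) :=
  lay (fun t : ZMod r => if t = 0 then ρ else 1) * shiftT

theorem uL_apply (ρ : Perm F) (t : ZMod r) (y : F) :
    uL r ρ (t, y) = (t + 1, if t + 1 = 0 then ρ y else y) := by
  rw [uL, Perm.mul_apply, shiftT_apply, lay_apply]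
  split_ifs <;> rfl

/-- partial products of the layers -/
def Vseq (W : ℕ → Perm F) : ℕ → Perm F
  | 0 => 1
  | (j + 1) => W j * Vseq W j

@[simp] theorem Vseq_zero (W : ℕ → Perm F) : Vseq W 0 = 1 := rfl

theorem Vseq_succ (W : ℕ → Perm F) (j : ℕ) : Vseq W (j + 1) = W j * Vseq W j := rfl

theorem Vseq_congr {W W' : ℕ → Perm F} {j : ℕ} (h : ∀ i < j, W i = W' i) :
    Vseq W j = Vseq W' j := by
  induction j with
  | zero => rfl
  | succ j ih =>
    rw [Vseq_succ, Vseq_succ, h j (Nat.lt_succ_self j), ih (fun i hi => h i (Nat.lt_succ_of_lt hi))]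

theorem Vseq_succ' (W : ℕ → Perm F) (j : ℕ) :
    Vseq W (j + 1) = Vseq (fun i => W (i + 1)) j * W 0 := by
  induction j with
  | zero => simp [Vseq_succ]
  | succ j ih => rw [Vseq_succ, ih, Vseq_succ, mul_assoc]

theorem Vseq_one (j : ℕ) : Vseq (fun _ => (1 : Perm F)) j = 1 := by
  induction j with
  | zero => rfl
  | succ j ih => rw [Vseq_succ, ih, mul_one]

variable (ρ : Perm F) (W : ℕ → Perm F)

theorem U_fst (x : ZMod r × F) : ((uL r ρ * layN r W) x).1 = x.1 + 1 := by
  obtain ⟨t, y⟩ := x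
  rw [Perm.mul_apply, layN_apply, uL_apply]

theorem U_pow_fst (i : ℕ) (x : ZMod r × F) : (((uL r ρ * layN r W) ^ i) x).1 = x.1 + i := by
  induction i with
  | zero => simp
  | succ i ih =>
    rw [pow_succ', Perm.mul_apply, U_fst, ih]
    push_cast
    ring

theorem U_step (j : ℕ) (hj : j < r) (z : F) :
    (uL r ρ * layN r W) (((j : ℕ) : ZMod r), z) =
      (((j + 1 : ℕ) : ZMod r), if ((j + 1 : ℕ) : ZMod r) = 0 then ρ (W j z) else W j z) := by
  rw [Perm.mul_apply, layN_apply, uL_apply, ZMod.val_natCast_of_lt hj]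
  push_cast
  rfl

theorem U_pow_layer0 (j : ℕ) (hj : j < r) (y : F) :
    ((uL r ρ * layN r W) ^ j) ((0 : ZMod r), y) = (((j : ℕ) : ZMod r), Vseq W j y) := by
  induction j with
  | zero => simp
  | succ j ih =>
    rw [pow_succ', Perm.mul_apply, ih (by omega), U_step ρ W j (by omega)]
    have hne : ((j + 1 : ℕ) : ZMod r) ≠ 0 := by
      rw [Ne, ZMod.natCast_eq_zero_iff]
      intro hd
      have := Nat.le_of_dvd (Nat.succ_pos j) hd
      omega
    rw [if_neg hne, Vseq_succ, Perm.mul_apply]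

theorem U_pow_r (y : F) :
    ((uL r ρ * layN r W) ^ r) ((0 : ZMod r), y) = ((0 : ZMod r), (ρ * Vseq W r) y) := by
  have hr : 0 < r := Nat.pos_of_ne_zero (NeZero.ne r)
  obtain ⟨j, rfl⟩ : ∃ j, r = j + 1 := ⟨r - 1, by omega⟩
  rw [pow_succ', Perm.mul_apply, U_pow_layer0 ρ W j (by omega), U_step ρ W j (by omega)]
  have h0 : ((j + 1 : ℕ) : ZMod (j + 1)) = 0 := ZMod.natCast_self (j + 1)
  rw [if_pos h0, h0, Vseq_succ, Perm.mul_apply, Perm.mul_apply]

theorem zpow_apply_layer0 (P : Perm (ZMod r × F)) (M : Perm F)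
    (h : ∀ y, P ((0 : ZMod r), y) = ((0 : ZMod r), M y)) :
    ∀ (i : ℤ) (y : F), (P ^ i) ((0 : ZMod r), y) = ((0 : ZMod r), (M ^ i) y) := by
  have hnat : ∀ (i : ℕ) (y : F), (P ^ i) ((0 : ZMod r), y) = ((0 : ZMod r), (M ^ i) y) := by
    intro i
    induction i with
    | zero => intro y; simp
    | succ i ih => intro y; rw [pow_succ', Perm.mul_apply, ih, h, pow_succ', Perm.mul_apply]
  have hinv : ∀ (i : ℕ) (y : F), ((P ^ i)⁻¹) ((0 : ZMod r), y) = ((0 : ZMod r), ((M ^ i)⁻¹) y) := by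
    intro i y
    rw [Perm.inv_eq_iff_eq, hnat]
    simp
  intro i y
  cases i with
  | ofNat n => simpa using hnat n y
  | negSucc n => rw [zpow_negSucc, zpow_negSucc]; exact hinv (n + 1) y

/-- the product is a full cycle if its return map to the layer `0` is -/
theorem isFull_U (h : IsFull (ρ * Vseq W r)) : IsFull (uL r ρ * layN r W) := by
  set U := uL r ρ * layN r W with hU
  have h0 : ∀ x : ZMod r × F, ∃ y : F, U.SameCycle x ((0 : ZMod r), y) := by
    intro x
    refine ⟨((U ^ (-x.1).val) x).2, ((-x.1).val : ℤ), ?_⟩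
    rw [zpow_natCast]
    apply Prod.ext
    · rw [hU, U_pow_fst, ZMod.natCast_zmod_val]; simp
    · rfl
  have h1 : ∀ y y' : F, U.SameCycle ((0 : ZMod r), y) ((0 : ZMod r), y') := by
    intro y y'
    obtain ⟨i, hi⟩ := h y y'
    refine ⟨(r : ℤ) * i, ?_⟩
    rw [zpow_mul, zpow_natCast, zpow_apply_layer0 (U ^ r) (ρ * Vseq W r) (U_pow_r ρ W) i y, hi]
  intro x x'
  obtain ⟨y, hy⟩ := h0 x
  obtain ⟨y', hy'⟩ := h0 x'
  exact (hy.trans (h1 y y')).trans hy'.symm

theorem PE_return {p : ℕ} (h : PE p (uL r ρ * layN r W)) : PE p (ρ * Vseq W r) := by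
  obtain ⟨k, hk⟩ := h
  refine ⟨k, ?_⟩
  ext y
  have h1 := zpow_apply_layer0 ((uL r ρ * layN r W) ^ r) (ρ * Vseq W r) (U_pow_r ρ W) ((p ^ k : ℕ) : ℤ) y
  rw [zpow_natCast, zpow_natCast, ← pow_mul, mul_comm, pow_mul, hk, one_pow] at h1
  have := congrArg Prod.snd h1
  simpa using this.symm

/-- the return-map homomorphism of the stabilizer of the layer `0` -/
def res0 : stabP (fun x : ZMod r × F => x.1 = 0) →* Perm F :=
  ((Equiv.permCongrHom (⟨fun x => x.1.2, fun y => ⟨((0 : ZMod r), y), rfl⟩,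
      fun x => by
        obtain ⟨⟨t, y⟩, hx⟩ := x
        simp only at hx
        subst hx
        rfl,
      fun y => rfl⟩ : {x : ZMod r × F // x.1 = 0} ≃ F)).toMonoidHom).comp
    (resHom (fun x : ZMod r × F => x.1 = 0))

theorem res0_apply (g : stabP (fun x : ZMod r × F => x.1 = 0)) (y : F) :
    res0 g y = (g.1 ((0 : ZMod r), y)).2 := rfl

theorem U_pow_r_mem : (uL r ρ * layN r W) ^ r ∈ stabP (fun x : ZMod r × F => x.1 = 0) := by
  intro x
  show (((uL r ρ * layN r W) ^ r) x).1 = 0 ↔ x.1 = 0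
  rw [U_pow_fst, ZMod.natCast_self, add_zero]

theorem layN_mem : layN r W ∈ stabP (fun x : ZMod r × F => x.1 = 0) := by
  intro x
  rfl

theorem not_isSolvable_model (ρ' : Perm F) (hM : ρ * Vseq W r = ρ' * W 0)
    (h : ¬ Group.IsSolvable (Subgroup.closure ({ρ', W 0} : Set (Perm F)))) :
    ¬ Group.IsSolvable (Subgroup.closure ({uL r ρ, layN r W} : Set (Perm (ZMod r × F)))) := by
  set U := uL r ρ * layN r W with hU
  have hx : U ^ r ∈ stabP (fun x : ZMod r × F => x.1 = 0) := U_pow_r_mem ρ W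
  have hy : layN r W ∈ stabP (fun x : ZMod r × F => x.1 = 0) := layN_mem W
  have e1 : res0 ⟨U ^ r, hx⟩ = ρ' * W 0 := by
    ext y
    rw [res0_apply, ← hM]
    show ((U ^ r) ((0 : ZMod r), y)).2 = _
    rw [hU, U_pow_r]
  have e2 : res0 ⟨layN r W, hy⟩ = W 0 := by
    ext y
    rw [res0_apply]
    show (layN r W ((0 : ZMod r), y)).2 = _
    rw [layN_apply, ZMod.val_zero]
  have h1 : ¬ Group.IsSolvable (Subgroup.closure ({ρ' * W 0, W 0} : Set (Perm F))) := by
    rw [closure_mul_pair]; exact h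
  rw [← e1, ← e2] at h1
  have h2 := not_isSolvable_closure_pair_of_map res0 _ _ h1
  have h3 := not_isSolvable_closure_pair_map_of_injective
    (stabP (fun x : ZMod r × F => x.1 = 0)).subtype (Subgroup.subtype_injective _) _ _ h2
  refine not_isSolvable_closure_of_subset ?_ h3
  have hu : uL r ρ ∈ Subgroup.closure ({uL r ρ, layN r W} : Set (Perm (ZMod r × F))) :=
    Subgroup.subset_closure (by simp)
  have hl : layN r W ∈ Subgroup.closure ({uL r ρ, layN r W} : Set (Perm (ZMod r × F))) :=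
    Subgroup.subset_closure (by simp)
  rintro z (rfl | rfl)
  · exact Subgroup.pow_mem _ (Subgroup.mul_mem _ hu hl) r
  · exact hl

/-- the model is good if the return map is -/
theorem good_model {p : ℕ} (ρ' : Perm F) (hM : ρ * Vseq W r = ρ' * W 0)
    (h : Good p ρ' (W 0)) : Good p (uL r ρ) (layN r W) := by
  refine ⟨fun hpe => h.1 ?_, not_isSolvable_model ρ W ρ' hM h.2⟩
  rw [← hM]
  exact PE_return ρ W hpe

/-- a permutation preserving the layers is layered -/
theorem exists_lay_of_fst (σ : Perm (ZMod r × F)) (h : ∀ x, (σ x).1 = x.1) :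
    ∃ w : ZMod r → Perm F, σ = lay w := by
  have h' : ∀ x, (σ⁻¹ x).1 = x.1 := by
    intro x
    have := h (σ⁻¹ x)
    simp only [Perm.coe_inv, Equiv.apply_symm_apply] at this
    exact this.symm
  refine ⟨fun t => ⟨fun y => (σ (t, y)).2, fun y => (σ⁻¹ (t, y)).2, ?_, ?_⟩, ?_⟩
  · intro y
    have : (t, (σ (t, y)).2) = σ (t, y) := Prod.ext (h (t, y)).symm rfl
    show (σ⁻¹ (t, (σ (t, y)).2)).2 = y
    rw [this]
    simp
  · intro y
    have : (t, (σ⁻¹ (t, y)).2) = σ⁻¹ (t, y) := Prod.ext (h' (t, y)).symm rfl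
    show (σ (t, (σ⁻¹ (t, y)).2)).2 = y
    rw [this]
    simp
  · ext ⟨t, y⟩
    · exact h (t, y)
    · rfl

end Model

section Sign

variable {r : ℕ} [NeZero r] {F : Type*} [Fintype F] [DecidableEq F]

theorem sign_lay (w : ZMod r → Perm F) : Perm.sign (lay w) = ∏ t, Perm.sign (w t) :=
  sign_prodCongrRight w

end Sign

end Cfsg.Agent.Lib.H25.FP
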