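import Mathlib
import Cfsg.Agent.Lib.H25.FPFull

/-!
# Permutations of prime order are classified by their support (helper25, for S2276)
-/

set_option autoImplicit false

namespace Cfsg.Agent.Lib.H25.FP

open Equiv Equiv.Perm

variable {α : Type*} [Fintype α] [DecidableEq α]

theorem cycleType_of_pow_prime {p : ℕ} (hp : p.Prime) {x : Perm α} (hx : x ≠ 1)
    (hxp : x ^ p = 1) :
    ∃ n : ℕ, x.cycleType = Multiset.replicate (n + 1) p ∧ x.support.card = (n + 1) * p := by
  haveI : Fact p.Prime := ⟨hp⟩
  have ho : orderOf x = p := orderOf_eq_prime hxp hx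
  obtain ⟨n, hn⟩ := cycleType_prime_order (σ := x) (by rw [ho]; exact hp)
  rw [ho] at hn
  refine ⟨n, hn, ?_⟩
  rw [← sum_cycleType, hn, Multiset.sum_replicate, smul_eq_mul]

theorem isConj_of_pow_prime {p : ℕ} (hp : p.Prime) {x y : Perm α} (hx : x ^ p = 1)
    (hy : y ^ p = 1) (hc : x.support.card = y.support.card) : IsConj x y := by
  by_cases hx1 : x = 1
  · have : y = 1 := by
      rw [← card_support_eq_zero, ← hc, card_support_eq_zero]; exact hx1
    rw [hx1, this]
  · have hy1 : y ≠ 1 := by
      intro h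
      apply hx1
      rw [← card_support_eq_zero, hc, card_support_eq_zero]; exact h
    obtain ⟨n, hn, hcn⟩ := cycleType_of_pow_prime hp hx1 hx
    obtain ⟨m, hm, hcm⟩ := cycleType_of_pow_prime hp hy1 hy
    rw [isConj_iff_cycleType_eq, hn, hm]
    have : n + 1 = m + 1 := by
      have h := hcn.symm.trans (hc.trans hcm)
      exact Nat.eq_of_mul_eq_mul_right hp.pos h
    rw [this]

end Cfsg.Agent.Lib.H25.FP
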