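import Mathlib
import Cfsg.Agent.Lib.H25.FPEngine
import Cfsg.Agent.Lib.H25.FPOrd

/-!
# Nine points: a 9-cycle against an element of order 3 (helper25, for S2276)
-/

set_option autoImplicit false

namespace Cfsg.Agent.Lib.H25.FP

open Equiv Equiv.Perm

theorem good9_aux (w t : Perm (ZMod 9)) (h7 : (rot 9 * w) ^ 7 = 1) (hne : rot 9 * w ≠ 1)
    (ht : t ∈ Subgroup.closure ({rot 9, w} : Set (Perm (ZMod 9)))) (h3 : t.IsThreeCycle)
    (a s : ZMod 9) (hs : IsUnit s) (hta : t a = a + s) : Good 3 (rot 9) w := by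
  refine ⟨not_PE_of_prime_order Nat.prime_three (by norm_num : Nat.Prime 7) (by norm_num) hne h7,
    ?_⟩
  exact not_isSolvable_of_rot_threeCycle (q := 9) (by norm_num) _
    (Subgroup.subset_closure (by simp)) ht h3 hs hta

/-- one 3-cycle -/
def w91 : Perm (ZMod 9) := swap 4 2 * swap 4 3

/-- two 3-cycles -/
def w92 : Perm (ZMod 9) := swap 0 5 * swap 5 1 * (swap 2 7 * swap 7 3)

/-- three 3-cycles -/
def w93 : Perm (ZMod 9) := swap 0 1 * swap 1 2 * (swap 3 4 * swap 4 5) * (swap 6 8 * swap 8 7)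

theorem isUnit_two_nine : IsUnit (2 : ZMod 9) :=
  IsUnit.of_mul_eq_one (5 : ZMod 9) (by decide)

theorem isUnit_eight_nine : IsUnit (8 : ZMod 9) :=
  IsUnit.of_mul_eq_one (8 : ZMod 9) (by decide)

theorem good_w91 : Good 3 (rot 9) w91 := by
  refine good9_aux w91 w91 (by decide) (by decide) (Subgroup.subset_closure (by simp)) ?_
    2 2 isUnit_two_nine (by decide)
  exact isThreeCycle_swap_mul_swap_same (by decide) (by decide) (by decide)

set_option maxRecDepth 20000 in
theorem good_w92 : Good 3 (rot 9) w92 := by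
  have e : swap (3 : ZMod 9) 8 * swap 3 0 =
      (rot 9)⁻¹ * w92 * rot 9 * (rot 9 * w92⁻¹ * (rot 9)⁻¹) := by decide
  refine good9_aux w92 (swap 3 8 * swap 3 0) (by decide) (by decide) ?_ ?_
    0 8 isUnit_eight_nine (by decide)
  · rw [e]
    have hσ : rot 9 ∈ Subgroup.closure ({rot 9, w92} : Set (Perm (ZMod 9))) :=
      Subgroup.subset_closure (by simp)
    have hw : w92 ∈ Subgroup.closure ({rot 9, w92} : Set (Perm (ZMod 9))) :=
      Subgroup.subset_closure (by simp)
    exact Subgroup.mul_mem _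
      (Subgroup.mul_mem _ (Subgroup.mul_mem _ (Subgroup.inv_mem _ hσ) hw) hσ)
      (Subgroup.mul_mem _ (Subgroup.mul_mem _ hσ (Subgroup.inv_mem _ hw)) (Subgroup.inv_mem _ hσ))
  · exact isThreeCycle_swap_mul_swap_same (by decide) (by decide) (by decide)

set_option maxRecDepth 20000 in
theorem good_w93 : Good 3 (rot 9) w93 := by
  have e : swap (3 : ZMod 9) 4 * swap 3 2 =
      (rot 9)⁻¹ * w93 * rot 9 * (rot 9 * rot 9 * w93 * (rot 9)⁻¹ * (rot 9)⁻¹) := by decide
  refine good9_aux w93 (swap 3 4 * swap 3 2) (by decide) (by decide) ?_ ?_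
    2 2 isUnit_two_nine (by decide)
  · rw [e]
    have hσ : rot 9 ∈ Subgroup.closure ({rot 9, w93} : Set (Perm (ZMod 9))) :=
      Subgroup.subset_closure (by simp)
    have hw : w93 ∈ Subgroup.closure ({rot 9, w93} : Set (Perm (ZMod 9))) :=
      Subgroup.subset_closure (by simp)
    have hi := Subgroup.inv_mem _ hσ
    exact Subgroup.mul_mem _
      (Subgroup.mul_mem _ (Subgroup.mul_mem _ hi hw) hσ)
      (Subgroup.mul_mem _ (Subgroup.mul_mem _ (Subgroup.mul_mem _ (Subgroup.mul_mem _ hσ hσ) hw)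
        hi) hi)
  · exact isThreeCycle_swap_mul_swap_same (by decide) (by decide) (by decide)

theorem Q_w91 : Q 3 (rot 9) w91 :=
  Q.of_good_of_comm good_w91 (swap 0 1) (by decide) (by decide)

theorem Q_w92 : Q 3 (rot 9) w92 :=
  Q.of_good_of_comm good_w92 (swap 4 6) (by decide) (by decide)

theorem Q_w93 : Q 3 (rot 9) w93 :=
  Q.of_good_of_comm good_w93 (swap 0 3 * swap 1 4 * swap 2 5) (by decide) (by decide)

/-- a 9-cycle against any element of order 3 -/
theorem Q_nine (w : Perm (ZMod 9)) (hw : w ≠ 1) (hw3 : w ^ 3 = 1) : Q 3 (rot 9) w := by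
  obtain ⟨n, -, hcn⟩ := cycleType_of_pow_prime Nat.prime_three hw hw3
  have hle : w.support.card ≤ 9 := by
    have := Finset.card_le_univ w.support
    rwa [ZMod.card] at this
  have hn : n ≤ 2 := by omega
  have key : ∀ w' : Perm (ZMod 9), Q 3 (rot 9) w' → w' ^ 3 = 1 →
      w'.support.card = w.support.card → Q 3 (rot 9) w := by
    intro w' hQ h3 hc
    exact hQ.of_isConj (IsConj.refl _) (isConj_of_pow_prime Nat.prime_three h3 hw3 hc)
  interval_cases n
  · exact key w91 Q_w91 (by decide) (by rw [hcn]; decide)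
  · exact key w92 Q_w92 (by decide) (by rw [hcn]; decide)
  · exact key w93 Q_w93 (by decide) (by rw [hcn]; decide)

end Cfsg.Agent.Lib.H25.FP
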