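import Mathlib
import Cfsg.Agent.Lib.H25.FPCore
import Cfsg.Agent.Lib.H25.FPNine
import Cfsg.Agent.Lib.H25.FPLayer
import Cfsg.Agent.Lib.H25.FPModel

/-!
# A full cycle against a `p`-element on `p ^ k` points (helper25, for S2276)
-/

set_option autoImplicit false

namespace Cfsg.Agent.Lib.H25.FP

open Equiv Equiv.Perm

section Dichotomy

variable {Ω : Type*} [Fintype Ω] [DecidableEq Ω]

/-- a `p`-element on `p ^ (k+1)` points is a full cycle or has exponent `p ^ k` -/
theorem isFull_or_pow_eq_one {p : ℕ} (hp : p.Prime) (k : ℕ) (hcard : Fintype.card Ω = p ^ (k + 1))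
    (w : Perm Ω) (hw : PE p w) : IsFull w ∨ w ^ p ^ k = 1 := by
  by_cases h : w ^ p ^ k = 1
  · exact Or.inr h
  left
  obtain ⟨x, hx⟩ : ∃ x, (w ^ p ^ k) x ≠ x := by
    by_contra hcon
    push Not at hcon
    exact h (Equiv.ext hcon)
  obtain ⟨m, hm⟩ := hw
  -- the minimal period of `x`
  have hd : Function.minimalPeriod w x ∣ p ^ m := by
    apply Function.IsPeriodicPt.minimalPeriod_dvd
    rw [Function.IsPeriodicPt, Function.IsFixedPt, iterate_eq_pow, hm]
    rfl
  obtain ⟨i, -, hpi⟩ := (Nat.dvd_prime_pow hp).1 hd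
  have hle : Function.minimalPeriod w x ≤ Fintype.card Ω := by
    have hinj := Function.iterate_injOn_Iio_minimalPeriod (f := w) (x := x)
    have := Finset.card_le_card_of_injOn (s := Finset.range (Function.minimalPeriod w x))
      (t := Finset.univ) (fun n => w^[n] x) (fun _ _ => Finset.mem_univ _)
      (fun a ha b hb hab => hinj (by simpa using ha) (by simpa using hb) hab)
    simpa using this
  have hik : k < i := by
    by_contra hcon
    push Not at hcon
    apply hx
    have hd2 : Function.minimalPeriod w x ∣ p ^ k := by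
      rw [hpi]; exact pow_dvd_pow p hcon
    have := (Function.isPeriodicPt_iff_minimalPeriod_dvd (f := w) (x := x)).2 hd2
    rw [Function.IsPeriodicPt, Function.IsFixedPt, iterate_eq_pow] at this
    exact this
  have hi : i = k + 1 := by
    have h1 : p ^ i ≤ p ^ (k + 1) := by rw [← hpi, ← hcard]; exact hle
    have := (Nat.pow_le_pow_iff_right hp.one_lt).1 h1
    omega
  have hper : (w ^ p ^ (k + 1)) x = x := by
    have := Function.isPeriodicPt_minimalPeriod w x
    rw [hpi, hi, Function.IsPeriodicPt, Function.IsFixedPt, iterate_eq_pow] at this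
    exact this
  have hcardorb := orb_card hp w x k hper hx
  have huniv : orb w x (p ^ (k + 1)) = Finset.univ := by
    apply Finset.eq_univ_of_card
    rw [hcardorb, hcard]
  have hx_all : ∀ y, w.SameCycle x y := by
    intro y
    have : y ∈ orb w x (p ^ (k + 1)) := by rw [huniv]; exact Finset.mem_univ y
    obtain ⟨n, -, hn⟩ := mem_orb.1 this
    exact ⟨(n : ℤ), by rw [zpow_natCast]; exact hn⟩
  intro y z
  exact (hx_all y).symm.trans (hx_all z)

end Dichotomy

/-- the statement `FC` at level `k` -/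
def FCk (p k : ℕ) : Prop :=
  ∀ (Ω : Type) [Fintype Ω] [DecidableEq Ω], Fintype.card Ω = p ^ k →
    ∀ u w : Perm Ω, IsFull u → PE p w → QF u w

/-- the statement `P` at level `k` -/
def Pk (p k : ℕ) : Prop :=
  ∀ (Ω : Type) [Fintype Ω] [DecidableEq Ω], Fintype.card Ω = p ^ k → 5 ≤ p ^ k →
    ∀ u w : Perm Ω, IsFull u → w ≠ 1 → PE p w → Q p u w

section Claim

variable {F : Type} [Fintype F] [DecidableEq F]

/-- conjugate the layers one after the other so that the partial products stay full cycles -/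
theorem exists_conj_Vseq_full {p : ℕ}
    (hFC : ∀ ρ y : Perm F, IsFull ρ → PE p y → QF ρ y) (W : ℕ → Perm F)
    (hW : ∀ i, PE p (W i)) (ρ : Perm F) (hρ : IsFull ρ) :
    ∀ j : ℕ, ∃ c : ℕ → Perm F, IsFull (ρ * Vseq (fun i => c i * W i * (c i)⁻¹) j) := by
  intro j
  induction j with
  | zero => exact ⟨fun _ => 1, by simpa using hρ⟩
  | succ j ih =>
    obtain ⟨c, hc⟩ := ih
    set V := Vseq (fun i => c i * W i * (c i)⁻¹) j with hV
    obtain ⟨g, hg⟩ := hFC (V * ρ) (W j) hc.mul_comm (hW j)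
    refine ⟨Function.update c j g, ?_⟩
    rw [Vseq_succ]
    have e1 : Vseq (fun i => Function.update c j g i * W i * (Function.update c j g i)⁻¹) j = V := by
      rw [hV]
      apply Vseq_congr
      intro i hi
      rw [Function.update_of_ne (by omega)]
    rw [e1, Function.update_self]
    have h2 : IsFull (V * (ρ * (g * W j * g⁻¹))) := by
      rw [← mul_assoc]; exact hg
    have h3 := h2.mul_comm
    rwa [mul_assoc] at h3

end Claim

section Steps

variable {p : ℕ} [hpf : Fact p.Prime]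

theorem isFull_uL {r : ℕ} [NeZero r] {F : Type*} (ρ : Perm F) (hρ : IsFull ρ) :
    IsFull (uL r ρ) := by
  have := isFull_U (r := r) ρ (fun _ => (1 : Perm F)) (by rw [Vseq_one, mul_one]; exact hρ)
  have e : layN r (fun _ => (1 : Perm F)) = 1 := by
    ext ⟨t, y⟩ <;> rfl
  rwa [e, mul_one] at this

/-- the data obtained from the layer decomposition -/
theorem exists_model (k : ℕ) {Ω : Type} [Fintype Ω] [DecidableEq Ω]
    (hcard : Fintype.card Ω = p ^ (k + 1)) (w : Perm Ω) (hw : PE p w) (hwk : w ^ p ^ k = 1) :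
    ∃ (e : Ω ≃ ZMod p × ZMod (p ^ k)) (W : ℕ → Perm (ZMod (p ^ k))),
      e.permCongr w = layN p W ∧ (∀ i, PE p (W i)) ∧ (w ≠ 1 → W 0 ≠ 1) := by
  have hp : p.Prime := hpf.out
  haveI : NeZero p := ⟨hp.ne_zero⟩
  obtain ⟨e, he, hnt⟩ := exists_layer_equiv (p := p) k hcard w hwk
  have hfst : ∀ x, ((e.permCongr w) x).1 = x.1 := by
    intro x
    rw [Equiv.permCongr_apply, he, Equiv.apply_symm_apply]
  obtain ⟨wT, hwT⟩ := exists_lay_of_fst (e.permCongr w) hfst
  have hlay : lay wT = layN p (fun i => wT (i : ZMod p)) := by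
    unfold layN
    congr 1
    funext t
    show wT t = wT ((t.val : ℕ) : ZMod p)
    rw [ZMod.natCast_zmod_val]
  refine ⟨e, fun i => wT (i : ZMod p), hwT.trans hlay, ?_, ?_⟩
  · intro i
    obtain ⟨m, hm⟩ := hw
    refine ⟨m, ?_⟩
    have h1 : (e.permCongr w) ^ p ^ m = 1 := by
      rw [← permCongr_pow, hm]; exact map_one e.permCongrHom
    rw [hwT] at h1
    have h2 : lay (wT ^ p ^ m) = 1 := by
      rw [← h1]; exact map_pow layHom wT (p ^ m)
    ext y
    have h3 := congrArg (fun σ : Perm (ZMod p × ZMod (p ^ k)) => (σ ((i : ZMod p), y)).2) h2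
    simpa using h3
  · intro hw1 h0
    obtain ⟨x, hx0, hwx⟩ := hnt hw1
    apply hwx
    apply e.injective
    have h1 : (e.permCongr w) (e x) = e (w x) := by
      rw [Equiv.permCongr_apply, Equiv.symm_apply_apply]
    rw [← h1, hwT]
    have h2 : e x = ((0 : ZMod p), (e x).2) := Prod.ext hx0 rfl
    rw [h2, lay_apply]
    have h3 : wT 0 = 1 := by simpa using h0
    rw [h3]
    rfl

/-- induction step for `FC` -/
theorem FCk_succ (hp2 : p ≠ 2) (k : ℕ) (ih : FCk p k) : FCk p (k + 1) := by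
  have hp : p.Prime := hpf.out
  haveI : NeZero p := ⟨hp.ne_zero⟩
  haveI : NeZero (p ^ k) := ⟨pow_ne_zero k hp.ne_zero⟩
  intro Ω _ _ hcard u w hu hw
  rcases isFull_or_pow_eq_one hp k hcard w hw with hfull | hwk
  · have hodd : Odd (Fintype.card Ω) := by
      rw [hcard]; exact (hp.odd_of_ne_two hp2).pow
    have h1 : QF u u := ⟨1, by simpa using hu.mul_self hodd⟩
    exact h1.of_isConj (IsConj.refl u) (hu.isConj hfull)
  · obtain ⟨e, W, hW, hPE, -⟩ := exists_model k hcard w hw hwk
    apply QF.of_permCongr e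
    rw [hW]
    have hρ : IsFull (rot (p ^ k)) := isFull_rot _
    have hFC : ∀ ρ y : Perm (ZMod (p ^ k)), IsFull ρ → PE p y → QF ρ y :=
      fun ρ y h1 h2 => ih (ZMod (p ^ k)) (ZMod.card _) ρ y h1 h2
    obtain ⟨c, hc⟩ := exists_conj_Vseq_full hFC W hPE (rot (p ^ k)) hρ p
    have hmodel : QF (uL p (rot (p ^ k))) (layN p W) := by
      refine ⟨lay (fun t : ZMod p => c t.val), ?_⟩
      have e1 : lay (fun t : ZMod p => c t.val) * layN p W * (lay (fun t : ZMod p => c t.val))⁻¹ =
          layN p (fun i => c i * W i * (c i)⁻¹) := by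
        unfold layN
        rw [← lay_conj]
        rfl
      rw [e1]
      exact isFull_U _ _ hc
    exact hmodel.of_isConj ((isFull_uL _ hρ).isConj (hu.permCongr e)) (IsConj.refl _)

/-- two full cycles -/
theorem Q_of_full_full (hp2 : p ≠ 2) {Ω : Type} [Fintype Ω] [DecidableEq Ω] (k : ℕ)
    (hcard : Fintype.card Ω = p ^ k) (h5 : 5 ≤ p ^ k) (u w : Perm Ω) (hu : IsFull u)
    (hw : IsFull w) : Q p u w := by
  have hp : p.Prime := hpf.out
  haveI : NeZero (p ^ k) := ⟨pow_ne_zero k hp.ne_zero⟩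
  let e₀ : Ω ≃ ZMod (p ^ k) := Fintype.equivOfCardEq (by rw [hcard, ZMod.card])
  apply Q.of_permCongr e₀
  have hodd : Odd (p ^ k) := (hp.odd_of_ne_two hp2).pow
  have h3 : p = 3 → 6 ≤ p ^ k := by
    intro h
    rw [h] at h5 ⊢
    rcases k with _ | _ | k
    · norm_num at h5
    · norm_num at h5
    · have : 3 ^ (k + 1 + 1) = 9 * 3 ^ k := by ring
      have h1 : 1 ≤ 3 ^ k := Nat.one_le_pow _ _ (by norm_num)
      omega
  have hq := Q_rot_rot (q := p ^ k) hp hp2 h5 hodd h3
  exact hq.of_isConj ((isFull_rot _).isConj (hu.permCongr e₀))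
    ((isFull_rot _).isConj (hw.permCongr e₀))

/-- nine points -/
theorem Q_of_nine {Ω : Type} [Fintype Ω] [DecidableEq Ω] (hcard : Fintype.card Ω = 9)
    (u w : Perm Ω) (hu : IsFull u) (hw : w ≠ 1) (hw3 : w ^ 3 = 1) : Q 3 u w := by
  let e₀ : Ω ≃ ZMod 9 := Fintype.equivOfCardEq (by rw [hcard, ZMod.card])
  apply Q.of_permCongr e₀
  have h1 : e₀.permCongr w ≠ 1 := by
    intro h
    apply hw
    apply e₀.permCongrHom.injective
    rw [map_one]
    exact h
  have h2 : (e₀.permCongr w) ^ 3 = 1 := by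
    rw [← permCongr_pow, hw3]; exact map_one e₀.permCongrHom
  exact (Q_nine _ h1 h2).of_isConj ((isFull_rot 9).isConj (hu.permCongr e₀)) (IsConj.refl _)

/-- the model case of the induction step for `P` -/
theorem Q_model (k : ℕ) (h5 : 5 ≤ p ^ k) (ihP : Pk p k) (ihF : FCk p k)
    (W : ℕ → Perm (ZMod (p ^ k))) (hPE : ∀ i, PE p (W i)) (hW0 : W 0 ≠ 1)
    (ρ : Perm (ZMod (p ^ k))) (hρ : IsFull ρ) :
    haveI : NeZero p := ⟨hpf.out.ne_zero⟩
    Q p (uL p ρ) (layN p W) := by
  have hp : p.Prime := hpf.out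
  haveI : NeZero p := ⟨hp.ne_zero⟩
  haveI : NeZero (p ^ k) := ⟨pow_ne_zero k hp.ne_zero⟩
  intro ε
  have hFC : ∀ ρ y : Perm (ZMod (p ^ k)), IsFull ρ → PE p y → QF ρ y :=
    fun ρ y h1 h2 => ihF (ZMod (p ^ k)) (ZMod.card _) ρ y h1 h2
  obtain ⟨cp, hcp⟩ := exists_conj_Vseq_full hFC (fun i => W (i + 1)) (fun i => hPE (i + 1)) ρ hρ
    (p - 1)
  set ρ' := ρ * Vseq (fun i => cp i * W (i + 1) * (cp i)⁻¹) (p - 1) with hρ'
  set c₁ : ZMod p → Perm (ZMod (p ^ k)) := fun t => if t = 0 then 1 else cp (t.val - 1) with hc₁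
  obtain ⟨g₀, hg₀s, hg₀⟩ := ihP (ZMod (p ^ k)) (ZMod.card _) h5 ρ' (W 0) hcp hW0 (hPE 0)
    (ε * Perm.sign (lay c₁))
  set c₀ : ZMod p → Perm (ZMod (p ^ k)) := fun t => if t = 0 then g₀ else 1 with hc₀
  set W' : ℕ → Perm (ZMod (p ^ k)) := fun i =>
    if i = 0 then g₀ * W 0 * g₀⁻¹ else cp (i - 1) * W i * (cp (i - 1))⁻¹ with hW'
  have hA : (lay c₁ * lay c₀) * layN p W * (lay c₁ * lay c₀)⁻¹ = layN p W' := by
    unfold layN
    rw [← lay_mul, ← lay_conj]
    congr 1
    funext t
    by_cases ht : t = 0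
    · subst ht
      simp [hc₁, hc₀, hW']
    · have hv : t.val ≠ 0 := by
        intro h
        exact ht ((ZMod.val_eq_zero t).1 h)
      simp [hc₁, hc₀, hW', ht, hv]
  have hB : ρ * Vseq W' p = ρ' * W' 0 := by
    have hV : Vseq W' p = Vseq (fun i => W' (i + 1)) (p - 1) * W' 0 := by
      have := Vseq_succ' W' (p - 1)
      rwa [Nat.sub_add_cancel hp.pos] at this
    rw [hV, ← mul_assoc]
    congr 2
  have hgood : Good p (uL p ρ) (layN p W') := by
    apply good_model ρ W' ρ' hB
    have : W' 0 = g₀ * W 0 * g₀⁻¹ := by simp [hW']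
    rw [this]
    exact hg₀
  refine ⟨lay c₁ * lay c₀, ?_, by rw [hA]; exact hgood⟩
  have hs0 : Perm.sign (lay c₀) = Perm.sign g₀ := by
    rw [sign_lay]
    have : ∀ t : ZMod p, Perm.sign (c₀ t) = if t = 0 then Perm.sign g₀ else 1 := by
      intro t
      by_cases h : t = 0 <;> simp [hc₀, h]
    simp only [this]
    rw [Finset.prod_ite_eq' Finset.univ (0 : ZMod p)]
    simp
  rw [Perm.sign_mul, hs0, hg₀s, mul_comm ε, ← mul_assoc, Int.units_mul_self, one_mul]

/-- induction step for `P` -/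
theorem Pk_step (k : ℕ) (h5 : 5 ≤ p ^ k) (ihP : Pk p k) (ihF : FCk p k)
    {Ω : Type} [Fintype Ω] [DecidableEq Ω] (hcard : Fintype.card Ω = p ^ (k + 1))
    (u w : Perm Ω) (hu : IsFull u) (hw1 : w ≠ 1) (hw : PE p w) (hwk : w ^ p ^ k = 1) :
    Q p u w := by
  have hp : p.Prime := hpf.out
  haveI : NeZero p := ⟨hp.ne_zero⟩
  haveI : NeZero (p ^ k) := ⟨pow_ne_zero k hp.ne_zero⟩
  obtain ⟨e, W, hW, hPE, hW0⟩ := exists_model k hcard w hw hwk
  apply Q.of_permCongr e
  rw [hW]
  have hρ : IsFull (rot (p ^ k)) := isFull_rot _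
  have hmodel := Q_model k h5 ihP ihF W hPE (hW0 hw1) (rot (p ^ k)) hρ
  exact hmodel.of_isConj ((isFull_uL _ hρ).isConj (hu.permCongr e)) (IsConj.refl _)

theorem FCk_all (hp2 : p ≠ 2) : ∀ k, FCk p k := by
  intro k
  induction k with
  | zero =>
    intro Ω _ _ hcard u w _ _
    haveI : Subsingleton Ω := by
      rw [← Fintype.card_le_one_iff_subsingleton, hcard]; simp
    exact ⟨1, IsFull.of_subsingleton _⟩
  | succ k ih => exact FCk_succ hp2 k ih

theorem Pk_all (hp2 : p ≠ 2) : ∀ k, Pk p k := by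
  have hp : p.Prime := hpf.out
  intro k
  induction k with
  | zero =>
    intro Ω _ _ _ h5
    simp at h5
  | succ k ih =>
    intro Ω _ _ hcard h5 u w hu hw1 hw
    rcases isFull_or_pow_eq_one hp k hcard w hw with hfull | hwk
    · exact Q_of_full_full hp2 (k + 1) hcard h5 u w hu hfull
    · by_cases h5k : 5 ≤ p ^ k
      · exact Pk_step k h5k ih (FCk_all hp2 k) hcard u w hu hw1 hw hwk
      · -- `p ^ k < 5`
        have hk : k ≠ 0 := by
          rintro rfl
          apply hw1
          simpa using hwk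
        have hp3 : 3 ≤ p := by
          have := hp.two_le
          omega
        have hk1 : k = 1 := by
          by_contra hk1
          have h2 : 2 ≤ k := by omega
          have : p ^ 2 ≤ p ^ k := Nat.pow_le_pow_right hp.pos h2
          have : 3 ^ 2 ≤ p ^ 2 := Nat.pow_le_pow_left hp3 2
          omega
        subst hk1
        have hp_eq : p = 3 := by
          have h4 : p < 5 := by simpa using h5k
          have : p ≠ 4 := by
            rintro rfl
            exact absurd hp (by norm_num)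
          omega
        have hcard9 : Fintype.card Ω = 9 := by rw [hcard, hp_eq]; norm_num
        have hw3 : w ^ 3 = 1 := by
          rw [← hwk, hp_eq]; norm_num
        have := Q_of_nine hcard9 u w hu hw1 hw3
        rw [hp_eq]
        exact this

end Steps

end Cfsg.Agent.Lib.H25.FP
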