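import Mathlib
import Cfsg.Agent.Lib.H15.Min3C
import Cfsg.Agent.Lib.H25.FPOrd

/-!
# Small cases for `p = 3`: elements of order 3 on 5 or 6 points (helper25, for S2276)
-/

set_option autoImplicit false

namespace Cfsg.Agent.Lib.H25.FP

open Equiv Equiv.Perm Cfsg.Agent.Lib.H15.Min3
open scoped commutatorElement

section Perfect

variable {G : Type*} [Group G]

theorem not_isSolvable_of_perfect_pair' (K : Subgroup G) (x y a b c d : G)
    (hK : K = Subgroup.closure ({x, y} : Set G)) (hx : x ≠ 1)
    (ha : a ∈ K) (hb : b ∈ K) (hc : c ∈ K) (hd : d ∈ K)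
    (hxe : x = ⁅a, b⁆) (hye : y = ⁅c, d⁆) : ¬ Group.IsSolvable K := by
  have key : ∀ n : ℕ, K ≤ (derivedSeries K n).map K.subtype := by
    intro n
    induction n with
    | zero =>
      rw [derivedSeries_zero, ← MonoidHom.range_eq_map, Subgroup.range_subtype]
    | succ n ih =>
      rw [derivedSeries_succ, Subgroup.map_commutator]
      conv_lhs => rw [hK]
      rw [Subgroup.closure_le]
      intro z hz
      rcases hz with hz | hz
      · have h := Subgroup.commutator_mem_commutator (ih ha) (ih hb)
        rw [← hxe] at h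
        rw [hz]
        exact h
      · have h := Subgroup.commutator_mem_commutator (ih hc) (ih hd)
        rw [← hye] at h
        rw [Set.mem_singleton_iff] at hz
        rw [hz]
        exact h
  have hxK : x ∈ K := by rw [hK]; exact Subgroup.subset_closure (by simp)
  refine not_isSolvable_of_mem_derivedSeries (g := (⟨x, hxK⟩ : K)) ?_ ?_
  · intro h
    exact hx (congrArg Subtype.val h)
  · intro n
    obtain ⟨z, hz, hzx⟩ := key n hxK
    have : z = ⟨x, hxK⟩ := Subtype.ext hzx
    rwa [this] at hz

/-- a pair of commutators of elements of the group they generate generates a perfect group -/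
theorem not_isSolvable_of_perfect_pair (x y a b c d : G) (hx : x ≠ 1)
    (ha : a ∈ Subgroup.closure ({x, y} : Set G)) (hb : b ∈ Subgroup.closure ({x, y} : Set G))
    (hc : c ∈ Subgroup.closure ({x, y} : Set G)) (hd : d ∈ Subgroup.closure ({x, y} : Set G))
    (hxe : x = ⁅a, b⁆) (hye : y = ⁅c, d⁆) :
    ¬ Group.IsSolvable (Subgroup.closure ({x, y} : Set G)) :=
  not_isSolvable_of_perfect_pair' _ x y a b c d rfl hx ha hb hc hd hxe hye

end Perfect

section Chain

/-- if consecutive points are related, all points are -/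
theorem rel_all_fin {n : ℕ} (J : Subgroup (Perm (Fin n)))
    (h : ∀ (i : ℕ) (hi : i + 1 < n), Rel J ⟨i, by omega⟩ ⟨i + 1, hi⟩) :
    ∀ x y : Fin n, Rel J x y := by
  have h0 : ∀ (i : ℕ) (hi : i < n), Rel J ⟨0, by omega⟩ ⟨i, hi⟩ := by
    intro i
    induction i with
    | zero => intro hi; exact Rel.refl J _
    | succ i ih => intro hi; exact (ih (by omega)).trans (h i hi)
  intro x y
  exact (h0 x.1 x.2).symm.trans (h0 y.1 y.2)

theorem rel_of_threeCycle {n : ℕ} (J : Subgroup (Perm (Fin n))) (t : Perm (Fin n)) (ht : t ∈ J)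
    (h3 : t.IsThreeCycle) (a b : Fin n) (hab : t a = b) : Rel J a b :=
  ⟨t, Subgroup.subset_closure ⟨ht, h3⟩, hab⟩

end Chain

section CoreA

/-- `(0 1 2)` on five points -/
def xA : Perm (Fin 5) := swap 1 0 * swap 1 2

/-- `(2 3 4)` on five points -/
def yA : Perm (Fin 5) := swap 3 2 * swap 3 4

set_option maxRecDepth 20000 in
theorem good_A : Good 3 xA yA := by
  refine ⟨not_PE_of_prime_order Nat.prime_three Nat.prime_five (by norm_num) (by decide)
    (by decide), ?_⟩
  set J := Subgroup.closure ({xA, yA} : Set (Perm (Fin 5))) with hJ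
  have hx : xA ∈ J := Subgroup.subset_closure (by simp)
  have hy : yA ∈ J := Subgroup.subset_closure (by simp)
  have h3x : xA.IsThreeCycle :=
    isThreeCycle_swap_mul_swap_same (by decide) (by decide) (by decide)
  have h3y : yA.IsThreeCycle :=
    isThreeCycle_swap_mul_swap_same (by decide) (by decide) (by decide)
  have hrel : ∀ x y : Fin 5, Rel J x y := by
    apply rel_all_fin
    intro i hi
    have hi4 : i < 4 := by omega
    interval_cases i
    · exact rel_of_threeCycle J xA hx h3x 0 1 (by decide)
    · exact rel_of_threeCycle J xA hx h3x 1 2 (by decide)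
    · exact rel_of_threeCycle J yA hy h3y 2 3 (by decide)
    · exact rel_of_threeCycle J yA hy h3y 3 4 (by decide)
  exact not_isSolvable_of_alternatingGroup_le (by simp) J (alternatingGroup_le_of_rel hrel)

theorem Q_A : Q 3 xA yA := Q.of_good_of_comm good_A (swap 0 1) (by decide) (by decide)

end CoreA

section CoreB

/-- `(0 1 2)` on six points -/
def xB : Perm (Fin 6) := swap 1 0 * swap 1 2

/-- `(0 2 4)(1 3 5)` on six points -/
def yB : Perm (Fin 6) := swap 0 2 * swap 2 4 * (swap 1 3 * swap 3 5)

set_option maxRecDepth 20000 in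
theorem good_B : Good 3 xB yB := by
  refine ⟨not_PE_of_prime_order Nat.prime_three Nat.prime_five (by norm_num) (by decide)
    (by decide), ?_⟩
  set J := Subgroup.closure ({xB, yB} : Set (Perm (Fin 6))) with hJ
  have hx : xB ∈ J := Subgroup.subset_closure (by simp)
  have hy : yB ∈ J := Subgroup.subset_closure (by simp)
  have h3x : xB.IsThreeCycle :=
    isThreeCycle_swap_mul_swap_same (by decide) (by decide) (by decide)
  have r01 : Rel J (0 : Fin 6) 1 := rel_of_threeCycle J xB hx h3x _ _ (by decide)
  have r12 : Rel J (1 : Fin 6) 2 := rel_of_threeCycle J xB hx h3x _ _ (by decide)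
  have r23 : Rel J (2 : Fin 6) 3 := by
    have := Rel.smul hy r01
    have e1 : yB 0 = 2 := by decide
    have e2 : yB 1 = 3 := by decide
    rwa [e1, e2] at this
  have r34 : Rel J (3 : Fin 6) 4 := by
    have := Rel.smul hy r12
    have e1 : yB 1 = 3 := by decide
    have e2 : yB 2 = 4 := by decide
    rwa [e1, e2] at this
  have r45 : Rel J (4 : Fin 6) 5 := by
    have := Rel.smul hy r23
    have e1 : yB 2 = 4 := by decide
    have e2 : yB 3 = 5 := by decide
    rwa [e1, e2] at this
  have hrel : ∀ x y : Fin 6, Rel J x y := by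
    apply rel_all_fin
    intro i hi
    have hi5 : i < 5 := by omega
    interval_cases i
    · exact r01
    · exact r12
    · exact r23
    · exact r34
    · exact r45
  exact not_isSolvable_of_alternatingGroup_le (by simp) J (alternatingGroup_le_of_rel hrel)

theorem Q_B : Q 3 xB yB :=
  Q.of_good_of_comm good_B (swap 0 1 * swap 2 3 * swap 4 5) (by decide) (by decide)

end CoreB

section CoreC

/-- `(0 1 2)(3 4 5)` on six points -/
def xC : Perm (Fin 6) := swap 0 1 * swap 1 2 * (swap 3 4 * swap 4 5)

/-- `(0 1 3)(2 5 4)` on six points -/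
def yC : Perm (Fin 6) := swap 0 1 * swap 1 3 * (swap 2 5 * swap 5 4)

set_option maxRecDepth 20000 in
theorem good_C : Good 3 xC yC := by
  refine ⟨not_PE_of_prime_order Nat.prime_three Nat.prime_five (by norm_num) (by decide)
    (by decide), ?_⟩
  have hx : xC ∈ Subgroup.closure ({xC, yC} : Set (Perm (Fin 6))) :=
    Subgroup.subset_closure (by simp)
  have hy : yC ∈ Subgroup.closure ({xC, yC} : Set (Perm (Fin 6))) :=
    Subgroup.subset_closure (by simp)
  have hxi := Subgroup.inv_mem _ hx
  have hyi := Subgroup.inv_mem _ hy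
  exact not_isSolvable_of_perfect_pair xC yC (yC * xC * yC⁻¹) (yC * xC * yC) (xC * yC * xC⁻¹)
    (xC * yC * xC) (by decide)
    (Subgroup.mul_mem _ (Subgroup.mul_mem _ hy hx) hyi)
    (Subgroup.mul_mem _ (Subgroup.mul_mem _ hy hx) hy)
    (Subgroup.mul_mem _ (Subgroup.mul_mem _ hx hy) hxi)
    (Subgroup.mul_mem _ (Subgroup.mul_mem _ hx hy) hx)
    (by decide) (by decide)

theorem Q_C : Q 3 xC yC :=
  Q.of_good_of_comm good_C (swap 0 2 * swap 1 5 * swap 3 4) (by decide) (by decide)

end CoreC

end Cfsg.Agent.Lib.H25.FP
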