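import Mathlib
import Cfsg.Agent.Lib.H25.FPMain
import Cfsg.Agent.Lib.H25.FPSmall

/-!
# Gluing: from invariant subsets to the whole domain (helper25, for S2276)
-/

set_option autoImplicit false

namespace Cfsg.Agent.Lib.H25.FP

open Equiv Equiv.Perm

section Tools

variable {α : Type*} [Fintype α] [DecidableEq α] {β : Type*} [Fintype β] [DecidableEq β]

theorem Q.symm {p : ℕ} {u w : Perm α} (h : Q p u w) : Q p w u := by
  intro ε
  obtain ⟨g, hg, hgood⟩ := h ε
  refine ⟨g⁻¹, by rw [Perm.sign_inv, hg], ?_⟩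
  have h1 := (hgood.conj g⁻¹).symm
  have e1 : g⁻¹ * (g * w * g⁻¹) * g⁻¹⁻¹ = w := by group
  rw [e1] at h1
  exact h1

theorem card_support_permCongr (e : α ≃ β) (u : Perm α) :
    (e.permCongr u).support.card = u.support.card := by
  have : (e.permCongr u).support = u.support.map e.toEmbedding := by
    ext x
    simp only [Perm.mem_support, Equiv.permCongr_apply, Finset.mem_map_equiv, ne_eq]
    rw [not_iff_not]
    constructor
    · intro h
      apply e.injective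
      rw [h]
      simp
    · intro h
      rw [h]
      simp
  rw [this, Finset.card_map]

theorem card_support_subtypePerm (u : Perm α) (D : Finset α) (h : ∀ y, u y ∈ D ↔ y ∈ D) :
    (u.subtypePerm h).support.card = (D.filter (fun x => u x ≠ x)).card := by
  apply Finset.card_bij (fun a _ => a.1)
  · intro a ha
    rw [Perm.mem_support] at ha
    rw [Finset.mem_filter]
    refine ⟨a.2, fun hfix => ha ?_⟩
    exact Subtype.ext hfix
  · intro a _ b _ hab
    exact Subtype.ext hab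
  · intro x hx
    rw [Finset.mem_filter] at hx
    refine ⟨⟨x, hx.1⟩, ?_, rfl⟩
    rw [Perm.mem_support]
    intro hfix
    exact hx.2 (congrArg Subtype.val hfix)

/-- transport a core statement on `Fin n` -/
theorem Q_of_core {p : ℕ} (hp : p.Prime) {n : ℕ} (hc : Fintype.card α = n)
    (x y : Perm (Fin n)) (hQ : Q p x y) (hx : x ^ p = 1) (hy : y ^ p = 1) (u w : Perm α)
    (hu : u ^ p = 1) (hw : w ^ p = 1) (hsu : u.support.card = x.support.card)
    (hsw : w.support.card = y.support.card) : Q p u w := by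
  let e₀ : α ≃ Fin n := Fintype.equivOfCardEq (by rw [hc, Fintype.card_fin])
  apply Q.of_permCongr e₀
  have h1 : (e₀.permCongr u) ^ p = 1 := by
    rw [← permCongr_pow, hu]; exact map_one e₀.permCongrHom
  have h2 : (e₀.permCongr w) ^ p = 1 := by
    rw [← permCongr_pow, hw]; exact map_one e₀.permCongrHom
  exact hQ.of_isConj
    (isConj_of_pow_prime hp hx h1 (by rw [card_support_permCongr, hsu]))
    (isConj_of_pow_prime hp hy h2 (by rw [card_support_permCongr, hsw]))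

end Tools

section Restrict

variable {Ω : Type*} [Fintype Ω] [DecidableEq Ω]

/-- restriction principle with explicit invariance hypotheses -/
theorem Good.of_res' {p : ℕ} (P : Ω → Prop) {x y : Perm Ω} (hx : ∀ a, P (x a) ↔ P a)
    (hy : ∀ a, P (y a) ↔ P a) (h : Good p (x.subtypePerm hx) (y.subtypePerm hy)) : Good p x y :=
  Good.of_res P (mem_stabP.2 hx) (mem_stabP.2 hy) h

/-- the gluing lemma -/
theorem Q_of_restrict {p : ℕ} (u w : Perm Ω) (Du Dw : Finset Ω)
    (hDu : ∀ y, u y ∈ Du ↔ y ∈ Du) (hDw : ∀ y, w y ∈ Dw ↔ y ∈ Dw) (hcard : Dw.card = Du.card)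
    (H : ∀ ψ : {x // x ∈ Dw} ≃ {x // x ∈ Du},
      Q p (u.subtypePerm hDu) (ψ.permCongr (w.subtypePerm hDw))) : Q p u w := by
  obtain ⟨ψ₀⟩ : Nonempty ({x // x ∈ Dw} ≃ {x // x ∈ Du}) :=
    ⟨Fintype.equivOfCardEq (by rw [Fintype.card_coe, Fintype.card_coe, hcard])⟩
  set g₀ : Perm Ω := ψ₀.extendSubtype with hg₀def
  have hg₀ : ∀ y, g₀ y ∈ Du ↔ y ∈ Dw := by
    intro y
    by_cases hy : y ∈ Dw
    · exact iff_of_true (ψ₀.extendSubtype_mem y hy) hy
    · exact iff_of_false (ψ₀.extendSubtype_not_mem y hy) hy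
  intro ε
  obtain ⟨gX, hs, hgood⟩ := H ψ₀ (ε * Perm.sign g₀)
  set ĝ : Perm Ω := ofSubtype gX with hĝdef
  have hĝ : ∀ y, ĝ y ∈ Du ↔ y ∈ Du := ofSubtype_apply_mem_iff_mem gX
  have hg : ∀ y, (ĝ * g₀) y ∈ Du ↔ y ∈ Dw := by
    intro y
    rw [Perm.mul_apply, hĝ, hg₀]
  have hginv : ∀ y, (ĝ * g₀)⁻¹ y ∈ Dw ↔ y ∈ Du := by
    intro y
    rw [← hg]
    simp
  refine ⟨ĝ * g₀, ?_, ?_⟩
  · rw [Perm.sign_mul, hĝdef, sign_ofSubtype, hs, mul_assoc, Int.units_mul_self, mul_one]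
  · have hstab : ∀ y, (ĝ * g₀ * w * (ĝ * g₀)⁻¹) y ∈ Du ↔ y ∈ Du := by
      intro y
      rw [Perm.mul_apply, Perm.mul_apply, hg, hDw, hginv]
    apply Good.of_res' (fun x => x ∈ Du) hDu hstab
    have key : (ĝ * g₀ * w * (ĝ * g₀)⁻¹).subtypePerm hstab =
        gX * ψ₀.permCongr (w.subtypePerm hDw) * gX⁻¹ := by
      ext ⟨x, hx⟩
      rw [subtypePerm_apply]
      show (ĝ * g₀ * w * (ĝ * g₀)⁻¹) x = _
      set a := gX⁻¹ ⟨x, hx⟩ with ha
      set b := ψ₀.symm a with hb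
      set c := (w.subtypePerm hDw) b with hc
      have h1 : ĝ⁻¹ x = a.1 := by
        rw [hĝdef, ← map_inv, ofSubtype_apply_of_mem _ hx]
      have h2 : g₀⁻¹ a.1 = b.1 := by
        rw [Perm.inv_eq_iff_eq, hg₀def, ψ₀.extendSubtype_apply_of_mem b.1 b.2]
        simp [hb]
      have h3 : w b.1 = c.1 := rfl
      have h4 : g₀ c.1 = (ψ₀ c).1 := by
        rw [hg₀def, ψ₀.extendSubtype_apply_of_mem c.1 c.2]
      have h5 : ĝ (ψ₀ c).1 = (gX (ψ₀ c)).1 := by
        rw [hĝdef, ofSubtype_apply_of_mem _ (ψ₀ c).2]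
      rw [mul_inv_rev, Perm.mul_apply, Perm.mul_apply, Perm.mul_apply, Perm.mul_apply, h1, h2, h3,
        h4, h5]
      rw [Perm.mul_apply, Perm.mul_apply, Equiv.permCongr_apply]
    rw [key]
    exact hgood

end Restrict

section Main

variable {p : ℕ} [hpf : Fact p.Prime] {Ω : Type} [Fintype Ω] [DecidableEq Ω]

theorem subtypePerm_pow_eq_one (w : Perm Ω) (D : Finset Ω) (hD : ∀ y, w y ∈ D ↔ y ∈ D) (n : ℕ)
    (hw : w ^ n = 1) : (w.subtypePerm hD) ^ n = 1 := by
  rw [subtypePerm_pow]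
  ext x
  rw [subtypePerm_apply]
  simp [hw]

theorem permCongr_pow_eq_one {α β : Type*} (e : α ≃ β) (w : Perm α) (n : ℕ) (hw : w ^ n = 1) :
    (e.permCongr w) ^ n = 1 := by
  rw [← permCongr_pow, hw]; exact map_one e.permCongrHom

theorem permCongr_ne_one {α β : Type*} (e : α ≃ β) (w : Perm α) (hw : w ≠ 1) :
    e.permCongr w ≠ 1 := by
  intro h
  apply hw
  apply e.permCongrHom.injective
  rw [map_one]
  exact h

/-- the main case: the order of `u` is at least 5 -/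
theorem Q_main_case (hp2 : p ≠ 2) (u w : Perm Ω) (j : ℕ) (h5 : 5 ≤ p ^ (j + 1))
    (hu : u ^ p ^ (j + 1) = 1) (x₀ : Ω) (hx₀ : (u ^ p ^ j) x₀ ≠ x₀) (hw1 : w ≠ 1)
    (hw : w ^ p ^ (j + 1) = 1) : Q p u w := by
  have hp : p.Prime := hpf.out
  have hpos : 0 < p ^ (j + 1) := pow_pos hp.pos _
  have hux : (u ^ p ^ (j + 1)) x₀ = x₀ := by rw [hu]; rfl
  have hDu := orb_invariant u x₀ hpos hux
  have hDucard := orb_card hp u x₀ j hux hx₀
  obtain ⟨Dw, -, hDw, hDwcard, hDwnt⟩ := lemG hp w (j + 1) Finset.univ (by simp)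
    (fun x _ => by rw [hw]; rfl) (by rw [← hDucard]; exact Finset.card_le_univ _)
  apply Q_of_restrict u w (orb u x₀ (p ^ (j + 1))) Dw hDu hDw (by rw [hDwcard, hDucard])
  intro ψ
  apply Pk_all hp2 (j + 1) {x // x ∈ orb u x₀ (p ^ (j + 1))}
    (by rw [Fintype.card_coe, hDucard]) h5
  · have h0 : ∀ a : {x // x ∈ orb u x₀ (p ^ (j + 1))},
        (u.subtypePerm hDu).SameCycle ⟨x₀, self_mem_orb u x₀ hpos⟩ a := by
      intro a
      obtain ⟨i, -, hi⟩ := mem_orb.1 a.2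
      refine ⟨(i : ℤ), ?_⟩
      rw [zpow_natCast, subtypePerm_pow]
      exact Subtype.ext hi
    intro a b
    exact (h0 a).symm.trans (h0 b)
  · apply permCongr_ne_one
    have : ∃ x, w x ≠ x := by
      by_contra hcon
      push Not at hcon
      exact hw1 (Equiv.ext hcon)
    obtain ⟨x, hx⟩ := this
    obtain ⟨y, hy, hwy⟩ := hDwnt ⟨x, Finset.mem_univ x, hx⟩
    intro h
    apply hwy
    have := congrArg (fun σ : Perm {x // x ∈ Dw} => (σ ⟨y, hy⟩ : Ω)) h
    simpa using this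
  · exact ⟨j + 1, permCongr_pow_eq_one ψ _ _ (subtypePerm_pow_eq_one w Dw hDw _ hw)⟩

end Main

end Cfsg.Agent.Lib.H25.FP
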