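import Mathlib
import Cfsg.Agent.Lib.H25.FPGlue

/-!
# Gluing, the case of elements of order 3, and the final statement on `Perm Ω` (helper25, S2276)
-/

set_option autoImplicit false

namespace Cfsg.Agent.Lib.H25.FP

open Equiv Equiv.Perm

section Small

variable {Ω : Type} [Fintype Ω] [DecidableEq Ω]

theorem invariant_support (v : Perm Ω) : ∀ y, v y ∈ v.support ↔ y ∈ v.support :=
  fun _ => apply_mem_support

theorem invariant_of_fixed (v : Perm Ω) (T : Finset Ω) (hT : ∀ x ∈ T, v x = x) :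
    ∀ y, v y ∈ T ↔ y ∈ T := by
  intro y
  constructor
  · intro h
    have := hT _ h
    have hy : v y = y := v.injective this
    rwa [hy] at h
  · intro h
    rw [hT y h]; exact h

theorem exists_fixed_subset (v : Perm Ω) (m : ℕ) (hm : v.support.card + m ≤ Fintype.card Ω) :
    ∃ T : Finset Ω, T.card = m ∧ ∀ x ∈ T, v x = x := by
  have hc : m ≤ (Finset.univ \ v.support).card := by
    rw [Finset.card_sdiff_of_subset (Finset.subset_univ _), Finset.card_univ]
    omega
  obtain ⟨T, hTs, hTc⟩ := Finset.exists_subset_card_eq hc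
  refine ⟨T, hTc, fun x hx => ?_⟩
  have := (Finset.mem_sdiff.1 (hTs hx)).2
  rwa [Perm.mem_support, not_not] at this

/-- the whole support together with `m` fixed points -/
theorem exists_D_one (v : Perm Ω) (m : ℕ) (hm : v.support.card + m ≤ Fintype.card Ω) :
    ∃ D : Finset Ω, (∀ y, v y ∈ D ↔ y ∈ D) ∧ D.card = v.support.card + m ∧
      (D.filter (fun x => v x ≠ x)).card = v.support.card := by
  obtain ⟨T, hTc, hTf⟩ := exists_fixed_subset v m hm
  have hdisj : Disjoint v.support T := by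
    rw [Finset.disjoint_left]
    intro a ha haT
    exact (Perm.mem_support.1 ha) (hTf a haT)
  refine ⟨v.support ∪ T, invariant_union v (invariant_support v) (invariant_of_fixed v T hTf),
    by rw [Finset.card_union_of_disjoint hdisj, hTc], ?_⟩
  congr 1
  ext x
  simp only [Finset.mem_filter, Finset.mem_union, Perm.mem_support]
  constructor
  · rintro ⟨_, h⟩; exact h
  · intro h; exact ⟨Or.inl h, h⟩

/-- two orbits of length 3 -/
theorem exists_D_two (v : Perm Ω) (hv : v ^ 3 = 1) (h6 : 6 ≤ v.support.card) :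
    ∃ D : Finset Ω, (∀ y, v y ∈ D ↔ y ∈ D) ∧ D.card = 6 ∧
      (D.filter (fun x => v x ≠ x)).card = 6 := by
  have hfix : ∀ A : Finset Ω, ∀ x ∈ A, (v ^ 3 ^ 1) x = x := by
    intro A x _
    rw [pow_one, hv]; rfl
  obtain ⟨B₁, hB₁s, hB₁inv, hB₁c, -⟩ := lemG Nat.prime_three v 1 v.support (invariant_support v)
    (hfix _) (by simp; omega)
  have hinv2 := invariant_sdiff v (invariant_support v) hB₁inv
  have hc2 : 3 ^ 1 ≤ (v.support \ B₁).card := by
    rw [Finset.card_sdiff_of_subset hB₁s, hB₁c]; simp; omega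
  obtain ⟨B₂, hB₂s, hB₂inv, hB₂c, -⟩ := lemG Nat.prime_three v 1 (v.support \ B₁) hinv2
    (hfix _) hc2
  have hdisj : Disjoint B₁ B₂ := by
    rw [Finset.disjoint_left]
    intro a ha ha'
    exact (Finset.mem_sdiff.1 (hB₂s ha')).2 ha
  have hsub : B₁ ∪ B₂ ⊆ v.support :=
    Finset.union_subset hB₁s (fun a ha => (Finset.mem_sdiff.1 (hB₂s ha)).1)
  have hcard : (B₁ ∪ B₂).card = 6 := by
    rw [Finset.card_union_of_disjoint hdisj, hB₁c, hB₂c]; norm_num
  refine ⟨B₁ ∪ B₂, invariant_union v hB₁inv hB₂inv, hcard, ?_⟩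
  rw [← hcard]
  congr 1
  apply Finset.filter_true_of_mem
  intro x hx
  exact Perm.mem_support.1 (hsub hx)

theorem Q_small_aux {n : ℕ} (x y : Perm (Fin n)) (hQ : Q 3 x y) (hx3 : x ^ 3 = 1)
    (hy3 : y ^ 3 = 1) (u w : Perm Ω) (hu : u ^ 3 = 1) (hw : w ^ 3 = 1) (Du Dw : Finset Ω)
    (hDu : ∀ y, u y ∈ Du ↔ y ∈ Du) (hDw : ∀ y, w y ∈ Dw ↔ y ∈ Dw) (hcu : Du.card = n)
    (hcw : Dw.card = n) (hsu : (Du.filter (fun a => u a ≠ a)).card = x.support.card)
    (hsw : (Dw.filter (fun a => w a ≠ a)).card = y.support.card) : Q 3 u w := by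
  apply Q_of_restrict u w Du Dw hDu hDw (by rw [hcu, hcw])
  intro ψ
  apply Q_of_core Nat.prime_three (by rw [Fintype.card_coe, hcu]) x y hQ hx3 hy3
  · exact subtypePerm_pow_eq_one u Du hDu 3 hu
  · exact permCongr_pow_eq_one ψ _ 3 (subtypePerm_pow_eq_one w Dw hDw 3 hw)
  · rw [card_support_subtypePerm, hsu]
  · rw [card_support_permCongr, card_support_subtypePerm, hsw]

theorem card_support_three (v : Perm Ω) (hv1 : v ≠ 1) (hv : v ^ 3 = 1) :
    v.support.card = 3 ∨ 6 ≤ v.support.card := by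
  obtain ⟨n, -, hn⟩ := cycleType_of_pow_prime Nat.prime_three hv1 hv
  rcases Nat.eq_zero_or_pos n with rfl | h
  · left; simpa using hn
  · right; rw [hn]; omega

set_option maxRecDepth 20000 in
/-- the case of two elements of order 3 -/
theorem Q_small (h5 : 5 ≤ Fintype.card Ω) (u w : Perm Ω) (hu1 : u ≠ 1) (hw1 : w ≠ 1)
    (hu : u ^ 3 = 1) (hw : w ^ 3 = 1) : Q 3 u w := by
  have hsu_le : u.support.card ≤ Fintype.card Ω := Finset.card_le_univ _
  have hsw_le : w.support.card ≤ Fintype.card Ω := Finset.card_le_univ _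
  rcases card_support_three u hu1 hu with hsu | hsu <;>
    rcases card_support_three w hw1 hw with hsw | hsw
  · -- one 3-cycle each: five points
    obtain ⟨Du, hDu, hcu, hfu⟩ := exists_D_one u 2 (by omega)
    obtain ⟨Dw, hDw, hcw, hfw⟩ := exists_D_one w 2 (by omega)
    exact Q_small_aux xA yA Q_A (by decide) (by decide) u w hu hw Du Dw hDu hDw
      (by rw [hcu, hsu]) (by rw [hcw, hsw]) (by rw [hfu, hsu]; decide) (by rw [hfw, hsw]; decide)
  · -- one 3-cycle against at least two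
    obtain ⟨Du, hDu, hcu, hfu⟩ := exists_D_one u 3 (by omega)
    obtain ⟨Dw, hDw, hcw, hfw⟩ := exists_D_two w hw hsw
    exact Q_small_aux xB yB Q_B (by decide) (by decide) u w hu hw Du Dw hDu hDw
      (by rw [hcu, hsu]) hcw (by rw [hfu, hsu]; decide) (by rw [hfw]; decide)
  · -- the same with the roles exchanged
    obtain ⟨Du, hDu, hcu, hfu⟩ := exists_D_two u hu hsu
    obtain ⟨Dw, hDw, hcw, hfw⟩ := exists_D_one w 3 (by omega)
    exact (Q_small_aux xB yB Q_B (by decide) (by decide) w u hw hu Dw Du hDw hDu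
      (by rw [hcw, hsw]) hcu (by rw [hfw, hsw]; decide) (by rw [hfu]; decide)).symm
  · -- at least two 3-cycles each
    obtain ⟨Du, hDu, hcu, hfu⟩ := exists_D_two u hu hsu
    obtain ⟨Dw, hDw, hcw, hfw⟩ := exists_D_two w hw hsw
    exact Q_small_aux xC yC Q_C (by decide) (by decide) u w hu hw Du Dw hDu hDw
      hcu hcw (by rw [hfu]; decide) (by rw [hfw]; decide)

end Small

section Final

variable {p : ℕ} [hpf : Fact p.Prime] {Ω : Type} [Fintype Ω] [DecidableEq Ω]

/-- both parities: `u` of order `p ^ k`, `w` of order dividing `p ^ k` -/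
theorem Q_of_orderOf (hp2 : p ≠ 2) (h5 : 5 ≤ Fintype.card Ω) (u w : Perm Ω) (k : ℕ)
    (hu : orderOf u = p ^ k) (hu1 : u ≠ 1) (hw1 : w ≠ 1) (hw : w ^ p ^ k = 1) : Q p u w := by
  have hp : p.Prime := hpf.out
  have hk : k ≠ 0 := by
    rintro rfl
    apply hu1
    rw [← orderOf_eq_one_iff, hu, pow_zero]
  obtain ⟨j, rfl⟩ : ∃ j, k = j + 1 := ⟨k - 1, by omega⟩
  have hupow : u ^ p ^ (j + 1) = 1 := by rw [← hu]; exact pow_orderOf_eq_one u
  by_cases h5p : 5 ≤ p ^ (j + 1)
  · have hne : u ^ p ^ j ≠ 1 := by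
      apply pow_ne_one_of_lt_orderOf (pow_pos hp.pos j).ne'
      rw [hu]
      exact Nat.pow_lt_pow_right hp.one_lt (Nat.lt_succ_self j)
    obtain ⟨x₀, hx₀⟩ : ∃ x₀, (u ^ p ^ j) x₀ ≠ x₀ := by
      by_contra hcon
      push Not at hcon
      exact hne (Equiv.ext hcon)
    exact Q_main_case hp2 u w j h5p hupow x₀ hx₀ hw1 hw
  · have hp3 : 3 ≤ p := by
      have := hp.two_le
      omega
    have hj : j = 0 := by
      by_contra hj
      have h2 : 2 ≤ j + 1 := by omega
      have h3 : p ^ 2 ≤ p ^ (j + 1) := Nat.pow_le_pow_right hp.pos h2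
      have h4 : 3 ^ 2 ≤ p ^ 2 := Nat.pow_le_pow_left hp3 2
      omega
    subst hj
    have hp_eq : p = 3 := by
      have h4 : p < 5 := by simpa using h5p
      have : p ≠ 4 := by
        rintro rfl
        exact absurd hp (by norm_num)
      omega
    have hu3 : u ^ 3 = 1 := by rw [← hupow, hp_eq]; norm_num
    have hw3 : w ^ 3 = 1 := by rw [← hw, hp_eq]; norm_num
    have := Q_small h5 u w hu1 hw1 hu3 hw3
    rw [hp_eq]
    exact this

/-- both parities for two nontrivial `p`-elements -/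
theorem Q_of_p_elements (hp2 : p ≠ 2) (h5 : 5 ≤ Fintype.card Ω) (u w : Perm Ω) (hu1 : u ≠ 1)
    (hw1 : w ≠ 1) (hu : ∃ k : ℕ, orderOf u = p ^ k) (hw : ∃ k : ℕ, orderOf w = p ^ k) :
    Q p u w := by
  have hp : p.Prime := hpf.out
  obtain ⟨k, hk⟩ := hu
  obtain ⟨l, hl⟩ := hw
  rcases le_total l k with hlk | hkl
  · apply Q_of_orderOf hp2 h5 u w k hk hu1 hw1
    have : w ^ p ^ l = 1 := by rw [← hl]; exact pow_orderOf_eq_one w
    obtain ⟨d, rfl⟩ := Nat.exists_eq_add_of_le hlk
    rw [pow_add, pow_mul, this, one_pow]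
  · apply Q.symm
    apply Q_of_orderOf hp2 h5 w u l hl hw1 hu1
    have : u ^ p ^ k = 1 := by rw [← hk]; exact pow_orderOf_eq_one u
    obtain ⟨d, rfl⟩ := Nat.exists_eq_add_of_le hkl
    rw [pow_add, pow_mul, this, one_pow]

end Final

end Cfsg.Agent.Lib.H25.FP
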