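/-
For a Glauberman functor `W` controlling transfer (local condition as in helper26's
`CtlFoc.main_foc`): a saturated fusion system `F` over `S ≠ 1` with `Aut_F(S)` a `p`-group has
`foc(F) < S`.  Induction on `|S|` through the factor system `N_F(W(S)) / W(S)`.
-/
import Mathlib
import Cfsg.Agent.Lib.H26.CtlFocMain
import Cfsg.Agent.Lib.H26.ZJFunctor
set_option autoImplicit false
set_option linter.unusedSectionVars false
set_option linter.unusedVariables false

namespace Cfsg.Agent.Lib.H25.FocalProper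

open Cfsg Cfsg.FusionSystem Cfsg.Agent.Lib.H25 Cfsg.Agent.Lib.H26 Cfsg.Agent.Lib.H26.Nil
  Cfsg.Agent.Lib.H26.ZJ Cfsg.Agent.Lib.H26.Ctl Cfsg.Agent.Lib.H26.CtlFoc
open scoped commutatorElement

universe u

section basic

variable {Ω : Type u} [Group Ω] {S : Subgroup Ω}

theorem isPAut_of_isPGroup_autGroup {p : ℕ} {F : FusionSystem S} {P : Subgroup Ω}
    (h : IsPGroup p (F.autGroup P)) (f : Ω → Ω) (hf : IsIso F P P f) : IsPAut p P f := by
  obtain ⟨α, hα, hαf⟩ := exists_mem_autGroup_of_isIso F hf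
  obtain ⟨k, hk⟩ := h ⟨α, hα⟩
  have hk' : α ^ (p ^ k) = 1 := by simpa using congrArg Subtype.val hk
  refine ⟨k, fun x hx => ?_⟩
  rw [← aut_pow_apply hf hαf (p ^ k) ⟨x, hx⟩, hk']
  rfl

theorem isPGroup_autGroup_of_isPAut {p : ℕ} {F : FusionSystem S} {P : Subgroup Ω} (hP : P ≤ S)
    (h : ∀ f : Ω → Ω, IsIso F P P f → IsPAut p P f) : IsPGroup p (F.autGroup P) := by
  rintro ⟨α, hα⟩
  have hf := isIso_of_mem_autGroup F hP hα
  obtain ⟨k, hk⟩ := h _ hf
  refine ⟨k, Subtype.ext ?_⟩
  show α ^ (p ^ k) = 1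
  ext x
  have hα' : ∀ x : P, ((α x : P) : Ω) = ext1 (P.subtype.comp α.toMonoidHom) x := fun x =>
    (ext1_apply (P.subtype.comp α.toMonoidHom) x).symm
  rw [aut_pow_apply hf hα' (p ^ k) x, hk x x.2]
  rfl

/-- If `Aut_F(S)` is a `p`-group, every automorphism of `S` in `F` is inner. -/
theorem exists_conj_of_isPAut [Finite S] {p : ℕ} [Fact p.Prime] (hS : IsPGroup p S)
    {F : FusionSystem S} (hF : F.IsSaturated p)
    (hAut : ∀ f : Ω → Ω, IsIso F S S f → IsPAut p S f) {f : Ω → Ω} (hf : IsIso F S S f) :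
    ∃ s ∈ S, ∀ x ∈ S, f x = s * x * s⁻¹ := by
  have hfa : F.IsFullyAutomized p S :=
    (fullyNormalized_props hS hF (isFullyNormalized_self F)).2
  obtain ⟨-, R, hR⟩ := hfa
  have hA : IsPGroup p (F.autGroup S) := isPGroup_autGroup_of_isPAut le_rfl hAut
  have htop : (R : Subgroup (F.autGroup S)) = ⊤ := by
    have := R.is_maximal' (Q := ⊤) (IsPGroup.of_equiv hA Subgroup.topEquiv.symm) le_top
    exact this.symm
  obtain ⟨α, hα, hαf⟩ := exists_mem_autGroup_of_isIso F hf
  have h1 : (⟨α, hα⟩ : F.autGroup S) ∈ (R : Subgroup (F.autGroup S)) := by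
    rw [htop]; exact Subgroup.mem_top _
  rw [hR, Subgroup.mem_subgroupOf] at h1
  obtain ⟨s, hs, hsv⟩ := (mem_autInducedBy_iff S S α).1 h1
  refine ⟨s, hs, fun x hx => ?_⟩
  rw [← hαf ⟨x, hx⟩]
  exact hsv ⟨x, hx⟩

/-- The commutator subgroup of a nontrivial finite `p`-group is proper. -/
theorem commutator_lt [Finite S] {p : ℕ} [Fact p.Prime] (hS : IsPGroup p S) (hne : S ≠ ⊥) :
    ⁅S, S⁆ < S := by
  have hle : ⁅S, S⁆ ≤ S := by
    rw [Subgroup.commutator_le]
    intro a ha b hb
    rw [commutatorElement_def]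
    exact S.mul_mem (S.mul_mem (S.mul_mem ha hb) (S.inv_mem ha)) (S.inv_mem hb)
  refine lt_of_le_of_ne hle (fun h => ?_)
  haveI : Nontrivial S := (Subgroup.nontrivial_iff_ne_bot S).2 hne
  haveI : Group.IsNilpotent S := hS.isNilpotent
  have h1 : _root_.commutator S < ⊤ := IsSolvable.commutator_lt_top_of_nontrivial S
  have h2 : (_root_.commutator S).map S.subtype = ⁅S, S⁆ := Subgroup.map_subtype_commutator S
  have h3 : (⊤ : Subgroup S).map S.subtype = S := by
    rw [← MonoidHom.range_eq_map, Subgroup.range_subtype]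
  have h4 : (_root_.commutator S).map S.subtype = (⊤ : Subgroup S).map S.subtype := by
    rw [h2, h3, h]
  exact h1.ne (Subgroup.map_injective S.subtype_injective h4)

theorem SC_commutator (S : Subgroup Ω) : SC S ⁅S, S⁆ := by
  intro s hs x hx
  have : x⁻¹ * (s * x * s⁻¹) = ⁅x⁻¹, s⁆ := by rw [commutatorElement_def]; group
  rw [this]
  exact Subgroup.commutator_mem_commutator (S.inv_mem hx) hs

end basic


section main

/-- The inductive statement. -/
def ProperT (p : ℕ) (n : ℕ) : Prop :=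
  ∀ {Ω : Type u} [Group Ω] {S : Subgroup Ω} [Finite S], Nat.card S = n → IsPGroup p S → S ≠ ⊥ →
    ∀ F : FusionSystem S, F.IsSaturated p → (∀ f : Ω → Ω, IsIso F S S f → IsPAut p S f) →
    ∃ X : Subgroup Ω, X < S ∧ SC S X ∧ FocIn F X

variable {p : ℕ} [Fact p.Prime] (W : PFun.{u} p)

variable (hT : ∀ (L : Type u) [Group L] [Finite L] (P : Sylow p L),
    Subgroup.centralizer ((pCore p L : Subgroup L) : Set L) ≤ pCore p L →
    pCore p L ⊓ commutator L = pCore p L ⊓
      (commutator ↥(Subgroup.normalizer ((W.W (P : Subgroup L) : Subgroup L) : Set L))).map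
        (Subgroup.normalizer ((W.W (P : Subgroup L) : Subgroup L) : Set L)).subtype)

include hT in
theorem proper_step {n : ℕ} (ih : ∀ m < n, ProperT.{u} p m) : ProperT.{u} p n := by
  intro Ω _ S _ hcard hS hSne F hF hAut
  have hW₀S : W.W S ≤ S := W.le S
  have hfinS : Finite S := inferInstance
  have hW₀ne : W.W S ≠ ⊥ := W.ne_bot S hfinS hS hSne
  have hNS : normalizerIn S (W.W S) = S := W.normalizerIn_self S hS
  suffices h : ∃ X : Subgroup Ω, X < S ∧ SC S X ∧ WFoc W F X by
    obtain ⟨X, hlt, hSC, hWF⟩ := h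
    exact ⟨X, hlt, hSC, main_foc W hT n hcard hS F hF X hSC hWF⟩
  by_cases htop : W.W S = S
  · refine ⟨⁅S, S⁆, commutator_lt hS hSne, SC_commutator S, ?_⟩
    intro A B f hf hWA hfW x hx
    have hAS : A ≤ S := hf.le_left
    have hA : A = S := le_antisymm hAS (htop ▸ hWA)
    subst hA
    have hB : B = A := Subgroup.eq_of_le_of_card_ge hf.le_right (le_of_eq hf.card_eq)
    subst hB
    obtain ⟨s, hs, hsv⟩ := exists_conj_of_isPAut hS hF hAut hf
    rw [hsv x hx]
    exact SC_commutator B s hs x hx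
  · have hWfn : F.IsFullyNormalized (W.W S) := isFullyNormalized_of_normalizerIn_eq hW₀S hNS
    obtain ⟨N, hN, hNsat, hNnorm⟩ := exists_normalizer_on_top hS hF hWfn hNS
    have hNF := hom_le_of_normalizer (F := F) hN
    have hWsc : N.StronglyClosed (W.W S) := isNormal_stronglyClosed hNnorm
    obtain ⟨Ω', hΩ', S', F', θ, hsm, hker, hfac⟩ := exists_factor hS hNsat hWsc
    have hrange := hsm.2.1
    have hmor := hsm.1
    have hfinS' : Finite S' := finite_S' hrange
    have hS'p : IsPGroup p S' := isPGroup_S' hrange hS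
    have hF'sat : F'.IsSaturated p := isSaturated_of_surjectiveMorphism hS hNsat hsm
    have hK : N.StronglyClosed (kerSub θ) := by rw [hker]; exact hWsc
    have hfinW : Finite (W.W S) := finite_of_le S hW₀S
    have hcardS' : Nat.card S = Nat.card (W.W S) * Nat.card S' := by
      have := card_pre hrange (le_refl S')
      rwa [pre_top hrange, hker] at this
    have hQ1 : 1 < Nat.card (W.W S) := one_lt_card_of_ne_bot hW₀ne
    have hS'pos : 0 < Nat.card S' := Nat.card_pos
    have hS'lt : Nat.card S' < n := by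
      rw [← hcard, hcardS']
      nlinarith
    have hS'ne : S' ≠ ⊥ := by
      intro h
      apply htop
      apply Subgroup.eq_of_le_of_card_ge hW₀S
      have h2 : Nat.card S' = 1 := by rw [h]; exact Subgroup.card_bot
      rw [hcardS', h2, mul_one]
    have hAut' : ∀ f' : Ω' → Ω', IsIso F' S' S' f' → IsPAut p S' f' := by
      intro f' hf'
      obtain ⟨f, hf, hff'⟩ := lift_iso hsm hK hf'
      rw [pre_top hrange] at hf hff'
      have hfF : IsIso F S S f := isIso_of_hom_le hNF hf
      obtain ⟨k, hk⟩ := hAut f hfF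
      refine ⟨k, fun y hy => ?_⟩
      obtain ⟨x, hx, rfl⟩ := exists_al_eq hrange hy
      have key : ∀ m : ℕ, ∀ x ∈ S, f'^[m] (al θ x) = al θ (f^[m] x) := by
        intro m
        induction m with
        | zero => intro x _; rfl
        | succ m ihm =>
          intro x hx
          rw [Function.iterate_succ_apply, Function.iterate_succ_apply, hff' x hx,
            ihm _ (hf.map_mem hx)]
      rw [key _ x hx, hk x hx]
    obtain ⟨X', hX'lt, hSC', hFoc'⟩ := ih _ hS'lt rfl hS'p hS'ne F' hF'sat hAut'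
    refine ⟨preimageAlong θ X', ?_, ?_, ?_⟩
    · refine lt_of_le_of_ne (preimageAlong_le θ _) (fun h => hX'lt.ne ?_)
      apply pre_injective hrange hX'lt.le le_rfl
      rw [pre_top hrange]
      exact h
    · intro s hs x hx
      have hmem : x⁻¹ * (s * x * s⁻¹) ∈ S :=
        S.mul_mem (S.inv_mem hx) (S.mul_mem (S.mul_mem hs hx) (S.inv_mem hs))
      refine (mem_pre_iff θ _ _).2 ⟨hmem, ?_⟩
      rw [al_mul θ (S.inv_mem hx) (S.mul_mem (S.mul_mem hs hx) (S.inv_mem hs)), al_inv θ hx,
        al_conj θ hs hx]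
      exact hSC' _ (al_mem_S' hrange hs) _ (al_mem_S' hrange hx)
    · intro A B f hf hWA hfW x hx
      have hAT : A ≤ normalizerIn S (W.W S) := by rw [hNS]; exact hf.le_left
      obtain ⟨-, hNHom⟩ := isNHom_of_normalizes hWA hAT hf hfW
      have hfN : IsIso N A B f := isIso_of_isNHom hN hf hNHom
      obtain ⟨f', hf', hff'⟩ := push_iso hmor hfN
      have hxS : x ∈ S := hf.le_left hx
      have hfxS : f x ∈ S := hf.le_right (hf.map_mem hx)
      have hmemI : al θ x ∈ imageAlong θ A := (mem_image_iff θ A _).2 ⟨x, hx, hxS, rfl⟩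
      have h3 := hFoc' _ _ _ hf' _ hmemI
      rw [hff' x hx, ← al_inv θ hxS, ← al_mul θ (S.inv_mem hxS) hfxS] at h3
      exact (mem_pre_iff θ _ _).2 ⟨S.mul_mem (S.inv_mem hxS) hfxS, h3⟩

include hT in
theorem proper_all : ∀ n : ℕ, ProperT.{u} p n := by
  intro n
  induction n using Nat.strong_induction_on with
  | _ n ih => exact proper_step W hT ih

include hT in
/-- The focal subgroup is proper. -/
theorem focal_lt {Ω : Type u} [Group Ω] {S : Subgroup Ω} [Finite S] (hS : IsPGroup p S)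
    (hSne : S ≠ ⊥) (F : FusionSystem S) (hF : F.IsSaturated p)
    (hAut : IsPGroup p (F.autGroup S)) : F.focalSubgroup < S := by
  obtain ⟨X, hlt, -, hFoc⟩ := proper_all W hT (Nat.card S) rfl hS hSne F hF
    (isPAut_of_isPGroup_autGroup hAut)
  exact lt_of_le_of_lt ((focIn_iff F X).1 hFoc) hlt

end main

end Cfsg.Agent.Lib.H25.FocalProper
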