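import Cfsg.Agent.Lib.H25.BisTate
import Cfsg.Agent.Lib.H25.FactorSystem
import Cfsg.Agent.Lib.H25.MorphismSat
import Cfsg.Agent.Lib.H26.FusionAbelian
import Cfsg.Agent.Lib.H26.FrattiniNormalizer
import Cfsg.Agent.Lib.H26.SmallFocal
import Cfsg.Agent.S5132
import Cfsg.Agent.S5134
import Cfsg.Agent.S5083

set_option autoImplicit false

/-!
A saturated fusion system with `Aut_F(S)` inner and `Φ(S)` strongly closed is the inner system
(helper25).  Proof: the factor system `F/Φ(S)` is saturated over an abelian group, hence controlled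
by the image of `Aut_F(S)`, which is trivial; so `foc(F) ≤ Φ(S)` and Tate's theorem applies.
-/

namespace Cfsg.Agent.Lib.H25

open Cfsg Cfsg.FusionSystem Cfsg.Agent.Lib.H25.Bis Cfsg.Agent.Lib.H26
open scoped commutatorElement

variable {Ω : Type*} [Group Ω] {S : Subgroup Ω}

/-- The inner system has trivial hyperfocal subgroup. -/
theorem hyperfocal_inner_eq_bot [Finite S] {p : ℕ} [Fact p.Prime] (hS : IsPGroup p S) :
    (innerFusionSystem S).hyperfocalSubgroup p = ⊥ := by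
  unfold hyperfocalSubgroup
  rw [Subgroup.closure_eq_bot_iff]
  rintro y ⟨P, α, x, hP, hα, rfl⟩
  have hpg : IsPGroup p ((innerFusionSystem S).autGroup P) := by
    rw [inner_autGroup_eq hP]; exact autInducedBy_isPGroup hS P
  have hres : pResidual p ((innerFusionSystem S).autGroup P) = ⊥ := by
    unfold pResidual
    rw [Subgroup.closure_eq_bot_iff]
    intro g hg
    obtain ⟨k, hk⟩ := hpg g
    have h1 : orderOf g ∣ p ^ k := orderOf_dvd_of_pow_eq_one hk
    have h2 : Nat.Coprime (orderOf g) (p ^ k) := Nat.Coprime.pow_right k hg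
    have h3 : orderOf g = 1 := Nat.Coprime.eq_one_of_dvd h2 h1
    exact orderOf_eq_one_iff.1 h3
  rw [hres, Subgroup.mem_bot] at hα
  rw [hα]
  show (x : Ω)⁻¹ * (((1 : MulAut P) x : P) : Ω) = 1
  rw [MulAut.one_apply, inv_mul_cancel]

/-- A saturated system with trivial hyperfocal subgroup is the inner system. -/
theorem eq_inner_of_hyperfocal_eq_bot [Finite S] {p : ℕ} [Fact p.Prime] (hS : IsPGroup p S)
    {F : FusionSystem S} (hF : F.IsSaturated p) (h : F.hyperfocalSubgroup p = ⊥) :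
    F = innerFusionSystem S := by
  apply Cfsg.Agent.S5083.result p hS F hF
  intro P hP
  haveI : Finite P := finite_of_le S hP
  haveI : Finite (MulAut P) := Finite.of_injective (fun a : MulAut P => (a : P → P))
    (fun a b hab => MulEquiv.ext (congrFun hab))
  apply isPGroup_of_coprime_trivial
  intro γ hγ hcop
  have hmem : (⟨γ, hγ⟩ : F.autGroup P) ∈ pResidual p (F.autGroup P) := by
    apply Subgroup.subset_closure
    show Nat.Coprime (orderOf (⟨γ, hγ⟩ : F.autGroup P)) p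
    rw [← Subgroup.orderOf_coe]
    exact hcop
  ext x
  have hx : (x : Ω)⁻¹ * ((γ x : P) : Ω) ∈ F.hyperfocalSubgroup p :=
    Subgroup.subset_closure ⟨P, ⟨γ, hγ⟩, x, hP, hmem, rfl⟩
  rw [h, Subgroup.mem_bot, inv_mul_eq_one] at hx
  show ((γ x : P) : Ω) = ((1 : MulAut P) x : P)
  rw [MulAut.one_apply, ← hx]

/-- If `Aut_F(S)` is inner and `Φ(S)` is strongly closed, the focal subgroup lies in `Φ(S)`. -/
theorem focal_le_frattini_of_stronglyClosed [Finite S] {p : ℕ} [Fact p.Prime] (hS : IsPGroup p S)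
    {F : FusionSystem S} (hF : F.IsSaturated p) (hA : F.autGroup S ≤ autInducedBy S S)
    (hΦ : F.StronglyClosed ((frattini ↥S).map S.subtype)) :
    F.focalSubgroup ≤ (frattini ↥S).map S.subtype := by
  classical
  set T : Subgroup Ω := (frattini ↥S).map S.subtype with hTdef
  have hTsub : T.subgroupOf S = frattini ↥S := by
    rw [hTdef]
    ext x
    rw [Subgroup.mem_subgroupOf]
    constructor
    · rintro ⟨y, hy, hyx⟩
      have : y = x := Subtype.ext hyx
      rwa [← this]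
    · intro hx
      exact ⟨x, hx, rfl⟩
  haveI hnorm : (T.subgroupOf S).Normal := by rw [hTsub]; infer_instance
  obtain ⟨E, hE⟩ := Cfsg.Agent.S5132.result p hS F T hΦ
  set θ : ↥S →* ↥S ⧸ T.subgroupOf S := QuotientGroup.mk' (T.subgroupOf S) with hθ
  have hsm := Cfsg.Agent.S5134.result p hS F hF T hΦ θ E hE
  have hEsat : E.IsSaturated p := isSaturated_of_surjectiveMorphism hS hF hsm
  have hker : ∀ s : ↥S, θ s = 1 ↔ (s : Ω) ∈ T := hE.2.1
  -- the quotient is abelian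
  have hcomm : ∀ a b : ↥S ⧸ T.subgroupOf S, a * b = b * a := by
    intro a b
    obtain ⟨a, rfl⟩ := QuotientGroup.mk'_surjective (T.subgroupOf S) a
    obtain ⟨b, rfl⟩ := QuotientGroup.mk'_surjective (T.subgroupOf S) b
    rw [← commutatorElement_eq_one_iff_mul_comm, ← map_commutatorElement]
    show θ ⁅a, b⁆ = 1
    rw [hker, ← Subgroup.mem_subgroupOf, hTsub]
    apply Cfsg.Agent.Lib.H1.isPGroup_commutator_le_frattini hS
    rw [commutator_def]
    exact Subgroup.commutator_mem_commutator (Subgroup.mem_top _) (Subgroup.mem_top _)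
  have hab : ∀ x ∈ (⊤ : Subgroup (↥S ⧸ T.subgroupOf S)), ∀ y ∈ (⊤ : Subgroup (↥S ⧸ T.subgroupOf S)),
      x * y = y * x := fun x _ y _ => hcomm x y
  haveI : Finite (⊤ : Subgroup (↥S ⧸ T.subgroupOf S)) := inferInstance
  -- the main computation
  unfold focalSubgroup
  rw [Subgroup.closure_le]
  rintro _ ⟨P, φ, x, hφ, rfl⟩
  have hPS := hom_le F hφ
  have hxS : (x : Ω) ∈ S := hPS x.2
  have hφS : φ x ∈ S := hom_mem_S F hφ x
  obtain ⟨φ', hφ', hind⟩ := hsm.1.2 P φ hφ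
  obtain ⟨ᾱ, hᾱ, hᾱφ⟩ := exists_aut_extension_of_comm E p hEsat hab hφ'
  -- `ᾱ` is induced by an `F`-automorphism of `S`
  have hᾱhom := (mem_autGroup_iff E le_rfl ᾱ).1 hᾱ
  obtain ⟨-, α, hα, hindα⟩ := (hE.2.2.2 ⊤ _).1 hᾱhom
  have hpre : preimageAlong θ (⊤ : Subgroup (↥S ⧸ T.subgroupOf S)) = S := pre_top hE.2.2.1
  obtain ⟨s, hs, hαs⟩ := hom_top_inner hA hpre hα
  -- evaluate
  have hxpre : (x : Ω) ∈ preimageAlong θ (⊤ : Subgroup (↥S ⧸ T.subgroupOf S)) := by
    rw [hpre]; exact hxS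
  have hαxS : α ⟨x, hxpre⟩ ∈ S := hom_mem_S F hα _
  have e1 := inducedAlong_apply hindα hxpre hxS hαxS (Subgroup.mem_top _)
  have hθxP' : θ ⟨x, hxS⟩ ∈ imageAlong θ P := (mem_imageAlong_iff θ P _).2 ⟨x, hxS, x.2, rfl⟩
  have e2 := inducedAlong_apply hind x.2 hxS hφS hθxP'
  have e3 := hᾱφ ⟨θ ⟨x, hxS⟩, hθxP'⟩
  -- `θ (α x) = θ x`
  have e4 : θ ⟨α ⟨x, hxpre⟩, hαxS⟩ = θ ⟨x, hxS⟩ := by
    have : (⟨α ⟨x, hxpre⟩, hαxS⟩ : ↥S) = ⟨s, hs⟩ * ⟨x, hxS⟩ * ⟨s, hs⟩⁻¹ := by
      apply Subtype.ext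
      exact hαs ⟨x, hxpre⟩
    rw [this, map_mul, map_mul, map_inv, hcomm (θ ⟨s, hs⟩), mul_inv_cancel_right]
  have e5 : θ ⟨φ x, hφS⟩ = θ ⟨x, hxS⟩ := by
    rw [← e2]
    have h1 : φ' ⟨θ ⟨x, hxS⟩, hθxP'⟩ = ((ᾱ ⟨θ ⟨x, hxS⟩, Subgroup.mem_top _⟩ :
        (⊤ : Subgroup (↥S ⧸ T.subgroupOf S))) : ↥S ⧸ T.subgroupOf S) := e3.symm
    rw [h1]
    have h2 : ((ᾱ ⟨θ ⟨x, hxS⟩, Subgroup.mem_top _⟩ :
        (⊤ : Subgroup (↥S ⧸ T.subgroupOf S))) : ↥S ⧸ T.subgroupOf S) =
        θ ⟨α ⟨x, hxpre⟩, hαxS⟩ := e1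
    rw [h2, e4]
  have e6 : θ (⟨x, hxS⟩⁻¹ * ⟨φ x, hφS⟩) = 1 := by
    rw [map_mul, map_inv, e5, inv_mul_cancel]
  exact (hker _).1 e6

/-- **Aut_F(S) inner and Φ(S) strongly closed imply F inner.** -/
theorem inner_of_frattini_stronglyClosed [Finite S] {p : ℕ} [Fact p.Prime] (hS : IsPGroup p S)
    {F : FusionSystem S} (hF : F.IsSaturated p) (hA : F.autGroup S ≤ autInducedBy S S)
    (hΦ : F.StronglyClosed ((frattini ↥S).map S.subtype)) :
    F = innerFusionSystem S := by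
  have hfoc := focal_le_frattini_of_stronglyClosed hS hF hA hΦ
  have hsub : (innerFusionSystem S).IsSubsystemOf F := by
    rintro P φ ⟨hP, g, hg, hφ⟩
    have : φ = conjHom P g := by
      ext x
      rw [hφ x, conjHom_apply]
    rw [this]
    exact F.conj_mem hP hg
  have hfoc' : (innerFusionSystem S).focalSubgroup ≤ (frattini ↥S).map S.subtype := by
    refine le_trans ?_ hfoc
    unfold focalSubgroup
    apply Subgroup.closure_mono
    rintro _ ⟨P, φ, x, hφ, rfl⟩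
    exact ⟨P, φ, x, hsub P hφ, rfl⟩
  have heq : (frattini ↥S).map S.subtype ⊔ F.focalSubgroup =
      (frattini ↥S).map S.subtype ⊔ (innerFusionSystem S).focalSubgroup := by
    rw [sup_eq_left.2 hfoc, sup_eq_left.2 hfoc']
  have hhyp := tate_main hS hF (inner_isSaturated hS) hsub heq
  rw [hyperfocal_inner_eq_bot hS] at hhyp
  exact eq_inner_of_hyperfocal_eq_bot hS hF hhyp

end Cfsg.Agent.Lib.H25
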