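import Mathlib

/-!
# S4385 wave 2, a sub-piece of (A34) `abs_s4z2`: the cases 1 and 2 of `hcc` are impossible

Blueprint `tools/blueprints/S4385.md`; the binders are those of (A34) in `tools/blueprints/S4385_sigs2.lean`.
`r := a * b`; `r ^ 2` sends `u` to `u * z` and `r ^ 4` fixes `u` and `z`; `r ^ (2 * m)` lies in `Q`
(`|K : Q| = 2 * m`), so it commutes with `u`; as `2 * m = 4 * k + 2` this gives `z = 1`, against `|Q| = 8`.
Case 2 is case 1 after the swap `(u, a) ↔ (v, b)`.  (helper25)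
-/

set_option autoImplicit false

namespace Cfsg.Agent.Lib.H25.G85

/-- the four-element subgroup spanned by two commuting involutions -/
def a34xFour {K : Type*} [Group K] (s r : K) (hs : s * s = 1) (hr : r * r = 1) (hsr : s * r = r * s) :
    Subgroup K where
  carrier := {g | g = 1 ∨ g = s ∨ g = r ∨ g = s * r}
  one_mem' := Or.inl rfl
  mul_mem' := by
    have hs' : ∀ x : K, s * (s * x) = x := fun x => by rw [← mul_assoc, hs, one_mul]
    have hrs : r * s = s * r := hsr.symm
    have hrs' : ∀ x : K, r * (s * x) = s * (r * x) := fun x => by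
      rw [← mul_assoc, hrs, mul_assoc]
    rintro x y (rfl | rfl | rfl | rfl) (rfl | rfl | rfl | rfl) <;>
      simp only [Set.mem_ofPred_eq, mul_assoc, mul_one, one_mul, hs, hr, hs', hrs, hrs'] <;>
      simp
  inv_mem' := by
    have hsi : s⁻¹ = s := inv_eq_of_mul_eq_one_right hs
    have hri : r⁻¹ = r := inv_eq_of_mul_eq_one_right hr
    rintro x (rfl | rfl | rfl | rfl)
    · exact Or.inl inv_one
    · exact Or.inr (Or.inl hsi)
    · exact Or.inr (Or.inr (Or.inl hri))
    · refine Or.inr (Or.inr (Or.inr ?_))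
      rw [mul_inv_rev, hsi, hri, hsr]

theorem a34x_card_four_le {K : Type*} [Group K] [Finite K] (s r : K) (hs : s * s = 1) (hr : r * r = 1)
    (hsr : s * r = r * s) : Nat.card (a34xFour s r hs hr hsr) ≤ 4 := by
  have h1 : ((a34xFour s r hs hr hsr : Subgroup K) : Set K) = {1, s, r, s * r} := by
    ext g
    simp only [Set.mem_insert_iff, Set.mem_singleton_iff]
    exact Iff.rfl
  have h2 : Nat.card (a34xFour s r hs hr hsr) = ((a34xFour s r hs hr hsr : Subgroup K) : Set K).ncard :=
    Nat.card_coe_set_eq _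
  rw [h2, h1]
  calc ({1, s, r, s * r} : Set K).ncard ≤ ({s, r, s * r} : Set K).ncard + 1 := Set.ncard_insert_le _ _
    _ ≤ (({r, s * r} : Set K).ncard + 1) + 1 := Nat.add_le_add_right (Set.ncard_insert_le _ _) 1
    _ ≤ ((({s * r} : Set K).ncard + 1) + 1) + 1 :=
        Nat.add_le_add_right (Nat.add_le_add_right (Set.ncard_insert_le _ _) 1) 1
    _ = 4 := by rw [Set.ncard_singleton]

/-- the core computation: case 1 -/
theorem a34x_core {K : Type*} [Group K] [Finite K] (Q : Subgroup K) [Q.Normal] (u z v a b : K)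
    (hQu : ∀ q ∈ Q, q * u = u * q) (hz1 : z ≠ 1) (hz2 : z * z = 1) (hv2 : v * v = 1)
    (haz : a * z = z * a) (hav : a * v = v * a) (hbz : b * z = z * b) (hbu : b * u = u * b)
    (hau : a * u * a⁻¹ = u * v) (hbv : b * v * b⁻¹ = v * z)
    (m : ℕ) (hm : ¬ 2 ∣ m) (hidx : Q.index = 2 * m) : False := by
  have hau' : a * u = u * v * a := by rw [← hau]; group
  have hbv' : b * v = v * z * b := by rw [← hbv]; group
  set r : K := a * b with hr
  have s_u : SemiconjBy r u (u * v) := by
    show a * b * u = u * v * (a * b)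
    rw [mul_assoc, hbu, ← mul_assoc, hau', mul_assoc]
  have s_v : SemiconjBy r v (v * z) := by
    show a * b * v = v * z * (a * b)
    rw [mul_assoc a b v, hbv', ← mul_assoc, ← mul_assoc, hav, mul_assoc v a z, haz]
    simp only [mul_assoc]
  have s_z : SemiconjBy r z z := by
    show a * b * z = z * (a * b)
    rw [mul_assoc, hbz, ← mul_assoc, haz, mul_assoc]
  have s2_u : SemiconjBy (r * r) u (u * z) := by
    have h := (s_u.mul_right s_v).mul_left s_u
    have e : u * v * (v * z) = u * z := by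
      rw [mul_assoc, ← mul_assoc v v z, hv2, one_mul]
    rwa [e] at h
  have s2_z : SemiconjBy (r * r) z z := s_z.mul_left s_z
  have s4_u : Commute (r * r * (r * r)) u := by
    have h := (s2_u.mul_right s2_z).mul_left s2_u
    have e : u * z * z = u := by rw [mul_assoc, hz2, mul_one]
    rw [e] at h
    exact h
  have s4_z : Commute (r * r * (r * r)) z := s2_z.mul_left s2_z
  -- `m = 2 * k + 1`
  obtain ⟨k, hk⟩ : ∃ k, m = 2 * k + 1 := by
    rcases Nat.even_or_odd' m with ⟨k, hk | hk⟩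
    · exact absurd ⟨k, hk⟩ hm
    · exact ⟨k, hk⟩
  have c_uz : Commute ((r * r * (r * r)) ^ k) (u * z) :=
    (s4_u.pow_left k).mul_right (s4_z.pow_left k)
  have s_fin : SemiconjBy ((r * r * (r * r)) ^ k * (r * r)) u (u * z) :=
    SemiconjBy.mul_left (show SemiconjBy ((r * r * (r * r)) ^ k) (u * z) (u * z) from c_uz) s2_u
  have e_pow : (r * r * (r * r)) ^ k * (r * r) = r ^ (2 * m) := by
    have e4 : r * r * (r * r) = r ^ 4 := by
      rw [show (4 : ℕ) = 2 + 2 from rfl, pow_add, pow_two]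
    rw [e4, ← pow_two, ← pow_mul, ← pow_add, hk]
    congr 1
    ring
  rw [e_pow] at s_fin
  -- `r ^ (2 * m) ∈ Q`
  have hmem : r ^ (2 * m) ∈ Q := by
    have h1 : ((r : K) : K ⧸ Q) ^ Nat.card (K ⧸ Q) = 1 := pow_card_eq_one'
    rw [← Subgroup.index_eq_card, hidx, ← QuotientGroup.mk_pow] at h1
    exact (QuotientGroup.eq_one_iff _).1 h1
  have h2 := hQu _ hmem
  have h3 : r ^ (2 * m) * u = u * z * r ^ (2 * m) := s_fin
  rw [h2] at h3
  have h4 : u = u * z := mul_right_cancel h3
  apply hz1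
  have h5 : u * z = u * 1 := by rw [mul_one]; exact h4.symm
  exact mul_left_cancel h5

/-- (A34), cases 1 and 2 of `hcc`: impossible.  The binders are those of `abs_s4z2`. -/
theorem abs_s4z2_not_case12 {K : Type*} [Group K] [Finite K] (Q : Subgroup K) [Q.Normal] (u z v a b c c' : K)
    (huQ : u ∈ Q) (hzQ : z ∈ Q) (hvQ : v ∈ Q)
    (hQle : ∀ N : Subgroup K, u ∈ N → z ∈ N → v ∈ N → Q ≤ N) (hQcard : Nat.card Q = 8)
    (hu2 : u * u = 1) (hz2 : z * z = 1) (hv2 : v * v = 1) (ha2 : a * a = 1) (hb2 : b * b = 1)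
    (huz : u * z = z * u) (huv : u * v = v * u) (hzv : z * v = v * z)
    (haz : a * z = z * a) (hav : a * v = v * a) (hbz : b * z = z * b) (hbu : b * u = u * b)
    (hau : a * u * a⁻¹ = u * c) (hbv : b * v * b⁻¹ = v * c')
    (hcc : (c = v ∧ c' = z) ∨ (c = z ∧ c' = u))
    (hgen : ∀ N : Subgroup K, a ∈ N → b ∈ N → Q ≤ N → N = ⊤)
    (hcard : ∃ m : ℕ, ¬ 2 ∣ m ∧ Nat.card K = 16 * m) : False := by
  obtain ⟨m, hm, hK⟩ := hcard
  have hidx : Q.index = 2 * m := by
    have h := Subgroup.card_mul_index Q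
    rw [hQcard, hK] at h
    omega
  -- `z ≠ 1`
  have hz1 : z ≠ 1 := by
    intro hz
    have hle : Q ≤ a34xFour u v hu2 hv2 huv :=
      hQle _ (Or.inr (Or.inl rfl)) (Or.inl hz) (Or.inr (Or.inr (Or.inl rfl)))
    have h1 := Subgroup.card_le_of_le hle
    have h2 := a34x_card_four_le u v hu2 hv2 huv
    omega
  have hQu : ∀ q ∈ Q, q * u = u * q := by
    have hle : Q ≤ Subgroup.centralizer ({u} : Set K) := by
      apply hQle
      · rw [Subgroup.mem_centralizer_iff]; rintro h rfl; rfl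
      · rw [Subgroup.mem_centralizer_iff]; rintro h rfl; exact huz
      · rw [Subgroup.mem_centralizer_iff]; rintro h rfl; exact huv
    intro q hq
    exact ((Subgroup.mem_centralizer_iff.1 (hle hq)) u rfl).symm
  have hQv : ∀ q ∈ Q, q * v = v * q := by
    have hle : Q ≤ Subgroup.centralizer ({v} : Set K) := by
      apply hQle
      · rw [Subgroup.mem_centralizer_iff]; rintro h rfl; exact huv.symm
      · rw [Subgroup.mem_centralizer_iff]; rintro h rfl; exact hzv.symm
      · rw [Subgroup.mem_centralizer_iff]; rintro h rfl; rfl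
    intro q hq
    exact ((Subgroup.mem_centralizer_iff.1 (hle hq)) v rfl).symm
  rcases hcc with ⟨rfl, rfl⟩ | ⟨rfl, rfl⟩
  · exact a34x_core Q u c' c a b hQu hz1 hz2 hv2 haz hav hbz hbu hau hbv m hm hidx
  · -- swap `(u, a) ↔ (v, b)`
    exact a34x_core Q v c c' b a hQv hz1 hz2 hu2 hbz hbu haz hav hbv hau m hm hidx

end Cfsg.Agent.Lib.H25.G85
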