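import Cfsg.Agent.Lib.H1.G85.Defs

set_option autoImplicit false
set_option linter.unusedSectionVars false

/-!
# S4385 (Glauberman 1969, dihedral case), wave 2: assembly of `case34` from the two halves (helper25)

`case34_of_halves`: the abstract half (A34) `abs_s4z2` (at `K = ↥(H0 S)`) and the conclusion of the chain half (CH34)
`chain34` give `case34`.  Exact shapes from `tools/blueprints/S4385_sigs2.lean`.
-/

open scoped Pointwise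

namespace Cfsg.Agent.Lib.H25.G85

open Cfsg.Agent.Lib.H5.Glaub Cfsg.Agent.Lib.H5.Glaub.Setup Cfsg.Agent.Lib.H1.G85

variable {G : Type*} [Group G] [Finite G]

/-- transport: a subgroup of `↥H` containing (the preimages of) generators of `H` is `⊤` -/
theorem eq_top_of_map_le {H : Subgroup G} (N : Subgroup ↥H) (h : H ≤ N.map H.subtype) : N = ⊤ := by
  rw [eq_top_iff]
  intro g _
  obtain ⟨g', hg', hgg⟩ := h g.2
  have : g' = g := Subtype.ext hgg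
  rwa [← this]

theorem mem_map_subtype_iff' {H : Subgroup G} (N : Subgroup ↥H) (g : G) (hg : g ∈ H) :
    g ∈ N.map H.subtype ↔ (⟨g, hg⟩ : ↥H) ∈ N := by
  constructor
  · rintro ⟨g', hg', hgg⟩
    have : g' = ⟨g, hg⟩ := Subtype.ext hgg
    rwa [← this]
  · intro h
    exact ⟨⟨g, hg⟩, h, rfl⟩

/-- assembly of `case34` -/
theorem case34_of_halves (S : Setup G) (x : ℤ → G) (hx : Gen S 4 x)
    (hA : ∀ (Q : Subgroup ↥(H0 S)) [Q.Normal] (u z v a b c c' : ↥(H0 S)),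
      u ∈ Q → z ∈ Q → v ∈ Q →
      (∀ N : Subgroup ↥(H0 S), u ∈ N → z ∈ N → v ∈ N → Q ≤ N) → Nat.card Q = 8 →
      u * u = 1 → z * z = 1 → v * v = 1 → a * a = 1 → b * b = 1 →
      u * z = z * u → u * v = v * u → z * v = v * z →
      a * z = z * a → a * v = v * a → b * z = z * b → b * u = u * b →
      a * u * a⁻¹ = u * c → b * v * b⁻¹ = v * c' →
      ((c = v ∧ c' = z) ∨ (c = z ∧ c' = u) ∨ (c = v * z ∧ c' = z * u)) →
      (∀ N : Subgroup ↥(H0 S), a ∈ N → b ∈ N → Q ≤ N → N = ⊤) →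
      (∃ m : ℕ, ¬ 2 ∣ m ∧ Nat.card ↥(H0 S) = 16 * m) →
      Nonempty (↥(H0 S) ⧸ Cfsg.oddCore ↥(H0 S) ≃* Equiv.Perm (Fin 4) × Multiplicative (ZMod 2)))
    (hCH : (∀ k : ℤ, -4 ≤ k → k ≤ 0 → x k ∈ H0 S) ∧
      (x (-1) ∈ S.Pj (-1) ⊓ S.Pj 0 ∧ x (-2) ∈ S.Pj (-1) ⊓ S.Pj 0 ∧ x (-3) ∈ S.Pj (-1) ⊓ S.Pj 0) ∧
      (∀ N : Subgroup G, x (-1) ∈ N → x (-2) ∈ N → x (-3) ∈ N → S.Pj (-1) ⊓ S.Pj 0 ≤ N) ∧
      Nat.card ↥(S.Pj (-1) ⊓ S.Pj 0 : Subgroup G) = 8 ∧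
      H0 S ≤ Subgroup.normalizer ((S.Pj (-1) ⊓ S.Pj 0 : Subgroup G) : Set G) ∧
      (∀ N : Subgroup G, x (-4) ∈ N → x 0 ∈ N → S.Pj (-1) ⊓ S.Pj 0 ≤ N → H0 S ≤ N) ∧
      (∀ i j : ℤ, |i - j| < 3 → x i * x j = x j * x i) ∧
      (∃ c c' : G, ((c = x (-3) ∧ c' = x (-2)) ∨ (c = x (-2) ∧ c' = x (-1)) ∨
          (c = x (-3) * x (-2) ∧ c' = x (-2) * x (-1))) ∧
         x (-4) * x (-1) * (x (-4))⁻¹ = x (-1) * c ∧
         x 0 * x (-3) * (x 0)⁻¹ = x (-3) * c') ∧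
      ∃ m : ℕ, ¬ 2 ∣ m ∧ Nat.card ↥(H0 S) = 16 * m) :
    Nonempty (↥(H0 S) ⧸ Cfsg.oddCore ↥(H0 S) ≃* Equiv.Perm (Fin 4) × Multiplicative (ZMod 2)) := by
  obtain ⟨hmem, ⟨hq1, hq2, hq3⟩, hQgen, hQcard, hQnorm, hHgen, hcomm, ⟨c, c', hcc, hau, hbv⟩, hcard⟩ := hCH
  set Q0 : Subgroup G := S.Pj (-1) ⊓ S.Pj 0 with hQ0
  have hQ0H : Q0 ≤ H0 S := inf_le_right.trans (Pj_zero_le_H0 S)
  have hQn : (Q0.subgroupOf (H0 S)).Normal :=
    (Subgroup.normal_subgroupOf_iff_le_normalizer hQ0H).2 hQnorm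
  have h1 := hmem (-1) (by norm_num) (by norm_num)
  have h2 := hmem (-2) (by norm_num) (by norm_num)
  have h3 := hmem (-3) (by norm_num) (by norm_num)
  have h4 := hmem (-4) (by norm_num) (by norm_num)
  have h0 := hmem 0 (by norm_num) (by norm_num)
  -- `c`, `c'` lie in `H0 S`
  have hcH : c ∈ H0 S := by
    rcases hcc with ⟨rfl, -⟩ | ⟨rfl, -⟩ | ⟨rfl, -⟩
    · exact h3
    · exact h2
    · exact (H0 S).mul_mem h3 h2
  have hc'H : c' ∈ H0 S := by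
    rcases hcc with ⟨-, rfl⟩ | ⟨-, rfl⟩ | ⟨-, rfl⟩
    · exact h2
    · exact h1
    · exact (H0 S).mul_mem h2 h1
  refine hA (Q0.subgroupOf (H0 S)) ⟨x (-1), h1⟩ ⟨x (-2), h2⟩ ⟨x (-3), h3⟩ ⟨x (-4), h4⟩ ⟨x 0, h0⟩
    ⟨c, hcH⟩ ⟨c', hc'H⟩ ?_ ?_ ?_ ?_ ?_ ?_ ?_ ?_ ?_ ?_ ?_ ?_ ?_ ?_ ?_ ?_ ?_ ?_ ?_ ?_ ?_ hcard
  · exact Subgroup.mem_subgroupOf.mpr hq1
  · exact Subgroup.mem_subgroupOf.mpr hq2
  · exact Subgroup.mem_subgroupOf.mpr hq3
  · intro N hu hz hv g hg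
    have hle := hQgen (N.map (H0 S).subtype)
      ((mem_map_subtype_iff' N _ h1).mpr hu) ((mem_map_subtype_iff' N _ h2).mpr hz)
      ((mem_map_subtype_iff' N _ h3).mpr hv)
    have := hle (Subgroup.mem_subgroupOf.mp hg)
    exact (mem_map_subtype_iff' N _ g.2).mp this
  · rw [← hQcard]
    exact Nat.card_congr (Subgroup.subgroupOfEquivOfLe hQ0H).toEquiv
  · exact Subtype.ext (hx.sq (-1))
  · exact Subtype.ext (hx.sq (-2))
  · exact Subtype.ext (hx.sq (-3))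
  · exact Subtype.ext (hx.sq (-4))
  · exact Subtype.ext (hx.sq 0)
  · exact Subtype.ext (hcomm (-1) (-2) (by norm_num))
  · exact Subtype.ext (hcomm (-1) (-3) (by norm_num))
  · exact Subtype.ext (hcomm (-2) (-3) (by norm_num))
  · exact Subtype.ext (hcomm (-4) (-2) (by norm_num))
  · exact Subtype.ext (hcomm (-4) (-3) (by norm_num))
  · exact Subtype.ext (hcomm 0 (-2) (by norm_num))
  · exact Subtype.ext (hcomm 0 (-1) (by norm_num))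
  · exact Subtype.ext hau
  · exact Subtype.ext hbv
  · rcases hcc with ⟨e1, e2⟩ | ⟨e1, e2⟩ | ⟨e1, e2⟩
    · exact Or.inl ⟨Subtype.ext e1, Subtype.ext e2⟩
    · exact Or.inr (Or.inl ⟨Subtype.ext e1, Subtype.ext e2⟩)
    · exact Or.inr (Or.inr ⟨Subtype.ext e1, Subtype.ext e2⟩)
  · intro N ha hb hQN
    apply eq_top_of_map_le
    apply hHgen (N.map (H0 S).subtype) ((mem_map_subtype_iff' N _ h4).mpr ha)
      ((mem_map_subtype_iff' N _ h0).mpr hb)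
    intro g hg
    exact (mem_map_subtype_iff' N g (hQ0H hg)).mpr (hQN (Subgroup.mem_subgroupOf.mpr hg))

end Cfsg.Agent.Lib.H25.G85
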