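import Cfsg.Agent.Lib.H1.G85.Defs

set_option autoImplicit false
set_option linter.unusedSectionVars false

/-!
# S4385 (Glauberman 1969, dihedral case), wave 2, piece (CH22): chain facts for `(q,t) = (2,2)` (helper25)

Exact signature from `tools/blueprints/S4385_sigs2.lean`.
-/

open scoped Pointwise

namespace Cfsg.Agent.Lib.H25.G85

open Cfsg.Agent.Lib.H5.Glaub Cfsg.Agent.Lib.H5.Glaub.Setup Cfsg.Agent.Lib.H1.G85

variable {G : Type*} [Group G] [Finite G]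

set_option linter.unusedVariables false in
/-- (CH22) chain facts for `(q,t) = (2,2)` -/
theorem chain22 (S : Setup G) (hp2 : S.p = 2) (hU : S.Uni 2) (hI : S.Ivl 2) (hD : S.Dist 2 2)
    (x : ℤ → G) (hx : Gen S 2 x) (hodd : ¬ 2 ∣ (S.Pj 0).relIndex (H0 S)) :
    (∀ k : ℤ, -2 ≤ k → k ≤ 0 → x k ∈ H0 S) ∧
    (∀ N : Subgroup G, x (-2) ∈ N → x (-1) ∈ N → x 0 ∈ N → H0 S ≤ N) ∧
    x (-1) ≠ x 0 ∧
    x (-2) * x (-1) = x (-1) * x (-2) ∧ x 0 * x (-1) = x (-1) * x 0 ∧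
    ∃ m : ℕ, ¬ 2 ∣ m ∧ Nat.card ↥(H0 S) = 4 * m := by
  have hxX : ∀ k : ℤ, x k ∈ S.X 2 k := fun k => by rw [hx.X_eq k]; exact Subgroup.mem_zpowers _
  have hP0 : S.Pj 0 = S.Iv 2 (-1) 0 := by
    have := hI.Pj_eq 0
    norm_num at this
    exact this
  have hP1 : S.Pj (-1) = S.Iv 2 (-2) (-1) := by
    have := hI.Pj_eq (-1)
    norm_num at this
    exact this
  refine ⟨?_, ?_, ?_, ?_, ?_, ?_⟩
  · intro k h1 h2
    by_cases hk : k ≤ -1
    · apply Pj_neg_one_le_H0 S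
      rw [hP1]
      exact S.X_le_Iv 2 h1 hk (hxX k)
    · apply Pj_zero_le_H0 S
      rw [hP0]
      exact S.X_le_Iv 2 (by omega) h2 (hxX k)
  · intro N h2 h1 h0
    have hX : ∀ k : ℤ, -2 ≤ k → k ≤ 0 → S.X 2 k ≤ N := by
      intro k hk1 hk2
      rw [hx.X_eq k, Subgroup.zpowers_le]
      have : k = -2 ∨ k = -1 ∨ k = 0 := by omega
      rcases this with rfl | rfl | rfl
      · exact h2
      · exact h1
      · exact h0
    unfold H0
    rw [hP0, hP1]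
    apply sup_le
    · rw [S.Iv_le_iff]
      intro k hk1 hk2
      exact hX k hk1 (by omega)
    · rw [S.Iv_le_iff]
      intro k hk1 hk2
      exact hX k (by omega) hk2
  · intro h
    have hinf := hI.inf (-1) 0 (-1) (-1) 0 0 (by norm_num) le_rfl (by norm_num) (by norm_num) le_rfl
    rw [S.Iv_self, S.Iv_self] at hinf
    have hbot : S.Iv 2 (max (-1) 0) (min (-1) 0) = ⊥ := S.Iv_eq_bot 2 (by norm_num)
    rw [hbot] at hinf
    have hmem : x 0 ∈ S.X 2 (-1) ⊓ S.X 2 0 := ⟨by rw [← h]; exact hxX (-1), hxX 0⟩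
    rw [hinf, Subgroup.mem_bot] at hmem
    exact hx.ne_one 0 hmem
  · exact hD.comm (-2) (-1) (by norm_num) _ (hxX (-2)) _ (hxX (-1))
  · exact hD.comm 0 (-1) (by norm_num) _ (hxX 0) _ (hxX (-1))
  · refine ⟨(S.Pj 0).relIndex (H0 S), hodd, ?_⟩
    have h1 := Subgroup.relIndex_mul_relIndex (⊥ : Subgroup G) (S.Pj 0) (H0 S) bot_le (Pj_zero_le_H0 S)
    rw [Subgroup.relIndex_bot_left, Subgroup.relIndex_bot_left] at h1
    have h2 := hU.card 0 0 (by norm_num)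
    rw [S.J_unfold_zero, hp2] at h2
    rw [← h1, h2]
    norm_num

end Cfsg.Agent.Lib.H25.G85
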