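import Mathlib
import Cfsg.Agent.Lib.H17.GHDefs
import Cfsg.Agent.Lib.H21.GHKE
import Cfsg.Agent.Lib.H25.GHK4

/-!
# S4402 piece K2 (helper25): the two normal elementary abelian subgroups `A1c`, `A2c` of order 16 of `T`
-/

set_option autoImplicit false
set_option linter.dupNamespace false

namespace Cfsg.Agent.Lib.H25.GH

open Subgroup Cfsg.Agent.Lib.H17.GH Cfsg.Agent.Lib.H14.A8Sylow Cfsg.Agent.Lib.H21.GH

/-- the defining commutation equations of `A1c` -/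
def C1 (σ : Equiv.Perm (Fin 8)) : Prop :=
  lsw 0 * σ = σ * lsw 0 ∧ lsw 1 * σ = σ * lsw 1 ∧ lsw 2 * σ = σ * lsw 2 ∧ lsw 3 * σ = σ * lsw 3

/-- the defining commutation equations of `A2c` -/
def C2 (σ : Equiv.Perm (Fin 8)) : Prop :=
  dsw 0 1 * σ = σ * dsw 0 1 ∧ qsw 0 * σ = σ * qsw 0 ∧ dsw 2 3 * σ = σ * dsw 2 3 ∧ qsw 1 * σ = σ * qsw 1

instance (σ : Equiv.Perm (Fin 8)) : Decidable (C1 σ) := by unfold C1; infer_instance
instance (σ : Equiv.Perm (Fin 8)) : Decidable (C2 σ) := by unfold C2; infer_instance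

theorem mem_A1c_iff' (σ : Equiv.Perm (Fin 8)) : σ ∈ A1c ↔ σ ∈ T ∧ C1 σ := mem_A1c_iff σ
theorem mem_A2c_iff' (σ : Equiv.Perm (Fin 8)) : σ ∈ A2c ↔ σ ∈ T ∧ C2 σ := mem_A2c_iff σ

/-- the seven generators of `T` used by `enc` -/
def gen7 (j : Fin 7) : Equiv.Perm (Fin 8) :=
  ![lsw 0, lsw 1, lsw 2, lsw 3, qsw 0, qsw 1, hsw] j

set_option maxRecDepth 1000000 in
theorem gen7_mem_T : ∀ j : Fin 7, gen7 j ∈ T := by
  have key : ∀ j : Fin 7, (∀ i k, blk2 (gen7 j i) = blk2 (gen7 j k) ↔ blk2 i = blk2 k) ∧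
      (∀ i k, blk4 (gen7 j i) = blk4 (gen7 j k) ↔ blk4 i = blk4 k) := by decide +kernel
  intro j
  rw [mem_T]
  exact key j

/-- A multiplicatively closed property holding for the seven generators (and `1`) holds on `T`. -/
theorem forall_mem_T_of_gen7 (Q : Equiv.Perm (Fin 8) → Prop) (h1 : Q 1)
    (hmul : ∀ g h, Q g → Q h → Q (g * h)) (hgen : ∀ j : Fin 7, Q (gen7 j)) : ∀ g ∈ T, Q g := by
  intro g hg
  obtain ⟨n, rfl⟩ := (mem_T_iff_enc g).1 hg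
  have hpw : ∀ (j : Fin 7) (b : Bool), Q (pw (gen7 j) b) := by
    intro j b
    unfold pw
    split
    · exact hgen j
    · exact h1
  unfold enc
  exact hmul _ _ (hmul _ _ (hmul _ _ (hmul _ _ (hmul _ _ (hmul _ _ (hpw 0 _) (hpw 1 _)) (hpw 2 _))
    (hpw 3 _)) (hpw 4 _)) (hpw 5 _)) (hpw 6 _)

set_option maxRecDepth 1000000 in
theorem conj_C1 : ∀ j : Fin 7, ∀ m : Fin 128, C1 (enc m) → C1 (gen7 j * enc m * (gen7 j)⁻¹) := by
  unfold C1
  decide +kernel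

set_option maxRecDepth 1000000 in
theorem conj_C2 : ∀ j : Fin 7, ∀ m : Fin 128, C2 (enc m) → C2 (gen7 j * enc m * (gen7 j)⁻¹) := by
  unfold C2
  decide +kernel

set_option maxRecDepth 1000000 in
theorem sq_C1 : ∀ m : Fin 128, C1 (enc m) → enc m * enc m = 1 := by
  unfold C1
  decide +kernel

set_option maxRecDepth 1000000 in
theorem sq_C2 : ∀ m : Fin 128, C2 (enc m) → enc m * enc m = 1 := by
  unfold C2
  decide +kernel

set_option maxRecDepth 1000000 in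
theorem card_filter_C1 : (Finset.univ.filter (fun n : Fin 128 => C1 (enc n))).card = 16 := by
  unfold C1
  decide +kernel

set_option maxRecDepth 1000000 in
theorem card_filter_C2 : (Finset.univ.filter (fun n : Fin 128 => C2 (enc n))).card = 16 := by
  unfold C2
  decide +kernel

set_option maxRecDepth 1000000 in
theorem not_C2_lsw0 : ¬ C2 (lsw 0) := by
  unfold C2
  decide +kernel

/-- normality from the generators -/
theorem conj_mem_of_gen7 (A : Subgroup (Equiv.Perm (Fin 8)))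
    (hgen : ∀ j : Fin 7, ∀ a ∈ A, gen7 j * a * (gen7 j)⁻¹ ∈ A) :
    ∀ g ∈ T, ∀ a ∈ A, g * a * g⁻¹ ∈ A := by
  apply forall_mem_T_of_gen7 (fun g => ∀ a ∈ A, g * a * g⁻¹ ∈ A)
  · intro a ha
    simpa using ha
  · intro g h hg hh a ha
    have := hg _ (hh a ha)
    have e : g * h * a * (g * h)⁻¹ = g * (h * a * h⁻¹) * g⁻¹ := by group
    rw [e]
    exact this
  · exact hgen

theorem card_eq_of_filter (A : Subgroup (Equiv.Perm (Fin 8))) (C : Equiv.Perm (Fin 8) → Prop)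
    [DecidablePred C] (hA : ∀ σ, σ ∈ A ↔ σ ∈ T ∧ C σ) (k : ℕ)
    (hk : (Finset.univ.filter (fun n : Fin 128 => C (enc n))).card = k) : Nat.card A = k := by
  have hset : (A : Set (Equiv.Perm (Fin 8))) = enc '' ((Finset.univ.filter
      (fun n : Fin 128 => C (enc n)) : Finset (Fin 128)) : Set (Fin 128)) := by
    ext σ
    constructor
    · intro hσ
      have h := (hA σ).1 hσ
      obtain ⟨n, rfl⟩ := (mem_T_iff_enc σ).1 h.1
      refine ⟨n, ?_, rfl⟩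
      rw [Finset.mem_coe, Finset.mem_filter]
      exact ⟨Finset.mem_univ _, h.2⟩
    · rintro ⟨n, hn, rfl⟩
      rw [Finset.mem_coe, Finset.mem_filter] at hn
      exact (hA _).2 ⟨enc_mem_T n, hn.2⟩
  have h1 : Nat.card A = (A : Set (Equiv.Perm (Fin 8))).ncard := Nat.card_coe_set_eq _
  rw [h1, hset, Set.ncard_image_of_injective _ enc_injective, Set.ncard_coe_finset, hk]

/-- K2. The two normal `E16`. -/
theorem A1c_A2c : A1c ≤ T ∧ A2c ≤ T ∧ (∀ g ∈ T, ∀ a ∈ A1c, g * a * g⁻¹ ∈ A1c) ∧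
    (∀ g ∈ T, ∀ a ∈ A2c, g * a * g⁻¹ ∈ A2c) ∧ (∀ a ∈ A1c, a * a = 1) ∧ (∀ a ∈ A2c, a * a = 1) ∧
    Nat.card A1c = 16 ∧ Nat.card A2c = 16 ∧ A1c ≠ A2c := by
  refine ⟨inf_le_left, inf_le_left, ?_, ?_, ?_, ?_, ?_, ?_, ?_⟩
  · apply conj_mem_of_gen7
    intro j a ha
    rw [mem_A1c_iff'] at ha ⊢
    obtain ⟨n, rfl⟩ := (mem_T_iff_enc a).1 ha.1
    exact ⟨T.mul_mem (T.mul_mem (gen7_mem_T j) ha.1) (T.inv_mem (gen7_mem_T j)), conj_C1 j n ha.2⟩
  · apply conj_mem_of_gen7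
    intro j a ha
    rw [mem_A2c_iff'] at ha ⊢
    obtain ⟨n, rfl⟩ := (mem_T_iff_enc a).1 ha.1
    exact ⟨T.mul_mem (T.mul_mem (gen7_mem_T j) ha.1) (T.inv_mem (gen7_mem_T j)), conj_C2 j n ha.2⟩
  · intro a ha
    rw [mem_A1c_iff'] at ha
    obtain ⟨n, rfl⟩ := (mem_T_iff_enc a).1 ha.1
    exact sq_C1 n ha.2
  · intro a ha
    rw [mem_A2c_iff'] at ha
    obtain ⟨n, rfl⟩ := (mem_T_iff_enc a).1 ha.1
    exact sq_C2 n ha.2
  · exact card_eq_of_filter A1c C1 mem_A1c_iff' 16 card_filter_C1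
  · exact card_eq_of_filter A2c C2 mem_A2c_iff' 16 card_filter_C2
  · intro h
    have h1 : lsw 0 ∈ A2c := h ▸ lsw_mem_A1c 0
    rw [mem_A2c_iff'] at h1
    exact not_C2_lsw0 h1.2

end Cfsg.Agent.Lib.H25.GH
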