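import Mathlib

set_option autoImplicit false

/-!
Finite `Γ`-sets (helper25): fixed-point counts ("marks"), coset spaces, disjoint unions indexed by
lists of subgroups.
-/

namespace Cfsg.Agent.Lib.H25.GSet

open MulAction

variable {Γ : Type*} [Group Γ]

/-- The points of `X` fixed by the subgroup `H`. -/
def Fix (X : Type*) [MulAction Γ X] (H : Subgroup Γ) : Set X := {z | ∀ h ∈ H, h • z = z}

theorem mem_Fix {X : Type*} [MulAction Γ X] {H : Subgroup Γ} {z : X} :
    z ∈ Fix X H ↔ ∀ h ∈ H, h • z = z := Iff.rfl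

theorem mem_Fix_iff_le {X : Type*} [MulAction Γ X] {H : Subgroup Γ} {z : X} :
    z ∈ Fix X H ↔ H ≤ stabilizer Γ z :=
  ⟨fun h x hx => mem_stabilizer_iff.2 (h x hx), fun h x hx => mem_stabilizer_iff.1 (h hx)⟩

theorem Fix_anti {X : Type*} [MulAction Γ X] {H K : Subgroup Γ} (h : H ≤ K) :
    Fix X K ⊆ Fix X H := fun _ hz x hx => hz x (h hx)

/-- The number of points fixed by `H` (the mark of `H` on `X`). -/
noncomputable def fp (X : Type*) [MulAction Γ X] (H : Subgroup Γ) : ℕ := (Fix X H).ncard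

/-- The conjugate `g H g⁻¹`. -/
def cj (g : Γ) (H : Subgroup Γ) : Subgroup Γ := H.map (MulAut.conj g).toMonoidHom

theorem mem_cj {g x : Γ} {H : Subgroup Γ} : x ∈ cj g H ↔ g⁻¹ * x * g ∈ H := by
  constructor
  · rintro ⟨y, hy, rfl⟩
    have : g⁻¹ * (MulAut.conj g).toMonoidHom y * g = y := by
      show g⁻¹ * (g * y * g⁻¹) * g = y
      group
    rwa [this]
  · intro h
    refine ⟨g⁻¹ * x * g, h, ?_⟩
    show g * (g⁻¹ * x * g) * g⁻¹ = x
    group

theorem conj_mem_cj {g x : Γ} {H : Subgroup Γ} (hx : x ∈ H) : g * x * g⁻¹ ∈ cj g H :=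
  ⟨x, hx, rfl⟩

theorem cj_one (H : Subgroup Γ) : cj 1 H = H := by
  ext x; rw [mem_cj]; simp

theorem cj_mul (g h : Γ) (H : Subgroup Γ) : cj (g * h) H = cj g (cj h H) := by
  ext x
  rw [mem_cj, mem_cj, mem_cj]
  have : (g * h)⁻¹ * x * (g * h) = h⁻¹ * (g⁻¹ * x * g) * h := by group
  rw [this]

theorem cj_inv_cj (g : Γ) (H : Subgroup Γ) : cj g⁻¹ (cj g H) = H := by
  rw [← cj_mul, inv_mul_cancel, cj_one]

theorem cj_cj_inv (g : Γ) (H : Subgroup Γ) : cj g (cj g⁻¹ H) = H := by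
  rw [← cj_mul, mul_inv_cancel, cj_one]

theorem cj_mono (g : Γ) {H K : Subgroup Γ} (h : H ≤ K) : cj g H ≤ cj g K := Subgroup.map_mono h

theorem cj_le_iff {g : Γ} {H K : Subgroup Γ} : cj g H ≤ K ↔ H ≤ cj g⁻¹ K := by
  constructor
  · intro h
    have := cj_mono g⁻¹ h
    rwa [cj_inv_cj] at this
  · intro h
    have := cj_mono g h
    rwa [cj_cj_inv] at this

theorem card_cj (g : Γ) (H : Subgroup Γ) : Nat.card (cj g H) = Nat.card H :=
  Subgroup.card_map_of_injective (MulAut.conj g).injective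

theorem stabilizer_smul {X : Type*} [MulAction Γ X] (g : Γ) (z : X) :
    stabilizer Γ (g • z) = cj g (stabilizer Γ z) := by
  ext x
  rw [mem_cj, mem_stabilizer_iff, mem_stabilizer_iff]
  constructor
  · intro h
    rw [mul_smul, mul_smul, h, inv_smul_smul]
  · intro h
    have : x • g • z = g • ((g⁻¹ * x * g) • z) := by
      rw [mul_smul, mul_smul, smul_inv_smul]
    rw [this, h]

theorem smul_mem_Fix_cj {X : Type*} [MulAction Γ X] {H : Subgroup Γ} {z : X} (g : Γ)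
    (hz : z ∈ Fix X H) : g • z ∈ Fix X (cj g H) := by
  rw [mem_Fix_iff_le] at hz ⊢
  rw [stabilizer_smul]
  exact cj_mono g hz

theorem fp_cj (X : Type*) [MulAction Γ X] (g : Γ) (H : Subgroup Γ) : fp X (cj g H) = fp X H := by
  unfold fp
  symm
  refine Set.ncard_congr (fun z _ => g • z) (fun z hz => smul_mem_Fix_cj g hz)
    (fun a b _ _ h => smul_left_cancel g h) (fun z hz => ?_)
  refine ⟨g⁻¹ • z, ?_, smul_inv_smul g z⟩
  have := smul_mem_Fix_cj g⁻¹ hz
  rwa [cj_inv_cj] at this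

/-! ### Coset spaces -/

theorem mk_mem_Fix_quotient {D H : Subgroup Γ} {g : Γ} :
    ((g : Γ ⧸ D) ∈ Fix (Γ ⧸ D) H) ↔ cj g⁻¹ H ≤ D := by
  constructor
  · intro h x hx
    rw [mem_cj, inv_inv] at hx
    have h1 := h _ (H.inv_mem hx)
    have h2 : ((g * x * g⁻¹)⁻¹ • (g : Γ ⧸ D)) = (((g * x * g⁻¹)⁻¹ * g : Γ) : Γ ⧸ D) := rfl
    rw [h2, QuotientGroup.eq] at h1
    have e : ((g * x * g⁻¹)⁻¹ * g)⁻¹ * g = x := by group
    rwa [e] at h1
  · intro h x hx
    have h2 : (x • (g : Γ ⧸ D)) = ((x * g : Γ) : Γ ⧸ D) := rfl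
    rw [h2, QuotientGroup.eq]
    have hx' : g⁻¹ * x⁻¹ * g⁻¹⁻¹ ∈ cj g⁻¹ H := conj_mem_cj (H.inv_mem hx)
    have e : (x * g)⁻¹ * g = g⁻¹ * x⁻¹ * g⁻¹⁻¹ := by group
    rw [e]
    exact h hx'

variable [Finite Γ]

theorem fp_quotient_eq_zero_of_card_lt {D H : Subgroup Γ} (h : Nat.card D < Nat.card H) :
    fp (Γ ⧸ D) H = 0 := by
  unfold fp
  rw [Set.ncard_eq_zero, Set.eq_empty_iff_forall_notMem]
  intro z hz
  induction z using QuotientGroup.induction_on with
  | H g =>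
    rw [mk_mem_Fix_quotient] at hz
    have := Subgroup.card_le_of_le hz
    rw [card_cj] at this
    omega

theorem fp_quotient_eq_zero_of_not_conj {D H : Subgroup Γ} (hc : Nat.card H = Nat.card D)
    (h : ¬ ∃ g : Γ, H = cj g D) : fp (Γ ⧸ D) H = 0 := by
  unfold fp
  rw [Set.ncard_eq_zero, Set.eq_empty_iff_forall_notMem]
  intro z hz
  induction z using QuotientGroup.induction_on with
  | H g =>
    rw [mk_mem_Fix_quotient] at hz
    have heq : cj g⁻¹ H = D := Subgroup.eq_of_le_of_card_ge hz (by rw [card_cj, hc])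
    apply h
    refine ⟨g, ?_⟩
    rw [← heq, cj_cj_inv]

/-- The number of fixed points of `D` on `Γ / D`, that is `|N(D) : D|`. -/
noncomputable def w (D : Subgroup Γ) : ℕ := fp (Γ ⧸ D) D

theorem w_pos (D : Subgroup Γ) : 0 < w D := by
  unfold w fp
  rw [Set.ncard_pos]
  refine ⟨((1 : Γ) : Γ ⧸ D), ?_⟩
  rw [mk_mem_Fix_quotient, inv_one, cj_one]

theorem Fix_eq_fixedPoints (D : Subgroup Γ) :
    Fix (Γ ⧸ D) D = MulAction.fixedPoints D (Γ ⧸ D) := by
  ext z
  rw [mem_Fix, MulAction.mem_fixedPoints]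
  constructor
  · intro h m
    exact h m m.2
  · intro h x hx
    exact h ⟨x, hx⟩

theorem w_eq (D : Subgroup Γ) :
    w D = Nat.card (Subgroup.normalizer (D : Set Γ) ⧸
      D.comap (Subgroup.normalizer (D : Set Γ)).subtype) := by
  unfold w fp
  rw [Fix_eq_fixedPoints, ← Nat.card_coe_set_eq]
  exact Nat.card_congr (Sylow.fixedPointsMulLeftCosetsEquivQuotient D)

theorem w_mul_card (D : Subgroup Γ) :
    w D * Nat.card D = Nat.card (Subgroup.normalizer (D : Set Γ)) := by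
  rw [w_eq]
  have h1 := (D.comap (Subgroup.normalizer (D : Set Γ)).subtype).card_mul_index
  have h2 : Nat.card (D.comap (Subgroup.normalizer (D : Set Γ)).subtype) = Nat.card D :=
    Nat.card_congr (Subgroup.subgroupOfEquivOfLe Subgroup.le_normalizer).toEquiv
  rw [← h1, h2, mul_comm]
  rfl

theorem w_dvd_card (D : Subgroup Γ) : w D ∣ Nat.card Γ := by
  have h1 := w_mul_card D
  have h2 : Nat.card (Subgroup.normalizer (D : Set Γ)) ∣ Nat.card Γ := Subgroup.card_subgroup_dvd_card _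
  exact Dvd.dvd.trans ⟨_, h1.symm⟩ h2

theorem w_cj (g : Γ) (D : Subgroup Γ) : w (cj g D) = w D := by
  have h1 := w_mul_card D
  have h2 := w_mul_card (cj g D)
  have h3 : Subgroup.normalizer ((cj g D : Subgroup Γ) : Set Γ) =
      cj g (Subgroup.normalizer (D : Set Γ)) := by
    ext x
    rw [mem_cj, Subgroup.mem_normalizer_iff, Subgroup.mem_normalizer_iff]
    constructor
    · intro h y
      have := h (g * y * g⁻¹)
      rw [mem_cj, mem_cj] at this
      have e1 : g⁻¹ * (g * y * g⁻¹) * g = y := by group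
      have e2 : g⁻¹ * (x * (g * y * g⁻¹) * x⁻¹) * g = g⁻¹ * x * g * y * (g⁻¹ * x * g)⁻¹ := by group
      rw [e1, e2] at this
      exact this
    · intro h y
      rw [mem_cj, mem_cj]
      have := h (g⁻¹ * y * g)
      have e2 : g⁻¹ * x * g * (g⁻¹ * y * g) * (g⁻¹ * x * g)⁻¹ = g⁻¹ * (x * y * x⁻¹) * g := by group
      rw [e2] at this
      exact this
  rw [h3, card_cj, card_cj] at h2
  have hpos : 0 < Nat.card D := Nat.card_pos
  exact Nat.eq_of_mul_eq_mul_right hpos (h2.trans h1.symm)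

theorem fp_quotient_cj (g : Γ) (D : Subgroup Γ) : fp (Γ ⧸ D) (cj g D) = w D := by
  rw [fp_cj]; rfl

end Cfsg.Agent.Lib.H25.GSet
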