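import Cfsg.Agent.Lib.H25.GSetList

set_option autoImplicit false

/-!
Finite `Γ`-sets (helper25): comparison of marks along two homomorphisms by inclusion–exclusion, and
the resulting congruence for marks.
-/

namespace Cfsg.Agent.Lib.H25.GSet

open MulAction

variable {Γ : Type*} [Group Γ] {Γ' : Type*} [Group Γ']

/-- The points fixed by the image of `E` under `j`. -/
def FixJ (X : Type*) [MulAction Γ X] (j : Γ' →* Γ) (E : Subgroup Γ') : Set X :=
  {z | ∀ e ∈ E, j e • z = z}

theorem FixJ_eq_Fix (X : Type*) [MulAction Γ X] (j : Γ' →* Γ) (E : Subgroup Γ') :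
    FixJ X j E = Fix X (E.map j) := by
  ext z
  constructor
  · rintro h _ ⟨e, he, rfl⟩
    exact h e he
  · intro h e he
    exact h _ ⟨e, he, rfl⟩

theorem mem_FixJ_iff_le {X : Type*} [MulAction Γ X] {j : Γ' →* Γ} {E : Subgroup Γ'} {z : X} :
    z ∈ FixJ X j E ↔ E ≤ (stabilizer Γ z).comap j :=
  ⟨fun h e he => mem_stabilizer_iff.2 (h e he), fun h e he => mem_stabilizer_iff.1 (h he)⟩

/-- The points fixed by `D'` (through `j`) and by some further element. -/
def NonFree (X : Type*) [MulAction Γ X] (j : Γ' →* Γ) (D' : Subgroup Γ') : Set X :=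
  {z | z ∈ FixJ X j D' ∧ ∃ k : Γ', k ∉ D' ∧ j k • z = z}

variable [Finite Γ']

theorem nonFree_eq_iUnion (X : Type*) [MulAction Γ X] (j : Γ' →* Γ) (D' : Subgroup Γ') :
    NonFree X j D' = ⋃ E ∈ {E : Subgroup Γ' | D' < E}, FixJ X j E := by
  ext z
  simp only [Set.mem_iUnion, Set.mem_setOf_eq, exists_prop]
  constructor
  · rintro ⟨hz, k, hk, hkz⟩
    refine ⟨(stabilizer Γ z).comap j, ?_, fun e he => mem_stabilizer_iff.1 he⟩
    refine lt_of_le_of_ne (mem_FixJ_iff_le.1 hz) ?_
    intro h
    apply hk
    rw [h]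
    exact mem_stabilizer_iff.2 hkz
  · rintro ⟨E, hE, hz⟩
    obtain ⟨k, hkE, hk⟩ := SetLike.exists_of_lt hE
    exact ⟨fun d hd => hz d (hE.le hd), k, hk, hz k hkE⟩

/-- **Comparison by inclusion–exclusion**: if the marks of all subgroups strictly containing `D'`
agree along `j₁` and `j₂`, then so do the numbers of points fixed by `D'` and a further element. -/
theorem lemmaK {X : Type*} [MulAction Γ X] [Finite X] (j₁ j₂ : Γ' →* Γ) (D' : Subgroup Γ')
    (h : ∀ E : Subgroup Γ', D' < E → fp X (E.map j₁) = fp X (E.map j₂)) :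
    (NonFree X j₁ D').ncard = (NonFree X j₂ D').ncard := by
  classical
  haveI : Fintype X := Fintype.ofFinite X
  haveI : Fintype (Subgroup Γ') := Fintype.ofFinite _
  let s : Finset (Subgroup Γ') := Finset.univ.filter (fun E => D' < E)
  have key : ∀ j : Γ' →* Γ, ((NonFree X j D').ncard : ℤ) =
      ∑ t : s.powerset.filter (·.Nonempty),
        (-1 : ℤ) ^ (t.1.card + 1) * (fp X ((t.1.sup id).map j) : ℤ) := by
    intro j
    let S : Subgroup Γ' → Finset X := fun E => (FixJ X j E).toFinset
    have h1 : (NonFree X j D').ncard = (s.biUnion S).card := by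
      rw [Set.ncard_eq_toFinset_card' (NonFree X j D')]
      congr 1
      ext z
      simp only [Set.mem_toFinset, Finset.mem_biUnion, S, s, Finset.mem_filter, Finset.mem_univ,
        true_and]
      rw [nonFree_eq_iUnion]
      simp only [Set.mem_iUnion, Set.mem_setOf_eq, exists_prop]
    rw [h1, Finset.inclusion_exclusion_card_biUnion]
    refine Finset.sum_congr rfl (fun t _ => ?_)
    congr 2
    have htne : t.1.Nonempty := (Finset.mem_filter.1 t.2).2
    have h2 : t.1.inf' htne S = (FixJ X j (t.1.sup id)).toFinset := by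
      ext z
      simp only [Finset.mem_inf', Set.mem_toFinset, S]
      constructor
      · intro hz
        rw [mem_FixJ_iff_le, Finset.sup_le_iff]
        intro E hE
        exact mem_FixJ_iff_le.1 (hz E hE)
      · intro hz E hE
        rw [mem_FixJ_iff_le] at hz ⊢
        exact (Finset.le_sup (f := id) hE).trans hz
    rw [h2]
    unfold fp
    rw [← FixJ_eq_Fix, Set.ncard_eq_toFinset_card' (FixJ X j (t.1.sup id))]
  have h2 : ((NonFree X j₁ D').ncard : ℤ) = ((NonFree X j₂ D').ncard : ℤ) := by
    rw [key j₁, key j₂]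
    refine Finset.sum_congr rfl (fun t _ => ?_)
    congr 2
    have htne : t.1.Nonempty := (Finset.mem_filter.1 t.2).2
    have hts : t.1 ⊆ s := Finset.mem_powerset.1 (Finset.mem_filter.1 t.2).1
    obtain ⟨E, hE⟩ := htne
    have hDE : D' < E := (Finset.mem_filter.1 (hts hE)).2
    have : D' < t.1.sup id := lt_of_lt_of_le hDE (Finset.le_sup (f := id) hE)
    exact_mod_cast h _ this
  exact_mod_cast h2

/-- The points whose stabilizer (through `j`) is exactly `D'`. -/
def FreePart (X : Type*) [MulAction Γ X] (j : Γ' →* Γ) (D' : Subgroup Γ') : Set X :=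
  {z | ∀ k : Γ', j k • z = z ↔ k ∈ D'}

theorem FixJ_eq_union (X : Type*) [MulAction Γ X] (j : Γ' →* Γ) (D' : Subgroup Γ') :
    FixJ X j D' = NonFree X j D' ∪ FreePart X j D' := by
  ext z
  constructor
  · intro hz
    by_cases h : ∃ k : Γ', k ∉ D' ∧ j k • z = z
    · exact Or.inl ⟨hz, h⟩
    · refine Or.inr (fun k => ⟨fun hk => ?_, fun hk => hz k hk⟩)
      by_contra hkD
      exact h ⟨k, hkD, hk⟩
  · rintro (hz | hz)
    · exact hz.1
    · exact fun d hd => (hz d).2 hd

theorem disjoint_nonFree_freePart (X : Type*) [MulAction Γ X] (j : Γ' →* Γ) (D' : Subgroup Γ') :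
    Disjoint (NonFree X j D') (FreePart X j D') := by
  rw [Set.disjoint_left]
  rintro z ⟨-, k, hk, hkz⟩ hz
  exact hk ((hz k).1 hkz)

/-- The free part is a union of orbits of size `|Γ' : D'|` when `D'` is normal. -/
theorem index_dvd_freePart {X : Type*} [MulAction Γ X] [Finite X] (j : Γ' →* Γ)
    (D' : Subgroup Γ') [hn : D'.Normal] : D'.index ∣ (FreePart X j D').ncard := by
  classical
  letI : MulAction Γ' X := MulAction.compHom X j
  have hsmul : ∀ (k : Γ') (z : X), k • z = j k • z := fun _ _ => rfl
  have hstab : ∀ z ∈ FreePart X j D', stabilizer Γ' z = D' := by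
    intro z hz
    ext k
    rw [mem_stabilizer_iff, hsmul]
    exact hz k
  have hinv : ∀ z ∈ FreePart X j D', ∀ k : Γ', k • z ∈ FreePart X j D' := by
    intro z hz k l
    have h1 : stabilizer Γ' (k • z) = D' := by
      rw [stabilizer_smul, hstab z hz]
      ext x
      rw [mem_cj]
      constructor
      · intro h
        have := hn.conj_mem _ h k
        have e : k * (k⁻¹ * x * k) * k⁻¹ = x := by group
        rwa [e] at this
      · intro h
        have := hn.conj_mem _ h k⁻¹
        rwa [inv_inv] at this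
    rw [← hsmul, ← mem_stabilizer_iff, h1]
  -- induction on invariant subsets
  have key : ∀ n : ℕ, ∀ Y : Set X, Y ⊆ FreePart X j D' → (∀ z ∈ Y, ∀ k : Γ', k • z ∈ Y) →
      Y.ncard = n → D'.index ∣ n := by
    intro n
    induction n using Nat.strong_induction_on with
    | _ n ih =>
      intro Y hY hYinv hn'
      by_cases hne : Y = ∅
      · subst hne
        rw [Set.ncard_empty] at hn'
        rw [← hn']
        exact dvd_zero _
      · obtain ⟨z, hz⟩ := Set.nonempty_iff_ne_empty.2 hne
        have hO : orbit Γ' z ⊆ Y := by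
          rintro _ ⟨k, rfl⟩
          exact hYinv z hz k
        have hOcard : (orbit Γ' z).ncard = D'.index := by
          rw [← Nat.card_coe_set_eq, Nat.card_congr (orbitEquivQuotientStabilizer Γ' z),
            hstab z (hY hz)]
          rfl
        have hdiff : (Y \ orbit Γ' z).ncard = n - D'.index := by
          rw [Set.ncard_diff hO (Set.toFinite _), hn', hOcard]
        have hlt : n - D'.index < n := by
          have h1 : 0 < D'.index := Nat.pos_of_ne_zero (Subgroup.index_ne_zero_of_finite)
          have h2 : D'.index ≤ n := by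
            rw [← hn', ← hOcard]
            exact Set.ncard_le_ncard hO (Set.toFinite _)
          omega
        have := ih _ hlt (Y \ orbit Γ' z) (Set.diff_subset.trans hY) ?_ hdiff
        · have h2 : D'.index ≤ n := by
            rw [← hn', ← hOcard]
            exact Set.ncard_le_ncard hO (Set.toFinite _)
          have h3 := Nat.dvd_add this (dvd_refl D'.index)
          rwa [Nat.sub_add_cancel h2] at h3
        · rintro y ⟨hy, hyO⟩ k
          refine ⟨hYinv y hy k, fun hk => hyO ?_⟩
          obtain ⟨l, (hl : l • z = k • y)⟩ := hk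
          exact ⟨k⁻¹ * l, by
            show (k⁻¹ * l) • z = y
            rw [mul_smul, hl, inv_smul_smul]⟩
  exact key _ _ (le_refl _) hinv rfl

/-- **The congruence for marks.** -/
theorem marks_congr {X : Type*} [MulAction Γ X] [Finite X] (j₁ j₂ : Γ' →* Γ)
    (D' : Subgroup Γ') [D'.Normal]
    (h : ∀ E : Subgroup Γ', D' < E → fp X (E.map j₁) = fp X (E.map j₂))
    (hfree : FreePart X j₁ D' = ∅) :
    fp X (D'.map j₁) ≡ fp X (D'.map j₂) [MOD D'.index] := by
  have e1 : fp X (D'.map j₁) = (NonFree X j₁ D').ncard := by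
    unfold fp
    rw [← FixJ_eq_Fix, FixJ_eq_union, hfree, Set.union_empty]
  have e2 : fp X (D'.map j₂) = (NonFree X j₂ D').ncard + (FreePart X j₂ D').ncard := by
    unfold fp
    rw [← FixJ_eq_Fix, FixJ_eq_union,
      Set.ncard_union_eq (disjoint_nonFree_freePart X j₂ D') (Set.toFinite _) (Set.toFinite _)]
  rw [e1, e2, lemmaK j₁ j₂ D' h]
  have h3 := index_dvd_freePart (X := X) j₂ D'
  have : (NonFree X j₂ D').ncard + (FreePart X j₂ D').ncard ≡ (NonFree X j₂ D').ncard + 0
      [MOD D'.index] := Nat.ModEq.add_left _ ((Nat.modEq_zero_iff_dvd).2 h3)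
  rw [add_zero] at this
  exact this.symm

end Cfsg.Agent.Lib.H25.GSet
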