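import Cfsg.Agent.Lib.H25.GSetBasic

set_option autoImplicit false

/-!
Finite `Γ`-sets (helper25): disjoint unions of coset spaces indexed by lists of subgroups.
-/

namespace Cfsg.Agent.Lib.H25.GSet

open MulAction

variable {Γ : Type*} [Group Γ]

theorem stabilizer_sigma_mk {ι : Type*} {A : ι → Type*} [∀ i, MulAction Γ (A i)] (i : ι)
    (a : A i) : stabilizer Γ (⟨i, a⟩ : Σ i, A i) = stabilizer Γ a := by
  ext x
  rw [mem_stabilizer_iff, mem_stabilizer_iff, Sigma.smul_mk]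
  constructor
  · intro h
    exact eq_of_heq (Sigma.mk.inj_iff.1 h).2
  · intro h
    rw [h]

theorem fp_sigma {ι : Type*} [Fintype ι] (A : ι → Type*) [∀ i, MulAction Γ (A i)]
    [∀ i, Finite (A i)] (H : Subgroup Γ) : fp (Σ i, A i) H = ∑ i, fp (A i) H := by
  unfold fp
  simp_rw [← Nat.card_coe_set_eq]
  rw [← Nat.card_sigma]
  refine Nat.card_congr ?_
  refine
    { toFun := fun z => ⟨z.1.1, ⟨z.1.2, ?_⟩⟩
      invFun := fun z => ⟨⟨z.1, z.2.1⟩, ?_⟩
      left_inv := fun z => rfl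
      right_inv := fun z => rfl }
  · have hz := z.2
    rw [mem_Fix_iff_le] at hz ⊢
    rwa [← stabilizer_sigma_mk z.1.1 z.1.2]
  · have hz := z.2.2
    rw [mem_Fix_iff_le] at hz ⊢
    rwa [stabilizer_sigma_mk]

/-- The `Γ`-set that is the disjoint union of the coset spaces `Γ / D`, `D` in the list `L`. -/
abbrev XL (L : List (Subgroup Γ)) : Type _ := Σ i : Fin L.length, Γ ⧸ L.get i

/-- The marks of `XL L`, numerically. -/
noncomputable def fpL (L : List (Subgroup Γ)) (H : Subgroup Γ) : ℕ :=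
  (L.map (fun D => fp (Γ ⧸ D) H)).sum

theorem fpL_nil (H : Subgroup Γ) : fpL ([] : List (Subgroup Γ)) H = 0 := rfl

theorem fpL_append (L L' : List (Subgroup Γ)) (H : Subgroup Γ) :
    fpL (L ++ L') H = fpL L H + fpL L' H := by
  unfold fpL
  rw [List.map_append, List.sum_append]

theorem fpL_cons (D : Subgroup Γ) (L : List (Subgroup Γ)) (H : Subgroup Γ) :
    fpL (D :: L) H = fp (Γ ⧸ D) H + fpL L H := by
  unfold fpL
  rw [List.map_cons, List.sum_cons]

theorem fpL_cj (L : List (Subgroup Γ)) (g : Γ) (H : Subgroup Γ) : fpL L (cj g H) = fpL L H := by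
  unfold fpL
  congr 1
  apply List.map_congr_left
  intro D _
  exact fp_cj _ g H

variable [Finite Γ]

theorem fp_XL (L : List (Subgroup Γ)) (H : Subgroup Γ) : fp (XL L) H = fpL L H := by
  have h1 : fp (XL L) H = ∑ i : Fin L.length, fp (Γ ⧸ L.get i) H :=
    fp_sigma (fun i : Fin L.length => Γ ⧸ L.get i) H
  rw [h1]
  unfold fpL
  simp only [List.get_eq_getElem]
  exact Fin.sum_univ_fun_getElem L (fun D => fp (Γ ⧸ D) H)

theorem stabilizer_XL (L : List (Subgroup Γ)) (z : XL L) :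
    ∃ D ∈ L, ∃ g : Γ, stabilizer Γ z = cj g D := by
  obtain ⟨i, a⟩ := z
  refine ⟨L.get i, List.get_mem L i, ?_⟩
  induction a using QuotientGroup.induction_on with
  | H g =>
    refine ⟨g, ?_⟩
    have h1 : stabilizer Γ (⟨i, (g : Γ ⧸ L.get i)⟩ : XL L) = stabilizer Γ (g : Γ ⧸ L.get i) :=
      stabilizer_sigma_mk (A := fun i : Fin L.length => Γ ⧸ L.get i) i _
    rw [h1]
    have h2 : (g : Γ ⧸ L.get i) = g • ((1 : Γ) : Γ ⧸ L.get i) := by
      show _ = ((g * 1 : Γ) : Γ ⧸ L.get i)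
      rw [mul_one]
    rw [h2, stabilizer_smul, MulAction.stabilizer_quotient]

theorem card_XL (L : List (Subgroup Γ)) :
    Nat.card (XL L) = (L.map (fun D => D.index)).sum := by
  have h1 : Nat.card (XL L) = ∑ i : Fin L.length, Nat.card (Γ ⧸ L.get i) := Nat.card_sigma
  rw [h1]
  simp only [List.get_eq_getElem]
  exact Fin.sum_univ_fun_getElem L (fun D => D.index)

/-- Every member of the list is the stabilizer of a point. -/
theorem exists_stabilizer_eq (L : List (Subgroup Γ)) {D : Subgroup Γ} (hD : D ∈ L) :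
    ∃ z : XL L, stabilizer Γ z = D := by
  obtain ⟨i, rfl⟩ := List.get_of_mem hD
  refine ⟨⟨i, ((1 : Γ) : Γ ⧸ L.get i)⟩, ?_⟩
  have h1 : stabilizer Γ (⟨i, ((1 : Γ) : Γ ⧸ L.get i)⟩ : XL L) =
      stabilizer Γ (((1 : Γ) : Γ ⧸ L.get i)) :=
    stabilizer_sigma_mk (A := fun i : Fin L.length => Γ ⧸ L.get i) i _
  rw [h1, MulAction.stabilizer_quotient]

/-- `fpL L H` vanishes unless `H` is contained in a conjugate of a member of `L`. -/
theorem fpL_eq_zero {L : List (Subgroup Γ)} {H : Subgroup Γ}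
    (h : ∀ D ∈ L, ∀ g : Γ, ¬ H ≤ cj g D) : fpL L H = 0 := by
  rw [← fp_XL]
  unfold fp
  rw [Set.ncard_eq_zero, Set.eq_empty_iff_forall_notMem]
  intro z hz
  obtain ⟨D, hD, g, hg⟩ := stabilizer_XL L z
  rw [mem_Fix_iff_le, hg] at hz
  exact h D hD g hz

theorem fpL_pos {L : List (Subgroup Γ)} {H : Subgroup Γ} (h : 0 < fpL L H) :
    ∃ D ∈ L, ∃ g : Γ, H ≤ cj g D := by
  by_contra hcon
  have hcon' : ∀ D ∈ L, ∀ g : Γ, ¬ H ≤ cj g D := fun D hD g hg => hcon ⟨D, hD, g, hg⟩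
  rw [fpL_eq_zero hcon'] at h
  exact lt_irrefl 0 h

theorem fpL_mono (L : List (Subgroup Γ)) {H K : Subgroup Γ} (h : H ≤ K) : fpL L K ≤ fpL L H := by
  rw [← fp_XL, ← fp_XL]
  exact Set.ncard_le_ncard (Fix_anti h) (Set.toFinite _)

end Cfsg.Agent.Lib.H25.GSet
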