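import Cfsg.Agent.Lib.H25.GSetIE

set_option autoImplicit false

/-!
Finite `Γ`-sets (helper25): the table of marks determines a finite `Γ`-set. Stated for two actions
of a group `Γ'` on invariant subsets of one `Γ`-set `X`, through two homomorphisms `Γ' → Γ`.
-/

namespace Cfsg.Agent.Lib.H25.GSet

open MulAction

variable {Γ : Type*} [Group Γ] {Γ' : Type*} [Group Γ'] {X : Type*} [MulAction Γ X]

/-- The stabilizer of `z` in `Γ'` through `j`. -/
def St (j : Γ' →* Γ) (z : X) : Subgroup Γ' := (stabilizer Γ z).comap j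

theorem mem_St {j : Γ' →* Γ} {z : X} {g : Γ'} : g ∈ St j z ↔ j g • z = z := by
  unfold St
  rw [Subgroup.mem_comap, mem_stabilizer_iff]

theorem smul_eq_smul_iff (j : Γ' →* Γ) (z : X) (g g' : Γ') :
    j g • z = j g' • z ↔ g⁻¹ * g' ∈ St j z := by
  rw [mem_St, map_mul, map_inv, mul_smul]
  constructor
  · intro h
    rw [← h, inv_smul_smul]
  · intro h
    have := congrArg (fun t => j g • t) h
    simp only [smul_inv_smul] at this
    exact this.symm

theorem St_smul (j : Γ' →* Γ) (z : X) (g : Γ') : St j (j g • z) = cj g (St j z) := by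
  ext x
  rw [mem_cj, mem_St, mem_St, map_mul, map_mul, map_inv, mul_smul, mul_smul]
  constructor
  · intro h
    rw [h, inv_smul_smul]
  · intro h
    have := congrArg (fun t => j g • t) h
    simp only [smul_inv_smul] at this
    exact this

theorem mem_FixJ_iff_le_St {j : Γ' →* Γ} {E : Subgroup Γ'} {z : X} :
    z ∈ FixJ X j E ↔ E ≤ St j z := mem_FixJ_iff_le

/-- The orbit of `z` through `j`. -/
def Orb (j : Γ' →* Γ) (z : X) : Set X := {y | ∃ g : Γ', j g • z = y}

theorem smul_mem_Orb {j : Γ' →* Γ} {z y : X} (hy : y ∈ Orb j z) (g : Γ') : j g • y ∈ Orb j z := by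
  obtain ⟨h, rfl⟩ := hy
  exact ⟨g * h, by rw [map_mul, mul_smul]⟩

theorem mem_Orb_of_smul_mem {j : Γ' →* Γ} {z y : X} {g : Γ'} (hy : j g • y ∈ Orb j z) :
    y ∈ Orb j z := by
  have := smul_mem_Orb hy g⁻¹
  rwa [map_inv, inv_smul_smul] at this

variable [Finite Γ'] [Finite X]

/-- **The marks determine the set**: two invariant subsets with the same marks (through `j₁`, `j₂`)
are isomorphic. -/
theorem marks (j₁ j₂ : Γ' →* Γ) :
    ∀ (n : ℕ) (A B : Set X), A.ncard = n → (∀ z ∈ A, ∀ g : Γ', j₁ g • z ∈ A) →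
      (∀ z ∈ B, ∀ g : Γ', j₂ g • z ∈ B) →
      (∀ E : Subgroup Γ', (A ∩ FixJ X j₁ E).ncard = (B ∩ FixJ X j₂ E).ncard) →
      ∃ f : X → X, Set.BijOn f A B ∧ ∀ z ∈ A, ∀ g : Γ', f (j₁ g • z) = j₂ g • f z := by
  classical
  intro n
  induction n using Nat.strong_induction_on with
  | _ n ih =>
    intro A B hAn hA hB hmarks
    by_cases hne : A = ∅
    · subst hne
      have hB0 : B = ∅ := by
        have h := hmarks ⊥
        have e1 : B ∩ FixJ X j₂ ⊥ = B := by
          apply Set.inter_eq_left.2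
          intro z _ e he
          rw [Subgroup.mem_bot] at he
          rw [he, map_one, one_smul]
        rw [Set.empty_inter, Set.ncard_empty, e1] at h
        exact (Set.ncard_eq_zero (Set.toFinite _)).1 h.symm
      subst hB0
      exact ⟨id, Set.bijOn_empty_iff_left.2 rfl, fun z hz => absurd hz (Set.notMem_empty z)⟩
    · have hAne : A.Nonempty := Set.nonempty_iff_ne_empty.2 hne
      obtain ⟨z₀, hz₀, hmax⟩ := Set.exists_max_image A (fun z => Nat.card (St j₁ z))
        (Set.toFinite A) hAne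
      set H := St j₁ z₀ with hH
      -- a point of `B` with the same stabilizer
      have h1 : (A ∩ FixJ X j₁ H).Nonempty := ⟨z₀, hz₀, mem_FixJ_iff_le_St.2 le_rfl⟩
      have h2 : (B ∩ FixJ X j₂ H).Nonempty := by
        rw [← Set.ncard_pos (Set.toFinite _), ← hmarks H, Set.ncard_pos (Set.toFinite _)]
        exact h1
      obtain ⟨y₀, hy₀, hy₀H⟩ := h2
      have hHle : H ≤ St j₂ y₀ := mem_FixJ_iff_le_St.1 hy₀H
      have hHeq : St j₂ y₀ = H := by
        by_contra hcon
        have hlt : H < St j₂ y₀ := lt_of_le_of_ne hHle (Ne.symm hcon)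
        have h3 : (B ∩ FixJ X j₂ (St j₂ y₀)).Nonempty :=
          ⟨y₀, hy₀, mem_FixJ_iff_le_St.2 le_rfl⟩
        have h4 : (A ∩ FixJ X j₁ (St j₂ y₀)).Nonempty := by
          rw [← Set.ncard_pos (Set.toFinite _), hmarks (St j₂ y₀),
            Set.ncard_pos (Set.toFinite _)]
          exact h3
        obtain ⟨z', hz', hz'F⟩ := h4
        have h5 : St j₂ y₀ ≤ St j₁ z' := mem_FixJ_iff_le_St.1 hz'F
        have h6 := hmax z' hz'
        have h7 : Nat.card H < Nat.card (St j₂ y₀) := by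
          rcases lt_or_eq_of_le (Subgroup.card_le_of_le hlt.le) with h | h
          · exact h
          · exact absurd (Subgroup.eq_of_le_of_card_ge hlt.le h.ge) hlt.ne
        have h8 := Subgroup.card_le_of_le h5
        have h6' : Nat.card (St j₁ z') ≤ Nat.card H := h6
        omega
      -- the orbits
      have hO₁A : Orb j₁ z₀ ⊆ A := by
        rintro _ ⟨g, rfl⟩
        exact hA z₀ hz₀ g
      have hO₂B : Orb j₂ y₀ ⊆ B := by
        rintro _ ⟨g, rfl⟩
        exact hB y₀ hy₀ g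
      have hiff : ∀ g g' : Γ', j₁ g • z₀ = j₁ g' • z₀ ↔ j₂ g • y₀ = j₂ g' • y₀ := by
        intro g g'
        rw [smul_eq_smul_iff, smul_eq_smul_iff, hHeq]
      -- the map on the orbit
      let f₀ : X → X := fun z => if h : ∃ g : Γ', j₁ g • z₀ = z then j₂ (Classical.choose h) • y₀
        else z
      have hf₀ : ∀ g : Γ', f₀ (j₁ g • z₀) = j₂ g • y₀ := by
        intro g
        have h : ∃ g' : Γ', j₁ g' • z₀ = j₁ g • z₀ := ⟨g, rfl⟩
        show (if h : ∃ g' : Γ', j₁ g' • z₀ = j₁ g • z₀ then j₂ (Classical.choose h) • y₀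
          else j₁ g • z₀) = _
        rw [dif_pos h]
        exact (hiff _ _).1 (Classical.choose_spec h)
      have hf₀bij : Set.BijOn f₀ (Orb j₁ z₀) (Orb j₂ y₀) := by
        refine ⟨?_, ?_, ?_⟩
        · rintro _ ⟨g, rfl⟩
          rw [hf₀]
          exact ⟨g, rfl⟩
        · rintro _ ⟨g, rfl⟩ _ ⟨g', rfl⟩ h
          rw [hf₀, hf₀] at h
          exact (hiff g g').2 h
        · rintro _ ⟨g, rfl⟩
          exact ⟨j₁ g • z₀, ⟨g, rfl⟩, hf₀ g⟩
      -- marks of the orbits agree
      have hOmarks : ∀ E : Subgroup Γ',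
          (Orb j₁ z₀ ∩ FixJ X j₁ E).ncard = (Orb j₂ y₀ ∩ FixJ X j₂ E).ncard := by
        intro E
        refine Set.ncard_congr (fun z _ => f₀ z) ?_ ?_ ?_
        · rintro _ ⟨⟨g, rfl⟩, hz⟩
          rw [hf₀]
          refine ⟨⟨g, rfl⟩, ?_⟩
          rw [mem_FixJ_iff_le_St, St_smul] at hz ⊢
          rwa [hHeq]
        · rintro a b ⟨ha, -⟩ ⟨hb, -⟩ h
          exact hf₀bij.injOn ha hb h
        · rintro _ ⟨⟨g, rfl⟩, hy⟩
          refine ⟨j₁ g • z₀, ⟨⟨g, rfl⟩, ?_⟩, hf₀ g⟩
          rw [mem_FixJ_iff_le_St, St_smul] at hy ⊢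
          rwa [hHeq] at hy
      -- the complements
      have hA' : ∀ z ∈ A \ Orb j₁ z₀, ∀ g : Γ', j₁ g • z ∈ A \ Orb j₁ z₀ := by
        rintro z ⟨hz, hzO⟩ g
        exact ⟨hA z hz g, fun h => hzO (mem_Orb_of_smul_mem h)⟩
      have hB' : ∀ z ∈ B \ Orb j₂ y₀, ∀ g : Γ', j₂ g • z ∈ B \ Orb j₂ y₀ := by
        rintro z ⟨hz, hzO⟩ g
        exact ⟨hB z hz g, fun h => hzO (mem_Orb_of_smul_mem h)⟩
      have hmarks' : ∀ E : Subgroup Γ', ((A \ Orb j₁ z₀) ∩ FixJ X j₁ E).ncard =
          ((B \ Orb j₂ y₀) ∩ FixJ X j₂ E).ncard := by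
        intro E
        have e1 : (A \ Orb j₁ z₀) ∩ FixJ X j₁ E =
            (A ∩ FixJ X j₁ E) \ (Orb j₁ z₀ ∩ FixJ X j₁ E) := by
          ext z
          simp only [Set.mem_inter_iff, Set.mem_diff]
          tauto
        have e2 : (B \ Orb j₂ y₀) ∩ FixJ X j₂ E =
            (B ∩ FixJ X j₂ E) \ (Orb j₂ y₀ ∩ FixJ X j₂ E) := by
          ext z
          simp only [Set.mem_inter_iff, Set.mem_diff]
          tauto
        rw [e1, e2, Set.ncard_diff (Set.inter_subset_inter_left _ hO₁A) (Set.toFinite _),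
          Set.ncard_diff (Set.inter_subset_inter_left _ hO₂B) (Set.toFinite _), hmarks E,
          hOmarks E]
      have hlt : (A \ Orb j₁ z₀).ncard < n := by
        rw [← hAn]
        apply Set.ncard_lt_ncard _ (Set.toFinite A)
        refine ⟨Set.diff_subset, fun h => ?_⟩
        have : z₀ ∈ A \ Orb j₁ z₀ := h hz₀
        exact this.2 ⟨1, by rw [map_one, one_smul]⟩
      obtain ⟨f', hf'bij, hf'eq⟩ := ih _ hlt (A \ Orb j₁ z₀) (B \ Orb j₂ y₀) rfl hA' hB' hmarks'
      -- glue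
      refine ⟨fun z => if z ∈ Orb j₁ z₀ then f₀ z else f' z, ⟨?_, ?_, ?_⟩, ?_⟩
      · intro z hz
        by_cases hzO : z ∈ Orb j₁ z₀
        · simp only [hzO, if_true]
          exact hO₂B (hf₀bij.mapsTo hzO)
        · simp only [hzO, if_false]
          exact (hf'bij.mapsTo ⟨hz, hzO⟩).1
      · intro a ha b hb hab
        by_cases haO : a ∈ Orb j₁ z₀ <;> by_cases hbO : b ∈ Orb j₁ z₀
        · simp only [haO, hbO, if_true] at hab
          exact hf₀bij.injOn haO hbO hab
        · simp only [haO, hbO, if_true, if_false] at hab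
          have h1 := hf₀bij.mapsTo haO
          have h2 := (hf'bij.mapsTo ⟨hb, hbO⟩).2
          rw [hab] at h1
          exact absurd h1 h2
        · simp only [haO, hbO, if_true, if_false] at hab
          have h1 := hf₀bij.mapsTo hbO
          have h2 := (hf'bij.mapsTo ⟨ha, haO⟩).2
          rw [← hab] at h1
          exact absurd h1 h2
        · simp only [haO, hbO, if_false] at hab
          exact hf'bij.injOn ⟨ha, haO⟩ ⟨hb, hbO⟩ hab
      · intro y hy
        by_cases hyO : y ∈ Orb j₂ y₀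
        · obtain ⟨z, hz, rfl⟩ := hf₀bij.surjOn hyO
          exact ⟨z, hO₁A hz, by simp only [hz, if_true]⟩
        · obtain ⟨z, hz, rfl⟩ := hf'bij.surjOn ⟨hy, hyO⟩
          exact ⟨z, hz.1, by simp only [hz.2, if_false]⟩
      · intro z hz g
        by_cases hzO : z ∈ Orb j₁ z₀
        · have hgO : j₁ g • z ∈ Orb j₁ z₀ := smul_mem_Orb hzO g
          simp only [hzO, hgO, if_true]
          obtain ⟨h, rfl⟩ := hzO
          rw [← mul_smul, ← map_mul, hf₀, hf₀, map_mul, mul_smul]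
        · have hgO : j₁ g • z ∉ Orb j₁ z₀ := fun h => hzO (mem_Orb_of_smul_mem h)
          simp only [hzO, hgO, if_false]
          exact hf'eq z ⟨hz, hzO⟩ g

/-- The marks theorem for the whole set, as an equivalence. -/
theorem marks_equiv (j₁ j₂ : Γ' →* Γ)
    (h : ∀ E : Subgroup Γ', fp X (E.map j₁) = fp X (E.map j₂)) :
    ∃ e : X ≃ X, ∀ (g : Γ') (z : X), e (j₁ g • z) = j₂ g • e z := by
  obtain ⟨f, hbij, hf⟩ := marks (X := X) j₁ j₂ _ Set.univ Set.univ rfl (fun _ _ _ => Set.mem_univ _)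
    (fun _ _ _ => Set.mem_univ _) (fun E => by
      rw [Set.univ_inter, Set.univ_inter, FixJ_eq_Fix, FixJ_eq_Fix]
      exact h E)
  have hb : Function.Bijective f :=
    ⟨fun a b hab => hbij.injOn (Set.mem_univ a) (Set.mem_univ b) hab,
     fun y => by
      obtain ⟨z, -, hz⟩ := hbij.surjOn (Set.mem_univ y)
      exact ⟨z, hz⟩⟩
  exact ⟨Equiv.ofBijective f hb, fun g z => hf z (Set.mem_univ z) g⟩

end Cfsg.Agent.Lib.H25.GSet
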