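import Mathlib
import Cfsg.Prelude.Def_Transfer
import Cfsg.Agent.Lib.H1.PGroupBasic

/-!
# S5233 piece AUT (helper25): automorphisms of `P` (`Φ(P) = P'` of order `p`, `p` odd, `B` elementary
abelian of index `p` containing all elements of order `p`) fix the commutators `[x, b]`.
-/

set_option autoImplicit false

namespace Cfsg.Agent.Lib.H25.GXS

open scoped commutatorElement

section class2

variable {Q : Type*} [Group Q]

theorem gxs_comm_mul_left (hc : ∀ x y : Q, ⁅x, y⁆ ∈ Subgroup.center Q) (a b c : Q) :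
    ⁅a * b, c⁆ = ⁅a, c⁆ * ⁅b, c⁆ := by
  rw [commutatorElement_mul_left_eq_conj_mul]
  have h1 : a * ⁅b, c⁆ * a⁻¹ = ⁅b, c⁆ := by
    rw [(Subgroup.mem_center_iff.mp (hc b c)) a, mul_inv_cancel_right]
  rw [h1]
  exact ((Subgroup.mem_center_iff.mp (hc b c)) ⁅a, c⁆).symm

theorem gxs_comm_pow_left (hc : ∀ x y : Q, ⁅x, y⁆ ∈ Subgroup.center Q) (a c : Q) (n : ℕ) :
    ⁅a ^ n, c⁆ = ⁅a, c⁆ ^ n := by
  induction n with
  | zero => simp
  | succ n ih => rw [pow_succ, gxs_comm_mul_left hc, ih, pow_succ]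

/-- `vⁿ u = [v,u]ⁿ u vⁿ` when `[v, u]` is central. -/
theorem gxs_pow_mul_swap (hc : ∀ x y : Q, ⁅x, y⁆ ∈ Subgroup.center Q) (u v : Q) (n : ℕ) :
    v ^ n * u = ⁅v, u⁆ ^ n * (u * v ^ n) := by
  have hcen : ∀ g : Q, g * ⁅v, u⁆ = ⁅v, u⁆ * g := fun g => Subgroup.mem_center_iff.mp (hc v u) g
  have h1 : v * u = ⁅v, u⁆ * (u * v) := by
    rw [commutatorElement_def]; group
  induction n with
  | zero => simp
  | succ n ih =>
    calc v ^ (n + 1) * u = v ^ n * (v * u) := by rw [pow_succ, mul_assoc]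
      _ = v ^ n * (⁅v, u⁆ * (u * v)) := by rw [h1]
      _ = ⁅v, u⁆ * (v ^ n * u) * v := by
        rw [← mul_assoc (v ^ n), hcen (v ^ n)]; simp only [mul_assoc]
      _ = ⁅v, u⁆ * (⁅v, u⁆ ^ n * (u * v ^ n)) * v := by rw [ih]
      _ = ⁅v, u⁆ ^ (n + 1) * (u * v ^ (n + 1)) := by
        rw [pow_succ' ⁅v, u⁆ n, pow_succ v n]; simp only [mul_assoc]

/-- `(u v)ⁿ = uⁿ vⁿ [v,u]^{n choose 2}` in a group of class at most two. -/
theorem gxs_mul_pow (hc : ∀ x y : Q, ⁅x, y⁆ ∈ Subgroup.center Q) (u v : Q) (n : ℕ) :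
    (u * v) ^ n = u ^ n * v ^ n * ⁅v, u⁆ ^ (n.choose 2) := by
  have hcen : ∀ (k : ℕ) (g : Q), g * ⁅v, u⁆ ^ k = ⁅v, u⁆ ^ k * g := fun k g =>
    Subgroup.mem_center_iff.mp (Subgroup.pow_mem _ (hc v u) k) g
  induction n with
  | zero => simp
  | succ n ih =>
    have hch : (n + 1).choose 2 = n + n.choose 2 := by
      rw [Nat.choose_succ_succ' n 1, Nat.choose_one_right]
    calc (u * v) ^ (n + 1) = (u * v) ^ n * (u * v) := pow_succ _ _
      _ = u ^ n * v ^ n * ⁅v, u⁆ ^ (n.choose 2) * (u * v) := by rw [ih]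
      _ = ⁅v, u⁆ ^ (n.choose 2) * (u ^ n * (v ^ n * u) * v) := by
        rw [hcen (n.choose 2) (u ^ n * v ^ n)]; simp only [mul_assoc]
      _ = ⁅v, u⁆ ^ (n.choose 2) * (u ^ n * (⁅v, u⁆ ^ n * (u * v ^ n)) * v) := by
        rw [gxs_pow_mul_swap hc u v n]
      _ = ⁅v, u⁆ ^ (n.choose 2) * (⁅v, u⁆ ^ n * (u ^ n * (u * v ^ n)) * v) := by
        rw [← mul_assoc (u ^ n) (⁅v, u⁆ ^ n), hcen n (u ^ n)]; simp only [mul_assoc]
      _ = u ^ (n + 1) * v ^ (n + 1) * ⁅v, u⁆ ^ ((n + 1).choose 2) := by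
        have e1 : ⁅v, u⁆ ^ (n.choose 2) * (⁅v, u⁆ ^ n * (u ^ n * (u * v ^ n)) * v)
            = ⁅v, u⁆ ^ (n + n.choose 2) * (u ^ n * u * (v ^ n * v)) := by
          rw [pow_add, (Commute.pow_pow_self ⁅v, u⁆ n (n.choose 2)).eq]
          simp only [mul_assoc]
        rw [e1, hch, pow_succ u n, pow_succ v n, hcen (n + n.choose 2)]

end class2

section main

variable {P : Type*} [Group P] [Finite P]

/-- A normal subgroup of prime order of a finite `p`-group is central. -/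
theorem gxs_le_center_of_card_prime {p : ℕ} [Fact p.Prime] (hP : IsPGroup p P) (N : Subgroup P)
    [N.Normal] (hN : Nat.card N = p) : N ≤ Subgroup.center P := by
  have hp : p.Prime := Fact.out
  have hPc : IsPGroup p (ConjAct P) := hP.of_equiv ConjAct.toConjAct
  have dvd : p ∣ Nat.card N := by rw [hN]
  have h1 : (1 : N) ∈ MulAction.fixedPoints (ConjAct P) N := fun g => smul_one g
  obtain ⟨b, hb, hb1⟩ := hPc.exists_fixed_point_of_prime_dvd_card_of_fixed_point N dvd h1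
  have hbc : (b : P) ∈ Subgroup.center P := by
    rw [Subgroup.mem_center_iff]
    intro g
    have := hb (ConjAct.toConjAct g)
    have h2 := congrArg Subtype.val this
    rw [ConjAct.Subgroup.val_conj_smul] at h2
    rw [ConjAct.smul_def, ConjAct.ofConjAct_toConjAct] at h2
    calc g * (b : P) = g * b * g⁻¹ * g := by group
      _ = b * g := by rw [h2]
  have hb1' : b ≠ 1 := fun h => hb1 h.symm
  have : Fact (Nat.card N).Prime := ⟨by rw [hN]; exact hp⟩
  have htop : Subgroup.zpowers b = ⊤ := zpowers_eq_top_of_prime_card rfl hb1'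
  intro n hn
  have hmem : (⟨n, hn⟩ : N) ∈ Subgroup.zpowers b := by rw [htop]; trivial
  obtain ⟨k, hk⟩ := Subgroup.mem_zpowers_iff.mp hmem
  have hk' : (b : P) ^ k = n := by
    have := congrArg Subtype.val hk
    simpa using this
  rw [← hk']
  exact Subgroup.zpow_mem _ hbc k

/-- AUT. -/
theorem aut_comm_eq (p : ℕ) [Fact p.Prime] (hp : p ≠ 2)
    (hfr : frattini P = commutator P) (hc : Nat.card (commutator P) = p)
    (B : Subgroup P) (hBi : B.index = p) (hBc : ∀ a ∈ B, ∀ b ∈ B, a * b = b * a)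
    (hBe : ∀ a ∈ B, a ^ p = 1) (hno : ∀ y : P, y ∉ B → y ^ p ≠ 1)
    (β : P ≃* P) (x : P) (hx : x ∉ B) (b : P) (hb : b ∈ B) :
    x * β b * x⁻¹ * (β b)⁻¹ = x * b * x⁻¹ * b⁻¹ := by
  have hpp : p.Prime := Fact.out
  -- `P` is a `p`-group
  have hBp : IsPGroup p B := by
    intro g
    refine ⟨1, ?_⟩
    apply Subtype.ext
    simpa using hBe g g.2
  obtain ⟨k, hk⟩ := IsPGroup.iff_card.mp hBp
  have hcard : Nat.card P = p ^ (k + 1) := by
    rw [← Subgroup.index_mul_card B, hBi, hk, pow_succ, mul_comm]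
  have hPp : IsPGroup p P := IsPGroup.of_card hcard
  -- `B` is normal
  have hBn : B.Normal := by
    apply Subgroup.normal_of_index_eq_minFac_card
    rw [hBi, hcard, Nat.Prime.pow_minFac hpp (Nat.succ_ne_zero k)]
  -- commutators are central
  have hZc : commutator P ≤ Subgroup.center P := gxs_le_center_of_card_prime hPp _ hc
  have hcc : ∀ g h : P, ⁅g, h⁆ ∈ Subgroup.center P := fun g h =>
    hZc (by
      rw [commutator_def]
      exact Subgroup.commutator_mem_commutator (Subgroup.mem_top g) (Subgroup.mem_top h))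
  have hcm : ∀ g h : P, ⁅g, h⁆ ∈ commutator P := fun g h => by
    rw [commutator_def]
    exact Subgroup.commutator_mem_commutator (Subgroup.mem_top g) (Subgroup.mem_top h)
  have hZp : ∀ c ∈ commutator P, c ^ p = 1 := by
    intro c hcmem
    have := pow_card_eq_one' (G := ↥(commutator P)) (x := ⟨c, hcmem⟩)
    rw [hc] at this
    have h2 := congrArg Subtype.val this
    simpa using h2
  -- `β` preserves `B`
  have hβB : ∀ a ∈ B, β a ∈ B := by
    intro a ha
    by_contra hna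
    apply hno (β a) hna
    rw [← map_pow, hBe a ha, map_one]
  -- `z₁ = x^p` generates the commutator subgroup
  have hz1m : x ^ p ∈ commutator P := by
    rw [← hfr]
    exact Cfsg.Agent.Lib.H1.isPGroup_pow_mem_frattini hPp x
  have hz1 : x ^ p ≠ 1 := hno x hx
  -- decompose `β x = x^μ b₀`
  have hQcard : Nat.card (P ⧸ B) = p := by rw [← Subgroup.index_eq_card, hBi]
  have : Fact (Nat.card (P ⧸ B)).Prime := ⟨by rw [hQcard]; exact hpp⟩
  have hxq : (x : P ⧸ B) ≠ 1 := by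
    intro h
    exact hx ((QuotientGroup.eq_one_iff x).mp h)
  have htop : Subgroup.zpowers (x : P ⧸ B) = ⊤ := zpowers_eq_top_of_prime_card rfl hxq
  have hmem : ((β x : P) : P ⧸ B) ∈ Subgroup.zpowers (x : P ⧸ B) := by rw [htop]; trivial
  rw [← mem_powers_iff_mem_zpowers, Submonoid.mem_powers_iff] at hmem
  obtain ⟨μ, hμ⟩ := hmem
  have hb0 : (x ^ μ)⁻¹ * β x ∈ B := by
    rw [← QuotientGroup.eq, QuotientGroup.mk_pow]
    exact hμ
  set b₀ := (x ^ μ)⁻¹ * β x with hb₀def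
  have hβx : β x = x ^ μ * b₀ := by rw [hb₀def]; group
  -- `β (x^p) = (x^p)^μ`
  have h3 : 3 ≤ p := by
    have := hpp.two_le
    omega
  have hdvd : p ∣ p.choose 2 := hpp.dvd_choose_self (by norm_num) (by omega)
  have hβz : β (x ^ p) = (x ^ p) ^ μ := by
    rw [map_pow, hβx, gxs_mul_pow hcc, hBe b₀ hb0, mul_one]
    obtain ⟨t, ht⟩ := hdvd
    rw [ht, pow_mul, hZp _ (hcm _ _), one_pow, mul_one, ← pow_mul, ← pow_mul, mul_comm]
  -- `p ∤ μ`
  have hμp : ¬ p ∣ μ := by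
    rintro ⟨t, ht⟩
    have : β (x ^ p) = 1 := by
      rw [hβz, ht, pow_mul, hZp _ hz1m, one_pow]
    apply hz1
    have h := β.injective (this.trans (map_one β).symm)
    exact h
  -- `β` acts on the commutator subgroup as the `μ`-th power
  have : Fact (Nat.card ↥(commutator P)).Prime := ⟨by rw [hc]; exact hpp⟩
  have hz1' : (⟨x ^ p, hz1m⟩ : ↥(commutator P)) ≠ 1 := by
    intro h
    apply hz1
    have := congrArg Subtype.val h
    simpa using this
  have htop2 : Subgroup.zpowers (⟨x ^ p, hz1m⟩ : ↥(commutator P)) = ⊤ :=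
    zpowers_eq_top_of_prime_card rfl hz1'
  have hβc : ∀ c ∈ commutator P, β c = c ^ μ := by
    intro c hcmem
    have hm : (⟨c, hcmem⟩ : ↥(commutator P)) ∈ Subgroup.zpowers (⟨x ^ p, hz1m⟩ : ↥(commutator P)) := by
      rw [htop2]; trivial
    obtain ⟨j, hj⟩ := Subgroup.mem_zpowers_iff.mp hm
    have hj' : (x ^ p) ^ j = c := by
      have := congrArg Subtype.val hj
      simpa using this
    rw [← hj', map_zpow, hβz]
    calc ((x ^ p) ^ μ) ^ j = ((x ^ p) ^ (μ : ℤ)) ^ j := by rw [zpow_natCast]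
      _ = (x ^ p) ^ ((μ : ℤ) * j) := by rw [zpow_mul]
      _ = (x ^ p) ^ (j * (μ : ℤ)) := by rw [mul_comm]
      _ = ((x ^ p) ^ j) ^ (μ : ℤ) := by rw [zpow_mul]
      _ = ((x ^ p) ^ j) ^ μ := by rw [zpow_natCast]
  -- the commutator computation
  have hkey : ⁅x, β b⁆ ^ μ = ⁅x, b⁆ ^ μ := by
    have e1 : β ⁅x, b⁆ = ⁅x, b⁆ ^ μ := hβc _ (hcm _ _)
    have e2 : β ⁅x, b⁆ = ⁅x, β b⁆ ^ μ := by
      rw [map_commutatorElement, hβx, gxs_comm_mul_left hcc, gxs_comm_pow_left hcc]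
      have : ⁅b₀, β b⁆ = 1 := by
        rw [commutatorElement_eq_one_iff_mul_comm]
        exact hBc _ hb0 _ (hβB b hb)
      rw [this, mul_one]
    rw [← e2, e1]
  -- cancel `μ`
  have hcomm : Commute ⁅x, β b⁆ ⁅x, b⁆⁻¹ := by
    have := Subgroup.mem_center_iff.mp (hcc x (β b)) ⁅x, b⁆⁻¹
    exact this.symm
  have hd1 : (⁅x, β b⁆ * ⁅x, b⁆⁻¹) ^ μ = 1 := by
    rw [hcomm.mul_pow, hkey, inv_pow, mul_inv_cancel]
  have hd2 : (⁅x, β b⁆ * ⁅x, b⁆⁻¹) ^ p = 1 := by
    rw [hcomm.mul_pow, hZp _ (hcm _ _), inv_pow, hZp _ (hcm _ _), inv_one, mul_one]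
  have hg := pow_gcd_eq_one.mpr ⟨hd1, hd2⟩
  have hcop : Nat.gcd μ p = 1 := by
    have := (Nat.Prime.coprime_iff_not_dvd hpp).mpr hμp
    exact Nat.Coprime.symm this
  rw [hcop, pow_one] at hg
  have hfin : ⁅x, β b⁆ = ⁅x, b⁆ := by
    have := mul_inv_eq_one.mp hg
    exact this
  simpa [commutatorElement_def] using hfin

end main

end Cfsg.Agent.Lib.H25.GXS
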