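/-
The fusion subsystem of `F` generated by a family of isomorphisms of `F` (given at function level
and closed under inverses).
-/
import Mathlib
import Cfsg.Prelude.Def_FusionSystem
import Cfsg.Agent.Lib.H25.Fusion
import Cfsg.Agent.Lib.H25.SysOfPred
set_option autoImplicit false

namespace Cfsg.Agent.Lib.H25

open Cfsg Cfsg.FusionSystem

variable {Ω : Type*} [Group Ω] {S : Subgroup Ω}

/-- Isomorphisms of `F` that are composites of restrictions of isomorphisms in the family `G` and of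
conjugations by elements of `S`. -/
inductive GChain (F : FusionSystem S) (G : Subgroup Ω → Subgroup Ω → (Ω → Ω) → Prop) :
    Subgroup Ω → Subgroup Ω → (Ω → Ω) → Prop
  | base {P Q U U' : Subgroup Ω} {f g : Ω → Ω} (hG : G U U' g) (hg : IsIso F U U' g) (hPU : P ≤ U)
      (hf : IsIso F P Q f) (hfg : ∀ x ∈ P, f x = g x) : GChain F G P Q f
  | conj {P Q : Subgroup Ω} {f : Ω → Ω} {s : Ω} (hs : s ∈ S) (hf : IsIso F P Q f)
      (hfs : ∀ x ∈ P, f x = s * x * s⁻¹) : GChain F G P Q f
  | trans {P Q R : Subgroup Ω} {f g h : Ω → Ω} (h1 : GChain F G P Q f)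
      (h2 : GChain F G Q R g) (hh : ∀ x ∈ P, h x = g (f x)) : GChain F G P R h

namespace GChain

variable {F : FusionSystem S} {G : Subgroup Ω → Subgroup Ω → (Ω → Ω) → Prop}

theorem isIso {P Q : Subgroup Ω} {f : Ω → Ω} (h : GChain F G P Q f) : IsIso F P Q f := by
  induction h with
  | base _ _ _ hf _ => exact hf
  | conj _ hf _ => exact hf
  | trans _ _ hh ih1 ih2 => exact (ih1.trans ih2).congr (fun x hx => (hh x hx).symm)

theorem congr {P Q : Subgroup Ω} {f f' : Ω → Ω} (h : GChain F G P Q f)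
    (hff' : ∀ x ∈ P, f x = f' x) : GChain F G P Q f' := by
  cases h with
  | base hG hg hPU hf hfg =>
    exact base hG hg hPU (hf.congr hff') (fun x hx => (hff' x hx).symm.trans (hfg x hx))
  | conj hs hf hfs =>
    exact conj hs (hf.congr hff') (fun x hx => (hff' x hx).symm.trans (hfs x hx))
  | trans h1 h2 hh =>
    exact trans h1 h2 (fun x hx => (hff' x hx).symm.trans (hh x hx))

theorem restrict {P Q : Subgroup Ω} {f : Ω → Ω} (h : GChain F G P Q f) :
    ∀ {P' Q' : Subgroup Ω}, P' ≤ P → IsIso F P' Q' f → GChain F G P' Q' f := by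
  induction h with
  | base hG hg hPU hf hfg =>
    intro P' Q' hP' hf'
    exact base hG hg (hP'.trans hPU) hf' (fun x hx => hfg x (hP' hx))
  | conj hs hf hfs =>
    intro P' Q' hP' hf'
    exact conj hs hf' (fun x hx => hfs x (hP' hx))
  | @trans P Q R f g h h1 h2 hh ih1 ih2 =>
    intro P' Q' hP' hf'
    obtain ⟨Q'', hQ''Q, hf'', -⟩ := h1.isIso.restrict hP'
    obtain ⟨R'', -, hg'', -⟩ := h2.isIso.restrict hQ''Q
    have h3 := (ih1 hP' hf'').trans (ih2 hQ''Q hg'') (h := h) (fun x hx => hh x (hP' hx))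
    have e : R'' = Q' := IsIso.target_eq h3.isIso hf' (fun _ _ => rfl)
    rwa [e] at h3

theorem symm (hG : ∀ (U U' : Subgroup Ω) (g g' : Ω → Ω), G U U' g → IsIso F U' U g' →
      (∀ x ∈ U, g' (g x) = x) → G U' U g') {P Q : Subgroup Ω} {f : Ω → Ω}
    (h : GChain F G P Q f) :
    ∀ g : Ω → Ω, IsIso F Q P g → (∀ x ∈ P, g (f x) = x) → GChain F G Q P g := by
  induction h with
  | @base P Q U U' f g₀ hG₀ hg hPU hf hfg =>
    intro g hgiso hgf
    obtain ⟨g', hg', hg'g, hgg'⟩ := hg.symm
    have hQU' : Q ≤ U' := by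
      intro y hy
      obtain ⟨x, hx, rfl⟩ := hf.surjOn hy
      rw [hfg x hx]
      exact hg.map_mem (hPU hx)
    refine base (hG U U' g₀ g' hG₀ hg' hg'g) hg' hQU' hgiso (fun y hy => ?_)
    obtain ⟨x, hx, rfl⟩ := hf.surjOn hy
    rw [hgf x hx, hfg x hx, hg'g x (hPU hx)]
  | @conj P Q f s hs hf hfs =>
    intro g hgiso hgf
    refine conj (S.inv_mem hs) hgiso (fun y hy => ?_)
    obtain ⟨x, hx, rfl⟩ := hf.surjOn hy
    rw [hgf x hx, hfs x hx]
    group
  | @trans P Q R f g h h1 h2 hh ih1 ih2 =>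
    intro k hkiso hkh
    obtain ⟨f', hf', hf'f, hff'⟩ := h1.isIso.symm
    obtain ⟨g', hg', hg'g, hgg'⟩ := h2.isIso.symm
    refine trans (ih2 g' hg' hg'g) (ih1 f' hf' hf'f) (fun z hz => ?_)
    obtain ⟨y, hy, rfl⟩ := h2.isIso.surjOn hz
    obtain ⟨x, hx, rfl⟩ := h1.isIso.surjOn hy
    rw [hg'g _ (h1.isIso.map_mem hx), hf'f x hx, ← hh x hx, hkh x hx]

end GChain

/-- The family of generated isomorphisms has the closure properties of a fusion system. -/
theorem isoPred_gchain (F : FusionSystem S) (G : Subgroup Ω → Subgroup Ω → (Ω → Ω) → Prop)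
    (hG : ∀ (U U' : Subgroup Ω) (g g' : Ω → Ω), G U U' g → IsIso F U' U g' →
      (∀ x ∈ U, g' (g x) = x) → G U' U g') : IsoPred F (GChain F G) where
  sub := fun h => h.isIso
  congr := fun h hfg => h.congr hfg
  conj := by
    intro P hP s hs
    exact ⟨_, GChain.conj hs (IsIso.conj hP hs) (fun _ _ => rfl)⟩
  restrict := fun h hP' hf' => h.restrict hP' hf'
  trans := fun h1 h2 => GChain.trans h1 h2 (fun _ _ => rfl)
  symm := fun h hg hgf => h.symm hG _ hg hgf

/-- The fusion subsystem of `F` generated by the family `G`. -/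
def genSys (F : FusionSystem S) (G : Subgroup Ω → Subgroup Ω → (Ω → Ω) → Prop)
    (hG : ∀ (U U' : Subgroup Ω) (g g' : Ω → Ω), G U U' g → IsIso F U' U g' →
      (∀ x ∈ U, g' (g x) = x) → G U' U g') : FusionSystem S :=
  sysOfPred (isoPred_gchain F G hG)

theorem isIso_genSys_iff {F : FusionSystem S} {G : Subgroup Ω → Subgroup Ω → (Ω → Ω) → Prop}
    (hG : ∀ (U U' : Subgroup Ω) (g g' : Ω → Ω), G U U' g → IsIso F U' U g' →
      (∀ x ∈ U, g' (g x) = x) → G U' U g') {P Q : Subgroup Ω} {f : Ω → Ω} :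
    IsIso (genSys F G hG) P Q f ↔ GChain F G P Q f :=
  isIso_sysOfPred_iff _

/-- A fusion system over `S` containing the generators contains the generated system. -/
theorem GChain.isIso_of_le {F D : FusionSystem S}
    {G : Subgroup Ω → Subgroup Ω → (Ω → Ω) → Prop}
    (hD : ∀ (U U' : Subgroup Ω) (g : Ω → Ω), G U U' g → IsIso F U U' g → IsIso D U U' g)
    {P Q : Subgroup Ω} {f : Ω → Ω} (h : GChain F G P Q f) : IsIso D P Q f := by
  induction h with
  | @base P Q U U' f g hG hg hPU hf hfg =>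
    obtain ⟨Q', -, hQ', -⟩ := (hD U U' g hG hg).restrict hPU
    have h1 : IsIso D P Q' f := hQ'.congr (fun x hx => (hfg x hx).symm)
    have e : Q' = Q := by
      ext y
      constructor
      · intro hy
        obtain ⟨x, hx, rfl⟩ := h1.surjOn hy
        exact hf.map_mem hx
      · intro hy
        obtain ⟨x, hx, rfl⟩ := hf.surjOn hy
        exact h1.map_mem hx
    rwa [e] at h1
  | @conj P Q f s hs hf hfs =>
    have h1 : IsIso D P _ f := (IsIso.conj (F := D) hf.le_left hs).congr
      (fun x hx => (hfs x hx).symm)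
    have e : P.map (MulAut.conj s).toMonoidHom = Q := by
      ext y
      constructor
      · intro hy
        obtain ⟨x, hx, rfl⟩ := h1.surjOn hy
        exact hf.map_mem hx
      · intro hy
        obtain ⟨x, hx, rfl⟩ := hf.surjOn hy
        exact h1.map_mem hx
    rwa [e] at h1
  | trans _ _ hh ih1 ih2 => exact (ih1.trans ih2).congr (fun x hx => (hh x hx).symm)

end Cfsg.Agent.Lib.H25
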