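import Mathlib
import Cfsg.Agent.Lib.H25.GsDefs

/-!
# S5665: basic lemmas on the `J`-structure `SJ m J d` and the unitary transvections (helper25)
-/

set_option autoImplicit false
set_option linter.unusedSimpArgs false
set_option linter.unusedSectionVars false
set_option linter.unusedVariables false

namespace Cfsg.Agent.Lib.H25.Gs

open Matrix Module
open Cfsg Cfsg.Geo
open Cfsg.Agent.Lib.H11.SubspMax
open Cfsg.Agent.Lib.H4 (sympForm_self sympForm_add_left sympForm_add_right sympForm_smul_left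
  sympForm_smul_right sympForm_swap)

variable {F : Type*} [Field F] {m : ℕ} {J : Matrix (Fin m ⊕ Fin m) (Fin m ⊕ Fin m) F} {d : F}

local notation "VV" => (Fin m ⊕ Fin m → F)
local notation "GG" => GL (Fin m ⊕ Fin m) F
local notation "MM" => Matrix (Fin m ⊕ Fin m) (Fin m ⊕ Fin m) F
local notation "ff" => Cfsg.sympForm m F

theorem ff_neg_left (u v : VV) : ff (-u) v = - ff u v := by
  rw [← neg_one_smul F u, sympForm_smul_left]; ring

theorem ff_neg_right (u v : VV) : ff u (-v) = - ff u v := by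
  rw [← neg_one_smul F v, sympForm_smul_right]; ring

theorem SJ.adj' (S : SJ m J d) (x y : VV) : ff x (J *ᵥ y) = - ff (J *ᵥ x) y := by
  rw [S.adj]; ring

theorem SJ.JJ (S : SJ m J d) (x y : VV) : ff (J *ᵥ x) (J *ᵥ y) = -(d * ff x y) := by
  rw [S.adj, S.sq, sympForm_smul_right]

theorem SJ.d_ne (S : SJ m J d) : d ≠ 0 := fun h => S.nsq 0 (by rw [h]; ring)

theorem SJ.norm_ne (S : SJ m J d) {φ ψ : F} (h : φ ≠ 0 ∨ ψ ≠ 0) : φ ^ 2 - d * ψ ^ 2 ≠ 0 := by
  intro h0
  by_cases hψ : ψ = 0
  · subst hψ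
    have hφ : φ ≠ 0 := h.resolve_right (by simp)
    apply hφ
    have : φ ^ 2 = 0 := by linear_combination h0
    exact pow_eq_zero_iff (two_ne_zero) |>.1 this
  · apply S.nsq (φ / ψ)
    field_simp
    linear_combination h0

theorem SJ.indep (S : SJ m J d) {x : VV} (hx : x ≠ 0) {α β : F} (h : α • x + β • J *ᵥ x = 0) :
    α = 0 ∧ β = 0 := by
  have hβ : β = 0 := by
    by_contra hβ
    have h1 : J *ᵥ x = (-α / β) • x := by
      have : β • J *ᵥ x = (-α) • x := by
        rw [neg_smul]; exact eq_neg_of_add_eq_zero_right h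
      rw [div_eq_inv_mul, ← smul_smul, ← this, smul_smul, inv_mul_cancel₀ hβ, one_smul]
    have h2 := S.sq x
    rw [h1, Matrix.mulVec_smul, h1, smul_smul] at h2
    have h3 : ((-α / β) ^ 2 - d) • x = 0 := by
      rw [sub_smul, pow_two, h2, sub_self]
    rcases smul_eq_zero.1 h3 with h4 | h4
    · exact S.nsq _ (sub_eq_zero.1 h4)
    · exact hx h4
  refine ⟨?_, hβ⟩
  rw [hβ, zero_smul, add_zero] at h
  exact (smul_eq_zero.1 h).resolve_right hx

theorem SJ.J_ne (S : SJ m J d) {x : VV} (hx : x ≠ 0) : J *ᵥ x ≠ 0 := by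
  intro h
  have := S.indep hx (α := 0) (β := 1) (by rw [zero_smul, one_smul, zero_add]; exact h)
  exact one_ne_zero this.2

/-- the symmetric form -/
theorem SJ.Bf_symm (S : SJ m J d) (x y : VV) : Bf J x y = Bf J y x := by
  unfold Bf
  rw [S.adj' y x, sympForm_swap]

theorem utv_mulVec {w : VV} (hw : Sing J w) (c : F) (x : VV) :
    ((utv J d w c : GG) : MM) *ᵥ x =
      x + (c * ff x (J *ᵥ w)) • J *ᵥ w - (d * c * ff x w) • w := by
  unfold utv
  rw [gl_mul_mulVec, stv_mulVec, stv_mulVec, sympForm_add_left, sympForm_smul_left]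
  unfold Sing at hw
  rw [hw]
  module

theorem Sing.mulJ (S : SJ m J d) {w : VV} (hw : Sing J w) : Sing J (J *ᵥ w) := by
  unfold Sing at hw ⊢
  rw [S.sq, sympForm_smul_right, sympForm_swap, hw]
  ring

theorem Sing.smul {w : VV} (hw : Sing J w) (a : F) : Sing J (a • w) := by
  unfold Sing at hw ⊢
  rw [Matrix.mulVec_smul, sympForm_smul_left, sympForm_smul_right, hw]
  ring

theorem Sing.add (S : SJ m J d) {w v : VV} (hw : Sing J w) (hv : Sing J v)
    (h : ff w (J *ᵥ v) = 0) : Sing J (w + v) := by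
  unfold Sing at hw hv ⊢
  have h' : ff v (J *ᵥ w) = 0 := by
    rw [S.adj', sympForm_swap, h]; ring
  rw [Matrix.mulVec_add, sympForm_add_left, sympForm_add_right, sympForm_add_right, hw, hv, h, h']
  ring

theorem Sing.zero : Sing J (0 : VV) := by
  unfold Sing
  rw [Matrix.mulVec_zero, sympForm_zero_left]

theorem utv_mem_of (H : Subgroup GG) (hU : HasU H J d) {w : VV} (hw : Sing J w) (c : F) :
    utv J d w c ∈ H := hU w hw c

end Cfsg.Agent.Lib.H25.Gs
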