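import Mathlib
import Cfsg.Agent.Lib.H25.GsBase

/-!
# S5665, piece (SC): from a twisted root group to a transvection group (helper25)

`X(s) = t_{u'}(s) t_u(-ds) ∈ H` for all `s`, with `<u,u'> = 0` and `u' ∉ K u`.  A unitary Siegel element
`g` (product of two unitary transvections) fixes `u` and maps `u' ↦ u' + z`, `z` singular, `z ⊥ u, u'`; then
`A(s) = X(s) (g X(s) g⁻¹)⁻¹ = t_{u'}(s) t_{u'+z}(-s)` is a short root element.  A unitary transvection `τ`
fixing `z` gives a second one `A'(s) = τ A(s) τ⁻¹`, and `[A(s), A'(s')] = t_z(-2 s s' η)`, `η ≠ 0`.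
-/

set_option autoImplicit false
set_option linter.unusedSimpArgs false
set_option linter.unusedSectionVars false
set_option linter.unusedVariables false

namespace Cfsg.Agent.Lib.H25.Gs

open Matrix Module
open Cfsg Cfsg.Geo
open Cfsg.Agent.Lib.H11.SubspMax
open Cfsg.Agent.Lib.H4 (sympForm_self sympForm_add_left sympForm_add_right sympForm_smul_left
  sympForm_smul_right sympForm_swap)

variable {F : Type*} [Field F] {m : ℕ} {J : Matrix (Fin m ⊕ Fin m) (Fin m ⊕ Fin m) F} {d : F}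

local notation "VV" => (Fin m ⊕ Fin m → F)
local notation "GG" => GL (Fin m ⊕ Fin m) F
local notation "MM" => Matrix (Fin m ⊕ Fin m) (Fin m ⊕ Fin m) F
local notation "ff" => Cfsg.sympForm m F

/-- closed form of a short root element `t_b(s) t_{b+z}(-s)`, `<b,z> = 0` -/
theorem dd_mulVec {b z : VV} (hbz : ff b z = 0) (s : F) (x : VV) :
    ((stv b s * stv (b + z) (-s) : GG) : MM) *ᵥ x =
      x - s • (ff x b • z + ff x z • (b + z)) := by
  rw [gl_mul_mulVec, stv_mulVec, stv_mulVec]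
  have hzb : ff z b = 0 := by rw [sympForm_swap, hbz, neg_zero]
  have h1 : ff (x + (-s * ff x (b + z)) • (b + z)) b = ff x b := by
    rw [sympForm_add_left, sympForm_smul_left, sympForm_add_left, sympForm_self, hzb]; ring
  rw [h1, sympForm_add_right]
  module

/-- two short root elements sharing the point `z`: their commutator is a transvection -/
theorem comm_dd {b b₂ z : VV} (hbz : ff b z = 0) (hb₂z : ff b₂ z = 0) (s s' : F) :
    (stv b s * stv (b + z) (-s) : GG) * (stv b₂ s' * stv (b₂ + z) (-s')) =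
      stv z (-(2 * s * s' * ff b b₂)) *
        ((stv b₂ s' * stv (b₂ + z) (-s')) * (stv b s * stv (b + z) (-s))) := by
  apply gl_ext
  intro x
  have hzb : ff z b = 0 := by rw [sympForm_swap, hbz, neg_zero]
  have hzb₂ : ff z b₂ = 0 := by rw [sympForm_swap, hb₂z, neg_zero]
  have hzz : ff z z = 0 := sympForm_self m z
  have hbb : ff b b = 0 := sympForm_self m b
  have hb₂b₂ : ff b₂ b₂ = 0 := sympForm_self m b₂
  have hb₂b : ff b₂ b = - ff b b₂ := sympForm_swap m b₂ b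
  obtain ⟨A, hA⟩ : ∃ A : GG, A = stv b s * stv (b + z) (-s) := ⟨_, rfl⟩
  obtain ⟨A', hA'⟩ : ∃ A' : GG, A' = stv b₂ s' * stv (b₂ + z) (-s') := ⟨_, rfl⟩
  have hAx : ∀ y : VV, (A : MM) *ᵥ y = y - s • (ff y b • z + ff y z • (b + z)) := by
    intro y; rw [hA]; exact dd_mulVec hbz s y
  have hA'x : ∀ y : VV, (A' : MM) *ᵥ y = y - s' • (ff y b₂ • z + ff y z • (b₂ + z)) := by
    intro y; rw [hA']; exact dd_mulVec hb₂z s' y
  rw [← hA, ← hA', gl_mul_mulVec A A' x, gl_mul_mulVec _ (A' * A) x, gl_mul_mulVec A' A x,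
    stv_mulVec, hAx (_ *ᵥ x), hA'x x, hA'x (_ *ᵥ x), hAx x]
  simp only [sympForm_sub_left, sympForm_add_left, sympForm_smul_left, hzb, hzb₂, hzz, hbz, hb₂z,
    hbb, hb₂b₂, hb₂b]
  module

/-- **(SC)** from a twisted root group to a transvection group with singular centre -/
theorem exists_scl_of_inA (S : SJ m J d) (G : GeoS m J) {H : Subgroup (GL (Fin m ⊕ Fin m) F)}
    (hH : H ≤ Cfsg.spGL m F) (hU : HasU H J d) {u u' : Fin m ⊕ Fin m → F} (hu : u ≠ 0)
    (huu' : Cfsg.sympForm m F u u' = 0) (hnot : ¬ InK J u u') (hA : InA H d u u') :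
    ∃ z : Fin m ⊕ Fin m → F, z ≠ 0 ∧ Sing J z ∧ z ∈ Scl H := by
  have hm := S.hm
  have hd0 : d ≠ 0 := S.d_ne
  -- a hyperbolic pair orthogonal to `K u`, `K u'`
  obtain ⟨e, f₀, he, hf₀, hef, hve, hvf⟩ := G.hyp ![u, J *ᵥ u, u', J *ᵥ u'] (by omega)
  have h0e : ff u (J *ᵥ e) = 0 := hve 0
  have h1e : ff (J *ᵥ u) (J *ᵥ e) = 0 := hve 1
  have h2e : ff u' (J *ᵥ e) = 0 := hve 2
  have h3e : ff (J *ᵥ u') (J *ᵥ e) = 0 := hve 3
  have h0f : ff u (J *ᵥ f₀) = 0 := hvf 0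
  have h1f : ff (J *ᵥ u) (J *ᵥ f₀) = 0 := hvf 1
  have h2f : ff u' (J *ᵥ f₀) = 0 := hvf 2
  have h3f : ff (J *ᵥ u') (J *ᵥ f₀) = 0 := hvf 3
  have hue : ff u e = 0 := by
    rw [S.JJ] at h1e
    have := mul_eq_zero.1 (neg_eq_zero.1 h1e)
    exact this.resolve_left hd0
  have hu'e : ff u' e = 0 := by
    rw [S.JJ] at h3e
    have := mul_eq_zero.1 (neg_eq_zero.1 h3e)
    exact this.resolve_left hd0
  have huf : ff u f₀ = 0 := by
    rw [S.JJ] at h1f
    have := mul_eq_zero.1 (neg_eq_zero.1 h1f)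
    exact this.resolve_left hd0
  have hu'f : ff u' f₀ = 0 := by
    rw [S.JJ] at h3f
    have := mul_eq_zero.1 (neg_eq_zero.1 h3f)
    exact this.resolve_left hd0
  have hef' : ff e (J *ᵥ f₀) = 1 := hef
  have he0 : e ≠ 0 := by
    intro h
    rw [h, sympForm_zero_left] at hef'
    exact zero_ne_one hef'
  -- `J u' ∉ span{u, Ju, e, Je}`
  have hnotin : J *ᵥ u' ∉ Submodule.span F (Set.range ![u, J *ᵥ u, e, J *ᵥ e]) := by
    intro hmem
    rw [Submodule.mem_span_range_iff_exists_fun] at hmem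
    obtain ⟨c, hc⟩ := hmem
    rw [Fin.sum_univ_four] at hc
    simp only [Matrix.cons_val_zero, Matrix.cons_val_one, Matrix.cons_val_two,
      Matrix.cons_val_three, Matrix.head_cons, Matrix.tail_cons] at hc
    obtain ⟨s₀, hs₀⟩ : ∃ s₀, s₀ = ff e f₀ := ⟨_, rfl⟩
    -- pair with `J f₀`
    have e1 : c 2 - d * c 3 * s₀ = 0 := by
      have h := h3f
      rw [← hc, sympForm_add_left, sympForm_add_left, sympForm_add_left, sympForm_smul_left,
        sympForm_smul_left, sympForm_smul_left, sympForm_smul_left, h0f, h1f, hef', S.JJ,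
        ← hs₀] at h
      linear_combination h
    -- pair with `f₀`
    have e2 : c 2 * s₀ - c 3 = 0 := by
      have h : ff (J *ᵥ u') f₀ = 0 := by rw [S.adj, h2f, neg_zero]
      have h4 : ff (J *ᵥ u) f₀ = 0 := by rw [S.adj, h0f, neg_zero]
      have h5 : ff (J *ᵥ e) f₀ = -1 := by rw [S.adj, hef']
      rw [← hc, sympForm_add_left, sympForm_add_left, sympForm_add_left, sympForm_smul_left,
        sympForm_smul_left, sympForm_smul_left, sympForm_smul_left, huf, h4, h5, ← hs₀] at h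
      linear_combination h
    have e3 : c 2 * (1 - d * s₀ ^ 2) = 0 := by linear_combination e1 - d * s₀ * e2
    have hne : (1 : F) - d * s₀ ^ 2 ≠ 0 := by
      have := S.norm_ne (φ := 1) (ψ := s₀) (Or.inl one_ne_zero)
      intro h0
      apply this
      linear_combination h0
    have hc2 : c 2 = 0 := (mul_eq_zero.1 e3).resolve_right hne
    have hc3 : c 3 = 0 := by rw [hc2] at e2; linear_combination -e2
    apply hnot
    -- `u' = d⁻¹ J (J u')`
    obtain ⟨β, hβ⟩ : ∃ β : F, β = d⁻¹ * c 0 := ⟨_, rfl⟩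
    have hdβ : d * β = c 0 := by rw [hβ, ← mul_assoc, mul_inv_cancel₀ hd0, one_mul]
    refine ⟨c 1, β, ?_⟩
    have h6 : J *ᵥ (J *ᵥ u') = d • u' := S.sq u'
    rw [hc2, hc3, zero_smul, zero_smul, add_zero, add_zero] at hc
    rw [← hc, Matrix.mulVec_add, Matrix.mulVec_smul, Matrix.mulVec_smul, S.sq u] at h6
    apply smul_right_injective _ hd0
    show d • u' = d • (c 1 • u + β • J *ᵥ u)
    rw [← h6, ← hdβ]
    module
  -- the singular vector `v₁`
  obtain ⟨v₁, hv₁, hv₁v, hv₁y⟩ := G.sep ![u, J *ᵥ u, e, J *ᵥ e] (by omega) (J *ᵥ u') hnotin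
  have k0 : ff u (J *ᵥ v₁) = 0 := hv₁v 0
  have k1 : ff (J *ᵥ u) (J *ᵥ v₁) = 0 := hv₁v 1
  have k2 : ff e (J *ᵥ v₁) = 0 := hv₁v 2
  have k3 : ff (J *ᵥ e) (J *ᵥ v₁) = 0 := hv₁v 3
  have huv₁ : ff u v₁ = 0 := by
    rw [S.JJ] at k1
    exact (mul_eq_zero.1 (neg_eq_zero.1 k1)).resolve_left hd0
  have hev₁ : ff e v₁ = 0 := by
    rw [S.JJ] at k3
    exact (mul_eq_zero.1 (neg_eq_zero.1 k3)).resolve_left hd0
  obtain ⟨ψ, hψ⟩ : ∃ ψ, ψ = ff u' v₁ := ⟨_, rfl⟩
  obtain ⟨φ, hφ⟩ : ∃ φ, φ = ff u' (J *ᵥ v₁) := ⟨_, rfl⟩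
  have hψ0 : ψ ≠ 0 := by
    intro h0
    apply hv₁y
    unfold Bf
    rw [S.sq, sympForm_smul_right, sympForm_swap, ← hψ, h0]
    ring
  have hv₁0 : Sing J v₁ := hv₁
  -- `v₁ + e` is singular
  have hv₁e : Sing J (v₁ + e) := by
    apply Sing.add S hv₁ he
    rw [S.adj', sympForm_swap, k2]; ring
  -- the vector `z`
  obtain ⟨z, hz⟩ : ∃ z : VV, z = (d * ψ) • e - φ • J *ᵥ e := ⟨_, rfl⟩
  have hz0 : z ≠ 0 := by
    intro h0
    rw [hz, sub_eq_add_neg, ← neg_smul] at h0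
    have := (S.indep he0 h0).1
    exact (mul_ne_zero hd0 hψ0) this
  have hzs : Sing J z := by
    rw [hz, sub_eq_add_neg, ← neg_smul]
    apply Sing.add S (he.smul _) ((he.mulJ S).smul _)
    rw [Matrix.mulVec_smul, S.sq, sympForm_smul_left, sympForm_smul_right, sympForm_smul_right,
      sympForm_self]
    ring
  have hJee : ff (J *ᵥ e) e = 0 := by rw [S.adj, he, neg_zero]
  have heJe : ff e (J *ᵥ e) = 0 := he
  have hu'z : ff u' z = 0 := by
    rw [hz, sympForm_sub_right, sympForm_smul_right, sympForm_smul_right, hu'e, h2e]; ring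
  have huz : ff u z = 0 := by
    rw [hz, sympForm_sub_right, sympForm_smul_right, sympForm_smul_right, hue, h0e]; ring
  -- pairings of `z`, `e` with `v₁`, `J v₁`
  have hJev₁ : ff (J *ᵥ e) v₁ = 0 := by rw [S.adj, k2, neg_zero]
  have hzv₁ : ff z v₁ = 0 := by
    rw [hz, sympForm_sub_left, sympForm_smul_left, sympForm_smul_left, hev₁, hJev₁]; ring
  have hzJv₁ : ff z (J *ᵥ v₁) = 0 := by
    rw [hz, sympForm_sub_left, sympForm_smul_left, sympForm_smul_left, k2, k3]; ring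
  -- the elements
  obtain ⟨g, hg⟩ : ∃ g : GG, g = utv J d v₁ 1 * utv J d (v₁ + e) (-1) := ⟨_, rfl⟩
  have hgH : g ∈ H := by
    rw [hg]; exact H.mul_mem (hU v₁ hv₁ 1) (hU (v₁ + e) hv₁e (-1))
  have hv₁Jv₁ : ff v₁ (J *ᵥ v₁) = 0 := hv₁
  have hJv₁v₁ : ff (J *ᵥ v₁) v₁ = 0 := by rw [S.adj, hv₁, neg_zero]
  have hv₁e' : ff v₁ e = 0 := by rw [sympForm_swap, hev₁, neg_zero]
  have hJv₁e : ff (J *ᵥ v₁) e = 0 := by rw [S.adj, sympForm_swap, hJev₁]; ring
  have hv₁Je : ff v₁ (J *ᵥ e) = 0 := by rw [sympForm_swap, hJev₁, neg_zero]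
  have hJv₁Je : ff (J *ᵥ v₁) (J *ᵥ e) = 0 := by rw [S.JJ, hv₁e', mul_zero, neg_zero]
  have hgu : (g : MM) *ᵥ u = u := by
    rw [hg, gl_mul_mulVec, utv_mulVec hv₁e, utv_mulVec hv₁]
    simp only [Matrix.mulVec_add, sympForm_add_right, sympForm_add_left, sympForm_sub_left,
      sympForm_smul_left, k0, huv₁, hue, h0e]
    module
  have hgu' : (g : MM) *ᵥ u' = u' + z := by
    rw [hg, gl_mul_mulVec, utv_mulVec hv₁e, utv_mulVec hv₁]
    simp only [Matrix.mulVec_add, sympForm_add_right, sympForm_add_left, sympForm_sub_left,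
      sympForm_smul_left, ← hφ, ← hψ, hu'e, h2e, S.JJ, sympForm_self, hv₁Jv₁, hJv₁v₁, hev₁, hJev₁,
      k2, k3, hv₁e', hJv₁e, hv₁Je, hJv₁Je, hJee, heJe]
    rw [hz]
    module
  -- `X'(s) = g X(s) g⁻¹`
  have hX' : ∀ s : F, stv (u' + z) s * stv u (-(d * s)) ∈ H := by
    intro s
    have h1 := H.mul_mem (H.mul_mem hgH (hA s)) (H.inv_mem hgH)
    have h2 : g * (stv u' s * stv u (-(d * s))) * g⁻¹ =
        (g * stv u' s * g⁻¹) * (g * stv u (-(d * s)) * g⁻¹) := by group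
    rw [h2, ← conj_stv g (hH hgH), ← conj_stv g (hH hgH), hgu, hgu'] at h1
    exact h1
  -- the short root elements `A(s)`
  have hAs : ∀ s : F, (stv u' s * stv (u' + z) (-s) : GG) ∈ H := by
    intro s
    have h1 := H.mul_mem (hA s) (H.inv_mem (hX' s))
    have hinv : ∀ (v : VV) (c : F), (stv v c : GG)⁻¹ = stv v (-c) := by
      intro v c
      apply inv_eq_of_mul_eq_one_right
      apply gl_ext
      intro x
      rw [gl_mul_mulVec, stv_mulVec, stv_mulVec, sympForm_add_left, sympForm_smul_left,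
        sympForm_self, Units.val_one, Matrix.one_mulVec]
      module
    have h2 : (stv u' s * stv u (-(d * s)) : GG) * (stv (u' + z) s * stv u (-(d * s)))⁻¹ =
        stv u' s * stv (u' + z) (-s) := by
      rw [_root_.mul_inv_rev, hinv, hinv, neg_neg]
      have h3 : (stv u (-(d * s)) : GG) * stv u (d * s) = 1 := by
        rw [← neg_neg (d * s), ← hinv u (-(d * s)), neg_neg]
        exact mul_inv_cancel _
      calc (stv u' s * stv u (-(d * s)) : GG) * (stv u (d * s) * stv (u' + z) (-s))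
          = stv u' s * (stv u (-(d * s)) * stv u (d * s)) * stv (u' + z) (-s) := by group
        _ = stv u' s * stv (u' + z) (-s) := by rw [h3, mul_one]
    rwa [h2] at h1
  -- the second family, conjugating by `τ = utv v₁ 1`
  obtain ⟨τ, hτ⟩ : ∃ τ : GG, τ = utv J d v₁ 1 := ⟨_, rfl⟩
  have hτH : τ ∈ H := by rw [hτ]; exact hU v₁ hv₁ 1
  obtain ⟨b₂, hb₂⟩ : ∃ b₂ : VV, b₂ = u' + φ • J *ᵥ v₁ - (d * ψ) • v₁ := ⟨_, rfl⟩
  have hτu' : (τ : MM) *ᵥ u' = b₂ := by
    rw [hτ, utv_mulVec hv₁, ← hφ, ← hψ, hb₂]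
    module
  have hτz : (τ : MM) *ᵥ z = z := by
    rw [hτ, utv_mulVec hv₁, hzJv₁, hzv₁]
    module
  have hτu'z : (τ : MM) *ᵥ (u' + z) = b₂ + z := by
    rw [Matrix.mulVec_add, hτu', hτz]
  have hA's : ∀ s : F, (stv b₂ s * stv (b₂ + z) (-s) : GG) ∈ H := by
    intro s
    have h1 := H.mul_mem (H.mul_mem hτH (hAs s)) (H.inv_mem hτH)
    have h2 : τ * (stv u' s * stv (u' + z) (-s)) * τ⁻¹ =
        (τ * stv u' s * τ⁻¹) * (τ * stv (u' + z) (-s) * τ⁻¹) := by group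
    rw [h2, ← conj_stv τ (hH hτH), ← conj_stv τ (hH hτH), hτu', hτu'z] at h1
    exact h1
  have hb₂z : ff b₂ z = 0 := by
    have hJv₁z : ff (J *ᵥ v₁) z = 0 := by rw [sympForm_swap, hzJv₁, neg_zero]
    have hv₁z : ff v₁ z = 0 := by rw [sympForm_swap, hzv₁, neg_zero]
    rw [hb₂, sympForm_sub_left, sympForm_add_left, sympForm_smul_left, sympForm_smul_left, hu'z,
      hJv₁z, hv₁z]
    ring
  obtain ⟨η, hη⟩ : ∃ η, η = ff u' b₂ := ⟨_, rfl⟩
  have hη' : η = φ ^ 2 - d * ψ ^ 2 := by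
    rw [hη, hb₂, sympForm_sub_right, sympForm_add_right, sympForm_smul_right, sympForm_smul_right,
      sympForm_self, ← hφ, ← hψ]
    ring
  have hη0 : η ≠ 0 := by
    rw [hη']; exact S.norm_ne (Or.inr hψ0)
  -- the commutator
  refine ⟨z, hz0, hzs, ?_⟩
  intro c
  have h2 : (2 : F) ≠ 0 := S.two
  obtain ⟨s', hs'⟩ : ∃ s' : F, s' = -c / (2 * η) := ⟨_, rfl⟩
  have hcomm := comm_dd hu'z hb₂z 1 s'
  rw [← hη] at hcomm
  have e1 : -(2 * 1 * s' * η) = c := by
    rw [hs']; field_simp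
  rw [e1] at hcomm
  -- `stv z c = A A' A⁻¹ A'⁻¹`
  have h3 : (stv z c : GG) = (stv u' 1 * stv (u' + z) (-1)) * (stv b₂ s' * stv (b₂ + z) (-s')) *
      ((stv b₂ s' * stv (b₂ + z) (-s')) * (stv u' 1 * stv (u' + z) (-1)))⁻¹ := by
    rw [hcomm]; group
  rw [h3]
  exact H.mul_mem (H.mul_mem (hAs 1) (hA's s')) (H.inv_mem (H.mul_mem (hA's s') (hAs 1)))

end Cfsg.Agent.Lib.H25.Gs
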