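import Mathlib
import Cfsg.Agent.Lib.H25.GsC

/-!
# S5665: assembly of the maximality statement from the pieces (helper25)
-/

set_option autoImplicit false
set_option linter.unusedSimpArgs false
set_option linter.unusedSectionVars false
set_option linter.unusedVariables false

namespace Cfsg.Agent.Lib.H25.Gs

open Matrix Module
open Cfsg Cfsg.Geo
open Cfsg.Agent.Lib.H11.SubspMax
open Cfsg.Agent.Lib.H4 (sympForm_self sympForm_add_left sympForm_add_right sympForm_smul_left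
  sympForm_smul_right sympForm_swap)

variable {F : Type*} [Field F] {m : ℕ}

local notation "VV" => (Fin m ⊕ Fin m → F)
local notation "GG" => GL (Fin m ⊕ Fin m) F
local notation "MM" => Matrix (Fin m ⊕ Fin m) (Fin m ⊕ Fin m) F
local notation "ff" => Cfsg.sympForm m F

/-- assembly: maximality of `N_Sp(K)` from the pieces -/
theorem maximal_of (K : Subalgebra F (Matrix (Fin m ⊕ Fin m) (Fin m ⊕ Fin m) F))
    {J : Matrix (Fin m ⊕ Fin m) (Fin m ⊕ Fin m) F} {d : F}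
    (S : SJ m J d) (G : GeoS m J)
    (hBad : ∀ J' : Matrix (Fin m ⊕ Fin m) (Fin m ⊕ Fin m) F,
      (¬ ∃ α β : F, J' = α • (1 : Matrix (Fin m ⊕ Fin m) (Fin m ⊕ Fin m) F) + β • J) →
      ∃ a : Fin m ⊕ Fin m → F, a ≠ 0 ∧ Sing J a ∧ ¬ InK J a (J' *ᵥ a))
    (hSE : ∀ H : Subgroup (GL (Fin m ⊕ Fin m) F), H ≤ Cfsg.spGL m F → HasU H J d →
      ∀ z : Fin m ⊕ Fin m → F, z ≠ 0 → Sing J z → z ∈ Scl H → ∀ v : Fin m ⊕ Fin m → F, v ∈ Scl H)
    (hSF1 : ∀ w : Fin m ⊕ Fin m → F, Sing J w → ∀ c : F,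
      utv J d w c ∈ subalgebraNormalizer K ⊓ Cfsg.spGL m F)
    (hSF2 : ∀ (H : Subgroup (GL (Fin m ⊕ Fin m) F)) (g : GL (Fin m ⊕ Fin m) F), g ∈ H →
      g ∉ subalgebraNormalizer K → ∃ g₁ ∈ H, ¬ ∃ α β : F,
        ((g₁⁻¹ : GL (Fin m ⊕ Fin m) F) : Matrix (Fin m ⊕ Fin m) (Fin m ⊕ Fin m) F) * J *
          (g₁ : Matrix (Fin m ⊕ Fin m) (Fin m ⊕ Fin m) F) =
            α • (1 : Matrix (Fin m ⊕ Fin m) (Fin m ⊕ Fin m) F) + β • J)
    (hSF3 : ¬ Cfsg.spGL m F ≤ subalgebraNormalizer K) :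
    IsMaximalIn (Cfsg.spGL m F) (subalgebraNormalizer K ⊓ Cfsg.spGL m F) := by
  refine ⟨lt_of_le_of_ne inf_le_right ?_, ?_⟩
  · intro heq
    apply hSF3
    rw [← heq]
    exact inf_le_left
  · intro H hNH hHS
    by_cases hHN : H = subalgebraNormalizer K ⊓ Cfsg.spGL m F
    · exact Or.inl hHN
    right
    have hU : HasU H J d := fun w hw c => hNH (hSF1 w hw c)
    obtain ⟨g, hgH, hgN⟩ : ∃ g ∈ H, g ∉ subalgebraNormalizer K ⊓ Cfsg.spGL m F := by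
      by_contra hcon
      push Not at hcon
      exact hHN (le_antisymm hcon hNH)
    have hgN' : g ∉ subalgebraNormalizer K := fun h => hgN ⟨h, hHS hgH⟩
    obtain ⟨g₁, hg₁H, hg₁⟩ := hSF2 H g hgH hgN'
    obtain ⟨w, hw0, hws, hbad⟩ := hBad _ hg₁
    have hg₁S : g₁ ∈ Cfsg.spGL m F := hHS hg₁H
    obtain ⟨u, hu⟩ : ∃ u : VV, u = (g₁ : MM) *ᵥ w := ⟨_, rfl⟩
    obtain ⟨u', hu'⟩ : ∃ u' : VV, u' = (g₁ : MM) *ᵥ (J *ᵥ w) := ⟨_, rfl⟩
    have hu0 : u ≠ 0 := by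
      intro h0
      apply hw0
      have := gl_inv_mulVec g₁ w
      rw [← hu, h0, Matrix.mulVec_zero] at this
      exact this.symm
    have huu' : ff u u' = 0 := by
      rw [hu, hu', (mem_spGL_iff g₁).1 hg₁S]
      exact hws
    have hnot : ¬ InK J u u' := by
      rintro ⟨α, β, h⟩
      -- apply `g₁⁻¹`
      have h1 := congrArg (fun x => ((g₁⁻¹ : GG) : MM) *ᵥ x) h
      simp only [hu, hu', Matrix.mulVec_add, Matrix.mulVec_smul, gl_inv_mulVec] at h1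
      have hβ : β ≠ 0 := by
        intro hβ
        rw [hβ, zero_smul, add_zero] at h1
        have h2 : α • w + (-1 : F) • J *ᵥ w = 0 := by rw [h1]; module
        exact one_ne_zero (neg_eq_zero.1 (S.indep hw0 h2).2)
      apply hbad
      refine ⟨-α / β, 1 / β, ?_⟩
      have h3 : (((g₁⁻¹ : GG) : MM) * J * (g₁ : MM)) *ᵥ w =
          ((g₁⁻¹ : GG) : MM) *ᵥ (J *ᵥ ((g₁ : MM) *ᵥ w)) := by
        rw [← Matrix.mulVec_mulVec, ← Matrix.mulVec_mulVec]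
      rw [h3]
      have h4 : β • ((g₁⁻¹ : GG) : MM) *ᵥ (J *ᵥ ((g₁ : MM) *ᵥ w)) = J *ᵥ w - α • w := by
        rw [h1]; module
      have h5 : ((g₁⁻¹ : GG) : MM) *ᵥ (J *ᵥ ((g₁ : MM) *ᵥ w)) =
          β⁻¹ • (β • ((g₁⁻¹ : GG) : MM) *ᵥ (J *ᵥ ((g₁ : MM) *ᵥ w))) := by
        rw [smul_smul, inv_mul_cancel₀ hβ, one_smul]
      rw [h5, h4, smul_sub, smul_smul, div_eq_mul_inv, div_eq_mul_inv, one_mul]
      have : -α * β⁻¹ = -(β⁻¹ * α) := by ring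
      rw [this, neg_smul]
      abel
    have hA : InA H d u u' := by
      intro s
      have h1 := H.mul_mem (H.mul_mem hg₁H (hU w hws s)) (H.inv_mem hg₁H)
      unfold utv at h1
      have h2 : g₁ * (stv (J *ᵥ w) s * stv w (-(d * s))) * g₁⁻¹ =
          (g₁ * stv (J *ᵥ w) s * g₁⁻¹) * (g₁ * stv w (-(d * s)) * g₁⁻¹) := by group
      rw [h2, ← conj_stv g₁ hg₁S, ← conj_stv g₁ hg₁S, ← hu, ← hu'] at h1
      exact h1
    obtain ⟨z, hz0, hzs, hzH⟩ := exists_scl_of_inA S G hHS hU hu0 huu' hnot hA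
    exact eq_spGL_of_Scl hHS (hSE H hHS hU z hz0 hzs hzH)

end Cfsg.Agent.Lib.H25.Gs
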