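import Mathlib
import Cfsg.Agent.Lib.H10.GuA
import Cfsg.Agent.Lib.H13.AschEOGen
import Cfsg.Agent.Lib.H13.AschEOB45

/-!
# S5700, piece (B): `local_full`

If `W_a` (the set of `y` whose whole Siegel root group `c ↦ sg a (c y)` lies in `H`) is larger
than the `K`-line `K a = span{a, J a}` then it contains the `K`-perp of `a`.
(helper10's architecture, blueprint `tools/blueprints/S5700.md`.)
-/

set_option autoImplicit false
set_option linter.unusedSimpArgs false
set_option linter.unusedSectionVars false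
set_option linter.unusedVariables false

namespace Cfsg.Agent.Lib.H25.Gu

open Matrix Module
open Cfsg Cfsg.Geo
open Cfsg.Agent.Lib.H28 Cfsg.Agent.Lib.H11.SubspMax
open Cfsg.Agent.Lib.H11.CD Cfsg.Agent.Lib.H11.SiegelGen Cfsg.Agent.Lib.H11.OrMax
open Cfsg.Agent.Lib.H11.OmTs Cfsg.Agent.Lib.H24.OSf
open Cfsg.Agent.Lib.H10.Gu

section core

variable {F : Type*} [Field F] [Fintype F] {n : ℕ} {Q : QuadraticForm F (Fin n → F)}
  {J : Matrix (Fin n) (Fin n) F} {t N : F} {H : Subgroup (GL (Fin n) F)}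

set_option quotPrecheck false in
local notation "P" => QuadraticMap.polar (⇑Q)

/-- `x + e - Q x • f` is singular for a hyperbolic pair `(e, f)` orthogonal to `x` -/
theorem sing_of_hyp {e f x : Fin n → F} (he : Q e = 0) (hf : Q f = 0) (hef : P e f = 1)
    (hxe : P x e = 0) (hxf : P x f = 0) : Q (x + e - Q x • f) = 0 := by
  rw [Q_sub', Q_add, QuadraticMap.map_smul, he, hf, hxe, QuadraticMap.polar_smul_right,
    QuadraticMap.polar_add_left, hxf, hef]
  simp

/-- (L) singular separation -/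
theorem exists_sing_sep (hQ : (QuadraticMap.polarBilin Q).Nondegenerate) {k : ℕ}
    (vs : Fin k → Fin n → F) (h : 2 * (k + 1) + 3 ≤ n) (x y : Fin n → F)
    (hx : ∀ i, P (vs i) x = 0) (hxy : P x y ≠ 0) :
    ∃ w, Q w = 0 ∧ (∀ i, P (vs i) w = 0) ∧ P w y ≠ 0 := by
  obtain ⟨e, f, he, hf, hef, hve, hvf⟩ :=
    exists_hyp_perp Q hQ (Fin.cons x vs : Fin (k + 1) → Fin n → F) h
  have hxe : P x e = 0 := by simpa using hve 0
  have hxf : P x f = 0 := by simpa using hvf 0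
  have hve' : ∀ i, P (vs i) e = 0 := fun i => by simpa using hve i.succ
  have hvf' : ∀ i, P (vs i) f = 0 := fun i => by simpa using hvf i.succ
  by_cases h1 : P e y = 0
  · by_cases h2 : P f y = 0
    · refine ⟨x + e - Q x • f, sing_of_hyp he hf hef hxe hxf, fun i => ?_, ?_⟩
      · rw [QuadraticMap.polar_sub_right, QuadraticMap.polar_add_right,
          QuadraticMap.polar_smul_right, hx i, hve' i, hvf' i]
        simp
      · rw [QuadraticMap.polar_sub_left, QuadraticMap.polar_add_left,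
          QuadraticMap.polar_smul_left, h1, h2]
        simpa using hxy
    · exact ⟨f, hf, hvf', h2⟩
  · exact ⟨e, he, hve', h1⟩

/-- a vector outside a span is separated from it by the polar form -/
theorem exists_perp_of_not_mem_span (hQ : (QuadraticMap.polarBilin Q).Nondegenerate) {k : ℕ}
    (vs : Fin k → Fin n → F) (y : Fin n → F) (hy : y ∉ Submodule.span F (Set.range vs)) :
    ∃ x, (∀ i, P (vs i) x = 0) ∧ P x y ≠ 0 := by
  obtain ⟨φ, hφy, hφ⟩ := Submodule.exists_dual_map_eq_bot_of_notMem hy inferInstance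
  obtain ⟨z, hz⟩ := exists_fr Q hQ φ
  refine ⟨z, fun i => ?_, ?_⟩
  · have h1 : φ (vs i) ∈ (Submodule.span F (Set.range vs)).map φ :=
      Submodule.mem_map_of_mem (Submodule.subset_span ⟨i, rfl⟩)
    rw [hφ, Submodule.mem_bot, hz, fr_apply] at h1
    rw [P_comm]; exact h1
  · rw [hz, fr_apply] at hφy
    exact hφy

/-- (L) + nondegeneracy -/
theorem exists_sing_sep' (hQ : (QuadraticMap.polarBilin Q).Nondegenerate) {k : ℕ}
    (vs : Fin k → Fin n → F) (h : 2 * (k + 1) + 3 ≤ n) (y : Fin n → F)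
    (hy : y ∉ Submodule.span F (Set.range vs)) :
    ∃ w, Q w = 0 ∧ (∀ i, P (vs i) w = 0) ∧ P w y ≠ 0 := by
  obtain ⟨x, hx, hxy⟩ := exists_perp_of_not_mem_span hQ vs y hy
  exact exists_sing_sep hQ vs h x y hx hxy

/-- difference of two `InW.stab` vectors -/
theorem key_diff (S : JS Q J t N) (hJ : HasJ Q H J) {a y w e : Fin n → F} (ha : Q a = 0)
    (hw : Q w = 0) (hwa : P w a = 0) (hwJa : P w (J *ᵥ a) = 0)
    (he : Q e = 0) (hea : P e a = 0) (heJa : P e (J *ᵥ a) = 0)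
    (hwe : P w e = 0) (hey : P e y = 0) (hJey : P (J *ᵥ e) y = 0) (h : InW Q H a y) :
    InW Q H a (P w y • J *ᵥ e - P (J *ᵥ w) y • e) := by
  have hQ : Q (w + e) = 0 := by rw [Q_add, hw, he, hwe]; simp
  have h1 : P (w + e) a = 0 := by rw [QuadraticMap.polar_add_left, hwa, hea, add_zero]
  have h2 : P (w + e) (J *ᵥ a) = 0 := by rw [QuadraticMap.polar_add_left, hwJa, heJa, add_zero]
  have k1 := InW.stab S hJ ha hQ h1 h2 h
  have k2 := InW.stab S hJ ha hw hwa hwJa h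
  have k3 := k1.sub ha k2
  have e1 : P (w + e) y • J *ᵥ (w + e) - P (J *ᵥ (w + e)) y • (w + e)
      - (P w y • J *ᵥ w - P (J *ᵥ w) y • w) = P w y • J *ᵥ e - P (J *ᵥ w) y • e := by
    rw [Matrix.mulVec_add, QuadraticMap.polar_add_left, QuadraticMap.polar_add_left, hey, hJey]
    module
  rwa [e1] at k3

/-- Step A: one full `K`-line outside `K a` inside `W_a` -/
theorem exists_full_line (S : JS Q J t N) (hJ : HasJ Q H J) {a y₀ : Fin n → F} (ha : Q a = 0)
    (ha0 : a ≠ 0) (hy : InW Q H a y₀) (hy' : ¬ ∃ α β : F, y₀ = α • a + β • J *ᵥ a) :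
    ∃ e : Fin n → F, Q e = 0 ∧ P a e = 0 ∧ P (J *ᵥ a) e = 0 ∧
      (¬ ∃ α β : F, e = α • a + β • J *ᵥ a) ∧ InW Q H a e ∧ InW Q H a (J *ᵥ e) := by
  have hn := S.hn
  obtain ⟨e, f, he, hf, hef, hve, hvf⟩ :=
    exists_hyp_perp Q S.hQ ![a, J *ᵥ a, y₀, J *ᵥ y₀] (by omega)
  have hae : P a e = 0 := hve 0
  have hJae : P (J *ᵥ a) e = 0 := hve 1
  have hye : P y₀ e = 0 := hve 2
  have hJye : P (J *ᵥ y₀) e = 0 := hve 3
  have haf : P a f = 0 := hvf 0
  have hJaf : P (J *ᵥ a) f = 0 := hvf 1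
  have hyf : P y₀ f = 0 := hvf 2
  have hJyf : P (J *ᵥ y₀) f = 0 := hvf 3
  -- `e ∉ K a`
  have hne : ¬ ∃ α β : F, e = α • a + β • J *ᵥ a := by
    rintro ⟨α, β, h⟩
    have h1 : P e f = 0 := by
      rw [h, QuadraticMap.polar_add_left, QuadraticMap.polar_smul_left,
        QuadraticMap.polar_smul_left, haf, hJaf]
      simp
    rw [hef] at h1
    exact one_ne_zero h1
  -- `y₀ ∉ span{a, Ja, e, Je}`
  have hnot : y₀ ∉ Submodule.span F (Set.range ![a, J *ᵥ a, e, J *ᵥ e]) := by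
    intro hmem
    rw [Submodule.mem_span_range_iff_exists_fun] at hmem
    obtain ⟨c, hc⟩ := hmem
    rw [Fin.sum_univ_four] at hc
    simp only [Matrix.cons_val_zero, Matrix.cons_val_one, Matrix.cons_val_two,
      Matrix.cons_val_three, Matrix.head_cons, Matrix.tail_cons] at hc
    obtain ⟨s, hs⟩ : ∃ s, s = P e (J *ᵥ f) := ⟨_, rfl⟩
    have hJef : P (J *ᵥ e) f = t - s := by rw [S.PJ, hef, hs]; ring
    have hJeJf : P (J *ᵥ e) (J *ᵥ f) = N := by rw [S.PJJ, hef, mul_one]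
    have haJf : P a (J *ᵥ f) = 0 := by rw [S.PJr, haf, hJaf]; ring
    have hJaJf : P (J *ᵥ a) (J *ᵥ f) = 0 := by rw [S.PJJ, haf, mul_zero]
    have hyJf : P y₀ (J *ᵥ f) = 0 := by rw [S.PJr, hyf, hJyf]; ring
    have e1 : c 2 + c 3 * (t - s) = 0 := by
      have := hyf
      rw [← hc, QuadraticMap.polar_add_left, QuadraticMap.polar_add_left,
        QuadraticMap.polar_add_left, QuadraticMap.polar_smul_left, QuadraticMap.polar_smul_left,
        QuadraticMap.polar_smul_left, QuadraticMap.polar_smul_left, haf, hJaf, hef, hJef] at this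
      simpa using this
    have e2 : c 2 * s + c 3 * N = 0 := by
      have := hyJf
      rw [← hc, QuadraticMap.polar_add_left, QuadraticMap.polar_add_left,
        QuadraticMap.polar_add_left, QuadraticMap.polar_smul_left, QuadraticMap.polar_smul_left,
        QuadraticMap.polar_smul_left, QuadraticMap.polar_smul_left, haJf, hJaJf, ← hs,
        hJeJf] at this
      simpa using this
    have e3 : c 3 * (s ^ 2 - t * s + N) = 0 := by linear_combination e2 - s * e1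
    have hc3 : c 3 = 0 := (mul_eq_zero.1 e3).resolve_right (S.irr s)
    have hc2 : c 2 = 0 := by rw [hc3] at e1; simpa using e1
    apply hy'
    refine ⟨c 0, c 1, ?_⟩
    rw [← hc, hc2, hc3]
    simp
  obtain ⟨w, hw, hwv, hwy⟩ :=
    exists_sing_sep' S.hQ ![a, J *ᵥ a, e, J *ᵥ e] (by omega) y₀ hnot
  have hwa : P w a = 0 := by rw [P_comm]; exact hwv 0
  have hwJa : P w (J *ᵥ a) = 0 := by rw [P_comm]; exact hwv 1
  have hwe : P w e = 0 := by rw [P_comm]; exact hwv 2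
  have hwJe : P w (J *ᵥ e) = 0 := by rw [P_comm]; exact hwv 3
  have hea : P e a = 0 := by rw [P_comm]; exact hae
  have heJa : P e (J *ᵥ a) = 0 := by rw [P_comm]; exact hJae
  have hey : P e y₀ = 0 := by rw [P_comm]; exact hye
  have hJey : P (J *ᵥ e) y₀ = 0 := by
    rw [S.PJ, hey, P_comm, hJye]; ring
  obtain ⟨p, hp⟩ : ∃ p, p = P w y₀ := ⟨_, rfl⟩
  obtain ⟨r, hr⟩ : ∃ r, r = P (J *ᵥ w) y₀ := ⟨_, rfl⟩
  have d1 := key_diff S hJ ha hw hwa hwJa he hea heJa hwe hey hJey hy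
  have hJwa : P (J *ᵥ w) a = 0 := by rw [S.PJ, hwa, hwJa]; ring
  have hJwJa : P (J *ᵥ w) (J *ᵥ a) = 0 := by rw [S.PJJ, hwa, mul_zero]
  have hJwe : P (J *ᵥ w) e = 0 := by rw [S.PJ, hwe, hwJe]; ring
  have d2 := key_diff S hJ ha (S.QJ0 hw) hJwa hJwJa he hea heJa hJwe hey hJey hy
  have hJJ : P (J *ᵥ (J *ᵥ w)) y₀ = t * r - N * p := by
    rw [S.sq, QuadraticMap.polar_sub_left, QuadraticMap.polar_smul_left,
      QuadraticMap.polar_smul_left, ← hr, ← hp]
    simp
  rw [hJJ, ← hr] at d2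
  rw [← hp, ← hr] at d1
  have hp0 : p ≠ 0 := by rw [hp]; exact hwy
  obtain ⟨D, hD⟩ : ∃ D, D = r ^ 2 - t * p * r + N * p ^ 2 := ⟨_, rfl⟩
  have hD0 : D ≠ 0 := by
    have := S.norm_ne (α := r) (β := -p) (Or.inr (neg_ne_zero.2 hp0))
    rw [hD]
    intro h0
    apply this
    linear_combination h0
  have hWe : InW Q H a e := by
    have h3 := ((d1.smul r).sub ha (d2.smul p)).smul (-D⁻¹)
    have e1 : r • (p • J *ᵥ e - r • e) - p • (r • J *ᵥ e - (t * r - N * p) • e) = (-D) • e := by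
      rw [hD]; module
    rw [e1, smul_smul] at h3
    have e2 : -D⁻¹ * -D = 1 := by field_simp
    rwa [e2, one_smul] at h3
  have hWJe : InW Q H a (J *ᵥ e) := by
    have h3 := (d1.add ha (hWe.smul r)).smul p⁻¹
    have e1 : p⁻¹ • (p • J *ᵥ e - r • e + r • e) = J *ᵥ e := by
      rw [sub_add_cancel, smul_smul, inv_mul_cancel₀ hp0, one_smul]
    rwa [e1] at h3
  exact ⟨e, he, hae, hJae, hne, hWe, hWJe⟩

/-- Step B, case 1 -/
theorem sing_case1 (S : JS Q J t N) (hJ : HasJ Q H J) {a y₂ w : Fin n → F} (ha : Q a = 0)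
    (h1 : InW Q H a y₂) (h2 : InW Q H a (J *ᵥ y₂)) (hw : Q w = 0) (hwa : P w a = 0)
    (hwJa : P w (J *ᵥ a) = 0) (hpr : P w y₂ ≠ 0 ∨ P (J *ᵥ w) y₂ ≠ 0) : InW Q H a w := by
  have k1 := InW.stab S hJ ha hw hwa hwJa h1
  have k2 := InW.stab S hJ ha hw hwa hwJa h2
  obtain ⟨p, hp⟩ : ∃ p, p = P w y₂ := ⟨_, rfl⟩
  obtain ⟨r, hr⟩ : ∃ r, r = P (J *ᵥ w) y₂ := ⟨_, rfl⟩
  have e1 : P w (J *ᵥ y₂) = t * p - r := by rw [S.PJr, ← hp, ← hr]
  have e2 : P (J *ᵥ w) (J *ᵥ y₂) = N * p := by rw [S.PJJ, ← hp]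
  rw [e1, e2] at k2
  rw [← hp, ← hr] at k1 hpr
  obtain ⟨D, hD⟩ : ∃ D, D = r ^ 2 - t * p * r + N * p ^ 2 := ⟨_, rfl⟩
  have hD0 : D ≠ 0 := by
    have := S.norm_ne (α := r) (β := -p) (by
      rcases hpr with h | h
      · exact Or.inr (neg_ne_zero.2 h)
      · exact Or.inl h)
    rw [hD]
    intro h0
    apply this
    linear_combination h0
  have h3 := ((k1.smul (t * p - r)).sub ha (k2.smul p)).smul D⁻¹
  have e3 : (t * p - r) • (p • J *ᵥ w - r • w) - p • ((t * p - r) • J *ᵥ w - (N * p) • w)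
      = D • w := by
    rw [hD]; module
  rw [e3, smul_smul, inv_mul_cancel₀ hD0, one_smul] at h3
  exact h3

/-- Step B: all singular vectors of the `K`-perp of `a` are in `W_a` -/
theorem sing_all (S : JS Q J t N) (hJ : HasJ Q H J) {a y₂ : Fin n → F} (ha : Q a = 0)
    (hy₂' : ¬ ∃ α β : F, y₂ = α • a + β • J *ᵥ a)
    (h1 : InW Q H a y₂) (h2 : InW Q H a (J *ᵥ y₂)) {w : Fin n → F} (hw : Q w = 0)
    (haw : P a w = 0) (hJaw : P (J *ᵥ a) w = 0) : InW Q H a w := by
  have hn := S.hn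
  have hwa : P w a = 0 := by rw [P_comm]; exact haw
  have hwJa : P w (J *ᵥ a) = 0 := by rw [P_comm]; exact hJaw
  by_cases hpr : P w y₂ ≠ 0 ∨ P (J *ᵥ w) y₂ ≠ 0
  · exact sing_case1 S hJ ha h1 h2 hw hwa hwJa hpr
  · push Not at hpr
    obtain ⟨hp, hr⟩ := hpr
    by_cases hsp : y₂ ∈ Submodule.span F (Set.range ![a, J *ᵥ a, w])
    · rw [Submodule.mem_span_range_iff_exists_fun] at hsp
      obtain ⟨c, hc⟩ := hsp
      rw [Fin.sum_univ_three] at hc
      simp only [Matrix.cons_val_zero, Matrix.cons_val_one, Matrix.cons_val_two,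
        Matrix.head_cons, Matrix.tail_cons] at hc
      have hc2 : c 2 ≠ 0 := by
        intro h0
        apply hy₂'
        refine ⟨c 0, c 1, ?_⟩
        rw [← hc, h0]; simp
      have e1 : w = (c 2)⁻¹ • (y₂ - c 0 • a - c 1 • J *ᵥ a) := by
        have : y₂ - c 0 • a - c 1 • J *ᵥ a = c 2 • w := by rw [← hc]; abel
        rw [this, smul_smul, inv_mul_cancel₀ hc2, one_smul]
      rw [e1]
      exact ((h1.sub ha ((InW.self ha).smul _)).sub ha ((hJ.inW S ha).smul _)).smul _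
    · obtain ⟨w₁, hw₁, hw₁v, hw₁y⟩ :=
        exists_sing_sep' S.hQ ![a, J *ᵥ a, w] (by omega) y₂ hsp
      have hw₁a : P w₁ a = 0 := by rw [P_comm]; exact hw₁v 0
      have hw₁Ja : P w₁ (J *ᵥ a) = 0 := by rw [P_comm]; exact hw₁v 1
      have hww₁ : P w w₁ = 0 := hw₁v 2
      have k1 := sing_case1 S hJ ha h1 h2 hw₁ hw₁a hw₁Ja (Or.inl hw₁y)
      have hQ : Q (w + w₁) = 0 := by rw [Q_add, hw, hw₁, hww₁]; simp
      have k2 := sing_case1 S hJ ha h1 h2 hQ
        (by rw [QuadraticMap.polar_add_left, hwa, hw₁a, add_zero])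
        (by rw [QuadraticMap.polar_add_left, hwJa, hw₁Ja, add_zero])
        (Or.inl (by rw [QuadraticMap.polar_add_left, hp, zero_add]; exact hw₁y))
      have := k2.sub ha k1
      rwa [add_sub_cancel_right] at this

/-- (B) if `W_a` is larger than the `K`-line `K a` then it contains the `K`-perp of `a` -/
theorem local_full (S : JS Q J t N) (hJ : HasJ Q H J) {a y₀ : Fin n → F} (ha : Q a = 0)
    (ha0 : a ≠ 0) (hy : InW Q H a y₀) (hy' : ¬ ∃ α β : F, y₀ = α • a + β • J *ᵥ a) :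
    ∀ x : Fin n → F, P a x = 0 → P (J *ᵥ a) x = 0 → InW Q H a x := by
  have hn := S.hn
  obtain ⟨e, hQe, hae, hJae, hne, hWe, hWJe⟩ := exists_full_line S hJ ha ha0 hy hy'
  intro x hax hJax
  obtain ⟨e', f', he', hf', hef', hve, hvf⟩ :=
    exists_hyp_perp Q S.hQ ![a, J *ᵥ a, x] (by omega)
  have hae' : P a e' = 0 := hve 0
  have hJae' : P (J *ᵥ a) e' = 0 := hve 1
  have hxe' : P x e' = 0 := hve 2
  have haf' : P a f' = 0 := hvf 0
  have hJaf' : P (J *ᵥ a) f' = 0 := hvf 1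
  have hxf' : P x f' = 0 := hvf 2
  have k1 := sing_all S hJ ha hne hWe hWJe (sing_of_hyp he' hf' hef' hxe' hxf')
    (by rw [QuadraticMap.polar_sub_right, QuadraticMap.polar_add_right,
          QuadraticMap.polar_smul_right, hax, hae', haf']; simp)
    (by rw [QuadraticMap.polar_sub_right, QuadraticMap.polar_add_right,
          QuadraticMap.polar_smul_right, hJax, hJae', hJaf']; simp)
  have k2 := sing_all S hJ ha hne hWe hWJe he' hae' hJae'
  have k3 := sing_all S hJ ha hne hWe hWJe hf' haf' hJaf'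
  have e1 : x = x + e' - Q x • f' - e' + Q x • f' := by abel
  rw [e1]
  exact (k1.sub ha k2).add ha (k3.smul _)

end core

end Cfsg.Agent.Lib.H25.Gu
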