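import Cfsg.Agent.Lib.H13.HSDefs

/-!
# S2536 piece P9: the stabilizer of a partition into two halves

`card_partStab`: `|Stab {s, sᶜ}| = 2 · (k!)²` with `k = |s| = |sᶜ| ≥ 1`.
-/

namespace Cfsg.Agent.Lib.H25.HS
open Equiv MulAction Cfsg.Agent.Lib.H13.HS
open scoped Pointwise

/-- the order of the set stabilizer in the symmetric group (local copy of P2). -/
theorem hsp9_card_stabilizer_set {α : Type*} [Finite α] (s : Set α) :
    Nat.card (stabilizer (Perm α) s) = (s.ncard).factorial * (sᶜ.ncard).factorial := by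
  classical
  have key := DomMulAct.stabilizer_ncard (α := α) (fun a => decide (a ∈ s))
  have hset : ((stabilizer (Perm α) s : Subgroup (Perm α)) : Set (Perm α)) =
      {g : Perm α | (fun a => decide (a ∈ s)) ∘ g = fun a => decide (a ∈ s)} := by
    ext g
    simp only [SetLike.mem_coe, mem_stabilizer_set, Set.mem_ofPred_eq, funext_iff,
      Function.comp_apply, decide_eq_decide, Perm.smul_def]
  rw [← Nat.card_coe_set_eq] at key
  have h1 : Nat.card (stabilizer (Perm α) s) =
      Nat.card ({g : Perm α | (fun a => decide (a ∈ s)) ∘ g = fun a => decide (a ∈ s)}) := by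
    rw [← hset]; rfl
  rw [h1, key, Fintype.prod_bool]
  have e1 : {a : α | decide (a ∈ s) = true} = s := by ext a; simp
  have e2 : {a : α | decide (a ∈ s) = false} = sᶜ := by ext a; simp
  rw [e1, e2]

/-- a permutation interchanging `s` and `sᶜ` when they have the same size. -/
theorem hsp9_exists_swap {α : Type*} [Finite α] (s : Set α) (hs : s.ncard = sᶜ.ncard) :
    ∃ g : Perm α, g • s = sᶜ := by
  classical
  have hcard : Nat.card s = Nat.card (sᶜ : Set α) := by
    rw [Nat.card_coe_set_eq, Nat.card_coe_set_eq]; exact hs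
  obtain ⟨e⟩ := (Finite.card_eq (α := s) (β := (sᶜ : Set α))).mp hcard
  let g : Perm α :=
    (Equiv.Set.sumCompl s).symm.trans
      (((Equiv.sumCongr e e.symm).trans (Equiv.sumComm _ _)).trans (Equiv.Set.sumCompl s))
  have hg1 : ∀ a (ha : a ∈ s), g a = (e ⟨a, ha⟩ : α) := by
    intro a ha
    simp [g, Equiv.Set.sumCompl_symm_apply_of_mem ha]
  refine ⟨g, ?_⟩
  -- `g • s ⊆ sᶜ` and the cardinalities agree
  have hsub : g • s ⊆ sᶜ := by
    rintro _ ⟨a, ha, rfl⟩
    change g a ∈ sᶜ
    rw [hg1 a ha]
    exact (e ⟨a, ha⟩).2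
  refine Set.eq_of_subset_of_ncard_le hsub ?_ (Set.toFinite _)
  rw [Set.ncard_smul_set, hs]

/-- P9. -/
theorem card_partStab {α : Type*} [Finite α] (s : Set α) (hs : s.ncard = sᶜ.ncard) (h0 : 0 < s.ncard) :
    Nat.card (partStab s) = 2 * ((s.ncard).factorial * (s.ncard).factorial) := by
  classical
  have hne : s.Nonempty := by
    rcases Set.eq_empty_or_nonempty s with h | h
    · rw [h, Set.ncard_empty] at h0; exact absurd h0 (lt_irrefl _)
    · exact h
  have hsc : s ≠ sᶜ := by
    intro h
    obtain ⟨a, ha⟩ := hne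
    have : a ∈ sᶜ := h ▸ ha
    exact this ha
  -- membership in `partStab`
  have hmemP : ∀ g : Perm α, g ∈ partStab s ↔ (g • s = s ∨ g • s = sᶜ) := by
    intro g
    unfold partStab
    rw [mem_stabilizer_iff]
    have himg : g • ({s, sᶜ} : Set (Set α)) = {g • s, (g • s)ᶜ} := by
      rw [Set.smul_set_insert, Set.smul_set_singleton, Set.smul_set_compl]
    rw [himg]
    constructor
    · intro h
      have : g • s ∈ ({s, sᶜ} : Set (Set α)) := by rw [← h]; exact Set.mem_insert _ _
      simpa using this
    · rintro (h | h)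
      · rw [h]
      · rw [h, compl_compl, Set.pair_comm]
  -- the orbit of `s` under `partStab s`
  obtain ⟨g0, hg0⟩ := hsp9_exists_swap s hs
  have horb : orbit (partStab s) s = {s, sᶜ} := by
    ext t
    constructor
    · rintro ⟨⟨g, hg⟩, rfl⟩
      have := (hmemP g).mp hg
      simpa using this
    · intro ht
      rcases ht with rfl | rfl
      · exact mem_orbit_self _
      · exact ⟨⟨g0, (hmemP g0).mpr (Or.inr hg0)⟩, hg0⟩
  have hidx : (stabilizer (partStab s) s).index = 2 := by
    rw [index_stabilizer, horb, Set.ncard_pair hsc]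
  -- the stabilizer of `s` in `partStab s`
  have hle : stabilizer (Perm α) s ≤ partStab s := fun g hg =>
    (hmemP g).mpr (Or.inl (mem_stabilizer_iff.mp hg))
  have hstab : stabilizer (partStab s) s = (stabilizer (Perm α) s).subgroupOf (partStab s) := by
    ext ⟨g, hg⟩
    simp only [mem_stabilizer_iff, Subgroup.mem_subgroupOf]
    rfl
  have hcardK : Nat.card (stabilizer (partStab s) s) = Nat.card (stabilizer (Perm α) s) := by
    rw [hstab]
    exact Nat.card_congr (Subgroup.subgroupOfEquivOfLe hle).toEquiv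
  have := (stabilizer (partStab s) s).index_mul_card
  rw [hidx, hcardK, hsp9_card_stabilizer_set, ← hs] at this
  exact this.symm

end Cfsg.Agent.Lib.H25.HS
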