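import Cfsg.Agent.Lib.H13.HSMain

/-!
# S2535 stage 2, piece Q1: Hall `{2,3}`-subgroups of `S_8` are the stabilizers of a `4|4` partition
-/

set_option linter.style.haveILetI false

namespace Cfsg.Agent.Lib.H25.HS
open Equiv MulAction Cfsg.Agent.Lib.H13.HS
open scoped Pointwise

/-- membership in the stabilizer of the partition `{s, sᶜ}`. -/
theorem hsq1_mem_partStab {α : Type*} {s : Set α} (g : Perm α) :
    g ∈ partStab s ↔ (g • s = s ∨ g • s = sᶜ) := by
  unfold partStab
  rw [mem_stabilizer_iff]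
  have himg : g • ({s, sᶜ} : Set (Set α)) = {g • s, (g • s)ᶜ} := by
    rw [Set.smul_set_insert, Set.smul_set_singleton, Set.smul_set_compl]
  rw [himg]
  constructor
  · intro h
    have : g • s ∈ ({s, sᶜ} : Set (Set α)) := by rw [← h]; exact Set.mem_insert _ _
    simpa using this
  · rintro (h | h)
    · rw [h]
    · rw [h, compl_compl, Set.pair_comm]

/-- a swap of two points outside `t` stabilizes `t`. -/
theorem hsq1_swap_smul_of_notMem {α : Type*} [DecidableEq α] {t : Set α} {x y : α}
    (hx : x ∉ t) (hy : y ∉ t) : (Equiv.swap x y) • t = t := by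
  ext w
  rw [Set.mem_smul_set_iff_inv_smul_mem, Equiv.swap_inv, Perm.smul_def]
  by_cases hwx : w = x
  · subst hwx
    rw [Equiv.swap_apply_left]
    exact ⟨fun h => absurd h hy, fun h => absurd h hx⟩
  by_cases hwy : w = y
  · subst hwy
    rw [Equiv.swap_apply_right]
    exact ⟨fun h => absurd h hx, fun h => absurd h hy⟩
  rw [Equiv.swap_apply_of_ne_of_ne hwx hwy]

/-- if a swap stabilizes `t` then its two points are both in `t` or both outside. -/
theorem hsq1_mem_iff_of_swap_smul {α : Type*} [DecidableEq α] {t : Set α} {x y : α}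
    (h : (Equiv.swap x y) • t = t) : x ∈ t ↔ y ∈ t := by
  constructor
  · intro hx
    have : (Equiv.swap x y) • x ∈ (Equiv.swap x y) • t := Set.smul_mem_smul_set hx
    rw [h, Perm.smul_def, Equiv.swap_apply_left] at this
    exact this
  · intro hy
    have : (Equiv.swap x y) • y ∈ (Equiv.swap x y) • t := Set.smul_mem_smul_set hy
    rw [h, Perm.smul_def, Equiv.swap_apply_right] at this
    exact this

/-- uniqueness of the 3-set attached to a point. -/
theorem hsq1_unique {α : Type*} [Finite α] (h8 : Nat.card α = 8) (b : α) (t t' : Set α)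
    (ht : t.ncard = 3) (ht' : t'.ncard = 3) (hbt : b ∉ t)
    (h : ∀ g : Perm α, g b = b → (g • t = t ↔ g • t' = t')) : t = t' := by
  classical
  by_contra hne
  -- a point of `t` outside `t'`
  have hnsub : ¬ t ⊆ t' := by
    intro hsub
    exact hne (Set.eq_of_subset_of_ncard_le hsub (by rw [ht, ht']) (Set.toFinite _))
  obtain ⟨x, hxt, hxt'⟩ := Set.not_subset.mp hnsub
  -- a point outside `t ∪ t' ∪ {b}`
  have hcardU : (t ∪ t' ∪ {b}).ncard < Nat.card α := by
    have h1 : (t ∪ t' ∪ {b}).ncard ≤ (t ∪ t').ncard + ({b} : Set α).ncard := Set.ncard_union_le _ _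
    have h2 : (t ∪ t').ncard ≤ t.ncard + t'.ncard := Set.ncard_union_le _ _
    rw [Set.ncard_singleton] at h1
    omega
  obtain ⟨y, hy⟩ : ∃ y, y ∉ t ∪ t' ∪ {b} := by
    by_contra hall
    push Not at hall
    have : t ∪ t' ∪ {b} = Set.univ := Set.eq_univ_of_forall hall
    rw [this, Set.ncard_univ] at hcardU
    exact lt_irrefl _ hcardU
  simp only [Set.mem_union, Set.mem_singleton_iff, not_or] at hy
  obtain ⟨⟨hyt, hyt'⟩, hyb⟩ := hy
  have hxb : x ≠ b := fun hxb => hbt (hxb ▸ hxt)
  have hfix : (Equiv.swap x y) b = b := Equiv.swap_apply_of_ne_of_ne (Ne.symm hxb) (Ne.symm hyb)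
  have h1 : (Equiv.swap x y) • t' = t' := hsq1_swap_smul_of_notMem hxt' hyt'
  have h2 := (h _ hfix).mpr h1
  exact hyt ((hsq1_mem_iff_of_swap_smul h2).mp hxt)

/-- the pure permutation-group core of Q1. -/
theorem struct8_core {α : Type*} [Finite α] (h8 : Nat.card α = 8) {H : Subgroup (Perm α)}
    (htr : IsPretransitive H α)
    (hst : ∀ a : α, ∃ t : Set α, t.ncard = 3 ∧ a ∉ t ∧
      ∀ g : Perm α, g a = a → (g ∈ H ↔ g • t = t)) :
    ∃ s : Set α, s.ncard = 4 ∧ H = partStab s := by
  classical
  choose T hT3 haT hTst using hst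
  -- Step 1: equivariance
  have hequiv : ∀ g ∈ H, ∀ a : α, T (g a) = g • T a := by
    intro g hg a
    apply hsq1_unique h8 (g a) (T (g a)) (g • T a) (hT3 _)
      (by rw [Set.ncard_smul_set]; exact hT3 a) (haT _)
    intro k hk
    rw [← hTst (g a) k hk]
    have hfix : (g⁻¹ * k * g) a = a := by
      simp [Perm.mul_apply, hk]
    have h1 : k ∈ H ↔ g⁻¹ * k * g ∈ H := by
      constructor
      · intro hkH; exact H.mul_mem (H.mul_mem (H.inv_mem hg) hkH) hg
      · intro h
        have : k = g * (g⁻¹ * k * g) * g⁻¹ := by group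
        rw [this]; exact H.mul_mem (H.mul_mem hg h) (H.inv_mem hg)
    rw [h1, hTst a _ hfix]
    constructor
    · intro h
      have : k • g • T a = g • ((g⁻¹ * k * g) • T a) := by
        rw [← mul_smul, ← mul_smul]
        have e : g * (g⁻¹ * k * g) = k * g := by group
        rw [e]
      rw [this, h]
    · intro h
      have : (g⁻¹ * k * g) • T a = g⁻¹ • (k • g • T a) := by
        rw [← mul_smul, ← mul_smul, mul_assoc]
      rw [this, h, inv_smul_smul]
  -- Step 2: the blocks
  have hB4 : ∀ a : α, (insert a (T a)).ncard = 4 := by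
    intro a
    rw [Set.ncard_insert_of_notMem (haT a) (Set.toFinite _), hT3]
  have hblock : ∀ a : α, ∀ b ∈ T a, insert b (T b) = insert a (T a) := by
    intro a b hb
    have hab : b ≠ a := fun h => haT a (h ▸ hb)
    -- the complement `u` of `insert a (T a)` has 4 elements
    have hu4 : ((insert a (T a))ᶜ).ncard = 4 := by
      rw [Set.ncard_compl, hB4, h8]
    -- `T b` is disjoint from `u`
    have hswap : ∀ x ∈ (insert a (T a))ᶜ, ∀ y ∈ (insert a (T a))ᶜ, (x ∈ T b ↔ y ∈ T b) := by
      intro x hx y hy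
      simp only [Set.mem_compl_iff, Set.mem_insert_iff, not_or] at hx hy
      have hfa : (Equiv.swap x y) a = a :=
        Equiv.swap_apply_of_ne_of_ne (Ne.symm hx.1) (Ne.symm hy.1)
      have hfb : (Equiv.swap x y) b = b :=
        Equiv.swap_apply_of_ne_of_ne (fun h => hx.2 (h ▸ hb)) (fun h => hy.2 (h ▸ hb))
      have h1 : Equiv.swap x y ∈ H := (hTst a _ hfa).mpr (hsq1_swap_smul_of_notMem hx.2 hy.2)
      exact hsq1_mem_iff_of_swap_smul ((hTst b _ hfb).mp h1)
    have hdisj : ∀ x ∈ (insert a (T a))ᶜ, x ∉ T b := by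
      intro x hx hxb
      have hsub : (insert a (T a))ᶜ ⊆ T b := fun y hy => (hswap x hx y hy).mp hxb
      have := Set.ncard_le_ncard hsub (Set.toFinite _)
      rw [hu4, hT3] at this
      omega
    have hsub : T b ⊆ (insert a (T a)) \ {b} := by
      intro x hx
      refine ⟨?_, ?_⟩
      · by_contra hxn
        exact hdisj x hxn hx
      · intro hxb
        rw [Set.mem_singleton_iff] at hxb
        exact haT b (hxb ▸ hx)
    have hbmem : b ∈ insert a (T a) := Set.mem_insert_of_mem _ hb
    have hcard : ((insert a (T a)) \ {b}).ncard = 3 := by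
      rw [Set.ncard_sdiff_singleton_of_mem hbmem, hB4]
    have heq : T b = (insert a (T a)) \ {b} :=
      Set.eq_of_subset_of_ncard_le hsub (by rw [hcard, hT3]) (Set.toFinite _)
    rw [heq, Set.insert_sdiff_singleton, Set.insert_eq_of_mem hbmem]
  have hblock' : ∀ a : α, ∀ b ∈ insert a (T a), insert b (T b) = insert a (T a) := by
    intro a b hb
    rcases hb with rfl | hb
    · rfl
    · exact hblock a b hb
  have hBequiv : ∀ g ∈ H, ∀ a : α, g • (insert a (T a)) = insert (g a) (T (g a)) := by
    intro g hg a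
    rw [Set.smul_set_insert, hequiv g hg a]
    rfl
  -- Step 3: choose a base point
  have : Nonempty α := by
    rw [← Finite.card_pos_iff, h8]; norm_num
  obtain ⟨a0⟩ := this
  set s : Set α := insert a0 (T a0) with hs
  have hs4 : s.ncard = 4 := hB4 a0
  have hsc4 : sᶜ.ncard = 4 := by rw [Set.ncard_compl, hs4, h8]
  have hle : H ≤ partStab s := by
    intro g hg
    rw [hsq1_mem_partStab]
    have hgs : g • s = insert (g a0) (T (g a0)) := hBequiv g hg a0
    by_cases hmem : g a0 ∈ s
    · left
      rw [hgs]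
      exact hblock' a0 (g a0) hmem
    · right
      have hsub : g • s ⊆ sᶜ := by
        intro y hy hys
        rw [hgs] at hy
        have e1 := hblock' (g a0) y hy
        have e2 := hblock' a0 y hys
        apply hmem
        have : g a0 ∈ insert (g a0) (T (g a0)) := Set.mem_insert _ _
        rw [← e1, e2] at this
        exact this
      exact Set.eq_of_subset_of_ncard_le hsub (by rw [hsc4, Set.ncard_smul_set, hs4])
        (Set.toFinite _)
  refine ⟨s, hs4, le_antisymm hle ?_⟩
  -- Step 4: `partStab s ≤ H`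
  intro g hg
  obtain ⟨⟨h, hh⟩, hha⟩ := htr.exists_smul_eq a0 (g a0)
  have hha' : h a0 = g a0 := hha
  set k : Perm α := h⁻¹ * g with hk
  have hkfix : k a0 = a0 := by
    rw [hk, Perm.mul_apply, ← hha']
    simp
  have hkP : k ∈ partStab s := (partStab s).mul_mem ((partStab s).inv_mem (hle hh)) hg
  have hks : k • s = s := by
    rcases (hsq1_mem_partStab k).mp hkP with h1 | h1
    · exact h1
    · exfalso
      have h2 : k • a0 ∈ k • s := Set.smul_mem_smul_set (Set.mem_insert _ _)
      rw [h1, Perm.smul_def, hkfix] at h2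
      exact h2 (Set.mem_insert _ _)
  have hkT : k • T a0 = T a0 := by
    have e : T a0 = s \ {a0} := by
      rw [hs, Set.insert_sdiff_self_of_notMem (haT a0)]
    have e2 : k • (s \ {a0}) = k • s \ k • ({a0} : Set α) := Set.smul_set_sdiff
    rw [e, e2, hks, Set.smul_set_singleton, Perm.smul_def, hkfix]
  have hkH : k ∈ H := (hTst a0 k hkfix).mpr hkT
  have : g = h * k := by rw [hk]; group
  rw [this]
  exact H.mul_mem hh hkH

/-- **Q1**: Hall `{2,3}`-subgroups of `S_8`. -/
theorem struct8 {α : Type} [Finite α] (h8 : Nat.card α = 8) {π : Set ℕ} (h23 : TwoThree π 8)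
    {H : Subgroup (Perm α)} (hH : Cfsg.IsPiHall π H) :
    ∃ s : Set α, s.ncard = 4 ∧ H = partStab s := by
  classical
  have h2π : 2 ∈ π := (h23 2 Nat.prime_two (by norm_num)).mpr (Or.inl rfl)
  have h3π : 3 ∈ π := (h23 3 Nat.prime_three (by norm_num)).mpr (Or.inr rfl)
  have h5π : 5 ∉ π := fun h => by
    have := (h23 5 (by norm_num) (by norm_num)).mp h
    omega
  have : Nonempty α := by
    rw [← Finite.card_pos_iff, h8]; norm_num
  -- `H` is transitive
  have htr : IsPretransitive H α := by
    by_contra hnt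
    obtain ⟨s, hs, hs1, hs2⟩ := Cfsg.Agent.Lib.H27.HS.exists_invariant_set H hnt
    have hfree := Cfsg.Agent.Lib.H1.HS.hall_piFree_index_of_le hH hs
    rw [Cfsg.Agent.Lib.H24.HS.index_stabilizer_set, h8] at hfree
    have hk : s.ncard = 1 ∨ s.ncard = 2 ∨ s.ncard = 3 ∨ s.ncard = 4 := by omega
    have h2 : 2 ∣ (8 : ℕ).choose s.ncard := by
      rcases hk with h | h | h | h <;> rw [h] <;> decide
    exact hfree 2 Nat.prime_two h2π h2
  apply struct8_core h8 htr
  intro a
  have hcard : Nat.card {x : α // x ≠ a} = 7 := by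
    have h0 : Nat.card {x : α // x ≠ a} = ({a}ᶜ : Set α).ncard := by
      rw [← Nat.card_coe_set_eq]; rfl
    rw [h0, Set.ncard_compl, Set.ncard_singleton, h8]
  have hHa := Cfsg.Agent.Lib.H24.HS.hall_ptRes hH htr a
  have hc : Concl π (ptRes H a) := main_aux 7 _ hcard π (ptRes H a) hHa
  rw [Concl, hcard] at hc
  rcases hc with hc | hc | ⟨hc, _⟩ | ⟨_, _, t, ht3, hteq⟩ | ⟨hc, _⟩
  · exact absurd (hc 2 3 Nat.prime_two Nat.prime_three h2π h3π (by norm_num) (by norm_num))
      (by norm_num)
  · exact absurd (hc 5 (by norm_num) (by norm_num)) h5π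
  · exact absurd ((hc.2 5 (by norm_num) (by norm_num)).mpr (by norm_num)) h5π
  · refine ⟨Subtype.val '' t, ?_, ?_, Cfsg.Agent.Lib.H24.HS.ptRes_eq_stabilizer_set hteq⟩
    · rw [Set.ncard_image_of_injective _ Subtype.val_injective, ht3]
    · rintro ⟨⟨x, hx⟩, _, hxa⟩
      exact hx hxa
  · omega

end Cfsg.Agent.Lib.H25.HS
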