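import Cfsg.Agent.Lib.H25.HTPAIR

set_option autoImplicit false

/-!
# S3371 (Passman), piece CARD: `|C_V(b)| = 2 ^ k + 1` and `|V| = |C_V(b)| ^ 2` (helper25)

`V` is the direct sum of the two eigenspaces of the involution `b` (no division: the two maps
`(u, w) ↦ u + w` and `v ↦ (v + b v, v - b v)` are injective), `t` interchanges the eigenspaces, and the
centraliser of `b` (a 2-group) is transitive on `C_V(b) ∖ 0` by the swapping elements.
-/

namespace Cfsg.Agent.Lib.H25.HT

open Cfsg.Agent.Lib.H4.HT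

variable {q : ℕ} {V : Type*} [AddCommGroup V] [Module (ZMod q) V] {G : Type*} [Group G]

theorem card_two_torsion [Fact q.Prime] (hq2 : 2 ≠ q) (v : V) (h : v + v = 0) : v = 0 := by
  apply pair_smul_eq_zero Nat.prime_two hq2 v
  rw [two_smul]
  exact h

/-- `t b t⁻¹ = b z`, `z = -1`: `b (t v) = - t (b v)` -/
theorem card_swap (ρ : G →* (V ≃ₗ[ZMod q] V)) (z b t : G) (hzneg : ∀ v : V, ρ z v = -v)
    (ht : t * b * t⁻¹ = b * z) (v : V) : ρ b (ρ t v) = -(ρ t (ρ b v)) := by
  have h1 : t * b = b * z * t := by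
    calc t * b = (t * b * t⁻¹) * t := by group
      _ = b * z * t := by rw [ht]
  have h2 : ρ (t * b) v = ρ (b * z * t) v := by rw [h1]
  rw [rho_mul, rho_mul, rho_mul, hzneg, map_neg] at h2
  rw [h2, neg_neg]

/-- the two eigenspaces of `b` have the same cardinality -/
theorem card_eigen_eq [Finite V] (ρ : G →* (V ≃ₗ[ZMod q] V)) (z b t : G)
    (hzneg : ∀ v : V, ρ z v = -v) (ht : t * b * t⁻¹ = b * z) :
    Nat.card {w : V // ρ b w = w} = Nat.card {w : V // ρ b w = -w} := by
  apply le_antisymm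
  · apply Nat.card_le_card_of_injective
      (fun w : {w : V // ρ b w = w} => (⟨ρ t w.1, by
        rw [card_swap ρ z b t hzneg ht, w.2]⟩ : {w : V // ρ b w = -w}))
    intro w w' h
    have := congrArg Subtype.val h
    exact Subtype.ext ((ρ t).injective this)
  · apply Nat.card_le_card_of_injective
      (fun w : {w : V // ρ b w = -w} => (⟨ρ t w.1, by
        rw [card_swap ρ z b t hzneg ht, w.2, map_neg, neg_neg]⟩ : {w : V // ρ b w = w}))
    intro w w' h
    have := congrArg Subtype.val h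
    exact Subtype.ext ((ρ t).injective this)

/-- `|V| = |V₊| * |V₋|` -/
theorem card_eq_mul [Fact q.Prime] [Finite V] (hq2 : 2 ≠ q) (ρ : G →* (V ≃ₗ[ZMod q] V)) (b : G)
    (hb2 : b * b = 1) :
    Nat.card V = Nat.card {w : V // ρ b w = w} * Nat.card {w : V // ρ b w = -w} := by
  have hbb : ∀ v : V, ρ b (ρ b v) = v := by
    intro v
    rw [← rho_mul, hb2, rho_one]
  rw [← Nat.card_prod]
  apply le_antisymm
  · apply Nat.card_le_card_of_injective
      (fun v : V => ((⟨v + ρ b v, by rw [map_add, hbb, add_comm]⟩ : {w : V // ρ b w = w}),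
        (⟨v - ρ b v, by rw [map_sub, hbb, neg_sub]⟩ : {w : V // ρ b w = -w})))
    intro v v' h
    have h1 : v + ρ b v = v' + ρ b v' := congrArg (fun p => (p.1 : V)) h
    have h2 : v - ρ b v = v' - ρ b v' := congrArg (fun p => (p.2 : V)) h
    have h3 : (v - v') + (v - v') = 0 := by
      have : (v + ρ b v) + (v - ρ b v) = (v' + ρ b v') + (v' - ρ b v') := by rw [h1, h2]
      have h4 : v + v = v' + v' := by
        have e1 : (v + ρ b v) + (v - ρ b v) = v + v := by abel
        have e2 : (v' + ρ b v') + (v' - ρ b v') = v' + v' := by abel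
        rw [e1, e2] at this
        exact this
      calc (v - v') + (v - v') = (v + v) - (v' + v') := by abel
        _ = 0 := by rw [h4, sub_self]
    exact sub_eq_zero.mp (card_two_torsion hq2 _ h3)
  · apply Nat.card_le_card_of_injective
      (fun p : {w : V // ρ b w = w} × {w : V // ρ b w = -w} => (p.1.1 + p.2.1 : V))
    rintro ⟨⟨u, hu⟩, ⟨w, hw⟩⟩ ⟨⟨u', hu'⟩, ⟨w', hw'⟩⟩ h
    have h : u + w = u' + w' := h
    -- `x = u - u' = w' - w` is fixed and negated by `b`
    have hx1 : ρ b (u - u') = u - u' := by rw [map_sub, hu, hu']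
    have hx2 : u - u' = w' - w := by
      calc u - u' = (u + w) - u' - w := by abel
        _ = (u' + w') - u' - w := by rw [h]
        _ = w' - w := by abel
    have hx3 : ρ b (u - u') = -(u - u') := by
      rw [hx2, map_sub, hw, hw']
      abel
    have hx4 : (u - u') + (u - u') = 0 := by
      have : u - u' = -(u - u') := by rw [← hx3, hx1]
      calc (u - u') + (u - u') = (u - u') + -(u - u') := by rw [← this]
        _ = 0 := by abel
    have hu0 : u = u' := sub_eq_zero.mp (card_two_torsion hq2 _ hx4)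
    have hw0 : w = w' := by
      subst hu0
      exact add_left_cancel h
    subst hu0
    subst hw0
    rfl

/-- **CARD** -/
theorem two_card [Fact q.Prime] [Finite V] [Finite G] (hG : IsPGroup 2 G) (hq2 : 2 ≠ q)
    (ρ : G →* (V ≃ₗ[ZMod q] V)) (z b : G) (hz : z ∈ Subgroup.center G) (hzneg : ∀ v : V, ρ z v = -v)
    (hb2 : b * b = 1) (hconj : ∀ g : G, g * b * g⁻¹ = b ∨ g * b * g⁻¹ = b * z)
    (hw : ∃ w : V, w ≠ 0 ∧ ρ b w = w) (ht : ∃ t : G, t * b * t⁻¹ = b * z)
    (hstar : ∀ w₁ w₂ : V, w₁ ≠ 0 → w₂ ≠ 0 → ρ b w₁ = w₁ → ρ b w₂ = -w₂ →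
      ∃ x : G, x * b * x⁻¹ = b * z ∧ ρ x w₁ = w₂ ∧ ρ x w₂ = w₁) :
    ∃ k : ℕ, Nat.card {w : V // ρ b w = w} = 2 ^ k + 1 ∧
      Nat.card V = Nat.card {w : V // ρ b w = w} ^ 2 := by
  obtain ⟨t, ht⟩ := ht
  obtain ⟨w₀, hw₀, hbw₀⟩ := hw
  have hsq : Nat.card V = Nat.card {w : V // ρ b w = w} ^ 2 := by
    rw [card_eq_mul hq2 ρ b hb2, ← card_eigen_eq ρ z b t hzneg ht, sq]
  -- the action of `G` on `V`
  let act : MulAction G V := MulAction.compHom V ρ
  have hsmul : ∀ (g : G) (v : V), g • v = ρ g v := fun _ _ => rfl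
  let C : Subgroup G := Subgroup.centralizer {b}
  have hC : ∀ g : G, g ∈ C ↔ g * b = b * g := by
    intro g
    constructor
    · intro h
      exact (Subgroup.mem_centralizer_iff.mp h b rfl).symm
    · intro h
      apply Subgroup.mem_centralizer_iff.mpr
      intro y hy
      rw [Set.mem_singleton_iff.mp hy]
      exact h.symm
  have hsmulC : ∀ (g : C) (v : V), g • v = ρ (g : G) v := fun _ _ => rfl
  -- the orbit of `w₀` under `C`
  have horb : MulAction.orbit C w₀ = {w : V | ρ b w = w ∧ w ≠ 0} := by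
    ext w
    constructor
    · rintro ⟨g, rfl⟩
      have hg := (hC g.1).mp g.2
      change ρ b (g • w₀) = g • w₀ ∧ g • w₀ ≠ 0
      rw [hsmulC]
      constructor
      · rw [← rho_mul, ← hg, rho_mul, hbw₀]
      · intro h0
        apply hw₀
        have := (ρ (g : G)).injective (h0.trans (map_zero (ρ (g : G))).symm)
        exact this
    · rintro ⟨hbw, hw0⟩
      -- a vector of the other eigenspace
      have hw₂ : ρ b (ρ t w₀) = -(ρ t w₀) := by rw [card_swap ρ z b t hzneg ht, hbw₀]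
      have hw₂0 : ρ t w₀ ≠ 0 := by
        intro h0
        apply hw₀
        exact (ρ t).injective (h0.trans (map_zero (ρ t)).symm)
      obtain ⟨x, hx, hx1, -⟩ := hstar w₀ (ρ t w₀) hw₀ hw₂0 hbw₀ hw₂
      obtain ⟨x', hx', hx1', -⟩ := hstar w (ρ t w₀) hw0 hw₂0 hbw hw₂
      have hxb : x * b = b * z * x := by
        calc x * b = (x * b * x⁻¹) * x := by group
          _ = b * z * x := by rw [hx]
      have hxb' : x'⁻¹ * (b * z) = b * x'⁻¹ := by
        rw [← hx']
        group
      have hmem : x'⁻¹ * x ∈ C := by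
        rw [hC]
        calc x'⁻¹ * x * b = x'⁻¹ * (x * b) := by group
          _ = x'⁻¹ * (b * z * x) := by rw [hxb]
          _ = (x'⁻¹ * (b * z)) * x := by group
          _ = b * x'⁻¹ * x := by rw [hxb']
          _ = b * (x'⁻¹ * x) := by group
      refine ⟨⟨x'⁻¹ * x, hmem⟩, ?_⟩
      change (⟨x'⁻¹ * x, hmem⟩ : C) • w₀ = w
      rw [hsmulC]
      change ρ (x'⁻¹ * x) w₀ = w
      rw [rho_mul, hx1, ← hx1', rho_inv_apply]
  obtain ⟨k, hk⟩ := (hG.to_subgroup C).card_orbit w₀
  refine ⟨k, ?_, hsq⟩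
  have hset : {w : V | ρ b w = w} = insert 0 (MulAction.orbit C w₀) := by
    rw [horb]
    ext w
    simp only [Set.mem_ofPred_eq, Set.mem_insert_iff]
    constructor
    · intro h
      by_cases h0 : w = 0
      · exact Or.inl h0
      · exact Or.inr ⟨h, h0⟩
    · rintro (h | h)
      · rw [h, map_zero]
      · exact h.1
  have h0 : (0 : V) ∉ MulAction.orbit C w₀ := by
    rw [horb]
    intro h
    exact h.2 rfl
  have hcard : Nat.card {w : V // ρ b w = w} = ({w : V | ρ b w = w} : Set V).ncard :=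
    _root_.Nat.card_coe_set_eq _
  rw [hcard, hset, Set.ncard_insert_of_notMem h0 (Set.toFinite _), ← _root_.Nat.card_coe_set_eq, hk]

end Cfsg.Agent.Lib.H25.HT
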