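import Cfsg.Agent.Lib.H3.J3Main3
import Cfsg.Agent.Lib.H3.J3TransportU
import Cfsg.Agent.Lib.H3.CenterIso
import Cfsg.Prelude.Def_KGroupFacts

/-! # S2041 (M(J3) = C3): the data-independent pieces (existence half + transport) -/

set_option autoImplicit false
set_option linter.style.haveILetI false

namespace Cfsg.Agent.Lib.H25.J3S

open Cfsg.Agent.Lib.H3.J3 (TJ)
open scoped commutatorElement

universe u

/-- A finite simple group of non-prime order is perfect. -/
theorem commutator_eq_top_of_simple {Q : Type*} [Group Q] [Finite Q] [IsSimpleGroup Q]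
    (hnp : ¬ (Nat.card Q).Prime) : commutator Q = ⊤ := by
  rcases IsSimpleGroup.eq_bot_or_eq_top_of_normal (commutator Q) inferInstance with h | h
  · exfalso
    apply hnp
    have hcomm : ∀ a b : Q, a * b = b * a := by
      intro a b
      have hab : ⁅a, b⁆ ∈ commutator Q := Subgroup.commutator_mem_commutator (Subgroup.mem_top a)
        (Subgroup.mem_top b)
      rw [h, Subgroup.mem_bot, commutatorElement_eq_one_iff_mul_comm] at hab
      exact hab
    letI : CommGroup Q := { (inferInstance : Group Q) with mul_comm := hcomm }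
    exact (IsSimpleGroup.prime_card (α := Q))
  · exact h

/-- Perfectness passes along a surjection with central kernel generated away:
if `G / Z` is perfect, `Z` has prime order `p`, and `G` is generated by elements `x` with
`x ^ m = 1`, `m` coprime to `p`, then `G` is perfect. -/
theorem perfect_of_quot {G : Type*} [Group G] [Finite G] (Z : Subgroup G) [Z.Normal]
    (hQ : commutator (G ⧸ Z) = ⊤) (m : ℕ) (hcop : (Nat.card Z).Coprime m)
    (hgen : Subgroup.closure {x : G | x ^ m = 1} = ⊤) : commutator G = ⊤ := by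
  -- `commutator G ⊔ Z = ⊤`
  have hsup : commutator G ⊔ Z = ⊤ := by
    have hmap : (commutator G).map (QuotientGroup.mk' Z) = ⊤ := by
      rw [commutator_def, Subgroup.map_commutator, ← MonoidHom.range_eq_map,
        MonoidHom.range_eq_top.mpr (QuotientGroup.mk'_surjective Z), ← commutator_def, hQ]
    have := congrArg (Subgroup.comap (QuotientGroup.mk' Z)) hmap
    rw [Subgroup.comap_map_eq, QuotientGroup.ker_mk', Subgroup.comap_top] at this
    exact this
  -- every generator lies in `commutator G`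
  rw [eq_top_iff, ← hgen, Subgroup.closure_le]
  intro x hx
  have hx : x ^ m = 1 := hx
  -- x = c * z with c ∈ commutator, z ∈ Z
  have hxmem : x ∈ commutator G ⊔ Z := hsup ▸ Subgroup.mem_top x
  haveI : (commutator G).Normal := inferInstance
  -- work in the abelian quotient `G ⧸ commutator G`
  have hqz : ∀ y : G, y ∈ commutator G ⊔ Z → ((y : G) : G ⧸ commutator G) ^ Nat.card Z = 1 := by
    intro y hy
    rw [Subgroup.mem_sup_of_normal_right] at hy
    obtain ⟨c, hc, z, hz, rfl⟩ := hy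
    have h1 : ((c : G) : G ⧸ commutator G) = 1 := (QuotientGroup.eq_one_iff c).mpr hc
    have h2 : z ^ Nat.card Z = 1 :=
      orderOf_dvd_iff_pow_eq_one.mp (Subgroup.orderOf_dvd_natCard Z hz)
    rw [QuotientGroup.mk_mul, h1, one_mul, ← QuotientGroup.mk_pow, h2]
    rfl
  have h1 : ((x : G) : G ⧸ commutator G) ^ Nat.card Z = 1 := hqz x hxmem
  have h2 : ((x : G) : G ⧸ commutator G) ^ m = 1 := by
    rw [← QuotientGroup.mk_pow, hx]; rfl
  have h3 : orderOf ((x : G) : G ⧸ commutator G) ∣ Nat.gcd (Nat.card Z) m :=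
    Nat.dvd_gcd (orderOf_dvd_of_pow_eq_one h1) (orderOf_dvd_of_pow_eq_one h2)
  rw [hcop, Nat.dvd_one, orderOf_eq_one_iff] at h3
  exact (QuotientGroup.eq_one_iff x).mp h3

/-- X1a: `3·J₃` (concrete) is perfect. -/
theorem TJ_perfect : commutator TJ = ⊤ := by
  haveI := Cfsg.Agent.Lib.H3.J3.simple_quot
  have hQ : commutator (TJ ⧸ Subgroup.center TJ) = ⊤ := by
    apply commutator_eq_top_of_simple
    rw [Cfsg.Agent.Lib.H3.J3.card_quot]
    norm_num
  refine perfect_of_quot (Subgroup.center TJ) hQ 19 ?_ Cfsg.Agent.Lib.H3.J3.gen19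
  rw [Cfsg.Agent.Lib.H3.J3.card_center]
  norm_num

/-- perfectness is transported along an isomorphism -/
theorem commutator_eq_top_of_mulEquiv {G H : Type*} [Group G] [Group H] (e : G ≃* H)
    (h : commutator G = ⊤) : commutator H = ⊤ := by
  have := congrArg (Subgroup.map e.toMonoidHom) h
  rw [commutator_def, Subgroup.map_commutator, ← MonoidHom.range_eq_map,
    MonoidHom.range_eq_top.mpr e.surjective, ← commutator_def] at this
  exact this

/-- a group of order `3` is isomorphic to `Multiplicative (ZMod 3)` -/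
theorem nonempty_mulEquiv_zmod3 {K : Type*} [Group K] (h : Nat.card K = 3) :
    Nonempty (K ≃* Multiplicative (ZMod 3)) := by
  haveI : Fact (Nat.Prime 3) := ⟨by norm_num⟩
  have h2 : Nat.card (Multiplicative (ZMod 3)) = 3 := by
    rw [Nat.card_eq_fintype_card]; rfl
  exact ⟨mulEquivOfPrimeCardEq (p := 3) h h2⟩

/-- X1b: the existence half, over any field with four elements (any universe). -/
theorem exists_cover {F : Type u} [Field F] [Fintype F] (hF : Fintype.card F = 4) (ω : F)
    (hω : ω ^ 2 + ω + 1 = 0) :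
    ∃ (Γ : Type u) (_ : Group Γ) (_ : Finite Γ) (σ : Γ →* Cfsg.Spor.J3 F ω),
      Cfsg.IsStemExtension σ ∧ Nonempty (σ.ker ≃* Multiplicative (ZMod 3)) := by
  have e := Cfsg.Agent.Lib.H3.J3TU.equivConcrete F hF ω hω
  haveI : Finite ↥(Cfsg.Spor.threeJ3 F ω) := Finite.of_equiv _ e.toEquiv
  refine ⟨↥(Cfsg.Spor.threeJ3 F ω), inferInstance, inferInstance,
    QuotientGroup.mk' (Subgroup.center ↥(Cfsg.Spor.threeJ3 F ω)), ⟨?_, ?_, ?_⟩, ?_⟩
  · exact QuotientGroup.mk'_surjective _
  · rw [QuotientGroup.ker_mk']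
  · rw [commutator_eq_top_of_mulEquiv e TJ_perfect]
    exact le_top
  · rw [QuotientGroup.ker_mk']
    apply nonempty_mulEquiv_zmod3
    rw [← Cfsg.Agent.Lib.H3.CenterIso.card_center_congr e]
    exact Cfsg.Agent.Lib.H3.J3.card_center

/-- the surjection `Multiplicative (ZMod 3) →* zpowers z` for `z ^ 3 = 1` -/
theorem exists_surj_zmod3 {Γ : Type*} [Group Γ] (K : Subgroup Γ) (z : Γ) (h3 : z ^ 3 = 1)
    (hK : K = Subgroup.zpowers z) :
    ∃ π : Multiplicative (ZMod 3) →* K, Function.Surjective π := by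
  subst hK
  let zz : Subgroup.zpowers z := ⟨z, Subgroup.mem_zpowers z⟩
  have hzz : zz ^ 3 = 1 := Subtype.ext h3
  let f : Multiplicative (ZMod 3) →* Subgroup.zpowers z :=
    { toFun := fun m => zz ^ (Multiplicative.toAdd m).val
      map_one' := by simp
      map_mul' := by
        intro a b
        change zz ^ (Multiplicative.toAdd a + Multiplicative.toAdd b).val = _
        rw [ZMod.val_add, ← pow_eq_pow_mod _ hzz, pow_add] }
  refine ⟨f, ?_⟩
  rintro ⟨y, hy⟩
  have hfo : IsOfFinOrder z := isOfFinOrder_iff_pow_eq_one.2 ⟨3, by norm_num, h3⟩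
  obtain ⟨n, rfl⟩ := (IsOfFinOrder.mem_powers_iff_mem_zpowers hfo).2 hy
  refine ⟨Multiplicative.ofAdd (n : ZMod 3), ?_⟩
  change zz ^ ((n : ZMod 3)).val = _
  rw [ZMod.val_natCast, ← pow_eq_pow_mod _ hzz]
  rfl

/-- X1c: transport of the upper bound from the concrete group. -/
theorem upper_transport {F : Type u} [Field F] [Fintype F] (hF : Fintype.card F = 4) (ω : F)
    (hω : ω ^ 2 + ω + 1 = 0)
    (hup : ∀ (Γ : Type u) [Group Γ] [Finite Γ] (σ : Γ →* (TJ ⧸ Subgroup.center TJ)),
      Cfsg.IsStemExtension σ → ∃ z : Γ, z ^ 3 = 1 ∧ σ.ker = Subgroup.zpowers z) :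
    ∀ (Γ : Type u) [Group Γ] [Finite Γ] (σ : Γ →* Cfsg.Spor.J3 F ω), Cfsg.IsStemExtension σ →
      ∃ π : Multiplicative (ZMod 3) →* σ.ker, Function.Surjective π := by
  intro Γ _ _ σ hσ
  have e := Cfsg.Agent.Lib.H3.J3TU.equivConcrete F hF ω hω
  let eq : (↥(Cfsg.Spor.threeJ3 F ω) ⧸ Subgroup.center ↥(Cfsg.Spor.threeJ3 F ω)) ≃*
      (TJ ⧸ Subgroup.center TJ) := Cfsg.Agent.Lib.H3.CenterIso.quotCenterCongr e.symm
  let σ' : Γ →* (TJ ⧸ Subgroup.center TJ) := eq.toMonoidHom.comp σ
  have hker : σ'.ker = σ.ker := by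
    ext x
    simp only [MonoidHom.mem_ker, σ', MonoidHom.comp_apply, MulEquiv.coe_toMonoidHom,
      EmbeddingLike.map_eq_one_iff]
  have hσ' : Cfsg.IsStemExtension σ' := by
    refine ⟨?_, ?_, ?_⟩
    · exact eq.surjective.comp hσ.1
    · rw [hker]; exact hσ.2.1
    · rw [hker]; exact hσ.2.2
  obtain ⟨z, hz3, hzk⟩ := hup Γ σ' hσ'
  exact exists_surj_zmod3 σ.ker z hz3 (hker.symm.trans hzk)

/-- X1d: the statement from the upper bound for the concrete group. -/
theorem main_of_upper {F : Type u} [Field F] [Fintype F] (hF : Fintype.card F = 4) (ω : F)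
    (hω : ω ^ 2 + ω + 1 = 0)
    (hup : ∀ (Γ : Type u) [Group Γ] [Finite Γ] (σ : Γ →* (TJ ⧸ Subgroup.center TJ)),
      Cfsg.IsStemExtension σ → ∃ z : Γ, z ^ 3 = 1 ∧ σ.ker = Subgroup.zpowers z) :
    Cfsg.HasCyclicSchurMultiplier (Cfsg.Spor.J3 F ω) 3 :=
  ⟨exists_cover hF ω hω, upper_transport hF ω hω hup⟩

end Cfsg.Agent.Lib.H25.J3S
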