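import Mathlib
import Cfsg.Prelude.Def_CaseTheorems
import Cfsg.Prelude.Def_TwoFusion
import Cfsg.Agent.Lib.H5.PSL2KleinNorm

/-!
# S3206 piece PSL2F : facts on `PSL₂(F)`, `|F|` odd `> 3`, all 2-subgroups abelian

Centre and odd core are trivial (simplicity + even order), and a Klein four-subgroup is a
self-centralizing Sylow 2-subgroup of exponent 2.
-/

set_option autoImplicit false
set_option linter.style.haveILetI false

namespace Cfsg.Agent.Lib.H25.JRPSL2F

/-- the `p'`-core of a simple group whose order is divisible by `p` is trivial -/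
theorem pPrimeCore_eq_bot_of_simple {G : Type*} [Group G] [IsSimpleGroup G] (p : ℕ)
    (hp : ¬ (Nat.card G).Coprime p) : Cfsg.pPrimeCore p G = ⊥ := by
  rw [eq_bot_iff]
  unfold Cfsg.pPrimeCore
  apply sSup_le
  rintro N ⟨hN, hcop⟩
  rcases hN.eq_bot_or_eq_top with h | h
  · rw [h]
  · exfalso
    apply hp
    rw [h, Subgroup.card_top] at hcop
    exact hcop

/-- the centre of a simple group containing two non-commuting... here: with a subgroup which is
not central -/
theorem center_eq_bot_of_simple {G : Type*} [Group G] [IsSimpleGroup G]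
    (h : ¬ ∀ a b : G, a * b = b * a) : Subgroup.center G = ⊥ := by
  rcases (inferInstance : (Subgroup.center G).Normal).eq_bot_or_eq_top with h1 | h1
  · exact h1
  · exfalso
    apply h
    intro a b
    have hb : b ∈ Subgroup.center G := by rw [h1]; exact Subgroup.mem_top b
    exact Subgroup.mem_center_iff.mp hb a

theorem PSL2F {F : Type*} [Field F] [Fintype F] (hFo : Odd (Fintype.card F)) (hF3 : 3 < Fintype.card F)
    (hab : ∀ Q : Subgroup (Matrix.ProjectiveSpecialLinearGroup (Fin 2) F), IsPGroup 2 ↥Q →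
      ∀ a ∈ Q, ∀ b ∈ Q, a * b = b * a) :
    Subgroup.center (Matrix.ProjectiveSpecialLinearGroup (Fin 2) F) = ⊥ ∧
    Cfsg.pPrimeCore 2 (Matrix.ProjectiveSpecialLinearGroup (Fin 2) F) = ⊥ ∧
    ∃ P : Sylow 2 (Matrix.ProjectiveSpecialLinearGroup (Fin 2) F),
      Nat.card ↥(P : Subgroup (Matrix.ProjectiveSpecialLinearGroup (Fin 2) F)) = 4 ∧
      (∀ v ∈ (P : Subgroup (Matrix.ProjectiveSpecialLinearGroup (Fin 2) F)), v * v = 1) ∧
      Subgroup.centralizer ((P : Subgroup (Matrix.ProjectiveSpecialLinearGroup (Fin 2) F)) :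
        Set (Matrix.ProjectiveSpecialLinearGroup (Fin 2) F)) ≤
        (P : Subgroup (Matrix.ProjectiveSpecialLinearGroup (Fin 2) F)) := by
  classical
  have h2 : (2 : F) ≠ 0 := Cfsg.Agent.Lib.H12.two_ne_zero_of_odd hFo
  haveI : IsSimpleGroup (Matrix.ProjectiveSpecialLinearGroup (Fin 2) F) :=
    Matrix.ProjectiveSpecialLinearGroup.rank_two_simple
      (by rw [Nat.card_eq_fintype_card]; omega)
  obtain ⟨V, hV⟩ := Cfsg.Agent.Lib.H5.PSL2KleinNorm.exists_klein hFo
  have hVc := Cfsg.Agent.Lib.H5.PSL2KleinNorm.centralizer_klein_le h2 V hV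
  have hV4 : Nat.card ↥V = 4 := hV.card_four
  have hVexp : Monoid.exponent ↥V = 2 := hV.exponent_two
  -- V is a 2-group
  have hVp : IsPGroup 2 ↥V := by
    apply IsPGroup.of_card (n := 2)
    rw [hV4]; norm_num
  obtain ⟨P, hVP⟩ := hVp.exists_le_sylow
  -- P is abelian, so P ≤ C(V) ≤ V
  have hPV : (P : Subgroup (Matrix.ProjectiveSpecialLinearGroup (Fin 2) F)) ≤ V := by
    intro x hx
    apply hVc
    rw [Subgroup.mem_centralizer_iff]
    intro v hv
    exact hab P P.isPGroup' v (hVP hv) x hx
  have hPeq : (P : Subgroup (Matrix.ProjectiveSpecialLinearGroup (Fin 2) F)) = V :=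
    le_antisymm hPV hVP
  -- the order is even
  have heven : ¬ (Nat.card (Matrix.ProjectiveSpecialLinearGroup (Fin 2) F)).Coprime 2 := by
    intro hcop
    have hdvd : Nat.card ↥V ∣ Nat.card (Matrix.ProjectiveSpecialLinearGroup (Fin 2) F) :=
      Subgroup.card_subgroup_dvd_card V
    rw [hV4] at hdvd
    have h2dvd : 2 ∣ Nat.card (Matrix.ProjectiveSpecialLinearGroup (Fin 2) F) :=
      dvd_trans (by norm_num) hdvd
    have := Nat.Coprime.eq_one_of_dvd hcop.symm h2dvd
    omega
  -- not commutative: otherwise C(V) = ⊤ ≤ V, card = 4, but simple of order 4 is impossible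
  have hnc : ¬ ∀ a b : Matrix.ProjectiveSpecialLinearGroup (Fin 2) F, a * b = b * a := by
    intro hcomm
    have htop : (⊤ : Subgroup (Matrix.ProjectiveSpecialLinearGroup (Fin 2) F)) ≤ V := by
      intro x _
      apply hVc
      rw [Subgroup.mem_centralizer_iff]
      intro v _
      exact hcomm v x
    have hVtop : V = ⊤ := top_le_iff.mp htop
    -- a nontrivial element v of V generates a normal subgroup of order 2, neither ⊥ nor ⊤
    obtain ⟨v, hv1⟩ : ∃ v : ↥V, v ≠ 1 := by
      haveI : Nontrivial ↥V := by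
        rw [← Finite.one_lt_card_iff_nontrivial, hV4]; norm_num
      exact exists_ne 1
    have hvv : v * v = 1 := by
      have := Monoid.pow_exponent_eq_one (G := ↥V) v
      rw [hVexp, pow_two] at this
      exact this
    have hnormal : (Subgroup.zpowers (v : Matrix.ProjectiveSpecialLinearGroup (Fin 2) F)).Normal := by
      constructor
      intro n hn g
      have : g * n * g⁻¹ = n := by
        rw [hcomm g n, mul_assoc, mul_inv_cancel, mul_one]
      rw [this]; exact hn
    have hord : orderOf (v : Matrix.ProjectiveSpecialLinearGroup (Fin 2) F) = 2 := by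
      apply orderOf_eq_prime
      · rw [pow_two]
        have := congrArg Subtype.val hvv
        simpa using this
      · intro h
        apply hv1
        exact Subtype.ext h
    have hcardz : Nat.card ↥(Subgroup.zpowers (v : Matrix.ProjectiveSpecialLinearGroup (Fin 2) F)) = 2 := by
      rw [Nat.card_zpowers, hord]
    rcases hnormal.eq_bot_or_eq_top with h | h
    · rw [h, Subgroup.card_bot] at hcardz; omega
    · rw [h, ← hVtop, hV4] at hcardz; omega
  refine ⟨center_eq_bot_of_simple hnc, pPrimeCore_eq_bot_of_simple 2 heven, P, ?_, ?_, ?_⟩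
  · rw [hPeq]; exact hV4
  · intro v hv
    rw [hPeq] at hv
    have := Monoid.pow_exponent_eq_one (G := ↥V) ⟨v, hv⟩
    rw [hVexp, pow_two] at this
    have := congrArg Subtype.val this
    simpa using this
  · rw [hPeq]; exact hVc

end Cfsg.Agent.Lib.H25.JRPSL2F
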