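import Mathlib

/-!
# S3805 piece ALG2 (helper25): the arithmetic for three characters

With `τ_k = a_k t_k`, `β_k = a_k b_k`, `s_k = a_k u_k` the four equations are linear in `s`; the
42 admissible configurations `(τ, β)` either force `κ = 0` or some `s_k = κ/18` or `κ/27`.
-/

set_option autoImplicit false

namespace Cfsg.Agent.Lib.H25.K4

set_option maxHeartbeats 8000000 in
/-- the linear core, in the variables `τ, β, s` -/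
theorem alg3_core (τ1 τ2 τ3 β1 β2 β3 : ℤ) (s1 s2 s3 κ : ℝ) (hκ : 0 < κ)
    (hτ : τ1 + τ2 + τ3 = 3) (hττ : τ1 ^ 2 + τ2 ^ 2 + τ3 ^ 2 ≤ 8)
    (hβ : β1 + β2 + β3 = 1)
    (hb1 : β1 ^ 2 ≤ 1) (hb2 : β2 ^ 2 ≤ 1) (hb3 : β3 ^ 2 ≤ 1)
    (E1 : ((τ1 : ℝ) - 3 * β1) ^ 2 * s1 + ((τ2 : ℝ) - 3 * β2) ^ 2 * s2 +
      ((τ3 : ℝ) - 3 * β3) ^ 2 * s3 = 0)
    (E2 : ((τ1 : ℝ) - 3) * (τ1 - 3 * β1) * s1 + ((τ2 : ℝ) - 3) * (τ2 - 3 * β2) * s2 +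
      ((τ3 : ℝ) - 3) * (τ3 - 3 * β3) * s3 = 2 * κ / 3)
    (E3 : ((τ1 : ℝ) - 3) * τ1 * s1 + ((τ2 : ℝ) - 3) * τ2 * s2 + ((τ3 : ℝ) - 3) * τ3 * s3 = κ / 3)
    (E4 : ((τ1 : ℝ) - 3 * β1) * τ1 * s1 + ((τ2 : ℝ) - 3 * β2) * τ2 * s2 +
      ((τ3 : ℝ) - 3 * β3) * τ3 * s3 = -κ / 3) :
    s1 = κ / 18 ∨ s1 = κ / 27 ∨ s2 = κ / 18 ∨ s2 = κ / 27 ∨ s3 = κ / 18 ∨ s3 = κ / 27 := by
  have ht1l : -2 ≤ τ1 := by nlinarith [sq_nonneg τ2, sq_nonneg τ3]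
  have ht1u : τ1 ≤ 2 := by nlinarith [sq_nonneg τ2, sq_nonneg τ3]
  have ht2l : -2 ≤ τ2 := by nlinarith [sq_nonneg τ1, sq_nonneg τ3]
  have ht2u : τ2 ≤ 2 := by nlinarith [sq_nonneg τ1, sq_nonneg τ3]
  have ht3l : -2 ≤ τ3 := by nlinarith [sq_nonneg τ2, sq_nonneg τ1]
  have ht3u : τ3 ≤ 2 := by nlinarith [sq_nonneg τ2, sq_nonneg τ1]
  have hb1l : -1 ≤ β1 := by nlinarith
  have hb1u : β1 ≤ 1 := by nlinarith
  have hb2l : -1 ≤ β2 := by nlinarith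
  have hb2u : β2 ≤ 1 := by nlinarith
  have hb3l : -1 ≤ β3 := by nlinarith
  have hb3u : β3 ≤ 1 := by nlinarith
  have hτ3 : τ3 = 3 - τ1 - τ2 := by omega
  have hβ3 : β3 = 1 - β1 - β2 := by omega
  subst hτ3 hβ3
  interval_cases τ1 <;> interval_cases τ2 <;> (try omega) <;>
  interval_cases β1 <;> interval_cases β2 <;> (try omega) <;>
  norm_num at E1 E2 E3 E4 <;>
  first
    | (exfalso; linarith)
    | (left; linarith)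
    | (right; left; linarith)
    | (right; right; left; linarith)
    | (right; right; right; left; linarith)
    | (right; right; right; right; left; linarith)
    | (right; right; right; right; right; linarith)


theorem alg3_term1 (a t b : ℤ) (u : ℝ) (ha : a ^ 2 = 1) :
    (a : ℝ) * (t - 3 * b) ^ 2 * u =
      (((a * t : ℤ) : ℝ) - 3 * ((a * b : ℤ) : ℝ)) ^ 2 * ((a : ℝ) * u) := by
  have hA : (a : ℝ) ^ 2 = 1 := by exact_mod_cast ha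
  push_cast
  linear_combination (-(a : ℝ) * ((t : ℝ) - 3 * b) ^ 2 * u) * hA

theorem alg3_term2 (a t b : ℤ) (u : ℝ) (ha : a ^ 2 = 1) :
    (a : ℝ) * (t - 3 * a) * (t - 3 * b) * u =
      (((a * t : ℤ) : ℝ) - 3) * (((a * t : ℤ) : ℝ) - 3 * ((a * b : ℤ) : ℝ)) * ((a : ℝ) * u) := by
  have hA : (a : ℝ) ^ 2 = 1 := by exact_mod_cast ha
  push_cast
  linear_combination (-((t : ℝ) - 3 * b) * u * a * t) * hA

theorem alg3_term3 (a t : ℤ) (u : ℝ) (ha : a ^ 2 = 1) :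
    (a : ℝ) * (t - 3 * a) * t * u =
      (((a * t : ℤ) : ℝ) - 3) * ((a * t : ℤ) : ℝ) * ((a : ℝ) * u) := by
  have hA : (a : ℝ) ^ 2 = 1 := by exact_mod_cast ha
  push_cast
  linear_combination (-(t : ℝ) * u * a * t) * hA

theorem alg3_term4 (a t b : ℤ) (u : ℝ) (ha : a ^ 2 = 1) :
    (a : ℝ) * (t - 3 * b) * t * u =
      (((a * t : ℤ) : ℝ) - 3 * ((a * b : ℤ) : ℝ)) * ((a * t : ℤ) : ℝ) * ((a : ℝ) * u) := by
  have hA : (a : ℝ) ^ 2 = 1 := by exact_mod_cast ha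
  push_cast
  linear_combination (-(a : ℝ) * ((t : ℝ) - 3 * b) * t * u) * hA

theorem alg3_sq (a t : ℤ) (ha : a ^ 2 = 1) : (a * t) ^ 2 = t ^ 2 := by
  rw [mul_pow, ha, one_mul]

theorem alg3_back (a : ℤ) (u κ c : ℝ) (ha : a ^ 2 = 1) (hu : 0 < u) (hκ : 0 < κ) (hc : 0 < c)
    (h : (a : ℝ) * u = κ / c) : u = κ / c := by
  have hpos : 0 < κ / c := div_pos hκ hc
  rcases eq_or_eq_neg_of_sq_eq_sq a 1 (by rw [ha, one_pow]) with h1 | h1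
  · rw [h1] at h; simpa using h
  · rw [h1] at h
    push_cast at h
    linarith

theorem alg3 (a1 a2 a3 t1 t2 t3 b1 b2 b3 : ℤ) (u1 u2 u3 κ : ℝ)
    (ha1 : a1 ^ 2 = 1) (ha2 : a2 ^ 2 = 1) (ha3 : a3 ^ 2 = 1)
    (hu1 : 0 < u1) (hu2 : 0 < u2) (hu3 : 0 < u3) (hκ : 0 < κ)
    (hta : a1 * t1 + a2 * t2 + a3 * t3 = 3) (htt : t1 ^ 2 + t2 ^ 2 + t3 ^ 2 ≤ 8)
    (hab : a1 * b1 + a2 * b2 + a3 * b3 = 1)
    (hb1 : b1 ^ 2 ≤ 1) (hb2 : b2 ^ 2 ≤ 1) (hb3 : b3 ^ 2 ≤ 1)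
    (E1 : (a1 : ℝ) * (t1 - 3 * b1) ^ 2 * u1 + a2 * (t2 - 3 * b2) ^ 2 * u2 +
      a3 * (t3 - 3 * b3) ^ 2 * u3 = 0)
    (E2 : (a1 : ℝ) * (t1 - 3 * a1) * (t1 - 3 * b1) * u1 + a2 * (t2 - 3 * a2) * (t2 - 3 * b2) * u2 +
      a3 * (t3 - 3 * a3) * (t3 - 3 * b3) * u3 = 2 * κ / 3)
    (E3 : (a1 : ℝ) * (t1 - 3 * a1) * t1 * u1 + a2 * (t2 - 3 * a2) * t2 * u2 +
      a3 * (t3 - 3 * a3) * t3 * u3 = κ / 3)
    (E4 : (a1 : ℝ) * (t1 - 3 * b1) * t1 * u1 + a2 * (t2 - 3 * b2) * t2 * u2 +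
      a3 * (t3 - 3 * b3) * t3 * u3 = -κ / 3) :
    u1 = κ / 18 ∨ u1 = κ / 27 ∨ u2 = κ / 18 ∨ u2 = κ / 27 ∨ u3 = κ / 18 ∨ u3 = κ / 27 := by
  have key := alg3_core (a1 * t1) (a2 * t2) (a3 * t3) (a1 * b1) (a2 * b2) (a3 * b3)
    ((a1 : ℝ) * u1) ((a2 : ℝ) * u2) ((a3 : ℝ) * u3) κ hκ hta
    (by rw [alg3_sq a1 t1 ha1, alg3_sq a2 t2 ha2, alg3_sq a3 t3 ha3]; exact htt) hab
    (by rw [alg3_sq a1 b1 ha1]; exact hb1) (by rw [alg3_sq a2 b2 ha2]; exact hb2)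
    (by rw [alg3_sq a3 b3 ha3]; exact hb3)
    (by rw [← alg3_term1 a1 t1 b1 u1 ha1, ← alg3_term1 a2 t2 b2 u2 ha2,
          ← alg3_term1 a3 t3 b3 u3 ha3]; exact E1)
    (by rw [← alg3_term2 a1 t1 b1 u1 ha1, ← alg3_term2 a2 t2 b2 u2 ha2,
          ← alg3_term2 a3 t3 b3 u3 ha3]; exact E2)
    (by rw [← alg3_term3 a1 t1 u1 ha1, ← alg3_term3 a2 t2 u2 ha2,
          ← alg3_term3 a3 t3 u3 ha3]; exact E3)
    (by rw [← alg3_term4 a1 t1 b1 u1 ha1, ← alg3_term4 a2 t2 b2 u2 ha2,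
          ← alg3_term4 a3 t3 b3 u3 ha3]; exact E4)
  rcases key with h | h | h | h | h | h
  · exact Or.inl (alg3_back a1 u1 κ 18 ha1 hu1 hκ (by norm_num) h)
  · exact Or.inr (Or.inl (alg3_back a1 u1 κ 27 ha1 hu1 hκ (by norm_num) h))
  · exact Or.inr (Or.inr (Or.inl (alg3_back a2 u2 κ 18 ha2 hu2 hκ (by norm_num) h)))
  · exact Or.inr (Or.inr (Or.inr (Or.inl (alg3_back a2 u2 κ 27 ha2 hu2 hκ (by norm_num) h))))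
  · exact Or.inr (Or.inr (Or.inr (Or.inr (Or.inl (alg3_back a3 u3 κ 18 ha3 hu3 hκ (by norm_num) h)))))
  · exact Or.inr (Or.inr (Or.inr (Or.inr (Or.inr (alg3_back a3 u3 κ 27 ha3 hu3 hκ (by norm_num) h)))))

end Cfsg.Agent.Lib.H25.K4
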