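import Mathlib
import Cfsg.Agent.Lib.H18.BKDUAL

/-!
# S4640 pieces (DUAL1) `card_dual`, (DUAL2) `sum_dual`: exact signatures of `tools/blueprints/S4640_sigs.lean`

Bridge from helper18's quotient forms (`H18.BK.card_quot_dual`, `finsum_quot_dual_apply`) to the subtype
`{β : G →* ℂˣ // ∀ n ∈ N, β n = 1}` via `QuotientGroup.lift`.
-/

set_option autoImplicit false

namespace Cfsg.Agent.Lib.H25.KK

variable {G : Type*} [Group G] [Finite G]

/-- the dual of `G/N` as homomorphisms of `G` trivial on `N` -/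
def dualEquiv (N : Subgroup G) [N.Normal] :
    {β : G →* ℂˣ // ∀ n ∈ N, β n = 1} ≃ (G ⧸ N →* ℂˣ) where
  toFun β := QuotientGroup.lift N β.1 (fun n hn => β.2 n hn)
  invFun φ := ⟨φ.comp (QuotientGroup.mk' N), fun n hn => by
    rw [MonoidHom.comp_apply, QuotientGroup.mk'_apply, (QuotientGroup.eq_one_iff n).2 hn, map_one]⟩
  left_inv β := by
    apply Subtype.ext
    ext g
    rfl
  right_inv φ := by
    ext x
    rfl

omit [Finite G] in
theorem dualEquiv_apply_mk (N : Subgroup G) [N.Normal] (β : {β : G →* ℂˣ // ∀ n ∈ N, β n = 1}) (g : G) :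
    dualEquiv N β (g : G ⧸ N) = β.1 g := rfl

/-- (DUAL1) the dual group of the abelian quotient `G/N` has `|G : N|` elements. -/
theorem card_dual (N : Subgroup G) [N.Normal] (hab : ∀ a b : G, a * b * a⁻¹ * b⁻¹ ∈ N) :
    Nat.card {β : G →* ℂˣ // ∀ n ∈ N, β n = 1} = N.index := by
  rw [Nat.card_congr (dualEquiv N)]
  exact Cfsg.Agent.Lib.H18.BK.card_quot_dual N hab

/-- (DUAL2) orthogonality: for `g ∉ N` the values `β g` over the dual group of `G/N` sum to `0`. -/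
theorem sum_dual (N : Subgroup G) [N.Normal] (hab : ∀ a b : G, a * b * a⁻¹ * b⁻¹ ∈ N) (g : G)
    (hg : g ∉ N) : ∑ᶠ β : {β : G →* ℂˣ // ∀ n ∈ N, β n = 1}, ((β.1 g : ℂˣ) : ℂ) = 0 := by
  classical
  have h1 := Cfsg.Agent.Lib.H18.BK.finsum_quot_dual_apply N hab g
  rw [if_neg hg] at h1
  rw [← h1]
  exact finsum_comp_equiv (dualEquiv N) (f := fun φ : G ⧸ N →* ℂˣ => ((φ (g : G ⧸ N) : ℂˣ) : ℂ))

end Cfsg.Agent.Lib.H25.KK
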