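import Mathlib
import Cfsg.Prelude.Def_Blocks
import Cfsg.Agent.Lib.L0.CharBasic
import Cfsg.Agent.Lib.L0.CharOps
import Cfsg.Agent.Lib.H24.CharLinearMul
import Cfsg.Agent.Lib.H25.KKDUAL

/-!
# S4640 piece (TW) `restrict_irr_of_no_twist`: exact signature of `tools/blueprints/S4640_sigs.lean`

Twist counting: `⟨χ|_N, χ|_N⟩_N = ∑_β ⟨χ β, χ⟩_G` over the dual group of the abelian quotient `G/N`
(`card_dual`, `sum_dual`), and the right side is `1` when no nontrivial `β` fixes `χ`.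
-/

set_option autoImplicit false

open scoped ComplexConjugate

namespace Cfsg.Agent.Lib.H25.KK

variable {G : Type*} [Group G] [Fintype G]

/-- (TW) twist counting: `G/N` abelian, `χ ∈ Irr(G)` fixed by no nontrivial linear character of `G/N`
⟹ `χ|_N` is irreducible. -/
theorem restrict_irr_of_no_twist (N : Subgroup G) [N.Normal] [Fintype N]
    (hab : ∀ a b : G, a * b * a⁻¹ * b⁻¹ ∈ N) (χ : G → ℂ) (hχ : Cfsg.IsIrrCharacter G χ)
    (hno : ∀ β : G →* ℂˣ, (∀ n ∈ N, β n = 1) → (∀ g, χ g * ((β g : ℂˣ) : ℂ) = χ g) → β = 1) :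
    Cfsg.IsIrrCharacter N (fun n : N => χ n) := by
  classical
  have hcard := card_dual N hab
  have hidx0 : N.index ≠ 0 := Subgroup.index_ne_zero_of_finite
  have : Finite {β : G →* ℂˣ // ∀ n ∈ N, β n = 1} :=
    Nat.finite_of_card_ne_zero (by rw [hcard]; exact hidx0)
  let _ : Fintype {β : G →* ℂˣ // ∀ n ∈ N, β n = 1} := Fintype.ofFinite _
  -- the sum of the dual group at an element
  have hsumD : ∀ g : G, ∑ β : {β : G →* ℂˣ // ∀ n ∈ N, β n = 1}, ((β.1 g : ℂˣ) : ℂ) =
      if g ∈ N then (N.index : ℂ) else 0 := by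
    intro g
    split_ifs with hg
    · have : ∀ β : {β : G →* ℂˣ // ∀ n ∈ N, β n = 1}, ((β.1 g : ℂˣ) : ℂ) = 1 := by
        intro β
        rw [β.2 g hg, Units.val_one]
      rw [Finset.sum_congr rfl (fun β _ => this β), Finset.sum_const, Finset.card_univ,
        ← Nat.card_eq_fintype_card, hcard, nsmul_eq_mul, mul_one]
    · rw [← finsum_eq_sum_of_fintype]
      exact sum_dual N hab g hg
  -- inner products of the twists
  have hχc := Cfsg.Agent.Lib.L0.isCharacter_of_irr hχ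
  have htw : ∀ β : {β : G →* ℂˣ // ∀ n ∈ N, β n = 1},
      Cfsg.classInner (fun g => χ g * ((β.1 g : ℂˣ) : ℂ)) χ = if β.1 = 1 then 1 else 0 := by
    intro β
    split_ifs with h1
    · have : (fun g => χ g * ((β.1 g : ℂˣ) : ℂ)) = χ := by
        funext g
        rw [h1]
        simp
      rw [this]
      exact Cfsg.Agent.Lib.L0.irr_classInner_self hχ
    · have hirr := Cfsg.Agent.Lib.H24.isIrrCharacter_mul_hom χ hχ β.1
      apply Cfsg.Agent.Lib.L0.irr_classInner_ne hirr hχ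
      intro heq
      exact h1 (hno β.1 β.2 (fun g => congrFun heq g))
  have hsum1 : ∑ β : {β : G →* ℂˣ // ∀ n ∈ N, β n = 1},
      Cfsg.classInner (fun g => χ g * ((β.1 g : ℂˣ) : ℂ)) χ = 1 := by
    rw [Finset.sum_congr rfl (fun β _ => htw β)]
    rw [Finset.sum_eq_single (⟨1, fun _ _ => rfl⟩ : {β : G →* ℂˣ // ∀ n ∈ N, β n = 1})]
    · simp
    · intro β _ hβ
      rw [if_neg]
      intro h1
      exact hβ (Subtype.ext h1)
    · intro h
      exact absurd (Finset.mem_univ _) h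
  -- the same sum computed elementwise
  have hsum2 : ∑ β : {β : G →* ℂˣ // ∀ n ∈ N, β n = 1},
      Cfsg.classInner (fun g => χ g * ((β.1 g : ℂˣ) : ℂ)) χ =
      Cfsg.classInner (fun n : N => χ n) (fun n : N => χ n) := by
    unfold Cfsg.classInner
    rw [← Finset.mul_sum, Finset.sum_comm]
    have h1 : ∀ g : G, ∑ β : {β : G →* ℂˣ // ∀ n ∈ N, β n = 1},
        χ g * ((β.1 g : ℂˣ) : ℂ) * conj (χ g) =
        if g ∈ N then (N.index : ℂ) * (χ g * conj (χ g)) else 0 := by
      intro g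
      have : ∀ β : {β : G →* ℂˣ // ∀ n ∈ N, β n = 1},
          χ g * ((β.1 g : ℂˣ) : ℂ) * conj (χ g) = (χ g * conj (χ g)) * ((β.1 g : ℂˣ) : ℂ) := by
        intro β; ring
      rw [Finset.sum_congr rfl (fun β _ => this β), ← Finset.mul_sum, hsumD g]
      split_ifs <;> ring
    rw [Finset.sum_congr rfl (fun g _ => h1 g), ← Finset.sum_filter]
    rw [Finset.sum_subtype (Finset.univ.filter (fun g => g ∈ N)) (p := fun g => g ∈ N)
      (by intro x; simp) (fun g => (N.index : ℂ) * (χ g * conj (χ g)))]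
    rw [← Finset.mul_sum, ← mul_assoc]
    congr 1
    have hci := Subgroup.card_mul_index N
    have hN0 : (Nat.card N : ℂ) ≠ 0 := Nat.cast_ne_zero.mpr Nat.card_pos.ne'
    have hG0 : (Nat.card G : ℂ) ≠ 0 := Nat.cast_ne_zero.mpr Nat.card_pos.ne'
    have : (Nat.card G : ℂ) = (Nat.card N : ℂ) * (N.index : ℂ) := by exact_mod_cast hci.symm
    rw [this]
    field_simp
  have hres := Cfsg.Agent.Lib.L0.isCharacter_restrict N hχc
  exact Cfsg.Agent.Lib.L0.isIrrCharacter_of_classInner_self_eq_one hres (hsum2 ▸ hsum1)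

end Cfsg.Agent.Lib.H25.KK
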