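import Mathlib
import Cfsg.Agent.Lib.H2.KRDEFS
import Cfsg.Agent.Lib.L0.BlockRankTrace
import Cfsg.Agent.Lib.L0.SectionSum

/-!
# S4651 piece K2, core: the `p`-singular part of the norm of a set of irreducible characters

`|K| (|U| - ∑_{ζ ∈ U} ⟨ζ, ζ⟩⁰) = ∑_{x ≠ 1 a p-element} ∑_{ζ ∈ U} secSum p |ζ|² x` for ANY set `U` of irreducible characters
(first orthogonality + summation over `p`-sections); with K1 (`∑_{ζ ∈ U} ⟨ζ, ζ⟩⁰ = l(U)` for a union of blocks) this is K2.
-/

set_option autoImplicit false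

namespace Cfsg.Agent.Lib.H25.KR

open Cfsg Cfsg.Agent.Lib.H2.KR Cfsg.Agent.Lib.H23 Cfsg.Agent.Lib.H24 Cfsg.Agent.Lib.L0.BlockRankTrace
  Cfsg.Agent.Lib.L0.SectionSum
open scoped Classical ComplexConjugate

variable {K : Type*} [Group K] [Fintype K] {p : ℕ}

omit [Fintype K] in
/-- the `p`-part of `g` is `1` iff `g` is `p`-regular -/
theorem isPPart_one_iff (g : K) : IsPPart p g 1 ↔ ¬ p ∣ orderOf g := by
  constructor
  · rintro ⟨y, hy, -, -, h⟩
    rw [one_mul] at hy
    rw [← hy]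
    exact h
  · intro h
    exact ⟨g, one_mul g, Commute.one_left g, ⟨0, by rw [orderOf_one, pow_zero]⟩, h⟩

/-- the section of `1` -/
theorem secSum_one (f : K → ℂ) :
    secSum p f 1 = ∑ s : K, if p ∣ orderOf s then 0 else f s := by
  unfold secSum
  refine Finset.sum_congr rfl fun g _ => ?_
  by_cases h : p ∣ orderOf g
  · rw [if_pos h, if_neg (fun h' => (isPPart_one_iff g).1 h' h)]
  · rw [if_neg h, if_pos ((isPPart_one_iff g).2 h)]

/-- the norm of an irreducible character, by `p`-sections -/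
theorem card_eq_sum_secSum (hp : p.Prime) (ζ : IrrCharacter K) :
    (Nat.card K : ℂ) = (Nat.card K : ℂ) * inner0 p (ζ : K → ℂ) (ζ : K → ℂ) +
      ∑ x ∈ Finset.univ.filter (fun x : K => x ≠ 1 ∧ ∃ k : ℕ, orderOf x = p ^ k),
        secSum p (fun g => conj ((ζ : K → ℂ) g) * (ζ : K → ℂ) g) x := by
  have hK : (Nat.card K : ℂ) ≠ 0 := by exact_mod_cast (Nat.card_pos (α := K)).ne'
  set f : K → ℂ := fun g => conj ((ζ : K → ℂ) g) * (ζ : K → ℂ) g with hf
  -- first orthogonality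
  have h1 : ∑ g : K, f g = (Nat.card K : ℂ) := by
    have h2 := irr_orthonormal ζ ζ
    rw [if_pos rfl, classInner] at h2
    have h3 : ∑ g : K, f g = ∑ g : K, (ζ : K → ℂ) g * conj ((ζ : K → ℂ) g) :=
      Finset.sum_congr rfl fun g _ => by simp only [hf]; rw [mul_comm]
    rw [h3]
    field_simp at h2
    exact h2
  -- sections
  have h4 : ∑ g : K, f g = secSum p f 1 +
      ∑ x ∈ Finset.univ.filter (fun x : K => x ≠ 1 ∧ ∃ k : ℕ, orderOf x = p ^ k), secSum p f x := by
    rw [sum_eq_sum_secSum hp f, ← Finset.add_sum_erase Finset.univ _ (Finset.mem_univ (1 : K))]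
    congr 1
    rw [Finset.sum_filter]
    rw [← Finset.sum_filter_add_sum_filter_not (Finset.univ.erase (1 : K))
      (fun x : K => ∃ k : ℕ, orderOf x = p ^ k)]
    have hz : ∑ x ∈ (Finset.univ.erase (1 : K)).filter (fun x : K => ¬ ∃ k : ℕ, orderOf x = p ^ k),
        secSum p f x = 0 :=
      Finset.sum_eq_zero fun x hx => secSum_eq_zero f (Finset.mem_filter.1 hx).2
    rw [hz, add_zero, Finset.sum_filter]
    symm
    rw [← Finset.sum_erase_add Finset.univ _ (Finset.mem_univ (1 : K))]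
    rw [if_neg (fun h => h.1 rfl), add_zero]
    refine Finset.sum_congr rfl fun x hx => ?_
    have hx1 : x ≠ 1 := Finset.ne_of_mem_erase hx
    by_cases h : ∃ k : ℕ, orderOf x = p ^ k
    · rw [if_pos h, if_pos ⟨hx1, h⟩]
    · rw [if_neg h, if_neg (fun h' => h h'.2)]
  have h5 : secSum p f 1 = (Nat.card K : ℂ) * inner0 p (ζ : K → ℂ) (ζ : K → ℂ) := by
    rw [secSum_one, inner0, ← mul_assoc, mul_inv_cancel₀ hK, one_mul]
    refine Finset.sum_congr rfl fun s _ => ?_
    split_ifs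
    · rfl
    · simp only [hf]; rw [mul_comm]
  calc (Nat.card K : ℂ) = ∑ g : K, f g := h1.symm
    _ = _ := by rw [h4, h5]

/-- (K2), core: for any set `U` of irreducible characters. -/
theorem card_sub_eq_sum_secSum_core (hp : p.Prime) [Fintype (IrrCharacter K)]
    (U : Set (IrrCharacter K)) :
    (Nat.card K : ℂ) * ((Nat.card U : ℂ) -
        ∑ ξ ∈ Finset.univ.filter (· ∈ U), inner0 p (ξ : K → ℂ) (ξ : K → ℂ)) =
      ∑ x ∈ Finset.univ.filter (fun x : K => x ≠ 1 ∧ ∃ k : ℕ, orderOf x = p ^ k),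
        ∑ ζ ∈ Finset.univ.filter (· ∈ U),
          secSum p (fun g => conj ((ζ : K → ℂ) g) * (ζ : K → ℂ) g) x := by
  rw [Finset.sum_comm]
  have hU : (Nat.card U : ℂ) = ∑ ζ ∈ Finset.univ.filter (· ∈ U), (1 : ℂ) := by
    rw [Finset.sum_const, nsmul_eq_mul, mul_one, Nat.card_eq_fintype_card, Fintype.card_subtype]
  rw [hU, ← Finset.sum_sub_distrib, Finset.mul_sum]
  refine Finset.sum_congr rfl fun ζ _ => ?_
  have h := card_eq_sum_secSum hp ζ
  rw [mul_sub, mul_one]
  linear_combination h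

end Cfsg.Agent.Lib.H25.KR
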