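import Mathlib
import Cfsg.Agent.Lib.H10.KZE1

/-!
# S4540 piece D3, pure core (helper25)

`exists_sum_units_eq_of_coeff_dvd`: let `c i` be integers and `w i` roots of unity of order dividing `2 ^ j`,
`2 ^ j ∣ m`.  If every integer polynomial `P` of degree `< 2 ^ e` with `P(z) = ∑ c i w i` at some `z` with
`z ^ 2 ^ e = -1` has all its coefficients divisible by `2 ^ h` (this is what piece D2 gives), then the sum over
the units `k` of `ℤ/m` of `∑ c i (w i) ^ k` is `φ(m) * 2 ^ h` times an integer.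
-/

set_option autoImplicit false

namespace Cfsg.Agent.Lib.H25.KZ

open Polynomial

theorem d3_neg_one_of_primitive {ζ : ℂ} {n : ℕ} (hζ : IsPrimitiveRoot ζ (2 * n)) (hn : 0 < n) :
    ζ ^ n = -1 := by
  have hsq : ζ ^ n * ζ ^ n = 1 := by
    rw [← pow_add, ← two_mul, hζ.pow_eq_one]
  have hne : ζ ^ n ≠ 1 := by
    intro h
    have hd := hζ.dvd_of_pow_eq_one n h
    have := Nat.le_of_dvd hn hd
    omega
  rcases mul_self_eq_one_iff.1 hsq with h | h
  · exact absurd h hne
  · exact h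

theorem exists_sum_units_eq_of_coeff_dvd {ι : Type*} [Fintype ι] (c : ι → ℤ) (w : ι → ℂ) (j : ℕ)
    (hw : ∀ i, w i ^ 2 ^ j = 1) (m : ℕ) [NeZero m] (hjm : 2 ^ j ∣ m) (h : ℕ)
    (hD2 : ∀ (e : ℕ) (z : ℂ), z ^ 2 ^ e = -1 → ∀ P : ℤ[X], P.natDegree < 2 ^ e →
      Polynomial.aeval z P = ∑ i, (c i : ℂ) * w i → ∀ t, (2 : ℤ) ^ h ∣ P.coeff t) :
    ∃ C : ℤ, ∑ k : (ZMod m)ˣ, ∑ i, (c i : ℂ) * w i ^ (k : ZMod m).val =
      (Fintype.card (ZMod m)ˣ : ℂ) * (2 : ℂ) ^ h * (C : ℂ) := by
  classical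
  rcases Nat.eq_zero_or_pos j with hj0 | hjpos
  · -- all `w i = 1`
    subst hj0
    have hw1 : ∀ i, w i = 1 := fun i => by simpa using hw i
    have hdvd : (2 : ℤ) ^ h ∣ ∑ i, c i := by
      have := hD2 0 (-1) (by norm_num) (Polynomial.C (∑ i, c i))
        (by rw [Polynomial.natDegree_C]; norm_num)
        (by rw [Polynomial.aeval_C]; simp [hw1]) 0
      rwa [Polynomial.coeff_C_zero] at this
    obtain ⟨C, hC⟩ := hdvd
    refine ⟨C, ?_⟩
    simp only [hw1, one_pow, mul_one]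
    rw [Finset.sum_const, Finset.card_univ, nsmul_eq_mul]
    have : (∑ i, (c i : ℂ)) = ((∑ i, c i : ℤ) : ℂ) := by push_cast; rfl
    rw [this, hC]
    push_cast
    ring
  · obtain ⟨j', rfl⟩ : ∃ j', j = j' + 1 := ⟨j - 1, by omega⟩
    set n : ℕ := 2 ^ j' with hn
    have hnpos : 0 < n := by positivity
    have h2n : 2 ^ (j' + 1) = 2 * n := by rw [hn, pow_succ]; ring
    obtain ⟨ζ, hζ⟩ : ∃ ζ : ℂ, IsPrimitiveRoot ζ (2 * n) :=
      ⟨_, Complex.isPrimitiveRoot_exp (2 * n) (by omega)⟩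
    have hζn : ζ ^ n = -1 := d3_neg_one_of_primitive hζ hnpos
    have h2m : 2 ∣ m := dvd_trans (dvd_pow_self 2 (by omega)) hjm
    have hodd : ∀ k : (ZMod m)ˣ, Odd (k : ZMod m).val := Cfsg.Agent.Lib.H10.KZ.e1_unit_val_odd h2m
    -- exponents
    have hex : ∀ i, ∃ e : ℕ, e < 2 * n ∧ ζ ^ e = w i := fun i =>
      hζ.eq_pow_of_pow_eq_one (by rw [← h2n]; exact hw i)
    choose e he hew using hex
    set s : ι → ℤ := fun i => if e i < n then 1 else -1 with hs
    set t : ι → ℕ := fun i => e i % n with ht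
    have htlt : ∀ i, t i < n := fun i => Nat.mod_lt _ hnpos
    have hss : ∀ i, s i = 1 ∨ s i = -1 := by
      intro i
      simp only [hs]
      split_ifs
      · exact Or.inl rfl
      · exact Or.inr rfl
    have hwi : ∀ i, w i = (s i : ℂ) * ζ ^ t i := by
      intro i
      simp only [hs, ht]
      by_cases hlt : e i < n
      · rw [if_pos hlt, Nat.mod_eq_of_lt hlt, hew]
        push_cast
        ring
      · rw [if_neg hlt]
        have h1 : e i = n + (e i - n) := by omega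
        have h2 : e i % n = e i - n := by
          rw [Nat.mod_eq_sub_mod (by omega), Nat.mod_eq_of_lt (by have := he i; omega)]
        rw [h2, ← hew i]
        conv_lhs => rw [h1, pow_add, hζn]
        push_cast
        ring
    have hspow : ∀ i (k : (ZMod m)ˣ), (s i : ℂ) ^ (k : ZMod m).val = (s i : ℂ) := by
      intro i k
      rcases hss i with h1 | h1
      · rw [h1]; simp
      · rw [h1]
        push_cast
        exact (hodd k).neg_one_pow
    -- the polynomial
    set P : ℤ[X] := ∑ i, Polynomial.C (c i * s i) * Polynomial.X ^ t i with hP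
    have hPdeg : P.natDegree < n := by
      have hle : P.natDegree ≤ n - 1 := by
        rw [hP]
        apply Polynomial.natDegree_sum_le_of_forall_le
        intro i _
        exact (Polynomial.natDegree_C_mul_X_pow_le _ _).trans (by have := htlt i; omega)
      omega
    have hPeval : ∀ z : ℂ, Polynomial.aeval z P = ∑ i, ((c i : ℂ) * (s i : ℂ)) * z ^ t i := by
      intro z
      rw [hP, map_sum]
      refine Finset.sum_congr rfl fun i _ => ?_
      rw [map_mul, Polynomial.aeval_C, map_pow, Polynomial.aeval_X]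
      simp
    have hPζ : Polynomial.aeval ζ P = ∑ i, (c i : ℂ) * w i := by
      rw [hPeval]
      refine Finset.sum_congr rfl fun i _ => ?_
      rw [hwi i]
      ring
    have hcoef := hD2 j' ζ hζn P hPdeg hPζ
    obtain ⟨P', hP'⟩ : Polynomial.C ((2 : ℤ) ^ h) ∣ P := (Polynomial.C_dvd_iff_dvd_coeff _ _).2 hcoef
    -- each term
    have hterm : ∀ k : (ZMod m)ˣ, ∑ i, (c i : ℂ) * w i ^ (k : ZMod m).val =
        (2 : ℂ) ^ h * Polynomial.aeval (ζ ^ (k : ZMod m).val) P' := by
      intro k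
      have h1 : ∑ i, (c i : ℂ) * w i ^ (k : ZMod m).val = Polynomial.aeval (ζ ^ (k : ZMod m).val) P := by
        rw [hPeval]
        refine Finset.sum_congr rfl fun i _ => ?_
        rw [hwi i, mul_pow, hspow, ← pow_mul, ← pow_mul, mul_comm (t i)]
        ring
      rw [h1, hP', map_mul, Polynomial.aeval_C]
      simp
    -- E1 for the powers of ζ
    have hζm : ∀ a : ℕ, (ζ ^ a) ^ m = 1 := by
      intro a
      obtain ⟨q, hq⟩ := hjm
      rw [hq, h2n, ← pow_mul, mul_comm a, mul_assoc, pow_mul, hζ.pow_eq_one, one_pow]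
    have hζj : ∀ a : ℕ, (ζ ^ a) ^ 2 ^ (j' + 1) = 1 := by
      intro a
      rw [h2n, ← pow_mul, mul_comm a, pow_mul, hζ.pow_eq_one, one_pow]
    have hE1 : ∀ a : ℕ, ∃ ε : ℤ, (∑ k : (ZMod m)ˣ, (ζ ^ a) ^ (k : ZMod m).val) =
        (Fintype.card (ZMod m)ˣ : ℂ) * (ε : ℂ) := fun a =>
      (Cfsg.Agent.Lib.H10.KZ.sum_units_pow_eq m (ζ ^ a) (hζm a) (j' + 1) (hζj a)).imp fun _ h => h.1
    choose ε hε using hE1
    refine ⟨∑ a ∈ Finset.range (P'.natDegree + 1), P'.coeff a * ε a, ?_⟩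
    simp only [hterm]
    rw [← Finset.mul_sum]
    have h2 : ∑ k : (ZMod m)ˣ, Polynomial.aeval (ζ ^ (k : ZMod m).val) P' =
        (Fintype.card (ZMod m)ˣ : ℂ) *
          ((∑ a ∈ Finset.range (P'.natDegree + 1), P'.coeff a * ε a : ℤ) : ℂ) := by
      simp only [Polynomial.aeval_eq_sum_range]
      rw [Finset.sum_comm]
      push_cast
      rw [Finset.mul_sum]
      refine Finset.sum_congr rfl fun a _ => ?_
      simp only [zsmul_eq_mul]
      rw [← Finset.mul_sum]
      have : ∀ k : (ZMod m)ˣ, (ζ ^ (k : ZMod m).val) ^ a = (ζ ^ a) ^ (k : ZMod m).val := by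
        intro k
        rw [← pow_mul, ← pow_mul, mul_comm]
      simp only [this]
      rw [hε a]
      ring
    rw [h2]
    ring

end Cfsg.Agent.Lib.H25.KZ
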