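import Cfsg.Agent.Lib.H23.KZPAR
import Cfsg.Agent.Lib.H23.ContribP
import Cfsg.Agent.Lib.H25.KZD3Core

/-!
# S4540 piece D3 (helper25): divisibility of the Galois sum of a diagonal contribution of a 2-subsection

`exists_sum_units_contrib_self_eq_of`: for `p = 2`, a subsection `(y, b)` of `B` and `χ ∈ B` of height `h`, the sum
over the units `k` of `ℤ/|G|` of `2^d m^{(y^k, b)}_{χχ}` is `φ(|G|) * 2 ^ h` times an integer.  The pure lemma D2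
(`2 ^ h` divides the coefficients of an integer polynomial whose value at a `2 ^ (e+1)`-th root of unity is
`2 ^ h` times a local integer, up to an odd factor) is taken as a hypothesis `hD2`, in helper20's shape.
`exists_two_le_sum_units_contrib_self_of`: with the strict bound D1 as a hypothesis, the integer is `≥ 2`.
-/

set_option autoImplicit false

namespace Cfsg.Agent.Lib.H25.KZ

open Cfsg MonoidAlgebra Cfsg.Agent.Lib.H23 Cfsg.Agent.Lib.H24 Cfsg.Agent.Lib.L0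
  Cfsg.Agent.Lib.H23.Contrib Cfsg.Agent.Lib.H23.KZ
open scoped ComplexConjugate

variable {G : Type*} [Group G] [Fintype G] {M : Ideal AlgInt}
  (H : Subgroup G) [Fintype H] [Fintype (IrrCharacter H)]

/-- D3 without the lower bound: the Galois sum is `φ * 2 ^ h * c` with `c` an integer. -/
theorem exists_sum_units_contrib_self_eq_of [Fintype (IrrCharacter G)] (hM : IsPModular 2 M)
    (hD2 : ∀ {e : ℕ} {z : ℂ}, z ^ (2 ^ e) = -1 → ∀ P : Polynomial ℤ, P.natDegree < 2 ^ e →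
      ∀ {m' : ℕ}, Odd m' → ∀ (h : ℕ) {r : ℂ}, MemLocalRing M r →
        (m' : ℂ) * Polynomial.aeval z P = (2 : ℂ) ^ h * r → ∀ i : ℕ, (2 : ℤ) ^ h ∣ P.coeff i)
    (ξ₁ : IrrCharacter H) [DecidablePred (· ∈ blockOf M (ξ₁ : H → ℂ))] {B : Set (IrrCharacter G)}
    (hind : IsInducedBlock M H (blockOf M (ξ₁ : H → ℂ)) B)
    (hdef : blockDefect 2 (blockOf M (ξ₁ : H → ℂ)) = blockDefect 2 B) (y : H)
    (hyc : y ∈ Subgroup.center H) (hy : ∃ k : ℕ, orderOf y = 2 ^ k) {χ : IrrCharacter G}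
    (hχ : χ ∈ B) (m : ℕ) [NeZero m] (hm : m = Nat.card G) :
    ∃ c : ℤ, ∑ k : (ZMod m)ˣ, ((2 : ℕ) : ℂ) ^ blockDefect 2 (blockOf M (ξ₁ : H → ℂ)) *
        contrib 2 H (blockOf M (ξ₁ : H → ℂ)) (y ^ (k : ZMod m).val) (χ : G → ℂ) (χ : G → ℂ) =
      (Fintype.card (ZMod m)ˣ : ℂ) * (2 : ℂ) ^ blockHeight 2 B (χ : G → ℂ) * (c : ℂ) := by
  classical
  have : Fact (Nat.Prime 2) := ⟨Nat.prime_two⟩
  have hPr := isPrime_of_isPModular hM
  set b := blockOf M (ξ₁ : H → ℂ) with hb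
  set d := blockDefect 2 b with hd
  obtain ⟨j, hj⟩ := hy
  have hord_dvd : orderOf y ∣ m := by
    rw [hm]
    exact (orderOf_dvd_natCard y).trans (Subgroup.card_subgroup_dvd_card H)
  -- the roots of unity `w`
  set w : IrrCharacter H → IrrCharacter H → ℂ := fun ξ ξ' => lamW H y ξ ξ' with hw
  have hwj : ∀ ξ ξ', w ξ ξ' ^ 2 ^ j = 1 := by
    intro ξ ξ'
    show (lamW H y ξ ξ') ^ 2 ^ j = 1
    unfold lamW
    rw [mul_pow, ← map_pow, ← hj, lam_pow_eq_one ξ hyc, lam_pow_eq_one ξ' hyc, map_one, one_mul]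
  -- the integer matrix `c`
  have hn1 : ∀ ξ : IrrCharacter H, ∃ n : ℕ, resMult H (χ : G → ℂ) (ξ : H → ℂ) = n :=
    fun ξ => resMult_nat H χ ξ
  choose n1 hn1 using hn1
  have hn3 : ∀ ξ ξ' : IrrCharacter H, ∃ n : ℤ, ξ ∈ b →
      ((2 : ℕ) : ℂ) ^ d * pin 2 (ξ : H → ℂ) (ξ' : H → ℂ) = n := by
    intro ξ ξ'
    by_cases h : ξ ∈ b
    · obtain ⟨n, hn⟩ := exists_int_pow_mul_pin hM ξ₁ (ξ' := ξ') h
      exact ⟨n, fun _ => hn⟩
    · exact ⟨0, fun h' => absurd h' h⟩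
  choose n3 hn3 using hn3
  set c : IrrCharacter H → IrrCharacter H → ℤ := fun ξ ξ' =>
    if ξ ∈ b ∧ ξ' ∈ b then (n1 ξ : ℤ) * (n1 ξ' : ℤ) * n3 ξ ξ' else 0 with hc
  -- each term
  have hterm0 : ∀ z : H, z ∈ Subgroup.center H → ((2 : ℕ) : ℂ) ^ d *
      contrib 2 H b z (χ : G → ℂ) (χ : G → ℂ) =
      ∑ ξ : IrrCharacter H, ∑ ξ' : IrrCharacter H, (c ξ ξ' : ℂ) * lamW H z ξ ξ' := by
    intro z hz
    rw [pow_mul_contrib_eq H ξ₁ hM hz χ χ]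
    refine Finset.sum_congr rfl fun ξ _ => Finset.sum_congr rfl fun ξ' _ => ?_
    simp only [hc]
    by_cases h : ξ ∈ b ∧ ξ' ∈ b
    · rw [if_pos h, if_pos h, hn1 ξ, hn1 ξ', hn3 ξ ξ' h.1]
      push_cast
      ring
    · rw [if_neg h, if_neg h]
      push_cast
      rw [zero_mul]
  have hterm : ∀ k : (ZMod m)ˣ, ((2 : ℕ) : ℂ) ^ d *
      contrib 2 H b (y ^ (k : ZMod m).val) (χ : G → ℂ) (χ : G → ℂ) =
      ∑ i : IrrCharacter H × IrrCharacter H, (c i.1 i.2 : ℂ) * w i.1 i.2 ^ (k : ZMod m).val := by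
    intro k
    rw [hterm0 _ (Subgroup.pow_mem _ hyc _), Fintype.sum_prod_type]
    refine Finset.sum_congr rfl fun ξ _ => Finset.sum_congr rfl fun ξ' _ => ?_
    rw [lamW_pow H hyc]
  have hterm1 : ((2 : ℕ) : ℂ) ^ d * contrib 2 H b y (χ : G → ℂ) (χ : G → ℂ) =
      ∑ i : IrrCharacter H × IrrCharacter H, (c i.1 i.2 : ℂ) * w i.1 i.2 := by
    rw [hterm0 y hyc, Fintype.sum_prod_type]
  -- the local factorization
  obtain ⟨χ₁, hχ₁⟩ := hind.2.1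
  set m' : ℕ := Nat.card G / 2 ^ (Nat.card G).factorization 2 with hm'
  have hm'odd : Odd m' := by
    rw [← Nat.not_even_iff_odd, even_iff_two_dvd]
    exact Nat.not_dvd_ordCompl Nat.prime_two Nat.card_pos.ne'
  have hfac : ∃ r : ℂ, MemLocalRing M r ∧ (m' : ℂ) * (((2 : ℕ) : ℂ) ^ d *
      contrib 2 H b y (χ : G → ℂ) (χ : G → ℂ)) = (2 : ℂ) ^ blockHeight 2 B (χ : G → ℂ) * r := by
    subst hχ₁
    have hkey := ordCompl_mul_pow_mul_contrib H hM b y χ₁ hχ (χ : G → ℂ)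
    refine ⟨((charDegree (χ : G → ℂ) / 2 ^ (charDegree (χ : G → ℂ)).factorization 2 : ℕ) : ℂ) *
      omega (χ : G → ℂ) (secElt H b y 2 (χ : G → ℂ)), ?_, ?_⟩
    · exact memLocalRing_mul (natCast_mem_localRing _)
        (omega_memLocalRing χ (secElt_mem_center H _ _ _) (secElt_mem_intCoeff H _ _ hyc χ))
    · rw [hdef, hkey]
      push_cast
      ring
  obtain ⟨r, hrR, hr⟩ := hfac
  have hjm : 2 ^ j ∣ m := hj ▸ hord_dvd
  obtain ⟨C, hC⟩ := exists_sum_units_eq_of_coeff_dvd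
    (fun i : IrrCharacter H × IrrCharacter H => c i.1 i.2) (fun i => w i.1 i.2) j
    (fun i => hwj i.1 i.2) m hjm (blockHeight 2 B (χ : G → ℂ))
    (by
      intro e z hz P hP hPz t
      refine hD2 hz P hP hm'odd (blockHeight 2 B (χ : G → ℂ)) hrR ?_ t
      rw [hPz, ← hterm1, hr])
  refine ⟨C, ?_⟩
  simp only [hterm]
  exact hC

/-- D3: with the strict lower bound D1 as a hypothesis, the integer is at least `2`. -/
theorem exists_two_le_sum_units_contrib_self_of [Fintype (IrrCharacter G)] (hM : IsPModular 2 M)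
    (hD2 : ∀ {e : ℕ} {z : ℂ}, z ^ (2 ^ e) = -1 → ∀ P : Polynomial ℤ, P.natDegree < 2 ^ e →
      ∀ {m' : ℕ}, Odd m' → ∀ (h : ℕ) {r : ℂ}, MemLocalRing M r →
        (m' : ℂ) * Polynomial.aeval z P = (2 : ℂ) ^ h * r → ∀ i : ℕ, (2 : ℤ) ^ h ∣ P.coeff i)
    (ξ₁ : IrrCharacter H) [DecidablePred (· ∈ blockOf M (ξ₁ : H → ℂ))] {B : Set (IrrCharacter G)}
    (hind : IsInducedBlock M H (blockOf M (ξ₁ : H → ℂ)) B)
    (hdef : blockDefect 2 (blockOf M (ξ₁ : H → ℂ)) = blockDefect 2 B) (y : H)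
    (hyc : y ∈ Subgroup.center H) (hy : ∃ k : ℕ, orderOf y = 2 ^ k)
    (hC : ∀ g : G, g * (y : G) * g⁻¹ = (y : G) → g ∈ H) {χ : IrrCharacter G}
    (hχ : χ ∈ B) (m : ℕ) [NeZero m] (hm : m = Nat.card G)
    (hD1 : (Fintype.card (ZMod m)ˣ : ℝ) * ((2 : ℕ) : ℝ) ^ blockHeight 2 B (χ : G → ℂ) <
      ∑ k : (ZMod m)ˣ, ((2 : ℕ) : ℝ) ^ blockDefect 2 B * ∑ ψ : IrrCharacter G,
        ‖contrib 2 H (blockOf M (ξ₁ : H → ℂ)) (y ^ (k : ZMod m).val) (χ : G → ℂ) (ψ : G → ℂ)‖ ^ 2) :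
    ∃ c : ℤ, 2 ≤ c ∧ ∑ k : (ZMod m)ˣ, ((2 : ℕ) : ℂ) ^ blockDefect 2 (blockOf M (ξ₁ : H → ℂ)) *
        contrib 2 H (blockOf M (ξ₁ : H → ℂ)) (y ^ (k : ZMod m).val) (χ : G → ℂ) (χ : G → ℂ) =
      (Fintype.card (ZMod m)ˣ : ℂ) * (2 : ℂ) ^ blockHeight 2 B (χ : G → ℂ) * (c : ℂ) := by
  classical
  have : Fact (Nat.Prime 2) := ⟨Nat.prime_two⟩
  obtain ⟨c, hc⟩ := exists_sum_units_contrib_self_eq_of H hM hD2 ξ₁ hind hdef y hyc hy hχ m hm
  refine ⟨c, ?_, hc⟩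
  have hord_dvd : orderOf y ∣ m := by
    rw [hm]
    exact (orderOf_dvd_natCard y).trans (Subgroup.card_subgroup_dvd_card H)
  -- the diagonal contributions are the real sums
  have hdiag : ∀ k : (ZMod m)ˣ, contrib 2 H (blockOf M (ξ₁ : H → ℂ)) (y ^ (k : ZMod m).val)
      (χ : G → ℂ) (χ : G → ℂ) = ((∑ ψ : IrrCharacter G,
        ‖contrib 2 H (blockOf M (ξ₁ : H → ℂ)) (y ^ (k : ZMod m).val) (χ : G → ℂ) (ψ : G → ℂ)‖ ^ 2 : ℝ) : ℂ) := by
    intro k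
    have hcop : ((k : ZMod m).val).Coprime (orderOf y) :=
      Nat.Coprime.coprime_dvd_right hord_dvd (ZMod.val_coe_unit_coprime k)
    obtain ⟨h1, h2, h3⟩ := pow_central_data H hyc hy Nat.prime_two hC hcop
    exact contrib_self_eq_sum H hM h1 h2 h3 ξ₁ χ
  have hsumR : ((∑ k : (ZMod m)ˣ, ((2 : ℕ) : ℝ) ^ blockDefect 2 B * ∑ ψ : IrrCharacter G,
      ‖contrib 2 H (blockOf M (ξ₁ : H → ℂ)) (y ^ (k : ZMod m).val) (χ : G → ℂ) (ψ : G → ℂ)‖ ^ 2 : ℝ) : ℂ) =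
      (((Fintype.card (ZMod m)ˣ : ℝ) * (2 : ℝ) ^ blockHeight 2 B (χ : G → ℂ) * (c : ℝ) : ℝ) : ℂ) := by
    push_cast
    rw [← hdef]
    push_cast at hc
    rw [← hc]
    refine Finset.sum_congr rfl fun k _ => ?_
    rw [hdiag k]
    push_cast
    rfl
  have hsumR' := Complex.ofReal_injective hsumR
  rw [hsumR'] at hD1
  have hφpos : (0 : ℝ) < (Fintype.card (ZMod m)ˣ : ℝ) * (2 : ℝ) ^ blockHeight 2 B (χ : G → ℂ) := by
    have : 0 < Fintype.card (ZMod m)ˣ := Fintype.card_pos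
    positivity
  have h1c : (1 : ℝ) < (c : ℝ) := by
    push_cast at hD1
    nlinarith
  have : (1 : ℤ) < c := by exact_mod_cast h1c
  omega

end Cfsg.Agent.Lib.H25.KZ
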