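import Mathlib

/-!
# S4541 piece E2 (helper25): a symmetric integer matrix with zero diagonal has even total sum
-/

set_option autoImplicit false

namespace Cfsg.Agent.Lib.H25.KZ

/-- In `ZMod 2`: the involution `(i, j) ↦ (j, i)` of `ι × ι` has as fixed points the diagonal, where `g = 0`,
and `g` is constant on its orbits: `Finset.sum_involution`. -/
theorem sum_symm_zmod_two {ι : Type*} [Fintype ι] (g : ι → ι → ℤ) (hsymm : ∀ i j, g i j = g j i)
    (hdiag : ∀ i, g i i = 0) : (∑ x : ι × ι, ((g x.1 x.2 : ℤ) : ZMod 2)) = 0 := by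
  classical
  refine Finset.sum_involution (fun (x : ι × ι) _ => (x.2, x.1)) ?_ ?_ ?_ ?_
  · intro x _
    show ((g x.1 x.2 : ℤ) : ZMod 2) + ((g x.2 x.1 : ℤ) : ZMod 2) = 0
    rw [hsymm x.2 x.1]
    have h2 : ((g x.1 x.2 : ℤ) : ZMod 2) + ((g x.1 x.2 : ℤ) : ZMod 2)
        = (2 : ZMod 2) * ((g x.1 x.2 : ℤ) : ZMod 2) := by ring
    rw [h2]
    have : (2 : ZMod 2) = 0 := by decide
    rw [this, zero_mul]
  · intro x _ hx hxx
    apply hx
    have h1 : x.2 = x.1 := congrArg Prod.fst hxx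
    rw [h1, hdiag]
    simp
  · intro x _
    exact Finset.mem_univ _
  · intro x _
    rfl

/-- (E2) a symmetric integer matrix with zero diagonal has even total sum. -/
theorem two_dvd_sum_symm {ι : Type*} [Fintype ι] (g : ι → ι → ℤ) (hsymm : ∀ i j, g i j = g j i)
    (hdiag : ∀ i, g i i = 0) : (2 : ℤ) ∣ ∑ i, ∑ j, g i j := by
  classical
  rw [← Fintype.sum_prod_type' g]
  have key : ((∑ x : ι × ι, g x.1 x.2 : ℤ) : ZMod 2) = 0 := by
    push_cast
    exact sum_symm_zmod_two g hsymm hdiag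
  exact_mod_cast (ZMod.intCast_zmod_eq_zero_iff_dvd (∑ x : ι × ι, g x.1 x.2) 2).1 key

end Cfsg.Agent.Lib.H25.KZ
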