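import Mathlib

/-! helper25: evaluation of the transfer at an involution, and a parity reduction by a
2-group acting on the fixed cosets. -/

set_option autoImplicit false

namespace Cfsg.Agent.Lib.H25.Lx

open Subgroup MonoidHom

variable {G : Type*} [Group G]

theorem out_mem (H : Subgroup G) (g : G) (q : G ⧸ H) :
    q.out⁻¹ * (g * (g⁻¹ • q).out) ∈ H := by
  rw [← QuotientGroup.eq]
  have h1 : ((q.out : G) : G ⧸ H) = q := QuotientGroup.out_eq' q
  have h2 : ((g * (g⁻¹ • q).out : G) : G ⧸ H) = g • (((g⁻¹ • q).out : G) : G ⧸ H) := rfl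
  rw [h1, h2, QuotientGroup.out_eq', smul_inv_smul]

/-- The `Quotient.out` transversal. -/
noncomputable def outT (H : Subgroup G) : H.LeftTransversal :=
  ⟨Set.range Quotient.out, isComplement_range_left Quotient.out_eq'⟩

theorem outT_apply (H : Subgroup G) (q : G ⧸ H) :
    (((outT H).2.leftQuotientEquiv q : (outT H).1) : G) = q.out :=
  IsComplement.leftQuotientEquiv_apply (f := Quotient.out) Quotient.out_eq' q

/-- The transfer computed with the `Quotient.out` transversal. -/
theorem transfer_eq_prod_out {H : Subgroup G} [H.FiniteIndex] {A : Type*} [CommGroup A]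
    (ϕ : H →* A) (g : G) [Fintype (G ⧸ H)] :
    transfer ϕ g = ∏ q : G ⧸ H, ϕ ⟨q.out⁻¹ * (g * (g⁻¹ • q).out), out_mem H g q⟩ := by
  have hinst : ‹Fintype (G ⧸ H)› = H.fintypeQuotientOfFiniteIndex := Subsingleton.elim _ _
  subst hinst
  rw [transfer_def ϕ (outT H) g]
  unfold Subgroup.leftTransversals.diff
  refine Finset.prod_congr rfl (fun q _ => ?_)
  congr 1
  apply Subtype.ext
  simp only
  rw [smul_apply_eq_smul_apply_inv_smul, outT_apply, outT_apply]
  rfl

theorem inv_eq_self_of_mul_self {u : G} (hu : u * u = 1) : u⁻¹ = u :=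
  inv_eq_of_mul_eq_one_left hu

/-- The transfer at an involution: only the fixed cosets contribute. -/
theorem transfer_involution {H : Subgroup G} [H.FiniteIndex] {A : Type*} [CommGroup A]
    (ϕ : H →* A) (u : G) (hu : u * u = 1) [Fintype (G ⧸ H)] [DecidableEq (G ⧸ H)] :
    transfer ϕ u = ∏ q ∈ Finset.univ.filter (fun q : G ⧸ H => u • q = q),
      ϕ ⟨q.out⁻¹ * (u * (u⁻¹ • q).out), out_mem H u q⟩ := by
  rw [transfer_eq_prod_out ϕ u]
  rw [← Finset.prod_filter_mul_prod_filter_not Finset.univ (fun q : G ⧸ H => u • q = q)]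
  have hinv : u⁻¹ = u := inv_eq_self_of_mul_self hu
  have huu : ∀ q : G ⧸ H, u • u • q = q := fun q => by rw [smul_smul, hu, one_smul]
  have h2 : ∏ q ∈ Finset.univ.filter (fun q : G ⧸ H => ¬ u • q = q),
      ϕ ⟨q.out⁻¹ * (u * (u⁻¹ • q).out), out_mem H u q⟩ = 1 := by
    refine Finset.prod_involution (fun q _ => u • q) ?_ ?_ ?_ ?_
    · intro q _
      rw [← map_mul]
      convert map_one ϕ
      apply Subtype.ext
      simp only [Subgroup.coe_mul, Subgroup.coe_one]
      rw [hinv, huu q]
      calc q.out⁻¹ * (u * (u • q).out) * ((u • q).out⁻¹ * (u * q.out))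
          = q.out⁻¹ * (u * u) * q.out := by group
        _ = 1 := by rw [hu]; group
    · intro q hq _
      exact (Finset.mem_filter.mp hq).2
    · intro q hq
      refine Finset.mem_filter.mpr ⟨Finset.mem_univ _, ?_⟩
      intro h
      apply (Finset.mem_filter.mp hq).2
      have h3 : u • u • u • q = u • u • q := congrArg (fun x => u • x) h
      rw [huu (u • q), huu q] at h3
      exact h3
    · intro q _
      exact huu q
  rw [h2, mul_one]

end Cfsg.Agent.Lib.H25.Lx
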