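import Mathlib
import Cfsg.Agent.Lib.H16.ThompsonTransfer
import Cfsg.Agent.Lib.H25.LxTransfer

/-! helper25: the transfer of the sign character of an index-two normal subgroup `K` of `H`,
evaluated at an involution `u`; reduction modulo a 2-group `P ≤ C(u)` acting on the cosets. -/

set_option autoImplicit false

namespace Cfsg.Agent.Lib.H25.Lx

open Subgroup MonoidHom Cfsg.Agent.Lib.H16

variable {G : Type*} [Group G]

/-- `g⁻¹ u g` lies in `H` but not in `K`. -/
def IsBad (H K : Subgroup G) (u g : G) : Prop := g⁻¹ * u * g ∈ H ∧ g⁻¹ * u * g ∉ K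

theorem isBad_mul_right {H K : Subgroup G} (hKH : K ≤ H)
    (hKn : ∀ h ∈ H, ∀ k ∈ K, h * k * h⁻¹ ∈ K) (u g h : G) (hh : h ∈ H) :
    IsBad H K u (g * h) ↔ IsBad H K u g := by
  have e1 : (g * h)⁻¹ * u * (g * h) = h⁻¹ * (g⁻¹ * u * g) * h⁻¹⁻¹ := by group
  have e2 : g⁻¹ * u * g = h * ((g * h)⁻¹ * u * (g * h)) * h⁻¹ := by group
  unfold IsBad
  constructor
  · rintro ⟨h1, h2⟩
    refine ⟨?_, fun h3 => h2 ?_⟩
    · rw [e2]; exact H.mul_mem (H.mul_mem hh h1) (H.inv_mem hh)
    · rw [e1]; exact hKn _ (H.inv_mem hh) _ h3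
  · rintro ⟨h1, h2⟩
    refine ⟨?_, fun h3 => h2 ?_⟩
    · rw [e1]; exact H.mul_mem (H.mul_mem (H.inv_mem hh) h1) (H.inv_mem (H.inv_mem hh))
    · rw [e2]; exact hKn _ hh _ h3

theorem isBad_mul_left {H K : Subgroup G} (u g p : G) (hp : p * u = u * p) :
    IsBad H K u (p * g) ↔ IsBad H K u g := by
  have e1 : (p * g)⁻¹ * u * (p * g) = g⁻¹ * u * g := by
    calc (p * g)⁻¹ * u * (p * g) = g⁻¹ * (p⁻¹ * (u * p)) * g := by group
      _ = g⁻¹ * (p⁻¹ * (p * u)) * g := by rw [hp]
      _ = g⁻¹ * u * g := by group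
  unfold IsBad
  rw [e1]

/-- Badness is a property of the coset. -/
theorem isBad_out_iff {H K : Subgroup G} (hKH : K ≤ H)
    (hKn : ∀ h ∈ H, ∀ k ∈ K, h * k * h⁻¹ ∈ K) (u g : G) :
    IsBad H K u ((g : G ⧸ H)).out ↔ IsBad H K u g := by
  have h1 : (((g : G ⧸ H)).out : G ⧸ H) = (g : G ⧸ H) := QuotientGroup.out_eq' _
  have h2 : g⁻¹ * ((g : G ⧸ H)).out ∈ H := QuotientGroup.eq.mp h1.symm
  have h3 : ((g : G ⧸ H)).out = g * (g⁻¹ * ((g : G ⧸ H)).out) := by group
  rw [h3]
  exact isBad_mul_right hKH hKn u g _ h2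

theorem isBad_smul_fixed {H K : Subgroup G} (u g : G) (hb : IsBad H K u g) :
    u • (g : G ⧸ H) = (g : G ⧸ H) := by
  have h2 : u • (g : G ⧸ H) = ((u * g : G) : G ⧸ H) := rfl
  rw [h2, eq_comm, QuotientGroup.eq]
  have : g⁻¹ * (u * g) = g⁻¹ * u * g := by group
  rw [this]
  exact hb.1

/-- The bad cosets, as a sub-action of a subgroup `P` centralizing `u`. -/
def badSub (H K : Subgroup G) (hKH : K ≤ H) (hKn : ∀ h ∈ H, ∀ k ∈ K, h * k * h⁻¹ ∈ K)
    (u : G) (P : Subgroup G) (hPu : ∀ p ∈ P, p * u = u * p) : SubMulAction P (G ⧸ H) where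
  carrier := {q | IsBad H K u q.out}
  smul_mem' := by
    intro p q hq
    have h1 : p • q = (((p : G) * q.out : G) : G ⧸ H) := by
      conv_lhs => rw [← QuotientGroup.out_eq' q]
      rfl
    show IsBad H K u (p • q).out
    rw [h1, isBad_out_iff hKH hKn, isBad_mul_left u _ _ (hPu p p.2)]
    exact hq

theorem mem_badSub {H K : Subgroup G} (hKH : K ≤ H) (hKn : ∀ h ∈ H, ∀ k ∈ K, h * k * h⁻¹ ∈ K)
    (u : G) (P : Subgroup G) (hPu : ∀ p ∈ P, p * u = u * p) (q : G ⧸ H) :
    q ∈ badSub H K hKH hKn u P hPu ↔ IsBad H K u q.out := Iff.rfl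

/-- If the base coset is the only bad coset fixed by the 2-group `P`, the number of bad cosets
is odd. -/
theorem odd_card_badSub [Finite G] (H K : Subgroup G) (hKH : K ≤ H)
    (hKn : ∀ h ∈ H, ∀ k ∈ K, h * k * h⁻¹ ∈ K)
    (u : G) (huH : u ∈ H) (huK : u ∉ K)
    (P : Subgroup G) (hP : IsPGroup 2 P) (hPH : P ≤ H) (hPu : ∀ p ∈ P, p * u = u * p)
    (hfix : ∀ g : G, IsBad H K u g → (∀ p ∈ P, g⁻¹ * p * g ∈ H) → g ∈ H) :
    Odd (Nat.card (badSub H K hKH hKn u P hPu)) := by
  haveI : Fact (Nat.Prime 2) := ⟨Nat.prime_two⟩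
  have hmod := hP.card_modEq_card_fixedPoints (badSub H K hKH hKn u P hPu)
  -- the base coset
  have hbase : IsBad H K u (1 : G) := by
    unfold IsBad
    simp only [inv_one, one_mul, mul_one]
    exact ⟨huH, huK⟩
  have hbase' : ((1 : G) : G ⧸ H) ∈ badSub H K hKH hKn u P hPu := by
    rw [mem_badSub, isBad_out_iff hKH hKn]
    exact hbase
  have hone : Nat.card (MulAction.fixedPoints P (badSub H K hKH hKn u P hPu)) = 1 := by
    rw [Nat.card_eq_one_iff_unique]
    constructor
    · constructor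
      rintro ⟨⟨q, hq⟩, hqf⟩ ⟨⟨q', hq'⟩, hqf'⟩
      have key : ∀ (q : G ⧸ H) (hq : q ∈ badSub H K hKH hKn u P hPu),
          (⟨q, hq⟩ : badSub H K hKH hKn u P hPu) ∈
            MulAction.fixedPoints P (badSub H K hKH hKn u P hPu) → q = ((1 : G) : G ⧸ H) := by
        intro q hq hqf
        have hb : IsBad H K u q.out := hq
        have hg : q.out ∈ H := by
          refine hfix _ hb ?_
          intro p hp
          have h1 := hqf ⟨p, hp⟩
          have h2 : (⟨p, hp⟩ : P) • q = q := congrArg Subtype.val h1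
          have h3 : (⟨p, hp⟩ : P) • q = ((p * q.out : G) : G ⧸ H) := by
            conv_lhs => rw [← QuotientGroup.out_eq' q]
            rfl
          rw [h3] at h2
          have h4 : ((q.out : G) : G ⧸ H) = ((p * q.out : G) : G ⧸ H) := by
            rw [h2, QuotientGroup.out_eq']
          have h5 := QuotientGroup.eq.mp h4
          have : q.out⁻¹ * p * q.out = q.out⁻¹ * (p * q.out) := by group
          rw [this]; exact h5
        rw [← QuotientGroup.out_eq' q, QuotientGroup.eq]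
        simpa using H.inv_mem hg
      have e1 := key q hq hqf
      have e2 := key q' hq' hqf'
      apply Subtype.ext
      apply Subtype.ext
      show q = q'
      rw [e1, e2]
    · refine ⟨⟨⟨((1 : G) : G ⧸ H), hbase'⟩, ?_⟩⟩
      intro p
      apply Subtype.ext
      show (p : G) • ((1 : G) : G ⧸ H) = ((1 : G) : G ⧸ H)
      have h3 : (p : G) • ((1 : G) : G ⧸ H) = (((p : G) * 1 : G) : G ⧸ H) := rfl
      rw [h3, eq_comm, QuotientGroup.eq]
      simpa using hPH p.2
  rw [hone] at hmod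
  rw [Nat.odd_iff]
  exact hmod

/-- The transfer of the sign character at an involution is `(-1)` to the number of bad cosets. -/
theorem transfer_sgn_involution [Finite G] (H K : Subgroup G) (hKH : K ≤ H)
    (hKn : ∀ h ∈ H, ∀ k ∈ K, h * k * h⁻¹ ∈ K) (hKi : K.relIndex H = 2)
    (u : G) (hu : u * u = 1)
    (P : Subgroup G) (hPu : ∀ p ∈ P, p * u = u * p) :
    transfer (sgnHom H K hKi) u = (-1) ^ Nat.card (badSub H K hKH hKn u P hPu) := by
  classical
  haveI : Fintype (G ⧸ H) := Fintype.ofFinite _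
  rw [transfer_involution (sgnHom H K hKi) u hu]
  have hinv : u⁻¹ = u := inv_eq_self_of_mul_self hu
  have hterm : ∀ q ∈ Finset.univ.filter (fun q : G ⧸ H => u • q = q),
      sgnHom H K hKi ⟨q.out⁻¹ * (u * (u⁻¹ • q).out), out_mem H u q⟩ =
        if IsBad H K u q.out then -1 else 1 := by
    intro q hq
    have hfix : u • q = q := (Finset.mem_filter.mp hq).2
    have hmem := out_mem H u q
    have e1 : q.out⁻¹ * (u * (u⁻¹ • q).out) = q.out⁻¹ * u * q.out := by
      rw [hinv, hfix]; group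
    by_cases hb : IsBad H K u q.out
    · rw [if_pos hb]
      apply sgnHom_of_not_mem
      show q.out⁻¹ * (u * (u⁻¹ • q).out) ∉ K
      rw [e1]; exact hb.2
    · rw [if_neg hb]
      apply sgnHom_of_mem
      show q.out⁻¹ * (u * (u⁻¹ • q).out) ∈ K
      rw [e1]
      by_contra hk
      exact hb ⟨by rw [← e1]; exact hmem, hk⟩
  rw [Finset.prod_congr rfl hterm, Finset.prod_ite, Finset.prod_const_one, mul_one,
    Finset.prod_const]
  congr 1
  rw [Finset.filter_filter]
  have hset : (Finset.univ.filter (fun q : G ⧸ H => u • q = q ∧ IsBad H K u q.out)) =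
      Finset.univ.filter (fun q : G ⧸ H => q ∈ badSub H K hKH hKn u P hPu) := by
    ext q
    simp only [Finset.mem_filter, Finset.mem_univ, true_and, mem_badSub]
    constructor
    · exact fun h => h.2
    · intro h
      refine ⟨?_, h⟩
      have := isBad_smul_fixed u q.out h
      rwa [QuotientGroup.out_eq'] at this
  rw [hset, Nat.card_eq_fintype_card, Fintype.card_subtype]

/-- If the base coset is the only bad coset fixed by the 2-group `P`, the transfer is `-1`. -/
theorem transfer_sgn_eq_neg_one [Finite G] (H K : Subgroup G) (hKH : K ≤ H)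
    (hKn : ∀ h ∈ H, ∀ k ∈ K, h * k * h⁻¹ ∈ K) (hKi : K.relIndex H = 2)
    (u : G) (hu : u * u = 1) (huH : u ∈ H) (huK : u ∉ K)
    (P : Subgroup G) (hP : IsPGroup 2 P) (hPH : P ≤ H) (hPu : ∀ p ∈ P, p * u = u * p)
    (hfix : ∀ g : G, IsBad H K u g → (∀ p ∈ P, g⁻¹ * p * g ∈ H) → g ∈ H) :
    transfer (sgnHom H K hKi) u = -1 := by
  rw [transfer_sgn_involution H K hKH hKn hKi u hu P hPu]
  exact (odd_card_badSub H K hKH hKn u huH huK P hP hPH hPu hfix).neg_one_pow

/-- A group generated by its elements of odd order has no nontrivial homomorphism to `ℤˣ`. -/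
theorem hom_units_int_trivial (hres : Subgroup.closure {g : G | Nat.Coprime (orderOf g) 2} = ⊤)
    (f : G →* ℤˣ) (x : G) : f x = 1 := by
  have hle : Subgroup.closure {g : G | Nat.Coprime (orderOf g) 2} ≤ f.ker := by
    rw [Subgroup.closure_le]
    intro g hg
    rw [Set.mem_setOf_eq] at hg
    rw [SetLike.mem_coe, MonoidHom.mem_ker]
    have h1 : orderOf (f g) ∣ orderOf g := orderOf_map_dvd f g
    have h2 : orderOf (f g) ∣ 2 := by
      apply orderOf_dvd_of_pow_eq_one
      rcases Int.units_eq_one_or (f g) with h | h <;> rw [h] <;> simp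
    have h3 : orderOf (f g) ∣ Nat.gcd (orderOf g) 2 := Nat.dvd_gcd h1 h2
    rw [Nat.Coprime] at hg
    rw [hg, Nat.dvd_one] at h3
    exact orderOf_eq_one_iff.mp h3
  have : x ∈ f.ker := hle (by rw [hres]; exact Subgroup.mem_top x)
  exact MonoidHom.mem_ker.mp this

end Cfsg.Agent.Lib.H25.Lx
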