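import Mathlib

/-! helper25: elementary calculus in an extraspecial 2-group `E ≤ G` with centre `{1, z}`,
packaged as element-wise hypotheses (`XS`). -/

set_option autoImplicit false

namespace Cfsg.Agent.Lib.H25.Lx

variable {G : Type*} [Group G]

/-- Element-wise form of "`E` is an extraspecial 2-group with centre `{1, z}`". -/
structure XS (E : Subgroup G) (z : G) : Prop where
  z_ne : z ≠ 1
  z_sq : z * z = 1
  z_mem : z ∈ E
  z_comm : ∀ e ∈ E, e * z = z * e
  cen : ∀ c ∈ E, (∀ e ∈ E, c * e = e * c) → c = 1 ∨ c = z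
  comm : ∀ a ∈ E, ∀ b ∈ E, a * b = b * a ∨ a * b = z * (b * a)
  sq : ∀ e ∈ E, e * e = 1 ∨ e * e = z

namespace XS

variable {E : Subgroup G} {z : G}

theorem z_inv (h : XS E z) : z⁻¹ = z := inv_eq_of_mul_eq_one_left h.z_sq

/-- If `a` and `b` both fail to commute with `u`, then `a⁻¹ b` commutes with `u`. -/
theorem inv_mul_comm_of_not_comm (h : XS E z) {a b u : G} (ha : a ∈ E) (hb : b ∈ E) (hu : u ∈ E)
    (hau : a * u ≠ u * a) (hbu : b * u ≠ u * b) : (a⁻¹ * b) * u = u * (a⁻¹ * b) := by
  have h1 : a * u = z * (u * a) := (h.comm a ha u hu).resolve_left hau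
  have h2 : b * u = z * (u * b) := (h.comm b hb u hu).resolve_left hbu
  have hzu : u * z = z * u := h.z_comm u hu
  -- a⁻¹ u = z u a⁻¹
  have h3 : a⁻¹ * u = z * (u * a⁻¹) := by
    have : u = a⁻¹ * (z * (u * a)) := by rw [← h1]; group
    calc a⁻¹ * u = a⁻¹ * u * a * a⁻¹ := by group
      _ = a⁻¹ * (z * z) * u * a * a⁻¹ := by rw [h.z_sq]; group
      _ = z * (a⁻¹ * (z * (u * a))) * a⁻¹ := by
          have hza : a⁻¹ * z = z * a⁻¹ := h.z_comm _ (E.inv_mem ha)
          calc a⁻¹ * (z * z) * u * a * a⁻¹ = (a⁻¹ * z) * (z * (u * a)) * a⁻¹ := by group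
            _ = (z * a⁻¹) * (z * (u * a)) * a⁻¹ := by rw [hza]
            _ = z * (a⁻¹ * (z * (u * a))) * a⁻¹ := by group
      _ = z * u * a⁻¹ := by rw [← this]
      _ = z * (u * a⁻¹) := by group
  calc (a⁻¹ * b) * u = a⁻¹ * (b * u) := by group
    _ = a⁻¹ * (z * (u * b)) := by rw [h2]
    _ = (a⁻¹ * z) * u * b := by group
    _ = (z * a⁻¹) * u * b := by rw [h.z_comm _ (E.inv_mem ha)]
    _ = z * (a⁻¹ * u) * b := by group
    _ = z * (z * (u * a⁻¹)) * b := by rw [h3]
    _ = (z * z) * u * (a⁻¹ * b) := by group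
    _ = u * (a⁻¹ * b) := by rw [h.z_sq]; group

/-- If `a`, `b` commute with `u` then so does `a⁻¹ b`. -/
theorem inv_mul_comm_of_comm {a b u : G}
    (hau : a * u = u * a) (hbu : b * u = u * b) : (a⁻¹ * b) * u = u * (a⁻¹ * b) := by
  have h3 : a⁻¹ * u = u * a⁻¹ := by
    calc a⁻¹ * u = a⁻¹ * (u * a) * a⁻¹ := by group
      _ = a⁻¹ * (a * u) * a⁻¹ := by rw [hau]
      _ = u * a⁻¹ := by group
  calc (a⁻¹ * b) * u = a⁻¹ * (b * u) := by group
    _ = a⁻¹ * (u * b) := by rw [hbu]
    _ = (a⁻¹ * u) * b := by group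
    _ = (u * a⁻¹) * b := by rw [h3]
    _ = u * (a⁻¹ * b) := by group

/-- In an extraspecial 2-group of order more than 8, centralizers of elements are nonabelian. -/
theorem exists_noncomm_in_centralizer [Finite G] (h : XS E z) (hcard : 8 < Nat.card E)
    {u : G} (hu : u ∈ E) :
    ∃ a ∈ E, ∃ b ∈ E, a * u = u * a ∧ b * u = u * b ∧ a * b = z * (b * a) := by
  classical
  by_contra hcon
  have hab : ∀ a ∈ E, ∀ b ∈ E, a * u = u * a → b * u = u * b → a * b = b * a := by
    intro a ha b hb hau hbu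
    rcases h.comm a ha b hb with h1 | h1
    · exact h1
    · exact absurd ⟨a, ha, b, hb, hau, hbu, h1⟩ hcon
  by_cases hcen : ∀ e ∈ E, e * u = u * e
  · -- `E` abelian, so `E ⊆ {1, z}`
    have hall : ∀ e ∈ E, e = 1 ∨ e = z := fun e he =>
      h.cen e he (fun e' he' => hab e he e' he' (hcen e he) (hcen e' he'))
    have hinj : Function.Injective (fun e : E => decide ((e : G) = 1)) := by
      intro e e' hee
      simp only [decide_eq_decide] at hee
      apply Subtype.ext
      rcases hall e e.2 with h1 | h1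
      · rw [h1]; exact (hee.mp h1).symm
      · rcases hall e' e'.2 with h2 | h2
        · exact absurd (hee.mpr h2) (by rw [h1]; exact h.z_ne)
        · rw [h1, h2]
    have := Nat.card_le_card_of_injective _ hinj
    rw [Nat.card_eq_fintype_card (α := Bool), Fintype.card_bool] at this
    omega
  · push Not at hcen
    obtain ⟨w, hw, hwu⟩ := hcen
    haveI : Fintype E := Fintype.ofFinite _
    let f : E → Bool × Bool := fun e =>
      (decide ((e : G) * u = u * e), decide ((e : G) * w = w * e))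
    have hfib : ∀ a ∈ (Finset.univ : Finset E).image f,
        ((Finset.univ : Finset E).filter (fun x => f x = a)).card ≤ 2 := by
      intro a ha
      obtain ⟨e0, -, rfl⟩ := Finset.mem_image.mp ha
      have hsub : (Finset.univ : Finset E).filter (fun x => f x = f e0) ⊆
          {e0, e0 * ⟨z, h.z_mem⟩} := by
        intro e he
        have hfe : f e = f e0 := (Finset.mem_filter.mp he).2
        simp only [f, Prod.mk.injEq, decide_eq_decide] at hfe
        obtain ⟨hf1, hf2⟩ := hfe
        set c : G := (e0 : G)⁻¹ * e with hc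
        have hcE : c ∈ E := E.mul_mem (E.inv_mem e0.2) e.2
        have hcu : c * u = u * c := by
          by_cases h0 : (e0 : G) * u = u * e0
          · exact inv_mul_comm_of_comm h0 (hf1.mpr h0)
          · exact h.inv_mul_comm_of_not_comm e0.2 e.2 hu h0 (fun h1 => h0 (hf1.mp h1))
        have hcw : c * w = w * c := by
          by_cases h0 : (e0 : G) * w = w * e0
          · exact inv_mul_comm_of_comm h0 (hf2.mpr h0)
          · exact h.inv_mul_comm_of_not_comm e0.2 e.2 hw h0 (fun h1 => h0 (hf2.mp h1))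
        have hccen : ∀ e'' ∈ E, c * e'' = e'' * c := by
          intro e'' he''
          by_cases h0 : e'' * u = u * e''
          · exact hab c hcE e'' he'' hcu h0
          · have h1 := h.inv_mul_comm_of_not_comm hw he'' hu hwu h0
            have h2 := hab c hcE _ (E.mul_mem (E.inv_mem hw) he'') hcu h1
            calc c * e'' = (c * w) * (w⁻¹ * e'') := by group
              _ = (w * c) * (w⁻¹ * e'') := by rw [hcw]
              _ = w * (c * (w⁻¹ * e'')) := by group
              _ = w * ((w⁻¹ * e'') * c) := by rw [h2]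
              _ = e'' * c := by group
        rcases h.cen c hcE hccen with h1 | h1
        · have : e = e0 := by
            apply Subtype.ext
            have : (e : G) = e0 * c := by rw [hc]; group
            rw [this, h1, mul_one]
          rw [this]; exact Finset.mem_insert_self _ _
        · have : e = e0 * ⟨z, h.z_mem⟩ := by
            apply Subtype.ext
            have : (e : G) = e0 * c := by rw [hc]; group
            rw [this, h1]; rfl
          rw [this]
          exact Finset.mem_insert_of_mem (Finset.mem_singleton_self _)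
      exact (Finset.card_le_card hsub).trans Finset.card_le_two
    have h1 := Finset.card_le_mul_card_image (Finset.univ : Finset E) 2 hfib
    have h2 : ((Finset.univ : Finset E).image f).card ≤ 4 := by
      have := Finset.card_le_univ ((Finset.univ : Finset E).image f)
      simpa using this
    rw [Finset.card_univ, ← Nat.card_eq_fintype_card] at h1
    omega

/-- In an extraspecial 2-group of order more than 8, a subgroup `M ∌` all of `E`, "of index 2",
misses an involution of `E`. -/
theorem exists_involution_not_mem [Finite G] (h : XS E z) (hcard : 8 < Nat.card E)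
    (M : Subgroup G) (hidx : ∀ a ∈ E, ∀ b ∈ E, a ∉ M → b ∉ M → a⁻¹ * b ∈ M)
    (hne : ∃ e ∈ E, e ∉ M) : ∃ u ∈ E, u ∉ M ∧ u * u = 1 := by
  by_contra hcon
  have hsqz : ∀ v ∈ E, v ∉ M → v * v = z := by
    intro v hv hvM
    rcases h.sq v hv with h1 | h1
    · exact absurd ⟨v, hv, hvM, h1⟩ hcon
    · exact h1
  obtain ⟨u, hu, huM⟩ := hne
  obtain ⟨a, ha, b, hb, hau, hbu, hab⟩ := h.exists_noncomm_in_centralizer hcard hu
  -- elements of `C_E(u) ∩ M` are involutions
  have hY : ∀ y ∈ E, y * u = u * y → y ∈ M → y * y = 1 := by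
    intro y hy hyu hyM
    have h1 : u * y ∉ M := by
      intro h2
      apply huM
      have : u = (u * y) * y⁻¹ := by group
      rw [this]; exact M.mul_mem h2 (M.inv_mem hyM)
    have h2 := hsqz _ (E.mul_mem hu hy) h1
    have h3 := hsqz u hu huM
    have h4 : (u * y) * (u * y) = (u * u) * (y * y) := by
      calc (u * y) * (u * y) = u * (y * u) * y := by group
        _ = u * (u * y) * y := by rw [hyu]
        _ = (u * u) * (y * y) := by group
    rw [h4, h3] at h2
    exact mul_eq_left.mp h2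
  -- hence they commute with each other
  have hYc : ∀ y ∈ E, y * u = u * y → y ∈ M → ∀ y' ∈ E, y' * u = u * y' → y' ∈ M →
      y * y' = y' * y := by
    intro y hy hyu hyM y' hy' hyu' hyM'
    have h1 := hY y hy hyu hyM
    have h2 := hY y' hy' hyu' hyM'
    have hyyu : (y * y') * u = u * (y * y') := by
      calc (y * y') * u = y * (y' * u) := by group
        _ = y * (u * y') := by rw [hyu']
        _ = (y * u) * y' := by group
        _ = (u * y) * y' := by rw [hyu]
        _ = u * (y * y') := by group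
    have h3 := hY (y * y') (E.mul_mem hy hy') hyyu (M.mul_mem hyM hyM')
    calc y * y' = (y * y' * (y * y')) * (y'⁻¹ * y⁻¹) := by group
      _ = y'⁻¹ * y⁻¹ := by rw [h3, one_mul]
      _ = y' * y := by rw [inv_eq_of_mul_eq_one_left h1, inv_eq_of_mul_eq_one_left h2]
  -- decomposition of `C_E(u)`
  have hdec : ∀ t ∈ E, t * u = u * t → ∃ t' ∈ E, t' * u = u * t' ∧ t' ∈ M ∧ (t = t' ∨ t = u * t') := by
    intro t ht htu
    by_cases htM : t ∈ M
    · exact ⟨t, ht, htu, htM, Or.inl rfl⟩
    · refine ⟨u⁻¹ * t, E.mul_mem (E.inv_mem hu) ht, inv_mul_comm_of_comm rfl htu,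
        hidx u hu t ht huM htM, Or.inr (by group)⟩
  -- elements of `C_E(u) ∩ M` are central in `C_E(u)`
  have hYcen : ∀ y ∈ E, y * u = u * y → y ∈ M → ∀ t ∈ E, t * u = u * t → y * t = t * y := by
    intro y hy hyu hyM t ht htu
    obtain ⟨t', ht', htu', htM', h1 | h1⟩ := hdec t ht htu
    · rw [h1]; exact hYc y hy hyu hyM t' ht' htu' htM'
    · rw [h1]
      have h2 := hYc y hy hyu hyM t' ht' htu' htM'
      calc y * (u * t') = (y * u) * t' := by group
        _ = (u * y) * t' := by rw [hyu]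
        _ = u * (y * t') := by group
        _ = u * (t' * y) := by rw [h2]
        _ = u * t' * y := by group
  have habc : a * b = b * a := by
    obtain ⟨a', ha', hau', haM', h1 | h1⟩ := hdec a ha hau
    · rw [h1]; exact hYcen a' ha' hau' haM' b hb hbu
    · rw [h1]
      have h2 := hYcen a' ha' hau' haM' b hb hbu
      calc (u * a') * b = u * (a' * b) := by group
        _ = u * (b * a') := by rw [h2]
        _ = (u * b) * a' := by group
        _ = (b * u) * a' := by rw [hbu]
        _ = b * (u * a') := by group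
  rw [habc] at hab
  exact h.z_ne (mul_eq_right.mp hab.symm)

/-- `u e₀ = z e₀ u` from `e₀ u = z u e₀`. -/
theorem swap_rel (h : XS E z) {e u : G} (he : e ∈ E) (hu : u ∈ E) (h1 : e * u = z * (u * e)) :
    u * e = z * (e * u) := by
  rw [h1, ← mul_assoc, h.z_sq, one_mul]

/-- An element of `E` commuting with `C_E(u)` and with one element outside `C_E(u)` is central. -/
theorem central_of_comm (h : XS E z) {u e₀ : G} (hu : u ∈ E) (he₀ : e₀ ∈ E)
    (h0 : e₀ * u ≠ u * e₀) {y : G}
    (hyF : ∀ f ∈ E, f * u = u * f → y * f = f * y) (hye : y * e₀ = e₀ * y) :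
    ∀ e ∈ E, y * e = e * y := by
  intro e he
  by_cases h1 : e * u = u * e
  · exact hyF e he h1
  · have h2 := h.inv_mul_comm_of_not_comm he₀ he hu h0 h1
    have h3 := hyF _ (E.mul_mem (E.inv_mem he₀) he) h2
    calc y * e = (y * e₀) * (e₀⁻¹ * e) := by group
      _ = (e₀ * y) * (e₀⁻¹ * e) := by rw [hye]
      _ = e₀ * (y * (e₀⁻¹ * e)) := by group
      _ = e₀ * ((e₀⁻¹ * e) * y) := by rw [h3]
      _ = e * y := by group

/-- `C_E(C_E(u)) = {1, z, u, zu}` for a non-central involution `u`. -/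
theorem centralizer_centralizer_in (h : XS E z) {u : G} (hu : u ∈ E) (huu : u * u = 1)
    {e₀ : G} (he₀ : e₀ ∈ E) (h0 : e₀ * u ≠ u * e₀) {y : G} (hy : y ∈ E)
    (hyF : ∀ f ∈ E, f * u = u * f → y * f = f * y) :
    y = 1 ∨ y = z ∨ y = u ∨ y = z * u := by
  have he0u : e₀ * u = z * (u * e₀) := (h.comm e₀ he₀ u hu).resolve_left h0
  have hue0 : u * e₀ = z * (e₀ * u) := h.swap_rel he₀ hu he0u
  have hyu : y * u = u * y := hyF u hu rfl
  by_cases hye : y * e₀ = e₀ * y
  · rcases h.cen y hy (h.central_of_comm hu he₀ h0 hyF hye) with h1 | h1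
    · exact Or.inl h1
    · exact Or.inr (Or.inl h1)
  · have hye' : y * e₀ = z * (e₀ * y) := (h.comm y hy e₀ he₀).resolve_left hye
    have hzy : y * z = z * y := h.z_comm y hy
    have hze : e₀ * z = z * e₀ := h.z_comm e₀ he₀
    have h1 : (y * u) * e₀ = e₀ * (y * u) := by
      calc (y * u) * e₀ = y * (u * e₀) := by group
        _ = y * (z * (e₀ * u)) := by rw [hue0]
        _ = (y * z) * e₀ * u := by group
        _ = (z * y) * e₀ * u := by rw [hzy]
        _ = z * (y * e₀) * u := by group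
        _ = z * (z * (e₀ * y)) * u := by rw [hye']
        _ = (z * z) * (e₀ * (y * u)) := by group
        _ = e₀ * (y * u) := by rw [h.z_sq, one_mul]
    have h2 : ∀ f ∈ E, f * u = u * f → (y * u) * f = f * (y * u) := by
      intro f hf hfu
      have := hyF f hf hfu
      calc (y * u) * f = y * (u * f) := by group
        _ = y * (f * u) := by rw [hfu]
        _ = (y * f) * u := by group
        _ = (f * y) * u := by rw [this]
        _ = f * (y * u) := by group
    have huinv : u⁻¹ = u := inv_eq_of_mul_eq_one_left huu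
    rcases h.cen (y * u) (E.mul_mem hy hu) (h.central_of_comm hu he₀ h0 h2 h1) with h3 | h3
    · refine Or.inr (Or.inr (Or.inl ?_))
      calc y = (y * u) * u⁻¹ := by group
        _ = u := by rw [h3, one_mul, huinv]
    · refine Or.inr (Or.inr (Or.inr ?_))
      calc y = (y * u) * u⁻¹ := by group
        _ = z * u := by rw [h3, huinv]

/-- `C_G(C_E(u)) ⊆ {1, z, u, zu}` for a non-central involution `u` of `E`, if `C_G(E) ≤ E`;
here `c` is assumed to normalize `E`. -/
theorem centralizer_centralizer (h : XS E z)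
    (hcent : ∀ c : G, (∀ e ∈ E, c * e = e * c) → c ∈ E)
    {u : G} (hu : u ∈ E) (huu : u * u = 1) (hu1 : u ≠ 1) (huz : u ≠ z)
    {c : G} (hcE : ∀ e ∈ E, c * e * c⁻¹ ∈ E)
    (hcF : ∀ f ∈ E, f * u = u * f → c * f = f * c) :
    c = 1 ∨ c = z ∨ c = u ∨ c = z * u := by
  -- `u` is not central
  have hnc : ∃ e₀ ∈ E, e₀ * u ≠ u * e₀ := by
    by_contra hcon
    push Not at hcon
    rcases h.cen u hu (fun e he => (hcon e he).symm) with h1 | h1
    · exact hu1 h1
    · exact huz h1
  obtain ⟨e₀, he₀, h0⟩ := hnc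
  have he0u : e₀ * u = z * (u * e₀) := (h.comm e₀ he₀ u hu).resolve_left h0
  have hue0 : u * e₀ = z * (e₀ * u) := h.swap_rel he₀ hu he0u
  have hcz : c * z = z * c := hcF z h.z_mem (h.z_comm u hu).symm
  have hze : e₀ * z = z * e₀ := h.z_comm e₀ he₀
  have huz' : u * z = z * u := h.z_comm u hu
  set e₁ : G := c * e₀ * c⁻¹ with he₁
  have he₁E : e₁ ∈ E := hcE e₀ he₀
  set d : G := e₀⁻¹ * e₁ with hd
  have hdE : d ∈ E := E.mul_mem (E.inv_mem he₀) he₁E
  -- `d` centralizes `C_E(u)`
  have hdF : ∀ f ∈ E, f * u = u * f → d * f = f * d := by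
    intro f hf hfu
    have hf'E : e₀ * f * e₀⁻¹ ∈ E := E.mul_mem (E.mul_mem he₀ hf) (E.inv_mem he₀)
    have hf'u : (e₀ * f * e₀⁻¹) * u = u * (e₀ * f * e₀⁻¹) := by
      have hinv : e₀⁻¹ * u = z * (u * e₀⁻¹) := by
        calc e₀⁻¹ * u = e₀⁻¹ * (u * e₀) * e₀⁻¹ := by group
          _ = e₀⁻¹ * (z * (e₀ * u)) * e₀⁻¹ := by rw [hue0]
          _ = (e₀⁻¹ * z) * e₀ * u * e₀⁻¹ := by group
          _ = (z * e₀⁻¹) * e₀ * u * e₀⁻¹ := by rw [h.z_comm _ (E.inv_mem he₀)]
          _ = z * (u * e₀⁻¹) := by group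
      have hfz : f * z = z * f := h.z_comm f hf
      calc (e₀ * f * e₀⁻¹) * u = e₀ * f * (e₀⁻¹ * u) := by group
        _ = e₀ * f * (z * (u * e₀⁻¹)) := by rw [hinv]
        _ = e₀ * (f * z) * u * e₀⁻¹ := by group
        _ = e₀ * (z * f) * u * e₀⁻¹ := by rw [hfz]
        _ = (e₀ * z) * (f * u) * e₀⁻¹ := by group
        _ = (z * e₀) * (u * f) * e₀⁻¹ := by rw [hze, hfu]
        _ = z * (e₀ * u) * f * e₀⁻¹ := by group
        _ = z * (z * (u * e₀)) * f * e₀⁻¹ := by rw [he0u]
        _ = (z * z) * (u * (e₀ * f * e₀⁻¹)) := by group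
        _ = u * (e₀ * f * e₀⁻¹) := by rw [h.z_sq, one_mul]
    have hc1 := hcF f hf hfu
    have hc2 := hcF _ hf'E hf'u
    have hc1' : c⁻¹ * f = f * c⁻¹ := by
      calc c⁻¹ * f = c⁻¹ * (f * c) * c⁻¹ := by group
        _ = c⁻¹ * (c * f) * c⁻¹ := by rw [hc1]
        _ = f * c⁻¹ := by group
    have key : e₁ * f * e₁⁻¹ = e₀ * f * e₀⁻¹ := by
      calc e₁ * f * e₁⁻¹ = c * e₀ * (c⁻¹ * f) * c * e₀⁻¹ * c⁻¹ := by rw [he₁]; group
        _ = c * e₀ * (f * c⁻¹) * c * e₀⁻¹ * c⁻¹ := by rw [hc1']
        _ = (c * (e₀ * f * e₀⁻¹)) * c⁻¹ := by group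
        _ = ((e₀ * f * e₀⁻¹) * c) * c⁻¹ := by rw [hc2]
        _ = e₀ * f * e₀⁻¹ := by group
    calc d * f = e₀⁻¹ * (e₁ * f * e₁⁻¹) * e₁ := by rw [hd]; group
      _ = e₀⁻¹ * (e₀ * f * e₀⁻¹) * e₁ := by rw [key]
      _ = f * d := by rw [hd]; group
  have he₁d : e₁ = e₀ * d := by rw [hd]; group
  -- squares
  have hsq : e₁ * e₁ = e₀ * e₀ := by
    have h1 : e₁ * e₁ = c * (e₀ * e₀) * c⁻¹ := by rw [he₁]; group
    rw [h1]
    rcases h.sq e₀ he₀ with h2 | h2
    · rw [h2]; group
    · rw [h2, hcz]; group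
  have hbad : e₁ = e₀ * u ∨ e₁ = e₀ * (z * u) → False := by
    intro hor
    have h1 : (e₀ * u) * (e₀ * u) = z * (e₀ * e₀) := by
      calc (e₀ * u) * (e₀ * u) = e₀ * (u * e₀) * u := by group
        _ = e₀ * (z * (e₀ * u)) * u := by rw [hue0]
        _ = (e₀ * z) * e₀ * (u * u) := by group
        _ = z * (e₀ * e₀) := by rw [hze, huu]; group
    have h2 : e₁ * e₁ = z * (e₀ * e₀) := by
      rcases hor with h3 | h3
      · rw [h3, h1]
      · rw [h3]
        calc (e₀ * (z * u)) * (e₀ * (z * u)) = (e₀ * z) * u * (e₀ * z) * u := by group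
          _ = (z * e₀) * u * (z * e₀) * u := by rw [hze]
          _ = z * (e₀ * (u * z) * e₀ * u) := by group
          _ = z * (e₀ * (z * u) * e₀ * u) := by rw [huz']
          _ = z * ((e₀ * z) * u * e₀ * u) := by group
          _ = z * ((z * e₀) * u * e₀ * u) := by rw [hze]
          _ = (z * z) * ((e₀ * u) * (e₀ * u)) := by group
          _ = z * (e₀ * e₀) := by rw [h.z_sq, one_mul, h1]
    rw [hsq] at h2
    exact h.z_ne (mul_eq_right.mp h2.symm)
  rcases h.centralizer_centralizer_in hu huu he₀ h0 hdE hdF with h1 | h1 | h1 | h1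
  · -- `d = 1`
    have hce : c * e₀ = e₀ * c := by
      have : e₁ = e₀ := by rw [he₁d, h1, mul_one]
      calc c * e₀ = (c * e₀ * c⁻¹) * c := by group
        _ = e₀ * c := by rw [← he₁, this]
    have hall := h.central_of_comm hu he₀ h0 hcF hce
    have hcE' : c ∈ E := hcent c hall
    rcases h.cen c hcE' hall with h2 | h2
    · exact Or.inl h2
    · exact Or.inr (Or.inl h2)
  · -- `d = z`
    have huinv : u⁻¹ = u := inv_eq_of_mul_eq_one_left huu
    have h2 : e₁ = e₀ * z := by rw [he₁d, h1]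
    have hce : (u * c) * e₀ = e₀ * (u * c) := by
      calc (u * c) * e₀ = u * (c * e₀ * c⁻¹) * c := by group
        _ = u * (e₀ * z) * c := by rw [← he₁, h2]
        _ = (u * e₀) * z * c := by group
        _ = (z * (e₀ * u)) * z * c := by rw [hue0]
        _ = z * e₀ * (u * z) * c := by group
        _ = z * e₀ * (z * u) * c := by rw [huz']
        _ = z * (e₀ * z) * u * c := by group
        _ = z * (z * e₀) * u * c := by rw [hze]
        _ = (z * z) * (e₀ * (u * c)) := by group
        _ = e₀ * (u * c) := by rw [h.z_sq, one_mul]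
    have hF' : ∀ f ∈ E, f * u = u * f → (u * c) * f = f * (u * c) := by
      intro f hf hfu
      have := hcF f hf hfu
      calc (u * c) * f = u * (c * f) := by group
        _ = u * (f * c) := by rw [this]
        _ = (u * f) * c := by group
        _ = (f * u) * c := by rw [hfu]
        _ = f * (u * c) := by group
    have hall := h.central_of_comm hu he₀ h0 hF' hce
    have hcE' : u * c ∈ E := hcent _ hall
    rcases h.cen _ hcE' hall with h3 | h3
    · refine Or.inr (Or.inr (Or.inl ?_))
      calc c = u⁻¹ * (u * c) := by group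
        _ = u := by rw [h3, mul_one, huinv]
    · refine Or.inr (Or.inr (Or.inr ?_))
      calc c = u⁻¹ * (u * c) := by group
        _ = z * u := by rw [h3, huinv, huz']
  · exact absurd (Or.inl (by rw [he₁d, h1])) hbad
  · exact absurd (Or.inr (by rw [he₁d, h1])) hbad

end XS

end Cfsg.Agent.Lib.H25.Lx
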