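import Mathlib
import Cfsg.Prelude.Def_Solvable
import Cfsg.Prelude.Def_Transfer
import Cfsg.Agent.Lib.H1.PCore
import Cfsg.Agent.Lib.H27.Extraspecial
import Cfsg.Agent.Lib.H25.LxXS

/-! helper25: the "large extraspecial" setting: `z` an involution, `H = C_G(z)`,
`E = O₂(H)` extraspecial. Element-wise data. -/

set_option autoImplicit false

namespace Cfsg.Agent.Lib.H25.Lx

open Subgroup
open scoped commutatorElement

variable {G : Type*} [Group G]

theorem mem_cz {z h : G} : h ∈ Subgroup.centralizer ({z} : Set G) ↔ h * z = z * h := by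
  rw [Subgroup.mem_centralizer_iff]
  constructor
  · intro h1; exact (h1 z rfl).symm
  · intro h1 x hx
    rw [Set.mem_singleton_iff] at hx
    rw [hx]; exact h1.symm

/-- Element-wise data in the large-extraspecial setting. -/
theorem setup [Finite G] (z : G) (hz : orderOf z = 2) (E : Subgroup G)
    (hE : E = (Cfsg.pCore 2 ↥(Subgroup.centralizer ({z} : Set G))).map
      (Subgroup.centralizer ({z} : Set G)).subtype)
    (hext : Cfsg.IsExtraspecial 2 ↥E) :
    XS E z ∧ E ≤ Subgroup.centralizer ({z} : Set G) ∧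
      (∀ h ∈ Subgroup.centralizer ({z} : Set G), ∀ e ∈ E, h * e * h⁻¹ ∈ E) ∧ IsPGroup 2 E := by
  haveI : Fact (Nat.Prime 2) := ⟨Nat.prime_two⟩
  set H : Subgroup G := Subgroup.centralizer ({z} : Set G) with hH
  have hz1 : z ≠ 1 := by
    intro h; rw [h, orderOf_one] at hz; omega
  have hzz : z * z = 1 := by
    have := pow_orderOf_eq_one z
    rw [hz, pow_two] at this; exact this
  have hzH : z ∈ H := mem_cz.mpr rfl
  have hEH : E ≤ H := by rw [hE]; exact Subgroup.map_subtype_le _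
  -- normality
  have hnorm : ∀ h ∈ H, ∀ e ∈ E, h * e * h⁻¹ ∈ E := by
    intro h hh e he
    rw [hE] at he ⊢
    obtain ⟨e', he', rfl⟩ := he
    have hn := Cfsg.Agent.Lib.H1.pCore_normal 2 ↥H
    exact ⟨⟨h, hh⟩ * e' * ⟨h, hh⟩⁻¹, hn.conj_mem e' he' ⟨h, hh⟩, rfl⟩
  -- `z ∈ E`
  have hzE : z ∈ E := by
    have hNn : (Subgroup.zpowers (⟨z, hzH⟩ : H)).Normal := by
      constructor
      intro n hn g
      obtain ⟨k, rfl⟩ := Subgroup.mem_zpowers_iff.mp hn
      have hc : g * ⟨z, hzH⟩ = ⟨z, hzH⟩ * g := Subtype.ext (mem_cz.mp g.2)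
      have : g * (⟨z, hzH⟩ : H) ^ k * g⁻¹ = (⟨z, hzH⟩ : H) ^ k := by
        have hcomm : Commute g ((⟨z, hzH⟩ : H) ^ k) := (Commute.zpow_right hc k)
        rw [hcomm.eq]; group
      rw [this]; exact Subgroup.zpow_mem_zpowers _ k
    have hNp : IsPGroup 2 (Subgroup.zpowers (⟨z, hzH⟩ : H)) := by
      apply IsPGroup.of_card (n := 1)
      rw [Nat.card_zpowers, pow_one]
      have : orderOf (⟨z, hzH⟩ : H) = orderOf z := by
        rw [← Subgroup.orderOf_coe]
      rw [this, hz]
    have hle := Cfsg.Agent.Lib.H1.le_pCore hNn hNp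
    rw [hE]
    exact ⟨⟨z, hzH⟩, hle (Subgroup.mem_zpowers _), rfl⟩
  obtain ⟨hp, -, hcardZ, hcen, hcomm, hpow⟩ := Cfsg.Agent.Lib.H27.extraspecial_data 2 E hext
  set Z : Subgroup G := (Subgroup.center E).map E.subtype with hZ
  have hzcomm : ∀ e ∈ E, e * z = z * e := fun e he => mem_cz.mp (hEH he)
  have hzZ : z ∈ Z := by
    rw [← hcen]
    refine Subgroup.mem_inf.mpr ⟨hzE, ?_⟩
    rw [Subgroup.mem_centralizer_iff]
    intro e he
    exact hzcomm e he
  have hZ2 : ∀ x ∈ Z, x = 1 ∨ x = z := by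
    intro x hx
    obtain ⟨y, hy⟩ := (Nat.card_eq_two_iff' (1 : Z)).mp hcardZ
    by_cases hx1 : x = 1
    · exact Or.inl hx1
    · right
      have h1 : (⟨x, hx⟩ : Z) = y := hy.2 _ (fun h => hx1 (congrArg Subtype.val h))
      have h2 : (⟨z, hzZ⟩ : Z) = y := hy.2 _ (fun h => hz1 (congrArg Subtype.val h))
      exact congrArg Subtype.val (h1.trans h2.symm)
  refine ⟨⟨hz1, hzz, hzE, hzcomm, ?_, ?_, ?_⟩, hEH, hnorm, hp⟩
  · intro c hc hcc
    apply hZ2
    rw [← hcen]
    refine Subgroup.mem_inf.mpr ⟨hc, ?_⟩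
    rw [Subgroup.mem_centralizer_iff]
    intro e he
    exact (hcc e he).symm
  · intro a ha b hb
    have h1 : ⁅a, b⁆ ∈ Z := by
      rw [← hcomm]
      exact Subgroup.commutator_mem_commutator ha hb
    rcases hZ2 _ h1 with h2 | h2
    · left
      rw [commutatorElement_def] at h2
      calc a * b = (a * b * a⁻¹ * b⁻¹) * (b * a) := by group
        _ = b * a := by rw [h2, one_mul]
    · right
      rw [commutatorElement_def] at h2
      calc a * b = (a * b * a⁻¹ * b⁻¹) * (b * a) := by group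
        _ = z * (b * a) := by rw [h2]
  · intro e he
    have := hpow e he
    rw [pow_two] at this
    exact hZ2 _ this

end Cfsg.Agent.Lib.H25.Lx
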