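import Mathlib
import Cfsg.Prelude.Def_Solvable
import Cfsg.Prelude.Def_Transfer
import Cfsg.Agent.Lib.H16.ThompsonTransfer
import Cfsg.Agent.Lib.H25.LxXS
import Cfsg.Agent.Lib.H25.LxParity
import Cfsg.Agent.Lib.H25.LxSetup

/-! helper25: in a group `G = O²(G)` with a large extraspecial 2-subgroup `E = O₂(C_G(z))`
of order more than 8, `E` lies in every normal subgroup of index two of `C_G(z)`. -/

set_option autoImplicit false

namespace Cfsg.Agent.Lib.H25.Lx

open Subgroup MonoidHom Cfsg.Agent.Lib.H16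

variable {G : Type*} [Group G]

theorem mem_of_sgnHom_eq_one (H K : Subgroup G) (hKi : K.relIndex H = 2) (s : H)
    (hs : sgnHom H K hKi s = 1) : (s : G) ∈ K := by
  by_contra h
  rw [sgnHom_of_not_mem H K hKi s h] at hs
  exact absurd hs (by decide)

/-- Commutators of elements of `H` lie in a subgroup of relative index two. -/
theorem comm_mem_of_relIndex_two (H K : Subgroup G) (hKi : K.relIndex H = 2) {a b : G}
    (ha : a ∈ H) (hb : b ∈ H) : (a * b) * (b * a)⁻¹ ∈ K := by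
  have hmem : (a * b) * (b * a)⁻¹ ∈ H :=
    H.mul_mem (H.mul_mem ha hb) (H.inv_mem (H.mul_mem hb ha))
  have h1 : sgnHom H K hKi ⟨(a * b) * (b * a)⁻¹, hmem⟩ = 1 := by
    have : (⟨(a * b) * (b * a)⁻¹, hmem⟩ : H) =
        (⟨a, ha⟩ * ⟨b, hb⟩) * (⟨b, hb⟩ * ⟨a, ha⟩)⁻¹ := rfl
    rw [this, map_mul, map_inv, map_mul, map_mul, mul_comm (sgnHom H K hKi ⟨b, hb⟩)]
    exact mul_inv_cancel _
  exact mem_of_sgnHom_eq_one H K hKi _ h1

theorem inv_mul_mem_of_relIndex_two (H K : Subgroup G) (hKi : K.relIndex H = 2) {a b : G}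
    (ha : a ∈ H) (hb : b ∈ H) (haK : a ∉ K) (hbK : b ∉ K) : a⁻¹ * b ∈ K := by
  have key : ((⟨a, ha⟩ : H)⁻¹ * ⟨b, hb⟩ : H) ∈ K.subgroupOf H ↔
      ((⟨a, ha⟩ : H)⁻¹ ∈ K.subgroupOf H ↔ (⟨b, hb⟩ : H) ∈ K.subgroupOf H) :=
    Subgroup.mul_mem_iff_of_index_two hKi
  simp only [Subgroup.mem_subgroupOf, Subgroup.coe_mul, Subgroup.coe_inv] at key
  apply key.mpr
  constructor
  · intro h; exact absurd (by simpa using K.inv_mem h) haK
  · intro h; exact absurd h hbK

/-- **Large extraspecial subgroups lie in index-two normal subgroups of the centralizer.** -/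
theorem le_of_relIndex_two [Finite G] (hres : Cfsg.pResidual 2 G = ⊤) (z : G)
    (hz : orderOf z = 2) (E : Subgroup G)
    (hE : E = (Cfsg.pCore 2 ↥(Subgroup.centralizer ({z} : Set G))).map
      (Subgroup.centralizer ({z} : Set G)).subtype)
    (hext : Cfsg.IsExtraspecial 2 ↥E) (hcent : Subgroup.centralizer (E : Set G) ≤ E)
    (hcard : 8 < Nat.card ↥E)
    (K : Subgroup G) (hKH : K ≤ Subgroup.centralizer ({z} : Set G))
    (hKn : ∀ h ∈ Subgroup.centralizer ({z} : Set G), K.map (MulAut.conj h).toMonoidHom = K)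
    (hKi : K.relIndex (Subgroup.centralizer ({z} : Set G)) = 2) : E ≤ K := by
  obtain ⟨hXS, hEH, hnorm, hp⟩ := setup z hz E hE hext
  set H : Subgroup G := Subgroup.centralizer ({z} : Set G) with hH
  by_contra hEK
  obtain ⟨e, he, heK⟩ := SetLike.not_le_iff_exists.mp hEK
  have hKn' : ∀ h ∈ H, ∀ k ∈ K, h * k * h⁻¹ ∈ K := by
    intro h hh k hk
    have h1 : h * k * h⁻¹ ∈ K.map (MulAut.conj h).toMonoidHom := ⟨k, hk, by simp [MulAut.conj_apply]⟩
    rwa [hKn h hh] at h1
  have hidx : ∀ a ∈ E, ∀ b ∈ E, a ∉ K → b ∉ K → a⁻¹ * b ∈ K := fun a ha b hb haK hbK =>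
    inv_mul_mem_of_relIndex_two H K hKi (hEH ha) (hEH hb) haK hbK
  obtain ⟨u, huE, huK, huu⟩ := hXS.exists_involution_not_mem hcard K hidx ⟨e, he, heK⟩
  -- `z ∈ K`
  have hzK : z ∈ K := by
    obtain ⟨a, ha, b, hb, -, -, hab⟩ := hXS.exists_noncomm_in_centralizer hcard hXS.z_mem
    have h1 := comm_mem_of_relIndex_two H K hKi (hEH ha) (hEH hb)
    rw [hab] at h1
    have : z * (b * a) * (b * a)⁻¹ = z := by group
    rwa [this] at h1
  have hu1 : u ≠ 1 := fun h => huK (h ▸ K.one_mem)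
  have huz : u ≠ z := fun h => huK (h ▸ hzK)
  have hcent' : ∀ c : G, (∀ e ∈ E, c * e = e * c) → c ∈ E := by
    intro c hc
    apply hcent
    rw [Subgroup.mem_centralizer_iff]
    intro e he
    exact (hc e he).symm
  -- the 2-group `P = C_E(u)`
  set P : Subgroup G := E ⊓ Subgroup.centralizer ({u} : Set G) with hP
  have hPp : IsPGroup 2 P := hp.to_le inf_le_left
  have hPH : P ≤ H := inf_le_left.trans hEH
  have hPu : ∀ p ∈ P, p * u = u * p := fun p hp' => mem_cz.mp (Subgroup.mem_inf.mp hp').2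
  have hmemP : ∀ f ∈ E, f * u = u * f → f ∈ P := fun f hf hfu =>
    Subgroup.mem_inf.mpr ⟨hf, mem_cz.mpr hfu⟩
  have hfix : ∀ g : G, IsBad H K u g → (∀ p ∈ P, g⁻¹ * p * g ∈ H) → g ∈ H := by
    intro g hbad hfixg
    set t : G := g * z * g⁻¹ with ht
    have htP : ∀ p ∈ P, t * p = p * t := by
      intro p hp'
      have h1 := mem_cz.mp (hfixg p hp')
      calc t * p = g * (z * (g⁻¹ * p * g)) * g⁻¹ := by rw [ht]; group
        _ = g * ((g⁻¹ * p * g) * z) * g⁻¹ := by rw [h1]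
        _ = p * t := by rw [ht]; group
    have hzP : z ∈ P := hmemP z hXS.z_mem (hXS.z_comm u huE).symm
    have htH : t ∈ H := mem_cz.mpr (htP z hzP)
    have htE : ∀ e ∈ E, t * e * t⁻¹ ∈ E := fun e he => hnorm t htH e he
    have htF : ∀ f ∈ E, f * u = u * f → t * f = f * t := fun f hf hfu => htP f (hmemP f hf hfu)
    rcases hXS.centralizer_centralizer hcent' huE huu hu1 huz htE htF with h1 | h1 | h1 | h1
    · exfalso
      apply hXS.z_ne
      have : z = g⁻¹ * t * g := by rw [ht]; group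
      rw [this, h1]; group
    · apply mem_cz.mpr
      calc g * z = (g * z * g⁻¹) * g := by group
        _ = z * g := by rw [← ht, h1]
    · exfalso
      apply hbad.2
      have : g⁻¹ * u * g = z := by rw [← h1, ht]; group
      rw [this]; exact hzK
    · exfalso
      apply hbad.2
      obtain ⟨a, ha, b, hb, hau, hbu, hab⟩ := hXS.exists_noncomm_in_centralizer hcard huE
      have ha' := hfixg a (hmemP a ha hau)
      have hb' := hfixg b (hmemP b hb hbu)
      have h2 := comm_mem_of_relIndex_two H K hKi ha' hb'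
      have h3 : (g⁻¹ * a * g) * (g⁻¹ * b * g) * ((g⁻¹ * b * g) * (g⁻¹ * a * g))⁻¹ =
          g⁻¹ * ((a * b) * (b * a)⁻¹) * g := by group
      rw [h3, hab] at h2
      have h4 : g⁻¹ * (z * (b * a) * (b * a)⁻¹) * g = g⁻¹ * z * g := by group
      rw [h4] at h2
      -- `g⁻¹ u g = (g⁻¹ z g) * z`
      have h5 : g⁻¹ * (z * u) * g = z := by rw [← h1, ht]; group
      have h6 : g⁻¹ * u * g = (g⁻¹ * z * g) * z := by
        have : g⁻¹ * u * g = (g⁻¹ * (z * z) * g) * (g⁻¹ * u * g) := by rw [hXS.z_sq]; group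
        rw [this]
        calc (g⁻¹ * (z * z) * g) * (g⁻¹ * u * g) = (g⁻¹ * z * g) * (g⁻¹ * (z * u) * g) := by group
          _ = (g⁻¹ * z * g) * z := by rw [h5]
      rw [h6]
      exact K.mul_mem h2 hzK
  have huH : u ∈ H := hEH huE
  have hV := transfer_sgn_eq_neg_one H K hKH hKn' hKi u huu huH huK P hPp hPH hPu hfix
  have hV1 := hom_units_int_trivial (G := G) (by rw [← hres]; rfl)
    (transfer (sgnHom H K hKi)) u
  rw [hV] at hV1
  exact absurd hV1 (by decide)

end Cfsg.Agent.Lib.H25.Lx
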