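import Mathlib

/-!
# S4429 piece F4 `degrees11` (pure arithmetic of the degrees, exact signature)

Divisors of `7920` below `89` in the residue classes `±1, ±2, ±5 (mod 11)`; `∑ a² = 5` with `a i₁ = 1` leaves four further
`±1` or one `±2`; the linear relation and the bound leave the patterns (A) `10,10,10,45; 16`, (B) `12,12,10,10; 5`, (b) `2; 5`.
-/
set_option autoImplicit false
namespace Cfsg.Agent.Lib.H25.M7920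
universe u
open Finset

/-- divisors of `7920` below `89` in the residue classes `±1, ±2, ±5 mod 11` -/
theorem tab_one : ∀ n < 89, n ∣ 7920 → n % 11 = 1 → n = 1 ∨ n = 12 ∨ n = 45 := by decide
theorem tab_neg_one : ∀ n < 89, n ∣ 7920 → n % 11 = 10 → n = 10 := by decide
theorem tab_two : ∀ n < 89, n ∣ 7920 → n % 11 = 2 → n = 2 ∨ n = 24 := by decide
theorem tab_neg_two : ∀ n < 89, n ∣ 7920 → n % 11 = 9 → n = 9 ∨ n = 20 := by decide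
theorem tab_six : ∀ n < 63, n ∣ 7920 → n % 11 = 6 → n = 6 := by decide
theorem tab_five : ∀ n < 63, n ∣ 7920 → n % 11 = 5 → n = 5 ∨ n = 16 ∨ n = 60 := by decide

theorem lt_of_sq_le {n b B : ℕ} (h : n ^ 2 ≤ B) (hb : B < b ^ 2) : n < b := by
  by_contra hn
  push Not at hn
  have : b ^ 2 ≤ n ^ 2 := Nat.pow_le_pow_left hn 2
  omega

theorem small_of_sq_le {x : ℤ} (h0 : x ≠ 0) (h : x ^ 2 ≤ 4) : x = 1 ∨ x = -1 ∨ x = 2 ∨ x = -2 := by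
  have h1 : -2 ≤ x := by nlinarith
  have h2 : x ≤ 2 := by nlinarith
  interval_cases x <;> simp_all

/-- peel one nonzero term off a sum of squares -/
theorem peel {ι : Type u} [DecidableEq ι] (S : Finset ι) (a : ι → ℤ) (s : ℤ) (hs : 0 < s)
    (h : ∑ i ∈ S, a i ^ 2 = s) :
    ∃ k ∈ S, a k ≠ 0 ∧ a k ^ 2 ≤ s ∧ ∑ i ∈ S.erase k, a i ^ 2 = s - a k ^ 2 := by
  by_contra hno
  push Not at hno
  have h0 : ∑ i ∈ S, a i ^ 2 = 0 := by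
    apply Finset.sum_eq_zero
    intro i hi
    by_contra hne
    have hai : a i ≠ 0 := fun h0 => hne (by rw [h0]; ring)
    have h1 := Finset.add_sum_erase S (fun i => a i ^ 2) hi
    have h2 : 0 ≤ ∑ j ∈ S.erase i, a j ^ 2 := Finset.sum_nonneg (fun j _ => sq_nonneg (a j))
    have hle : a i ^ 2 ≤ s := by linarith
    exact hno i hi hai hle (by linarith)
  omega

/-- a vanishing sum of squares -/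
theorem eq_zero_of_sum_sq {ι : Type u} (S : Finset ι) (a : ι → ℤ) (h : ∑ i ∈ S, a i ^ 2 = 0) :
    ∀ i ∈ S, a i = 0 := by
  intro i hi
  have h1 := (Finset.sum_eq_zero_iff_of_nonneg (fun j _ => sq_nonneg (a j))).1 h i hi
  exact pow_eq_zero_iff (two_ne_zero) |>.1 h1


/-- one `±1` term: its degree and contribution -/
theorem key_pm_one {a : ℤ} {d : ℕ} (ha : a = 1 ∨ a = -1) (h1 : a = 1 → d = 12 ∨ d = 45) (h2 : a = -1 → d = 10) :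
    ∃ (e : ℤ) (q : ℕ), e = (d : ℤ) * a ∧ q = d ^ 2 ∧
      ((a = 1 ∧ d = 12 ∧ e = 12 ∧ q = 144) ∨ (a = 1 ∧ d = 45 ∧ e = 45 ∧ q = 2025) ∨
        (a = -1 ∧ d = 10 ∧ e = -10 ∧ q = 100)) := by
  refine ⟨(d : ℤ) * a, d ^ 2, rfl, rfl, ?_⟩
  rcases ha with rfl | rfl
  · rcases h1 rfl with rfl | rfl
    · left; norm_num
    · right; left; norm_num
  · right; right
    rw [h2 rfl]; norm_num

/-- peel a `±1` term off a sum of squares equal to `1, 2, 3` -/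
theorem peel_one {ι : Type u} [DecidableEq ι] (S : Finset ι) (a : ι → ℤ) (s : ℤ) (hs : 0 < s) (hs3 : s ≤ 3)
    (h : ∑ i ∈ S, a i ^ 2 = s) :
    ∃ k ∈ S, (a k = 1 ∨ a k = -1) ∧ ∑ i ∈ S.erase k, a i ^ 2 = s - 1 := by
  obtain ⟨k, hk, hk0, hkle, hrest⟩ := peel S a s hs h
  refine ⟨k, hk, ?_⟩
  rcases small_of_sq_le hk0 (by linarith) with h1 | h1 | h1 | h1
  · exact ⟨Or.inl h1, by rw [hrest, h1]; norm_num⟩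
  · exact ⟨Or.inr h1, by rw [hrest, h1]; norm_num⟩
  · exfalso; rw [h1] at hkle; norm_num at hkle; omega
  · exfalso; rw [h1] at hkle; norm_num at hkle; omega


/-- the numeric core of (F4) for four `±1` values -/
theorem numeric_four (δ : ℤ) (D : ℕ) (hDval : (δ = 1 ∧ D = 6) ∨ (δ = -1 ∧ (D = 5 ∨ D = 16 ∨ D = 60)))
    (e₁ e₂ e₃ e₄ : ℤ) (q₁ q₂ q₃ q₄ : ℕ)
    (c₁ : (e₁ = 12 ∧ q₁ = 144) ∨ (e₁ = 45 ∧ q₁ = 2025) ∨ (e₁ = -10 ∧ q₁ = 100))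
    (c₂ : (e₂ = 12 ∧ q₂ = 144) ∨ (e₂ = 45 ∧ q₂ = 2025) ∨ (e₂ = -10 ∧ q₂ = 100))
    (c₃ : (e₃ = 12 ∧ q₃ = 144) ∨ (e₃ = 45 ∧ q₃ = 2025) ∨ (e₃ = -10 ∧ q₃ = 100))
    (c₄ : (e₄ = 12 ∧ q₄ = 144) ∨ (e₄ = 45 ∧ q₄ = 2025) ∨ (e₄ = -10 ∧ q₄ = 100))
    (hl : 1 + e₁ + e₂ + e₃ + e₄ + δ * D = 0) (hb : 1 + q₁ + q₂ + q₃ + q₄ + 2 * D ^ 2 ≤ 7920) :
    δ = -1 ∧
    ((D = 16 ∧ ((e₁ = 45 ∧ e₂ = -10 ∧ e₃ = -10 ∧ e₄ = -10) ∨ (e₁ = -10 ∧ e₂ = 45 ∧ e₃ = -10 ∧ e₄ = -10) ∨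
        (e₁ = -10 ∧ e₂ = -10 ∧ e₃ = 45 ∧ e₄ = -10) ∨ (e₁ = -10 ∧ e₂ = -10 ∧ e₃ = -10 ∧ e₄ = 45))) ∨
     (D = 5 ∧ ((e₁ = 12 ∧ e₂ = 12 ∧ e₃ = -10 ∧ e₄ = -10) ∨ (e₁ = 12 ∧ e₂ = -10 ∧ e₃ = 12 ∧ e₄ = -10) ∨
        (e₁ = 12 ∧ e₂ = -10 ∧ e₃ = -10 ∧ e₄ = 12) ∨ (e₁ = -10 ∧ e₂ = 12 ∧ e₃ = 12 ∧ e₄ = -10) ∨
        (e₁ = -10 ∧ e₂ = 12 ∧ e₃ = -10 ∧ e₄ = 12) ∨ (e₁ = -10 ∧ e₂ = -10 ∧ e₃ = 12 ∧ e₄ = 12)))) := by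
  rcases hDval with ⟨rfl, rfl⟩ | ⟨rfl, rfl | rfl | rfl⟩ <;>
  rcases c₁ with ⟨rfl, rfl⟩ | ⟨rfl, rfl⟩ | ⟨rfl, rfl⟩ <;>
  rcases c₂ with ⟨rfl, rfl⟩ | ⟨rfl, rfl⟩ | ⟨rfl, rfl⟩ <;>
  rcases c₃ with ⟨rfl, rfl⟩ | ⟨rfl, rfl⟩ | ⟨rfl, rfl⟩ <;>
  rcases c₄ with ⟨rfl, rfl⟩ | ⟨rfl, rfl⟩ | ⟨rfl, rfl⟩ <;>
  first | (exfalso; norm_num at hl hb; done) | (exfalso; omega) | (norm_num)


/-- read the sign and the degree off the contribution -/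
theorem sel_of_contrib {a e : ℤ} {d q : ℕ}
    (c : (a = 1 ∧ d = 12 ∧ e = 12 ∧ q = 144) ∨ (a = 1 ∧ d = 45 ∧ e = 45 ∧ q = 2025) ∨
      (a = -1 ∧ d = 10 ∧ e = -10 ∧ q = 100)) :
    ((e = 12 ∧ q = 144) ∨ (e = 45 ∧ q = 2025) ∨ (e = -10 ∧ q = 100)) ∧
      (e = 45 → a = 1 ∧ d = 45) ∧ (e = 12 → a = 1 ∧ d = 12) ∧ (e = -10 → a = -1 ∧ d = 10) := by
  rcases c with ⟨rfl, rfl, rfl, rfl⟩ | ⟨rfl, rfl, rfl, rfl⟩ | ⟨rfl, rfl, rfl, rfl⟩ <;>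
    refine ⟨by norm_num, ?_, ?_, ?_⟩ <;> intro h <;> first | exact ⟨rfl, rfl⟩ | (exfalso; omega)

/-- (F4), exact signature of `tools/blueprints/S4429_sigs.lean`. -/
theorem degrees11 {ι : Type u} [DecidableEq ι] (S : Finset ι) (a : ι → ℤ) (d : ι → ℕ) (i₁ : ι) (hi₁ : i₁ ∈ S)
    (ha1 : a i₁ = 1) (hd1 : d i₁ = 1)
    (hdvd : ∀ i ∈ S, d i ∣ 7920) (hne1 : ∀ i ∈ S, i ≠ i₁ → d i ≠ 1)
    (hcong : ∀ i ∈ S, ∃ c : ℕ, (d i : ℤ) = a i + 11 * c)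
    (hsq : ∑ i ∈ S, a i ^ 2 = 5)
    (δ : ℤ) (hδ : δ = 1 ∨ δ = -1) (D : ℕ) (hD : D ∣ 7920) (hDc : ∃ c : ℕ, (D : ℤ) = 6 * δ + 11 * c)
    (hlin : ∑ i ∈ S, (d i : ℤ) * a i + δ * D = 0)
    (hbound : ∑ i ∈ S, d i ^ 2 + 2 * D ^ 2 ≤ 7920) :
    δ = -1 ∧
    ((D = 16 ∧ ∃ k₁ k₂ k₃ k₄ : ι, k₁ ∈ S ∧ k₂ ∈ S ∧ k₃ ∈ S ∧ k₄ ∈ S ∧
        k₁ ≠ i₁ ∧ k₂ ≠ i₁ ∧ k₃ ≠ i₁ ∧ k₄ ≠ i₁ ∧ k₁ ≠ k₂ ∧ k₁ ≠ k₃ ∧ k₁ ≠ k₄ ∧ k₂ ≠ k₃ ∧ k₂ ≠ k₄ ∧ k₃ ≠ k₄ ∧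
        a k₁ = -1 ∧ a k₂ = -1 ∧ a k₃ = -1 ∧ a k₄ = 1 ∧ d k₁ = 10 ∧ d k₂ = 10 ∧ d k₃ = 10 ∧ d k₄ = 45 ∧
        ∀ i ∈ S, i ≠ i₁ → i ≠ k₁ → i ≠ k₂ → i ≠ k₃ → i ≠ k₄ → a i = 0) ∨
     (D = 5 ∧ ∃ k₁ k₂ k₃ k₄ : ι, k₁ ∈ S ∧ k₂ ∈ S ∧ k₃ ∈ S ∧ k₄ ∈ S ∧ k₁ ≠ k₂ ∧
        a k₁ = 1 ∧ a k₂ = 1 ∧ a k₃ = -1 ∧ a k₄ = -1 ∧ d k₁ = 12 ∧ d k₂ = 12 ∧ d k₃ = 10 ∧ d k₄ = 10 ∧
        ∀ i ∈ S, i ≠ i₁ → i ≠ k₁ → i ≠ k₂ → i ≠ k₃ → i ≠ k₄ → a i = 0) ∨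
     (D = 5 ∧ ∃ k : ι, k ∈ S ∧ a k = 2 ∧ d k = 2 ∧ ∀ i ∈ S, i ≠ i₁ → i ≠ k → a i = 0)) := by
  -- the exceptional degree
  have hDlt : D < 63 := lt_of_sq_le (n := D) (B := 3960) (by omega) (by norm_num)
  have hDval : (δ = 1 ∧ D = 6) ∨ (δ = -1 ∧ (D = 5 ∨ D = 16 ∨ D = 60)) := by
    obtain ⟨c, hc⟩ := hDc
    rcases hδ with rfl | rfl
    · left; exact ⟨rfl, tab_six D hDlt hD (by omega)⟩
    · right; exact ⟨rfl, tab_five D hDlt hD (by omega)⟩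
  -- the degrees in `S`
  have hdle : ∀ i ∈ S, d i < 89 := by
    intro i hi
    have h1 : d i ^ 2 ≤ ∑ j ∈ S, d j ^ 2 :=
      Finset.single_le_sum (f := fun j => d j ^ 2) (fun j _ => Nat.zero_le _) hi
    exact lt_of_sq_le (n := d i) (B := 7920) (by omega) (by norm_num)
  have htab : ∀ i ∈ S, i ≠ i₁ → (a i = 1 → d i = 12 ∨ d i = 45) ∧ (a i = -1 → d i = 10) ∧
      (a i = 2 → d i = 2 ∨ d i = 24) ∧ (a i = -2 → d i = 9 ∨ d i = 20) := by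
    intro i hi hne
    obtain ⟨c, hc⟩ := hcong i hi
    have hlt := hdle i hi
    have hdv := hdvd i hi
    have hn1 := hne1 i hi hne
    refine ⟨fun h => ?_, fun h => ?_, fun h => ?_, fun h => ?_⟩
    · rcases tab_one (d i) hlt hdv (by omega) with h1 | h1 | h1
      · exact absurd h1 hn1
      · exact Or.inl h1
      · exact Or.inr h1
    · exact tab_neg_one (d i) hlt hdv (by omega)
    · exact tab_two (d i) hlt hdv (by omega)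
    · exact tab_neg_two (d i) hlt hdv (by omega)
  -- split off `i₁`
  have ea1 := Finset.add_sum_erase S (fun i => a i ^ 2) hi₁
  have ed1 := Finset.add_sum_erase S (fun i => d i ^ 2) hi₁
  have el1 := Finset.add_sum_erase S (fun i => (d i : ℤ) * a i) hi₁
  rw [ha1, one_pow] at ea1
  rw [hd1, ha1, Nat.cast_one, one_mul] at el1
  rw [hd1, one_pow] at ed1
  have hs1 : ∑ i ∈ S.erase i₁, a i ^ 2 = 4 := by linarith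
  -- the first nonzero index
  obtain ⟨k₁, hk₁, hk₁0, hk₁le, hs2⟩ := peel (S.erase i₁) a 4 (by norm_num) hs1
  have hk₁S : k₁ ∈ S := Finset.mem_of_mem_erase hk₁
  have hk₁i : k₁ ≠ i₁ := Finset.ne_of_mem_erase hk₁
  have ed2 := Finset.add_sum_erase (S.erase i₁) (fun i => d i ^ 2) hk₁
  have el2 := Finset.add_sum_erase (S.erase i₁) (fun i => (d i : ℤ) * a i) hk₁
  obtain ⟨t1, t2, t3, t4⟩ := htab k₁ hk₁S hk₁i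
  have hpm2 : a k₁ = 2 ∨ a k₁ = -2 → δ = -1 ∧ D = 5 ∧ a k₁ = 2 ∧ d k₁ = 2 ∧
      ∀ i ∈ S, i ≠ i₁ → i ≠ k₁ → a i = 0 := by
    intro h2
    have hz : ∑ i ∈ (S.erase i₁).erase k₁, a i ^ 2 = 0 := by
      rcases h2 with h2 | h2 <;> rw [hs2, h2] <;> norm_num
    have hzero := eq_zero_of_sum_sq _ a hz
    have hr : ∑ i ∈ (S.erase i₁).erase k₁, (d i : ℤ) * a i = 0 :=
      Finset.sum_eq_zero (fun i hi => by rw [hzero i hi, mul_zero])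
    have hzz : ∀ i ∈ S, i ≠ i₁ → i ≠ k₁ → a i = 0 := fun i hi h0 h1 =>
      hzero i (Finset.mem_erase.2 ⟨h1, Finset.mem_erase.2 ⟨h0, hi⟩⟩)
    have hl : 1 + (d k₁ : ℤ) * a k₁ + δ * D = 0 := by linarith
    rcases h2 with h2 | h2
    · rw [h2] at hl
      rcases t3 h2 with h3 | h3 <;> rw [h3] at hl <;>
        rcases hDval with ⟨rfl, rfl⟩ | ⟨rfl, rfl | rfl | rfl⟩ <;> norm_num at hl
      exact ⟨rfl, rfl, h2, h3, hzz⟩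
    · rw [h2] at hl
      rcases t4 h2 with h3 | h3 <;> rw [h3] at hl <;>
        rcases hDval with ⟨rfl, rfl⟩ | ⟨rfl, rfl | rfl | rfl⟩ <;> norm_num at hl
  rcases small_of_sq_le hk₁0 hk₁le with hak₁ | hak₁ | hak₁ | hak₁
  rotate_left 2
  · obtain ⟨h1, h2, h3, h4, h5⟩ := hpm2 (Or.inl hak₁)
    exact ⟨h1, Or.inr (Or.inr ⟨h2, k₁, hk₁S, h3, h4, h5⟩)⟩
  · obtain ⟨h1, h2, h3, h4, h5⟩ := hpm2 (Or.inr hak₁)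
    exact ⟨h1, Or.inr (Or.inr ⟨h2, k₁, hk₁S, h3, h4, h5⟩)⟩
  all_goals
    have hpm₁ : a k₁ = 1 ∨ a k₁ = -1 := by first | exact Or.inl hak₁ | exact Or.inr hak₁
    have hs2' : ∑ i ∈ (S.erase i₁).erase k₁, a i ^ 2 = 3 := by rw [hs2, hak₁]; norm_num
    clear hak₁ hpm2 hk₁0 hk₁le hs2
    -- three more `±1`
    obtain ⟨k₂, hk₂, hpm₂, hs3⟩ := peel_one _ a 3 (by norm_num) le_rfl hs2'
    obtain ⟨k₃, hk₃, hpm₃, hs4⟩ := peel_one _ a (3 - 1) (by norm_num) (by norm_num) hs3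
    obtain ⟨k₄, hk₄, hpm₄, hs5⟩ := peel_one _ a (3 - 1 - 1) (by norm_num) (by norm_num) hs4
    have hs5' : ∑ i ∈ ((((S.erase i₁).erase k₁).erase k₂).erase k₃).erase k₄, a i ^ 2 = 0 := by
      rw [hs5]; norm_num
    have hzero := eq_zero_of_sum_sq _ a hs5'
    have hr : ∑ i ∈ ((((S.erase i₁).erase k₁).erase k₂).erase k₃).erase k₄, (d i : ℤ) * a i = 0 :=
      Finset.sum_eq_zero (fun i hi => by rw [hzero i hi, mul_zero])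
    have ed3 := Finset.add_sum_erase _ (fun i => d i ^ 2) hk₂
    have el3 := Finset.add_sum_erase _ (fun i => (d i : ℤ) * a i) hk₂
    have ed4 := Finset.add_sum_erase _ (fun i => d i ^ 2) hk₃
    have el4 := Finset.add_sum_erase _ (fun i => (d i : ℤ) * a i) hk₃
    have ed5 := Finset.add_sum_erase _ (fun i => d i ^ 2) hk₄
    have el5 := Finset.add_sum_erase _ (fun i => (d i : ℤ) * a i) hk₄
    -- memberships and distinctness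
    have m₂ := Finset.mem_erase.1 hk₂
    have m₂a := Finset.mem_erase.1 m₂.2
    have m₃ := Finset.mem_erase.1 hk₃
    have m₃a := Finset.mem_erase.1 m₃.2
    have m₃b := Finset.mem_erase.1 m₃a.2
    have m₄ := Finset.mem_erase.1 hk₄
    have m₄a := Finset.mem_erase.1 m₄.2
    have m₄b := Finset.mem_erase.1 m₄a.2
    have m₄c := Finset.mem_erase.1 m₄b.2
    have hk₂S : k₂ ∈ S := m₂a.2
    have hk₃S : k₃ ∈ S := m₃b.2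
    have hk₄S : k₄ ∈ S := m₄c.2
    have hk₂i : k₂ ≠ i₁ := m₂a.1
    have hk₃i : k₃ ≠ i₁ := m₃b.1
    have hk₄i : k₄ ≠ i₁ := m₄c.1
    have n21 : k₂ ≠ k₁ := m₂.1
    have n12 : k₁ ≠ k₂ := n21.symm
    have n32 : k₃ ≠ k₂ := m₃.1
    have n23 : k₂ ≠ k₃ := n32.symm
    have n31 : k₃ ≠ k₁ := m₃a.1
    have n13 : k₁ ≠ k₃ := n31.symm
    have n43 : k₄ ≠ k₃ := m₄.1
    have n34 : k₃ ≠ k₄ := n43.symm
    have n42 : k₄ ≠ k₂ := m₄a.1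
    have n24 : k₂ ≠ k₄ := n42.symm
    have n41 : k₄ ≠ k₁ := m₄b.1
    have n14 : k₁ ≠ k₄ := n41.symm
    have hnz : ∀ i ∈ S, i ≠ i₁ → a i ≠ 0 → i = k₁ ∨ i = k₂ ∨ i = k₃ ∨ i = k₄ := by
      intro i hi h0 hne
      by_contra hcon
      push Not at hcon
      exact hne (hzero i (Finset.mem_erase.2 ⟨hcon.2.2.2, Finset.mem_erase.2 ⟨hcon.2.2.1,
        Finset.mem_erase.2 ⟨hcon.2.1, Finset.mem_erase.2 ⟨hcon.1, Finset.mem_erase.2 ⟨h0, hi⟩⟩⟩⟩⟩))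
    have hzz : ∀ x₁ x₂ x₃ x₄ : ι,
        (∀ i, i = k₁ ∨ i = k₂ ∨ i = k₃ ∨ i = k₄ → i = x₁ ∨ i = x₂ ∨ i = x₃ ∨ i = x₄) →
        ∀ i ∈ S, i ≠ i₁ → i ≠ x₁ → i ≠ x₂ → i ≠ x₃ → i ≠ x₄ → a i = 0 := by
      intro x₁ x₂ x₃ x₄ hx i hi h0 h1 h2 h3 h4
      by_contra hne
      rcases hx i (hnz i hi h0 hne) with h | h | h | h
      · exact h1 h
      · exact h2 h
      · exact h3 h
      · exact h4 h
    -- contributions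
    obtain ⟨u1, u2, -, -⟩ := htab k₂ hk₂S hk₂i
    obtain ⟨v1, v2, -, -⟩ := htab k₃ hk₃S hk₃i
    obtain ⟨w1, w2, -, -⟩ := htab k₄ hk₄S hk₄i
    obtain ⟨e₁, q₁, he₁, hq₁, c₁⟩ := key_pm_one hpm₁ t1 t2
    obtain ⟨e₂, q₂, he₂, hq₂, c₂⟩ := key_pm_one hpm₂ u1 u2
    obtain ⟨e₃, q₃, he₃, hq₃, c₃⟩ := key_pm_one hpm₃ v1 v2
    obtain ⟨e₄, q₄, he₄, hq₄, c₄⟩ := key_pm_one hpm₄ w1 w2
    have hl : 1 + e₁ + e₂ + e₃ + e₄ + δ * D = 0 := by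
      rw [he₁, he₂, he₃, he₄]; linarith
    have hb : 1 + q₁ + q₂ + q₃ + q₄ + 2 * D ^ 2 ≤ 7920 := by
      rw [hq₁, hq₂, hq₃, hq₄]; omega
    obtain ⟨c₁', s45₁, s12₁, sm₁⟩ := sel_of_contrib c₁
    obtain ⟨c₂', s45₂, s12₂, sm₂⟩ := sel_of_contrib c₂
    obtain ⟨c₃', s45₃, s12₃, sm₃⟩ := sel_of_contrib c₃
    obtain ⟨c₄', s45₄, s12₄, sm₄⟩ := sel_of_contrib c₄
    obtain ⟨hδ', hcases⟩ := numeric_four δ D hDval e₁ e₂ e₃ e₄ q₁ q₂ q₃ q₄ c₁' c₂' c₃' c₄' hl hb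
    refine ⟨hδ', ?_⟩
    rcases hcases with ⟨hD16, hA⟩ | ⟨hD5, hB⟩
    · left
      refine ⟨hD16, ?_⟩
      rcases hA with ⟨x₁, x₂, x₃, x₄⟩ | ⟨x₁, x₂, x₃, x₄⟩ | ⟨x₁, x₂, x₃, x₄⟩ | ⟨x₁, x₂, x₃, x₄⟩
      · exact ⟨k₂, k₃, k₄, k₁, hk₂S, hk₃S, hk₄S, hk₁S, hk₂i, hk₃i, hk₄i, hk₁i, n23, n24, n21, n34, n31, n41, (sm₂ x₂).1, (sm₃ x₃).1, (sm₄ x₄).1, (s45₁ x₁).1, (sm₂ x₂).2, (sm₃ x₃).2, (sm₄ x₄).2, (s45₁ x₁).2, hzz _ _ _ _ (fun i hi => hi.elim (fun h => Or.inr (Or.inr (Or.inr h))) (fun hi => hi.elim (fun h => Or.inl h) (fun hi => hi.elim (fun h => Or.inr (Or.inl h)) (fun h => Or.inr (Or.inr (Or.inl h))))))⟩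
      · exact ⟨k₁, k₃, k₄, k₂, hk₁S, hk₃S, hk₄S, hk₂S, hk₁i, hk₃i, hk₄i, hk₂i, n13, n14, n12, n34, n32, n42, (sm₁ x₁).1, (sm₃ x₃).1, (sm₄ x₄).1, (s45₂ x₂).1, (sm₁ x₁).2, (sm₃ x₃).2, (sm₄ x₄).2, (s45₂ x₂).2, hzz _ _ _ _ (fun i hi => hi.elim (fun h => Or.inl h) (fun hi => hi.elim (fun h => Or.inr (Or.inr (Or.inr h))) (fun hi => hi.elim (fun h => Or.inr (Or.inl h)) (fun h => Or.inr (Or.inr (Or.inl h))))))⟩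
      · exact ⟨k₁, k₂, k₄, k₃, hk₁S, hk₂S, hk₄S, hk₃S, hk₁i, hk₂i, hk₄i, hk₃i, n12, n14, n13, n24, n23, n43, (sm₁ x₁).1, (sm₂ x₂).1, (sm₄ x₄).1, (s45₃ x₃).1, (sm₁ x₁).2, (sm₂ x₂).2, (sm₄ x₄).2, (s45₃ x₃).2, hzz _ _ _ _ (fun i hi => hi.elim (fun h => Or.inl h) (fun hi => hi.elim (fun h => Or.inr (Or.inl h)) (fun hi => hi.elim (fun h => Or.inr (Or.inr (Or.inr h))) (fun h => Or.inr (Or.inr (Or.inl h))))))⟩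
      · exact ⟨k₁, k₂, k₃, k₄, hk₁S, hk₂S, hk₃S, hk₄S, hk₁i, hk₂i, hk₃i, hk₄i, n12, n13, n14, n23, n24, n34, (sm₁ x₁).1, (sm₂ x₂).1, (sm₃ x₃).1, (s45₄ x₄).1, (sm₁ x₁).2, (sm₂ x₂).2, (sm₃ x₃).2, (s45₄ x₄).2, hzz _ _ _ _ (fun i hi => hi.elim (fun h => Or.inl h) (fun hi => hi.elim (fun h => Or.inr (Or.inl h)) (fun hi => hi.elim (fun h => Or.inr (Or.inr (Or.inl h))) (fun h => Or.inr (Or.inr (Or.inr h))))))⟩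
    · right; left
      refine ⟨hD5, ?_⟩
      rcases hB with ⟨x₁, x₂, x₃, x₄⟩ | ⟨x₁, x₂, x₃, x₄⟩ | ⟨x₁, x₂, x₃, x₄⟩ | ⟨x₁, x₂, x₃, x₄⟩ |
        ⟨x₁, x₂, x₃, x₄⟩ | ⟨x₁, x₂, x₃, x₄⟩
      · exact ⟨k₁, k₂, k₃, k₄, hk₁S, hk₂S, hk₃S, hk₄S, n12, (s12₁ x₁).1, (s12₂ x₂).1, (sm₃ x₃).1, (sm₄ x₄).1, (s12₁ x₁).2, (s12₂ x₂).2, (sm₃ x₃).2, (sm₄ x₄).2, hzz _ _ _ _ (fun i hi => hi.elim (fun h => Or.inl h) (fun hi => hi.elim (fun h => Or.inr (Or.inl h)) (fun hi => hi.elim (fun h => Or.inr (Or.inr (Or.inl h))) (fun h => Or.inr (Or.inr (Or.inr h))))))⟩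
      · exact ⟨k₁, k₃, k₂, k₄, hk₁S, hk₃S, hk₂S, hk₄S, n13, (s12₁ x₁).1, (s12₃ x₃).1, (sm₂ x₂).1, (sm₄ x₄).1, (s12₁ x₁).2, (s12₃ x₃).2, (sm₂ x₂).2, (sm₄ x₄).2, hzz _ _ _ _ (fun i hi => hi.elim (fun h => Or.inl h) (fun hi => hi.elim (fun h => Or.inr (Or.inr (Or.inl h))) (fun hi => hi.elim (fun h => Or.inr (Or.inl h)) (fun h => Or.inr (Or.inr (Or.inr h))))))⟩
      · exact ⟨k₁, k₄, k₂, k₃, hk₁S, hk₄S, hk₂S, hk₃S, n14, (s12₁ x₁).1, (s12₄ x₄).1, (sm₂ x₂).1, (sm₃ x₃).1, (s12₁ x₁).2, (s12₄ x₄).2, (sm₂ x₂).2, (sm₃ x₃).2, hzz _ _ _ _ (fun i hi => hi.elim (fun h => Or.inl h) (fun hi => hi.elim (fun h => Or.inr (Or.inr (Or.inl h))) (fun hi => hi.elim (fun h => Or.inr (Or.inr (Or.inr h))) (fun h => Or.inr (Or.inl h)))))⟩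
      · exact ⟨k₂, k₃, k₁, k₄, hk₂S, hk₃S, hk₁S, hk₄S, n23, (s12₂ x₂).1, (s12₃ x₃).1, (sm₁ x₁).1, (sm₄ x₄).1, (s12₂ x₂).2, (s12₃ x₃).2, (sm₁ x₁).2, (sm₄ x₄).2, hzz _ _ _ _ (fun i hi => hi.elim (fun h => Or.inr (Or.inr (Or.inl h))) (fun hi => hi.elim (fun h => Or.inl h) (fun hi => hi.elim (fun h => Or.inr (Or.inl h)) (fun h => Or.inr (Or.inr (Or.inr h))))))⟩
      · exact ⟨k₂, k₄, k₁, k₃, hk₂S, hk₄S, hk₁S, hk₃S, n24, (s12₂ x₂).1, (s12₄ x₄).1, (sm₁ x₁).1, (sm₃ x₃).1, (s12₂ x₂).2, (s12₄ x₄).2, (sm₁ x₁).2, (sm₃ x₃).2, hzz _ _ _ _ (fun i hi => hi.elim (fun h => Or.inr (Or.inr (Or.inl h))) (fun hi => hi.elim (fun h => Or.inl h) (fun hi => hi.elim (fun h => Or.inr (Or.inr (Or.inr h))) (fun h => Or.inr (Or.inl h)))))⟩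
      · exact ⟨k₃, k₄, k₁, k₂, hk₃S, hk₄S, hk₁S, hk₂S, n34, (s12₃ x₃).1, (s12₄ x₄).1, (sm₁ x₁).1, (sm₂ x₂).1, (s12₃ x₃).2, (s12₄ x₄).2, (sm₁ x₁).2, (sm₂ x₂).2, hzz _ _ _ _ (fun i hi => hi.elim (fun h => Or.inr (Or.inr (Or.inl h))) (fun hi => hi.elim (fun h => Or.inr (Or.inr (Or.inr h))) (fun hi => hi.elim (fun h => Or.inl h) (fun h => Or.inr (Or.inl h)))))⟩

end Cfsg.Agent.Lib.H25.M7920
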