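import Mathlib
import Cfsg.Agent.Lib.H26.MC3Defs
import Cfsg.Agent.Lib.H26.MC3Nm
import Cfsg.Agent.Lib.H19.MetaPow
import Cfsg.Agent.Lib.H22.UniqueOrderP

/-!
helper25: piece A2 (the key lemma) of the S4079 farm-out (architect helper26, blueprint
`tools/blueprints/S4079.md`): under the standing hypotheses the derived subgroup of `L` has order at
most `p`.
-/

set_option autoImplicit false

namespace Cfsg.Agent.Lib.H25.MC3

open Cfsg.Agent.Lib.H26.MC3 Cfsg.Agent.Lib.H19.MC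

universe u

variable {p : ℕ} [Fact p.Prime] {L : Type u} [Group L]

/-- the derived subgroup is invariant under automorphisms -/
theorem sigma_mem_commutator (σ : MulAut L) {c : L} (hc : c ∈ commutator L) :
    σ c ∈ commutator L := by
  have hchar : (commutator L).Characteristic := inferInstance
  have := (Subgroup.characteristic_iff_map_le.mp hchar) σ
  exact this ⟨c, hc, rfl⟩

theorem sigma_pow_mem_commutator (σ : MulAut L) (i : ℕ) {c : L} (hc : c ∈ commutator L) :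
    (σ ^ i) c ∈ commutator L :=
  sigma_mem_commutator (σ ^ i) hc

/-- an element of `p`-power order killed by `p * u` with `u` prime to `p` is killed by `p` -/
theorem pow_p_eq_one_of_pow_mul [Finite L] (hL : IsPGroup p L) {x : L} {u : ℕ} (hu : ¬ p ∣ u)
    (hx : x ^ (p * u) = 1) : x ^ p = 1 := by
  have hp : p.Prime := Fact.out
  rw [pow_mul] at hx
  obtain ⟨j, hj⟩ := hL (x ^ p)
  have h1 : orderOf (x ^ p) ∣ u := orderOf_dvd_of_pow_eq_one hx
  have h2 : orderOf (x ^ p) ∣ p ^ j := orderOf_dvd_of_pow_eq_one hj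
  obtain ⟨i, -, hi⟩ := (Nat.dvd_prime_pow hp).mp h2
  rcases Nat.eq_zero_or_pos i with h0 | h0
  · rw [h0, pow_zero] at hi
    exact orderOf_eq_one_iff.mp hi
  · exfalso
    apply hu
    rw [hi] at h1
    exact (dvd_pow_self p h0.ne').trans h1

omit [Fact p.Prime] in
/-- a power with exponent `≡ 1 mod p` of an element killed by `p` -/
theorem pow_eq_self_of_mod {z : L} (hz : z ^ p = 1) {l : ℕ} (hl : l % p = 1) : z ^ l = z := by
  conv_lhs => rw [← Nat.div_add_mod l p, hl]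
  rw [pow_add, pow_mul, hz, one_pow, one_mul, pow_one]

omit [Fact p.Prime] in
theorem pow_eq_one_of_dvd {z : L} (hz : z ^ p = 1) {n : ℕ} (hn : p ∣ n) : z ^ n = 1 := by
  obtain ⟨t, rfl⟩ := hn
  rw [pow_mul, hz, one_pow]

variable [Finite L] {σ : MulAut L}

/-- A2 (K) -/
theorem card_commutator_le (h : Hyp p L) (hm : Mov p σ) (F : Facts p L) (SF : SFacts p σ) :
    Nat.card ↥(commutator L) ≤ p := by
  by_contra hlt
  rw [not_le] at hlt
  have hp : p.Prime := Fact.out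
  have hp3 : 2 < p := lt_of_le_of_ne hp.two_le (Ne.symm h.hp2)
  have hcyc : IsCyclic ↥(commutator L) := F.isCyclic_commutator
  have hcommL' : ∀ a ∈ commutator L, ∀ b ∈ commutator L, a * b = b * a := by
    intro a ha b hb
    have : IsMulCommutative ↥(commutator L) := IsCyclic.isMulCommutative
    have := mul_comm' (⟨a, ha⟩ : ↥(commutator L)) ⟨b, hb⟩
    exact congrArg Subtype.val this
  obtain ⟨⟨c, hcL⟩, hgen⟩ := IsCyclic.exists_generator (α := ↥(commutator L))
  have hL' : IsPGroup p ↥(commutator L) := h.hL.to_subgroup _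
  obtain ⟨k, hk⟩ := hL'.exists_card_eq
  have hk2 : 2 ≤ k := by
    by_contra hk2
    rw [not_le] at hk2
    have : p ^ k ≤ p ^ 1 := Nat.pow_le_pow_right hp.pos (by omega)
    rw [pow_one] at this
    omega
  have hord : orderOf c = p ^ k := by
    have h1 : orderOf (⟨c, hcL⟩ : ↥(commutator L)) = Nat.card ↥(commutator L) :=
      orderOf_eq_card_of_forall_mem_zpowers hgen
    rw [← hk, ← h1, Subgroup.orderOf_mk]
  -- the power map
  obtain ⟨l, hl1, hl⟩ := SF.exists_pow_map (commutator L) F.isCyclic_commutator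
    (fun c hc => sigma_mem_commutator σ hc)
  -- the element `z0` of order `p` of `L'`
  obtain ⟨k', rfl⟩ : ∃ k', k = k' + 2 := ⟨k - 2, by omega⟩
  set a0 : L := c ^ (p ^ k') with ha0
  have ha0L : a0 ∈ commutator L := Subgroup.pow_mem _ hcL _
  set z0 : L := a0 ^ p with hz0
  have hz0L : z0 ∈ commutator L := Subgroup.pow_mem _ ha0L _
  have hz0c : z0 = c ^ (p ^ (k' + 1)) := by
    rw [hz0, ha0, ← pow_mul, ← pow_succ]
  have hz0p : z0 ^ p = 1 := by
    rw [hz0c, ← pow_mul, ← pow_succ, ← hord, pow_orderOf_eq_one]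
  have hz0ne : z0 ≠ 1 := by
    rw [hz0c]
    apply pow_ne_one_of_lt_orderOf (pow_pos hp.pos _).ne'
    rw [hord]
    exact Nat.pow_lt_pow_right hp.one_lt (by omega)
  have hz0Z : z0 ∈ Zf p σ := by
    refine ⟨(F.mem_Om_iff z0).mpr hz0p, ?_⟩
    change σ z0 = z0
    rw [hl z0 hz0L]
    exact pow_eq_self_of_mod hz0p hl1
  -- every element of `Z` is a `p`-th power of an element of `L'`
  have hZpow : ∀ z ∈ Zf p σ, ∃ c₂ ∈ commutator L, c₂ ^ p = z := by
    intro z hz
    have htop := zpowers_eq_top_of_prime_card (G := ↥(Zf p σ)) SF.card_Zf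
      (g := ⟨z0, hz0Z⟩) (fun hh => hz0ne (congrArg Subtype.val hh))
    have hmem : (⟨z, hz⟩ : ↥(Zf p σ)) ∈ Subgroup.zpowers (⟨z0, hz0Z⟩ : ↥(Zf p σ)) := by
      rw [htop]; exact Subgroup.mem_top _
    obtain ⟨i, hi⟩ := Subgroup.mem_zpowers_iff.mp hmem
    have hi' : z0 ^ i = z := by
      have := congrArg Subtype.val hi
      simpa using this
    refine ⟨a0 ^ i, Subgroup.zpow_mem _ ha0L i, ?_⟩
    rw [← hi', hz0, ← zpow_natCast, ← zpow_natCast, ← zpow_mul, ← zpow_mul, mul_comm]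
  -- (K1)
  obtain ⟨x₀, hx₀p, hx₀σ⟩ := hm.hmv
  obtain ⟨x, hx⟩ := F.exists_pow_eq hx₀p
  set z₁ : L := x₀⁻¹ * σ x₀ with hz₁
  have hz₁Z : z₁ ∈ Zf p σ := SF.inv_mul_sigma_mem_Zf hx₀p
  have hz₁ne : z₁ ≠ 1 := by
    intro hh
    apply hx₀σ
    rw [hz₁, inv_mul_eq_one] at hh
    exact hh.symm
  have hz₁c : ∀ g : L, g * z₁ = z₁ * g := fun g =>
    (Subgroup.mem_center_iff.mp (SF.Zf_le_center hz₁Z) g)
  -- (K2)
  set y : L := x⁻¹ * σ x with hy
  have hxy : x * y = σ x := by rw [hy]; group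
  have hxyp : (x * y) ^ p = x₀ * z₁ := by
    rw [hxy, ← map_pow, hx, hz₁]; group
  -- (K3)
  obtain ⟨d, hd, hdp⟩ := F.mul_pow_mod x y
  obtain ⟨c₂, hc₂, hc₂p⟩ := hZpow z₁ hz₁Z
  have hyp1 : y ^ p = (c₂ * d⁻¹) ^ p := by
    have hcd : Commute c₂ d⁻¹ := hcommL' c₂ hc₂ d⁻¹ (Subgroup.inv_mem _ hd)
    rw [hcd.mul_pow, hc₂p, inv_pow]
    rw [hxyp, hx] at hdp
    have : z₁ = y ^ p * d ^ p := by
      have := hdp
      rw [mul_assoc] at this
      exact mul_left_cancel this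
    rw [this]; group
  have hc₁ : c₂ * d⁻¹ ∈ commutator L := Subgroup.mul_mem _ hc₂ (Subgroup.inv_mem _ hd)
  -- (K4)
  obtain ⟨c', hc', he₁⟩ := F.exists_adjust hc₁ hyp1
  set e₁ : L := c'⁻¹ * y with he₁def
  have hye : y = c' * e₁ := by rw [he₁def]; group
  -- (K8), (K9)
  have hN : Nm σ p y = 1 := Nm_eq_one_of_pow σ hm.hσ x
  have hpowp : ∀ (j : ℕ) (e : L), e ^ p = 1 → ((σ ^ j) e) ^ p = 1 := by
    intro j e he
    rw [← map_pow, he, map_one]
  have hNmul : Nm σ p (c' * e₁) = Nm σ p c' * Nm σ p e₁ := by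
    apply Nm_mul
    intro i j
    exact F.commutator_comm_Om (sigma_pow_mem_commutator σ i hc') (hpowp j e₁ he₁)
  have hNc : Nm σ p c' = c' ^ geomSum l p := by
    apply Nm_pow_map
    intro t
    exact hl _ (Subgroup.pow_mem _ hc' t)
  set w : L := e₁⁻¹ * σ e₁ with hw
  have hwZ : w ∈ Zf p σ := SF.inv_mul_sigma_mem_Zf he₁
  have hwc : ∀ g : L, g * w = w * g := fun g =>
    (Subgroup.mem_center_iff.mp (SF.Zf_le_center hwZ) g)
  have hwp : w ^ p = 1 := (F.mem_Om_iff w).mp hwZ.1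
  have hwσ : σ w = w := hwZ.2
  have hNe : Nm σ p e₁ = 1 := by
    have := Nm_formula σ (y := e₁) (w := w) (u := 1) (c := 1)
      (by rw [hw]; group) (by rw [hwσ, mul_one]) (map_one σ) (by simp) (by simp) (by simp)
      (by simp) (by simp) (by rw [mul_one]; exact (hwc e₁).symm) p
    rw [this, he₁, one_pow, pow_eq_one_of_dvd hwp (hp.dvd_choose_self (by norm_num) hp3)]
    simp
  have hc'p : c' ^ p = 1 := by
    obtain ⟨u, hu, hpu⟩ := geomSum_prime_pow h.hp2 hl1 1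
    rw [pow_one] at hu
    apply pow_p_eq_one_of_pow_mul h.hL hpu
    rw [← hu, ← hNc]
    rw [hye, hNmul, hNe, mul_one] at hN
    exact hN
  -- (K10)
  have hyp : y ^ p = 1 := by
    rw [hye]; exact F.mul_pow_eq_one hc'p he₁
  obtain ⟨hq1, hq2⟩ := F.comm_pow_eq_one x y hyp
  have hqinv : y * x * y⁻¹ * x⁻¹ = (x * y * x⁻¹ * y⁻¹)⁻¹ := by group
  have hcen : ∀ g : L, g * (y * x * y⁻¹ * x⁻¹) = (y * x * y⁻¹ * x⁻¹) * g := by
    intro g
    rw [hqinv]
    exact ((show Commute g (x * y * x⁻¹ * y⁻¹) from hq2 g).inv_right).eq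
  have hfin := Cfsg.Agent.Lib.H22.mul_pow_of_central hcen p
  have hqp : (y * x * y⁻¹ * x⁻¹) ^ (p * (p - 1) / 2) = 1 := by
    apply pow_eq_one_of_dvd (by rw [hqinv, inv_pow, hq1, inv_one])
    obtain ⟨t, ht⟩ := hp.even_sub_one h.hp2
    have : p * (p - 1) / 2 = p * t := by
      rw [ht, ← two_mul, ← mul_assoc, mul_comm p 2, mul_assoc]
      exact Nat.mul_div_cancel_left _ (by norm_num)
    rw [this]
    exact dvd_mul_right p t
  rw [hxyp, hx, hyp, hqp, mul_one, mul_one] at hfin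
  exact hz₁ne (mul_left_cancel (a := x₀) (by rw [mul_one]; exact hfin))

end Cfsg.Agent.Lib.H25.MC3
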