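import Mathlib

set_option autoImplicit false

/-!
# Subgroups contained in a unique maximal subgroup: generalities (helper25)
-/

namespace Cfsg.Agent.Lib.H25.Mx

variable {G G' : Type*} [Group G] [Group G']

/-- `R` lies in a unique maximal subgroup -/
def UC (R : Subgroup G) : Prop := ∃! M : Subgroup G, IsCoatom M ∧ R ≤ M

theorem uc_map_equiv (φ : G ≃* G') (R : Subgroup G) :
    UC R ↔ UC (R.map φ.toMonoidHom) := by
  have key : ∀ M : Subgroup G, (IsCoatom M ∧ R ≤ M) ↔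
      (IsCoatom (φ.mapSubgroup M) ∧ R.map φ.toMonoidHom ≤ φ.mapSubgroup M) := by
    intro M
    rw [OrderIso.isCoatom_iff]
    have : R.map φ.toMonoidHom = φ.mapSubgroup R := rfl
    rw [this, OrderIso.le_iff_le]
  constructor
  · rintro ⟨M, hM, huniq⟩
    refine ⟨φ.mapSubgroup M, (key M).1 hM, ?_⟩
    intro M' hM'
    obtain ⟨M'', rfl⟩ := φ.mapSubgroup.surjective M'
    rw [huniq M'' ((key M'').2 hM')]
  · rintro ⟨M', hM', huniq⟩
    obtain ⟨M, rfl⟩ := φ.mapSubgroup.surjective M'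
    refine ⟨M, (key M).2 hM', ?_⟩
    intro M'' hM''
    exact φ.mapSubgroup.injective (huniq _ ((key M'').1 hM''))

theorem uc_of_bound [Finite G] (R M₀ : Subgroup G) (hM₀ : M₀ ≠ ⊤) (hR : R ≤ M₀)
    (h : ∀ M : Subgroup G, IsCoatom M → R ≤ M → M ≤ M₀) : UC R := by
  have hRtop : R ≠ ⊤ := by
    rintro rfl
    exact hM₀ (top_le_iff.1 hR)
  obtain ⟨M, hM, hRM⟩ := (eq_top_or_exists_le_coatom R).resolve_left hRtop
  have hMM₀ : M = M₀ := ((hM.le_iff_eq hM₀).1 (h M hM hRM)).symm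
  refine ⟨M, ⟨hM, hRM⟩, ?_⟩
  rintro M' ⟨hM', hRM'⟩
  rw [hMM₀]
  exact ((hM'.le_iff_eq hM₀).1 (h M' hM' hRM')).symm

theorem not_uc_of_sup [Finite G] (R H₁ H₂ : Subgroup G) (h₁ : R ≤ H₁) (h₂ : R ≤ H₂)
    (n₁ : H₁ ≠ ⊤) (n₂ : H₂ ≠ ⊤) (hsup : H₁ ⊔ H₂ = ⊤) : ¬ UC R := by
  rintro ⟨M, -, huniq⟩
  obtain ⟨M₁, hM₁, h1⟩ := (eq_top_or_exists_le_coatom H₁).resolve_left n₁
  obtain ⟨M₂, hM₂, h2⟩ := (eq_top_or_exists_le_coatom H₂).resolve_left n₂
  have e1 := huniq M₁ ⟨hM₁, h₁.trans h1⟩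
  have e2 := huniq M₂ ⟨hM₂, h₂.trans h2⟩
  have : (⊤ : Subgroup G) ≤ M := by
    rw [← hsup]
    exact sup_le (e1 ▸ h1) (e2 ▸ h2)
  have hMtop : M = ⊤ := top_le_iff.1 this
  rw [e1] at hM₁
  exact hM₁.1 hMtop

theorem uc_sylow_iff {p : ℕ} [Fact p.Prime] [Finite G] (P Q : Sylow p G) :
    UC (P : Subgroup G) ↔ UC (Q : Subgroup G) := by
  obtain ⟨g, hg⟩ := MulAction.exists_smul_eq G P Q
  have h1 : (Q : Subgroup G) = (P : Subgroup G).map (MulAut.conj g).toMonoidHom := by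
    rw [← hg]
    rfl
  rw [h1]
  exact uc_map_equiv (MulAut.conj g) _

theorem uc_sylow_of_equiv {p : ℕ} [Fact p.Prime] [Finite G] (φ : G ≃* G') (P : Sylow p G)
    (Q : Sylow p G') : UC (P : Subgroup G) ↔ UC (Q : Subgroup G') := by
  haveI : Finite G' := Finite.of_equiv G φ.toEquiv
  rw [uc_map_equiv φ]
  have hcard : Nat.card ((P : Subgroup G).map φ.toMonoidHom) =
      p ^ (Nat.card G').factorization p := by
    rw [Subgroup.card_map_of_injective φ.injective, P.card_eq_multiplicity,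
      Nat.card_congr φ.toEquiv]
  exact uc_sylow_iff (Sylow.ofCard _ hcard) Q

end Cfsg.Agent.Lib.H25.Mx
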