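import Mathlib
import Cfsg.Agent.Lib.H25.MaxA

set_option autoImplicit false

/-!
# Unique maximal overgroups inside a subgroup of index two (helper25)
-/

namespace Cfsg.Agent.Lib.H25.Mx

variable {G : Type*} [Group G]

theorem uc_subgroupOf_of_bound [Finite G] (A R M₀ : Subgroup G) (hRA : R ≤ A)
    (hM₀ : ¬ A ≤ M₀) (hR : R ≤ M₀)
    (h : ∀ M : Subgroup G, M ≤ A → R ≤ M → M ≤ M₀ ∨ M = A) : UC (R.subgroupOf A) := by
  apply uc_of_bound (R.subgroupOf A) (M₀.subgroupOf A)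
  · rw [Ne, Subgroup.subgroupOf_eq_top]
    exact hM₀
  · exact Subgroup.comap_mono hR
  · intro M' hM' hRM'
    have h1 : M'.map A.subtype ≤ A := Subgroup.map_subtype_le M'
    have h2 : R ≤ M'.map A.subtype := by
      rw [← Subgroup.map_subgroupOf_eq_of_le hRA]
      exact Subgroup.map_mono hRM'
    rcases h _ h1 h2 with h3 | h3
    · rw [Subgroup.map_le_iff_le_comap] at h3
      exact h3
    · exfalso
      apply hM'.1
      apply Subgroup.map_injective (Subgroup.subtype_injective A)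
      rw [h3, ← MonoidHom.range_eq_map, Subgroup.range_subtype]

theorem not_uc_subgroupOf_of_sup [Finite G] (A R H₁ H₂ : Subgroup G)
    (h₁ : R ≤ H₁) (h₂ : R ≤ H₂) (n₁ : ¬ A ≤ H₁) (n₂ : ¬ A ≤ H₂)
    (hsup : A ≤ (H₁ ⊓ A) ⊔ (H₂ ⊓ A)) : ¬ UC (R.subgroupOf A) := by
  apply not_uc_of_sup (R.subgroupOf A) (H₁.subgroupOf A) (H₂.subgroupOf A)
    (Subgroup.comap_mono h₁) (Subgroup.comap_mono h₂)
  · rw [Ne, Subgroup.subgroupOf_eq_top]
    exact n₁
  · rw [Ne, Subgroup.subgroupOf_eq_top]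
    exact n₂
  · rw [← Subgroup.inf_subgroupOf_right H₁ A, ← Subgroup.inf_subgroupOf_right H₂ A,
      ← Subgroup.subgroupOf_sup inf_le_right inf_le_right, Subgroup.subgroupOf_eq_top]
    exact hsup

/-- generation inside a subgroup of index two -/
theorem le_sup_inf_of_index_two (A H₁ H₂ : Subgroup G) [A.Normal] (hA : A.index = 2)
    (hsup : H₁ ⊔ H₂ = ⊤) {τ : G} (hτ₁ : τ ∈ H₁) (hτ₂ : τ ∈ H₂) (hτA : τ ∉ A) :
    A ≤ (H₁ ⊓ A) ⊔ (H₂ ⊓ A) := by
  set K : Subgroup G := (H₁ ⊓ A) ⊔ (H₂ ⊓ A) with hK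
  have hKA : K ≤ A := sup_le inf_le_right inf_le_right
  -- `τ` normalizes `K`
  have hconj : ∀ (t : G), t ∈ H₁ → t ∈ H₂ → ∀ k ∈ K, t * k * t⁻¹ ∈ K := by
    intro t ht₁ ht₂ k hk
    have hle : K ≤ K.comap (MulAut.conj t).toMonoidHom := by
      rw [hK]
      apply sup_le
      · intro x hx
        rw [Subgroup.mem_comap]
        apply Subgroup.mem_sup_left
        refine ⟨H₁.mul_mem (H₁.mul_mem ht₁ hx.1) (H₁.inv_mem ht₁), ?_⟩
        exact ‹A.Normal›.conj_mem x hx.2 t
      · intro x hx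
        rw [Subgroup.mem_comap]
        apply Subgroup.mem_sup_right
        refine ⟨H₂.mul_mem (H₂.mul_mem ht₂ hx.1) (H₂.inv_mem ht₂), ?_⟩
        exact ‹A.Normal›.conj_mem x hx.2 t
    exact hle hk
  have hτ2 : τ * τ ∈ K := by
    apply Subgroup.mem_sup_left
    exact ⟨H₁.mul_mem hτ₁ hτ₁, Subgroup.mul_self_mem_of_index_two hA τ⟩
  have hτ2' : τ⁻¹ * τ⁻¹ ∈ K := by
    have := K.inv_mem hτ2
    rwa [mul_inv_rev] at this
  -- the subgroup of elements `g` with `g ∈ K` or `g * τ ∈ K`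
  let T : Subgroup G :=
    { carrier := {g | g ∈ K ∨ g * τ ∈ K}
      one_mem' := Or.inl K.one_mem
      mul_mem' := by
        rintro a b (ha | ha) (hb | hb)
        · exact Or.inl (K.mul_mem ha hb)
        · right
          rw [mul_assoc]
          exact K.mul_mem ha hb
        · right
          have := K.mul_mem ha (hconj τ⁻¹ (H₁.inv_mem hτ₁) (H₂.inv_mem hτ₂) b hb)
          have e : a * τ * (τ⁻¹ * b * τ⁻¹⁻¹) = a * b * τ := by group
          rwa [e] at this
        · left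
          have := K.mul_mem (K.mul_mem ha
            (hconj τ⁻¹ (H₁.inv_mem hτ₁) (H₂.inv_mem hτ₂) _ hb)) hτ2'
          have e : a * τ * (τ⁻¹ * (b * τ) * τ⁻¹⁻¹) * (τ⁻¹ * τ⁻¹) = a * b := by group
          rwa [e] at this
      inv_mem' := by
        rintro a (ha | ha)
        · exact Or.inl (K.inv_mem ha)
        · right
          have := K.mul_mem (hconj τ hτ₁ hτ₂ _ (K.inv_mem ha)) hτ2
          have e : τ * (a * τ)⁻¹ * τ⁻¹ * (τ * τ) = a⁻¹ * τ := by group
          rwa [e] at this }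
  have hT : T = ⊤ := by
    rw [← top_le_iff, ← hsup]
    apply sup_le
    · intro h hh
      by_cases hA' : h ∈ A
      · exact Or.inl (Subgroup.mem_sup_left ⟨hh, hA'⟩)
      · right
        apply Subgroup.mem_sup_left
        refine Subgroup.mem_inf.2 ⟨H₁.mul_mem hh hτ₁, ?_⟩
        rw [Subgroup.mul_mem_iff_of_index_two hA]
        exact ⟨fun h' => absurd h' hA', fun h' => absurd h' hτA⟩
    · intro h hh
      by_cases hA' : h ∈ A
      · exact Or.inl (Subgroup.mem_sup_right ⟨hh, hA'⟩)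
      · right
        apply Subgroup.mem_sup_right
        refine Subgroup.mem_inf.2 ⟨H₂.mul_mem hh hτ₂, ?_⟩
        rw [Subgroup.mul_mem_iff_of_index_two hA]
        exact ⟨fun h' => absurd h' hA', fun h' => absurd h' hτA⟩
  intro a ha
  have : a ∈ T := by rw [hT]; exact Subgroup.mem_top a
  rcases this with h | h
  · exact h
  · exfalso
    have h1 := hKA h
    rw [Subgroup.mul_mem_iff_of_index_two hA] at h1
    exact hτA (h1.1 ha)

end Cfsg.Agent.Lib.H25.Mx
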