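import Mathlib
import Cfsg.Agent.Lib.H25.MaxB
import Cfsg.Agent.Lib.H25.AltQ

set_option autoImplicit false

/-!
# Sylow `2`-subgroups fixing a unique point lie in a unique maximal subgroup (helper25)
-/

namespace Cfsg.Agent.Lib.H25.Mx

open Equiv Cfsg.Agent.Lib.H25.Alt

/-- a subgroup of a symmetric group containing elements fixing `x₀` and transitive on the other
points, and an element moving `x₀`, is primitive -/
theorem preprimitive_of_fix_trans {Z : Type*} (M : Subgroup (Perm Z)) (x₀ : Z)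
    (hfix : ∀ a b : Z, a ≠ x₀ → b ≠ x₀ → ∃ r ∈ M, r x₀ = x₀ ∧ r a = b)
    (hmove : ∃ g ∈ M, g x₀ ≠ x₀) : MulAction.IsPreprimitive M Z := by
  obtain ⟨g, hgM, hg⟩ := hmove
  haveI : MulAction.IsPretransitive M Z := by
    rw [MulAction.isPretransitive_iff_base x₀]
    intro x
    by_cases hx : x = x₀
    · exact ⟨1, by rw [hx, one_smul]⟩
    · obtain ⟨r, hrM, -, hr⟩ := hfix (g x₀) x hg hx
      refine ⟨⟨r * g, M.mul_mem hrM hgM⟩, ?_⟩
      show (r * g) x₀ = x
      rw [Perm.mul_apply, hr]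
  apply MulAction.IsPreprimitive.of_isTrivialBlock_base x₀
  intro B hx₀ hB
  by_cases hsub : B.Subsingleton
  · exact Or.inl hsub
  · right
    rw [Set.not_subsingleton_iff] at hsub
    obtain ⟨u, huB, hu⟩ : ∃ u ∈ B, u ≠ x₀ := by
      obtain ⟨a, ha, b, hb, hab⟩ := hsub
      by_cases h : a = x₀
      · exact ⟨b, hb, fun h' => hab (h.trans h'.symm)⟩
      · exact ⟨a, ha, h⟩
    rw [Set.eq_univ_iff_forall]
    intro x
    by_cases hx : x = x₀
    · rw [hx]; exact hx₀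
    · obtain ⟨r, hrM, hr0, hr⟩ := hfix u x hu hx
      have h1 := (MulAction.isBlock_iff_smul_eq_of_mem.1 hB) (g := (⟨r, hrM⟩ : M)) hx₀
        (by show r x₀ ∈ B; rw [hr0]; exact hx₀)
      rw [← h1, ← hr]
      exact Set.smul_mem_smul_set (a := (⟨r, hrM⟩ : M)) huB

variable {Y R : Type*}

/-- transitivity of a subgroup of a symmetric group -/
def TransOn {Z : Type*} (H : Subgroup (Perm Z)) : Prop := ∀ a b : Z, ∃ σ ∈ H, σ a = b

theorem wr_trans [DecidableEq Y] {S' : Subgroup (Perm Y)} (hS' : TransOn S') (y : Y) (i : ZMod 2)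
    (y' : Y) (i' : ZMod 2) :
    ∃ h ∈ wr 2 R S', h (Sum.inl (y, i)) = Sum.inl (y', i') ∧ ∀ r : R, h (Sum.inr r) = Sum.inr r := by
  obtain ⟨σ, hσ, hσy⟩ := hS' y y'
  refine ⟨bs (Pi.single y' (i' - i)) * tp σ, ⟨_, σ, hσ, rfl⟩, ?_, ?_⟩
  · rw [bs_tp_apply_inl, hσy, Pi.single_eq_same, add_sub_cancel]
  · intro r
    rw [bs_tp_apply_inr]

section

variable [Fintype Y] [DecidableEq Y] [Fintype R] [DecidableEq R]

theorem wr2_trans {S' : Subgroup (Perm Y)} (hS' : TransOn S') (hY : 2 ≤ Fintype.card Y) (y : Y)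
    (i : ZMod 2) (y' : Y) (i' : ZMod 2) :
    ∃ h ∈ wr2 R S', h (Sum.inl (y, i)) = Sum.inl (y', i') ∧
      ∀ r : R, h (Sum.inr r) = Sum.inr r := by
  obtain ⟨σ, hσ, hσy⟩ := hS' y y'
  obtain ⟨y'', hy''⟩ : ∃ y'' : Y, y'' ≠ y' := by
    by_contra hcon
    push Not at hcon
    have : Fintype.card Y ≤ 1 := by
      rw [Fintype.card_le_one_iff]
      intro a b
      rw [hcon a, hcon b]
    omega
  by_cases hi : i' = i
  · refine ⟨tp σ, tp_mem_wr2 hσ, ?_, fun r => rfl⟩
    rw [tp_inl, hσy, hi]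
  · refine ⟨dd R y' y'' * tp σ, Subgroup.mul_mem _ (A0_le_wr2 _ (dd_mem_A0 _ _)) (tp_mem_wr2 hσ),
      ?_, fun r => rfl⟩
    rw [Perm.mul_apply, tp_inl, hσy, dd, bs_inl, Pi.add_apply, Pi.single_eq_same,
      Pi.single_eq_of_ne (Ne.symm hy''), add_zero, zmod2_eq_add_one (Ne.symm hi)]

/-- the Sylow subgroup of the symmetric group lies in a unique maximal subgroup when it fixes
exactly one point -/
theorem uc_wr_of_trans [Subsingleton R] (r₀ : R) {S' : Subgroup (Perm Y)} (hS' : TransOn S')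
    [Nonempty Y] : UC (wr 2 R S') := by
  obtain ⟨y₀⟩ := ‹Nonempty Y›
  set x₀ : X 2 Y R := Sum.inr r₀ with hx₀
  have hx₀' : ∀ z : X 2 Y R, z ≠ x₀ → ∃ y i, z = Sum.inl (y, i) := by
    rintro (⟨y, i⟩ | r) hz
    · exact ⟨y, i, rfl⟩
    · exact absurd (congrArg Sum.inr (Subsingleton.elim r r₀)) hz
  apply uc_of_bound (wr 2 R S') (MulAction.stabilizer (Perm (X 2 Y R)) x₀)
  · intro h
    have : swap x₀ (Sum.inl (y₀, 0)) ∈ MulAction.stabilizer (Perm (X 2 Y R)) x₀ := by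
      rw [h]; exact Subgroup.mem_top _
    rw [MulAction.mem_stabilizer_iff, Perm.smul_def, swap_apply_left] at this
    simp [hx₀] at this
  · rintro _ ⟨f, σ, -, rfl⟩
    rw [MulAction.mem_stabilizer_iff, Perm.smul_def, hx₀, bs_tp_apply_inr]
  · intro M hM hRM
    by_contra hcon
    have hmove : ∃ g ∈ M, g x₀ ≠ x₀ := by
      by_contra h
      push Not at h
      apply hcon
      intro g hg
      rw [MulAction.mem_stabilizer_iff, Perm.smul_def]
      exact h g hg
    have hprim : MulAction.IsPreprimitive M (X 2 Y R) := by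
      apply preprimitive_of_fix_trans M x₀ _ hmove
      intro a b ha hb
      obtain ⟨y, i, rfl⟩ := hx₀' a ha
      obtain ⟨y', i', rfl⟩ := hx₀' b hb
      obtain ⟨h, hh, h1, h2⟩ := wr_trans (R := R) hS' y i y' i'
      exact ⟨h, hRM hh, h2 r₀, h1⟩
    apply hM.1
    apply Perm.subgroup_eq_top_of_isPreprimitive_of_isSwap_mem hprim
      (bs (Pi.single y₀ 1))
    · rw [bs_single_two]
      refine ⟨_, _, ?_, rfl⟩
      intro h
      simp only [Sum.inl.injEq, Prod.mk.injEq, true_and] at h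
      exact zero_ne_one (α := ZMod 2) h
    · exact hRM (A_le_wr _ (bs_mem_A _))

end

end Cfsg.Agent.Lib.H25.Mx
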