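import Mathlib
import Cfsg.Agent.Lib.H25.MaxC

set_option autoImplicit false

/-!
# Three-cycles from two double transpositions (helper25)
-/

namespace Cfsg.Agent.Lib.H25.Mx

open Equiv Cfsg.Agent.Lib.H25.Alt

theorem threeCycle_of_two_dt {Z : Type*} [Fintype Z] [DecidableEq Z] {a u w z₀ z₁ v₀ v₁ : Z}
    (h : [a, u, w, z₀, z₁, v₀, v₁].Nodup) :
    (((swap a u * swap z₀ z₁) * (swap a w * swap v₀ v₁)) ^ 2).IsThreeCycle := by
  simp only [List.nodup_cons, List.mem_cons, List.not_mem_nil, or_false, not_or,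
    List.nodup_nil, and_true] at h
  obtain ⟨⟨h1, h2, h3, h4, h5, h6⟩, ⟨h7, h8, h9, h10, h11⟩, ⟨h12, h13, h14, h15⟩,
    ⟨h16, h17, h18⟩, ⟨h19, h20⟩, h21⟩ := h
  have c1 : Commute (swap z₀ z₁) (swap a w) :=
    (Perm.disjoint_swap_swap (by simp [*, Ne.symm])).commute
  have c2 : Commute (swap z₀ z₁) (swap a u) :=
    (Perm.disjoint_swap_swap (by simp [*, Ne.symm])).commute
  have c3 : Commute (swap v₀ v₁) (swap a u) :=
    (Perm.disjoint_swap_swap (by simp [*, Ne.symm])).commute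
  have c4 : Commute (swap v₀ v₁) (swap a w) :=
    (Perm.disjoint_swap_swap (by simp [*, Ne.symm])).commute
  have c5 : Commute (swap z₀ z₁) (swap v₀ v₁) :=
    (Perm.disjoint_swap_swap (by simp [*, Ne.symm])).commute
  have e : swap a u * swap z₀ z₁ * (swap a w * swap v₀ v₁) =
      (swap a u * swap a w) * (swap z₀ z₁ * swap v₀ v₁) := by
    rw [mul_assoc (swap a u), ← mul_assoc (swap z₀ z₁), c1.eq, mul_assoc (swap a w),
      ← mul_assoc (swap a u)]
  have c6 : Commute (swap a u * swap a w) (swap z₀ z₁ * swap v₀ v₁) :=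
    ((c2.symm.mul_left c1.symm).mul_right (c3.symm.mul_left c4.symm))
  rw [e, c6.mul_pow, c5.mul_pow, pow_two (swap z₀ z₁), pow_two (swap v₀ v₁), swap_mul_self,
    swap_mul_self, mul_one, mul_one, pow_two]
  exact (Perm.isThreeCycle_swap_mul_swap_same h1 h2 h7).isThreeCycle_sq

variable {Y R : Type*}

theorem exists_ne_ne_ne [Fintype Y] [DecidableEq Y] (hY : 4 ≤ Fintype.card Y) (a b c : Y) :
    ∃ d : Y, d ≠ a ∧ d ≠ b ∧ d ≠ c := by
  by_contra hcon
  push Not at hcon
  have : (Finset.univ : Finset Y) ⊆ {a, b, c} := by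
    intro d _
    by_cases h : d = a
    · simp [h]
    · by_cases h' : d = b
      · simp [h']
      · simp [hcon d h h']
  have := Finset.card_le_card this
  rw [Finset.card_univ] at this
  have h2 : ({a, b, c} : Finset Y).card ≤ 3 := Finset.card_le_three
  omega

/-- the block of a point -/
def blockOf : X 2 Y R → Option Y := Sum.elim (fun q => some q.1) (fun _ => none)

theorem swap_block_eq [DecidableEq Y] [DecidableEq R] (y : Y) (i : ZMod 2) :
    swap (Sum.inl (y, 0) : X 2 Y R) (Sum.inl (y, 1)) =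
      swap (Sum.inl (y, i + 1)) (Sum.inl (y, i)) := by
  have h01 : ∀ x : ZMod 2, x = 0 ∨ x = 1 := by decide
  rcases h01 i with rfl | rfl
  · rw [zero_add, swap_comm]
  · have : (1 : ZMod 2) + 1 = 0 := by decide
    rw [this]

theorem dd_eq_swap [DecidableEq Y] [DecidableEq R] (y : Y) (i : ZMod 2) (z : Y) :
    dd R y z = swap (Sum.inl (y, i + 1)) (Sum.inl (y, i)) *
      swap (Sum.inl (z, 0)) (Sum.inl (z, 1)) := by
  rw [dd_eq, bs_single_two, bs_single_two, swap_block_eq y i]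

variable [Fintype Y] [DecidableEq Y] [Fintype R] [DecidableEq R]

/-- a subgroup containing the double transpositions of the base group and an element moving
the fixed point contains a three-cycle -/
theorem exists_threeCycle_of_move [Subsingleton R] (r₀ : R) (hY : 4 ≤ Fintype.card Y)
    (M : Subgroup (Perm (X 2 Y R))) (hM : ∀ y₁ y₂ : Y, dd R y₁ y₂ ∈ M) {g : Perm (X 2 Y R)}
    (hgM : g ∈ M) (hg : g (Sum.inr r₀) ≠ Sum.inr r₀) : ∃ c ∈ M, c.IsThreeCycle := by
  have hx₀' : ∀ z : X 2 Y R, z ≠ Sum.inr r₀ → ∃ y i, z = Sum.inl (y, i) := by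
    rintro (⟨y, i⟩ | r) hz
    · exact ⟨y, i, rfl⟩
    · exact absurd (congrArg Sum.inr (Subsingleton.elim r r₀)) hz
  have h01 : ∀ i : ZMod 2, i + 1 ≠ i := by decide
  obtain ⟨yu, iu, hu⟩ := hx₀' _ hg
  set u' : X 2 Y R := Sum.inl (yu, iu + 1) with hu'
  have huu' : u' ≠ g (Sum.inr r₀) := by
    rw [hu, hu']
    intro h
    simp only [Sum.inl.injEq, Prod.mk.injEq, true_and] at h
    exact h01 iu h
  have hp : g.symm u' ≠ Sum.inr r₀ := by
    intro h
    apply huu'
    rw [← h, apply_symm_apply]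
  obtain ⟨yo, jo, hpo⟩ := hx₀' _ hp
  have hgp : g (Sum.inl (yo, jo)) = u' := by
    rw [← hpo, apply_symm_apply]
  set w : X 2 Y R := g (Sum.inl (yo, jo + 1)) with hw
  -- the choice of `z`
  obtain ⟨z, hzu, hzw⟩ : ∃ z : Y, z ≠ yu ∧ ∀ i : ZMod 2, w ≠ Sum.inl (z, i) := by
    rcases hww : w with ⟨yw, iw⟩ | r
    · obtain ⟨z, h1, h2⟩ := exists_ne_ne (by omega) yu yw
      refine ⟨z, h1, fun i h => ?_⟩
      simp only [Sum.inl.injEq, Prod.mk.injEq] at h
      exact h2 h.1.symm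
    · obtain ⟨z, h1, -⟩ := exists_ne_ne (by omega) yu yu
      exact ⟨z, h1, fun i h => by simp at h⟩
  -- the choice of `y'`
  obtain ⟨y', hy'o, hy'z⟩ : ∃ y' : Y, y' ≠ yo ∧
      ∀ j i : ZMod 2, g (Sum.inl (y', j)) ≠ Sum.inl (z, i) := by
    obtain ⟨y', h1, h2, h3⟩ := exists_ne_ne_ne hY yo
      ((blockOf (g.symm (Sum.inl (z, 0)))).getD yo) ((blockOf (g.symm (Sum.inl (z, 1)))).getD yo)
    refine ⟨y', h1, fun j i h => ?_⟩
    have h4 : g.symm (Sum.inl (z, i)) = Sum.inl (y', j) := by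
      rw [← h, symm_apply_apply]
    have h5 : (blockOf (g.symm (Sum.inl (z, i) : X 2 Y R))).getD yo = y' := by
      rw [h4]; rfl
    have hi : ∀ i : ZMod 2, i = 0 ∨ i = 1 := by decide
    rcases hi i with rfl | rfl
    · exact h2 h5.symm
    · exact h3 h5.symm
  -- the two double transpositions
  have hd : dd R yu z = swap u' (g (Sum.inr r₀)) *
      swap (Sum.inl (z, 0)) (Sum.inl (z, 1)) := by
    rw [hu, hu']
    exact dd_eq_swap yu iu z
  have he : g * dd R yo y' * g⁻¹ = swap u' w *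
      swap (g (Sum.inl (y', 0))) (g (Sum.inl (y', 1))) := by
    have h1 : dd R yo y' = swap (Sum.inl (yo, jo)) (Sum.inl (yo, jo + 1)) *
        swap (Sum.inl (y', 0)) (Sum.inl (y', 1)) := by
      rw [dd_eq_swap yo jo y', swap_comm]
    rw [h1, ← hgp, hw, swap_apply_apply, swap_apply_apply]
    group
  refine ⟨(dd R yu z * (g * dd R yo y' * g⁻¹)) ^ 2, ?_, ?_⟩
  · exact M.pow_mem (M.mul_mem (hM _ _) (M.mul_mem (M.mul_mem hgM (hM _ _)) (M.inv_mem hgM))) _
  · rw [hd, he]
    apply threeCycle_of_two_dt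
    have hinj : ∀ {a b : X 2 Y R}, a ≠ b → g a ≠ g b := fun h h' => h (g.injective h')
    have n1 : u' ≠ g (Sum.inr r₀) := huu'
    have n2 : u' ≠ w := by
      rw [← hgp, hw]
      apply hinj
      intro h
      simp only [Sum.inl.injEq, Prod.mk.injEq, true_and] at h
      exact h01 jo h.symm
    have n3 : ∀ i : ZMod 2, u' ≠ Sum.inl (z, i) := by
      intro i h
      rw [hu'] at h
      simp only [Sum.inl.injEq, Prod.mk.injEq] at h
      exact hzu h.1.symm
    have n4 : ∀ j : ZMod 2, u' ≠ g (Sum.inl (y', j)) := by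
      intro j
      rw [← hgp]
      apply hinj
      intro h
      simp only [Sum.inl.injEq, Prod.mk.injEq] at h
      exact hy'o h.1.symm
    have n5 : g (Sum.inr r₀) ≠ w := by
      rw [hw]
      apply hinj
      simp
    have n6 : ∀ i : ZMod 2, g (Sum.inr r₀) ≠ Sum.inl (z, i) := by
      intro i h
      rw [hu] at h
      simp only [Sum.inl.injEq, Prod.mk.injEq] at h
      exact hzu h.1.symm
    have n7 : ∀ j : ZMod 2, g (Sum.inr r₀) ≠ g (Sum.inl (y', j)) := by
      intro j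
      apply hinj
      simp
    have n8 : ∀ j : ZMod 2, w ≠ g (Sum.inl (y', j)) := by
      intro j
      rw [hw]
      apply hinj
      intro h
      simp only [Sum.inl.injEq, Prod.mk.injEq] at h
      exact hy'o h.1.symm
    have n9 : (Sum.inl (z, 0) : X 2 Y R) ≠ Sum.inl (z, 1) := by
      intro h
      simp only [Sum.inl.injEq, Prod.mk.injEq, true_and] at h
      exact zero_ne_one (α := ZMod 2) h
    have n10 : g (Sum.inl (y', 0)) ≠ g (Sum.inl (y', 1)) := by
      apply hinj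
      intro h
      simp only [Sum.inl.injEq, Prod.mk.injEq, true_and] at h
      exact zero_ne_one (α := ZMod 2) h
    simp only [List.nodup_cons, List.mem_cons, List.not_mem_nil, or_false, not_or,
      List.nodup_nil, and_true]
    refine ⟨⟨n1, n2, n3 0, n3 1, n4 0, n4 1⟩, ⟨n5, n6 0, n6 1, n7 0, n7 1⟩,
      ⟨hzw 0, hzw 1, n8 0, n8 1⟩, ⟨n9, (hy'z 0 0).symm, (hy'z 1 0).symm⟩,
      ⟨(hy'z 0 1).symm, (hy'z 1 1).symm⟩, n10, not_false⟩

end Cfsg.Agent.Lib.H25.Mx
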