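import Mathlib
import Cfsg.Agent.Lib.H25.MaxD

set_option autoImplicit false

/-!
# The alternating group: a Sylow `2`-subgroup fixing a unique point (helper25)
-/

namespace Cfsg.Agent.Lib.H25.Mx

open Equiv Cfsg.Agent.Lib.H25.Alt

variable {Y R : Type*}

theorem zmod2_cases (x : ZMod 2) : x = 0 ∨ x = 1 := by
  revert x; decide

/-- a double transposition across two blocks, as an element of the wreath product -/
theorem swap_mul_swap_eq_bs_tp [DecidableEq Y] [DecidableEq R] {y₁ y₂ : Y} (h : y₁ ≠ y₂)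
    (i j : ZMod 2) :
    swap (Sum.inl (y₁, i) : X 2 Y R) (Sum.inl (y₂, j)) *
        swap (Sum.inl (y₁, i + 1)) (Sum.inl (y₂, j + 1)) =
      bs (Pi.single y₁ (i + j) + Pi.single y₂ (i + j)) * tp (swap y₁ y₂) := by
  have hne : ∀ (a b : Y) (s t : ZMod 2), a ≠ b →
      (Sum.inl (a, s) : X 2 Y R) ≠ Sum.inl (b, t) := by
    intro a b s t hab h'
    simp only [Sum.inl.injEq, Prod.mk.injEq] at h'
    exact hab h'.1
  have hne' : ∀ (a : Y) (s t : ZMod 2), s ≠ t →
      (Sum.inl (a, s) : X 2 Y R) ≠ Sum.inl (a, t) := by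
    intro a s t hst h'
    simp only [Sum.inl.injEq, Prod.mk.injEq, true_and] at h'
    exact hst h'
  have h1 : ∀ s : ZMod 2, s + 1 ≠ s := by decide
  have h1' : ∀ s : ZMod 2, s ≠ s + 1 := by decide
  ext x
  rcases x with ⟨y, k⟩ | r
  · rw [bs_tp_apply_inl, Perm.mul_apply]
    by_cases hy1 : y = y₁
    · subst hy1
      rw [swap_apply_left, Pi.add_apply, Pi.single_eq_of_ne (Ne.symm h), Pi.single_eq_same,
        zero_add]
      by_cases hk : k = i
      · subst hk
        rw [swap_apply_of_ne_of_ne (hne' _ _ _ (h1' k)) (hne _ _ _ _ h), swap_apply_left]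
        congr 2
        have := zmod2_add_self k
        linear_combination (-1 : ZMod 2) * this
      · have hk' := zmod2_eq_add_one (Ne.symm hk)
        subst hk'
        rw [swap_apply_left, swap_apply_of_ne_of_ne (hne _ _ _ _ (Ne.symm h))
          (hne' _ _ _ (h1 j))]
        congr 2
        have := zmod2_add_self i
        linear_combination (-1 : ZMod 2) * this
    · by_cases hy2 : y = y₂
      · subst hy2
        rw [swap_apply_right, Pi.add_apply, Pi.single_eq_same, Pi.single_eq_of_ne h,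
          add_zero]
        by_cases hk : k = j
        · subst hk
          rw [swap_apply_of_ne_of_ne (hne _ _ _ _ (Ne.symm h)) (hne' _ _ _ (h1' k)),
            swap_apply_right]
          congr 2
          have := zmod2_add_self k
          linear_combination (-1 : ZMod 2) * this
        · have hk' := zmod2_eq_add_one (Ne.symm hk)
          subst hk'
          rw [swap_apply_right, swap_apply_of_ne_of_ne (hne' _ _ _ (h1 i))
            (hne _ _ _ _ h)]
          congr 2
          have := zmod2_add_self j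
          linear_combination (-1 : ZMod 2) * this
      · rw [swap_apply_of_ne_of_ne hy1 hy2, Pi.add_apply, Pi.single_eq_of_ne hy1,
          Pi.single_eq_of_ne hy2, add_zero, add_zero,
          swap_apply_of_ne_of_ne (hne _ _ _ _ hy1) (hne _ _ _ _ hy2),
          swap_apply_of_ne_of_ne (hne _ _ _ _ hy1) (hne _ _ _ _ hy2)]
  · rw [bs_tp_apply_inr, Perm.mul_apply,
      swap_apply_of_ne_of_ne (a := Sum.inl (y₁, i + 1)) (b := Sum.inl (y₂, j + 1))
        (x := Sum.inr r) (by simp) (by simp),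
      swap_apply_of_ne_of_ne (by simp) (by simp)]

section

variable [Fintype Y] [DecidableEq Y]

theorem eq_of_card_two (hY : Fintype.card Y = 2) {a b c : Y} (hab : a ≠ b) (hcb : c ≠ b) :
    a = c := by
  by_contra hac
  have h3 : ({a, b, c} : Finset Y).card = 3 := by
    rw [Finset.card_insert_of_notMem, Finset.card_pair (Ne.symm hcb)]
    simp only [Finset.mem_insert, Finset.mem_singleton, not_or]
    exact ⟨hab, hac⟩
  have := Finset.card_le_univ ({a, b, c} : Finset Y)
  omega

theorem swap_mem_of_trans (hY : Fintype.card Y = 2) {S' : Subgroup (Perm Y)} (hS' : TransOn S')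
    {y y' : Y} (hyy' : y ≠ y') : swap y y' ∈ S' := by
  obtain ⟨σ, hσ, hσy⟩ := hS' y y'
  have : σ = swap y y' := by
    ext z
    by_cases hz : z = y
    · rw [hz, hσy, swap_apply_left]
    · have hz' : z = y' := eq_of_card_two hY hz (Ne.symm hyy')
      rw [hz', swap_apply_right]
      have h1 : σ y' ≠ y' := by
        intro h
        exact hyy' (σ.injective (hσy.trans h.symm))
      exact eq_of_card_two hY h1 hyy'
  rw [← this]
  exact hσ

variable [Fintype R] [DecidableEq R]

theorem sign_swap_mul_swap {Z : Type*} [Fintype Z] [DecidableEq Z] {a b c d : Z} (hab : a ≠ b)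
    (hcd : c ≠ d) : Perm.sign (swap a b * swap c d) = 1 := by
  rw [Perm.sign_mul, Perm.sign_swap hab, Perm.sign_swap hcd]
  rfl

/-- for two blocks, the Sylow subgroup of the alternating group contains all double
transpositions of the four moved points -/
theorem dt_mem_wr2 (hY : Fintype.card Y = 2) {S' : Subgroup (Perm Y)} (hS' : TransOn S')
    {p q r s : Y × ZMod 2} (hpq : p ≠ q) (hpr : p ≠ r) (hps : p ≠ s) (hqr : q ≠ r) (hqs : q ≠ s)
    (hrs : r ≠ s) :
    swap (Sum.inl p : X 2 Y R) (Sum.inl q) * swap (Sum.inl r) (Sum.inl s) ∈ wr2 R S' := by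
  obtain ⟨yp, ip⟩ := p
  obtain ⟨yq, iq⟩ := q
  obtain ⟨yr, ir⟩ := r
  obtain ⟨ys, is⟩ := s
  -- two points in the same block
  have same : ∀ {y y' : Y} {i i' : ZMod 2}, (y, i) ≠ (y', i') → y' = y → i' = i + 1 := by
    intro y y' i i' hne hy
    apply zmod2_eq_add_one
    intro hi
    exact hne (by rw [hy, hi])
  -- three points cannot lie in the same block
  have three : ∀ {y y' y'' : Y} {i i' i'' : ZMod 2}, (y, i) ≠ (y', i') → (y, i) ≠ (y'', i'') →
      (y', i') ≠ (y'', i'') → y' = y → y'' ≠ y := by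
    intro y y' y'' i i' i'' h1 h2 h3 hy hy'
    have e1 := same h1 hy
    have e2 := same h2 hy'
    exact h3 (by rw [hy, hy', e1, e2])
  have cross : ∀ {y y' : Y} (i i' : ZMod 2), y ≠ y' →
      swap (Sum.inl (y, i) : X 2 Y R) (Sum.inl (y', i')) *
        swap (Sum.inl (y, i + 1)) (Sum.inl (y', i' + 1)) ∈ wr2 R S' := by
    intro y y' i i' hyy'
    refine Subgroup.mem_inf.2 ⟨?_, ?_⟩
    · rw [swap_mul_swap_eq_bs_tp hyy']
      exact ⟨_, _, swap_mem_of_trans hY hS' hyy', rfl⟩
    · rw [Perm.mem_alternatingGroup]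
      apply sign_swap_mul_swap
      · intro h
        simp only [Sum.inl.injEq, Prod.mk.injEq] at h
        exact hyy' h.1
      · intro h
        simp only [Sum.inl.injEq, Prod.mk.injEq] at h
        exact hyy' h.1
  by_cases hq : yq = yp
  · have e1 := same hpq hq
    have hr : yr ≠ yp := three hpq hpr hqr hq
    have hs : ys ≠ yp := three hpq hps hqs hq
    have hsr : ys = yr := eq_of_card_two hY hs hr
    have e2 := same hrs hsr
    subst hq hsr e1 e2
    have : swap (Sum.inl (yq, ip) : X 2 Y R) (Sum.inl (yq, ip + 1)) *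
        swap (Sum.inl (ys, ir)) (Sum.inl (ys, ir + 1)) = dd R yq ys := by
      rw [dd_eq_swap yq ip ys, swap_block_eq ys ir, swap_comm, swap_comm (Sum.inl (ys, ir))]
    rw [this]
    exact A0_le_wr2 _ (dd_mem_A0 _ _)
  · by_cases hr : yr = yp
    · have e1 := same hpr hr
      have hs : ys ≠ yp := three hpr hps hrs hr
      have hsq : ys = yq := eq_of_card_two hY hs hq
      have e2 := same hqs hsq
      subst hr hsq e1 e2
      exact cross ip iq (Ne.symm hq)
    · have hrq : yr = yq := eq_of_card_two hY hr hq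
      have e1 := same hqr hrq
      have hs : ys = yp := by
        by_contra hs
        exact three hqr hqs hrs hrq (eq_of_card_two hY hs hq)
      have e2 := same hps hs
      subst hrq hs e1 e2
      rw [swap_comm (Sum.inl (yr, iq + 1))]
      exact cross ip iq (Ne.symm hq)

/-- the case of two blocks: a subgroup containing the Sylow subgroup and an element moving
the fixed point contains a three-cycle -/
theorem exists_threeCycle_of_move_two [Subsingleton R] (r₀ : R) (hY : Fintype.card Y = 2)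
    {S' : Subgroup (Perm Y)} (hS' : TransOn S')
    (M : Subgroup (Perm (X 2 Y R))) (hM : wr2 R S' ≤ M) {g : Perm (X 2 Y R)}
    (hgM : g ∈ M) (hg : g (Sum.inr r₀) ≠ Sum.inr r₀) : ∃ c ∈ M, c.IsThreeCycle := by
  have hx₀' : ∀ z : X 2 Y R, z ≠ Sum.inr r₀ → ∃ q : Y × ZMod 2, z = Sum.inl q := by
    rintro (q | r) hz
    · exact ⟨q, rfl⟩
    · exact absurd (congrArg Sum.inr (Subsingleton.elim r r₀)) hz
  have h01 : ∀ i : ZMod 2, i + 1 ≠ i := by decide
  obtain ⟨⟨yu, iu⟩, hu⟩ := hx₀' _ hg
  obtain ⟨yv, hyv⟩ : ∃ yv : Y, yv ≠ yu :=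
    Fintype.exists_ne_of_one_lt_card (by omega) yu
  set x₀ : X 2 Y R := Sum.inr r₀ with hx₀
  set u : X 2 Y R := Sum.inl (yu, iu) with hu0
  set u' : X 2 Y R := Sum.inl (yu, iu + 1) with hu'
  set v₀ : X 2 Y R := Sum.inl (yv, 0) with hv₀
  set v₁ : X 2 Y R := Sum.inl (yv, 1) with hv₁
  have n1 : u' ≠ u := by
    intro h
    simp only [hu', hu0, Sum.inl.injEq, Prod.mk.injEq, true_and] at h
    exact h01 iu h
  have n2 : u' ≠ x₀ := by simp [hu', hx₀]
  have n3 : u ≠ x₀ := by simp [hu0, hx₀]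
  have n4 : v₀ ≠ v₁ := by
    intro h
    simp only [hv₀, hv₁, Sum.inl.injEq, Prod.mk.injEq, true_and] at h
    exact zero_ne_one (α := ZMod 2) h
  have n5 : ∀ i j : ZMod 2, (Sum.inl (yu, i) : X 2 Y R) ≠ Sum.inl (yv, j) := by
    intro i j h
    simp only [Sum.inl.injEq, Prod.mk.injEq] at h
    exact hyv h.1.symm
  have n6 : v₀ ≠ x₀ := by simp [hv₀, hx₀]
  have n7 : v₁ ≠ x₀ := by simp [hv₁, hx₀]
  -- preimages
  have hpre : ∀ z : X 2 Y R, z ≠ u → g.symm z ≠ x₀ := by
    intro z hz h
    apply hz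
    rw [← hu, ← h, apply_symm_apply]
  obtain ⟨qa, hqa⟩ := hx₀' _ (hpre u' n1)
  obtain ⟨qb, hqb⟩ := hx₀' _ (hpre x₀ (Ne.symm n3))
  obtain ⟨qc, hqc⟩ := hx₀' _ (hpre v₀ (Ne.symm (n5 _ _)))
  obtain ⟨qd, hqd⟩ := hx₀' _ (hpre v₁ (Ne.symm (n5 _ _)))
  have hinj : ∀ {a b : X 2 Y R} {q q' : Y × ZMod 2}, a ≠ b → g.symm a = Sum.inl q →
      g.symm b = Sum.inl q' → q ≠ q' := by
    intro a b q q' hab h1 h2 hqq
    apply hab
    apply g.symm.injective
    rw [h1, h2, hqq]
  have hd' : swap (Sum.inl qa : X 2 Y R) (Sum.inl qb) * swap (Sum.inl qc) (Sum.inl qd) ∈ M :=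
    hM (dt_mem_wr2 hY hS' (hinj n2 hqa hqb) (hinj (n5 _ _) hqa hqc) (hinj (n5 _ _) hqa hqd)
      (hinj (Ne.symm n6) hqb hqc) (hinj (Ne.symm n7) hqb hqd) (hinj n4 hqc hqd))
  have he : g * (swap (Sum.inl qa : X 2 Y R) (Sum.inl qb) * swap (Sum.inl qc) (Sum.inl qd)) *
      g⁻¹ = swap u' x₀ * swap v₀ v₁ := by
    have e1 : g (Sum.inl qa) = u' := by rw [← hqa, apply_symm_apply]
    have e2 : g (Sum.inl qb) = x₀ := by rw [← hqb, apply_symm_apply]
    have e3 : g (Sum.inl qc) = v₀ := by rw [← hqc, apply_symm_apply]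
    have e4 : g (Sum.inl qd) = v₁ := by rw [← hqd, apply_symm_apply]
    rw [← e1, ← e2, ← e3, ← e4, swap_apply_apply, swap_apply_apply]
    group
  have hd : swap u' u * swap v₀ v₁ ∈ M := by
    have : swap u' u * swap v₀ v₁ = dd R yu yv := (dd_eq_swap yu iu yv).symm
    rw [this]
    exact hM (A0_le_wr2 _ (dd_mem_A0 _ _))
  refine ⟨(swap u' u * swap v₀ v₁) * (swap u' x₀ * swap v₀ v₁), M.mul_mem hd ?_, ?_⟩
  · rw [← he]
    exact M.mul_mem (M.mul_mem hgM hd') (M.inv_mem hgM)
  · have c1 : Commute (swap v₀ v₁) (swap u' x₀) :=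
      (Perm.disjoint_swap_swap (by
        simp only [List.nodup_cons, List.mem_cons, List.not_mem_nil, or_false, not_or,
          List.nodup_nil, and_true]
        exact ⟨⟨n4, Ne.symm (n5 _ _), n6⟩, ⟨Ne.symm (n5 _ _), n7⟩, n2, not_false⟩)).commute
    have : swap u' u * swap v₀ v₁ * (swap u' x₀ * swap v₀ v₁) = swap u' u * swap u' x₀ := by
      rw [mul_assoc, ← mul_assoc (swap v₀ v₁), c1.eq, mul_assoc, swap_mul_self, mul_one]
    rw [this]
    exact Perm.isThreeCycle_swap_mul_swap_same n1 n2 n3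

end

end Cfsg.Agent.Lib.H25.Mx
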