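import Mathlib
import Cfsg.Agent.Lib.H25.MaxE

set_option autoImplicit false

/-!
# The alternating group: uniqueness of the maximal overgroup (helper25)
-/

namespace Cfsg.Agent.Lib.H25.Mx

open Equiv Cfsg.Agent.Lib.H25.Alt

variable {Y R : Type*} [Fintype Y] [DecidableEq Y] [Fintype R] [DecidableEq R]

/-- the Sylow subgroup of the alternating group lies in a unique maximal subgroup when it
fixes exactly one point -/
theorem uc_wr2_of_trans [Subsingleton R] (r₀ : R) {S' : Subgroup (Perm Y)} (hS' : TransOn S')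
    (hY : Fintype.card Y = 2 ∨ 4 ≤ Fintype.card Y) :
    UC ((wr2 R S').subgroupOf (alternatingGroup (X 2 Y R))) := by
  have hY2 : 2 ≤ Fintype.card Y := by omega
  obtain ⟨y₀⟩ : Nonempty Y := Fintype.card_pos_iff.1 (by omega)
  set x₀ : X 2 Y R := Sum.inr r₀ with hx₀
  have hx₀' : ∀ z : X 2 Y R, z ≠ x₀ → ∃ y i, z = Sum.inl (y, i) := by
    rintro (⟨y, i⟩ | r) hz
    · exact ⟨y, i, rfl⟩
    · exact absurd (congrArg Sum.inr (Subsingleton.elim r r₀)) hz
  apply uc_subgroupOf_of_bound (alternatingGroup (X 2 Y R)) (wr2 R S')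
    (MulAction.stabilizer (Perm (X 2 Y R)) x₀) (wr2_le_alt S')
  · intro h
    have h1 : swap x₀ (Sum.inl (y₀, 0)) * swap x₀ (Sum.inl (y₀, 1)) ∈
        alternatingGroup (X 2 Y R) := by
      rw [Perm.mem_alternatingGroup]
      apply sign_swap_mul_swap <;> simp [hx₀]
    have h2 := h h1
    rw [MulAction.mem_stabilizer_iff, Perm.smul_def, Perm.mul_apply, swap_apply_left,
      swap_apply_of_ne_of_ne] at h2
    · simp [hx₀] at h2
    · simp [hx₀]
    · intro h'
      simp only [Sum.inl.injEq, Prod.mk.injEq, true_and] at h'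
      exact zero_ne_one (α := ZMod 2) h'.symm
  · intro g hg
    obtain ⟨f, σ, -, rfl⟩ := wr2_le_wr S' hg
    rw [MulAction.mem_stabilizer_iff, Perm.smul_def, hx₀, bs_tp_apply_inr]
  · intro M hMA hRM
    by_cases hmove : ∃ g ∈ M, g x₀ ≠ x₀
    · right
      apply le_antisymm hMA
      have hprim : MulAction.IsPreprimitive M (X 2 Y R) := by
        apply preprimitive_of_fix_trans M x₀ _ hmove
        intro a b ha hb
        obtain ⟨y, i, rfl⟩ := hx₀' a ha
        obtain ⟨y', i', rfl⟩ := hx₀' b hb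
        obtain ⟨h, hh, h1, h2⟩ := wr2_trans (R := R) hS' hY2 y i y' i'
        exact ⟨h, hRM hh, h2 r₀, h1⟩
      obtain ⟨g, hgM, hg⟩ := hmove
      obtain ⟨c, hcM, hc⟩ : ∃ c ∈ M, c.IsThreeCycle := by
        rcases hY with hY | hY
        · exact exists_threeCycle_of_move_two r₀ hY hS' M hRM hgM hg
        · exact exists_threeCycle_of_move r₀ hY M
            (fun y₁ y₂ => hRM (A0_le_wr2 _ (dd_mem_A0 _ _))) hgM hg
      exact Perm.alternatingGroup_le_of_isPreprimitive_of_isThreeCycle_mem hprim hc hcM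
    · left
      push Not at hmove
      intro g hg
      rw [MulAction.mem_stabilizer_iff, Perm.smul_def]
      exact hmove g hg

end Cfsg.Agent.Lib.H25.Mx
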