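import Mathlib
import Cfsg.Agent.Lib.H25.MaxF

set_option autoImplicit false

/-!
# Sylow subgroups of transitive groups of prime power degree are transitive (helper25)
-/

namespace Cfsg.Agent.Lib.H25.Mx

open Equiv Cfsg.Agent.Lib.H25.Alt

theorem sylow_smul_trans {p : ℕ} [hp : Fact p.Prime] {G Z : Type*} [Group G] [Finite G]
    [MulAction G Z] [MulAction.IsPretransitive G Z] [Finite Z] {j : ℕ} (hZ : Nat.card Z = p ^ j)
    (P : Sylow p G) (z z' : Z) : ∃ g ∈ P, g • z = z' := by
  set S := MulAction.stabilizer G z with hSdef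
  have hS : S.index = p ^ j := by rw [MulAction.index_stabilizer_of_transitive, hZ]
  have h1 : MulAction.stabilizer (↥(P : Subgroup G)) z = S.subgroupOf P := by
    ext g
    rw [MulAction.mem_stabilizer_iff, Subgroup.mem_subgroupOf, hSdef,
      MulAction.mem_stabilizer_iff]
    rfl
  have h2 : S.relIndex P = (MulAction.orbit (↥(P : Subgroup G)) z).ncard := by
    rw [Subgroup.relIndex, ← h1, MulAction.index_stabilizer]
  have h3 : S.relIndex P * (P : Subgroup G).index = (P : Subgroup G).relIndex S * p ^ j := by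
    rw [← Subgroup.inf_relIndex_right, Subgroup.relIndex_mul_index inf_le_right, ← hS,
      ← Subgroup.inf_relIndex_left (H := S), Subgroup.relIndex_mul_index inf_le_left]
  have hcop : Nat.Coprime (p ^ j) (P : Subgroup G).index :=
    ((Nat.Prime.coprime_iff_not_dvd hp.out).2 P.not_dvd_index).pow_left j
  have h4 : p ^ j ∣ S.relIndex P :=
    hcop.dvd_of_dvd_mul_right (Dvd.intro_left _ h3.symm)
  have h5 : (MulAction.orbit (↥(P : Subgroup G)) z).ncard ≤ p ^ j := by
    rw [← hZ]
    exact Set.ncard_le_card _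
  have h6 : (MulAction.orbit (↥(P : Subgroup G)) z).ncard ≠ 0 :=
    Set.ncard_ne_zero_of_mem (MulAction.mem_orbit_self z)
  have h7 : (MulAction.orbit (↥(P : Subgroup G)) z).ncard = Nat.card Z := by
    rw [hZ]
    apply le_antisymm h5
    rw [← h2]
    exact Nat.le_of_dvd (Nat.pos_of_ne_zero (by rw [h2]; exact h6)) h4
  have h8 := (Set.eq_univ_iff_ncard _).2 h7
  have h9 : z' ∈ MulAction.orbit (↥(P : Subgroup G)) z := by rw [h8]; exact Set.mem_univ _
  obtain ⟨g, hg⟩ := h9
  exact ⟨g.1, g.2, hg⟩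

/-- Sylow `2`-subgroups of symmetric groups of degree a power of two are transitive -/
theorem sylow_transOn {Y : Type*} [Fintype Y] [DecidableEq Y] {j : ℕ}
    (hY : Fintype.card Y = 2 ^ j) (P : Sylow 2 (Perm Y)) : TransOn (P : Subgroup (Perm Y)) := by
  intro a b
  haveI : Nonempty Y := Fintype.card_pos_iff.1 (by rw [hY]; positivity)
  haveI : Fact (Nat.Prime 2) := ⟨Nat.prime_two⟩
  obtain ⟨g, hg, h⟩ := sylow_smul_trans (p := 2) (G := Perm Y) (Z := Y) (j := j)
    (by rw [Nat.card_eq_fintype_card, hY]) P a b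
  exact ⟨g, hg, h⟩

end Cfsg.Agent.Lib.H25.Mx
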