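import Mathlib
import Cfsg.Agent.Lib.H25.MaxG

set_option autoImplicit false

/-!
# Intransitive Sylow `2`-subgroups lie in several maximal subgroups (helper25)
-/

namespace Cfsg.Agent.Lib.H25.Mx

open Equiv Cfsg.Agent.Lib.H25.Alt

open scoped Pointwise

theorem not_uc_of_coatom {G : Type*} [Group G] [Finite G] (R M₁ H₂ : Subgroup G)
    (hM₁ : IsCoatom M₁) (hR₁ : R ≤ M₁) (hR₂ : R ≤ H₂) (hH₂ : H₂ ≠ ⊤) (hne : ¬ H₂ ≤ M₁) :
    ¬ UC R := by
  rintro ⟨M, -, huniq⟩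
  obtain ⟨M₂, hM₂, h2⟩ := (eq_top_or_exists_le_coatom H₂).resolve_left hH₂
  have e1 := huniq M₁ ⟨hM₁, hR₁⟩
  have e2 := huniq M₂ ⟨hM₂, hR₂.trans h2⟩
  apply hne
  rw [e1, ← e2]
  exact h2

variable {Y R : Type*}

/-- the points lying over a set of blocks -/
def ovr (R : Type*) (O' : Set Y) : Set (X 2 Y R) := {x | ∃ y i, x = Sum.inl (y, i) ∧ y ∈ O'}

theorem inl_mem_ovr {O' : Set Y} {y : Y} {i : ZMod 2} :
    (Sum.inl (y, i) : X 2 Y R) ∈ ovr R O' ↔ y ∈ O' := by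
  constructor
  · rintro ⟨y', i', h, hy'⟩
    simp only [Sum.inl.injEq, Prod.mk.injEq] at h
    rw [h.1]
    exact hy'
  · intro h
    exact ⟨y, i, rfl, h⟩

theorem inr_not_mem_ovr {O' : Set Y} {r : R} : (Sum.inr r : X 2 Y R) ∉ ovr R O' := by
  rintro ⟨y', i', h, -⟩
  simp at h

theorem ncard_ovr (O' : Set Y) : (ovr R O').ncard = 2 * O'.ncard := by
  have h1 : ovr R O' = (fun q : Y × ZMod 2 => (Sum.inl q : X 2 Y R)) '' (O' ×ˢ Set.univ) := by
    ext x
    constructor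
    · rintro ⟨y, i, rfl, hy⟩
      exact ⟨(y, i), ⟨hy, Set.mem_univ _⟩, rfl⟩
    · rintro ⟨⟨y, i⟩, ⟨hy, -⟩, rfl⟩
      exact ⟨y, i, rfl, hy⟩
  rw [h1, Set.ncard_image_of_injective _ Sum.inl_injective, Set.ncard_prod, Set.ncard_univ,
    Nat.card_zmod, mul_comm]

section

variable [DecidableEq Y]

theorem wr_le_stabilizer_ovr {S' : Subgroup (Perm Y)} {O' : Set Y}
    (hO' : ∀ σ ∈ S', ∀ y, σ y ∈ O' ↔ y ∈ O') :
    wr 2 R S' ≤ MulAction.stabilizer (Perm (X 2 Y R)) (ovr R O') := by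
  rintro _ ⟨f, σ, hσ, rfl⟩
  rw [MulAction.mem_stabilizer_set]
  rintro (⟨y, i⟩ | r)
  · rw [Perm.smul_def, bs_tp_apply_inl, inl_mem_ovr, inl_mem_ovr]
    exact hO' σ hσ y
  · rw [Perm.smul_def, bs_tp_apply_inr]

omit [DecidableEq Y] in
/-- elements of the full block stabilizer preserve blocks -/
theorem blockOf_eq_of_mem_wr {S' : Subgroup (Perm Y)} {g : Perm (X 2 Y R)}
    (hg : g ∈ wr 2 R S') (y : Y) (i j : ZMod 2) :
    blockOf (g (Sum.inl (y, i))) = blockOf (g (Sum.inl (y, j))) := by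
  obtain ⟨f, σ, -, rfl⟩ := hg
  rw [bs_tp_apply_inl, bs_tp_apply_inl]
  rfl

theorem tp_swap_not_mem_stabilizer {O' : Set Y} {y₀ y₁ : Y} (h₀ : y₀ ∈ O') (h₁ : y₁ ∉ O') :
    tp (p := 2) (R := R) (swap y₀ y₁) ∉ MulAction.stabilizer (Perm (X 2 Y R)) (ovr R O') := by
  intro h
  rw [MulAction.mem_stabilizer_set] at h
  have := (h (Sum.inl (y₀, 0))).2 (inl_mem_ovr.2 h₀)
  rw [Perm.smul_def, tp_inl, swap_apply_left, inl_mem_ovr] at this
  exact h₁ this

variable [DecidableEq R]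

theorem swap_not_mem_wr {S' : Subgroup (Perm Y)} {y₀ y₁ : Y} (h : y₀ ≠ y₁) :
    swap (Sum.inl (y₀, 0) : X 2 Y R) (Sum.inl (y₁, 0)) ∉ wr 2 R S' := by
  intro hmem
  have := blockOf_eq_of_mem_wr hmem y₀ 0 1
  rw [swap_apply_left, swap_apply_of_ne_of_ne] at this
  · exact h (Option.some_injective _ this).symm
  · intro h'
    simp only [Sum.inl.injEq, Prod.mk.injEq, true_and] at h'
    exact zero_ne_one (α := ZMod 2) h'.symm
  · intro h'
    simp only [Sum.inl.injEq, Prod.mk.injEq] at h'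
    exact h h'.1

/-- a three-cycle outside the block stabilizer -/
theorem threeCycle_not_mem_wr {S' : Subgroup (Perm Y)} {y₀ y₁ : Y} (h : y₀ ≠ y₁) :
    swap (Sum.inl (y₀, 0) : X 2 Y R) (Sum.inl (y₁, 0)) *
      swap (Sum.inl (y₀, 0)) (Sum.inl (y₀, 1)) ∉ wr 2 R S' := by
  intro hmem
  have := blockOf_eq_of_mem_wr hmem y₀ 0 1
  have n1 : (Sum.inl (y₀, 1) : X 2 Y R) ≠ Sum.inl (y₀, 0) := by
    intro h'
    simp only [Sum.inl.injEq, Prod.mk.injEq, true_and] at h'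
    exact zero_ne_one (α := ZMod 2) h'.symm
  have n2 : (Sum.inl (y₀, 1) : X 2 Y R) ≠ Sum.inl (y₁, 0) := by
    intro h'
    simp only [Sum.inl.injEq, Prod.mk.injEq] at h'
    exact h h'.1
  rw [Perm.mul_apply, Perm.mul_apply, swap_apply_left, swap_apply_right, swap_apply_left,
    swap_apply_of_ne_of_ne n1 n2] at this
  exact h (Option.some_injective _ this)

end

variable [Fintype Y] [DecidableEq Y] [Fintype R] [DecidableEq R]

/-- the symmetric group: an invariant set of blocks gives a second maximal subgroup -/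
theorem not_uc_wr_of_invariant {S' : Subgroup (Perm Y)} {O' : Set Y}
    (hO' : ∀ σ ∈ S', ∀ y, σ y ∈ O' ↔ y ∈ O') {y₀ y₁ : Y} (h₀ : y₀ ∈ O') (h₁ : y₁ ∉ O')
    (hcard : Fintype.card (X 2 Y R) ≠ 2 * (2 * O'.ncard)) : ¬ UC (wr 2 R S') := by
  have hne : y₀ ≠ y₁ := fun h => h₁ (h ▸ h₀)
  apply not_uc_of_coatom (wr 2 R S') (MulAction.stabilizer (Perm (X 2 Y R)) (ovr R O'))
    (wr 2 R ⊤)
  · apply Equiv.Perm.isCoatom_stabilizer
    · exact ⟨Sum.inl (y₀, 0), inl_mem_ovr.2 h₀⟩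
    · exact ⟨Sum.inl (y₁, 0), fun h => h₁ (inl_mem_ovr.1 h)⟩
    · rw [Nat.card_eq_fintype_card, ncard_ovr]
      exact hcard
  · exact wr_le_stabilizer_ovr hO'
  · rintro _ ⟨f, σ, -, rfl⟩
    exact ⟨f, σ, Subgroup.mem_top _, rfl⟩
  · intro h
    apply swap_not_mem_wr (R := R) (S' := ⊤) hne
    rw [h]
    exact Subgroup.mem_top _
  · intro h
    exact tp_swap_not_mem_stabilizer h₀ h₁ (h (tp_mem_wr (Subgroup.mem_top _)))

/-- the alternating group: an invariant set of blocks gives a second maximal subgroup -/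
theorem not_uc_wr2_of_invariant {S' : Subgroup (Perm Y)} {O' : Set Y}
    (hO' : ∀ σ ∈ S', ∀ y, σ y ∈ O' ↔ y ∈ O') {y₀ y₁ : Y} (h₀ : y₀ ∈ O') (h₁ : y₁ ∉ O')
    (hcard : Fintype.card (X 2 Y R) ≠ 2 * (2 * O'.ncard)) :
    ¬ UC ((wr2 R S').subgroupOf (alternatingGroup (X 2 Y R))) := by
  have hne : y₀ ≠ y₁ := fun h => h₁ (h ▸ h₀)
  apply not_uc_of_coatom ((wr2 R S').subgroupOf (alternatingGroup (X 2 Y R)))
    (MulAction.stabilizer (alternatingGroup (X 2 Y R)) (ovr R O'))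
    ((wr 2 R ⊤).subgroupOf (alternatingGroup (X 2 Y R)))
  · apply alternatingGroup.isCoatom_stabilizer
    · exact ⟨Sum.inl (y₀, 0), inl_mem_ovr.2 h₀⟩
    · exact ⟨Sum.inl (y₁, 0), fun h => h₁ (inl_mem_ovr.1 h)⟩
    · rw [Nat.card_eq_fintype_card, ncard_ovr]
      exact hcard
  · intro g hg
    rw [Subgroup.mem_subgroupOf] at hg
    have := wr_le_stabilizer_ovr hO' (wr2_le_wr S' hg)
    rw [MulAction.mem_stabilizer_set] at this ⊢
    exact this
  · intro g hg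
    rw [Subgroup.mem_subgroupOf] at hg ⊢
    obtain ⟨f, σ, -, h⟩ := wr2_le_wr S' hg
    exact ⟨f, σ, Subgroup.mem_top _, h⟩
  · intro h
    apply threeCycle_not_mem_wr (R := R) (S' := ⊤) hne
    have hmem : swap (Sum.inl (y₀, 0) : X 2 Y R) (Sum.inl (y₁, 0)) *
        swap (Sum.inl (y₀, 0)) (Sum.inl (y₀, 1)) ∈ alternatingGroup (X 2 Y R) := by
      rw [Perm.mem_alternatingGroup]
      apply sign_swap_mul_swap
      · intro h'
        simp only [Sum.inl.injEq, Prod.mk.injEq] at h'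
        exact hne h'.1
      · intro h'
        simp only [Sum.inl.injEq, Prod.mk.injEq, true_and] at h'
        exact zero_ne_one (α := ZMod 2) h'
    have : (⟨_, hmem⟩ : alternatingGroup (X 2 Y R)) ∈
        (wr 2 R (⊤ : Subgroup (Perm Y))).subgroupOf (alternatingGroup (X 2 Y R)) := by
      rw [h]
      exact Subgroup.mem_top _
    exact this
  · intro h
    have hmem : tp (p := 2) (R := R) (swap y₀ y₁) ∈ alternatingGroup (X 2 Y R) := tp_mem_alt _
    have h2 : (⟨_, hmem⟩ : alternatingGroup (X 2 Y R)) ∈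
        (wr 2 R (⊤ : Subgroup (Perm Y))).subgroupOf (alternatingGroup (X 2 Y R)) := by
      rw [Subgroup.mem_subgroupOf]
      exact tp_mem_wr (Subgroup.mem_top _)
    have h3 := h h2
    apply tp_swap_not_mem_stabilizer (R := R) h₀ h₁
    rw [MulAction.mem_stabilizer_set] at h3 ⊢
    exact h3

end Cfsg.Agent.Lib.H25.Mx
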