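import Mathlib
import Cfsg.Agent.Lib.H25.MaxH

set_option autoImplicit false

/-!
# Degrees that are not a power of two or a power of two plus one (helper25)
-/

namespace Cfsg.Agent.Lib.H25.Mx

open Equiv Cfsg.Agent.Lib.H25.Alt

variable {Y R : Type*} [Fintype Y] [DecidableEq Y]

/-- a Sylow `2`-subgroup of a symmetric group whose degree is not a power of two has a proper
invariant subset of `2`-power size -/
theorem exists_invariant_of_not_pow (S' : Sylow 2 (Perm Y)) [Nonempty Y]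
    (hY : ∀ j : ℕ, Fintype.card Y ≠ 2 ^ j) :
    ∃ (O' : Set Y) (y₀ y₁ : Y) (a : ℕ), (∀ σ ∈ S', ∀ y, σ y ∈ O' ↔ y ∈ O') ∧ y₀ ∈ O' ∧ y₁ ∉ O' ∧
      O'.ncard = 2 ^ a := by
  obtain ⟨y₀⟩ := ‹Nonempty Y›
  set O' : Set Y := MulAction.orbit (↥(S' : Subgroup (Perm Y))) y₀ with hO'
  obtain ⟨a, ha⟩ := (S'.isPGroup').card_orbit y₀
  have ha' : O'.ncard = 2 ^ a := by
    rw [← ha, hO']
    exact (Nat.card_coe_set_eq _).symm
  have hne : ∃ y₁ : Y, y₁ ∉ O' := by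
    by_contra hcon
    push Not at hcon
    have : O' = Set.univ := Set.eq_univ_of_forall hcon
    rw [this, Set.ncard_univ, Nat.card_eq_fintype_card] at ha'
    exact hY a ha'
  obtain ⟨y₁, hy₁⟩ := hne
  refine ⟨O', y₀, y₁, a, ?_, MulAction.mem_orbit_self y₀, hy₁, ha'⟩
  intro σ hσ y
  constructor
  · rintro ⟨τ, hτ⟩
    refine ⟨(⟨σ, hσ⟩ : (S' : Subgroup (Perm Y)))⁻¹ * τ, ?_⟩
    have hτ' : τ • y₀ = σ y := hτ
    show ((⟨σ, hσ⟩ : (S' : Subgroup (Perm Y)))⁻¹ * τ) • y₀ = y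
    rw [mul_smul, hτ']
    show σ⁻¹ (σ y) = y
    simp
  · rintro ⟨τ, hτ⟩
    refine ⟨(⟨σ, hσ⟩ : (S' : Subgroup (Perm Y))) * τ, ?_⟩
    have hτ' : τ • y₀ = y := hτ
    show ((⟨σ, hσ⟩ : (S' : Subgroup (Perm Y))) * τ) • y₀ = σ y
    rw [mul_smul, hτ']
    rfl

variable [Fintype R] [DecidableEq R]

/-- if the number of blocks is not a power of two, the Sylow subgroups of the symmetric and
alternating groups lie in several maximal subgroups -/
theorem not_uc_of_not_pow (S' : Sylow 2 (Perm Y)) [Nonempty Y]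
    (hY : ∀ j : ℕ, Fintype.card Y ≠ 2 ^ j) (hR : Fintype.card R < 2) :
    ¬ UC (wr 2 R (S' : Subgroup (Perm Y))) ∧
      ¬ UC ((wr2 R (S' : Subgroup (Perm Y))).subgroupOf (alternatingGroup (X 2 Y R))) := by
  obtain ⟨O', y₀, y₁, a, hinv, h₀, h₁, ha⟩ := exists_invariant_of_not_pow S' hY
  haveI : Fact (Nat.Prime 2) := ⟨Nat.prime_two⟩
  have hcard : Fintype.card (X 2 Y R) ≠ 2 * (2 * O'.ncard) := by
    rw [card_X, ha]
    intro h
    have h2 : Fintype.card R = 0 := by omega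
    apply hY (a + 1)
    rw [pow_succ]
    omega
  exact ⟨not_uc_wr_of_invariant hinv h₀ h₁ hcard, not_uc_wr2_of_invariant hinv h₀ h₁ hcard⟩

end Cfsg.Agent.Lib.H25.Mx
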