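import Mathlib
import Cfsg.Agent.Lib.H25.MaxI

set_option autoImplicit false

/-!
# Degrees that are a power of two: two block systems (helper25)
-/

namespace Cfsg.Agent.Lib.H25.Mx

open Equiv Cfsg.Agent.Lib.H25.Alt

/-- the stabilizer of the partition given by a labelling -/
def labelStab {Z L : Type*} (ℓ : Z → L) : Subgroup (Perm Z) where
  carrier := {g | ∀ z w, ℓ (g z) = ℓ (g w) ↔ ℓ z = ℓ w}
  one_mem' := fun _ _ => Iff.rfl
  mul_mem' := by
    intro g h hg hh z w
    rw [Perm.mul_apply, Perm.mul_apply, hg, hh]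
  inv_mem' := by
    intro g hg z w
    have := hg (g⁻¹ z) (g⁻¹ w)
    rw [← Perm.mul_apply, ← Perm.mul_apply, mul_inv_cancel, Perm.one_apply, Perm.one_apply]
      at this
    exact this.symm

theorem mem_labelStab {Z L : Type*} {ℓ : Z → L} {g : Perm Z} :
    g ∈ labelStab ℓ ↔ ∀ z w, ℓ (g z) = ℓ (g w) ↔ ℓ z = ℓ w := Iff.rfl

theorem swap_mem_labelStab {Z L : Type*} [DecidableEq Z] {ℓ : Z → L} {a b : Z} (h : ℓ a = ℓ b) :
    swap a b ∈ labelStab ℓ := by
  have key : ∀ z, ℓ (swap a b z) = ℓ z := by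
    intro z
    by_cases hza : z = a
    · rw [hza, swap_apply_left, h]
    · by_cases hzb : z = b
      · rw [hzb, swap_apply_right, h]
      · rw [swap_apply_of_ne_of_ne hza hzb]
  intro z w
  rw [key, key]

theorem exists_perm_two {Z : Type*} [DecidableEq Z] {a b c d : Z} (hab : a ≠ b) (hcd : c ≠ d) :
    ∃ σ : Perm Z, σ a = c ∧ σ b = d := by
  have h1 : swap a c b ≠ c := by
    intro h
    have : swap a c b = swap a c a := by rw [h, swap_apply_left]
    exact hab ((swap a c).injective this).symm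
  refine ⟨swap (swap a c b) d * swap a c, ?_, ?_⟩
  · rw [Perm.mul_apply, swap_apply_left, swap_apply_of_ne_of_ne (Ne.symm h1) hcd]
  · rw [Perm.mul_apply, swap_apply_left]

variable {Y' R' R : Type*}

/-- the label of a point: its block of size four -/
def lab4 : XX 2 Y' R' R → Option Y' := Sum.elim (fun q => blockOf q.1) (fun _ => none)

section

theorem lab4_apply_of_mem {S'' : Subgroup (Perm Y')} {g : Perm (XX 2 Y' R' R)}
    (hg : g ∈ wr 2 R (wr 2 R' S'')) :
    ∃ σ'' : Perm Y', ∀ z, lab4 (g z) = (lab4 z).map σ'' := by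
  obtain ⟨f, σ, ⟨f', σ'', -, rfl⟩, rfl⟩ := hg
  refine ⟨σ'', ?_⟩
  rintro (⟨y | r', i⟩ | r)
  · obtain ⟨y', i'⟩ := y
    rw [bs_tp_apply_inl, bs_tp_apply_inl]
    rfl
  · rw [bs_tp_apply_inl, bs_tp_apply_inr]
    rfl
  · rw [bs_tp_apply_inr]
    rfl

theorem wr_wr_le_labelStab (S'' : Subgroup (Perm Y')) :
    wr 2 R (wr 2 R' S'') ≤ labelStab (lab4 (Y' := Y') (R' := R') (R := R)) := by
  intro g hg
  obtain ⟨σ'', h⟩ := lab4_apply_of_mem hg
  intro z w
  rw [h, h]
  exact (Option.map_injective σ''.injective).eq_iff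

end

section

variable [DecidableEq Y'] [DecidableEq R'] [DecidableEq R]

theorem labelStab_ne_top {y'₀ y'₁ : Y'} (h : y'₀ ≠ y'₁) :
    labelStab (lab4 (Y' := Y') (R' := R') (R := R)) ≠ ⊤ := by
  intro htop
  have hmem : swap (Sum.inl (Sum.inl (y'₀, 0), 0) : XX 2 Y' R' R)
      (Sum.inl (Sum.inl (y'₁, 0), 0)) ∈ labelStab (lab4 (Y' := Y') (R' := R') (R := R)) := by
    rw [htop]
    exact Subgroup.mem_top _
  have := (hmem (Sum.inl (Sum.inl (y'₀, 0), 0)) (Sum.inl (Sum.inl (y'₀, 1), 0))).2 rfl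
  rw [swap_apply_left, swap_apply_of_ne_of_ne] at this
  · exact h (Option.some_injective _ this).symm
  · intro h'
    simp only [Sum.inl.injEq, Prod.mk.injEq, and_true] at h'
    exact zero_ne_one (α := ZMod 2) h'.2.symm
  · intro h'
    simp only [Sum.inl.injEq, Prod.mk.injEq, and_true] at h'
    exact h h'.1

/-- an even permutation outside the stabilizer of the blocks of size four -/
theorem threeCycle_not_mem_labelStab {y'₀ y'₁ : Y'} (h : y'₀ ≠ y'₁) :
    swap (Sum.inl (Sum.inl (y'₀, 0), 0) : XX 2 Y' R' R) (Sum.inl (Sum.inl (y'₁, 0), 0)) *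
      swap (Sum.inl (Sum.inl (y'₀, 0), 0)) (Sum.inl (Sum.inl (y'₀, 1), 0)) ∉
        labelStab (lab4 (Y' := Y') (R' := R') (R := R)) := by
  intro hmem
  have := (hmem (Sum.inl (Sum.inl (y'₀, 0), 0)) (Sum.inl (Sum.inl (y'₀, 1), 0))).2 rfl
  have n1 : (Sum.inl (Sum.inl (y'₀, 1), 0) : XX 2 Y' R' R) ≠ Sum.inl (Sum.inl (y'₀, 0), 0) := by
    intro h'
    simp only [Sum.inl.injEq, Prod.mk.injEq, and_true, true_and] at h'
    exact zero_ne_one (α := ZMod 2) h'.symm
  have n2 : (Sum.inl (Sum.inl (y'₀, 1), 0) : XX 2 Y' R' R) ≠ Sum.inl (Sum.inl (y'₁, 0), 0) := by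
    intro h'
    simp only [Sum.inl.injEq, Prod.mk.injEq, and_true] at h'
    exact h h'.1
  rw [Perm.mul_apply, Perm.mul_apply, swap_apply_left, swap_apply_right, swap_apply_left,
    swap_apply_of_ne_of_ne n1 n2] at this
  exact h (Option.some_injective _ this)

end

section

variable {Y : Type*} [Finite Y] [DecidableEq Y] [DecidableEq R] [IsEmpty R]

/-- generation: the stabilizer of the blocks of size two, together with one transposition
across two blocks, generates the symmetric group -/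
theorem sup_eq_top_of_cross (K : Subgroup (Perm (X 2 Y R))) (hK : wr 2 R ⊤ ≤ K) {u₀ u₁ : Y}
    (hu : u₀ ≠ u₁) (ht : swap (Sum.inl (u₀, 0) : X 2 Y R) (Sum.inl (u₁, 0)) ∈ K) : K = ⊤ := by
  rw [eq_top_iff, ← Perm.closure_isSwap, Subgroup.closure_le]
  rintro _ ⟨a, b, hab, rfl⟩
  rcases a with ⟨y₁, i⟩ | r
  swap
  · exact isEmptyElim r
  rcases b with ⟨y₂, j⟩ | r
  swap
  · exact isEmptyElim r
  by_cases hy : y₁ = y₂
  · subst hy
    have hj : j = i + 1 := by
      apply zmod2_eq_add_one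
      intro h
      exact hab (by rw [h])
    subst hj
    apply hK
    apply A_le_wr
    rw [swap_comm, ← swap_block_eq y₁ i, ← bs_single_two]
    exact bs_mem_A _
  · obtain ⟨σ, hσ₀, hσ₁⟩ := exists_perm_two hu hy
    set h : Perm (X 2 Y R) := bs (Pi.single y₁ i + Pi.single y₂ j) * tp σ with hh
    have hhK : h ∈ K := hK ⟨_, σ, Subgroup.mem_top _, rfl⟩
    have e0 : h (Sum.inl (u₀, 0)) = Sum.inl (y₁, i) := by
      rw [hh, bs_tp_apply_inl, hσ₀, Pi.add_apply, Pi.single_eq_same,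
        Pi.single_eq_of_ne hy, add_zero, zero_add]
    have e1 : h (Sum.inl (u₁, 0)) = Sum.inl (y₂, j) := by
      rw [hh, bs_tp_apply_inl, hσ₁, Pi.add_apply, Pi.single_eq_same,
        Pi.single_eq_of_ne (Ne.symm hy), zero_add, zero_add]
    have : swap (Sum.inl (y₁, i) : X 2 Y R) (Sum.inl (y₂, j)) =
        h * swap (Sum.inl (u₀, 0)) (Sum.inl (u₁, 0)) * h⁻¹ := by
      rw [← e0, ← e1, swap_apply_apply]
    rw [this]
    exact K.mul_mem (K.mul_mem hhK ht) (K.inv_mem hhK)

end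

end Cfsg.Agent.Lib.H25.Mx
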