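import Mathlib
import Cfsg.Agent.Lib.H25.MaxJ

set_option autoImplicit false

/-!
# Degrees that are a power of two: the Sylow subgroup lies in two maximal subgroups (helper25)
-/

namespace Cfsg.Agent.Lib.H25.Mx

open Equiv Cfsg.Agent.Lib.H25.Alt

variable {Y' R' R : Type*} [Fintype Y'] [DecidableEq Y'] [Fintype R'] [DecidableEq R']
  [Fintype R] [DecidableEq R]

theorem not_uc_two_level [IsEmpty R] (S'' : Subgroup (Perm Y')) {y'₀ y'₁ : Y'}
    (h : y'₀ ≠ y'₁) :
    ¬ UC (wr 2 R (wr 2 R' S'')) ∧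
      ¬ UC ((wr2 R (wr 2 R' S'')).subgroupOf (alternatingGroup (XX 2 Y' R' R))) := by
  set u₀ : X 2 Y' R' := Sum.inl (y'₀, 0) with hu₀
  set u₁ : X 2 Y' R' := Sum.inl (y'₀, 1) with hu₁
  have hu : u₀ ≠ u₁ := by
    intro h'
    simp only [hu₀, hu₁, Sum.inl.injEq, Prod.mk.injEq, true_and] at h'
    exact zero_ne_one (α := ZMod 2) h'
  set H₁ : Subgroup (Perm (XX 2 Y' R' R)) := wr 2 R ⊤ with hH₁
  set H₂ : Subgroup (Perm (XX 2 Y' R' R)) := labelStab (lab4 (Y' := Y') (R' := R') (R := R))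
    with hH₂
  have hP₁ : wr 2 R (wr 2 R' S'') ≤ H₁ := by
    rintro _ ⟨f, σ, -, rfl⟩
    exact ⟨f, σ, Subgroup.mem_top _, rfl⟩
  have hP₂ : wr 2 R (wr 2 R' S'') ≤ H₂ := wr_wr_le_labelStab S''
  have hsup : H₁ ⊔ H₂ = ⊤ := by
    apply sup_eq_top_of_cross (H₁ ⊔ H₂) le_sup_left hu
    apply Subgroup.mem_sup_right
    exact swap_mem_labelStab rfl
  have n₁ : H₁ ≠ ⊤ := by
    intro htop
    apply swap_not_mem_wr (R := R) (S' := (⊤ : Subgroup (Perm (X 2 Y' R')))) hu
    rw [← hH₁, htop]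
    exact Subgroup.mem_top _
  have n₂ : H₂ ≠ ⊤ := labelStab_ne_top h
  refine ⟨not_uc_of_sup _ H₁ H₂ hP₁ hP₂ n₁ n₂ hsup, ?_⟩
  have : Nontrivial (XX 2 Y' R' R) := ⟨⟨Sum.inl (u₀, 0), Sum.inl (u₁, 0), by
    intro h'
    simp only [Sum.inl.injEq, Prod.mk.injEq, and_true] at h'
    exact hu h'⟩⟩
  apply not_uc_subgroupOf_of_sup (alternatingGroup (XX 2 Y' R' R)) _ H₁ H₂
    ((wr2_le_wr _).trans hP₁) ((wr2_le_wr _).trans hP₂)
  · intro hA
    apply threeCycle_not_mem_wr (R := R) (S' := (⊤ : Subgroup (Perm (X 2 Y' R')))) hu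
    apply hA
    rw [Perm.mem_alternatingGroup]
    apply sign_swap_mul_swap
    · intro h'
      simp only [Sum.inl.injEq, Prod.mk.injEq, and_true] at h'
      exact hu h'
    · intro h'
      simp only [Sum.inl.injEq, Prod.mk.injEq, true_and] at h'
      exact zero_ne_one (α := ZMod 2) h'
  · intro hA
    apply threeCycle_not_mem_labelStab (R' := R') (R := R) h
    apply hA
    rw [Perm.mem_alternatingGroup]
    apply sign_swap_mul_swap
    · intro h'
      simp only [Sum.inl.injEq, Prod.mk.injEq, and_true] at h'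
      exact h h'
    · intro h'
      simp only [Sum.inl.injEq, Prod.mk.injEq, and_true, true_and] at h'
      exact zero_ne_one (α := ZMod 2) h'
  · have hne : (Sum.inl (u₀, 0) : XX 2 Y' R' R) ≠ Sum.inl (u₀, 1) := by
      intro h'
      simp only [Sum.inl.injEq, Prod.mk.injEq, true_and] at h'
      exact zero_ne_one (α := ZMod 2) h'
    apply le_sup_inf_of_index_two (alternatingGroup (XX 2 Y' R' R)) H₁ H₂
      alternatingGroup.index_eq_two hsup (τ := swap (Sum.inl (u₀, 0)) (Sum.inl (u₀, 1)))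
    · rw [← bs_single_two]
      exact A_le_wr _ (bs_mem_A _)
    · exact swap_mem_labelStab rfl
    · rw [Perm.mem_alternatingGroup, Perm.sign_swap hne]
      decide

end Cfsg.Agent.Lib.H25.Mx
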