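import Mathlib
import Cfsg.Agent.Lib.H25.MaxK

set_option autoImplicit false

/-!
# Transport of the unique maximal overgroup property to the wreath model (helper25)
-/

namespace Cfsg.Agent.Lib.H25.Mx

open Equiv Cfsg.Agent.Lib.H25.Alt

variable {Y R : Type*} [Fintype Y] [DecidableEq Y] [Fintype R] [DecidableEq R]

theorem transfer_perm {n : ℕ} (e : Fin n ≃ X 2 Y R) (hR : Fintype.card R < 2)
    (S' : Sylow 2 (Perm Y)) (Rn : Sylow 2 (Perm (Fin n))) :
    UC (Rn : Subgroup (Perm (Fin n))) ↔ UC (wr 2 R (S' : Subgroup (Perm Y))) := by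
  haveI : Fact (Nat.Prime 2) := ⟨Nat.prime_two⟩
  exact uc_sylow_of_equiv e.permCongrHom Rn (Sylow.ofCard _ (card_wr_sylow (p := 2) hR S'))

theorem transfer_alt {n : ℕ} (e : Fin n ≃ X 2 Y R) (hR : Fintype.card R < 2) [Nonempty Y]
    (S' : Sylow 2 (Perm Y)) (Rn : Sylow 2 (alternatingGroup (Fin n))) :
    UC (Rn : Subgroup (alternatingGroup (Fin n))) ↔
      UC ((wr2 R (S' : Subgroup (Perm Y))).subgroupOf (alternatingGroup (X 2 Y R))) := by
  haveI : Fact (Nat.Prime 2) := ⟨Nat.prime_two⟩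
  have hcard : Nat.card ((wr2 R (S' : Subgroup (Perm Y))).subgroupOf
      (alternatingGroup (X 2 Y R))) =
      2 ^ (Nat.card (alternatingGroup (X 2 Y R))).factorization 2 := by
    rw [Nat.card_congr (Subgroup.subgroupOfEquivOfLe (wr2_le_alt _)).toEquiv]
    exact card_wr2_sylow hR S'
  exact uc_sylow_of_equiv e.altCongrHom Rn (Sylow.ofCard _ hcard)

end Cfsg.Agent.Lib.H25.Mx
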