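import Mathlib
import Cfsg.Agent.Lib.H25.MaxL

set_option autoImplicit false

/-!
# Sylow `2`-subgroups of `A_n` and `S_n` in a unique maximal subgroup (helper25)
-/

namespace Cfsg.Agent.Lib.H25.Mx

open Equiv Cfsg.Agent.Lib.H25.Alt

/-- the positive direction: `n = 2 ^ k + 1` -/
theorem uc_of_pow_add_one (k : ℕ) (hk : 2 ≤ k) :
    (∀ Rn : Sylow 2 (alternatingGroup (Fin (2 ^ k + 1))),
      UC (Rn : Subgroup (alternatingGroup (Fin (2 ^ k + 1))))) ∧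
    (∀ Rn : Sylow 2 (Perm (Fin (2 ^ k + 1))), UC (Rn : Subgroup (Perm (Fin (2 ^ k + 1))))) := by
  haveI : Fact (Nat.Prime 2) := ⟨Nat.prime_two⟩
  obtain ⟨k', rfl⟩ : ∃ k', k = k' + 2 := ⟨k - 2, by omega⟩
  have hcard : Fintype.card (Fin (2 ^ (k' + 2) + 1)) =
      Fintype.card (X 2 (Fin (2 ^ (k' + 1))) (Fin 1)) := by
    rw [card_X, Fintype.card_fin, Fintype.card_fin, Fintype.card_fin, pow_succ 2 (k' + 1)]
    ring
  have e : Fin (2 ^ (k' + 2) + 1) ≃ X 2 (Fin (2 ^ (k' + 1))) (Fin 1) :=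
    Fintype.equivOfCardEq hcard
  have hR : Fintype.card (Fin 1) < 2 := by rw [Fintype.card_fin]; norm_num
  haveI : Nonempty (Fin (2 ^ (k' + 1))) := ⟨⟨0, by positivity⟩⟩
  obtain ⟨S'⟩ : Nonempty (Sylow 2 (Perm (Fin (2 ^ (k' + 1))))) := inferInstance
  have hT : TransOn (S' : Subgroup (Perm (Fin (2 ^ (k' + 1))))) :=
    sylow_transOn (j := k' + 1) (Fintype.card_fin _) S'
  have hY : Fintype.card (Fin (2 ^ (k' + 1))) = 2 ∨ 4 ≤ Fintype.card (Fin (2 ^ (k' + 1))) := by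
    rw [Fintype.card_fin]
    rcases Nat.eq_zero_or_pos k' with rfl | hpos
    · left; norm_num
    · right
      obtain ⟨k'', rfl⟩ : ∃ k'', k' = k'' + 1 := ⟨k' - 1, by omega⟩
      have : 1 ≤ 2 ^ k'' := Nat.one_le_two_pow
      rw [pow_succ, pow_succ]
      omega
  exact ⟨fun Rn => (transfer_alt e hR S' Rn).2 (uc_wr2_of_trans 0 hT hY),
    fun Rn => (transfer_perm e hR S' Rn).2 (uc_wr_of_trans 0 hT)⟩

/-- the negative direction when `n / 2` is not a power of two -/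
theorem not_uc_of_half_not_pow (n : ℕ) (hn : 2 ≤ n) (hm : ∀ j : ℕ, n / 2 ≠ 2 ^ j) :
    (∀ Rn : Sylow 2 (alternatingGroup (Fin n)),
      ¬ UC (Rn : Subgroup (alternatingGroup (Fin n)))) ∧
    (∀ Rn : Sylow 2 (Perm (Fin n)), ¬ UC (Rn : Subgroup (Perm (Fin n)))) := by
  haveI : Fact (Nat.Prime 2) := ⟨Nat.prime_two⟩
  have hcard : Fintype.card (Fin n) = Fintype.card (X 2 (Fin (n / 2)) (Fin (n % 2))) := by
    rw [card_X, Fintype.card_fin, Fintype.card_fin, Fintype.card_fin]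
    exact (Nat.div_add_mod n 2).symm
  have e : Fin n ≃ X 2 (Fin (n / 2)) (Fin (n % 2)) := Fintype.equivOfCardEq hcard
  have hR : Fintype.card (Fin (n % 2)) < 2 := by
    rw [Fintype.card_fin]
    exact Nat.mod_lt _ (by norm_num)
  haveI : Nonempty (Fin (n / 2)) := ⟨⟨0, by omega⟩⟩
  obtain ⟨S'⟩ : Nonempty (Sylow 2 (Perm (Fin (n / 2)))) := inferInstance
  have hY : ∀ j : ℕ, Fintype.card (Fin (n / 2)) ≠ 2 ^ j := by
    intro j
    rw [Fintype.card_fin]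
    exact hm j
  obtain ⟨h1, h2⟩ := not_uc_of_not_pow (R := Fin (n % 2)) S' hY hR
  exact ⟨fun Rn h => h2 ((transfer_alt e hR S' Rn).1 h),
    fun Rn h => h1 ((transfer_perm e hR S' Rn).1 h)⟩

/-- the negative direction when `n` is a power of two -/
theorem not_uc_of_pow (j : ℕ) :
    (∀ Rn : Sylow 2 (alternatingGroup (Fin (2 ^ (j + 3)))),
      ¬ UC (Rn : Subgroup (alternatingGroup (Fin (2 ^ (j + 3)))))) ∧
    (∀ Rn : Sylow 2 (Perm (Fin (2 ^ (j + 3)))),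
      ¬ UC (Rn : Subgroup (Perm (Fin (2 ^ (j + 3)))))) := by
  haveI : Fact (Nat.Prime 2) := ⟨Nat.prime_two⟩
  have hcard : Fintype.card (Fin (2 ^ (j + 3))) =
      Fintype.card (XX 2 (Fin (2 ^ (j + 1))) (Fin 0) (Fin 0)) := by
    rw [card_X, card_X, Fintype.card_fin, Fintype.card_fin, Fintype.card_fin,
      pow_succ 2 (j + 2), pow_succ 2 (j + 1)]
    ring
  have e : Fin (2 ^ (j + 3)) ≃ XX 2 (Fin (2 ^ (j + 1))) (Fin 0) (Fin 0) :=
    Fintype.equivOfCardEq hcard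
  have hR : Fintype.card (Fin 0) < 2 := by rw [Fintype.card_fin]; norm_num
  have h2 : 2 ≤ 2 ^ (j + 1) := by
    have : 1 ≤ 2 ^ j := Nat.one_le_two_pow
    rw [pow_succ]
    omega
  obtain ⟨S''⟩ : Nonempty (Sylow 2 (Perm (Fin (2 ^ (j + 1))))) := inferInstance
  set S' : Sylow 2 (Perm (X 2 (Fin (2 ^ (j + 1))) (Fin 0))) :=
    Sylow.ofCard (wr 2 (Fin 0) (S'' : Subgroup (Perm (Fin (2 ^ (j + 1))))))
      (card_wr_sylow (p := 2) hR S'') with hS'
  haveI : Nonempty (X 2 (Fin (2 ^ (j + 1))) (Fin 0)) := ⟨Sum.inl (⟨0, by omega⟩, 0)⟩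
  have hne : (⟨0, by omega⟩ : Fin (2 ^ (j + 1))) ≠ ⟨1, by omega⟩ := by
    intro h
    simp only [Fin.mk.injEq] at h
    omega
  obtain ⟨h3, h4⟩ := not_uc_two_level (R' := Fin 0) (R := Fin 0)
    (S'' : Subgroup (Perm (Fin (2 ^ (j + 1))))) hne
  exact ⟨fun Rn h => h4 ((transfer_alt e hR S' Rn).1 h),
    fun Rn h => h3 ((transfer_perm e hR S' Rn).1 h)⟩

end Cfsg.Agent.Lib.H25.Mx
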