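import Cfsg.Agent.Lib.H25.Morphism
import Cfsg.Agent.Lib.H25.Normal
import Cfsg.Agent.Lib.H25.NormalSeries

set_option autoImplicit false

/-!
Injective surjective morphisms `α : F → F'` (isomorphisms of fusion systems in possibly different
ambient groups): preimages of normal / centric subgroups are normal / centric (helper25).
-/

namespace Cfsg.Agent.Lib.H25

open Cfsg Cfsg.FusionSystem

variable {Ω : Type*} [Group Ω] {S : Subgroup Ω} {Ω' : Type*} [Group Ω'] {S' : Subgroup Ω'}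
  {F : FusionSystem S} {F' : FusionSystem S'} {α : S →* Ω'}

theorem kerSub_eq_bot_of_injective (hinj : Function.Injective α) : kerSub α = ⊥ := by
  rw [kerSub_eq, (MonoidHom.ker_eq_bot_iff α).2 hinj, Subgroup.map_bot]

theorem al_injOn (hinj : Function.Injective α) {x y : Ω} (hx : x ∈ S) (hy : y ∈ S)
    (h : al α x = al α y) : x = y := by
  rw [al_apply α hx, al_apply α hy] at h
  exact congrArg Subtype.val (hinj h)

/-- Preimages of normal subgroups under an isomorphism of fusion systems are normal. -/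
theorem pre_isNormal_of_injective [Finite S] (hsm : F.IsSurjectiveMorphism F' α)
    (hinj : Function.Injective α) {Q' : Subgroup Ω'} (hQ' : F'.IsNormal Q') :
    F.IsNormal (preimageAlong α Q') := by
  have hrange := hsm.2.1
  have hK : F.StronglyClosed (kerSub α) := by
    rw [kerSub_eq_bot_of_injective hinj]
    exact stronglyClosed_bot F
  have hQ'S : Q' ≤ S' := hQ'.1
  set Q := preimageAlong α Q' with hQ
  have hQS : Q ≤ S := preimageAlong_le α Q'
  apply isNormal_of_ext hQS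
  intro P φ hφ
  have hPS : P ≤ S := hom_le F hφ
  have hf := isIso_of_mem F hφ
  obtain ⟨f', hf', hf'al⟩ := push_iso hsm.1 hf
  obtain ⟨g', hg', hg'f', hg'Q⟩ := isNormal_exists_ext hQ' hf'
  obtain ⟨g, hg, hgal⟩ := lift_iso hsm hK hg'
  -- `P ⊔ Q` lies in the preimage of `α(P) ⊔ Q'`
  have hle : P ⊔ Q ≤ preimageAlong α (imageAlong α P ⊔ Q') := by
    apply sup_le
    · intro x hx
      exact (mem_pre_iff α _ x).2 ⟨hPS hx,
        (le_sup_left : imageAlong α P ≤ imageAlong α P ⊔ Q')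
          ((mem_image_iff α P _).2 ⟨x, hx, hPS hx, rfl⟩)⟩
    · exact pre_mono α le_sup_right
  obtain ⟨B, -, hgB, -⟩ := hg.restrict hle
  have hgS : ∀ x ∈ P ⊔ Q, g x ∈ S := fun x hx => hgB.le_right (hgB.map_mem hx)
  refine ⟨g, B, hgB, fun x => ?_, fun x hx => ?_, fun y hy => ?_⟩
  · -- agreement with `φ` on `P`
    have hxP : (x : Ω) ∈ P := x.2
    have hxPQ : (x : Ω) ∈ P ⊔ Q := (le_sup_left : P ≤ P ⊔ Q) hxP
    apply al_injOn hinj (hgS _ hxPQ) (hom_mem_S F hφ x)
    rw [← hgal _ (hle hxPQ), hg'f' _ ((mem_image_iff α P _).2 ⟨x, hxP, hPS hxP, rfl⟩),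
      hf'al _ hxP, ext1_apply]
  · -- `g` maps `Q` into `Q`
    have hxPQ : x ∈ P ⊔ Q := (le_sup_right : Q ≤ P ⊔ Q) hx
    rw [hQ, mem_pre_iff]
    refine ⟨hgS x hxPQ, ?_⟩
    rw [← hgal _ (hle hxPQ)]
    exact hg'Q.map_mem ((mem_pre_iff α Q' x).1 hx).2
  · -- `g` maps `Q` onto `Q`
    have hy' : al α y ∈ Q' := ((mem_pre_iff α Q' y).1 hy).2
    obtain ⟨z', hz', hz'y⟩ := hg'Q.surjOn hy'
    obtain ⟨x, hx, rfl⟩ := exists_al_eq_of_mem hrange hQ'S hz'
    have hxPQ : x ∈ P ⊔ Q := (le_sup_right : Q ≤ P ⊔ Q) hx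
    refine ⟨x, hx, ?_⟩
    apply al_injOn hinj (hgS x hxPQ) (hQS hy)
    rw [← hgal _ (hle hxPQ), hz'y]

/-- Preimages of centric subgroups under an isomorphism of fusion systems are centric. -/
theorem pre_isCentric_of_injective [Finite S] (hsm : F.IsSurjectiveMorphism F' α)
    (hinj : Function.Injective α) {Q' : Subgroup Ω'} (hQ' : F'.IsCentric Q') :
    F.IsCentric (preimageAlong α Q') := by
  have hrange := hsm.2.1
  have hQ'S : Q' ≤ S' := hQ'.1
  refine ⟨preimageAlong_le α Q', fun R hR => ?_⟩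
  obtain ⟨f, hf⟩ := (isConj_iff F).1 hR
  obtain ⟨f', hf', -⟩ := push_iso hsm.1 hf
  rw [image_pre hrange hQ'S] at hf'
  have hcent := hQ'.2 _ hf'.isConj
  have hRS : R ≤ S := hf.le_right
  intro c hc
  have hcS : c ∈ S := hc.1
  have hcC : c ∈ Subgroup.centralizer (R : Set Ω) := hc.2
  have h1 : al α c ∈ centralizerIn S' (imageAlong α R) := by
    refine ⟨al_mem_S' hrange hcS, ?_⟩
    show al α c ∈ Subgroup.centralizer ((imageAlong α R : Subgroup Ω') : Set Ω')
    rw [Subgroup.mem_centralizer_iff]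
    intro r' hr'
    obtain ⟨r, hr, hrS, rfl⟩ := (mem_image_iff α R r').1 hr'
    rw [← al_mul α hrS hcS, ← al_mul α hcS hrS, Subgroup.mem_centralizer_iff.1 hcC r hr]
  obtain ⟨r, hr, hrS, hrc⟩ := (mem_image_iff α R _).1 (hcent h1)
  have : r = c := al_injOn hinj hrS hcS hrc
  rw [← this]
  exact hr

end Cfsg.Agent.Lib.H25
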