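import Mathlib
import Cfsg.Agent.Lib.H13.ADPEXP
import Cfsg.Agent.Lib.H25.ADPOWHOM

/-!
# S4892 piece (NIL): the `p'`-layer `K = N · E_{p'}` of `E ⊔ N`, `E` nilpotent

Exact signature of `tools/blueprints/S4892_sigs.lean` (`exists_pcompl`). Pure group theory.
`E_{p'}` is the image of the power map `x ↦ x ^ e` on `E` (`e` from `H13.AD.exists_pexp`), which is
multiplicative on the nilpotent `E` by `H25.AD.pow_mul_of_nilpotent`.
-/

set_option autoImplicit false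

namespace Cfsg.Agent.Lib.H25.NT

variable {G : Type*} [Group G] [Finite G] {p : ℕ}

/-- (NIL) the `p'`-layer of `E ⊔ N`, `E` nilpotent: `K = N·E_{p'}`. PURE. -/
theorem exists_pcompl (hp : p.Prime) (N : Subgroup G) [N.Normal] (E : Subgroup G) (hE : Group.IsNilpotent E) :
    ∃ K : Subgroup G, N ≤ K ∧ K ≤ E ⊔ N ∧ (∀ a ∈ E ⊔ N, ∀ b ∈ K, a * b * a⁻¹ ∈ K) ∧
      ¬ p ∣ N.relIndex K ∧ (∃ a : ℕ, K.relIndex (E ⊔ N) = p ^ a) ∧
      Group.IsSolvable (↥K ⧸ N.subgroupOf K) := by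
  classical
  obtain ⟨e, he0, he1, he2, he3⟩ := Cfsg.Agent.Lib.H13.AD.exists_pexp p hp G
  -- the power map on `E`
  let ψ : ↥E →* G :=
    { toFun := fun x => (x : G) ^ e
      map_one' := by simp
      map_mul' := fun x y => by
        simpa using Cfsg.Agent.Lib.H25.AD.pow_mul_of_nilpotent p hp e he1 he2 E hE (x : G) (y : G) x.2 y.2 }
  have hψ : ∀ x : ↥E, ψ x = (x : G) ^ e := fun _ => rfl
  have hRE : ψ.range ≤ E := by
    rintro _ ⟨x, rfl⟩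
    rw [hψ]
    exact E.pow_mem x.2 e
  have hNK : N ≤ N ⊔ ψ.range := le_sup_left
  have hRK : ψ.range ≤ N ⊔ ψ.range := le_sup_right
  have hKle : N ⊔ ψ.range ≤ E ⊔ N := sup_le le_sup_right (hRE.trans le_sup_left)
  -- elements of `K`
  have hKmem : ∀ k ∈ N ⊔ ψ.range, ∃ n ∈ N, ∃ x : ↥E, n * ψ x = k := by
    intro k hk
    obtain ⟨n, hn, r, ⟨x, rfl⟩, rfl⟩ := Subgroup.mem_sup_of_normal_left.mp hk
    exact ⟨n, hn, x, rfl⟩
  -- conjugation by `E` preserves `K`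
  have hconjE : ∀ a ∈ E, ∀ b ∈ N ⊔ ψ.range, a * b * a⁻¹ ∈ N ⊔ ψ.range := by
    intro a ha b hb
    obtain ⟨n, hn, x, rfl⟩ := hKmem b hb
    have h1 : a * (n * ψ x) * a⁻¹ = (a * n * a⁻¹) * (a * ψ x * a⁻¹) := by group
    rw [h1]
    refine mul_mem (hNK (‹N.Normal›.conj_mem n hn a)) (hRK ?_)
    refine ⟨⟨a * (x : G) * a⁻¹, E.mul_mem (E.mul_mem ha x.2) (E.inv_mem ha)⟩, ?_⟩
    rw [hψ, hψ]
    simp [conj_pow]
  have hconj : ∀ a ∈ E ⊔ N, ∀ b ∈ N ⊔ ψ.range, a * b * a⁻¹ ∈ N ⊔ ψ.range := by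
    intro a ha b hb
    obtain ⟨y, hy, z, hz, rfl⟩ := Subgroup.mem_sup_of_normal_right.mp ha
    have h1 : y * z * b * (y * z)⁻¹ = y * (z * b * z⁻¹) * y⁻¹ := by group
    rw [h1]
    exact hconjE y hy _ (mul_mem (mul_mem (hNK hz) hb) (inv_mem (hNK hz)))
  refine ⟨N ⊔ ψ.range, hNK, hKle, hconj, ?_, ?_, ?_⟩
  · -- `p ∤ |K : N|`
    intro hdiv
    have hnorm : (N.subgroupOf (N ⊔ ψ.range)).Normal := inferInstance
    rw [Subgroup.relIndex, Subgroup.index_eq_card] at hdiv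
    have : Fact p.Prime := ⟨hp⟩
    obtain ⟨q, hq⟩ := exists_prime_orderOf_dvd_card' p hdiv
    obtain ⟨k, rfl⟩ := QuotientGroup.mk_surjective q
    obtain ⟨n, hn, x, hk⟩ := hKmem (k : G) k.2
    have hxK : ψ x ∈ N ⊔ ψ.range := hRK ⟨x, rfl⟩
    have hkq : (QuotientGroup.mk k : ↥(N ⊔ ψ.range) ⧸ N.subgroupOf (N ⊔ ψ.range)) =
        QuotientGroup.mk ⟨ψ x, hxK⟩ := by
      rw [QuotientGroup.eq]
      rw [Subgroup.mem_subgroupOf]
      have : ((k⁻¹ * ⟨ψ x, hxK⟩ : ↥(N ⊔ ψ.range)) : G) = (ψ x)⁻¹ * n⁻¹ * ψ x := by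
        simp [← hk, mul_assoc]
      rw [this]
      have := ‹N.Normal›.conj_mem n⁻¹ (N.inv_mem hn) (ψ x)⁻¹
      simpa using this
    rw [hkq] at hq
    have h1 : orderOf (QuotientGroup.mk ⟨ψ x, hxK⟩ : ↥(N ⊔ ψ.range) ⧸ N.subgroupOf (N ⊔ ψ.range)) ∣
        orderOf (⟨ψ x, hxK⟩ : ↥(N ⊔ ψ.range)) :=
      orderOf_map_dvd (QuotientGroup.mk' (N.subgroupOf (N ⊔ ψ.range))) _
    rw [hq, Subgroup.orderOf_mk] at h1
    exact he0 (x : G) h1
  · -- `|E ⊔ N : K|` is a power of `p`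
    have hnorm : ((N ⊔ ψ.range).subgroupOf (E ⊔ N)).Normal := by
      refine ⟨fun b hb a => ?_⟩
      rw [Subgroup.mem_subgroupOf] at hb ⊢
      have := hconj (a : G) a.2 (b : G) hb
      simpa using this
    have : Fact p.Prime := ⟨hp⟩
    have hP : IsPGroup p (↥(E ⊔ N) ⧸ (N ⊔ ψ.range).subgroupOf (E ⊔ N)) := by
      intro q
      obtain ⟨a, rfl⟩ := QuotientGroup.mk_surjective q
      obtain ⟨y, hy, z, hz, hyz⟩ := Subgroup.mem_sup_of_normal_right.mp a.2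
      -- `a ≡ y (y^e)⁻¹` modulo `K`
      have hyK : y * (y ^ e)⁻¹ ∈ E ⊔ N :=
        (le_sup_left : E ≤ E ⊔ N) (E.mul_mem hy (E.inv_mem (E.pow_mem hy e)))
      have haq : (QuotientGroup.mk a : ↥(E ⊔ N) ⧸ (N ⊔ ψ.range).subgroupOf (E ⊔ N)) =
          QuotientGroup.mk ⟨y * (y ^ e)⁻¹, hyK⟩ := by
        rw [QuotientGroup.eq, Subgroup.mem_subgroupOf]
        have : ((a⁻¹ * ⟨y * (y ^ e)⁻¹, hyK⟩ : ↥(E ⊔ N)) : G) = z⁻¹ * (y ^ e)⁻¹ := by
          simp [← hyz, mul_assoc]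
        rw [this]
        exact mul_mem (inv_mem (hNK hz)) (inv_mem (hRK ⟨⟨y, hy⟩, rfl⟩))
      obtain ⟨k, hk⟩ := he3 y
      refine ⟨k, ?_⟩
      rw [haq, ← QuotientGroup.mk_pow]
      have : (⟨y * (y ^ e)⁻¹, hyK⟩ : ↥(E ⊔ N)) ^ p ^ k = 1 := by
        apply Subtype.ext
        simp only [Subgroup.coe_pow, Subgroup.coe_one]
        rw [← hk]
        exact pow_orderOf_eq_one _
      rw [this]
      rfl
    obtain ⟨n, hn⟩ := IsPGroup.iff_card.mp hP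
    exact ⟨n, by rw [Subgroup.relIndex, Subgroup.index_eq_card, hn]⟩
  · -- `K / N` is solvable: image of the nilpotent `E`
    have : Group.IsNilpotent ↥E := hE
    let ψK : ↥E →* ↥(N ⊔ ψ.range) :=
      { toFun := fun x => ⟨ψ x, hRK ⟨x, rfl⟩⟩
        map_one' := by
          apply Subtype.ext
          simp
        map_mul' := fun x y => by
          apply Subtype.ext
          simp }
    let π : ↥E →* (↥(N ⊔ ψ.range) ⧸ N.subgroupOf (N ⊔ ψ.range)) :=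
      (QuotientGroup.mk' (N.subgroupOf (N ⊔ ψ.range))).comp ψK
    have hπ : Function.Surjective π := by
      intro q
      obtain ⟨k, rfl⟩ := QuotientGroup.mk_surjective q
      obtain ⟨n, hn, x, hk⟩ := hKmem (k : G) k.2
      refine ⟨x, ?_⟩
      show (QuotientGroup.mk (ψK x) : ↥(N ⊔ ψ.range) ⧸ N.subgroupOf (N ⊔ ψ.range)) = QuotientGroup.mk k
      rw [QuotientGroup.eq, Subgroup.mem_subgroupOf]
      have : (((ψK x)⁻¹ * k : ↥(N ⊔ ψ.range)) : G) = (ψ x)⁻¹ * n * ψ x := by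
        simp [ψK, ← hk, mul_assoc]
      rw [this]
      have := ‹N.Normal›.conj_mem n hn (ψ x)⁻¹
      simpa using this
    exact Group.isSolvable_of_surjective hπ

end Cfsg.Agent.Lib.H25.NT
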