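import Cfsg.Agent.Lib.H25.NTPSTEPACore
import Cfsg.Agent.Lib.H28.NT.KEYF
import Cfsg.Agent.Lib.H9.NTCONJ

/-!
# S4892 piece (PSTEPa): `exists_ext_pstep`, exact signature of `tools/blueprints/S4892_sigs.lean`

The `H`-invariance of `f` on `K` comes from (CONJA) `H9.NT.goodA_conj` and (KEYF) `H28.NT.keyF`
with `J₁ = J₂ = K`; the rest is `exists_ext_pstep_core`.
-/

set_option autoImplicit false

open Cfsg.Agent.Lib.H21.AD Cfsg.Agent.Lib.H28.NT

namespace Cfsg.Agent.Lib.H25.NT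

variable {G : Type*} [Group G] [Finite G] {p : ℕ} {M : Ideal Cfsg.AlgInt} {N Q : Subgroup G} {θ : G → ℂ}

/-- (PSTEPa) over a normal subgroup `K` of `p`-power index: a `K`-principal extension is `H`-invariant (CONJA + KEYF),
its determinantal order is prime to `p`, so `H23.exists_unique_extension_coprime` extends it with the same
determinantal order. -/
theorem exists_ext_pstep [N.Normal] (h : Hyp p M N Q θ) (K H : Subgroup G) (hNK : N ≤ K) (hKH : K ≤ H)
    (hnorm : ∀ a ∈ H, ∀ b ∈ K, a * b * a⁻¹ ∈ K) (hpK : ¬ p ∣ N.relIndex K)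
    (hidx : ∃ a : ℕ, K.relIndex H = p ^ a) (f : G → ℂ) (hf : GoodA p N θ K f) :
    ∃ f' : G → ℂ, Cfsg.IsIrrCharacter H (fun y : H => f' y) ∧ (∀ g ∈ K, f' g = f g) ∧
      ∀ x : H, (∃ k : ℕ, orderOf x = p ^ k) → Cfsg.detChar (fun y : H => f' y) x = 1 := by
  refine exists_ext_pstep_core h K H hNK hKH hnorm hpK hidx f hf ?_
  intro t ht g hg
  -- conjugation by `t⁻¹ ∈ H` fixes `K`
  have hmap : K.map (MulAut.conj t⁻¹).toMonoidHom = K := by
    apply le_antisymm
    · rintro _ ⟨b, hb, rfl⟩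
      have := hnorm t⁻¹ (H.inv_mem ht) b hb
      simpa using this
    · intro b hb
      refine ⟨t * b * t⁻¹, hnorm t ht b hb, ?_⟩
      simp [mul_assoc]
  have h1 := Cfsg.Agent.Lib.H9.NT.goodA_conj h K hNK f hf t⁻¹
  rw [hmap] at h1
  have h2 := Cfsg.Agent.Lib.H28.NT.keyF h K K hNK le_rfl hpK f _ hf h1 g hg
  rw [h2]
  simp

end Cfsg.Agent.Lib.H25.NT
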