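import Mathlib
import Cfsg.Prelude.Def_Blocks
import Cfsg.Prelude.Def_CharExt
import Cfsg.Agent.Lib.H21.AD.Defs
import Cfsg.Agent.Lib.H28.NT.Defs
import Cfsg.Agent.Lib.H23.ExtGeneral
import Cfsg.Agent.Lib.H6.ADLC4Core

/-!
# S4892 piece (PSTEPa), core: the coprime extension step over a normal subgroup of `p`-power index

`exists_ext_pstep_core` is `exists_ext_pstep` of `tools/blueprints/S4892_sigs.lean` with the
`H`-invariance of `f` on `K` (which follows from (CONJA) + (KEYF)) taken as a hypothesis.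
-/

set_option autoImplicit false

open Cfsg.Agent.Lib.H21.AD Cfsg.Agent.Lib.H28.NT

namespace Cfsg.Agent.Lib.H25.NT

variable {G : Type*} [Group G] [Finite G] {p : ℕ} {M : Ideal Cfsg.AlgInt} {N Q : Subgroup G} {θ : G → ℂ}

/-- a linear character of order prime to `p` is trivial on `p`-elements -/
theorem hom_pElement_eq_one {X : Type*} [Group X] (hp : p.Prime) (φ : X →* ℂˣ)
    (ho : ¬ p ∣ orderOf φ) (x : X) (k : ℕ) (hk : orderOf x = p ^ k) : φ x = 1 := by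
  have h1 : (φ x) ^ (p ^ k) = 1 := by rw [← map_pow, ← hk, pow_orderOf_eq_one, map_one]
  have h2 : (φ x) ^ orderOf φ = 1 := by
    rw [← MonoidHom.pow_apply, pow_orderOf_eq_one, MonoidHom.one_apply]
  have h3 : orderOf (φ x) ∣ p ^ k := orderOf_dvd_of_pow_eq_one h1
  have h4 : orderOf (φ x) ∣ orderOf φ := orderOf_dvd_of_pow_eq_one h2
  have hc : Nat.Coprime (p ^ k) (orderOf φ) :=
    ((Nat.Prime.coprime_iff_not_dvd hp).mpr ho).pow_left k
  exact orderOf_eq_one_iff.mp (Nat.eq_one_of_dvd_coprimes hc h3 h4)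

/-- a linear character of a finite group trivial on `p`-elements has order prime to `p` -/
theorem not_dvd_orderOf_hom {X : Type*} [Group X] [Finite X] (hp : p.Prime) (φ : X →* ℂˣ)
    (h1 : ∀ x : X, (∃ k : ℕ, orderOf x = p ^ k) → φ x = 1) : ¬ p ∣ orderOf φ := by
  have hn0 : Nat.card X ≠ 0 := Nat.card_pos.ne'
  obtain ⟨a, m, hpm, hn⟩ := Nat.exists_eq_pow_mul_and_not_dvd hn0 p hp.ne_one
  have hm : φ ^ m = 1 := by
    ext x
    rw [MonoidHom.pow_apply, MonoidHom.one_apply, ← map_pow]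
    have hx : (x ^ m) ^ (p ^ a) = 1 := by
      rw [← pow_mul, mul_comm, ← hn]
      exact pow_card_eq_one'
    obtain ⟨k, _, hk⟩ := (Nat.dvd_prime_pow hp).mp (orderOf_dvd_of_pow_eq_one hx)
    rw [h1 (x ^ m) ⟨k, hk⟩]
  intro hdiv
  exact hpm (hdiv.trans (orderOf_dvd_of_pow_eq_one hm))

/-- (PSTEPa), core: with the `H`-invariance of `f` on `K` as a hypothesis. -/
theorem exists_ext_pstep_core [N.Normal] (h : Hyp p M N Q θ) (K H : Subgroup G) (hNK : N ≤ K) (hKH : K ≤ H)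
    (hnorm : ∀ a ∈ H, ∀ b ∈ K, a * b * a⁻¹ ∈ K) (hpK : ¬ p ∣ N.relIndex K)
    (hidx : ∃ a : ℕ, K.relIndex H = p ^ a) (f : G → ℂ) (hf : GoodA p N θ K f)
    (hinvf : ∀ t ∈ H, ∀ g ∈ K, f (t * g * t⁻¹) = f g) :
    ∃ f' : G → ℂ, Cfsg.IsIrrCharacter H (fun y : H => f' y) ∧ (∀ g ∈ K, f' g = f g) ∧
      ∀ x : H, (∃ k : ℕ, orderOf x = p ^ k) → Cfsg.detChar (fun y : H => f' y) x = 1 := by
  classical
  have hp := h.hp
  let _ : Fintype ↥H := Fintype.ofFinite _
  -- the normal subgroup `K' = K ∩ H` of `↥H`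
  have hK'n : (K.subgroupOf H).Normal := by
    refine ⟨fun b hb a => ?_⟩
    rw [Subgroup.mem_subgroupOf] at hb ⊢
    have := hnorm (a : G) a.2 (b : G) hb
    simpa using this
  -- the character `ϑ = f|_K` on `K'`
  let ι : ↥(K.subgroupOf H) →* ↥K := (Subgroup.subgroupOfEquivOfLe hKH).toMonoidHom
  have hι : ∀ n : ↥(K.subgroupOf H), ((ι n : ↥K) : G) = ((n : ↥H) : G) := fun n => rfl
  let ϑ : ↥(K.subgroupOf H) → ℂ := fun n => f ((n : ↥H) : G)
  have hϑirr : Cfsg.IsIrrCharacter ↥(K.subgroupOf H) ϑ := by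
    have := Cfsg.Agent.Lib.L0.isIrrCharacter_comp_of_surjective ι
      (Subgroup.subgroupOfEquivOfLe hKH).surjective hf.1.1
    exact this
  have hϑc := Cfsg.Agent.Lib.L0.isCharacter_of_irr hϑirr
  have hϑinv : ∀ (g : ↥H) (n : ↥(K.subgroupOf H)),
      ϑ ⟨g * n * g⁻¹, hK'n.conj_mem (n : ↥H) n.2 g⟩ = ϑ n := by
    intro g n
    show f (((g * (n : ↥H) * g⁻¹ : ↥H)) : G) = f ((n : ↥H) : G)
    have hn : ((n : ↥H) : G) ∈ K := Subgroup.mem_subgroupOf.mp n.2
    have := hinvf (g : G) g.2 ((n : ↥H) : G) hn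
    simpa using this
  obtain ⟨d, hd, hpd⟩ := h.hdeg
  have hϑ1 : ϑ 1 = (d : ℂ) := by
    show f (((1 : ↥(K.subgroupOf H)) : ↥H) : G) = d
    have : f 1 = θ 1 := hf.1.2 1 N.one_mem
    simpa [hd] using this
  -- the determinant of `ϑ` is trivial on `p`-elements
  obtain ⟨lam, hlam⟩ := Cfsg.Agent.Lib.H23.exists_hom_detChar hϑc
  -- inclusion of `N` in `K'`
  let j : ↥N →* ↥(K.subgroupOf H) :=
    { toFun := fun n => ⟨⟨(n : G), hKH (hNK n.2)⟩, Subgroup.mem_subgroupOf.mpr (hNK n.2)⟩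
      map_one' := rfl
      map_mul' := fun _ _ => rfl }
  have hjθ : ϑ ∘ j = fun n : N => θ n := by
    funext n
    exact hf.1.2 (n : G) n.2
  have hdetN : ∀ n : ↥N, (∃ k : ℕ, orderOf n = p ^ k) → Cfsg.detChar ϑ (j n) = 1 := by
    intro n hn
    have h1 := Cfsg.Agent.Lib.H23.detChar_comp j hϑc
    rw [hjθ] at h1
    have h2 := congrFun h1 n
    rw [Function.comp_apply] at h2
    rw [← h2]
    exact h.hdet n hn
  have hlam1 : ∀ x : ↥(K.subgroupOf H), (∃ k : ℕ, orderOf x = p ^ k) → lam x = 1 := by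
    rintro x ⟨k, hk⟩
    have hxK : ((x : ↥H) : G) ∈ K := Subgroup.mem_subgroupOf.mp x.2
    have hord : orderOf ((x : ↥H) : G) = p ^ k := by
      rw [Subgroup.orderOf_coe, Subgroup.orderOf_coe, hk]
    have hxN : ((x : ↥H) : G) ∈ N :=
      Cfsg.Agent.Lib.H6.AD.mem_of_pElement hp N K hpK _ hxK k hord
    have hjx : j ⟨((x : ↥H) : G), hxN⟩ = x := by
      apply Subtype.ext
      apply Subtype.ext
      rfl
    have hordN : orderOf (⟨((x : ↥H) : G), hxN⟩ : ↥N) = p ^ k := by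
      rw [← Subgroup.orderOf_coe]
      exact hord
    have h3 := hdetN ⟨((x : ↥H) : G), hxN⟩ ⟨k, hordN⟩
    rw [hjx, hlam, Cfsg.Agent.Lib.H23.homToFun_apply] at h3
    exact Units.ext h3
  have hdo : ¬ p ∣ Cfsg.detOrder ϑ := by
    unfold Cfsg.detOrder
    rw [hlam, Cfsg.Agent.Lib.H23.orderOf_homToFun]
    exact not_dvd_orderOf_hom hp lam hlam1
  -- coprimality
  obtain ⟨a, ha⟩ := hidx
  have hcop : Nat.Coprime (K.subgroupOf H).index (Cfsg.detOrder ϑ * d) := by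
    have : (K.subgroupOf H).index = p ^ a := ha
    rw [this]
    apply Nat.Coprime.pow_left
    exact Nat.Coprime.mul_right ((Nat.Prime.coprime_iff_not_dvd hp).mpr hdo)
      ((Nat.Prime.coprime_iff_not_dvd hp).mpr hpd)
  obtain ⟨ψ, ⟨hψirr, hψres, hψdo⟩, -⟩ :=
    Cfsg.Agent.Lib.H23.exists_unique_extension_coprime (K.subgroupOf H) ϑ hϑirr hϑinv d hϑ1 hcop
  refine ⟨fun g => if hg : g ∈ H then ψ ⟨g, hg⟩ else 0, ?_, ?_, ?_⟩
  · have : (fun y : ↥H => (fun g => if hg : g ∈ H then ψ ⟨g, hg⟩ else 0) (y : G)) = ψ := by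
      funext y
      simp only [dif_pos y.2]
    rw [this]
    exact hψirr
  · intro g hg
    simp only [dif_pos (hKH hg)]
    exact hψres ⟨⟨g, hKH hg⟩, Subgroup.mem_subgroupOf.mpr hg⟩
  · rintro x ⟨k, hk⟩
    have : (fun y : ↥H => (fun g => if hg : g ∈ H then ψ ⟨g, hg⟩ else 0) (y : G)) = ψ := by
      funext y
      simp only [dif_pos y.2]
    rw [this]
    obtain ⟨mu, hmu⟩ := Cfsg.Agent.Lib.H23.exists_hom_detChar
      (Cfsg.Agent.Lib.L0.isCharacter_of_irr hψirr)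
    have hmo : ¬ p ∣ orderOf mu := by
      have : Cfsg.detOrder ψ = orderOf mu := by
        unfold Cfsg.detOrder
        rw [hmu, Cfsg.Agent.Lib.H23.orderOf_homToFun]
      rw [← this, hψdo]
      exact hdo
    rw [hmu, Cfsg.Agent.Lib.H23.homToFun_apply, hom_pElement_eq_one hp mu hmo x k hk]
    rfl

end Cfsg.Agent.Lib.H25.NT
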