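import Mathlib
import Cfsg.Agent.Lib.H18.NilSymNum

/-! helper25: arithmetic for nilpotent subgroups of odd order of symmetric groups, compared with
half the order of a Sylow 2-subgroup. -/

set_option autoImplicit false

namespace Cfsg.Agent.Lib.H25.NA

open Nat Cfsg.Agent.Lib.H18

theorem sylTwo_succ_even (y : ℕ) : sylTwo (2 * y + 1) = sylTwo (2 * y) := by
  unfold sylTwo
  congr 1
  rw [Nat.factorial_succ, Nat.factorization_mul (by omega) (Nat.factorial_ne_zero _)]
  have : (2 * y + 1).factorization 2 = 0 := by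
    apply Nat.factorization_eq_zero_of_not_dvd; omega
  simp [this]

theorem sylTwo_of_odd {n : ℕ} (hn : Odd n) : sylTwo n = sylTwo (n - 1) := by
  obtain ⟨y, rfl⟩ := hn
  rw [sylTwo_succ_even]; rfl

theorem sylTwo_2 : sylTwo 2 = 2 := by
  have := sylTwo_two_mul 1
  simpa [sylTwo_one] using this

theorem sylTwo_4 : sylTwo 4 = 8 := by
  have := sylTwo_two_mul 2
  rw [sylTwo_2] at this
  simpa using this

theorem sylTwo_3 : sylTwo 3 = 2 := by
  have := sylTwo_succ_even 1
  simpa [sylTwo_2] using this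

theorem sylTwo_5 : sylTwo 5 = 8 := by
  have := sylTwo_succ_even 2
  simpa [sylTwo_4] using this

theorem sylTwo_6 : sylTwo 6 = 16 := by
  have := sylTwo_two_mul 3
  rw [sylTwo_3] at this
  simpa using this

theorem sylTwo_7 : sylTwo 7 = 16 := by
  have := sylTwo_succ_even 3
  simpa [sylTwo_6] using this

theorem sylTwo_8 : sylTwo 8 = 128 := by
  have := sylTwo_two_mul 4
  rw [sylTwo_4] at this
  simpa using this

theorem sylTwo_10 : sylTwo 10 = 256 := by
  have := sylTwo_two_mul 5
  rw [sylTwo_5] at this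
  simpa using this

theorem sylTwo_11 : sylTwo 11 = 256 := by
  have := sylTwo_succ_even 5
  simpa [sylTwo_10] using this

theorem sylTwo_12 : sylTwo 12 = 1024 := by
  have := sylTwo_two_mul 6
  rw [sylTwo_6] at this
  simpa using this

theorem sylTwo_13 : sylTwo 13 = 1024 := by
  have := sylTwo_succ_even 6
  simpa [sylTwo_12] using this

theorem sylTwo_14 : sylTwo 14 = 2048 := by
  have := sylTwo_two_mul 7
  rw [sylTwo_7] at this
  simpa using this

theorem sylTwo_15 : sylTwo 15 = 2048 := by
  have := sylTwo_succ_even 7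
  simpa [sylTwo_14] using this

theorem sylTwo_16 : sylTwo 16 = 32768 := by
  have := sylTwo_two_mul 8
  rw [sylTwo_8] at this
  simpa using this

theorem sylTwo_9 : sylTwo 9 = 128 := by
  have := sylTwo_succ_even 4
  simpa [sylTwo_8] using this

theorem sylTwo_18 : sylTwo 18 = 65536 := by
  have := sylTwo_two_mul 9
  rw [sylTwo_9] at this
  simpa using this

theorem sylTwo_20 : sylTwo 20 = 262144 := by
  have := sylTwo_two_mul 10
  rw [sylTwo_10] at this
  simpa using this

theorem sylTwo_22 : sylTwo 22 = 524288 := by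
  have := sylTwo_two_mul 11
  rw [sylTwo_11] at this
  simpa using this

/-- eight more points multiply the Sylow 2-order by at least 128 -/
theorem sylTwo_add_eight (n : ℕ) : 128 * sylTwo n ≤ sylTwo (n + 8) := by
  have h := pow_mul_sylTwo_le (k := 7) (n := n) (m := n + 8) ?_
  · simpa using h
  · have h1 : 8 ! * n ! ∣ (8 + n)! := Nat.factorial_mul_factorial_dvd_factorial_add 8 n
    have h2 : 2 ^ 7 ∣ 8 ! := by decide
    rw [add_comm] at h1
    exact (Nat.mul_dvd_mul_right h2 _).trans h1

/-- `2 * 3 ^ (j - 1) ≤ sylTwo (2 * j)` for `j ≥ 4`. -/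
theorem two_mul_three_pow_le_sylTwo (j : ℕ) (hj : 4 ≤ j) : 2 * 3 ^ (j - 1) ≤ sylTwo (2 * j) := by
  induction j using Nat.strong_induction_on with
  | _ j ih =>
    rcases (by omega : j = 4 ∨ j = 5 ∨ j = 6 ∨ j = 7 ∨ 8 ≤ j) with rfl | rfl | rfl | rfl | h8
    · rw [show 2 * 4 = 8 by norm_num, sylTwo_8]; norm_num
    · rw [show 2 * 5 = 10 by norm_num, sylTwo_10]; norm_num
    · rw [show 2 * 6 = 12 by norm_num, sylTwo_12]; norm_num
    · rw [show 2 * 7 = 14 by norm_num, sylTwo_14]; norm_num
    · have h1 := ih (j - 4) (by omega) (by omega)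
      have h2 := sylTwo_add_eight (2 * (j - 4))
      rw [show 2 * (j - 4) + 8 = 2 * j by omega] at h2
      have h3 : 3 ^ (j - 1) = 81 * 3 ^ (j - 4 - 1) := by
        rw [show j - 1 = (j - 4 - 1) + 4 by omega, pow_add]; norm_num; ring
      rw [h3]
      omega

/-- `2 * 3 ^ j ≤ sylTwo (2 * j)` for `j ≥ 8`. -/
theorem two_mul_three_pow_le_sylTwo' (j : ℕ) (hj : 8 ≤ j) : 2 * 3 ^ j ≤ sylTwo (2 * j) := by
  induction j using Nat.strong_induction_on with
  | _ j ih =>
    rcases (by omega : j = 8 ∨ j = 9 ∨ j = 10 ∨ j = 11 ∨ 12 ≤ j) with rfl | rfl | rfl | rfl | h8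
    · rw [show 2 * 8 = 16 by norm_num, sylTwo_16]; norm_num
    · rw [show 2 * 9 = 18 by norm_num, sylTwo_18]; norm_num
    · rw [show 2 * 10 = 20 by norm_num, sylTwo_20]; norm_num
    · rw [show 2 * 11 = 22 by norm_num, sylTwo_22]; norm_num
    · have h1 := ih (j - 4) (by omega) (by omega)
      have h2 := sylTwo_add_eight (2 * (j - 4))
      rw [show 2 * (j - 4) + 8 = 2 * j by omega] at h2
      have h3 : 3 ^ j = 81 * 3 ^ (j - 4) := by
        rw [show j = (j - 4) + 4 by omega, pow_add]; norm_num; ring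
      rw [h3]
      omega

theorem two_mul_add_one_le_three_pow (c : ℕ) (hc : 1 ≤ c) : 2 * c + 1 ≤ 3 ^ c := by
  induction c, hc using Nat.le_induction with
  | base => norm_num
  | succ c hc ih => rw [pow_succ]; omega

/-- Sylow `q`-subgroups of `S_{q^k}`, `q` odd, have order at most `3 ^ ((q^k - 1)/2)`. -/
theorem sylPP_le_three_pow {q : ℕ} (hq : q.Prime) (hodd : Odd q) (k : ℕ) :
    sylPP q k ≤ 3 ^ ((q ^ k - 1) / 2) := by
  obtain ⟨c, rfl⟩ := hodd
  have hc : 1 ≤ c := by
    have := hq.two_le; omega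
  have h1 := sub_one_mul_factorization_factorial_pow hq k
  set e := (((2 * c + 1) ^ k)!).factorization (2 * c + 1) with he
  have h2 : ((2 * c + 1) ^ k - 1) / 2 = c * e := by
    have : (2 * c + 1) ^ k - 1 = 2 * (c * e) := by
      have h3 : (2 * c + 1 - 1) * e = 2 * c * e := by simp
      rw [h3] at h1
      rw [← h1]; simp; ring
    rw [this]; simp
  rw [h2]
  unfold sylPP
  rw [← he, pow_mul]
  exact Nat.pow_le_pow_left (two_mul_add_one_le_three_pow c hc) e

/-- a transitive nilpotent group of odd degree `m` has order at most `3 ^ ((m - 1)/2)`. -/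
theorem nilBd_le_three_pow (m : ℕ) (hm : Odd m) : nilBd m ≤ 3 ^ ((m - 1) / 2) := by
  induction m using Nat.recOnPosPrimePosCoprime with
  | zero => simp at hm
  | one => simp [nilBd_one]
  | prime_pow q k hq hk =>
    rw [nilBd_prime_pow hq hk]
    have hqodd : Odd q := by
      rcases Nat.even_or_odd q with h | h
      · exfalso
        have : Even (q ^ k) := (Nat.even_pow.mpr ⟨h, hk.ne'⟩)
        exact (Nat.not_even_iff_odd.mpr hm) this
      · exact h
    exact sylPP_le_three_pow hq hqodd k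
  | coprime a b ha hb hab iha ihb =>
    have hao : Odd a := by
      rcases Nat.even_or_odd a with h | h
      · exact absurd (h.mul_right b) (Nat.not_even_iff_odd.mpr hm)
      · exact h
    have hbo : Odd b := by
      rcases Nat.even_or_odd b with h | h
      · exact absurd (h.mul_left a) (Nat.not_even_iff_odd.mpr hm)
      · exact h
    rw [nilBd_mul hab (by omega) (by omega)]
    calc nilBd a * nilBd b ≤ 3 ^ ((a - 1) / 2) * 3 ^ ((b - 1) / 2) :=
          Nat.mul_le_mul (iha hao) (ihb hbo)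
      _ = 3 ^ ((a - 1) / 2 + (b - 1) / 2) := by rw [pow_add]
      _ ≤ 3 ^ ((a * b - 1) / 2) := by
          apply Nat.pow_le_pow_right (by norm_num)
          obtain ⟨x, rfl⟩ := hao
          obtain ⟨y, rfl⟩ := hbo
          have e1 : (2 * x + 1 - 1) / 2 = x := by omega
          have e2 : (2 * y + 1 - 1) / 2 = y := by omega
          have e3 : ((2 * x + 1) * (2 * y + 1) - 1) / 2 = 2 * x * y + x + y := by
            have : (2 * x + 1) * (2 * y + 1) - 1 = 2 * (2 * x * y + x + y) := by
              have : (2 * x + 1) * (2 * y + 1) = 2 * (2 * x * y + x + y) + 1 := by ring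
              omega
            rw [this]; simp
          rw [e1, e2, e3]
          nlinarith

theorem nilBd_prime {q : ℕ} (hq : q.Prime) : nilBd q = q := by
  have := nilBd_prime_pow hq (k := 1) (by norm_num)
  rw [pow_one] at this
  rw [this, sylPP_one hq]

/-- a transitive nilpotent group of odd degree `m ∉ {1, 3, 5, 9}` has order at most half of
`sylTwo m`. -/
theorem two_mul_nilBd_le (m : ℕ) (hm : Odd m) (h1 : m ≠ 1) (h3 : m ≠ 3) (h5 : m ≠ 5)
    (h9 : m ≠ 9) : 2 * nilBd m ≤ sylTwo m := by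
  obtain ⟨j, rfl⟩ := hm
  rcases (by omega : j = 3 ∨ j = 5 ∨ j = 6 ∨ j = 7 ∨ 8 ≤ j) with rfl | rfl | rfl | rfl | h8
  · rw [show 2 * 3 + 1 = 7 by norm_num, nilBd_prime (by norm_num), sylTwo_7]; norm_num
  · rw [show 2 * 5 + 1 = 11 by norm_num, nilBd_prime (by norm_num), sylTwo_11]; norm_num
  · rw [show 2 * 6 + 1 = 13 by norm_num, nilBd_prime (by norm_num), sylTwo_13]; norm_num
  · rw [show 2 * 7 + 1 = 15 by norm_num, sylTwo_15]
    have : nilBd 15 = 15 := by
      rw [show 15 = 3 * 5 by norm_num, nilBd_mul (by norm_num) (by norm_num) (by norm_num),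
        nilBd_prime (by norm_num), nilBd_prime (by norm_num)]
    rw [this]; norm_num
  · have h2 := nilBd_le_three_pow (2 * j + 1) ⟨j, rfl⟩
    have e : (2 * j + 1 - 1) / 2 = j := by omega
    rw [e] at h2
    have h4 := two_mul_three_pow_le_sylTwo' j h8
    rw [sylTwo_succ_even]
    omega

/-- The orders of nilpotent groups all of whose orbits have odd length. -/
theorem two_mul_prod_nilBd_le {ι : Type*} [Fintype ι] (m : ι → ℕ) (hodd : ∀ i, Odd (m i))
    (n : ℕ) (hsum : ∑ i, m i = n) (h2 : 2 ≤ n) (hn : n % 4 ≠ 3) (h5 : n ≠ 5) (h6 : n ≠ 6)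
    (h9 : n ≠ 9) : 2 * ∏ i, nilBd (m i) ≤ sylTwo n := by
  classical
  set r := Fintype.card ι with hr
  set X := ∑ i, (m i - 1) / 2 with hX
  have hnX : n = 2 * X + r := by
    rw [← hsum, hX, hr, Finset.mul_sum, Fintype.card_eq_sum_ones, ← Finset.sum_add_distrib]
    apply Finset.sum_congr rfl
    intro i _
    obtain ⟨x, hx⟩ := hodd i
    rw [hx]; omega
  have hprod : ∏ i, nilBd (m i) ≤ 3 ^ X := by
    rw [hX, ← Finset.prod_pow_eq_pow_sum]
    exact Finset.prod_le_prod' (fun i _ => nilBd_le_three_pow (m i) (hodd i))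
  rcases (by omega : r = 0 ∨ r = 1 ∨ 2 ≤ r) with h0 | h1 | hr2
  · exfalso
    have : IsEmpty ι := Fintype.card_eq_zero_iff.mp (hr ▸ h0)
    rw [Finset.univ_eq_empty, Finset.sum_empty] at hsum
    omega
  · obtain ⟨i0, hi0⟩ := Fintype.card_eq_one_iff.mp (hr ▸ h1)
    have huniv : (Finset.univ : Finset ι) = {i0} := by
      ext i; simp [hi0 i]
    rw [huniv, Finset.sum_singleton] at hsum
    rw [huniv, Finset.prod_singleton, hsum]
    have hno : Odd n := hsum ▸ hodd i0
    refine two_mul_nilBd_le n hno (by omega) ?_ h5 h9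
    intro h; rw [h] at hn; norm_num at hn
  · have hle : 2 * 3 ^ X ≤ sylTwo n := by
      rcases Nat.even_or_odd n with he | ho
      · obtain ⟨j, hj⟩ := he
        have hj2 : n = 2 * j := by omega
        have hXj : X ≤ j - 1 := by omega
        have hpow : 3 ^ X ≤ 3 ^ (j - 1) := Nat.pow_le_pow_right (by norm_num) hXj
        rcases (by omega : j = 1 ∨ j = 2 ∨ 4 ≤ j) with rfl | rfl | h4
        · rw [hj2, sylTwo_2]
          have : X = 0 := by omega
          rw [this]; norm_num
        · rw [hj2, show 2 * 2 = 4 by norm_num, sylTwo_4]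
          have : 3 ^ X ≤ 3 ^ 1 := Nat.pow_le_pow_right (by norm_num) (by omega)
          omega
        · have := two_mul_three_pow_le_sylTwo j h4
          rw [hj2]; omega
      · obtain ⟨j, hj⟩ := ho
        have hr3 : 3 ≤ r := by
          rcases (by omega : r = 2 ∨ 3 ≤ r) with h | h
          · omega
          · exact h
        have hXj : X ≤ j - 1 := by omega
        have hj6 : 6 ≤ j := by omega
        have hpow : 3 ^ X ≤ 3 ^ (j - 1) := Nat.pow_le_pow_right (by norm_num) hXj
        have := two_mul_three_pow_le_sylTwo j (by omega)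
        rw [hj, sylTwo_succ_even]; omega
    calc 2 * ∏ i, nilBd (m i) ≤ 2 * 3 ^ X := Nat.mul_le_mul_left _ hprod
      _ ≤ sylTwo n := hle

end Cfsg.Agent.Lib.H25.NA
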