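import Mathlib
import Cfsg.Agent.Lib.H18.NilSymNum
import Cfsg.Agent.Lib.H25.NilAltNum

/-! helper25: arithmetic for nilpotent subgroups of `S_n` and `A_n`, `n ≡ 3 mod 4`. -/

set_option autoImplicit false

namespace Cfsg.Agent.Lib.H25.NA

open Nat Cfsg.Agent.Lib.H18

theorem pow_le_sylTwo_of_dvd {j m : ℕ} (h : 2 ^ j ∣ m !) : 2 ^ j ≤ sylTwo m := by
  unfold sylTwo
  apply Nat.pow_le_pow_right (by norm_num)
  exact (Nat.prime_two.pow_dvd_iff_le_factorization (Nat.factorial_ne_zero m)).mp h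

theorem four_mul_sylTwo_sub_four {n : ℕ} (hn : n % 4 = 3) (h7 : 7 ≤ n) :
    4 * sylTwo (n - 4) ≤ sylTwo (n - 3) := by
  have h := pow_mul_sylTwo_le (k := 2) (n := n - 4) (m := n - 3) ?_
  · simpa using h
  · have e : n - 3 = (n - 4) + 1 := by omega
    rw [e, Nat.factorial_succ]
    apply Nat.mul_dvd_mul_right
    rw [← e]
    omega

/-- an element of order 3 centralized by a large 2-group is a 3-cycle -/
theorem cycles_eq_zero (n c j : ℕ) (hn : n % 4 = 3) (hc : 3 * (c + 1) ≤ n)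
    (hdvd : 2 ^ j ∣ (n - 3 * (c + 1))! * 3 ^ (c + 1) * (c + 1)!)
    (hj : sylTwo (n - 3) ≤ 2 * 2 ^ j) : c = 0 := by
  by_contra hc0
  have hc1 : 1 ≤ c := Nat.one_le_iff_ne_zero.mpr hc0
  have hcop : Nat.Coprime (2 ^ j) (3 ^ (c + 1)) := by
    apply Nat.Coprime.pow; norm_num
  have h1 : 2 ^ j ∣ (n - 3 * (c + 1))! * (c + 1)! := by
    have : (n - 3 * (c + 1))! * 3 ^ (c + 1) * (c + 1)! =
        3 ^ (c + 1) * ((n - 3 * (c + 1))! * (c + 1)!) := by ring
    rw [this] at hdvd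
    exact hcop.dvd_of_dvd_mul_left hdvd
  have h2 : (n - 3 * (c + 1))! * (c + 1)! ∣ (n - 3 * (c + 1) + (c + 1))! :=
    Nat.factorial_mul_factorial_dvd_factorial_add _ _
  have h3 : (n - 3 * (c + 1) + (c + 1))! ∣ (n - 4)! :=
    Nat.factorial_dvd_factorial (by omega)
  have h4 : 2 ^ j ≤ sylTwo (n - 4) := pow_le_sylTwo_of_dvd (h1.trans (h2.trans h3))
  have h5 := four_mul_sylTwo_sub_four hn (by omega)
  have h6 := sylTwo_pos (n - 4)
  omega

/-- The orders of nilpotent groups all of whose orbits have odd length, degree `3 mod 4`. -/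
theorem two_mul_prod_nilBd_le_three {ι : Type*} [Fintype ι] (m : ι → ℕ)
    (hodd : ∀ i, Odd (m i)) (n : ℕ) (hsum : ∑ i, m i = n) (h7 : 7 ≤ n) (hn : n % 4 = 3) :
    2 * ∏ i, nilBd (m i) ≤ 3 * sylTwo (n - 3) := by
  classical
  set r := Fintype.card ι with hr
  set X := ∑ i, (m i - 1) / 2 with hX
  have hnX : n = 2 * X + r := by
    rw [← hsum, hX, hr, Finset.mul_sum, Fintype.card_eq_sum_ones, ← Finset.sum_add_distrib]
    apply Finset.sum_congr rfl
    intro i _
    obtain ⟨x, hx⟩ := hodd i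
    rw [hx]; omega
  have hprod : ∏ i, nilBd (m i) ≤ 3 ^ X := by
    rw [hX, ← Finset.prod_pow_eq_pow_sum]
    exact Finset.prod_le_prod' (fun i _ => nilBd_le_three_pow (m i) (hodd i))
  have hsyl : sylTwo n = 2 * sylTwo (n - 3) := by
    have := sylTwo_eq_of_mod (n := n - 3) (by omega)
    rwa [show n - 3 + 3 = n by omega] at this
  rcases (by omega : r = 0 ∨ r = 1 ∨ 2 ≤ r) with h0 | h1 | hr2
  · exfalso
    have : IsEmpty ι := Fintype.card_eq_zero_iff.mp (hr ▸ h0)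
    rw [Finset.univ_eq_empty, Finset.sum_empty] at hsum
    omega
  · obtain ⟨i0, hi0⟩ := Fintype.card_eq_one_iff.mp (hr ▸ h1)
    have huniv : (Finset.univ : Finset ι) = {i0} := by
      ext i; simp [hi0 i]
    rw [huniv, Finset.sum_singleton] at hsum
    rw [huniv, Finset.prod_singleton, hsum]
    have hno : Odd n := hsum ▸ hodd i0
    have := two_mul_nilBd_le n hno (by omega) (by omega) (by omega) (by omega)
    omega
  · obtain ⟨k, hk⟩ : ∃ k, n = 4 * k + 3 := ⟨n / 4, by omega⟩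
    have hk1 : 1 ≤ k := by omega
    have hX2 : X ≤ 2 * k := by omega
    have hpow : 3 ^ X ≤ 3 ^ (2 * k) := Nat.pow_le_pow_right (by norm_num) hX2
    have hle : 2 * 3 ^ (2 * k) ≤ 3 * sylTwo (n - 3) := by
      rw [show n - 3 = 2 * (2 * k) by omega]
      rcases (by omega : k = 1 ∨ 2 ≤ k) with rfl | hk2
      · rw [show 2 * (2 * 1) = 4 by norm_num, sylTwo_4]; norm_num
      · have := two_mul_three_pow_le_sylTwo (2 * k) (by omega)
        have e : 3 ^ (2 * k) = 3 * 3 ^ (2 * k - 1) := by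
          rw [show 2 * k = (2 * k - 1) + 1 by omega, pow_succ]
          simp [mul_comm]
        rw [e]; omega
    calc 2 * ∏ i, nilBd (m i) ≤ 2 * 3 ^ X := Nat.mul_le_mul_left _ hprod
      _ ≤ 2 * 3 ^ (2 * k) := Nat.mul_le_mul_left _ hpow
      _ ≤ 3 * sylTwo (n - 3) := hle

end Cfsg.Agent.Lib.H25.NA
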