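import Mathlib

/-! helper25: an odd involution centralizing a permutation group `H`, built from two "parallel"
`H`-orbits of odd length `B` and `g B` (`g` centralizing `H`). -/

set_option autoImplicit false

namespace Cfsg.Agent.Lib.H25.NA

open Equiv Equiv.Perm MulAction

variable {α : Type*} [Fintype α] [DecidableEq α]

/-- The product of the swaps `(b, g b)`, `b` in a list. -/
def swapsProd (g : Perm α) (l : List α) : Perm α := (l.map (fun b => swap b (g b))).prod

theorem swaps_pairwise_disjoint (g : Perm α) (l : List α) (hnd : l.Nodup)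
    (hdis : ∀ b ∈ l, ∀ b' ∈ l, g b ≠ b') :
    (l.map (fun b => swap b (g b))).Pairwise Perm.Disjoint := by
  rw [List.pairwise_map]
  refine hnd.imp_of_mem ?_
  intro b b' hb hb' hne
  intro y
  by_cases h1 : y = b
  · right
    rw [h1]
    apply swap_apply_of_ne_of_ne hne
    exact fun h => hdis b' hb' b hb h.symm
  · by_cases h2 : y = g b
    · right
      rw [h2]
      apply swap_apply_of_ne_of_ne
      · exact hdis b hb b' hb'
      · exact fun h => hne (g.injective h)
    · left
      exact swap_apply_of_ne_of_ne h1 h2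

theorem swapsProd_apply_mem (g : Perm α) (l : List α) (hnd : l.Nodup)
    (hdis : ∀ b ∈ l, ∀ b' ∈ l, g b ≠ b') {b : α} (hb : b ∈ l) :
    swapsProd g l b = g b := by
  have hne : b ≠ g b := fun h => hdis b hb b hb h.symm
  have hmem : swap b (g b) ∈ l.map (fun b => swap b (g b)) := List.mem_map.mpr ⟨b, hb, rfl⟩
  have hsupp : b ∈ (swap b (g b)).support := by
    rw [support_swap hne]; simp
  have := eq_on_support_mem_disjoint hmem (swaps_pairwise_disjoint g l hnd hdis) b hsupp
  rw [swap_apply_left] at this
  exact this.symm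

theorem swapsProd_apply_image (g : Perm α) (l : List α) (hnd : l.Nodup)
    (hdis : ∀ b ∈ l, ∀ b' ∈ l, g b ≠ b') {b : α} (hb : b ∈ l) :
    swapsProd g l (g b) = b := by
  have hne : b ≠ g b := fun h => hdis b hb b hb h.symm
  have hmem : swap b (g b) ∈ l.map (fun b => swap b (g b)) := List.mem_map.mpr ⟨b, hb, rfl⟩
  have hsupp : g b ∈ (swap b (g b)).support := by
    rw [support_swap hne]; simp
  have := eq_on_support_mem_disjoint hmem (swaps_pairwise_disjoint g l hnd hdis) (g b) hsupp
  rw [swap_apply_right] at this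
  exact this.symm

theorem swapsProd_apply_other (g : Perm α) (l : List α) {y : α}
    (h1 : y ∉ l) (h2 : ∀ b ∈ l, y ≠ g b) : swapsProd g l y = y := by
  by_contra hy
  have hsupp : y ∈ (swapsProd g l).support := mem_support.mpr hy
  obtain ⟨f, hf, hyf⟩ := exists_mem_support_of_mem_support_prod hsupp
  obtain ⟨b, hb, rfl⟩ := List.mem_map.mp hf
  rw [mem_support] at hyf
  apply hyf
  apply swap_apply_of_ne_of_ne
  · exact fun h => h1 (h ▸ hb)
  · exact h2 b hb

theorem sign_swapsProd (g : Perm α) (l : List α) (hdis : ∀ b ∈ l, ∀ b' ∈ l, g b ≠ b') :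
    sign (swapsProd g l) = (-1) ^ l.length := by
  unfold swapsProd
  rw [sign_prod_list_swap, List.length_map]
  intro σ hσ
  obtain ⟨b, hb, rfl⟩ := List.mem_map.mp hσ
  exact ⟨b, g b, fun h => hdis b hb b hb h.symm, rfl⟩

/-- An odd permutation centralizing `H`. -/
theorem exists_odd_centralizing (H : Subgroup (Perm α)) (g : Perm α)
    (hgH : ∀ h ∈ H, g * h = h * g) (x : α) (hodd : Odd (Nat.card (orbit H x)))
    (hgx : g x ∉ orbit H x) :
    ∃ τ : Perm α, (∀ h ∈ H, τ * h = h * τ) ∧ sign τ = -1 := by
  classical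
  set B : Finset α := (orbit H x).toFinset with hB
  have hmemB : ∀ y, y ∈ B ↔ y ∈ orbit H x := fun y => Set.mem_toFinset
  set l := B.toList with hl
  have hnd : l.Nodup := Finset.nodup_toList B
  have hml : ∀ y, y ∈ l ↔ y ∈ orbit H x := fun y => by rw [hl, Finset.mem_toList, hmemB]
  -- `g` maps the orbit off itself
  have hgorb : ∀ b ∈ orbit H x, g b ∉ orbit H x := by
    intro b hb hgb
    obtain ⟨h, rfl⟩ := hb
    apply hgx
    have e : g ((h : Perm α) x) = (h : Perm α) (g x) := by
      have := congrArg (fun σ : Perm α => σ x) (hgH h h.2)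
      simpa using this
    have h1 : (h : Perm α) (g x) ∈ orbit H x := by
      have hgb' : g ((h : Perm α) x) ∈ orbit H x := hgb
      rw [← e]; exact hgb'
    obtain ⟨h', hh'⟩ := h1
    refine ⟨h⁻¹ * h', ?_⟩
    have e2 : (h' : Perm α) x = (h : Perm α) (g x) := hh'
    show ((h⁻¹ * h' : H) : Perm α) x = g x
    rw [Subgroup.coe_mul, Perm.mul_apply, e2, Subgroup.coe_inv]
    simp
  have hdis : ∀ b ∈ l, ∀ b' ∈ l, g b ≠ b' := by
    intro b hb b' hb' h
    apply hgorb b ((hml b).mp hb)
    rw [h]; exact (hml b').mp hb'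
  refine ⟨swapsProd g l, ?_, ?_⟩
  · intro h hh
    ext y
    simp only [Perm.mul_apply]
    have hcomm : ∀ y, g (h y) = h (g y) := by
      intro y
      have := congrArg (fun σ : Perm α => σ y) (hgH h hh)
      simpa using this
    have horb : ∀ y, y ∈ orbit H x → h y ∈ orbit H x := by
      intro y hy
      obtain ⟨k, rfl⟩ := hy
      exact ⟨⟨h, hh⟩ * k, rfl⟩
    have horb' : ∀ y, h y ∈ orbit H x → y ∈ orbit H x := by
      intro y hy
      obtain ⟨k, hk⟩ := hy
      refine ⟨⟨h, hh⟩⁻¹ * k, ?_⟩
      have e2 : (k : Perm α) x = h y := hk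
      show ((⟨h, hh⟩⁻¹ * k : H) : Perm α) x = y
      rw [Subgroup.coe_mul, Perm.mul_apply, e2, Subgroup.coe_inv]
      simp
    by_cases h1 : y ∈ orbit H x
    · rw [swapsProd_apply_mem g l hnd hdis ((hml y).mpr h1),
        swapsProd_apply_mem g l hnd hdis ((hml (h y)).mpr (horb y h1)), hcomm]
    · by_cases h2 : ∃ b ∈ l, y = g b
      · obtain ⟨b, hb, rfl⟩ := h2
        rw [swapsProd_apply_image g l hnd hdis hb, ← hcomm,
          swapsProd_apply_image g l hnd hdis ((hml (h b)).mpr (horb b ((hml b).mp hb)))]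
      · push Not at h2
        rw [swapsProd_apply_other g l (fun h3 => h1 ((hml y).mp h3)) h2]
        rw [swapsProd_apply_other g l]
        · intro h3
          exact h1 (horb' y ((hml _).mp h3))
        · intro b hb h3
          -- `h y = g b`, so `y = g (h⁻¹ b)`
          have hb' : h⁻¹ b ∈ orbit H x := by
            apply horb'
            simpa using (hml b).mp hb
          apply h2 (h⁻¹ b) ((hml _).mpr hb')
          have : h (g (h⁻¹ b)) = g b := by rw [← hcomm]; simp
          apply h.injective
          rw [h3, this]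
  · rw [sign_swapsProd g l hdis, hl, Finset.length_toList]
    have hcard : B.card = Nat.card (orbit H x) := by
      rw [hB, Set.toFinset_card, Nat.card_eq_fintype_card]
    rw [hcard]
    exact hodd.neg_one_pow

end Cfsg.Agent.Lib.H25.NA
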