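import Mathlib
import Cfsg.Agent.Lib.H18.NilSym
import Cfsg.Agent.Lib.H25.NilAltNum
import Cfsg.Agent.Lib.H25.NilAltTau

/-! helper25: nilpotent groups of even permutations of even order have order at most half the
order of a Sylow 2-subgroup of the symmetric group (when the degree is not `3 mod 4`). -/

set_option autoImplicit false

namespace Cfsg.Agent.Lib.H25.NA

open Equiv Equiv.Perm MulAction Cfsg.Agent.Lib.H18

/-- Hall decomposition of a finite nilpotent group at the prime `2`. -/
theorem exists_hall_decomp {M : Type*} [Group M] [Finite M] [Group.IsNilpotent M]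
    (P : Sylow 2 M) :
    ∃ H : Subgroup M, Nat.card P * Nat.card H = Nat.card M ∧ Odd (Nat.card H) ∧
      ∀ h ∈ H, ∀ u ∈ (P : Subgroup M), h * u = u * h := by
  have hcop : Nat.Coprime (Nat.card (P : Subgroup M)) (P : Subgroup M).index :=
    P.card_coprime_index
  obtain ⟨H, hH⟩ := Subgroup.exists_right_complement'_of_coprime hcop
  have hcard : Nat.card (P : Subgroup M) * Nat.card H = Nat.card M := hH.card_mul_card
  have hidx : (P : Subgroup M).index = Nat.card H := hH.symm.index_eq_card
  have hodd : Odd (Nat.card H) := by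
    rw [← hidx, ← Nat.not_even_iff_odd, even_iff_two_dvd]
    exact P.not_dvd_index
  refine ⟨H, hcard, hodd, ?_⟩
  -- the centralizer of `P` has 2-power index
  set C : Subgroup M := Subgroup.centralizer ((P : Subgroup M) : Set M) with hC
  have hsup : (P : Subgroup M) ⊔ C = ⊤ := sylow_sup_centralizer_eq_top 2 P
  have hCn : C.Normal := by rw [hC]; infer_instance
  have hCidx : C.index ∣ Nat.card (P : Subgroup M) := by
    have h1 : C.relIndex ((P : Subgroup M) ⊔ C) = C.relIndex (P : Subgroup M) :=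
      Subgroup.relIndex_sup_right (P : Subgroup M) C
    rw [hsup, Subgroup.relIndex_top_right] at h1
    rw [h1]
    exact Subgroup.relIndex_dvd_card _ _
  intro h hh u hu
  have hhC : h ∈ C := by
    have h1 : h ^ C.index ∈ C := C.pow_index_mem h
    have hord : orderOf h ∣ Nat.card H := by
      have := orderOf_dvd_natCard (⟨h, hh⟩ : H)
      rwa [← Subgroup.orderOf_coe] at this
    have hcop2 : Nat.Coprime C.index (orderOf h) := by
      apply Nat.Coprime.coprime_dvd_left hCidx
      apply Nat.Coprime.coprime_dvd_right hord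
      rw [← hidx]; exact hcop
    obtain ⟨m, hm⟩ := exists_pow_eq_self_of_coprime hcop2
    rw [← hm]
    exact pow_mem h1 m
  rw [hC, Subgroup.mem_centralizer_iff] at hhC
  exact (hhC u hu).symm

variable {α : Type*} [Fintype α] [DecidableEq α]

/-- if a nontrivial 2-group `Pg` centralizes a group `Hg` of odd order, some element of `Pg` moves
some `Hg`-orbit off itself. -/
theorem exists_moved_orbit (Pg Hg : Subgroup (Perm α)) (hP : IsPGroup 2 Pg)
    (hH : Odd (Nat.card Hg)) (hne : Pg ≠ ⊥)
    (hcomm : ∀ g ∈ Pg, ∀ h ∈ Hg, g * h = h * g) :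
    ∃ g ∈ Pg, ∃ x : α, g x ∉ orbit Hg x := by
  by_contra hcon
  push Not at hcon
  apply hne
  rw [Subgroup.eq_bot_iff_forall]
  intro g hg
  ext x
  rw [Perm.one_apply]
  -- `Pg` acts on the orbit of `x`
  let S : SubMulAction Pg α :=
    { carrier := orbit Hg x
      smul_mem' := by
        intro c y hy
        have h1 : (c : Perm α) y ∈ orbit Hg y := hcon c c.2 y
        have h2 : orbit Hg y = orbit Hg x := orbit_eq_iff.mpr hy
        rw [h2] at h1
        exact h1 }
  have hcardS : Nat.card S = Nat.card (orbit Hg x) := rfl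
  have hoddS : ¬ 2 ∣ Nat.card S := by
    rw [hcardS]
    have hdvd : Nat.card (orbit Hg x) ∣ Nat.card Hg := by
      rw [Nat.card_congr (MulAction.orbitEquivQuotientStabilizer Hg x)]
      exact Subgroup.index_dvd_card _
    have := hH.of_dvd_nat hdvd
    rw [← even_iff_two_dvd, Nat.not_even_iff_odd]
    exact this
  have : Fact (Nat.Prime 2) := ⟨Nat.prime_two⟩
  obtain ⟨⟨y0, hy0⟩, hfix⟩ := hP.nonempty_fixed_point_of_prime_not_dvd_card S hoddS
  have hgy0 : g y0 = y0 := by
    have := hfix ⟨g, hg⟩
    exact congrArg Subtype.val this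
  have hx : x ∈ orbit Hg y0 := by
    have : y0 ∈ orbit Hg x := hy0
    rw [orbit_eq_iff.mpr this]
    exact mem_orbit_self x
  obtain ⟨h, rfl⟩ := hx
  show g ((h : Perm α) y0) = (h : Perm α) y0
  have e := congrArg (fun σ : Perm α => σ y0) (hcomm g hg h h.2)
  simp only [Perm.mul_apply] at e
  rw [e, hgy0]

/-- enlarging a 2-group of even permutations centralizing `Hg`, given an odd permutation
centralizing `Hg`. -/
theorem exists_bigger_two_group (Pg Hg : Subgroup (Perm α)) (hP : IsPGroup 2 Pg)
    (hPalt : Pg ≤ alternatingGroup α) (hcomm : ∀ g ∈ Pg, ∀ h ∈ Hg, g * h = h * g)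
    (τ : Perm α) (hτ : ∀ h ∈ Hg, τ * h = h * τ) (hsign : sign τ = -1) :
    ∃ Qg : Subgroup (Perm α), IsPGroup 2 Qg ∧ (∀ q ∈ Qg, ∀ h ∈ Hg, q * h = h * q) ∧
      2 * Nat.card Pg ≤ Nat.card Qg := by
  have : Fact (Nat.Prime 2) := ⟨Nat.prime_two⟩
  set C : Subgroup (Perm α) := Subgroup.centralizer (Hg : Set (Perm α)) with hC
  have hmemC : ∀ g : Perm α, g ∈ C ↔ ∀ h ∈ Hg, g * h = h * g := by
    intro g
    rw [hC, Subgroup.mem_centralizer_iff]
    constructor
    · intro h1 h hh
      exact (h1 h hh).symm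
    · intro h1 h hh
      exact (h1 h hh).symm
  have hPC : Pg ≤ C := fun g hg => (hmemC g).mpr (hcomm g hg)
  have hτC : τ ∈ C := (hmemC τ).mpr hτ
  have hP' : IsPGroup 2 (Pg.subgroupOf C) := hP.comap_subtype
  obtain ⟨Q, hQ⟩ := hP'.exists_le_sylow
  let f : C →* ℤˣ := sign.comp C.subtype
  have hfτ : f ⟨τ, hτC⟩ = -1 := hsign
  -- some element of `Q` is odd
  have hq : ∃ q ∈ (Q : Subgroup C), f q = -1 := by
    by_contra hcon
    push Not at hcon
    have hle : (Q : Subgroup C) ≤ f.ker := by
      intro q hq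
      rw [MonoidHom.mem_ker]
      rcases Int.units_eq_one_or (f q) with h1 | h1
      · exact h1
      · exact absurd h1 (hcon q hq)
    have hidx : f.ker.index = 2 := by
      rw [Subgroup.index_ker]
      have hr : f.range = ⊤ := by
        rw [eq_top_iff]
        intro u _
        rcases Int.units_eq_one_or u with h1 | h1
        · rw [h1]; exact one_mem _
        · rw [h1, ← hfτ]; exact ⟨_, rfl⟩
      rw [hr, Subgroup.card_top, Nat.card_eq_fintype_card, Fintype.card_units_int]
    have h2 : 2 ∣ (Q : Subgroup C).index := by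
      have := Subgroup.index_dvd_of_le hle
      rwa [hidx] at this
    exact Q.not_dvd_index h2
  obtain ⟨q, hqQ, hfq⟩ := hq
  refine ⟨(Q : Subgroup C).map C.subtype, Q.isPGroup'.map _, ?_, ?_⟩
  · rintro _ ⟨c, _, rfl⟩ h hh
    exact (hmemC c).mp c.2 h hh
  · set Qg : Subgroup (Perm α) := (Q : Subgroup C).map C.subtype with hQg
    have hPQ : Pg ≤ Qg := by
      intro g hg
      refine ⟨⟨g, hPC hg⟩, hQ ?_, rfl⟩
      exact Subgroup.mem_subgroupOf.mpr hg
    set Q0 : Subgroup (Perm α) := Qg ⊓ alternatingGroup α with hQ0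
    have h1 : Pg ≤ Q0 := le_inf hPQ hPalt
    have h2 : Q0 ≤ Qg := inf_le_left
    have h3 : Nat.card Q0 ≠ Nat.card Qg := by
      intro heq
      have := Subgroup.eq_of_le_of_card_ge h2 heq.ge
      have hqmem : (q : Perm α) ∈ Q0 := by
        rw [this]; exact ⟨q, hqQ, rfl⟩
      have hqalt : (q : Perm α) ∈ alternatingGroup α := hqmem.2
      rw [mem_alternatingGroup] at hqalt
      have : f q = 1 := hqalt
      rw [hfq] at this
      exact absurd this (by decide)
    have h4 : Nat.card Pg ≤ Nat.card Q0 := Subgroup.card_le_of_le h1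
    obtain ⟨k, hk⟩ := Subgroup.card_dvd_of_le h2
    have hpos : 0 < Nat.card Qg := Nat.card_pos
    have hk2 : 2 ≤ k := by
      rcases k with _ | _ | k
      · rw [mul_zero] at hk; omega
      · rw [zero_add, mul_one] at hk; exact absurd hk.symm h3
      · omega
    calc 2 * Nat.card Pg ≤ 2 * Nat.card Q0 := Nat.mul_le_mul_left 2 h4
      _ ≤ k * Nat.card Q0 := Nat.mul_le_mul_right _ hk2
      _ = Nat.card Qg := by rw [hk, mul_comm]

/-- the product of commuting nilpotent permutation groups of coprime orders is bounded by the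
general bound for nilpotent permutation groups -/
theorem card_mul_card_le (Qg Hg : Subgroup (Perm α)) (hQ : IsPGroup 2 Qg)
    [Group.IsNilpotent Hg] (hH : Odd (Nat.card Hg))
    (hcomm : ∀ q ∈ Qg, ∀ h ∈ Hg, q * h = h * q) :
    Nat.card Qg * Nat.card Hg ≤ nilTgt (Nat.card α) := by
  have : Fact (Nat.Prime 2) := ⟨Nat.prime_two⟩
  have : Group.IsNilpotent Qg := hQ.isNilpotent
  let φ : Qg × Hg →* Perm α :=
    MonoidHom.noncommCoprod Qg.subtype Hg.subtype (fun q h => hcomm q q.2 h h.2)
  have : Group.IsNilpotent φ.range :=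
    Group.nilpotent_of_surjective φ.rangeRestrict φ.rangeRestrict_surjective
  have hr : φ.range = Qg ⊔ Hg := by
    have := MonoidHom.noncommCoprod_range Qg.subtype Hg.subtype (fun q h => hcomm q q.2 h h.2)
    rw [Subgroup.range_subtype, Subgroup.range_subtype] at this
    exact this
  have hQle : Qg ≤ φ.range := by rw [hr]; exact le_sup_left
  have hHle : Hg ≤ φ.range := by rw [hr]; exact le_sup_right
  have h1 : Nat.card Qg ∣ Nat.card φ.range := Subgroup.card_dvd_of_le hQle
  have h2 : Nat.card Hg ∣ Nat.card φ.range := Subgroup.card_dvd_of_le hHle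
  obtain ⟨k, hk⟩ := hQ.exists_card_eq
  have hcop : Nat.Coprime (Nat.card Qg) (Nat.card Hg) := by
    rw [hk]
    apply Nat.Coprime.pow_left
    rw [Nat.coprime_two_left]
    exact hH
  have h3 : Nat.card Qg * Nat.card Hg ∣ Nat.card φ.range :=
    Nat.Coprime.mul_dvd_of_dvd_of_dvd hcop h1 h2
  have h4 : Nat.card φ.range ≤ nilTgt (Nat.card α) := card_le_nilTgt (N := φ.range) (α := α)
  exact (Nat.le_of_dvd Nat.card_pos h3).trans h4

/-- a nilpotent group of even permutations of even order on `n` points, `n ≢ 3 mod 4`, has order at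
most half the order of a Sylow 2-subgroup of `S_n` -/
theorem two_mul_card_le_of_even (M : Subgroup (Perm α)) [Group.IsNilpotent M]
    (halt : M ≤ alternatingGroup α) (heven : 2 ∣ Nat.card M) (hn : Nat.card α % 4 ≠ 3) :
    2 * Nat.card M ≤ sylTwo (Nat.card α) := by
  have : Fact (Nat.Prime 2) := ⟨Nat.prime_two⟩
  obtain ⟨P⟩ : Nonempty (Sylow 2 M) := inferInstance
  obtain ⟨H, hcard, hodd, hc⟩ := exists_hall_decomp P
  set Pg : Subgroup (Perm α) := (P : Subgroup M).map M.subtype with hPg
  set Hg : Subgroup (Perm α) := H.map M.subtype with hHg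
  have hinj : Function.Injective M.subtype := M.subtype_injective
  have hcP : Nat.card Pg = Nat.card (P : Subgroup M) := Subgroup.card_map_of_injective hinj
  have hcH : Nat.card Hg = Nat.card H := Subgroup.card_map_of_injective hinj
  have hP2 : IsPGroup 2 Pg := P.isPGroup'.map _
  have hoddg : Odd (Nat.card Hg) := by rw [hcH]; exact hodd
  have hcomm : ∀ g ∈ Pg, ∀ h ∈ Hg, g * h = h * g := by
    rintro _ ⟨u, hu, rfl⟩ _ ⟨h, hh, rfl⟩
    have := congrArg M.subtype (hc h hh u hu)
    rw [map_mul, map_mul] at this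
    exact this.symm
  have hPne : Pg ≠ ⊥ := by
    intro hbot
    have h1 : Nat.card Pg = 1 := by rw [hbot]; exact Subgroup.card_bot
    rw [hcP] at h1
    rw [← hcard, h1, one_mul] at heven
    rw [← even_iff_two_dvd] at heven
    exact (Nat.not_even_iff_odd.mpr hodd) heven
  have hPalt : Pg ≤ alternatingGroup α := (Subgroup.map_subtype_le _).trans halt
  have : Group.IsNilpotent Hg :=
    Group.nilpotent_of_surjective (M.subtype.subgroupMap H) (M.subtype.subgroupMap_surjective H)
  obtain ⟨g, hg, x, hgx⟩ := exists_moved_orbit Pg Hg hP2 hoddg hPne hcomm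
  have hoddorb : Odd (Nat.card (orbit Hg x)) := by
    have hdvd : Nat.card (orbit Hg x) ∣ Nat.card Hg := by
      rw [Nat.card_congr (MulAction.orbitEquivQuotientStabilizer Hg x)]
      exact Subgroup.index_dvd_card _
    exact hoddg.of_dvd_nat hdvd
  obtain ⟨τ, hτ, hsign⟩ := exists_odd_centralizing Hg g (hcomm g hg) x hoddorb hgx
  obtain ⟨Qg, hQ2, hQcomm, hQcard⟩ := exists_bigger_two_group Pg Hg hP2 hPalt hcomm τ hτ hsign
  have h5 := card_mul_card_le Qg Hg hQ2 hoddg hQcomm
  have h6 : nilTgt (Nat.card α) = sylTwo (Nat.card α) := by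
    unfold nilTgt
    rw [if_neg hn]
  rw [h6] at h5
  calc 2 * Nat.card M = 2 * Nat.card Pg * Nat.card Hg := by rw [← hcard, hcP, hcH, mul_assoc]
    _ ≤ Nat.card Qg * Nat.card Hg := Nat.mul_le_mul_right _ hQcard
    _ ≤ sylTwo (Nat.card α) := h5

end Cfsg.Agent.Lib.H25.NA
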