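import Mathlib
import Cfsg.Agent.Lib.H18.NilSym
import Cfsg.Agent.Lib.H25.NilAltNum

/-! helper25: nilpotent permutation groups of odd order are at most half a Sylow 2-subgroup. -/

set_option autoImplicit false

namespace Cfsg.Agent.Lib.H25.NA

open Nat MulAction Cfsg.Agent.Lib.H18

theorem nilBd_pos (m : ℕ) : 0 < nilBd m := by
  unfold nilBd
  apply Finset.prod_pos
  intro q hq
  unfold sylPP
  exact pow_pos (Nat.prime_of_mem_primeFactors hq).pos _

section transitive

variable {N α : Type*} [Group N] [Finite N] [MulAction N α]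

theorem card_le_nilBd_of_transitive [Group.IsNilpotent N] [FaithfulSMul N α]
    [IsPretransitive N α] [Finite α] [Nonempty α] : Nat.card N ≤ nilBd (Nat.card α) := by
  have h1 : Nat.card N ∣ nilBd (Nat.card α) :=
    dvd_nilBd Nat.card_pos.ne' (fun q hq => factorization_card_le_of_transitive q hq)
  exact Nat.le_of_dvd (nilBd_pos _) h1

end transitive

section general

variable {N α : Type*} [Group N] [MulAction N α]

/-- a nilpotent permutation group has order at most the product over its orbits of the bounds for
transitive nilpotent groups -/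
theorem card_le_prod_nilBd [Group.IsNilpotent N] [FaithfulSMul N α] [Finite α]
    [Fintype (orbitRel.Quotient N α)] :
    Nat.card N ≤ ∏ ω : orbitRel.Quotient N α, nilBd (Nat.card ω.orbit) := by
  classical
  let r : ∀ ω : orbitRel.Quotient N α, N →* Equiv.Perm ω.orbit :=
    fun ω => MulAction.toPermHom N ω.orbit
  have hR : ∀ ω : orbitRel.Quotient N α,
      Nat.card (r ω).range ≤ nilBd (Nat.card ω.orbit) := by
    intro ω
    have : Group.IsNilpotent (r ω).range :=
      Group.nilpotent_of_surjective (r ω).rangeRestrict (MonoidHom.rangeRestrict_surjective _)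
    have : Nonempty ω.orbit := (orbitRel.Quotient.nonempty_orbit ω).to_subtype
    have : IsPretransitive (r ω).range ω.orbit := by
      constructor
      intro a b
      obtain ⟨g, hg⟩ := MulAction.exists_smul_eq N a b
      exact ⟨⟨r ω g, ⟨g, rfl⟩⟩, hg⟩
    exact card_le_nilBd_of_transitive
  let f : N →* ∀ ω : orbitRel.Quotient N α, (r ω).range :=
    MonoidHom.pi (fun ω => (r ω).rangeRestrict)
  have hf : Function.Injective f := by
    rw [injective_iff_map_eq_one]
    intro g hg
    apply FaithfulSMul.eq_of_smul_eq_smul (α := α)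
    intro a
    rw [one_smul]
    set ω : orbitRel.Quotient N α := Quotient.mk'' a with hω
    have h1 := congrFun hg ω
    have ha : a ∈ ω.orbit := by
      rw [hω, orbitRel.Quotient.orbit_mk]; exact mem_orbit_self a
    have h2 := congrArg (fun σ : (r ω).range =>
      (((σ : Equiv.Perm ↥ω.orbit) (⟨a, ha⟩ : ↥ω.orbit) : ↥ω.orbit) : α)) h1
    simpa [f, r] using h2
  calc Nat.card N ≤ Nat.card (∀ ω : orbitRel.Quotient N α, (r ω).range) :=
        Nat.card_le_card_of_injective f hf
    _ = ∏ ω, Nat.card (r ω).range := Nat.card_pi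
    _ ≤ ∏ ω : orbitRel.Quotient N α, nilBd (Nat.card ω.orbit) :=
        Finset.prod_le_prod' (fun ω _ => hR ω)

/-- a nilpotent permutation group of odd order on `n` points, `n ≢ 3 mod 4`, `n ∉ {5, 6, 9}`,
`n ≥ 2`, has order at most half the order of a Sylow 2-subgroup of `S_n` -/
theorem two_mul_card_le_of_odd [Group.IsNilpotent N] [FaithfulSMul N α] [Finite α] [Finite N]
    (hodd : Odd (Nat.card N)) (h2 : 2 ≤ Nat.card α) (hn : Nat.card α % 4 ≠ 3)
    (h5 : Nat.card α ≠ 5) (h6 : Nat.card α ≠ 6) (h9 : Nat.card α ≠ 9) :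
    2 * Nat.card N ≤ sylTwo (Nat.card α) := by
  classical
  have : Fintype (orbitRel.Quotient N α) := Fintype.ofFinite _
  have h1 := card_le_prod_nilBd (N := N) (α := α)
  have hoddorb : ∀ ω : orbitRel.Quotient N α, Odd (Nat.card ω.orbit) := by
    intro ω
    induction ω using Quotient.inductionOn' with
    | h a =>
      rw [orbitRel.Quotient.orbit_mk]
      have hdvd : Nat.card (orbit N a) ∣ Nat.card N := by
        rw [Nat.card_congr (MulAction.orbitEquivQuotientStabilizer N a)]
        exact Subgroup.index_dvd_card _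
      exact hodd.of_dvd_nat hdvd
  have hsum : ∑ ω : orbitRel.Quotient N α, Nat.card ω.orbit = Nat.card α := by
    rw [← Nat.card_sigma, Nat.card_congr (selfEquivSigmaOrbits' N α)]
  have h3 := two_mul_prod_nilBd_le (fun ω : orbitRel.Quotient N α => Nat.card ω.orbit) hoddorb
    (Nat.card α) hsum h2 hn h5 h6 h9
  omega

end general

end Cfsg.Agent.Lib.H25.NA
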