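import Mathlib
import Cfsg.Agent.Lib.H18.NilSym
import Cfsg.Agent.Lib.H25.NilAlt3Num
import Cfsg.Agent.Lib.H25.NilAltOdd
import Cfsg.Agent.Lib.H25.NilAltEven

/-! helper25: nilpotent subgroups of `A_n`, `n ≡ 3 mod 4`: the bound. -/

set_option autoImplicit false

namespace Cfsg.Agent.Lib.H25.NA

open Equiv Equiv.Perm MulAction Cfsg.Agent.Lib.H18

section odd

variable {N α : Type*} [Group N] [MulAction N α]

theorem two_mul_card_le_of_odd_three [Group.IsNilpotent N] [FaithfulSMul N α] [Finite α]
    [Finite N] (hodd : Odd (Nat.card N)) (h7 : 7 ≤ Nat.card α) (hn : Nat.card α % 4 = 3) :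
    2 * Nat.card N ≤ 3 * sylTwo (Nat.card α - 3) := by
  classical
  have : Fintype (orbitRel.Quotient N α) := Fintype.ofFinite _
  have h1 := card_le_prod_nilBd (N := N) (α := α)
  have hoddorb : ∀ ω : orbitRel.Quotient N α, Odd (Nat.card ω.orbit) := by
    intro ω
    induction ω using Quotient.inductionOn' with
    | h a =>
      rw [orbitRel.Quotient.orbit_mk]
      have hdvd : Nat.card (orbit N a) ∣ Nat.card N := by
        rw [Nat.card_congr (MulAction.orbitEquivQuotientStabilizer N a)]
        exact Subgroup.index_dvd_card _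
      exact hodd.of_dvd_nat hdvd
  have hsum : ∑ ω : orbitRel.Quotient N α, Nat.card ω.orbit = Nat.card α := by
    rw [← Nat.card_sigma, Nat.card_congr (selfEquivSigmaOrbits' N α)]
  have h3 := two_mul_prod_nilBd_le_three (fun ω : orbitRel.Quotient N α => Nat.card ω.orbit)
    hoddorb (Nat.card α) hsum h7 hn
  omega

end odd

variable {α : Type*} [Fintype α] [DecidableEq α]

/-- a nilpotent group of even permutations of even order has order at most half the bound for
nilpotent subgroups of the symmetric group -/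
theorem two_mul_card_le_nilTgt_of_even (M : Subgroup (Perm α)) [Group.IsNilpotent M]
    (halt : M ≤ alternatingGroup α) (heven : 2 ∣ Nat.card M) :
    2 * Nat.card M ≤ nilTgt (Nat.card α) := by
  have : Fact (Nat.Prime 2) := ⟨Nat.prime_two⟩
  obtain ⟨P⟩ : Nonempty (Sylow 2 M) := inferInstance
  obtain ⟨H, hcard, hodd, hc⟩ := exists_hall_decomp P
  set Pg : Subgroup (Perm α) := (P : Subgroup M).map M.subtype with hPg
  set Hg : Subgroup (Perm α) := H.map M.subtype with hHg
  have hinj : Function.Injective M.subtype := M.subtype_injective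
  have hcP : Nat.card Pg = Nat.card (P : Subgroup M) := Subgroup.card_map_of_injective hinj
  have hcH : Nat.card Hg = Nat.card H := Subgroup.card_map_of_injective hinj
  have hP2 : IsPGroup 2 Pg := P.isPGroup'.map _
  have hoddg : Odd (Nat.card Hg) := by rw [hcH]; exact hodd
  have hcomm : ∀ g ∈ Pg, ∀ h ∈ Hg, g * h = h * g := by
    rintro _ ⟨u, hu, rfl⟩ _ ⟨h, hh, rfl⟩
    have := congrArg M.subtype (hc h hh u hu)
    rw [map_mul, map_mul] at this
    exact this.symm
  have hPne : Pg ≠ ⊥ := by
    intro hbot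
    have h1 : Nat.card Pg = 1 := by rw [hbot]; exact Subgroup.card_bot
    rw [hcP] at h1
    rw [← hcard, h1, one_mul] at heven
    rw [← even_iff_two_dvd] at heven
    exact (Nat.not_even_iff_odd.mpr hodd) heven
  have hPalt : Pg ≤ alternatingGroup α := (Subgroup.map_subtype_le _).trans halt
  have : Group.IsNilpotent Hg :=
    Group.nilpotent_of_surjective (M.subtype.subgroupMap H) (M.subtype.subgroupMap_surjective H)
  obtain ⟨g, hg, x, hgx⟩ := exists_moved_orbit Pg Hg hP2 hoddg hPne hcomm
  have hoddorb : Odd (Nat.card (orbit Hg x)) := by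
    have hdvd : Nat.card (orbit Hg x) ∣ Nat.card Hg := by
      rw [Nat.card_congr (MulAction.orbitEquivQuotientStabilizer Hg x)]
      exact Subgroup.index_dvd_card _
    exact hoddg.of_dvd_nat hdvd
  obtain ⟨τ, hτ, hsign⟩ := exists_odd_centralizing Hg g (hcomm g hg) x hoddorb hgx
  obtain ⟨Qg, hQ2, hQcomm, hQcard⟩ := exists_bigger_two_group Pg Hg hP2 hPalt hcomm τ hτ hsign
  have h5 := card_mul_card_le Qg Hg hQ2 hoddg hQcomm
  calc 2 * Nat.card M = 2 * Nat.card Pg * Nat.card Hg := by rw [← hcard, hcP, hcH, mul_assoc]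
    _ ≤ Nat.card Qg * Nat.card Hg := Nat.mul_le_mul_right _ hQcard
    _ ≤ nilTgt (Nat.card α) := h5

/-- every nilpotent group of even permutations of `Fin n`, `n ≡ 3 mod 4`, `7 ≤ n`, has order at
most `3 * sylTwo (n - 3) / 2` -/
theorem two_mul_card_le_of_alt_three (n : ℕ) (h7 : 7 ≤ n) (hn : n % 4 = 3)
    (M : Subgroup (Perm (Fin n))) [Group.IsNilpotent M]
    (halt : M ≤ alternatingGroup (Fin n)) : 2 * Nat.card M ≤ 3 * sylTwo (n - 3) := by
  have hc : Nat.card (Fin n) = n := Nat.card_fin n
  by_cases heven : 2 ∣ Nat.card M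
  · have := two_mul_card_le_nilTgt_of_even M halt heven
    rw [hc] at this
    unfold nilTgt at this
    rwa [if_pos hn] at this
  · have hodd : Odd (Nat.card M) := by
      rw [← Nat.not_even_iff_odd, even_iff_two_dvd]; exact heven
    have := two_mul_card_le_of_odd_three (N := M) (α := Fin n) hodd (by rw [hc]; exact h7)
      (by rw [hc]; exact hn)
    rwa [hc] at this

end Cfsg.Agent.Lib.H25.NA
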