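import Mathlib
import Cfsg.Agent.Lib.H18.NilSym
import Cfsg.Agent.Lib.H25.NilAlt3Num
import Cfsg.Agent.Lib.H25.NilAltEven

/-! helper25: the structure of nilpotent permutation groups of order `3 * 2 ^ j` with `2 ^ j` large:
`⟨z⟩ × T` with `z` a 3-cycle and `T` a 2-group fixing the support of `z` pointwise. -/

set_option autoImplicit false

namespace Cfsg.Agent.Lib.H25.NA

open Equiv Equiv.Perm MulAction Cfsg.Agent.Lib.H18

variable {α : Type*} [Fintype α] [DecidableEq α]

/-- a nilpotent group of order `3 * 2 ^ j` is the product of a 2-group and an element of order 3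
centralizing it -/
theorem exists_three_two_decomp (N : Subgroup (Perm α)) [Group.IsNilpotent N] (j : ℕ)
    (hcard : Nat.card N = 3 * 2 ^ j) :
    ∃ (z : Perm α) (T : Subgroup (Perm α)), z ∈ N ∧ orderOf z = 3 ∧ T ≤ N ∧
      Nat.card T = 2 ^ j ∧ (∀ t ∈ T, t * z = z * t) ∧ N = T ⊔ Subgroup.zpowers z := by
  have : Fact (Nat.Prime 2) := ⟨Nat.prime_two⟩
  have : Fact (Nat.Prime 3) := ⟨Nat.prime_three⟩
  obtain ⟨P⟩ : Nonempty (Sylow 2 N) := inferInstance
  obtain ⟨H, hPH, hodd, hc⟩ := exists_hall_decomp P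
  have hfac : (Nat.card N).factorization 2 = j := by
    rw [hcard, Nat.factorization_mul (by norm_num) (by positivity), Finsupp.add_apply,
      Nat.Prime.factorization_pow Nat.prime_two]
    have : (3 : ℕ).factorization 2 = 0 := by
      apply Nat.factorization_eq_zero_of_not_dvd; norm_num
    simp [this]
  have hP : Nat.card (P : Subgroup N) = 2 ^ j := by rw [P.card_eq_multiplicity, hfac]
  have hH : Nat.card H = 3 := by
    rw [hP, hcard, mul_comm] at hPH
    exact Nat.eq_of_mul_eq_mul_right (by positivity) hPH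
  obtain ⟨z, hz⟩ := exists_prime_orderOf_dvd_card' (G := H) 3 (by rw [hH])
  set zg : Perm α := ((z : N) : Perm α) with hzg
  have hzo : orderOf zg = 3 := by
    rw [hzg, Subgroup.orderOf_coe, Subgroup.orderOf_coe]; exact hz
  set T : Subgroup (Perm α) := (P : Subgroup N).map N.subtype with hT
  have hTN : T ≤ N := Subgroup.map_subtype_le _
  have hTc : Nat.card T = 2 ^ j := by
    rw [hT, Subgroup.card_map_of_injective N.subtype_injective, hP]
  have hzN : zg ∈ N := (z : N).2
  refine ⟨zg, T, hzN, hzo, hTN, hTc, ?_, ?_⟩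
  · rintro _ ⟨u, hu, rfl⟩
    have := congrArg N.subtype (hc (z : N) z.2 u hu)
    rw [map_mul, map_mul] at this
    exact this.symm
  · symm
    apply Subgroup.eq_of_le_of_card_ge
    · exact sup_le hTN ((Subgroup.zpowers_le).mpr hzN)
    · have h1 : Nat.card T ∣ Nat.card (T ⊔ Subgroup.zpowers zg : Subgroup (Perm α)) :=
        Subgroup.card_dvd_of_le le_sup_left
      have h2 : Nat.card (Subgroup.zpowers zg) ∣
          Nat.card (T ⊔ Subgroup.zpowers zg : Subgroup (Perm α)) :=
        Subgroup.card_dvd_of_le le_sup_right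
      rw [Nat.card_zpowers, hzo] at h2
      rw [hTc] at h1
      have hcop : Nat.Coprime 3 (2 ^ j) := by
        apply Nat.Coprime.pow_right; norm_num
      have h3 := Nat.Coprime.mul_dvd_of_dvd_of_dvd hcop h2 h1
      rw [hcard]
      exact Nat.le_of_dvd Nat.card_pos h3

/-- an element of order 3 centralized by a large 2-group is a 3-cycle -/
theorem isThreeCycle_of_centralized (z : Perm α) (hz : orderOf z = 3) (T : Subgroup (Perm α))
    (j : ℕ) (hT : Nat.card T = 2 ^ j) (hcomm : ∀ t ∈ T, t * z = z * t)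
    (hn : Fintype.card α % 4 = 3) (hj : sylTwo (Fintype.card α - 3) ≤ 2 * 2 ^ j) :
    z.IsThreeCycle := by
  obtain ⟨c, hc⟩ := cycleType_prime_order (σ := z) (by rw [hz]; norm_num)
  rw [hz] at hc
  have hle : T ≤ Subgroup.centralizer {z} := by
    intro t ht
    rw [Subgroup.mem_centralizer_iff]
    intro h hh
    rw [Set.mem_singleton_iff] at hh
    rw [hh]
    exact (hcomm t ht).symm
  have hdvd : Nat.card T ∣ Nat.card (Subgroup.centralizer {z}) := Subgroup.card_dvd_of_le hle
  rw [nat_card_centralizer z, hc, hT] at hdvd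
  have hsum : (Multiset.replicate (c + 1) 3).sum = 3 * (c + 1) := by
    rw [Multiset.sum_replicate]; simp [mul_comm]
  have hprod : (Multiset.replicate (c + 1) 3).prod = 3 ^ (c + 1) := Multiset.prod_replicate _ _
  have hfin : (Multiset.replicate (c + 1) 3).toFinset = {3} := by
    rw [Multiset.toFinset_replicate]; simp
  rw [hsum, hprod, hfin, Finset.prod_singleton, Multiset.count_replicate_self] at hdvd
  have h3c : 3 * (c + 1) ≤ Fintype.card α := by
    have := sum_cycleType_le z
    rwa [hc, hsum] at this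
  have hc0 : c = 0 := cycles_eq_zero (Fintype.card α) c j hn h3c hdvd hj
  rw [hc0] at hc
  exact hc

/-- an element of 2-power order commuting with a 3-cycle fixes its support pointwise -/
theorem fixes_support_of_two_pow (z : Perm α) (hz : z.IsThreeCycle) (t : Perm α)
    (ht : t * z = z * t) (k : ℕ) (htk : t ^ (2 ^ k) = 1) (x : α) (hx : z x ≠ x) : t x = x := by
  have hcyc : IsCycle z := hz.isCycle
  have hcomm : ∀ y, t (z y) = z (t y) := by
    intro y
    have := congrArg (fun σ : Perm α => σ y) ht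
    simpa using this
  have htx : z (t x) ≠ t x := by
    rw [← hcomm]
    exact fun h => hx (t.injective h)
  obtain ⟨i, hi⟩ := hcyc.exists_pow_eq hx htx
  have hcommpow : ∀ m : ℕ, ∀ y, t ((z ^ m) y) = (z ^ m) (t y) := by
    intro m
    induction m with
    | zero => intro y; simp
    | succ m ih =>
      intro y
      rw [pow_succ, Perm.mul_apply, ih, hcomm, ← Perm.mul_apply, ← pow_succ]
  have hpow : ∀ m : ℕ, (t ^ m) x = (z ^ (i * m)) x := by
    intro m
    induction m with
    | zero => simp
    | succ m ih =>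
      rw [pow_succ', Perm.mul_apply, ih, hcommpow, ← hi, ← Perm.mul_apply, ← pow_add]
      congr 2
  have h1 : (z ^ (i * 2 ^ k)) x = x := by
    rw [← hpow, htk]; rfl
  have h2 : z ^ (i * 2 ^ k) = 1 := (hcyc.pow_eq_one_iff' hx).mpr h1
  have h3 : orderOf z ∣ i * 2 ^ k := orderOf_dvd_of_pow_eq_one h2
  rw [hz.orderOf] at h3
  have hcop : Nat.Coprime 3 (2 ^ k) := by
    apply Nat.Coprime.pow_right; norm_num
  have h4 : 3 ∣ i := hcop.dvd_of_dvd_mul_right h3
  have h5 : z ^ i = 1 := by
    rw [← hz.orderOf] at h4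
    exact orderOf_dvd_iff_pow_eq_one.mp h4
  rw [← hi, h5]; rfl

end Cfsg.Agent.Lib.H25.NA
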