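import Mathlib
import Cfsg.Agent.Lib.H18.NilSym
import Cfsg.Agent.Lib.H25.NilAlt3Struct

/-! helper25: conjugacy of the groups `⟨z⟩ × T`, `z` a 3-cycle, `T` a Sylow 2-subgroup of the
pointwise stabilizer of the support of `z` (in `S_n` or in `A_n`). -/

set_option autoImplicit false

namespace Cfsg.Agent.Lib.H25.NA

open Equiv Equiv.Perm MulAction Cfsg.Agent.Lib.H18

/-- two subgroups of Sylow order are conjugate -/
theorem exists_conj_of_card {p : ℕ} [Fact p.Prime] {G : Type*} [Group G] [Finite G]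
    (H₁ H₂ : Subgroup G) (h₁ : Nat.card H₁ = p ^ (Nat.card G).factorization p)
    (h₂ : Nat.card H₂ = p ^ (Nat.card G).factorization p) :
    ∃ g : G, H₂ = H₁.map (MulAut.conj g).toMonoidHom := by
  obtain ⟨g, hg⟩ := MulAction.exists_smul_eq G (Sylow.ofCard H₁ h₁) (Sylow.ofCard H₂ h₂)
  refine ⟨g, ?_⟩
  have : ((Sylow.ofCard H₂ h₂ : Sylow p G) : Subgroup G) =
      ((Sylow.ofCard H₁ h₁ : Sylow p G) : Subgroup G).map (MulAut.conj g).toMonoidHom := by
    rw [← hg]
    rfl
  simpa using this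

variable {α : Type*} [Fintype α] [DecidableEq α]

/-- the permutations fixing the support of `z` pointwise -/
def fixSub (z : Perm α) : Subgroup (Perm α) :=
  (ofSubtype : Perm {x // z x = x} →* Perm α).range

theorem mem_fixSub (z σ : Perm α) : σ ∈ fixSub z ↔ ∀ x, z x ≠ x → σ x = x := by
  unfold fixSub
  rw [mem_range_ofSubtype_iff]
  constructor
  · intro h x hx
    by_contra hσ
    have : x ∈ (σ.support : Set α) := by
      rw [Finset.mem_coe, mem_support]; exact hσ
    exact hx (h this)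
  · intro h x hx
    rw [Finset.mem_coe, mem_support] at hx
    by_contra hz
    exact hx (h x hz)

theorem card_fixSub (z : Perm α) :
    Nat.card (fixSub z) = (Fintype.card α - z.support.card).factorial := by
  unfold fixSub
  rw [Nat.card_congr (MonoidHom.ofInjective (f := (ofSubtype : Perm {x // z x = x} →* Perm α))
    ofSubtype_injective).toEquiv.symm, Nat.card_perm]
  congr 1
  have := card_fixedPoints z
  rw [sum_cycleType] at this
  rw [← this, Nat.card_eq_fintype_card]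
  rfl

theorem card_fixSub_inf_alt (z : Perm α) :
    Nat.card (fixSub z ⊓ alternatingGroup α : Subgroup (Perm α)) =
      Nat.card (alternatingGroup {x // z x = x}) := by
  have heq : (fixSub z ⊓ alternatingGroup α : Subgroup (Perm α)) =
      (alternatingGroup {x // z x = x}).map
        (ofSubtype : Perm {x // z x = x} →* Perm α) := by
    ext σ
    rw [Subgroup.mem_inf, Subgroup.mem_map, mem_alternatingGroup]
    constructor
    · rintro ⟨⟨τ, rfl⟩, h2⟩
      refine ⟨τ, ?_, rfl⟩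
      rw [mem_alternatingGroup]
      rwa [sign_ofSubtype] at h2
    · rintro ⟨τ, hτ, rfl⟩
      refine ⟨⟨τ, rfl⟩, ?_⟩
      rw [mem_alternatingGroup] at hτ
      rwa [sign_ofSubtype]
  rw [heq, Subgroup.card_map_of_injective ofSubtype_injective]

theorem commute_of_mem_fixSub {z k : Perm α} (hk : k ∈ fixSub z) : k * z = z * k := by
  have hd : Perm.Disjoint k z := by
    intro x
    by_cases hx : z x = x
    · exact Or.inr hx
    · exact Or.inl ((mem_fixSub z k).mp hk x hx)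
  exact hd.commute.eq

/-- the conjugacy lemma, relative to a subgroup `G` of the symmetric group -/
theorem conj_of_decomp (G : Subgroup (Perm α)) (j : ℕ)
    (hthree : ∀ z₁ z₂ : Perm α, z₁ ∈ G → z₂ ∈ G → z₁.IsThreeCycle → z₂.IsThreeCycle →
      ∃ g ∈ G, g * z₁ * g⁻¹ = z₂)
    (hval : ∀ z : Perm α, z.IsThreeCycle →
      (Nat.card (fixSub z ⊓ G : Subgroup (Perm α))).factorization 2 = j)
    (z₁ z₂ : Perm α) (T₁ T₂ : Subgroup (Perm α)) (hz₁ : z₁.IsThreeCycle) (hz₂ : z₂.IsThreeCycle)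
    (hz₁G : z₁ ∈ G) (hz₂G : z₂ ∈ G) (hT₁G : T₁ ≤ G) (hT₂G : T₂ ≤ G)
    (hT₁ : T₁ ≤ fixSub z₁) (hT₂ : T₂ ≤ fixSub z₂)
    (hc₁ : Nat.card T₁ = 2 ^ j) (hc₂ : Nat.card T₂ = 2 ^ j) :
    ∃ g ∈ G, T₂ ⊔ Subgroup.zpowers z₂ =
      (T₁ ⊔ Subgroup.zpowers z₁).map (MulAut.conj g).toMonoidHom := by
  have : Fact (Nat.Prime 2) := ⟨Nat.prime_two⟩
  obtain ⟨g, hgG, hg⟩ := hthree z₁ z₂ hz₁G hz₂G hz₁ hz₂
  set T₁' : Subgroup (Perm α) := T₁.map (MulAut.conj g).toMonoidHom with hT₁'
  set KG : Subgroup (Perm α) := fixSub z₂ ⊓ G with hKG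
  have hT₁'K : T₁' ≤ KG := by
    rintro _ ⟨t, ht, rfl⟩
    rw [hKG, Subgroup.mem_inf]
    refine ⟨?_, ?_⟩
    · rw [mem_fixSub]
      intro x hx
      have hy : z₁ (g⁻¹ x) ≠ g⁻¹ x := by
        intro h
        apply hx
        rw [← hg]
        simp only [Perm.mul_apply]
        rw [h]; simp
      have h1 : t (g⁻¹ x) = g⁻¹ x := (mem_fixSub z₁ t).mp (hT₁ ht) _ hy
      show (g * t * g⁻¹) x = x
      simp only [Perm.mul_apply]
      rw [h1]; simp
    · exact G.mul_mem (G.mul_mem hgG (hT₁G ht)) (G.inv_mem hgG)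
  have hT₂K : T₂ ≤ KG := le_inf hT₂ hT₂G
  have hc₁' : Nat.card T₁' = 2 ^ j := by
    rw [hT₁', Subgroup.card_map_of_injective (MulAut.conj g).injective, hc₁]
  have hv := hval z₂ hz₂
  have hs₁ : Nat.card (T₁'.subgroupOf KG) = 2 ^ (Nat.card KG).factorization 2 := by
    rw [Nat.card_congr (Subgroup.subgroupOfEquivOfLe hT₁'K).toEquiv, hc₁', hv]
  have hs₂ : Nat.card (T₂.subgroupOf KG) = 2 ^ (Nat.card KG).factorization 2 := by
    rw [Nat.card_congr (Subgroup.subgroupOfEquivOfLe hT₂K).toEquiv, hc₂, hv]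
  obtain ⟨k, hk⟩ := exists_conj_of_card _ _ hs₁ hs₂
  -- push forward to `Perm α`
  have hk' : T₂ = T₁'.map (MulAut.conj (k : Perm α)).toMonoidHom := by
    have h1 := congrArg (Subgroup.map KG.subtype) hk
    rw [Subgroup.map_subgroupOf_eq_of_le hT₂K, Subgroup.map_map] at h1
    have h2 : KG.subtype.comp (MulAut.conj k).toMonoidHom =
        (MulAut.conj (k : Perm α)).toMonoidHom.comp KG.subtype := by
      ext1 x
      simp
    rw [h2, ← Subgroup.map_map, Subgroup.map_subgroupOf_eq_of_le hT₁'K] at h1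
    exact h1
  have hkK : (k : Perm α) ∈ KG := k.2
  have hkz : (k : Perm α) * z₂ = z₂ * (k : Perm α) := commute_of_mem_fixSub hkK.1
  refine ⟨(k : Perm α) * g, G.mul_mem hkK.2 hgG, ?_⟩
  rw [Subgroup.map_sup, MonoidHom.map_zpowers]
  have e1 : (MulAut.conj ((k : Perm α) * g)).toMonoidHom z₁ = z₂ := by
    show (k : Perm α) * g * z₁ * ((k : Perm α) * g)⁻¹ = z₂
    rw [mul_inv_rev]
    calc (k : Perm α) * g * z₁ * (g⁻¹ * (k : Perm α)⁻¹)
        = (k : Perm α) * (g * z₁ * g⁻¹) * (k : Perm α)⁻¹ := by group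
      _ = z₂ := by rw [hg, hkz, mul_inv_cancel_right]
  have e2 : T₁.map (MulAut.conj ((k : Perm α) * g)).toMonoidHom = T₂ := by
    have e3 : (MulAut.conj ((k : Perm α) * g)).toMonoidHom =
        (MulAut.conj (k : Perm α)).toMonoidHom.comp (MulAut.conj g).toMonoidHom := by
      ext1 x
      simp [mul_assoc]
    rw [hk', hT₁', Subgroup.map_map, e3]
  rw [e1, e2]

end Cfsg.Agent.Lib.H25.NA
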