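import Mathlib
import Cfsg.Agent.Lib.H18.NilSym

/-! helper25: the nilpotent subgroups `P × Z_3` of `S_n` and `A_n`, `P` a Sylow 2-subgroup of
`S_{n-3}` resp. `A_{n-3}`. -/

set_option autoImplicit false

namespace Cfsg.Agent.Lib.H25.NA

open Equiv Equiv.Perm

/-- the standard embedding `S_{n-3} × S_3 → S_n` -/
noncomputable def embHom (n : ℕ) (hn : 3 ≤ n) :
    Perm (Fin (n - 3)) × Perm (Fin 3) →* Perm (Fin n) :=
  ((finSumFinEquiv.trans (finCongr (by omega : n - 3 + 3 = n))).permCongrHom).toMonoidHom.comp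
    (sumCongrHom (Fin (n - 3)) (Fin 3))

theorem embHom_injective (n : ℕ) (hn : 3 ≤ n) : Function.Injective (embHom n hn) := by
  unfold embHom
  rw [MonoidHom.coe_comp]
  exact (MulEquiv.injective
    ((finSumFinEquiv.trans (finCongr (by omega : n - 3 + 3 = n))).permCongrHom)).comp
    sumCongrHom_injective

theorem sign_embHom (n : ℕ) (hn : 3 ≤ n) (x : Perm (Fin (n - 3)) × Perm (Fin 3)) :
    sign (embHom n hn x) = sign x.1 * sign x.2 := by
  unfold embHom
  simp only [MonoidHom.comp_apply, MulEquiv.coe_toMonoidHom, Equiv.permCongrHom_coe]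
  rw [sign_permCongr]
  exact sign_sumCongr _ _

theorem card_alt_three : Nat.card (alternatingGroup (Fin 3)) = 3 := by
  have h := two_mul_nat_card_alternatingGroup (α := Fin 3)
  rw [Nat.card_perm, Nat.card_fin] at h
  have : (3 : ℕ).factorial = 6 := by decide
  omega

theorem card_zmod_three : Nat.card (Multiplicative (ZMod 3)) = 3 := by
  rw [Nat.card_eq_fintype_card, Fintype.card_multiplicative, ZMod.card]

/-- images of products under injective homomorphisms -/
noncomputable def prodImageEquiv {A B C : Type*} [Group A] [Group B] [Group C] (φ : A × B →* C)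
    (hφ : Function.Injective φ) (P : Subgroup A) (Z : Subgroup B) :
    ((P.prod Z).map φ) ≃* P × Z :=
  ((P.prod Z).equivMapOfInjective φ hφ).symm.trans (P.prodEquiv Z)

/-- a 2-group times `A_3` inside `S_n` -/
theorem exists_prod_three (n : ℕ) (hn : 3 ≤ n) (P : Subgroup (Perm (Fin (n - 3))))
    (hP : IsPGroup 2 P) :
    ∃ M : Subgroup (Perm (Fin n)), Group.IsNilpotent M ∧ Nat.card M = 3 * Nat.card P ∧
      Nonempty (M ≃* (P × Multiplicative (ZMod 3))) ∧
      (P ≤ alternatingGroup (Fin (n - 3)) → M ≤ alternatingGroup (Fin n)) := by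
  have : Fact (Nat.Prime 2) := ⟨Nat.prime_two⟩
  have : Fact (Nat.Prime 3) := ⟨Nat.prime_three⟩
  set Z : Subgroup (Perm (Fin 3)) := alternatingGroup (Fin 3) with hZ
  set M : Subgroup (Perm (Fin n)) := (P.prod Z).map (embHom n hn) with hM
  have e1 : M ≃* P × Z := prodImageEquiv (embHom n hn) (embHom_injective n hn) P Z
  have e2 : Z ≃* Multiplicative (ZMod 3) := mulEquivOfPrimeCardEq card_alt_three card_zmod_three
  have e3 : M ≃* P × Multiplicative (ZMod 3) := e1.trans (MulEquiv.prodCongr (MulEquiv.refl P) e2)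
  have hnilP : Group.IsNilpotent P := hP.isNilpotent
  have hnilZ : Group.IsNilpotent (Multiplicative (ZMod 3)) := inferInstance
  have hnil : Group.IsNilpotent M := Group.nilpotent_of_mulEquiv e3.symm
  refine ⟨M, hnil, ?_, ⟨e3⟩, ?_⟩
  · rw [Nat.card_congr e3.toEquiv, Nat.card_prod, card_zmod_three, mul_comm]
  · intro hPalt
    rintro _ ⟨⟨p, q⟩, ⟨hp, hq⟩, rfl⟩
    rw [mem_alternatingGroup, sign_embHom]
    have h1 : sign p = 1 := mem_alternatingGroup.mp (hPalt hp)
    have h2 : sign q = 1 := mem_alternatingGroup.mp hq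
    simp [h1, h2]

end Cfsg.Agent.Lib.H25.NA
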