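import Mathlib
import Cfsg.Agent.Lib.H18.NilSym
import Cfsg.Agent.Lib.H25.NilAltOdd
import Cfsg.Agent.Lib.H25.NilAltEven

/-! helper25: order of a Sylow 2-subgroup of `A_n`, and the bound for nilpotent subgroups of `A_n`
in terms of `sylTwo`. -/

set_option autoImplicit false

namespace Cfsg.Agent.Lib.H25.NA

open Equiv Equiv.Perm MulAction Cfsg.Agent.Lib.H18

theorem two_mul_card_sylow_alt (n : ℕ) (h2 : 2 ≤ n) (P : Sylow 2 (alternatingGroup (Fin n))) :
    2 * Nat.card P = sylTwo n := by
  have : Nontrivial (Fin n) := Fin.nontrivial_iff_two_le.mpr h2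
  have h1 : 2 * Nat.card (alternatingGroup (Fin n)) = n.factorial := by
    rw [two_mul_nat_card_alternatingGroup, Nat.card_perm, Nat.card_fin]
  have ha : Nat.card (alternatingGroup (Fin n)) ≠ 0 := Nat.card_pos.ne'
  rw [P.card_eq_multiplicity]
  unfold sylTwo
  rw [← h1, Nat.factorization_mul two_ne_zero ha, Finsupp.add_apply,
    Nat.prime_two.factorization_self, pow_add, pow_one]

/-- every nilpotent group of even permutations of `Fin n`, `n ≢ 3 mod 4`, `n ∉ {5, 6, 9}`,
`2 ≤ n`, has order at most `sylTwo n / 2` -/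
theorem two_mul_card_le_of_alt (n : ℕ) (h2 : 2 ≤ n) (hn : n % 4 ≠ 3)
    (h5 : n ≠ 5) (h6 : n ≠ 6) (h9 : n ≠ 9)
    (M : Subgroup (Perm (Fin n))) [Group.IsNilpotent M]
    (halt : M ≤ alternatingGroup (Fin n)) : 2 * Nat.card M ≤ sylTwo n := by
  have hc : Nat.card (Fin n) = n := Nat.card_fin n
  by_cases heven : 2 ∣ Nat.card M
  · have := two_mul_card_le_of_even M halt heven (by rw [hc]; exact hn)
    rwa [hc] at this
  · have hodd : Odd (Nat.card M) := by
      rw [← Nat.not_even_iff_odd, even_iff_two_dvd]; exact heven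
    have := two_mul_card_le_of_odd (N := M) (α := Fin n) hodd (by rw [hc]; exact h2)
      (by rw [hc]; exact hn) (by rw [hc]; exact h5) (by rw [hc]; exact h6) (by rw [hc]; exact h9)
    rwa [hc] at this

end Cfsg.Agent.Lib.H25.NA
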