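import Mathlib
import Cfsg.Agent.Lib.H18.NilSym
import Cfsg.Agent.Lib.H25.NilAlt3Conj
import Cfsg.Agent.Lib.H25.NilAltSyl

/-! helper25: conjugacy of the largest nilpotent subgroups of `S_n` and `A_n`, `n ≡ 3 mod 4`. -/

set_option autoImplicit false

namespace Cfsg.Agent.Lib.H25.NA

open Equiv Equiv.Perm MulAction Cfsg.Agent.Lib.H18

variable {α : Type*} [Fintype α] [DecidableEq α]

/-- the structure of a large nilpotent group of order `3 * 2 ^ j` -/
theorem exists_struct (N : Subgroup (Perm α)) [Group.IsNilpotent N] (j : ℕ)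
    (hcard : Nat.card N = 3 * 2 ^ j) (hn : Fintype.card α % 4 = 3)
    (hj : sylTwo (Fintype.card α - 3) ≤ 2 * 2 ^ j) :
    ∃ (z : Perm α) (T : Subgroup (Perm α)), z.IsThreeCycle ∧ z ∈ N ∧ T ≤ N ∧ T ≤ fixSub z ∧
      Nat.card T = 2 ^ j ∧ N = T ⊔ Subgroup.zpowers z := by
  obtain ⟨z, T, hzN, hzo, hTN, hTc, hcomm, hN⟩ := exists_three_two_decomp N j hcard
  have hz3 : z.IsThreeCycle := isThreeCycle_of_centralized z hzo T j hTc hcomm hn hj
  refine ⟨z, T, hz3, hzN, hTN, ?_, hTc, hN⟩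
  intro t ht
  rw [mem_fixSub]
  intro x hx
  have h1 : t ^ (2 ^ j) = 1 := by
    have h2 := pow_card_eq_one' (G := T) (x := ⟨t, ht⟩)
    rw [hTc] at h2
    have h3 := congrArg Subtype.val h2
    simpa using h3
  exact fixes_support_of_two_pow z hz3 t (hcomm t ht) j h1 x hx

theorem card_fix_three (z : Perm α) (hz : z.IsThreeCycle) :
    Fintype.card {x // z x = x} = Fintype.card α - 3 := by
  have := card_fixedPoints z
  rw [sum_cycleType, hz.card_support] at this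
  rw [← this]
  rfl

/-- conjugacy in the symmetric group -/
theorem conj_sym (N₁ N₂ : Subgroup (Perm α)) [Group.IsNilpotent N₁] [Group.IsNilpotent N₂]
    (hn : Fintype.card α % 4 = 3)
    (h₁ : Nat.card N₁ = 3 * sylTwo (Fintype.card α - 3))
    (h₂ : Nat.card N₂ = 3 * sylTwo (Fintype.card α - 3)) :
    ∃ g : Perm α, N₂ = N₁.map (MulAut.conj g).toMonoidHom := by
  set j := ((Fintype.card α - 3).factorial).factorization 2 with hj
  have hs : sylTwo (Fintype.card α - 3) = 2 ^ j := rfl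
  rw [hs] at h₁ h₂
  have hle : sylTwo (Fintype.card α - 3) ≤ 2 * 2 ^ j := by rw [hs]; omega
  obtain ⟨z₁, T₁, hz₁, hz₁N, hT₁N, hT₁f, hT₁c, hN₁⟩ := exists_struct N₁ j h₁ hn hle
  obtain ⟨z₂, T₂, hz₂, hz₂N, hT₂N, hT₂f, hT₂c, hN₂⟩ := exists_struct N₂ j h₂ hn hle
  have hthree : ∀ z₁ z₂ : Perm α, z₁ ∈ (⊤ : Subgroup (Perm α)) → z₂ ∈ (⊤ : Subgroup (Perm α)) →
      z₁.IsThreeCycle → z₂.IsThreeCycle → ∃ g ∈ (⊤ : Subgroup (Perm α)), g * z₁ * g⁻¹ = z₂ := by
    intro z₁ z₂ _ _ h1 h2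
    have hc : IsConj z₁ z₂ := isConj_iff_cycleType_eq.mpr (h1.trans h2.symm)
    obtain ⟨c, hc⟩ := isConj_iff.mp hc
    exact ⟨c, Subgroup.mem_top _, hc⟩
  have hval : ∀ z : Perm α, z.IsThreeCycle →
      (Nat.card (fixSub z ⊓ ⊤ : Subgroup (Perm α))).factorization 2 = j := by
    intro z hz
    rw [inf_top_eq, card_fixSub, hz.card_support]
  obtain ⟨g, _, hg⟩ := conj_of_decomp ⊤ j hthree hval z₁ z₂ T₁ T₂ hz₁ hz₂ (Subgroup.mem_top _)
    (Subgroup.mem_top _) le_top le_top hT₁f hT₂f hT₁c hT₂c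
  exact ⟨g, by rw [hN₂, hN₁]; exact hg⟩

/-- the order of the alternating group on the fixed points of a 3-cycle -/
theorem two_mul_card_alt_fix (z : Perm α) (hz : z.IsThreeCycle) (h5 : 5 ≤ Fintype.card α) :
    2 * Nat.card (alternatingGroup {x // z x = x}) = (Fintype.card α - 3).factorial := by
  have hc := card_fix_three z hz
  have : Nontrivial {x // z x = x} := by
    rw [← Fintype.one_lt_card_iff_nontrivial, hc]; omega
  rw [two_mul_nat_card_alternatingGroup, Nat.card_perm, Nat.card_eq_fintype_card, hc]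

/-- conjugacy in the alternating group -/
theorem conj_alt (N₁ N₂ : Subgroup (Perm α)) [Group.IsNilpotent N₁] [Group.IsNilpotent N₂]
    (hN₁A : N₁ ≤ alternatingGroup α) (hN₂A : N₂ ≤ alternatingGroup α)
    (hn : Fintype.card α % 4 = 3) (h7 : 7 ≤ Fintype.card α) (c : ℕ)
    (hc : 2 * c = sylTwo (Fintype.card α - 3))
    (h₁ : Nat.card N₁ = 3 * c) (h₂ : Nat.card N₂ = 3 * c) :
    ∃ g ∈ alternatingGroup α, N₂ = N₁.map (MulAut.conj g).toMonoidHom := by
  set J := ((Fintype.card α - 3).factorial).factorization 2 with hJ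
  have hs : sylTwo (Fintype.card α - 3) = 2 ^ J := rfl
  have hJ1 : 1 ≤ J := by
    rcases Nat.eq_zero_or_pos J with h0 | h0
    · rw [hs, h0] at hc; omega
    · exact h0
  obtain ⟨j, hjJ⟩ : ∃ j, J = j + 1 := ⟨J - 1, by omega⟩
  have hcj : c = 2 ^ j := by
    rw [hs, hjJ, pow_succ] at hc; omega
  rw [hcj] at h₁ h₂
  have hle : sylTwo (Fintype.card α - 3) ≤ 2 * 2 ^ j := by rw [hs, hjJ, pow_succ]; omega
  obtain ⟨z₁, T₁, hz₁, hz₁N, hT₁N, hT₁f, hT₁c, hN₁⟩ := exists_struct N₁ j h₁ hn hle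
  obtain ⟨z₂, T₂, hz₂, hz₂N, hT₂N, hT₂f, hT₂c, hN₂⟩ := exists_struct N₂ j h₂ hn hle
  have hthree : ∀ z₁ z₂ : Perm α, z₁ ∈ alternatingGroup α → z₂ ∈ alternatingGroup α →
      z₁.IsThreeCycle → z₂.IsThreeCycle → ∃ g ∈ alternatingGroup α, g * z₁ * g⁻¹ = z₂ := by
    intro z₁ z₂ hz₁A hz₂A h1 h2
    have hc : IsConj (⟨z₁, hz₁A⟩ : alternatingGroup α) ⟨z₂, hz₂A⟩ :=
      alternatingGroup.isThreeCycle_isConj (by rw [Nat.card_eq_fintype_card]; omega) h1 h2
    obtain ⟨c, hc⟩ := isConj_iff.mp hc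
    refine ⟨c, c.2, ?_⟩
    have := congrArg Subtype.val hc
    simpa using this
  have hval : ∀ z : Perm α, z.IsThreeCycle →
      (Nat.card (fixSub z ⊓ alternatingGroup α : Subgroup (Perm α))).factorization 2 = j := by
    intro z hz
    rw [card_fixSub_inf_alt]
    have h2 := two_mul_card_alt_fix z hz (by omega)
    have h3 : ((Fintype.card α - 3).factorial).factorization 2 = j + 1 := by rw [← hJ, hjJ]
    rw [← h2, Nat.factorization_mul two_ne_zero Nat.card_pos.ne', Finsupp.add_apply,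
      Nat.prime_two.factorization_self] at h3
    omega
  obtain ⟨g, hgA, hg⟩ := conj_of_decomp (alternatingGroup α) j hthree hval z₁ z₂ T₁ T₂ hz₁ hz₂
    (hN₁A hz₁N) (hN₂A hz₂N) (hT₁N.trans hN₁A) (hT₂N.trans hN₂A) hT₁f hT₂f hT₁c hT₂c
  exact ⟨g, hgA, by rw [hN₂, hN₁]; exact hg⟩

end Cfsg.Agent.Lib.H25.NA
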