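/-
Copyright (c) helper25.

Inductive form of the criterion for a subgroup to be normal in a saturated fusion system
(AKO Proposition I.4.5 via the inductive Alperin--Goldschmidt theorem).
-/
import Cfsg.Agent.Lib.H25.Normal
import Cfsg.Agent.Lib.H25.AlperinInd

set_option autoImplicit false

namespace Cfsg.Agent.Lib.H25

open Cfsg Cfsg.FusionSystem

variable {Ω : Type*} [Group Ω] {S : Subgroup Ω}

/-- Inductive version of `isNormal_of_essential`: when checking invariance of `Q` under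
`Aut_F(T)` (`T = S` or essential), one may assume that every isomorphism of `F` whose source
contains `Q` and has order larger than `|T|` maps `Q` into `Q`. -/
theorem isNormal_of_essential_ind [Finite S] {p : ℕ} [Fact p.Prime] (hS : IsPGroup p S)
    {F : FusionSystem S} (hF : F.IsSaturated p) {Q : Subgroup Ω}
    (h : ∀ T : Subgroup Ω, (T = S ∨ F.IsEssential p T) →
      (∀ (Q' Q'' : Subgroup Ω) (k : Ω → Ω), Nat.card T < Nat.card Q' → Q ≤ Q' →
        IsIso F Q' Q'' k → ∀ x ∈ Q, k x ∈ Q) →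
      Q ≤ T ∧ ∀ α ∈ F.autGroup T, ∀ x : T, (x : Ω) ∈ Q → ((α x : T) : Ω) ∈ Q) :
    F.IsNormal Q := by
  have hvac : ∀ (Q' Q'' : Subgroup Ω) (k : Ω → Ω), Nat.card S < Nat.card Q' → Q ≤ Q' →
      IsIso F Q' Q'' k → ∀ x ∈ Q, k x ∈ Q := by
    intro Q' Q'' k hlt _ hk
    have := Subgroup.card_le_of_le hk.le_left
    omega
  have hQS : Q ≤ S := (h S (Or.inl rfl) hvac).1
  have hconj : ∀ g ∈ S, ∀ x ∈ Q, g * x * g⁻¹ ∈ Q := by
    intro g hg x hx
    obtain ⟨α, hα, hαg⟩ := exists_conj_mem_autGroup_top F hg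
    have := (h S (Or.inl rfl) hvac).2 α hα ⟨x, hQS hx⟩ hx
    rwa [hαg] at this
  have hN : normalizerIn S Q = S := by
    apply inf_eq_left.2
    intro g hg
    rw [Subgroup.mem_normalizer_iff]
    intro x
    refine ⟨fun hx => hconj g hg x hx, fun hx => ?_⟩
    have := hconj g⁻¹ (S.inv_mem hg) _ hx
    simpa [mul_assoc] using this
  let E : FusionSystem S := castSys hN (Cfsg.Agent.S5096.normSys F Q hQS)
  have hEhom : ∀ P, E.Hom P = F.normalizerHom Q P := fun P => castSys_hom hN _ P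
  have hE : ∀ T : Subgroup Ω, (T = S ∨ F.IsEssential p T) →
      (∀ Q' : Subgroup Ω, Q' ≤ S → Nat.card T < Nat.card Q' → F.Hom Q' ⊆ E.Hom Q') →
      F.autGroup T ≤ E.autGroup T := by
    intro T hT IH α hα
    have IH' : ∀ (Q' Q'' : Subgroup Ω) (k : Ω → Ω), Nat.card T < Nat.card Q' → Q ≤ Q' →
        IsIso F Q' Q'' k → ∀ x ∈ Q, k x ∈ Q := by
      intro Q' Q'' k hlt hQQ' hk x hx
      obtain ⟨φ, hφ, hφk, -⟩ := hk
      have h1 := IH Q' (hom_le F hφ) hlt hφ
      rw [hEhom, Cfsg.Agent.S5096.mem_normalizerHom_iff] at h1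
      obtain ⟨-, -, -, f, B, -, hfφ, hfQ, -⟩ := h1
      have := hfQ x hx
      rw [← hφk ⟨x, hQQ' hx⟩, ← hfφ ⟨x, hQQ' hx⟩]
      exact this
    obtain ⟨hQT, hinv⟩ := h T hT IH'
    have hTS : T ≤ S := le_of_eq_or_essential hT
    rw [mem_autGroup_iff E hTS, hEhom, Cfsg.Agent.S5096.mem_normalizerHom_iff]
    refine ⟨(mem_autGroup_iff F hTS α).1 hα, by rw [hN]; exact hTS, fun x => ?_,
      ext1 (T.subtype.comp α.toMonoidHom), T, ?_, fun x => ext1_apply _ x, fun x hx => ?_,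
      fun y hy => ?_⟩
    · rw [hN]
      exact hTS (α x).2
    · rw [sup_eq_left.2 hQT]
      exact isIso_of_mem_autGroup F hTS hα
    · rw [ext1_apply_mem _ (hQT hx)]
      exact hinv α hα ⟨x, hQT hx⟩ hx
    · have h1 := hinv α⁻¹ (Subgroup.inv_mem _ hα) ⟨y, hQT hy⟩ hy
      refine ⟨((α⁻¹ ⟨y, hQT hy⟩ : T) : Ω), h1, ?_⟩
      rw [ext1_apply]
      show ((α (α⁻¹ ⟨y, hQT hy⟩) : T) : Ω) = y
      simp
  have hle := alperin_ind hS F hF E hE
  refine ⟨hQS, fun P φ hφ => ?_⟩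
  have h1 := hle P hφ
  rw [hEhom] at h1
  exact h1.2.2.2

end Cfsg.Agent.Lib.H25
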