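import Mathlib

/-!
# S0435 piece (NOPAIR): no two conjugates of an involution multiply to a non-real element (pure Mathlib)

If `x` is not conjugate to `x⁻¹` and `z` is an involution then `z^s z^t ≠ x` for all `s, t`
(`z^s x (z^s)⁻¹ = z^t z^s = x⁻¹`), so the class multiplication count vanishes.
-/

set_option autoImplicit false

namespace Cfsg.Agent.Lib.H25.O7920

universe u

/-- a product of two involutions is inverted by the first one -/
theorem conj_mul_eq_inv_of_sq_eq_one {G : Type u} [Group G] {a b : G} (ha : a * a = 1) (hb : b * b = 1) :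
    a * (a * b) * a⁻¹ = (a * b)⁻¹ := by
  have ha' : a⁻¹ = a := inv_eq_of_mul_eq_one_left ha
  have hb' : b⁻¹ = b := inv_eq_of_mul_eq_one_left hb
  rw [mul_inv_rev, ha', hb', ← mul_assoc, ha, one_mul]

/-- (NOPAIR), exact signature of `tools/blueprints/S0435_sigs.lean`. -/
theorem count_eq_zero {G : Type u} [Group G] [Fintype G] [DecidableEq G] {z x : G} (hz : orderOf z = 2)
    (hx : ¬ IsConj x x⁻¹) :
    (∑ s : G, ∑ t : G, if (s * z * s⁻¹) * (t * z * t⁻¹) = x then (1 : ℂ) else 0) = 0 := by
  have hzz : z * z = 1 := by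
    have := pow_orderOf_eq_one z
    rwa [hz, pow_two] at this
  have hconj : ∀ s : G, (s * z * s⁻¹) * (s * z * s⁻¹) = 1 := by
    intro s
    have : (s * z * s⁻¹) * (s * z * s⁻¹) = s * (z * z) * s⁻¹ := by group
    rw [this, hzz]
    group
  apply Finset.sum_eq_zero
  intro s _
  apply Finset.sum_eq_zero
  intro t _
  rw [if_neg]
  intro h
  apply hx
  rw [isConj_iff]
  refine ⟨s * z * s⁻¹, ?_⟩
  rw [← h]
  exact conj_mul_eq_inv_of_sq_eq_one (hconj s) (hconj t)

end Cfsg.Agent.Lib.H25.O7920
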