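import Mathlib
import Cfsg.Prelude.Def_Characters
import Cfsg.Prelude.Def_Blocks
import Cfsg.Agent.Lib.H8.Clifford
import Cfsg.Agent.Lib.H23.Ito
import Cfsg.Agent.Lib.H23.FullyRamified
import Cfsg.Agent.Lib.L0.CharDegree
import Cfsg.Agent.Lib.H24.CharOrth
import Cfsg.Agent.Lib.H24.GlaubAmb7

/-!
# S4930 piece P3ab: a normal complement of `N_G(P)` lies in the kernel of every character of `p'`-degree

`P ∈ Syl_p(G)`, `N = N_G(P)`, `K ⊴ G` with `K ⊓ N = ⊥`, `K ⊔ N = ⊤`, `χ ∈ Irr(G)` with `p ∤ χ(1)`.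
Then `K ≤ ker χ`.  [`p ∤ |K| = |G : N|`; `C_K(P) ≤ K ⊓ N = 1`; Clifford: `χ = ψ^G`, `ψ ∈ Irr(I_G(θ))`, so
`p ∤ |G : I_G(θ)|`, a conjugate of `P` lies in `I_G(θ)`, i.e. a conjugate `θ'` of `θ` is `P`-invariant; Glauberman
(`H24.Glaub.pgroup_corr`, with `C_K(P) = 1`): there is only one `P`-invariant irreducible character of `K`, the trivial
one; Clifford again: `χ_K = e · 1_K`.]
-/

set_option autoImplicit false

namespace Cfsg.Agent.Lib.H25.OD

open Cfsg Cfsg.Agent.Lib.L0 Cfsg.Agent.Lib.H8 Cfsg.Agent.Lib.H23 Cfsg.Agent.Lib.H24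
  Cfsg.Agent.Lib.H24.Glaub

section GroupTheory

variable {G : Type*} [Group G]

/-- a `p`-subgroup has a conjugate inside any subgroup of index prime to `p` -/
theorem exists_conj_mem_of_not_dvd_index {p : ℕ} [Fact p.Prime] {P : Subgroup G}
    (hP : IsPGroup p P) (T : Subgroup G) (hT : ¬ p ∣ T.index) :
    ∃ g : G, ∀ x ∈ P, g⁻¹ * x * g ∈ T := by
  have h1 : ¬ p ∣ Nat.card (G ⧸ T) := by rwa [← Subgroup.index_eq_card]
  obtain ⟨q, hq⟩ := hP.nonempty_fixed_point_of_prime_not_dvd_card (G ⧸ T) h1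
  induction q using QuotientGroup.induction_on with
  | H g =>
    refine ⟨g, fun x hx => ?_⟩
    have h2 := hq ⟨x⁻¹, P.inv_mem hx⟩
    have h3 : ((x⁻¹ * g : G) : G ⧸ T) = (g : G ⧸ T) := h2
    rw [QuotientGroup.eq] at h3
    have e : (x⁻¹ * g)⁻¹ * g = g⁻¹ * x * g := by group
    rwa [e] at h3

/-- a normal complement of `N_G(P)` has order prime to `p` -/
theorem not_dvd_card_of_complement [Finite G] {p : ℕ} [Fact p.Prime] (P : Sylow p G)
    (K : Subgroup G) [K.Normal]
    (hKN : K ⊓ Subgroup.normalizer ((P : Subgroup G) : Set G) = ⊥)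
    (hKN' : K ⊔ Subgroup.normalizer ((P : Subgroup G) : Set G) = ⊤) : ¬ p ∣ Nat.card K := by
  have hc : Subgroup.IsComplement' K (Subgroup.normalizer ((P : Subgroup G) : Set G)) := by
    apply Subgroup.isComplement'_of_disjoint_and_mul_eq_univ (disjoint_iff.2 hKN)
    rw [← Subgroup.normal_mul, hKN', Subgroup.coe_top]
  have h1 : (Subgroup.normalizer ((P : Subgroup G) : Set G)).index = Nat.card K :=
    hc.index_eq_card
  rw [← h1]
  intro h
  exact P.not_dvd_index (dvd_trans h (Subgroup.index_dvd_of_le Subgroup.le_normalizer))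

end GroupTheory

section Glauberman

universe u

variable {Γ : Type u} [Group Γ] [Fintype Γ]

/-- the trivial group has only one irreducible character -/
theorem irr_subsingleton_of_subsingleton (C : Type u) [Group C] [Subsingleton C] :
    Subsingleton (IrrCharacter C) := by
  have h1 : Nat.card (IrrCharacter C) = Nat.card (ConjClasses C) := card_irr_eq_card_conjClasses
  have h2 : Nat.card (ConjClasses C) = 1 := by
    have : Subsingleton (ConjClasses C) := by
      constructor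
      intro a b
      obtain ⟨a, rfl⟩ := ConjClasses.mk_surjective a
      obtain ⟨b, rfl⟩ := ConjClasses.mk_surjective b
      rw [Subsingleton.elim a b]
    have : Nonempty (ConjClasses C) := ⟨ConjClasses.mk 1⟩
    exact Nat.card_unique
  rw [h2] at h1
  have hfin : Finite (IrrCharacter C) := Nat.finite_of_card_ne_zero (by rw [h1]; exact one_ne_zero)
  exact (Finite.card_le_one_iff_subsingleton).1 h1.le

/-- Glauberman with trivial fixed points: a `P`-invariant irreducible character of the `p'`-group `K` with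
`C_K(P) = 1` is trivial. -/
theorem eq_trivial_of_invariant {p : ℕ} (hp : p.Prime) {K P : Subgroup Γ}
    (hnorm : ∀ x ∈ P, ∀ k ∈ K, x * k * x⁻¹ ∈ K) (hP : IsPGroup p P) (hpK : ¬ p ∣ Nat.card K)
    (hC : K ⊓ Subgroup.centralizer (P : Set Γ) = ⊥) (θ : IrrCharacter K)
    (hθ : ∀ x ∈ P, InvUnder K x (θ : K → ℂ)) : θ = trivialIrr K := by
  classical
  have hCK : (K ⊓ Subgroup.centralizer (P : Set Γ)) ≤ K := inf_le_left
  have : Fintype ↥(K ⊓ Subgroup.centralizer (P : Set Γ)) := Fintype.ofFinite _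
  have corr := pgroup_corr hp (Nat.card P) K P (K ⊓ Subgroup.centralizer (P : Set Γ)) rfl hnorm hP
    hpK rfl hCK
  have hsub : Subsingleton (IrrCharacter ↥(K ⊓ Subgroup.centralizer (P : Set Γ))) := by
    have : Subsingleton ↥(K ⊓ Subgroup.centralizer (P : Set Γ)) := by
      rw [hC]
      infer_instance
    exact irr_subsingleton_of_subsingleton _
  have h1 : ∀ x ∈ P, InvUnder K x (trivialIrr K : K → ℂ) := fun x _ g g' _ => rfl
  obtain ⟨β₀, ε, hε, h⟩ := corr.exists_corr θ hθ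
  obtain ⟨β₁, ε', hε', h'⟩ := corr.exists_corr (trivialIrr K) h1
  have e0 := h β₀
  rw [if_pos rfl] at e0
  have e1 := h' β₁
  rw [if_pos rfl] at e1
  have n0 := not_dvd_of_dvd_sub_sign hp hε e0
  have n1 := not_dvd_of_dvd_sub_sign hp hε' e1
  rw [Subsingleton.elim β₁ β₀] at n1
  exact corr.inj θ (trivialIrr K) hθ h1 β₀ n0 n1

end Glauberman

section Main

variable {G : Type*} [Group G] [Finite G]

/-- P3ab. -/
theorem le_ker_of_complement {p : ℕ} [hp : Fact p.Prime] (P : Sylow p G) (K : Subgroup G) [hK : K.Normal]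
    (hKN : K ⊓ Subgroup.normalizer ((P : Subgroup G) : Set G) = ⊥)
    (hKN' : K ⊔ Subgroup.normalizer ((P : Subgroup G) : Set G) = ⊤)
    (χ : IrrCharacter G) (hχ : ¬ p ∣ charDegree (χ : G → ℂ)) :
    ∀ k ∈ K, (χ : G → ℂ) k = (χ : G → ℂ) 1 := by
  classical
  have : Fintype G := Fintype.ofFinite G
  have : Fintype K := Fintype.ofFinite K
  have hpK : ¬ p ∣ Nat.card K := not_dvd_card_of_complement P K hKN hKN'
  have hCP : K ⊓ Subgroup.centralizer (((P : Subgroup G)) : Set G) = ⊥ := by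
    apply le_antisymm _ bot_le
    rw [← hKN]
    exact inf_le_inf_left K (Subgroup.centralizer_le_normalizer _)
  -- an irreducible constituent `θ` of `χ_K`
  have hχc : IsCharacter G (χ : G → ℂ) := isCharacter_of_irr χ.2
  have hχcl : IsClassFunction G (χ : G → ℂ) := isClassFunction_of_isCharacter hχc
  have hχK : IsCharacter K (fun n : K => (χ : G → ℂ) n) := isCharacter_restrict K hχc
  have hχ1 : (χ : G → ℂ) 1 ≠ 0 := irr_one_ne_zero χ
  obtain ⟨θ, hθ, hcon⟩ := exists_irr_constituent hχK (by simpa using hχ1)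
  have hθcl : IsClassFunction K θ := isClassFunction_of_isCharacter (isCharacter_of_irr hθ)
  -- Clifford: `χ` is induced from the inertia group `T` of `θ`
  have : Fintype (inertia K θ) := Fintype.ofFinite _
  have hKT : K ≤ inertia K θ := le_inertia K hθcl
  obtain ⟨ψ, hψ, hind, -⟩ :=
    clifford_correspondence K (inertia K θ) hKT θ hθ (fun g => Iff.rfl) χ χ.2 hcon
  have hdeg : charDegree (χ : G → ℂ) = (inertia K θ).index * charDegree ψ := by
    have h1 : ((charDegree (χ : G → ℂ) : ℕ) : ℂ) =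
        (((inertia K θ).index * charDegree ψ : ℕ) : ℂ) := by
      rw [Nat.cast_mul, ← apply_one_eq_charDegree _ χ.2, ← apply_one_eq_charDegree _ hψ, ← hind,
        indFun_apply_one]
    exact_mod_cast h1
  have hTidx : ¬ p ∣ (inertia K θ).index := fun h => hχ (by rw [hdeg]; exact dvd_mul_of_dvd_left h _)
  obtain ⟨g, hg⟩ := exists_conj_mem_of_not_dvd_index P.2 (inertia K θ) hTidx
  -- the conjugate `θ' : n ↦ θ (g⁻¹ n g)` is `P`-invariant
  have hθ' := isIrrCharacter_conjNormal K θ hθ g⁻¹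
  have hinv : ∀ x ∈ (P : Subgroup G), InvUnder K x
      (fun h : K => θ ⟨g⁻¹ * h * g⁻¹⁻¹, hK.conj_mem h h.2 g⁻¹⟩) := by
    intro x hx a a' haa'
    have h1 := (mem_inertia K θ (g⁻¹ * x * g)).1 (hg x hx)
      ⟨g⁻¹ * a * g⁻¹⁻¹, hK.conj_mem a a.2 g⁻¹⟩
    show θ ⟨g⁻¹ * a' * g⁻¹⁻¹, _⟩ = θ ⟨g⁻¹ * a * g⁻¹⁻¹, _⟩
    rw [← h1]
    apply fun_subtype_congr K θ
    rw [haa']
    group
  have hnorm : ∀ x ∈ (P : Subgroup G), ∀ k ∈ K, x * k * x⁻¹ ∈ K := fun x _ k hk => hK.conj_mem k hk x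
  have htriv := eq_trivial_of_invariant hp.out hnorm P.2 hpK hCP ⟨_, hθ'⟩ hinv
  -- so `θ = 1`
  have hθ1 : ∀ n : K, θ n = 1 := by
    intro n
    have h1 := congrArg (fun ξ : IrrCharacter K => (ξ : K → ℂ) ⟨g * n * g⁻¹, hK.conj_mem n n.2 g⟩) htriv
    simp only [trivialIrr_apply] at h1
    rw [← h1]
    apply fun_subtype_congr K θ
    group
  -- Clifford for the invariant constituent `θ = 1`
  have hres := restrict_eq_smul_of_invariant K (χ : G → ℂ) χ.2 θ hθ hcon
    (fun g n => by rw [hθ1, hθ1])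
  intro k hk
  have h1 := congrFun hres ⟨k, hk⟩
  have h2 := congrFun hres 1
  simp only [Pi.smul_apply, smul_eq_mul, hθ1, mul_one] at h1 h2
  have h3 : (χ : G → ℂ) ((1 : K) : G) = (χ : G → ℂ) 1 := by rw [Subgroup.coe_one]
  rw [← h3, h2]
  exact h1

end Main

end Cfsg.Agent.Lib.H25.OD
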