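import Cfsg.Agent.Lib.H25.OD3C
import Cfsg.Agent.Lib.H25.OD3AB

/-!
# S4930 piece P3 (the direction `⇐` of (II)), assembled

`P ∈ Syl_p(G)`, `N = N_G(P)`, `K ⊴ G` with `K ⊓ N = ⊥`, `K ⊔ N = ⊤`:
`∑_{χ ∈ Irr(G), p ∤ χ(1)} χ(1)² = ∑_{ψ ∈ Irr(N), p ∤ ψ(1)} ψ(1)²`.
-/

set_option autoImplicit false

namespace Cfsg.Agent.Lib.H25.OD

open Cfsg

/-- P3 = P3ab + P3c. -/
theorem sum_sq_eq_of_normal_complement {G : Type*} [Group G] [Finite G] {p : ℕ} [Fact p.Prime]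
    (P : Sylow p G) (K : Subgroup G) [K.Normal]
    (hKN : K ⊓ Subgroup.normalizer ((P : Subgroup G) : Set G) = ⊥)
    (hKN' : K ⊔ Subgroup.normalizer ((P : Subgroup G) : Set G) = ⊤) :
    ∑ᶠ χ : {χ : IrrCharacter G // ¬ p ∣ charDegree (χ : G → ℂ)}, charDegree (χ.1 : G → ℂ) ^ 2 =
      ∑ᶠ ψ : {ψ : IrrCharacter ↥(Subgroup.normalizer ((P : Subgroup G) : Set G)) //
          ¬ p ∣ charDegree (ψ : ↥(Subgroup.normalizer ((P : Subgroup G) : Set G)) → ℂ)},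
        charDegree (ψ.1 : ↥(Subgroup.normalizer ((P : Subgroup G) : Set G)) → ℂ) ^ 2 :=
  sum_sq_eq_of_complement p K _ hKN hKN'
    (fun χ hχ => le_ker_of_complement P K hKN hKN' χ hχ)

end Cfsg.Agent.Lib.H25.OD
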