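import Mathlib
import Cfsg.Prelude.Def_Characters
import Cfsg.Prelude.Def_Blocks
import Cfsg.Agent.Lib.L0.CharOps
import Cfsg.Agent.Lib.H24.CharDefl

/-!
# S4930 piece P3c: counting over a normal complement (general form)

`K ⊴ G`, `N ≤ G` with `K ⊓ N = ⊥`, `K ⊔ N = ⊤`.  Then `G → N` (`g = k n ↦ n`) is a surjective homomorphism `retr` with
kernel `K`, and `ψ ↦ ψ ∘ retr` is a degree preserving bijection from `Irr(N)` onto `{χ ∈ Irr(G) : K ≤ ker χ}`.

* `sum_sq_eq_of_complement`: if every `χ ∈ Irr(G)` of degree prime to `p` has `K` in its kernel, then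
  `∑_{χ ∈ Irr(G), p ∤ χ(1)} χ(1)² = ∑_{ψ ∈ Irr(N), p ∤ ψ(1)} ψ(1)²`.
-/

set_option autoImplicit false

namespace Cfsg.Agent.Lib.H25.OD

open Cfsg Cfsg.Agent.Lib.L0 Cfsg.Agent.Lib.H23 Cfsg.Agent.Lib.H24

section Retraction

variable {G : Type*} [Group G] (K N : Subgroup G) [K.Normal]

/-- `N → G ⧸ K` -/
def toQuot : N →* G ⧸ K := (QuotientGroup.mk' K).comp N.subtype

theorem toQuot_apply (n : N) : toQuot K N n = ((n : G) : G ⧸ K) := rfl

theorem toQuot_injective (hKN : K ⊓ N = ⊥) : Function.Injective (toQuot K N) := by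
  rw [injective_iff_map_eq_one]
  intro n hn
  rw [toQuot_apply, QuotientGroup.eq_one_iff] at hn
  have h1 : (n : G) ∈ K ⊓ N := ⟨hn, n.2⟩
  rw [hKN, Subgroup.mem_bot] at h1
  exact Subtype.ext h1

theorem toQuot_surjective (hKN' : K ⊔ N = ⊤) : Function.Surjective (toQuot K N) := by
  intro q
  obtain ⟨g, rfl⟩ := QuotientGroup.mk_surjective q
  have hg : g ∈ K ⊔ N := by rw [hKN']; exact Subgroup.mem_top g
  have h1 : g ∈ ((K ⊔ N : Subgroup G) : Set G) := hg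
  rw [Subgroup.normal_mul] at h1
  obtain ⟨k, hk, n, hn, rfl⟩ := Set.mem_mul.1 h1
  refine ⟨⟨n, hn⟩, ?_⟩
  rw [toQuot_apply]
  show ((n : G) : G ⧸ K) = ((k * n : G) : G ⧸ K)
  rw [QuotientGroup.mk_mul, (QuotientGroup.eq_one_iff k).2 hk, one_mul]

/-- `N ≃* G ⧸ K` -/
noncomputable def quotEquiv (hKN : K ⊓ N = ⊥) (hKN' : K ⊔ N = ⊤) : N ≃* G ⧸ K :=
  MulEquiv.ofBijective (toQuot K N) ⟨toQuot_injective K N hKN, toQuot_surjective K N hKN'⟩

/-- the retraction `G → N` with kernel `K` -/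
noncomputable def retr (hKN : K ⊓ N = ⊥) (hKN' : K ⊔ N = ⊤) : G →* N :=
  (quotEquiv K N hKN hKN').symm.toMonoidHom.comp (QuotientGroup.mk' K)

theorem retr_apply_coe (hKN : K ⊓ N = ⊥) (hKN' : K ⊔ N = ⊤) (n : N) :
    retr K N hKN hKN' (n : G) = n := by
  show (quotEquiv K N hKN hKN').symm ((n : G) : G ⧸ K) = n
  rw [MulEquiv.symm_apply_eq]
  rfl

theorem retr_surjective (hKN : K ⊓ N = ⊥) (hKN' : K ⊔ N = ⊤) :
    Function.Surjective (retr K N hKN hKN') := fun n => ⟨(n : G), retr_apply_coe K N hKN hKN' n⟩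

theorem retr_eq_one_iff (hKN : K ⊓ N = ⊥) (hKN' : K ⊔ N = ⊤) (g : G) :
    retr K N hKN hKN' g = 1 ↔ g ∈ K := by
  show (quotEquiv K N hKN hKN').symm ((g : G) : G ⧸ K) = 1 ↔ g ∈ K
  rw [MulEquiv.map_eq_one_iff, QuotientGroup.eq_one_iff]

end Retraction

section Deflation

/-- deflation along a surjective homomorphism (as `H24.InvOver.exists_deflation_of_surjective`, restated here on the
light module `H24.CharDefl`) -/
theorem exists_deflation_of_surj {G₁ G₂ : Type*} [Group G₁] [Finite G₁] [Group G₂]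
    (f : G₁ →* G₂) (hf : Function.Surjective f) (χ : IrrCharacter G₁)
    (h : ∀ z : G₁, f z = 1 → (χ : G₁ → ℂ) z = (χ : G₁ → ℂ) 1) :
    ∃ ψ : IrrCharacter G₂, ∀ g : G₁, (ψ : G₂ → ℂ) (f g) = (χ : G₁ → ℂ) g := by
  obtain ⟨ψ₀, hψ₀⟩ := exists_deflation χ f.ker (fun n hn => h n (MonoidHom.mem_ker.mp hn))
  set e : G₁ ⧸ f.ker ≃* G₂ := QuotientGroup.quotientKerEquivOfSurjective f hf with he
  refine ⟨⟨(ψ₀ : G₁ ⧸ f.ker → ℂ) ∘ e.symm,
    isIrrCharacter_comp_of_surjective e.symm.toMonoidHom e.symm.surjective ψ₀.2⟩, ?_⟩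
  intro g
  show (ψ₀ : G₁ ⧸ f.ker → ℂ) (e.symm (f g)) = _
  have h1 : e.symm (f g) = (g : G₁ ⧸ f.ker) := by
    rw [MulEquiv.symm_apply_eq]
    rfl
  rw [h1, hψ₀]

end Deflation

section Count

variable {G : Type*} [Group G] [Finite G]

omit [Finite G] in
theorem charDegree_comp_hom {H : Type*} [Group H] (f : G →* H) (ψ : H → ℂ) :
    charDegree (ψ ∘ f) = charDegree ψ := by
  unfold charDegree
  rw [Function.comp_apply, map_one]

/-- P3c. -/
theorem sum_sq_eq_of_complement (p : ℕ) (K N : Subgroup G) [K.Normal] (hKN : K ⊓ N = ⊥)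
    (hKN' : K ⊔ N = ⊤)
    (hker : ∀ χ : IrrCharacter G, ¬ p ∣ charDegree (χ : G → ℂ) →
      ∀ k ∈ K, (χ : G → ℂ) k = (χ : G → ℂ) 1) :
    ∑ᶠ χ : {χ : IrrCharacter G // ¬ p ∣ charDegree (χ : G → ℂ)}, charDegree (χ.1 : G → ℂ) ^ 2 =
      ∑ᶠ ψ : {ψ : IrrCharacter ↥N // ¬ p ∣ charDegree (ψ : N → ℂ)},
        charDegree (ψ.1 : N → ℂ) ^ 2 := by
  classical
  set π := retr K N hKN hKN' with hπ
  have hsurj : Function.Surjective π := retr_surjective K N hKN hKN'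
  -- the map `ψ ↦ ψ ∘ π`
  let Ψ : {ψ : IrrCharacter ↥N // ¬ p ∣ charDegree (ψ : N → ℂ)} →
      {χ : IrrCharacter G // ¬ p ∣ charDegree (χ : G → ℂ)} := fun ψ =>
    ⟨⟨(ψ.1 : N → ℂ) ∘ π, isIrrCharacter_comp_of_surjective π hsurj ψ.1.2⟩, by
      show ¬ p ∣ charDegree ((ψ.1 : N → ℂ) ∘ π)
      rw [charDegree_comp_hom]
      exact ψ.2⟩
  have hΨ : Function.Bijective Ψ := by
    constructor
    · intro ψ₁ ψ₂ h
      apply Subtype.ext
      apply Subtype.ext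
      funext n
      obtain ⟨g, rfl⟩ := hsurj n
      have h1 := congrArg (fun χ => (χ.1 : G → ℂ) g) h
      exact h1
    · intro χ
      obtain ⟨ψ, hψ⟩ := exists_deflation_of_surj π hsurj χ.1 (fun z hz =>
        hker χ.1 χ.2 z ((retr_eq_one_iff K N hKN hKN' z).1 hz))
      have hdeg : charDegree (ψ : N → ℂ) = charDegree (χ.1 : G → ℂ) := by
        unfold charDegree
        have := hψ 1
        rw [map_one] at this
        rw [this]
      refine ⟨⟨ψ, by rw [hdeg]; exact χ.2⟩, ?_⟩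
      apply Subtype.ext
      apply Subtype.ext
      funext g
      exact hψ g
  symm
  apply finsum_eq_of_bijective Ψ hΨ
  intro ψ
  show charDegree (ψ.1 : N → ℂ) ^ 2 = charDegree ((ψ.1 : N → ℂ) ∘ π) ^ 2
  rw [charDegree_comp_hom]

end Count

end Cfsg.Agent.Lib.H25.OD
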