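import Cfsg.Agent.Lib.H25.OD3C

/-!
# S4930 piece (P3c) in the architect's exact signature

`oddSq_eq_of_trivial_on_complement` = `sum_sq_eq_of_complement` (`OD3C.lean`) at `p = 2`.
-/

set_option autoImplicit false

namespace Cfsg.Agent.Lib.H25.OD

open Cfsg

universe u

/-- the sum of the squares of the odd degrees (copy of the abbreviation of `tools/blueprints/S4930_sigs.lean`) -/
noncomputable abbrev oddSq (X : Type u) [Group X] : ℕ :=
  ∑ᶠ χ : {χ : IrrCharacter X // ¬ 2 ∣ charDegree (χ : X → ℂ)}, charDegree (χ.1 : X → ℂ) ^ 2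

/-- (P3c), exact signature. -/
theorem oddSq_eq_of_trivial_on_complement {G : Type u} [Group G] [Finite G] (K N : Subgroup G) [K.Normal]
    (hKN : K ⊓ N = ⊥) (hKN' : K ⊔ N = ⊤)
    (htriv : ∀ χ : IrrCharacter G, ¬ 2 ∣ charDegree (χ : G → ℂ) → ∀ k ∈ K, (χ : G → ℂ) k = (χ : G → ℂ) 1) :
    (oddSq G) = oddSq ↥N :=
  sum_sq_eq_of_complement 2 K N hKN hKN' htriv

end Cfsg.Agent.Lib.H25.OD
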