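import Mathlib
import Cfsg.Agent.Lib.H13.OTDefs

/-! # S3999 piece P2 QCOUNT: the number of `q`-elements of a Frobenius group, `q ∣ |kernel|` -/

set_option autoImplicit false
set_option linter.style.haveILetI false

namespace Cfsg.Agent.Lib.H25.OT
open Cfsg Cfsg.Agent.Lib.H13.OT
open scoped Pointwise

universe u

/-- In a finite group with a normal Sylow `q`-subgroup `P`, the elements of `q`-power order are
exactly the elements of `P`. -/
theorem exists_orderOf_eq_pow_iff_mem_of_normal {K : Type*} [Group K] [Finite K] (q : ℕ)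
    [Fact q.Prime] (P : Sylow q K) (hP : (P : Subgroup K).Normal) (y : K) :
    (∃ j : ℕ, orderOf y = q ^ j) ↔ y ∈ (P : Subgroup K) := by
  constructor
  · rintro ⟨j, hj⟩
    have hpg : IsPGroup q (Subgroup.zpowers y) :=
      IsPGroup.of_card (n := j) (by rw [Nat.card_zpowers, hj])
    obtain ⟨Q, hQ⟩ := hpg.exists_le_sylow
    haveI := Sylow.unique_of_normal P hP
    have hQP : Q = P := Subsingleton.elim _ _
    rw [← hQP]
    exact hQ (Subgroup.mem_zpowers y)
  · intro hy
    obtain ⟨k, hk⟩ := P.isPGroup' ⟨y, hy⟩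
    have hk' : y ^ q ^ k = 1 := by
      have := congrArg Subtype.val hk
      simpa using this
    exact (Nat.dvd_prime_pow (Fact.out : q.Prime)).mp (orderOf_dvd_of_pow_eq_one hk') |>.imp
      fun j hj => hj.2

/-- P2 QCOUNT. -/
theorem card_q_elements {X : Type u} [Group X] [Finite X] {Y M : Subgroup X} (h : FrobData Y M)
    (q : ℕ) [Fact q.Prime] (hq : q ∣ Nat.card M) :
    Nat.card {x : X // ∃ j : ℕ, orderOf x = q ^ j} = q ^ (Nat.card X).factorization q := by
  have hqp : q.Prime := Fact.out
  have hqY : ¬ q ∣ Nat.card Y := by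
    intro hdiv
    have := Nat.dvd_gcd hq hdiv
    rw [h.coprime] at this
    exact hqp.one_lt.ne' (Nat.dvd_one.mp this)
  have hfac : (Nat.card X).factorization q = (Nat.card M).factorization q := by
    rw [h.card_eq, Nat.factorization_mul Nat.card_pos.ne' Nat.card_pos.ne', Finsupp.add_apply,
      Nat.factorization_eq_zero_of_not_dvd hqY, add_zero]
  haveI := h.nilp
  obtain ⟨P⟩ : Nonempty (Sylow q M) := inferInstance
  have hPn : (P : Subgroup M).Normal := inferInstance
  have key : ∀ x : X, (∃ j : ℕ, orderOf x = q ^ j) ↔ x ∈ (P : Subgroup M).map M.subtype := by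
    intro x
    constructor
    · rintro ⟨j, hj⟩
      have hxM : x ∈ M := by
        rcases h.cover x with hx | ⟨g, hx⟩
        · exact hx
        · rcases Nat.eq_zero_or_pos j with rfl | hjpos
          · rw [pow_zero, orderOf_eq_one_iff] at hj
            rw [hj]; exact M.one_mem
          · exfalso
            apply hqY
            have h1 : orderOf x ∣ Nat.card (MulAut.conj g • Y : Subgroup X) :=
              Subgroup.orderOf_dvd_natCard _ hx
            have h2 : Nat.card (MulAut.conj g • Y : Subgroup X) = Nat.card Y := by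
              exact (Nat.card_congr (Subgroup.equivSMul (MulAut.conj g) Y).toEquiv).symm
            rw [h2, hj] at h1
            exact (dvd_pow_self q hjpos.ne').trans h1
      have hy : (∃ j : ℕ, orderOf (⟨x, hxM⟩ : M) = q ^ j) :=
        ⟨j, by rw [← hj]; exact (Subgroup.orderOf_mk x hxM)⟩
      exact ⟨⟨x, hxM⟩, (exists_orderOf_eq_pow_iff_mem_of_normal q P hPn _).mp hy, rfl⟩
    · rintro ⟨y, hy, rfl⟩
      obtain ⟨j, hj⟩ := (exists_orderOf_eq_pow_iff_mem_of_normal q P hPn y).mpr hy
      exact ⟨j, by rw [← hj]; exact Subgroup.orderOf_coe y⟩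
  rw [Nat.card_congr (Equiv.subtypeEquivRight key), hfac, ← P.card_eq_multiplicity]
  exact Nat.card_congr
    ((P : Subgroup M).equivMapOfInjective M.subtype M.subtype_injective).toEquiv.symm

end Cfsg.Agent.Lib.H25.OT
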