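import Mathlib
import Cfsg.Agent.S4345

/-! # S3999 piece P8 SIX: 24 elements of order 5 and Sylow 5-subgroups of order 5 => not solvable

Proof: the elements of order 5 are partitioned by the Sylow 5-subgroups (each of order 5), so there
are exactly 6 Sylow 5-subgroups; in a solvable group the 2-part of the number of Sylow 5-subgroups
is `≡ 1 mod 5` (landed S4345), but the 2-part of 6 is 2. -/

set_option autoImplicit false
set_option linter.style.haveILetI false

namespace Cfsg.Agent.Lib.H25.OT

universe u

/-- If `p ∣ n` and `p ^ 2 ∤ n` then the `p`-adic valuation of `n` is one. -/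
theorem factorization_eq_one_of_dvd_not_sq_dvd {p n : ℕ} (hp : p.Prime) (hn : n ≠ 0) (h1 : p ∣ n)
    (h2 : ¬ p ^ 2 ∣ n) : n.factorization p = 1 := by
  have a1 : 1 ≤ n.factorization p := (hp.pow_dvd_iff_le_factorization hn).mp (by simpa using h1)
  have a2 : ¬ 2 ≤ n.factorization p := fun h => h2 ((hp.pow_dvd_iff_le_factorization hn).mpr h)
  omega

/-- When the Sylow `p`-subgroups have order `p`, the elements of order `p` are partitioned by the
Sylow `p`-subgroups, each contributing `p - 1`. -/
theorem card_orderOf_eq_prime {X : Type u} [Group X] [Finite X] (p : ℕ) [hp : Fact p.Prime]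
    (hfac : (Nat.card X).factorization p = 1) :
    Nat.card {x : X // orderOf x = p} = (p - 1) * Nat.card (Sylow p X) := by
  classical
  have hcardP : ∀ P : Sylow p X, Nat.card (P : Subgroup X) = p := by
    intro P
    rw [P.card_eq_multiplicity, hfac, pow_one]
  have hord : ∀ (P : Sylow p X) (x : X), x ∈ (P : Subgroup X) → x ≠ 1 → orderOf x = p := by
    intro P x hx hne
    have hdvd : orderOf x ∣ p := by
      rw [← hcardP P]; exact Subgroup.orderOf_dvd_natCard _ hx
    rcases (Nat.dvd_prime hp.out).mp hdvd with h | h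
    · exact absurd (orderOf_eq_one_iff.mp h) hne
    · exact h
  have hzp : ∀ x : X, orderOf x = p → Nat.card (Subgroup.zpowers x) = p ^ (Nat.card X).factorization p := by
    intro x hx
    rw [Nat.card_zpowers, hx, hfac, pow_one]
  -- the equivalence
  let e : {x : X // orderOf x = p} ≃ Σ P : Sylow p X, {x : X // x ∈ (P : Subgroup X) ∧ x ≠ 1} :=
    { toFun := fun x => ⟨Sylow.ofCard (Subgroup.zpowers x.1) (hzp x.1 x.2), x.1,
        Subgroup.mem_zpowers x.1, fun h => by
          have := x.2
          rw [h, orderOf_one] at this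
          exact hp.out.one_lt.ne this⟩
      invFun := fun y => ⟨y.2.1, hord y.1 y.2.1 y.2.2.1 y.2.2.2⟩
      left_inv := fun x => rfl
      right_inv := by
        rintro ⟨P, x, hx, hne⟩
        have hPeq : Sylow.ofCard (Subgroup.zpowers x) (hzp x (hord P x hx hne)) = P := by
          apply Sylow.ext
          show Subgroup.zpowers x = (P : Subgroup X)
          apply Subgroup.eq_of_le_of_card_ge ((Subgroup.zpowers_le).mpr hx)
          rw [hcardP P, Nat.card_zpowers, hord P x hx hne]
        exact Sigma.subtype_ext hPeq rfl }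
  haveI : Fintype (Sylow p X) := Fintype.ofFinite _
  rw [Nat.card_congr e, Nat.card_sigma]
  have hfib : ∀ P : Sylow p X, Nat.card {x : X // x ∈ (P : Subgroup X) ∧ x ≠ 1} = p - 1 := by
    intro P
    have h1 : Nat.card {x : X // x ∈ (P : Subgroup X) ∧ x ≠ 1} =
        (((P : Subgroup X) : Set X) \ {1}).ncard := by
      rw [← Nat.card_coe_set_eq]
      rfl
    rw [h1, Set.ncard_sdiff_singleton_of_mem (P : Subgroup X).one_mem, ← Nat.card_coe_set_eq]
    exact congrArg (· - 1) (hcardP P)
  rw [Finset.sum_congr rfl (fun P _ => hfib P), Finset.sum_const, Finset.card_univ, smul_eq_mul,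
    Nat.card_eq_fintype_card, mul_comm]

/-- P8 SIX. -/
theorem not_solvable_of_24 {X : Type u} [Group X] [Finite X] (h5 : 5 ∣ Nat.card X)
    (h25 : ¬ 25 ∣ Nat.card X) (h24 : Nat.card {x : X // orderOf x = 5} = 24) :
    ¬ Group.IsSolvable X := by
  intro hsol
  haveI : Fact (Nat.Prime 5) := ⟨by norm_num⟩
  have hfac : (Nat.card X).factorization 5 = 1 :=
    factorization_eq_one_of_dvd_not_sq_dvd (by norm_num) Nat.card_pos.ne' h5 (by norm_num; exact h25)
  have h := card_orderOf_eq_prime (X := X) 5 hfac
  rw [h24] at h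
  have h6 : Nat.card (Sylow 5 X) = 6 := by omega
  have hS := Cfsg.Agent.S4345.result hsol 5 2 Nat.prime_two
  rw [h6] at hS
  have hf2 : (6 : ℕ).factorization 2 = 1 :=
    factorization_eq_one_of_dvd_not_sq_dvd Nat.prime_two (by norm_num) (by norm_num) (by norm_num)
  rw [hf2] at hS
  exact absurd hS (by decide)

end Cfsg.Agent.Lib.H25.OT
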