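import Cfsg.Agent.Lib.H25.PPClaimA

set_option autoImplicit false

/-!
Subsystems of `p`-power index, part 3 (helper25): the fusion system `F_T` over `T` generated by
`Inn(T)` and the automorphisms of order prime to `p` of the subgroups of `T`; it is a subsystem of
`F` of `p`-power index.
-/

namespace Cfsg.Agent.Lib.H25.PP

open Cfsg Cfsg.FusionSystem Cfsg.Agent.Lib.H25 Cfsg.Agent.Lib.H26.Nil

variable {Ω : Type*} [Group Ω] {S : Subgroup Ω}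

/-- The full subsystem of `F` on the subgroup `T` of `S`. -/
def resSys (F : FusionSystem S) (T : Subgroup Ω) (hTS : T ≤ S) : FusionSystem T where
  Hom P := {φ | φ ∈ F.Hom P ∧ P ≤ T ∧ ∀ x : P, φ x ∈ T}
  le_of_mem h := ⟨h.2.1, h.2.2⟩
  injective_of_mem h := F.injective_of_mem h.1
  conj_mem := by
    intro P g hP hg
    refine ⟨F.conj_mem (hP.trans hTS) (hTS hg), hP, fun x => ?_⟩
    rw [conjHom_apply]
    exact T.mul_mem (T.mul_mem hg (hP x.2)) (T.inv_mem hg)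
  comp_mem := by
    intro P Q φ ψ hφ hψ h
    exact ⟨F.comp_mem hφ.1 hψ.1 h, hφ.2.1, fun x => hψ.2.2 _⟩
  inv_mem := by
    intro P φ hφ
    obtain ⟨ψ, hψ, hψφ⟩ := F.inv_mem hφ.1
    refine ⟨ψ, ⟨hψ, ?_, ?_⟩, hψφ⟩
    · rintro _ ⟨x, rfl⟩
      exact hφ.2.2 x
    · rintro ⟨_, x, rfl⟩
      rw [hψφ x]
      exact hφ.2.1 x.2

theorem isIso_resSys_iff {F : FusionSystem S} {T : Subgroup Ω} {hTS : T ≤ S} {P Q : Subgroup Ω}
    {f : Ω → Ω} : IsIso (resSys F T hTS) P Q f ↔ IsIso F P Q f ∧ P ≤ T ∧ Q ≤ T := by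
  constructor
  · rintro ⟨φ, ⟨hφ, hP, hφT⟩, hφf, hr⟩
    refine ⟨⟨φ, hφ, hφf, hr⟩, hP, ?_⟩
    rw [← hr]
    rintro _ ⟨x, rfl⟩
    exact hφT x
  · rintro ⟨⟨φ, hφ, hφf, hr⟩, hP, hQ⟩
    refine ⟨φ, ⟨hφ, hP, fun x => hQ ?_⟩, hφf, hr⟩
    rw [← hr]
    exact ⟨x, rfl⟩

/-- The isomorphisms of `F_T`: a chain followed by conjugation by an element of `T`. -/
def TIso (F : FusionSystem S) (p : ℕ) (T : Subgroup Ω) (P Q : Subgroup Ω) (f : Ω → Ω) : Prop :=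
  IsIso F P Q f ∧ ∃ t ∈ T, ∃ (P₀ : Subgroup Ω) (f₀ : Ω → Ω), PChain F p T P P₀ f₀ ∧
    ∀ x ∈ P, f x = t * f₀ x * t⁻¹

namespace TIso

variable {F : FusionSystem S} {p : ℕ} {T : Subgroup Ω} {P Q R : Subgroup Ω} {f g : Ω → Ω}

theorem isIso (h : TIso F p T P Q f) : IsIso F P Q f := h.1

theorem le_left (h : TIso F p T P Q f) : P ≤ T := by
  obtain ⟨-, t, -, P₀, f₀, hc, -⟩ := h
  exact hc.le_left

theorem le_right (h : TIso F p T P Q f) : Q ≤ T := by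
  obtain ⟨hf, t, ht, P₀, f₀, hc, hv⟩ := h
  intro y hy
  obtain ⟨x, hx, rfl⟩ := hf.surjOn hy
  rw [hv x hx]
  exact T.mul_mem (T.mul_mem ht (hc.le_right (hc.isIso.map_mem hx))) (T.inv_mem ht)

theorem of_chain (hTS : T ≤ S) (h : PChain F p T P Q f) : TIso F p T P Q f :=
  ⟨h.isIso, 1, T.one_mem, Q, f, h, fun x _ => by simp⟩

theorem congr (h : TIso F p T P Q f) (hfg : ∀ x ∈ P, f x = g x) : TIso F p T P Q g := by
  obtain ⟨hf, t, ht, P₀, f₀, hc, hv⟩ := h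
  exact ⟨hf.congr hfg, t, ht, P₀, f₀, hc, fun x hx => by rw [← hfg x hx, hv x hx]⟩

/-- Conjugation by an element of `T`. -/
theorem conjT (hTS : T ≤ S) (hP : P ≤ T) {t : Ω} (ht : t ∈ T) : TIso F p T P (cjs t P) (cf t) :=
  ⟨isIso_cf F (hP.trans hTS) (hTS ht), t, ht, P, id, PChain.refl hTS hP, fun _ _ => rfl⟩

theorem restrict (h : TIso F p T P Q f) {P' Q' : Subgroup Ω} (hP' : P' ≤ P)
    (hf' : IsIso F P' Q' f) : TIso F p T P' Q' f := by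
  obtain ⟨hf, t, ht, P₀, f₀, hc, hv⟩ := h
  obtain ⟨P₀', -, hc'⟩ := hc.exists_restrict hP'
  exact ⟨hf', t, ht, P₀', f₀, hc', fun x hx => hv x (hP' hx)⟩

theorem trans (hTS : T ≤ S) (h1 : TIso F p T P Q f) (h2 : TIso F p T Q R g) :
    TIso F p T P R (g ∘ f) := by
  obtain ⟨hf, t, ht, P₀, f₀, hc, hv⟩ := h1
  obtain ⟨hg, u, hu, Q₀, g₀, hd, hw⟩ := h2
  have hP₀S : P₀ ≤ S := hc.le_right.trans hTS
  have htT : ∀ (s : Ω), s ∈ T → ∀ x ∈ T, s * x * s⁻¹ ∈ T :=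
    fun s hs x hx => T.mul_mem (T.mul_mem hs hx) (T.inv_mem hs)
  -- `t P₀ t⁻¹ = Q`
  have hQ : cjs t P₀ = Q := by
    have h1 : IsIso F P (cjs t P₀) (cf t ∘ f₀) := hc.isIso.trans (isIso_cf F hP₀S (hTS ht))
    exact IsIso.target_eq h1 hf (fun x hx => (hv x hx).symm)
  have hd' := hd.conj' (S.inv_mem (hTS ht)) (htT _ (T.inv_mem ht))
  rw [← hQ, cjs_inv_cjs] at hd'
  refine ⟨hf.trans hg, u * t, T.mul_mem hu ht, _, _, PChain.trans' hc hd', fun x hx => ?_⟩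
  show g (f x) = u * t * (cf t⁻¹ (g₀ (cf t⁻¹⁻¹ (f₀ x)))) * (u * t)⁻¹
  rw [hw _ (hf.map_mem hx), hv x hx, inv_inv]
  simp only [cf_apply]
  group

theorem symm [Fact p.Prime] (hTS : T ≤ S) (h : TIso F p T P Q f) (hg : IsIso F Q P g)
    (hgf : ∀ x ∈ P, g (f x) = x) : TIso F p T Q P g := by
  obtain ⟨hf, t, ht, P₀, f₀, hc, hv⟩ := h
  have hP₀S : P₀ ≤ S := hc.le_right.trans hTS
  have htT : ∀ (s : Ω), s ∈ T → ∀ x ∈ T, s * x * s⁻¹ ∈ T :=
    fun s hs x hx => T.mul_mem (T.mul_mem hs hx) (T.inv_mem hs)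
  have hQ : cjs t P₀ = Q := by
    have h1 : IsIso F P (cjs t P₀) (cf t ∘ f₀) := hc.isIso.trans (isIso_cf F hP₀S (hTS ht))
    exact IsIso.target_eq h1 hf (fun x hx => (hv x hx).symm)
  obtain ⟨k, hk, hk1, hk2⟩ := hc.isIso.symm
  have hc' : PChain F p T P₀ P k := hc.symm hk hk1
  have hc'' := hc'.conj' (hTS ht) (htT t ht)
  rw [hQ] at hc''
  -- `g = t⁻¹ ∘ (t k t⁻¹)`
  refine ⟨hg, t⁻¹, T.inv_mem ht, _, _, hc'', fun y hy => ?_⟩
  obtain ⟨x, hx, rfl⟩ := hf.surjOn hy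
  show g (f x) = t⁻¹ * cf t (k (cf t⁻¹ (f x))) * t⁻¹⁻¹
  rw [hgf x hx, hv x hx]
  have e : cf t⁻¹ (t * f₀ x * t⁻¹) = f₀ x := cf_inv_cf t (f₀ x)
  rw [e, hk1 x hx]
  simp only [cf_apply]
  group

/-- Invariance under conjugation by elements of `S`, for `T` normal in `S`. -/
theorem conj (hTS : T ≤ S) (hTn : ∀ g ∈ S, ∀ x ∈ T, g * x * g⁻¹ ∈ T) (h : TIso F p T P Q f)
    {s : Ω} (hs : s ∈ S) : TIso F p T (cjs s P) (cjs s Q) (cf s ∘ f ∘ cf s⁻¹) := by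
  obtain ⟨hf, t, ht, P₀, f₀, hc, hv⟩ := h
  have hPS : P ≤ S := hf.le_left
  have hiso : IsIso F (cjs s P) (cjs s Q) (cf s ∘ f ∘ cf s⁻¹) :=
    ((isIso_cf_inv F hPS hs).trans hf).trans (isIso_cf F hf.le_right hs)
  refine ⟨hiso, s * t * s⁻¹, hTn s hs t ht, _, _, hc.conj hTn hs, fun y hy => ?_⟩
  obtain ⟨x, hx, rfl⟩ := hy
  show cf s (f (cf s⁻¹ (cf s x))) = s * t * s⁻¹ * cf s (f₀ (cf s⁻¹ (cf s x))) * (s * t * s⁻¹)⁻¹
  rw [cf_inv_cf, hv x hx]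
  simp only [cf_apply]
  group

end TIso

section

variable {F : FusionSystem S} {p : ℕ} [Fact p.Prime] {T : Subgroup Ω}

theorem isoPred_tiso (hTS : T ≤ S) : IsoPred (resSys F T hTS) (TIso F p T) where
  sub := fun h => isIso_resSys_iff.2 ⟨h.1, h.le_left, h.le_right⟩
  congr := fun h hfg => h.congr hfg
  conj := fun hP _ hs => ⟨_, TIso.conjT hTS hP hs⟩
  restrict := fun h hP' hf' => h.restrict hP' (isIso_resSys_iff.1 hf').1
  trans := fun h1 h2 => h1.trans hTS h2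
  symm := fun h hg hgf => h.symm hTS (isIso_resSys_iff.1 hg).1 hgf

/-- The fusion system `F_T` over `T` generated by `Inn(T)` and the automorphisms of order prime
to `p` of subgroups of `T`. -/
def tSys (F : FusionSystem S) (p : ℕ) [Fact p.Prime] (T : Subgroup Ω) (hTS : T ≤ S) :
    FusionSystem T := sysOfPred (isoPred_tiso (F := F) (p := p) hTS)

theorem isIso_tSys_iff {hTS : T ≤ S} {P Q : Subgroup Ω} {f : Ω → Ω} :
    IsIso (tSys F p T hTS) P Q f ↔ TIso F p T P Q f :=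
  isIso_sysOfPred_iff _

theorem tSys_isSubsystemOf (hTS : T ≤ S) : (tSys F p T hTS).IsSubsystemOf F := by
  intro P φ hφ
  have h1 : IsIso (tSys F p T hTS) P φ.range (ext1 φ) := isIso_of_mem _ hφ
  have h2 := (isIso_tSys_iff.1 h1).1
  exact mem_hom_of_isIso F h2 (fun x => (ext1_apply φ x).symm)

/-- `F_T` contains `O^p(Aut_F(P))` for every `P ≤ T`. -/
theorem pResidual_le_tSys (hTS : T ≤ S) {P : Subgroup Ω} (hP : P ≤ T) :
    (pResidual p (F.autGroup P)).map (F.autGroup P).subtype ≤ (tSys F p T hTS).autGroup P := by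
  rw [Subgroup.map_le_iff_le_comap]
  refine (Subgroup.closure_le _).2 ?_
  intro β hβ
  rw [SetLike.mem_coe, Subgroup.mem_comap]
  show (β : MulAut P) ∈ _
  have hord : (orderOf (β : MulAut P)).Coprime p := by
    rw [Subgroup.orderOf_coe]
    exact hβ
  have hq : QAut F p P (aut1 (β : MulAut P)) := qAut_of_orderOf (hP.trans hTS) β.2 hord
  have hc : PChain F p T P P (aut1 (β : MulAut P)) :=
    PChain.base hP hq le_rfl hq.1 (fun _ _ => rfl)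
  have hiso : IsIso (tSys F p T hTS) P P (aut1 (β : MulAut P)) :=
    isIso_tSys_iff.2 (TIso.of_chain hTS hc)
  obtain ⟨γ, hγ, hγv⟩ := exists_mem_autGroup_of_isIso _ hiso
  have : γ = (β : MulAut P) := by
    ext x
    rw [hγv, aut1_apply]
  rw [← this]
  exact hγ

theorem tSys_hasPPowerIndexIn (hTS : T ≤ S) (hyp : F.hyperfocalSubgroup p ≤ T) :
    (tSys F p T hTS).HasPPowerIndexIn F p :=
  ⟨tSys_isSubsystemOf hTS, hyp, fun _ hP => pResidual_le_tSys hTS hP⟩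

end

end Cfsg.Agent.Lib.H25.PP
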