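/-
Oliver's lemma (Reductions to simple fusion systems, Lemma 1.26), function-level form: the system
`F₀ = E_{H_χ}` is saturated of index prime to `p` in `F`, contains `E`, is invariant under
`Aut_F(S)`, and is different from `F`.
-/
import Mathlib
import Cfsg.Prelude.Def_FusionSystem
import Cfsg.Agent.Lib.H25.OliverSys
import Cfsg.Agent.Lib.H25.PPSys
set_option autoImplicit false

namespace Cfsg.Agent.Lib.H25.Oliver

open Cfsg Cfsg.FusionSystem Cfsg.Agent.Lib.H25 Cfsg.Agent.S5114 Cfsg.Agent.S5119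
  Cfsg.Agent.Lib.H25.FrG

variable {Ω : Type*} [Group Ω] {S : Subgroup Ω} {F : FusionSystem S} {T : Subgroup Ω}
  {Δ : Type*} [Group Δ]

section

variable [Finite S] [Finite Δ] {p : ℕ} [Fact p.Prime] {E : FusionSystem T}
  {χ : ↥(F.autGroup T) →* Δ}
  (hS : IsPGroup p S) (hF : F.IsSaturated p) (hE : E.IsNormalIn F p)
  (hΔ : (Nat.card Δ).Coprime p) (hker : (E.autGroup T).subgroupOf (F.autGroup T) ≤ χ.ker)

include hS hF hE in
theorem pPHyp_dIso :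
    PPHyp F p (sysOfPred (isoPred_dIso hS hE.1.1 hE.1.2.2 hΔ hker)) := fun Q hQ =>
  pPHyp_of_pPHypC hS hF _ (pPHypC_dIso (χ := χ) hS hE.1.1 hE.1.2.2 hΔ hker)
    (good_classInv hE.1.2.2) (fun _ hR => good_of_essential hS hF hE hR) Q hQ.1

/-- The system `F₀`. -/
def F0 : FusionSystem S :=
  EHC F p (autFamC_hChi (χ := χ) hS hF hE hΔ hker) (good_top hE.1.2.2.2.1.1)

theorem isIso_F0_iff {P Q : Subgroup Ω} {f : Ω → Ω} :
    IsIso (F0 hS hF hE hΔ hker) P Q f ↔ HIso F p (HChi F χ) P Q f :=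
  isIso_EHC_iff _ _

theorem F0_le : (F0 hS hF hE hΔ hker).IsSubsystemOf F := EHC_le _ _

theorem pPHyp_F0 : PPHyp F p (F0 hS hF hE hΔ hker) := pPHyp_EHC _ _

/-- The maps of `F₀` have degree one. -/
theorem deg_of_F0 {P Q : Subgroup Ω} {f : Ω → Ω} (h : IsIso (F0 hS hF hE hΔ hker) P Q f)
    (hc : E.IsCentric (P ⊓ T)) : Deg E χ (P ⊓ T) f 1 := by
  have hinv := hE.1.2.2
  obtain ⟨hfF, a, a', f₀, P₀, ha, h₀, hv⟩ := (isIso_F0_iff hS hF hE hΔ hker).1 h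
  have h1 := (isIso_sysOfPred_iff _).1 (h₀.isIso_of_pPHyp (pPHyp_dIso hS hF hE hΔ hker))
  have h2 : Deg E χ (P ⊓ T) f₀ 1 := h1.2 hc
  have hf₀T := inter_iso hinv.2.1 h₀.toF
  have h3 : Deg E χ (P₀ ⊓ T) a 1 := Deg.of_chi ha.2 inf_le_right
  have := Deg.comp hinv inf_le_right hf₀T h2 h3
  rw [mul_one] at this
  exact this.congr (fun x hx => (hv x hx.1).symm)

/-- `Aut_{F₀}(S) = H_χ`. -/
theorem isIso_F0_top_iff {f : Ω → Ω} :
    IsIso (F0 hS hF hE hΔ hker) S S f ↔ ∃ f', HChi F χ f f' := by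
  have hH := autFamC_hChi (χ := χ) hS hF hE hΔ hker
  have hTS := hE.1.2.2.2.1.1
  constructor
  · intro h
    obtain ⟨hfF, a, a', f₀, S₀, ha, h₀, hv⟩ := (isIso_F0_iff hS hF hE hΔ hker).1 h
    have hS₀ : S₀ = S :=
      Subgroup.eq_of_le_of_card_ge h₀.toF.le_right (le_of_eq h₀.toF.card_eq)
    rw [hS₀] at h₀
    obtain ⟨f₀', hf₀'⟩ := AutS.exists_inv h₀.toF
    have h1 : HChi F χ f₀ f₀' := hH.gen hf₀' (isCentric_top F) (good_top hTS) h₀
    have h2 := hH.trans ha h1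
    obtain ⟨f', hf'⟩ := AutS.exists_inv hfF
    refine ⟨f₀' ∘ a', hH.congr h2 (fun x hx => (hv x hx).symm) (fun _ _ => rfl)⟩
  · rintro ⟨f', hf'⟩
    exact (isIso_F0_iff hS hF hE hΔ hker).2 (hIso_of_memC hH hf')

omit [Finite Δ] in
/-- `H_χ` is normalized by `Aut_F(S)`. -/
theorem hChi_conj (hTsc : F.StronglyClosed T) {a a' b b' : Ω → Ω} (ha : AutS F a a')
    (hb : HChi F χ b b') : HChi F χ (a ∘ b ∘ a') (a ∘ b' ∘ a') := by
  have hTS := hTsc.1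
  refine ⟨(ha.trans hb.1).trans ha.symm, ?_⟩
  have haT : IsIso F T T a := stronglyClosed_isIso_self hTsc ha.1 hTS
  obtain ⟨d, hd⟩ := ChiVal.exists_of_isIso (χ := χ) haT
  have hd' := hd.inv (a' := a') (fun x hx => ha.2.2.1 x (hTS hx))
  have := hd.comp (hb.2.comp hd')
  rwa [one_mul, mul_inv_cancel] at this

/-- `F₀` is invariant under conjugation by `Aut_F(S)`. -/
theorem F0_conj {P Q P₁ Q₁ : Subgroup Ω} {f a a' : Ω → Ω}
    (h : IsIso (F0 hS hF hE hΔ hker) P Q f) (ha : AutS F a a') (hP₁ : IsIso F P P₁ a)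
    (hQ₁ : IsIso F Q Q₁ a) : IsIso (F0 hS hF hE hΔ hker) P₁ Q₁ (a ∘ f ∘ a') := by
  obtain ⟨hfF, b, b', f₀, P₀, hb, h₀, hv⟩ := (isIso_F0_iff hS hF hE hΔ hker).1 h
  rw [isIso_F0_iff]
  have hPS := hfF.le_left
  have hP₀S := h₀.toF.le_right
  have ha'P : IsIso F P₁ P a' := by
    refine ha.2.1.restrict' hP₁.le_right (fun y hy => ?_) (fun x hx => ?_)
    · obtain ⟨x, hx, rfl⟩ := hP₁.surjOn hy
      rw [ha.2.2.1 x (hPS hx)]
      exact hx
    · exact ⟨a x, hP₁.map_mem hx, ha.2.2.1 x (hPS hx)⟩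
  obtain ⟨P₀₁, hP₀₁⟩ := ha.exists_image hP₀S
  have hJ : JIso F p P₁ P₀₁ (a ∘ f₀ ∘ a') := h₀.conj ha hP₁ hP₀₁
  refine ⟨(ha'P.trans hfF).trans hQ₁, a ∘ b ∘ a', a ∘ b' ∘ a', a ∘ f₀ ∘ a', P₀₁,
    hChi_conj hE.1.2.2.2.1 ha hb, hJ, fun y hy => ?_⟩
  show a (f (a' y)) = a (b (a' (a (f₀ (a' y)))))
  have hy' : a' y ∈ P := ha'P.map_mem hy
  rw [ha.2.2.1 _ (hP₀S (h₀.toF.map_mem hy')), hv _ hy']

include hS hF hE in
/-- The centric subgroups outside the class are not radical in `F₀`. -/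
theorem F0_hstar : ∀ P : Subgroup Ω, F.IsCentric P → ¬ Good E P →
    ∃ Q, (F0 hS hF hE hΔ hker).IsConj P Q ∧
      ¬ (autInducedBy S Q ⊓ (pCore p ↥((F0 hS hF hE hΔ hker).autGroup Q)).map
        ((F0 hS hF hE hΔ hker).autGroup Q).subtype ≤ Inn Q) := by
  intro P hP hPg
  have hinv := hE.1.2.2
  have hTsc := hinv.2.1
  have hTS := hTsc.1
  obtain ⟨P', f, x, hf, hxC, hxP', hxN⟩ := exists_bad hS hF hinv hP hPg
  obtain ⟨-, a, a', f₀, P₀, ha, h₀, hv⟩ :=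
    fiso_all hS hF (F0 hS hF hE hΔ hker) (pPHyp_F0 hS hF hE hΔ hker) P P' f hf
  obtain ⟨haP₀, ha'P'⟩ := factor_images hf ha h₀ hv
  refine ⟨P₀, h₀.toE.isConj, ?_⟩
  have hP₀c : F.IsCentric P₀ := isCentric_of_isIso hP h₀.1
  have hP'S : P' ≤ S := hf.le_right
  have hP₀S : P₀ ≤ S := hP₀c.1
  have hxS : x ∈ S := hTS hxC.1
  have ha'T : IsIso F T T a' := stronglyClosed_isIso_self hTsc ha.2.1 hTS
  have haT : IsIso F T T a := stronglyClosed_isIso_self hTsc ha.1 hTS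
  -- conjugation by the image of a normalizing element
  have hnorm : ∀ n ∈ S, n ∈ Subgroup.normalizer (P' : Set Ω) → ∀ v ∈ P₀,
      a' n * v * (a' n)⁻¹ ∈ P₀ := by
    intro n hnS hn v hv'
    obtain ⟨y, hy, rfl⟩ := ha'P'.surjOn hv'
    have hyS := hP'S hy
    rw [← ha.2.1.map_inv hnS, ← ha.2.1.map_mul hnS hyS,
      ← ha.2.1.map_mul (S.mul_mem hnS hyS) (S.inv_mem hnS)]
    exact ha'P'.map_mem ((Subgroup.mem_normalizer_iff.1 hn y).1 hy)
  apply bad_not_radical hS (F0_le hS hF hE hΔ hker) hTsc hP₀c (x := a' x)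
  · refine ⟨ha'T.map_mem hxC.1, ?_⟩
    show a' x ∈ Subgroup.centralizer ((P₀ ⊓ T : Subgroup Ω) : Set Ω)
    rw [Subgroup.mem_centralizer_iff]
    rintro w ⟨hw1, hw2⟩
    have hawP : a w ∈ P' := haP₀.map_mem hw1
    have hawT : a w ∈ T := haT.map_mem hw2
    have hcomm := (Subgroup.mem_centralizer_iff.1 hxC.2) (a w) ⟨hawP, hawT⟩
    have hw' : a' (a w) = w := ha.2.2.1 w (hP₀S hw1)
    rw [← hw', ← ha.2.1.map_mul (hP'S hawP) hxS, ← ha.2.1.map_mul hxS (hP'S hawP), hcomm]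
  · intro hcon
    apply hxP'
    have := haP₀.map_mem hcon
    rwa [ha.2.2.2 x hxS] at this
  · rw [Subgroup.mem_normalizer_iff]
    intro w
    constructor
    · intro hw
      exact hnorm x hxS hxN w hw
    · intro hw
      have h1 := hnorm x⁻¹ (S.inv_mem hxS) (Subgroup.inv_mem _ hxN) _ hw
      rw [ha.2.1.map_inv hxS] at h1
      have h2 : (a' x)⁻¹ * (a' x * w * (a' x)⁻¹) * (a' x)⁻¹⁻¹ = w := by group
      rwa [h2] at h1

include hS hF hE in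
/-- `F₀` is saturated. -/
theorem F0_saturated : (F0 hS hF hE hΔ hker).IsSaturated p :=
  EHC_saturated hS hF _ _ (good_classInv hE.1.2.2)
    (fun _ hR => good_of_essential hS hF hE hR) (F0_hstar hS hF hE hΔ hker)

/-- `E` is contained in `F₀`. -/
theorem E_le_F0 : ∀ P : Subgroup Ω, E.Hom P ⊆ (F0 hS hF hE hΔ hker).Hom P := by
  have hEs := hE.1.1
  have hinv := hE.1.2.2
  have hTsc := hinv.2.1
  have hTS := hTsc.1
  have hfinT : Finite T := finite_of_le S hTS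
  have hTp : IsPGroup p T := hS.to_le hTS
  have hH := autFamC_hChi (χ := χ) hS hF hE hΔ hker
  have key := alperin_ind hTp E hEs (PP.resSys (F0 hS hF hE hΔ hker) T hTS) (fun P hP _ => ?_)
  · intro P φ hφ
    exact (key P hφ).1
  · have hPc : E.IsCentric P := by
      rcases hP with rfl | hP
      · exact isCentric_top E
      · exact hP.1
    have hPT : P ≤ T := hPc.1
    have hPe : P ⊓ T = P := inf_eq_left.2 hPT
    apply autGroup_le_of_isIso hPT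
    intro f hf
    rw [PP.isIso_resSys_iff]
    refine ⟨?_, hPT, hPT⟩
    have hfF : IsIso F P P f := by
      obtain ⟨φ, hφ, hφv, hr⟩ := hf
      exact ⟨φ, hinv.1 _ hφ, hφv, hr⟩
    obtain ⟨-, b, b', f₀, P₀, hb, h₀, hv⟩ :=
      fiso_all hS hF (F0 hS hF hE hΔ hker) (pPHyp_F0 hS hF hE hΔ hker) P P f hfF
    obtain ⟨hbP₀, -⟩ := factor_images hfF hb h₀ hv
    have hP₀T : P₀ ≤ T := stronglyClosed_image_le hTsc h₀.1 hPT
    have hc' : E.IsCentric (P ⊓ T) := by rw [hPe]; exact hPc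
    have h1 : Deg E χ (P ⊓ T) f₀ 1 := deg_of_F0 hS hF hE hΔ hker h₀.toE hc'
    rw [hPe] at h1
    have hbT : IsIso F T T b := stronglyClosed_isIso_self hTsc hb.1 hTS
    obtain ⟨d, hd⟩ := ChiVal.exists_of_isIso (χ := χ) hbT
    have h2 : Deg E χ P₀ b d := Deg.of_chi hd hP₀T
    have h3 := Deg.comp hinv hPT h₀.1 h1 h2
    have h4 : Deg E χ P f (d * 1) := h3.congr (fun x hx => (hv x hx).symm)
    have h5 : Deg E χ P f 1 := Deg.of_E hf
    have h6 := Deg.unique hS hEs hinv hΔ hker hPc h4 h5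
    rw [mul_one] at h6
    rw [h6] at hd
    have hbH : HChi F χ b b' := ⟨hb, hd⟩
    have hbF0 : IsIso (F0 hS hF hE hΔ hker) S S b :=
      (isIso_F0_iff hS hF hE hΔ hker).2 (hIso_of_memC hH hbH)
    have hbP₀' : IsIso (F0 hS hF hE hΔ hker) P₀ P b := by
      refine hbF0.restrict' hbP₀.le_left (fun y hy => hbP₀.map_mem hy) (fun z hz => ?_)
      exact hbP₀.surjOn hz
    exact (h₀.toE.trans hbP₀').congr (fun x hx => (hv x hx).symm)

/-- `F₀` is different from `F`. -/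
theorem F0_ne (hχ : Function.Surjective χ) [Nontrivial Δ] :
    ∃ b : Ω → Ω, IsIso F S S b ∧ ¬ IsIso (F0 hS hF hE hΔ hker) S S b := by
  have hEs := hE.1.1
  have hinv := hE.1.2.2
  have hTsc := hinv.2.1
  have hTS := hTsc.1
  have hfinT : Finite T := finite_of_le S hTS
  obtain ⟨d₀, hd₀⟩ := exists_ne (1 : Δ)
  obtain ⟨β, hβ⟩ := hχ d₀
  have hg : ChiVal χ (aut1 (β : MulAut T)) d₀ := by
    have := ChiVal.of_mem (χ := χ) hTS β.2
    rwa [show (⟨(β : MulAut T), β.2⟩ : ↥(F.autGroup T)) = β from rfl, hβ] at this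
  have hgT : IsIso F T T (aut1 (β : MulAut T)) := hg.isIso hTS
  obtain ⟨-, b, b', g₀, T₀, hb, h₀, hv⟩ :=
    fiso_all hS hF (F0 hS hF hE hΔ hker) (pPHyp_F0 hS hF hE hΔ hker) T T _ hgT
  have hTc : E.IsCentric T := isCentric_top E
  have hTe : T ⊓ T = T := inf_idem T
  have hc' : E.IsCentric (T ⊓ T) := by rw [hTe]; exact hTc
  have h1 : Deg E χ (T ⊓ T) g₀ 1 := deg_of_F0 hS hF hE hΔ hker h₀.toE hc'
  rw [hTe] at h1
  have hT₀T : T₀ ≤ T := stronglyClosed_image_le hTsc h₀.1 le_rfl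
  have hbT : IsIso F T T b := stronglyClosed_isIso_self hTsc hb.1 hTS
  obtain ⟨d, hd⟩ := ChiVal.exists_of_isIso (χ := χ) hbT
  have h2 : Deg E χ T₀ b d := Deg.of_chi hd hT₀T
  have h3 := Deg.comp hinv le_rfl h₀.1 h1 h2
  have h4 : Deg E χ T (aut1 (β : MulAut T)) (d * 1) := h3.congr (fun x hx => (hv x hx).symm)
  have h5 : Deg E χ T (aut1 (β : MulAut T)) d₀ := Deg.of_chi hg le_rfl
  have h6 := Deg.unique hS hEs hinv hΔ hker hTc h4 h5
  rw [mul_one] at h6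
  refine ⟨b, hb.1, fun hcon => ?_⟩
  obtain ⟨b'', hb''⟩ := (isIso_F0_top_iff hS hF hE hΔ hker).1 hcon
  have := hb''.2.unique hd
  rw [h6] at this
  exact hd₀ this.symm

end

end Cfsg.Agent.Lib.H25.Oliver
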