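import Mathlib
import Cfsg.Prelude.Def_SolvableStructure
import Cfsg.Agent.Lib.H3.Supersolvable
import Cfsg.Agent.Lib.H3.Supersolvable2
import Cfsg.Agent.Lib.H9.Huppert

/-!
# Groups with the same order type as a supersolvable group are solvable

Elementary proof: a supersolvable group has a Sylow tower (normal Sylow for the largest prime,
then recurse in the quotient).  The function `d ↦ #{x | x ^ d = 1}` is determined by the order
type, detects a normal Hall subgroup of Sylow order, and passes to the quotient by a normal Hall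
subgroup.  A joint induction then gives a normal series of `H` with `p`-group factors.
-/

set_option autoImplicit false
set_option linter.style.haveILetI false

namespace Cfsg.Agent.Lib.H25.OrderTypeSS

open Cfsg.Agent.Lib.H3

/-- In a finite group, for a normal Hall subgroup `N`, `x ^ |N| = 1 ↔ x ∈ N`. -/
theorem pow_card_eq_one_iff_mem {K : Type*} [Group K] [Finite K] (N : Subgroup K) [N.Normal]
    (hcop : (Nat.card N).Coprime N.index) (x : K) : x ^ Nat.card N = 1 ↔ x ∈ N := by
  constructor
  · intro hx
    have h1 : ((x : K) : K ⧸ N) ^ Nat.card N = 1 := by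
      rw [← QuotientGroup.mk_pow, hx]; rfl
    have h2 : ((x : K) : K ⧸ N) ^ N.index = 1 := by
      rw [Subgroup.index_eq_card]; exact pow_card_eq_one'
    have h3 : orderOf ((x : K) : K ⧸ N) ∣ Nat.gcd (Nat.card N) N.index :=
      Nat.dvd_gcd (orderOf_dvd_of_pow_eq_one h1) (orderOf_dvd_of_pow_eq_one h2)
    rw [hcop, Nat.dvd_one, orderOf_eq_one_iff] at h3
    exact (QuotientGroup.eq_one_iff x).mp h3
  · intro hx
    exact orderOf_dvd_iff_pow_eq_one.mp (Subgroup.orderOf_dvd_natCard N hx)

/-- For a normal Hall subgroup `N`, `#{x | x ^ |N| = 1} = |N|`. -/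
theorem card_pow_card_eq_one {K : Type*} [Group K] [Finite K] (N : Subgroup K) [N.Normal]
    (hcop : (Nat.card N).Coprime N.index) :
    Nat.card {x : K // x ^ Nat.card N = 1} = Nat.card N :=
  Nat.card_congr (Equiv.subtypeEquivRight (pow_card_eq_one_iff_mem N hcop))

/-- For a normal Hall subgroup `N` of order `q`: `#{x | x ^ (q d) = 1} = q · #{y ∈ K/N | y ^ d = 1}`. -/
theorem card_pow_mul_eq_one {K : Type*} [Group K] [Finite K] (N : Subgroup K) [N.Normal]
    (hcop : (Nat.card N).Coprime N.index) (d : ℕ) :
    Nat.card {x : K // x ^ (Nat.card N * d) = 1} =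
      Nat.card N * Nat.card {y : K ⧸ N // y ^ d = 1} := by
  have key : ∀ x : K, x ^ (Nat.card N * d) = 1 ↔
      x ∈ (QuotientGroup.mk : K → K ⧸ N) ⁻¹' {y : K ⧸ N | y ^ d = 1} := by
    intro x
    rw [Set.mem_preimage, Set.mem_ofPred_eq, ← QuotientGroup.mk_pow, QuotientGroup.eq_one_iff,
      ← pow_card_eq_one_iff_mem N hcop, ← pow_mul, mul_comm]
  rw [Nat.card_congr (Equiv.subtypeEquivRight key),
    Nat.card_congr (QuotientGroup.preimageMkEquivSubgroupProdSet N _), Nat.card_prod]
  rfl

/-- A Sylow subgroup `S` such that `x ^ |S| = 1` has at most `|S|` solutions is normal. -/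
theorem sylow_normal_of_card_le {K : Type*} [Group K] [Finite K] {p : ℕ} [Fact p.Prime]
    (S : Sylow p K) (hle : Nat.card {x : K // x ^ Nat.card S = 1} ≤ Nat.card S) :
    (S : Subgroup K).Normal := by
  have hsub : ((S : Subgroup K) : Set K) ⊆ {x : K | x ^ Nat.card S = 1} := by
    intro x hx
    exact orderOf_dvd_iff_pow_eq_one.mp (Subgroup.orderOf_dvd_natCard (S : Subgroup K) hx)
  have heq : ((S : Subgroup K) : Set K) = {x : K | x ^ Nat.card S = 1} := by
    apply Set.eq_of_subset_of_ncard_le hsub _ (Set.toFinite _)
    rw [← Nat.card_coe_set_eq, ← Nat.card_coe_set_eq]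
    exact hle
  refine ⟨fun x hx g => ?_⟩
  have hx' : x ^ Nat.card S = 1 := by
    have : x ∈ {x : K | x ^ Nat.card S = 1} := heq ▸ hx
    exact this
  have : g * x * g⁻¹ ∈ {x : K | x ^ Nat.card S = 1} := by
    rw [Set.mem_ofPred_eq, conj_pow, hx', mul_one, mul_inv_cancel]
  rw [← heq] at this
  exact this

/-- The main joint induction. -/
theorem main.{u, v} : ∀ (n : ℕ) (G : Type u) (H : Type v) [Group G] [Finite G] [Group H] [Finite H],
    Nat.card G = n →
    (∀ d : ℕ, Nat.card {g : G // g ^ d = 1} = Nat.card {h : H // h ^ d = 1}) →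
    SSReach (⊤ : Subgroup G) → Group.IsSolvable H := by
  intro n
  induction n using Nat.strong_induction_on with
  | _ n ih =>
    intro G H _ _ _ _ hn hc hG
    have hcard : Nat.card G = Nat.card H := by
      have h0 := hc 0
      simp only [pow_zero] at h0
      rwa [Nat.card_congr (Equiv.subtypeUnivEquiv (fun _ => trivial)),
        Nat.card_congr (Equiv.subtypeUnivEquiv (fun _ => trivial))] at h0
    rcases subsingleton_or_nontrivial G with hsub | hnt
    · have h1 : Nat.card H = 1 := by
        rw [← hcard]; exact Nat.card_eq_one_iff_unique.mpr ⟨hsub, ⟨1⟩⟩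
      have : Subsingleton H := (Nat.card_eq_one_iff_unique.mp h1).1
      exact Group.isSolvable_of_top_eq_bot H (Subsingleton.elim _ _)
    · have hcoat : ∀ M : Subgroup G, IsCoatom M → M.index.Prime :=
        fun M hM => index_prime_of_isCoatom_of_ssReach hG hM
      obtain ⟨p, hp, P, hPn, hPp, hPcop, hPne⟩ :=
        Cfsg.Agent.Lib.H9.Huppert.exists_normal_sylow_largest hcoat
      haveI : Fact p.Prime := ⟨hp⟩
      haveI := hPn
      -- `P` is a Sylow `p`-subgroup of `G`
      have hpP : p ∣ Nat.card P := by
        obtain ⟨k, hk⟩ := IsPGroup.iff_card.mp hPp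
        rcases Nat.eq_zero_or_pos k with rfl | hkpos
        · exfalso
          rw [pow_zero] at hk
          exact hPne ((Subgroup.card_eq_one).mp hk)
        · rw [hk]; exact dvd_pow_self p hkpos.ne'
      have hndvd : ¬ p ∣ P.index := by
        intro hdiv
        have := Nat.dvd_gcd hpP hdiv
        rw [hPcop] at this
        exact hp.one_lt.ne' (Nat.dvd_one.mp this)
      have hPcard : Nat.card P = p ^ (Nat.card G).factorization p :=
        (hPp.toSylow hndvd).card_eq_multiplicity
      -- Sylow of `H`
      obtain ⟨S⟩ : Nonempty (Sylow p H) := inferInstance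
      have hScard : Nat.card S = Nat.card P := by
        rw [S.card_eq_multiplicity, hPcard, hcard]
      have hSn : (S : Subgroup H).Normal := by
        apply sylow_normal_of_card_le S
        rw [hScard, ← hc, card_pow_card_eq_one P hPcop]
      haveI := hSn
      have hScop : (Nat.card S).Coprime (S : Subgroup H).index := S.card_coprime_index
      -- counting functions of the quotients agree
      have hq : ∀ d : ℕ, Nat.card {g : G ⧸ P // g ^ d = 1} =
          Nat.card {h : H ⧸ (S : Subgroup H) // h ^ d = 1} := by
        intro d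
        have h1 := card_pow_mul_eq_one P hPcop d
        have h2 := card_pow_mul_eq_one (S : Subgroup H) hScop d
        rw [hScard, ← hc, h1] at h2
        have hpos : 0 < Nat.card P := Nat.card_pos
        exact Nat.eq_of_mul_eq_mul_left hpos h2
      -- the quotient of `G` is smaller and supersolvable
      have hlt : Nat.card (G ⧸ P) < n := by
        rw [← hn, ← Subgroup.index_eq_card, ← Subgroup.card_mul_index P]
        have h1 : 1 < Nat.card P := by
          rcases Nat.lt_or_ge 1 (Nat.card P) with h | h
          · exact h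
          · exfalso
            have hpos : 0 < Nat.card P := Nat.card_pos
            have : Nat.card P = 1 := by omega
            exact hPne ((Subgroup.card_eq_one).mp this)
        have h2 : 0 < P.index := Nat.pos_of_ne_zero (Subgroup.index_ne_zero_of_finite)
        nlinarith
      have hGq : SSReach (⊤ : Subgroup (G ⧸ P)) := by
        have := hG.map (QuotientGroup.mk' P) (QuotientGroup.mk'_surjective P)
        rwa [Subgroup.map_top_of_surjective _ (QuotientGroup.mk'_surjective P)] at this
      have hsolq : Group.IsSolvable (H ⧸ (S : Subgroup H)) :=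
        ih _ hlt (G ⧸ P) (H ⧸ (S : Subgroup H)) rfl hq hGq
      have hsolS : Group.IsSolvable (S : Subgroup H) := by
        have hnil : Group.IsNilpotent (S : Subgroup H) := S.isPGroup'.isNilpotent
        exact @IsNilpotent.to_isSolvable _ _ hnil
      exact Group.isSolvable_of_ker_le_range (S : Subgroup H).subtype
        (QuotientGroup.mk' (S : Subgroup H)) (by simp)

/-- From equality of order types to an order-preserving bijection. -/
theorem exists_equiv_orderOf {G H : Type*} [Group G] [Finite G] [Group H] [Finite H]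
    (hT : ∀ m : ℕ, Nat.card {g : G // orderOf g = m} = Nat.card {h : H // orderOf h = m}) :
    ∃ e : G ≃ H, ∀ g, orderOf (e g) = orderOf g := by
  have he : ∀ m : ℕ, Nonempty ({g : G // orderOf g = m} ≃ {h : H // orderOf h = m}) :=
    fun m => Finite.card_eq.mp (hT m)
  choose e _ using fun m => (⟨Classical.choice (he m), trivial⟩ :
    ∃ _ : {g : G // orderOf g = m} ≃ {h : H // orderOf h = m}, True)
  refine ⟨(Equiv.sigmaFiberEquiv (fun g : G => orderOf g)).symm.trans
    ((Equiv.sigmaCongrRight e).trans (Equiv.sigmaFiberEquiv (fun h : H => orderOf h))), ?_⟩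
  intro g
  simp only [Equiv.trans_apply, Equiv.sigmaFiberEquiv, Equiv.coe_fn_symm_mk, Equiv.coe_fn_mk,
    Equiv.sigmaCongrRight_apply]
  exact (e (orderOf g) ⟨g, rfl⟩).2

theorem solvable_of_same_order_type {G H : Type*} [Group G] [Finite G] [Group H] [Finite H]
    (hT : ∀ m : ℕ, Nat.card {g : G // orderOf g = m} = Nat.card {h : H // orderOf h = m})
    (hG : Cfsg.IsSupersolvable G) : Group.IsSolvable H := by
  obtain ⟨e, he⟩ := exists_equiv_orderOf hT
  refine main _ G H rfl ?_ (isSupersolvable_iff.mp hG)
  intro d
  refine Nat.card_congr (e.subtypeEquiv fun g => ?_)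
  rw [← orderOf_dvd_iff_pow_eq_one, ← orderOf_dvd_iff_pow_eq_one, he g]

end Cfsg.Agent.Lib.H25.OrderTypeSS
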