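import Mathlib
import Cfsg.Prelude.Def_FusionSystem
import Cfsg.Agent.Lib.H25.Fusion
import Cfsg.Agent.Lib.H25.KNorm
import Cfsg.Agent.Lib.H25.Hyperfocal
import Cfsg.Agent.Lib.H25.SysOfPred
import Cfsg.Agent.Lib.H26.PAut

set_option autoImplicit false

/-!
Subsystems of `p`-power index (AKO Theorem I.7.4, BCGLO2 Theorem 4.3), part 1 (helper25):
automorphisms of order prime to `p` at function level, chains of restrictions of such
automorphisms of subgroups of `T`, and their elementary properties.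
-/

namespace Cfsg.Agent.Lib.H25.PP

open Cfsg Cfsg.FusionSystem Cfsg.Agent.Lib.H25 Cfsg.Agent.Lib.H26.Nil

variable {Ω : Type*} [Group Ω] {S : Subgroup Ω}

/-- `f` induces an automorphism of `U` in the system whose order is prime to `p`. -/
def QAut (F : FusionSystem S) (p : ℕ) (U : Subgroup Ω) (f : Ω → Ω) : Prop :=
  IsIso F U U f ∧ ∃ n : ℕ, n.Coprime p ∧ ∀ x ∈ U, f^[n] x = x

theorem iterate_congr {F : FusionSystem S} {P : Subgroup Ω} {f g : Ω → Ω}
    (hf : IsIso F P P f) (hfg : ∀ x ∈ P, f x = g x) (n : ℕ) :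
    ∀ x ∈ P, g^[n] x = f^[n] x := by
  induction n with
  | zero => intro x _; rfl
  | succ n ih =>
    intro x hx
    rw [Function.iterate_succ_apply', Function.iterate_succ_apply', ih x hx,
      hfg _ (iterate_mem hf n hx)]

namespace QAut

variable {F : FusionSystem S} {p : ℕ} {U : Subgroup Ω} {f g : Ω → Ω}

theorem isIso (h : QAut F p U f) : IsIso F U U f := h.1

theorem congr (h : QAut F p U f) (hfg : ∀ x ∈ U, f x = g x) : QAut F p U g := by
  obtain ⟨hf, n, hn, hfn⟩ := h
  refine ⟨hf.congr hfg, n, hn, fun x hx => ?_⟩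
  rw [iterate_congr hf hfg n x hx, hfn x hx]

theorem refl (hU : U ≤ S) : QAut F p U id :=
  ⟨IsIso.refl hU, 1, Nat.coprime_one_left p, fun _ _ => rfl⟩

/-- Iterates of an automorphism of order prime to `p` have order prime to `p`. -/
theorem iterate (h : QAut F p U f) (k : ℕ) : QAut F p U (f^[k]) := by
  obtain ⟨hf, n, hn, hfn⟩ := h
  refine ⟨isIso_iterate hf k, n, hn, fun x hx => ?_⟩
  rw [← Function.iterate_mul, Nat.mul_comm, Function.iterate_mul]
  have key : ∀ j : ℕ, ∀ y ∈ U, (f^[n])^[j] y = y := by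
    intro j
    induction j with
    | zero => intro y _; rfl
    | succ j ih =>
      intro y hy
      rw [Function.iterate_succ_apply, hfn y hy, ih y hy]
  exact key k x hx

/-- The inverse of an automorphism of order prime to `p`, as an iterate. -/
theorem exists_inv [Fact p.Prime] (h : QAut F p U f) :
    ∃ g, QAut F p U g ∧ (∀ x ∈ U, g (f x) = x) ∧ ∀ x ∈ U, f (g x) = x := by
  obtain ⟨hf, n, hn, hfn⟩ := h
  have hn0 : n ≠ 0 := by
    rintro rfl
    rw [Nat.coprime_zero_left] at hn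
    exact (Fact.out : p.Prime).one_lt.ne' hn
  obtain ⟨m, rfl⟩ := Nat.exists_eq_succ_of_ne_zero hn0
  refine ⟨f^[m], QAut.iterate ⟨hf, m + 1, hn, hfn⟩ m, fun x hx => ?_, fun x hx => ?_⟩
  · rw [← Function.iterate_succ_apply f m x]
    exact hfn x hx
  · rw [← Function.iterate_succ_apply' f m x]
    exact hfn x hx

/-- Transport of an automorphism of order prime to `p` along an isomorphism of the system. -/
theorem transport {U' : Subgroup Ω} {χ χ' : Ω → Ω} (h : QAut F p U f) (hχ : IsIso F U U' χ)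
    (hχ' : IsIso F U' U χ') (h1 : ∀ x ∈ U, χ' (χ x) = x) :
    QAut F p U' (χ ∘ f ∘ χ') := by
  obtain ⟨hf, n, hn, hfn⟩ := h
  have hiso : IsIso F U' U' (χ ∘ f ∘ χ') := (hχ'.trans hf).trans hχ
  refine ⟨hiso, n, hn, fun y hy => ?_⟩
  have key : ∀ j : ℕ, ∀ x ∈ U, (χ ∘ f ∘ χ')^[j] (χ x) = χ (f^[j] x) := by
    intro j
    induction j with
    | zero => intro x _; rfl
    | succ j ih =>
      intro x hx
      rw [Function.iterate_succ_apply', ih x hx, Function.iterate_succ_apply']
      show χ (f (χ' (χ (f^[j] x)))) = _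
      rw [h1 _ (iterate_mem hf j hx)]
  obtain ⟨x, hx, rfl⟩ := hχ.surjOn hy
  rw [key n x hx, hfn x hx]

/-- An automorphism of order prime to `p` gives an element of `O^p(Aut_F(U))`. -/
theorem exists_mem_pResidual (h : QAut F p U f) :
    ∃ α : F.autGroup U, α ∈ pResidual p (F.autGroup U) ∧
      ∀ x : U, (((α : MulAut U) x : U) : Ω) = f x := by
  obtain ⟨hf, n, hn, hfn⟩ := h
  obtain ⟨α, hα, hαf⟩ := exists_mem_autGroup_of_isIso F hf
  refine ⟨⟨α, hα⟩, Subgroup.subset_closure ?_, hαf⟩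
  show (orderOf (⟨α, hα⟩ : F.autGroup U)).Coprime p
  have hpow : α ^ n = 1 := by
    ext x
    rw [aut_pow_apply hf hαf n x, hfn x x.2]
    rfl
  have hdvd : orderOf (⟨α, hα⟩ : F.autGroup U) ∣ n := by
    rw [Subgroup.orderOf_mk]
    exact orderOf_dvd_of_pow_eq_one hpow
  exact Nat.Coprime.coprime_dvd_left hdvd hn

/-- `x⁻¹ f(x)` lies in the hyperfocal subgroup. -/
theorem inv_mul_mem_hyp (h : QAut F p U f) {x : Ω} (hx : x ∈ U) :
    x⁻¹ * f x ∈ F.hyperfocalSubgroup p := by
  obtain ⟨α, hα, hαf⟩ := h.exists_mem_pResidual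
  have := mem_hyperfocal_gen F p h.1.le_left α hα ⟨x, hx⟩
  rwa [hαf] at this

end QAut

/-- An element of `Aut_F(U)` of order prime to `p` is a `QAut` at function level. -/
theorem qAut_of_orderOf {F : FusionSystem S} {p : ℕ} {U : Subgroup Ω} (hU : U ≤ S)
    {α : MulAut U} (hα : α ∈ F.autGroup U) (hord : (orderOf α).Coprime p) :
    QAut F p U (aut1 α) := by
  have hiso := isIso_aut1 F hU hα
  refine ⟨hiso, orderOf α, hord, fun x hx => ?_⟩
  have hαf : ∀ y : U, ((α y : U) : Ω) = aut1 α y := fun y => (aut1_apply α y).symm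
  rw [← aut_pow_apply hiso hαf (orderOf α) ⟨x, hx⟩, pow_orderOf_eq_one]
  rfl

/-- Chains of restrictions of automorphisms, of order prime to `p`, of subgroups of `T`. -/
inductive PChain (F : FusionSystem S) (p : ℕ) (T : Subgroup Ω) :
    Subgroup Ω → Subgroup Ω → (Ω → Ω) → Prop
  | base {U P Q : Subgroup Ω} {b f : Ω → Ω} : U ≤ T → QAut F p U b → P ≤ U → IsIso F P Q f →
      (∀ x ∈ P, f x = b x) → PChain F p T P Q f
  | trans {P Q R : Subgroup Ω} {f g h : Ω → Ω} : PChain F p T P Q f → PChain F p T Q R g →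
      (∀ x ∈ P, h x = g (f x)) → PChain F p T P R h

namespace PChain

variable {F : FusionSystem S} {p : ℕ} {T : Subgroup Ω} {P Q R : Subgroup Ω} {f g : Ω → Ω}

theorem isIso (h : PChain F p T P Q f) : IsIso F P Q f := by
  induction h with
  | base _ _ _ hf _ => exact hf
  | trans _ _ hh ih1 ih2 => exact (ih1.trans ih2).congr (fun x hx => (hh x hx).symm)

theorem le_left (h : PChain F p T P Q f) : P ≤ T := by
  induction h with
  | base hU _ hP _ _ => exact hP.trans hU
  | trans _ _ _ ih1 _ => exact ih1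

theorem le_right (h : PChain F p T P Q f) : Q ≤ T := by
  induction h with
  | @base U P Q b f hU hb hP hf hfb =>
    intro y hy
    obtain ⟨x, hx, rfl⟩ := hf.surjOn hy
    rw [hfb x hx]
    exact hU (hb.1.map_mem (hP hx))
  | trans _ _ _ _ ih2 => exact ih2

theorem congr (h : PChain F p T P Q f) (hfg : ∀ x ∈ P, f x = g x) : PChain F p T P Q g := by
  cases h with
  | base hU hb hP hf hfb =>
    exact base hU hb hP (hf.congr hfg) (fun x hx => by rw [← hfg x hx, hfb x hx])
  | trans h1 h2 hh =>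
    exact trans h1 h2 (fun x hx => by rw [← hfg x hx, hh x hx])

theorem trans' (h1 : PChain F p T P Q f) (h2 : PChain F p T Q R g) :
    PChain F p T P R (g ∘ f) := trans h1 h2 (fun _ _ => rfl)

theorem refl (hTS : T ≤ S) (hP : P ≤ T) : PChain F p T P P id :=
  base hP (QAut.refl (hP.trans hTS)) le_rfl (IsIso.refl (hP.trans hTS)) (fun _ _ => rfl)

/-- Restriction of a chain to a subgroup of its source, with the target given. -/
theorem restrict (h : PChain F p T P Q f) : ∀ {P' Q' : Subgroup Ω}, P' ≤ P → IsIso F P' Q' f →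
    PChain F p T P' Q' f := by
  induction h with
  | base hU hb hP _ hfb =>
    intro P' Q' hP' hf'
    exact base hU hb (hP'.trans hP) hf' (fun x hx => hfb x (hP' hx))
  | @trans P Q R f g h h1 h2 hh ih1 ih2 =>
    intro P' R' hP' hf'
    obtain ⟨Q', hQ'Q, hQ', -⟩ := h1.isIso.restrict hP'
    have hg' : IsIso F Q' R' g := by
      obtain ⟨R'', -, hR'', -⟩ := h2.isIso.restrict hQ'Q
      have hcomp : IsIso F P' R'' h :=
        (hQ'.trans hR'').congr (fun x hx => (hh x (hP' hx)).symm)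
      have : R'' = R' := IsIso.target_eq hcomp hf' (fun _ _ => rfl)
      rwa [this] at hR''
    exact trans (ih1 hP' hQ') (ih2 hQ'Q hg') (fun x hx => hh x (hP' hx))

/-- Restriction of a chain to a subgroup of its source. -/
theorem exists_restrict (h : PChain F p T P Q f) {P' : Subgroup Ω} (hP' : P' ≤ P) :
    ∃ Q', Q' ≤ Q ∧ PChain F p T P' Q' f := by
  obtain ⟨Q', hQ'Q, hQ', -⟩ := h.isIso.restrict hP'
  exact ⟨Q', hQ'Q, h.restrict hP' hQ'⟩

/-- The inverse of a chain is a chain. -/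
theorem symm [Fact p.Prime] (h : PChain F p T P Q f) : ∀ {g : Ω → Ω}, IsIso F Q P g →
    (∀ x ∈ P, g (f x) = x) → PChain F p T Q P g := by
  induction h with
  | @base U P Q b f hU hb hP hf hfb =>
    intro g hg hgf
    obtain ⟨b', hb', hb'b, -⟩ := hb.exists_inv
    have hQU : Q ≤ U := by
      intro y hy
      obtain ⟨x, hx, rfl⟩ := hf.surjOn hy
      rw [hfb x hx]
      exact hb.1.map_mem (hP hx)
    refine base hU hb' hQU hg (fun y hy => ?_)
    obtain ⟨x, hx, rfl⟩ := hf.surjOn hy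
    rw [hgf x hx, hfb x hx, hb'b x (hP hx)]
  | @trans P Q R f g h h1 h2 hh ih1 ih2 =>
    intro k hk hkh
    obtain ⟨f', hf', hf'1, hf'2⟩ := h1.isIso.symm
    obtain ⟨g', hg', hg'1, hg'2⟩ := h2.isIso.symm
    refine trans (ih2 hg' hg'1) (ih1 hf' hf'1) (fun z hz => ?_)
    obtain ⟨y, hy, rfl⟩ := h2.isIso.surjOn hz
    obtain ⟨x, hx, rfl⟩ := h1.isIso.surjOn hy
    rw [hg'1 _ (h1.isIso.map_mem hx), hf'1 x hx, ← hh x hx, hkh x hx]

/-- `x⁻¹ f(x)` lies in the hyperfocal subgroup for a chain `f`. -/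
theorem inv_mul_mem_hyp (h : PChain F p T P Q f) : ∀ x ∈ P, x⁻¹ * f x ∈ F.hyperfocalSubgroup p := by
  induction h with
  | base _ hb hP _ hfb =>
    intro x hx
    rw [hfb x hx]
    exact hb.inv_mul_mem_hyp (hP hx)
  | @trans P Q R f g h h1 _ hh ih1 ih2 =>
    intro x hx
    rw [hh x hx]
    have e : x⁻¹ * g (f x) = (x⁻¹ * f x) * ((f x)⁻¹ * g (f x)) := by group
    rw [e]
    exact Subgroup.mul_mem _ (ih1 x hx) (ih2 _ (h1.isIso.map_mem hx))

/-- Chains over a smaller subgroup are chains over a larger one. -/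
theorem mono {T' : Subgroup Ω} (hTT' : T ≤ T') (h : PChain F p T P Q f) : PChain F p T' P Q f := by
  induction h with
  | base hU hb hP hf hfb => exact base (hU.trans hTT') hb hP hf hfb
  | trans _ _ hh ih1 ih2 => exact trans ih1 ih2 hh

end PChain

end Cfsg.Agent.Lib.H25.PP
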