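import Cfsg.Agent.Lib.H25.PPKLemma1

set_option autoImplicit false

/-!
Subsystems of `p`-power index, part 5b (helper25): the degree calculus. An isomorphism `f` of `F`
between subgroups of `T` has degree `s ∈ S` when `f` is a map of `F_T` followed by conjugation
by `s`.
-/

namespace Cfsg.Agent.Lib.H25.PP

open Cfsg Cfsg.FusionSystem Cfsg.Agent.Lib.H25 Cfsg.Agent.Lib.H26.Nil

variable {Ω : Type*} [Group Ω] {S : Subgroup Ω}

/-- `f : P → P'` is a map of `F_T` followed by conjugation by `s ∈ S`. -/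
def Deg (F : FusionSystem S) (p : ℕ) (T : Subgroup Ω) (P P' : Subgroup Ω) (f : Ω → Ω) (s : Ω) :
    Prop :=
  s ∈ S ∧ IsIso F P P' f ∧ ∃ P₀ : Subgroup Ω, TIso F p T P P₀ (cf s⁻¹ ∘ f)

namespace Deg

variable {F : FusionSystem S} {p : ℕ} {T : Subgroup Ω} {P P' P'' : Subgroup Ω} {f f' : Ω → Ω}
  {s s' : Ω}

theorem isIso (h : Deg F p T P P' f s) : IsIso F P P' f := h.2.1

theorem congr (h : Deg F p T P P' f s) (hff' : ∀ x ∈ P, f x = f' x) : Deg F p T P P' f' s := by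
  obtain ⟨hs, hf, P₀, ht⟩ := h
  exact ⟨hs, hf.congr hff', P₀, ht.congr (fun x hx => by
    show cf s⁻¹ (f x) = cf s⁻¹ (f' x)
    rw [hff' x hx])⟩

/-- The target of the `F_T`-part. -/
theorem target_eq (h : Deg F p T P P' f s) {P₀ : Subgroup Ω}
    (ht : TIso F p T P P₀ (cf s⁻¹ ∘ f)) : P' = cjs s P₀ := by
  obtain ⟨hs, hf, -⟩ := h
  have h1 : IsIso F P (cjs s P₀) (cf s ∘ (cf s⁻¹ ∘ f)) :=
    ht.isIso.trans (isIso_cf F ht.isIso.le_right hs)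
  exact IsIso.target_eq hf h1 (fun x _ => (cf_cf_inv s (f x)).symm)

theorem of_tiso (hTS : T ≤ S) (h : TIso F p T P P' f) : Deg F p T P P' f 1 := by
  refine ⟨S.one_mem, h.isIso, P', h.congr (fun x _ => ?_)⟩
  show f x = cf 1⁻¹ (f x)
  rw [inv_one, cf_one]

theorem of_conj (hTS : T ≤ S) (hP : P ≤ T) (hs : s ∈ S) : Deg F p T P (cjs s P) (cf s) s := by
  refine ⟨hs, isIso_cf F (hP.trans hTS) hs, P, ?_⟩
  refine (TIso.of_chain hTS (PChain.refl hTS hP)).congr (fun x _ => ?_)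
  show x = cf s⁻¹ (cf s x)
  rw [cf_inv_cf]

theorem restrict (h : Deg F p T P P' f s) {R R' : Subgroup Ω} (hR : R ≤ P)
    (hf' : IsIso F R R' f) : Deg F p T R R' f s := by
  obtain ⟨hs, hf, P₀, ht⟩ := h
  obtain ⟨R₀, -, hR₀, -⟩ := ht.isIso.restrict hR
  exact ⟨hs, hf', R₀, ht.restrict hR hR₀⟩

/-- Degrees multiply under composition. -/
theorem comp (hTS : T ≤ S) (hTn : ∀ g ∈ S, ∀ x ∈ T, g * x * g⁻¹ ∈ T)
    (h' : Deg F p T P P' f' s') (h : Deg F p T P' P'' f s) :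
    Deg F p T P P'' (f ∘ f') (s * s') := by
  have hP'eq := h'
  obtain ⟨hs', hf', P₀', ht'⟩ := h'
  obtain ⟨hs, hf, P₀, ht⟩ := h
  have hP' : P' = cjs s' P₀' := hP'eq.target_eq ht'
  have hconj := ht.conj hTS hTn (S.inv_mem hs')
  rw [hP', cjs_inv_cjs] at hconj
  refine ⟨S.mul_mem hs hs', hf'.trans hf, _, (ht'.trans hTS hconj).congr (fun x hx => ?_)⟩
  show cf s'⁻¹ (cf s⁻¹ (f (cf s'⁻¹⁻¹ (cf s'⁻¹ (f' x))))) = cf (s * s')⁻¹ (f (f' x))
  rw [inv_inv, cf_cf_inv, mul_inv_rev, cf_mul]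

/-- The inverse has the inverse degree. -/
theorem symm [Fact p.Prime] (hTS : T ≤ S) (hTn : ∀ g ∈ S, ∀ x ∈ T, g * x * g⁻¹ ∈ T)
    (h : Deg F p T P P' f s) {k : Ω → Ω} (hk : IsIso F P' P k) (hkf : ∀ x ∈ P, k (f x) = x) :
    Deg F p T P' P k s⁻¹ := by
  have hPeq := h
  obtain ⟨hs, hf, P₀, ht⟩ := h
  have hP' : P' = cjs s P₀ := hPeq.target_eq ht
  -- the inverse of the `F_T`-part
  obtain ⟨e, he, he1, he2⟩ := ht.isIso.symm
  have hte : TIso F p T P₀ P e := ht.symm hTS he he1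
  have hconj := hte.conj hTS hTn hs
  rw [← hP'] at hconj
  refine ⟨S.inv_mem hs, hk, _, hconj.congr (fun y hy => ?_)⟩
  obtain ⟨x, hx, rfl⟩ := hf.surjOn hy
  show cf s (e (cf s⁻¹ (f x))) = cf s⁻¹⁻¹ (k (f x))
  have e1 : e (cf s⁻¹ (f x)) = x := he1 x hx
  rw [e1, hkf x hx, inv_inv]

end Deg

section

variable [Finite S] {p : ℕ} [Fact p.Prime] (hS : IsPGroup p S) {F : FusionSystem S}
  (hF : F.IsSaturated p) {T : Subgroup Ω} (hTS : T ≤ S)
  (hTn : ∀ g ∈ S, ∀ x ∈ T, g * x * g⁻¹ ∈ T) (hyp : F.hyperfocalSubgroup p ≤ T)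

include hS hF hTS hTn hyp in
/-- Every isomorphism of `F` with source in `T` has a degree. -/
theorem exists_deg {P P' : Subgroup Ω} {f : Ω → Ω} (hf : IsIso F P P' f) (hPT : P ≤ T) :
    ∃ s, Deg F p T P P' f s := by
  obtain ⟨g, hg, P₀, f₀, hc, hv⟩ := exists_conj_chain hS hF hTS hTn hyp hf hPT
  refine ⟨g, hg, hf, P₀, (TIso.of_chain hTS hc).congr (fun x hx => ?_)⟩
  show f₀ x = cf g⁻¹ (f x)
  rw [hv x hx]
  exact (cf_inv_cf g (f₀ x)).symm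

end

end Cfsg.Agent.Lib.H25.PP
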