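import Cfsg.Agent.Lib.H25.PPSat2
import Cfsg.Agent.Lib.H26.PPowerIndex

set_option autoImplicit false
set_option linter.unusedSectionVars false

/-!
Existence and uniqueness of the saturated subsystem of `p`-power index over any `T` containing the
hyperfocal subgroup (helper25).
-/

namespace Cfsg.Agent.Lib.H25.PP

open Cfsg Cfsg.FusionSystem Cfsg.Agent.Lib.H25

variable {Ω : Type*} [Group Ω] {S : Subgroup Ω}

/-- A subgroup of index `p` in a finite `p`-group is normal with cyclic quotient. -/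
theorem normal_max_of_index [Finite S] {p : ℕ} [Fact p.Prime] (hS : IsPGroup p S)
    {T : Subgroup Ω} (hTS : T ≤ S) (hidx : Nat.card S = p * Nat.card T) :
    (∀ g ∈ S, ∀ x ∈ T, g * x * g⁻¹ ∈ T) ∧
      (∀ z ∈ S, z ∉ T → ∀ s ∈ S, ∃ i : ℕ, z ^ i * s ∈ T) := by
  have hp : p.Prime := Fact.out
  haveI hfinT : Finite T := finite_of_le S hTS
  have hcardT' : Nat.card (T.subgroupOf S) = Nat.card T :=
    Nat.card_congr (Subgroup.subgroupOfEquivOfLe hTS).toEquiv
  have hindex : (T.subgroupOf S).index = p := by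
    have h1 := (T.subgroupOf S).card_mul_index
    rw [hcardT', hidx, mul_comm] at h1
    exact Nat.eq_of_mul_eq_mul_right Nat.card_pos h1
  obtain ⟨n, hn⟩ := (IsPGroup.iff_card).1 hS
  have hn0 : n ≠ 0 := by
    rintro rfl
    rw [pow_zero] at hn
    rw [hn] at hidx
    have : p ∣ 1 := ⟨_, hidx⟩
    exact hp.one_lt.ne' (Nat.dvd_one.1 this)
  have hminFac : (Nat.card S).minFac = p := by
    rw [hn, Nat.pow_minFac hn0, hp.minFac_eq]
  haveI hnorm : (T.subgroupOf S).Normal :=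
    Subgroup.normal_of_index_eq_minFac_card (hindex.trans hminFac.symm)
  constructor
  · intro g hg x hx
    have h1 : (⟨x, hTS hx⟩ : S) ∈ T.subgroupOf S := by
      rw [Subgroup.mem_subgroupOf]; exact hx
    have h2 := hnorm.conj_mem _ h1 ⟨g, hg⟩
    rw [Subgroup.mem_subgroupOf] at h2
    exact h2
  · intro z hz hzT s hs
    have hcardQ : Nat.card (S ⧸ T.subgroupOf S) = p := hindex
    have hz1 : (QuotientGroup.mk (⟨z, hz⟩ : S) : S ⧸ T.subgroupOf S) ≠ 1 := by
      intro h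
      rw [QuotientGroup.eq_one_iff, Subgroup.mem_subgroupOf] at h
      exact hzT h
    obtain ⟨i, hi⟩ := mem_powers_of_prime_card hcardQ hz1
      (g' := (QuotientGroup.mk (⟨s, hs⟩ : S) : S ⧸ T.subgroupOf S)⁻¹)
    refine ⟨i, ?_⟩
    have h3 : (QuotientGroup.mk ((⟨z, hz⟩ : S) ^ i * ⟨s, hs⟩) : S ⧸ T.subgroupOf S) = 1 := by
      rw [QuotientGroup.mk_mul, QuotientGroup.mk_pow]
      simp only at hi
      rw [hi]
      simp
    rw [QuotientGroup.eq_one_iff, Subgroup.mem_subgroupOf] at h3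
    simpa using h3

/-- A proper subgroup of a finite `p`-group is contained in a subgroup in which it has index `p`. -/
theorem exists_index_p_over [Finite S] {p : ℕ} [Fact p.Prime] (hS : IsPGroup p S)
    {T : Subgroup Ω} (hTS : T ≤ S) (hne : T ≠ S) :
    ∃ T₁ : Subgroup Ω, T ≤ T₁ ∧ T₁ ≤ S ∧ Nat.card T₁ = p * Nat.card T := by
  have hp : p.Prime := Fact.out
  haveI hfinT : Finite T := finite_of_le S hTS
  have hcardT' : Nat.card (T.subgroupOf S) = Nat.card T :=
    Nat.card_congr (Subgroup.subgroupOfEquivOfLe hTS).toEquiv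
  obtain ⟨m, hm⟩ := (IsPGroup.iff_card).1 hS
  obtain ⟨n, hn⟩ := (IsPGroup.iff_card).1 (hS.to_le hTS)
  have hlt : Nat.card T < Nat.card S := by
    rcases lt_or_eq_of_le (Subgroup.card_le_of_le hTS) with h | h
    · exact h
    · exact absurd (Subgroup.eq_of_le_of_card_ge hTS h.ge) hne
  have hnm : n < m := by
    rw [hn, hm] at hlt
    exact (Nat.pow_lt_pow_iff_right hp.one_lt).1 hlt
  have hdvd : p ^ (n + 1) ∣ Nat.card S := by
    rw [hm]; exact pow_dvd_pow p hnm
  obtain ⟨K, hK, hTK⟩ := Sylow.exists_subgroup_card_pow_succ hdvd (hcardT'.trans hn)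
  refine ⟨K.map S.subtype, ?_, ?_, ?_⟩
  · intro x hx
    exact ⟨⟨x, hTS hx⟩, hTK (by rw [Subgroup.mem_subgroupOf]; exact hx), rfl⟩
  · rintro _ ⟨y, -, rfl⟩
    exact y.2
  · rw [Subgroup.card_subtype, hK, hn, pow_succ, mul_comm]

/-- Transitivity of `p`-power index. -/
theorem hasPPowerIndexIn_trans {T₁ T : Subgroup Ω} {F : FusionSystem S} {E₁ : FusionSystem T₁}
    {E : FusionSystem T} {p : ℕ} (hTT₁ : T ≤ T₁)
    (h1 : E₁.HasPPowerIndexIn F p) (h2 : E.HasPPowerIndexIn E₁ p)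
    (hT : F.hyperfocalSubgroup p ≤ T) : E.HasPPowerIndexIn F p := by
  refine ⟨fun P => (h2.1 P).trans (h1.1 P), hT, fun P hP => ?_⟩
  rw [Subgroup.map_le_iff_le_comap]
  refine (Subgroup.closure_le _).2 ?_
  intro β hβ
  rw [SetLike.mem_coe, Subgroup.mem_comap]
  show (β : MulAut P) ∈ _
  have hβ₁ : (β : MulAut P) ∈ E₁.autGroup P :=
    h1.2.2 P (hP.trans hTT₁) ⟨β, Subgroup.subset_closure hβ, rfl⟩
  have hord : (orderOf (⟨(β : MulAut P), hβ₁⟩ : E₁.autGroup P)).Coprime p := by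
    have e1 : orderOf (⟨(β : MulAut P), hβ₁⟩ : E₁.autGroup P) = orderOf (β : MulAut P) := by
      rw [← Subgroup.orderOf_coe]
    have e2 : orderOf (β : MulAut P) = orderOf β := Subgroup.orderOf_coe β
    rw [e1, e2]
    exact hβ
  exact h2.2.2 P hP ⟨⟨(β : MulAut P), hβ₁⟩, Subgroup.subset_closure hord, rfl⟩

theorem hasPPowerIndexIn_self (F : FusionSystem S) (p : ℕ) : F.HasPPowerIndexIn F p :=
  ⟨fun _ => Set.Subset.rfl, hyperfocal_le F p, fun P _ => by
    rintro _ ⟨β, -, rfl⟩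
    exact β.2⟩

/-- **Existence** of a saturated subsystem of `p`-power index over any `T ≥ hyp(F)`. -/
theorem exists_sat_ppower [Finite S] {p : ℕ} [Fact p.Prime] (hS : IsPGroup p S)
    {F : FusionSystem S} (hF : F.IsSaturated p) :
    ∀ (k : ℕ) (T : Subgroup Ω) (hTS : T ≤ S), F.hyperfocalSubgroup p ≤ T →
      Nat.card S - Nat.card T = k →
      ∃ E : FusionSystem T, E.IsSaturated p ∧ E.HasPPowerIndexIn F p := by
  intro k
  induction k using Nat.strong_induction_on with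
  | _ k ih =>
    intro T hTS hT hk
    by_cases hne : T = S
    · subst hne
      exact ⟨F, hF, hasPPowerIndexIn_self F p⟩
    · obtain ⟨T₁, hTT₁, hT₁S, hcard⟩ := exists_index_p_over hS hTS hne
      have hp : p.Prime := Fact.out
      haveI hfinT : Finite T := finite_of_le S hTS
      haveI hfinT₁ : Finite T₁ := finite_of_le S hT₁S
      have hT₁p : IsPGroup p T₁ := hS.to_le hT₁S
      have hlt : Nat.card T < Nat.card T₁ := by
        rw [hcard]
        have : 0 < Nat.card T := Nat.card_pos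
        nlinarith [hp.two_le]
      have hle : Nat.card T₁ ≤ Nat.card S := Subgroup.card_le_of_le hT₁S
      obtain ⟨E₁, hE₁sat, hE₁idx⟩ :=
        ih (Nat.card S - Nat.card T₁) (by omega) T₁ hT₁S (hT.trans hTT₁) rfl
      obtain ⟨hTn₁, hmax₁⟩ := normal_max_of_index hT₁p hTT₁ hcard
      have hyp₁ : E₁.hyperfocalSubgroup p ≤ T := (hyp_mono p hT₁S hE₁idx.1).trans hT
      refine ⟨tSys E₁ p T hTT₁,
        tSys_isSaturated_of_max hT₁p hE₁sat hTT₁ hTn₁ hyp₁ hmax₁, ?_⟩
      exact hasPPowerIndexIn_trans hTT₁ hE₁idx (tSys_hasPPowerIndexIn hTT₁ hyp₁) hT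

/-- Two fusion systems with the same maps are equal. -/
theorem fusionSystem_ext {T : Subgroup Ω} {E E' : FusionSystem T}
    (h : ∀ P : Subgroup Ω, E.Hom P = E'.Hom P) : E = E' := by
  cases E; cases E'
  congr
  funext P
  exact h P

/-- **Uniqueness**. -/
theorem sat_ppower_unique [Finite S] {p : ℕ} [Fact p.Prime] (hS : IsPGroup p S)
    {F : FusionSystem S} {T : Subgroup Ω} (hTS : T ≤ S) {E E' : FusionSystem T}
    (hE : E.IsSaturated p) (hEi : E.HasPPowerIndexIn F p)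
    (hE' : E'.IsSaturated p) (hE'i : E'.HasPPowerIndexIn F p) : E' = E := by
  apply fusionSystem_ext
  intro P
  have h1 := Cfsg.Agent.Lib.H26.isSubsystemOf_of_pResidual_le hS hTS E hE hEi.1 E' le_rfl hE'i.2.2
  have h2 := Cfsg.Agent.Lib.H26.isSubsystemOf_of_pResidual_le hS hTS E' hE' hE'i.1 E le_rfl hEi.2.2
  exact Set.Subset.antisymm (h2 P) (h1 P)

end Cfsg.Agent.Lib.H25.PP
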