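import Mathlib
import Cfsg.Agent.Lib.H26.HyperfocalGroup
import Cfsg.Agent.Lib.H26.NilGroup

set_option autoImplicit false

/-!
Subsystems of `p`-power index, part 4a (helper25): the hyperfocal subgroup theorem for a finite
group in elementwise form: `R ∩ O^p(G)` is generated by the commutators `x⁻¹ (γ x γ⁻¹)`,
`x ∈ P ≤ R`, `γ ∈ N_G(P)` of order prime to `p`.
-/

namespace Cfsg.Agent.Lib.H25.PP

open Cfsg Cfsg.FusionSystem Cfsg.Agent.Lib.H25

/-- The generators of the hyperfocal subgroup of a finite group. -/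
def hypGen {G : Type*} [Group G] (p : ℕ) (R : Subgroup G) : Set G :=
  {y : G | ∃ (P : Subgroup G) (x γ : G), P ≤ R ∧ x ∈ P ∧ γ ∈ Subgroup.normalizer (P : Set G) ∧
    (orderOf γ).Coprime p ∧ y = x⁻¹ * (γ * x * γ⁻¹)}

theorem sylow_inf_pResidual_le_closure {G : Type*} [Group G] [Finite G] {p : ℕ} [Fact p.Prime]
    (R : Sylow p G) :
    (R : Subgroup G) ⊓ pResidual p G ≤ Subgroup.closure (hypGen p (R : Subgroup G)) := by
  rw [← Cfsg.Agent.Lib.H26.hyperfocal_groupFusionSystem R]
  unfold hyperfocalSubgroup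
  rw [Subgroup.closure_le]
  rintro _ ⟨P, α, x, hP, hα, rfl⟩
  have key : ∀ α : (groupFusionSystem (R : Subgroup G)).autGroup P,
      α ∈ pResidual p ((groupFusionSystem (R : Subgroup G)).autGroup P) → ∀ x : P,
        (x : G)⁻¹ * (((α : MulAut P) x : P) : G) ∈ Subgroup.closure (hypGen p (R : Subgroup G)) := by
    intro α hα
    unfold pResidual at hα
    refine Subgroup.closure_induction
      (p := fun (v : (groupFusionSystem (R : Subgroup G)).autGroup P) _ => ∀ x : P,
        (x : G)⁻¹ * (((v : MulAut P) x : P) : G) ∈ Subgroup.closure (hypGen p (R : Subgroup G)))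
      ?_ ?_ ?_ ?_ hα
    · intro v hv x
      have hord : (orderOf (v : MulAut P)).Coprime p := by
        rw [Subgroup.orderOf_coe]
        exact hv
      have hv2 : (v : MulAut P) ∈ autInducedBy ⊤ P := by
        rw [← Cfsg.Agent.Lib.H26.groupFusionSystem_autGroup_eq hP]
        exact v.2
      rw [mem_autInducedBy_iff] at hv2
      obtain ⟨g₀, -, hg₀⟩ := hv2
      have hpow : ∀ n : ℕ, ∀ x : P, ((((v : MulAut P) ^ n) x : P) : G) =
          g₀ ^ n * x * (g₀ ^ n)⁻¹ := by
        intro n
        induction n with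
        | zero => intro x; simp
        | succ n ih =>
          intro x
          rw [pow_succ', MulAut.mul_apply, hg₀, ih, pow_succ']
          group
      obtain ⟨a, ha⟩ := Cfsg.Agent.Lib.H26.Nil.exists_pow_coprime (p := p) g₀
      have hcop : (p ^ a).Coprime (orderOf (v : MulAut P)) := (Nat.Coprime.pow_right a hord).symm
      obtain ⟨m, hm⟩ := exists_pow_eq_self_of_coprime hcop
      have hγord : (orderOf ((g₀ ^ p ^ a) ^ m)).Coprime p :=
        Nat.Coprime.coprime_dvd_left (orderOf_pow_dvd m) ha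
      have hγ : ∀ x : P, (((v : MulAut P) x : P) : G) =
          (g₀ ^ p ^ a) ^ m * x * ((g₀ ^ p ^ a) ^ m)⁻¹ := by
        intro x
        rw [← pow_mul, ← hpow, pow_mul, hm]
      refine Subgroup.subset_closure ⟨P, x, (g₀ ^ p ^ a) ^ m, hP, x.2,
        mem_normalizer_of_induces hγ, hγord, ?_⟩
      rw [hγ x]
    · intro x
      simp
    · intro v w _ _ hv hw x
      obtain ⟨y, hy⟩ : ∃ y : P, (y : G) = (x : G)⁻¹ * (((w : MulAut P) x : P) : G) :=
        ⟨⟨_, P.mul_mem (P.inv_mem x.2) ((w : MulAut P) x).2⟩, rfl⟩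
      have h2 : (w : MulAut P) x = x * y := by
        apply Subtype.ext
        rw [Subgroup.coe_mul, hy]
        group
      have e : (x : G)⁻¹ * ((((v * w : (groupFusionSystem (R : Subgroup G)).autGroup P) :
          MulAut P) x : P) : G) =
          ((x : G)⁻¹ * (((v : MulAut P) x : P) : G)) *
            ((y : G) * ((y : G)⁻¹ * (((v : MulAut P) y : P) : G))) := by
        show (x : G)⁻¹ * (((v : MulAut P) ((w : MulAut P) x) : P) : G) = _
        rw [h2, map_mul, Subgroup.coe_mul]
        group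
      rw [e]
      refine Subgroup.mul_mem _ (hv x) (Subgroup.mul_mem _ ?_ (hv y))
      rw [hy]
      exact hw x
    · intro v _ hv x
      have h1 := hv ((v : MulAut P)⁻¹ x)
      have e : (x : G)⁻¹ * ((((v⁻¹ : (groupFusionSystem (R : Subgroup G)).autGroup P) :
          MulAut P) x : P) : G) =
          ((((((v : MulAut P)⁻¹ x : P) : G))⁻¹ *
            (((v : MulAut P) ((v : MulAut P)⁻¹ x) : P) : G)))⁻¹ := by
        have h2 : (v : MulAut P) ((v : MulAut P)⁻¹ x) = x := by simp
        rw [h2]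
        show (x : G)⁻¹ * ((((v : MulAut P)⁻¹ x : P)) : G) = _
        group
      rw [e]
      exact Subgroup.inv_mem _ h1
  exact key α hα x

end Cfsg.Agent.Lib.H25.PP
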