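import Cfsg.Agent.Lib.H25.PPSys
import Cfsg.Agent.Lib.H25.PPGroupHyp

set_option autoImplicit false

/-!
Subsystems of `p`-power index, part 4b (helper25): for a fully normalized subgroup `Q` of a
saturated fusion system, `Aut_S(Q) ∩ O^p(Aut_F(Q)) ≤ Aut_{hyp(F)}(Q)`
(the hyperfocal subgroup theorem applied to the finite group `Aut_F(Q)`).
-/

namespace Cfsg.Agent.Lib.H25.PP

open Cfsg Cfsg.FusionSystem Cfsg.Agent.Lib.H25 Cfsg.Agent.Lib.H26.Nil

variable {Ω : Type*} [Group Ω] {S : Subgroup Ω}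

theorem iterate_fixed {U : Subgroup Ω} {f : Ω → Ω} {n : ℕ} (hfn : ∀ x ∈ U, f^[n] x = x) (j : ℕ) :
    ∀ y ∈ U, (f^[n])^[j] y = y := by
  induction j with
  | zero => intro y _; rfl
  | succ j ih =>
    intro y hy
    rw [Function.iterate_succ_apply, hfn y hy, ih y hy]

theorem iterate_mod {U : Subgroup Ω} {f : Ω → Ω} {n : ℕ} (hfn : ∀ x ∈ U, f^[n] x = x) (k : ℕ) :
    ∀ x ∈ U, f^[k] x = f^[k % n] x := by
  intro x hx
  conv_lhs => rw [← Nat.mod_add_div k n]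
  rw [Function.iterate_add_apply, Function.iterate_mul, iterate_fixed hfn _ x hx]

/-- The `p'`-part of an automorphism extending an automorphism of order prime to `p`. -/
theorem exists_qAut_extending [Finite S] {p : ℕ} [hp : Fact p.Prime] {F : FusionSystem S}
    {N Q : Subgroup Ω} {e c : Ω → Ω} (he : IsIso F N N e) (hc : QAut F p Q c)
    (hec : ∀ x ∈ Q, e x = c x) : ∃ d, QAut F p N d ∧ ∀ x ∈ Q, d x = c x := by
  obtain ⟨hciso, n, hn, hcn⟩ := hc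
  have hNS : N ≤ S := he.le_left
  have hfinN : Finite N := finite_of_le S hNS
  have hn0 : n ≠ 0 := by
    rintro rfl
    rw [Nat.coprime_zero_left] at hn
    exact hp.out.one_lt.ne' hn
  by_cases hn1 : n = 1
  · subst hn1
    exact ⟨id, QAut.refl hNS, fun x hx => (hcn x hx).symm⟩
  have hn2 : 1 < n := by omega
  obtain ⟨α, hα, hαf⟩ := exists_mem_autGroup_of_isIso F he
  have ho : orderOf α ≠ 0 := (orderOf_pos α).ne'
  obtain ⟨a, m, hm, hom⟩ := Nat.exists_eq_pow_mul_and_not_dvd ho p hp.out.ne_one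
  have heo : ∀ x ∈ N, e^[orderOf α] x = x := by
    intro x hx
    rw [← aut_pow_apply he hαf (orderOf α) ⟨x, hx⟩, pow_orderOf_eq_one]
    rfl
  have hq0 : QAut F p N (e^[p ^ a]) := by
    refine ⟨isIso_iterate he _, m, ?_, fun x hx => ?_⟩
    · exact ((Nat.Prime.coprime_iff_not_dvd hp.out).2 hm).symm
    · rw [← Function.iterate_mul, ← hom]
      exact heo x hx
  have hcop : (p ^ a).Coprime n := (Nat.Coprime.pow_right a hn).symm
  obtain ⟨k, -, hk⟩ := Nat.exists_mul_mod_eq_one_of_coprime hcop hn2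
  refine ⟨(e^[p ^ a])^[k], hq0.iterate k, fun x hx => ?_⟩
  rw [← Function.iterate_mul, iterate_congr hciso (fun y hy => (hec y hy).symm) _ x hx,
    iterate_mod hcn _ x hx, hk]
  rfl

/-- The automorphisms of `Q` induced by the elements of `hyp(F) ∩ N_S(Q)`. -/
def hypAut (F : FusionSystem S) (p : ℕ) (Q : Subgroup Ω) : Subgroup (F.autGroup Q) where
  carrier := {α | ∃ h ∈ F.hyperfocalSubgroup p, h ∈ normalizerIn S Q ∧
    ∀ x : Q, (((α : MulAut Q) x : Q) : Ω) = h * x * h⁻¹}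
  one_mem' := ⟨1, Subgroup.one_mem _, Subgroup.one_mem _, fun x => by simp⟩
  mul_mem' := by
    rintro α β ⟨h, hh, hhN, hα⟩ ⟨k, hk, hkN, hβ⟩
    refine ⟨h * k, Subgroup.mul_mem _ hh hk, Subgroup.mul_mem _ hhN hkN, fun x => ?_⟩
    show ((((α : MulAut Q) ((β : MulAut Q) x)) : Q) : Ω) = _
    rw [hα, hβ]
    group
  inv_mem' := by
    rintro α ⟨h, hh, hhN, hα⟩
    refine ⟨h⁻¹, Subgroup.inv_mem _ hh, Subgroup.inv_mem _ hhN, fun x => ?_⟩
    have h1 := hα ((α : MulAut Q)⁻¹ x)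
    have h2 : (α : MulAut Q) ((α : MulAut Q)⁻¹ x) = x := by simp
    rw [h2] at h1
    show ((((α : MulAut Q)⁻¹ x) : Q) : Ω) = _
    rw [h1]
    group

/-- A loop of automorphisms of order prime to `p` of `Q` is an element of `O^p(Aut_F(Q))`. -/
theorem PChain.loop_mem_pResidual {F : FusionSystem S} {p : ℕ} {Q P P' : Subgroup Ω} {f : Ω → Ω}
    (h : PChain F p Q P P' f) : P = Q → P' = Q ∧ ∃ α : F.autGroup Q,
      α ∈ pResidual p (F.autGroup Q) ∧ ∀ x : Q, (((α : MulAut Q) x : Q) : Ω) = f x := by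
  induction h with
  | @base U P P' b f hU hb hP hf hfb =>
    intro hPQ
    subst hPQ
    have hUP : U = P := le_antisymm hU hP
    subst hUP
    have hP' : P' = U := IsIso.target_eq hf hb.1 hfb
    obtain ⟨α, hα, hαb⟩ := hb.exists_mem_pResidual
    exact ⟨hP', α, hα, fun x => by rw [hαb, hfb x x.2]⟩
  | @trans P P' P'' f g h _ _ hh ih1 ih2 =>
    intro hPQ
    obtain ⟨hP', α, hα, hαf⟩ := ih1 hPQ
    obtain ⟨hP'', β, hβ, hβg⟩ := ih2 hP'
    refine ⟨hP'', β * α, Subgroup.mul_mem _ hβ hα, fun x => ?_⟩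
    show ((((β : MulAut Q) ((α : MulAut Q) x)) : Q) : Ω) = _
    rw [hβg, hαf, hh x (hPQ ▸ x.2)]

section

variable [Finite S] {p : ℕ} [Fact p.Prime] (hS : IsPGroup p S) {F : FusionSystem S}
  (hF : F.IsSaturated p)

include hS hF in
/-- The key step: a generator of the hyperfocal subgroup of the finite group `Aut_F(Q)` is
induced by an element of `hyp(F) ∩ N_S(Q)`. -/
theorem hypGen_le_hypAut {Q : Subgroup Ω} (hfn : F.IsFullyNormalized Q)
    (R : Sylow p (F.autGroup Q))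
    (hR : (R : Subgroup (F.autGroup Q)) = (autInducedBy S Q).subgroupOf (F.autGroup Q)) :
    hypGen p (R : Subgroup (F.autGroup Q)) ⊆ hypAut F p Q := by
  have hQS : Q ≤ S := hfn.1
  have hfinQ : Finite Q := finite_of_le S hQS
  have hrec : F.IsReceptive Q :=
    isReceptive_of_fullyCentralized hS hF (fullyNormalized_props hS hF hfn).1
  rintro _ ⟨Pb, xb, γ, hPR, hxP, hγN, hγord, rfl⟩
  -- function-level data of `γ`
  have hord' : (orderOf (γ : MulAut Q)).Coprime p := by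
    rw [Subgroup.orderOf_coe]
    exact hγord
  have hc : QAut F p Q (aut1 (γ : MulAut Q)) := qAut_of_orderOf hQS γ.2 hord'
  set c := aut1 (γ : MulAut Q) with hc_def
  have hcv : ∀ y : Q, c y = (((γ : MulAut Q) y : Q) : Ω) := fun y => aut1_apply _ y
  -- the subgroup of `Aut(Q)` and of `S` attached to `Pb`
  set K : Subgroup (MulAut Q) := Pb.map (F.autGroup Q).subtype with hK_def
  have hKS : ∀ k ∈ K, ∃ s ∈ S, ∀ y : Q, ((k y : Q) : Ω) = s * y * s⁻¹ := by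
    rintro _ ⟨kb, hkb, rfl⟩
    have h1 : kb ∈ (R : Subgroup (F.autGroup Q)) := hPR hkb
    rw [hR, Subgroup.mem_subgroupOf] at h1
    exact (mem_autInducedBy_iff S Q _).1 h1
  have hγK : ∀ k ∈ K, (γ : MulAut Q) * k * (γ : MulAut Q)⁻¹ ∈ K := by
    rintro _ ⟨kb, hkb, rfl⟩
    exact ⟨γ * kb * γ⁻¹, (Subgroup.mem_normalizer_iff.1 hγN kb).1 hkb, rfl⟩
  set RP : Subgroup Ω := NK S K (id : Ω → Ω) with hRP_def
  have hRPN : RP ≤ normalizerIn S Q := NK_le_normalizerIn (IsIso.refl (F := F) hQS) K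
  have hQN : Q ≤ normalizerIn S Q := le_normalizerIn hQS
  -- the extension of `c`
  obtain ⟨φ, hφ, hφf, hr⟩ := hc.1
  have hle : Q ⊔ RP ≤ extender S Q φ := by
    apply sup_le (le_extender F hφ)
    rintro r ⟨hrS, k, hk, hkr⟩
    have hkr' : ∀ y : Q, ((k y : Q) : Ω) = r * y * r⁻¹ := hkr
    rw [mem_extender_iff' hφf]
    refine ⟨hrS, mem_normalizer_of_induces hkr', ?_⟩
    obtain ⟨s, hs, hsv⟩ := hKS _ (hγK k hk)
    refine ⟨s, hs, fun y hy => ?_⟩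
    rw [← hkr' ⟨y, hy⟩, hcv, hcv ⟨y, hy⟩, ← hsv]
    show _ = ((((γ : MulAut Q) (k ((γ : MulAut Q)⁻¹ ((γ : MulAut Q) ⟨y, hy⟩))) : Q)) : Ω)
    simp
  obtain ⟨e, N', he, hec⟩ := IsReceptive_extend hrec hc.1 (Q ⊔ RP)
    (fun g hg => (mem_extender_iff' hφf g).1 (hle hg))
  have hQsup : Q ≤ Q ⊔ RP := le_sup_left
  have hRsup : RP ≤ Q ⊔ RP := le_sup_right
  have hsupN : Q ⊔ RP ≤ normalizerIn S Q := sup_le hQN hRPN
  have hfinN : Finite ↥(Q ⊔ RP) := finite_of_le S (hsupN.trans inf_le_left)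
  -- `e` maps `Q ⊔ RP` into itself
  have hmaps : Q ⊔ RP ≤ he.pre (Q ⊔ RP) := by
    apply sup_le
    · intro q hq
      refine ⟨hQsup hq, hQsup ?_⟩
      rw [hec q hq (hQsup hq)]
      exact hc.1.map_mem hq
    · rintro r ⟨hrS, k, hk, hkr⟩
      have hkr' : ∀ y : Q, ((k y : Q) : Ω) = r * y * r⁻¹ := hkr
      have hrN : r ∈ Q ⊔ RP := hRsup ⟨hrS, k, hk, hkr⟩
      refine ⟨hrN, hRsup ⟨he.le_right (he.map_mem hrN), _, hγK k hk, fun y => ?_⟩⟩
      show (((((γ : MulAut Q) * k * (γ : MulAut Q)⁻¹) y : Q)) : Ω) = e r * y * (e r)⁻¹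
      obtain ⟨y', rfl⟩ : ∃ y' : Q, (γ : MulAut Q) y' = y := ⟨(γ : MulAut Q)⁻¹ y, by simp⟩
      have h1 : ((γ : MulAut Q) * k * (γ : MulAut Q)⁻¹) ((γ : MulAut Q) y') =
          (γ : MulAut Q) (k y') := by
        show (γ : MulAut Q) (k ((γ : MulAut Q)⁻¹ ((γ : MulAut Q) y'))) = _
        simp
      rw [h1, ← hcv, hkr', ← hcv y']
      have hry : r * (y' : Ω) * r⁻¹ ∈ Q := by
        rw [← hkr']
        exact (k y').2
      rw [← hec _ hry (hQsup hry), ← hec _ y'.2 (hQsup y'.2),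
        he.map_mul (Subgroup.mul_mem _ hrN (hQsup y'.2)) (Subgroup.inv_mem _ hrN),
        he.map_mul hrN (hQsup y'.2), he.map_inv hrN]
  have he' : IsIso F (Q ⊔ RP) (Q ⊔ RP) e := by
    have hN' : N' = Q ⊔ RP := by
      have hN'le : N' ≤ Q ⊔ RP := by
        intro y hy
        obtain ⟨x, hx, rfl⟩ := he.surjOn hy
        exact (hmaps hx).2
      apply Subgroup.eq_of_le_of_card_ge hN'le
      rw [he.card_eq]
    rwa [hN'] at he
  obtain ⟨d, hd, hdc⟩ := exists_qAut_extending he' hc (fun x hx => hec x hx (hQsup hx))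
  -- the element `x` inducing `xb`
  obtain ⟨x, hxS, hxv⟩ := hKS (xb : MulAut Q) ⟨xb, hxP, rfl⟩
  have hxRP : x ∈ RP := ⟨hxS, (xb : MulAut Q), ⟨xb, hxP, rfl⟩, fun y => hxv y⟩
  have hxN : x ∈ Q ⊔ RP := hRsup hxRP
  have hdx : d x ∈ Q ⊔ RP := hd.1.map_mem hxN
  refine ⟨x⁻¹ * d x, hd.inv_mul_mem_hyp hxN,
    hsupN (Subgroup.mul_mem _ (Subgroup.inv_mem _ hxN) hdx), fun y => ?_⟩
  show ((((xb : MulAut Q)⁻¹ ((γ : MulAut Q) ((xb : MulAut Q) ((γ : MulAut Q)⁻¹ y))) : Q)) : Ω) = _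
  obtain ⟨y', rfl⟩ : ∃ y' : Q, (γ : MulAut Q) y' = y := ⟨(γ : MulAut Q)⁻¹ y, by simp⟩
  have h1 : (γ : MulAut Q)⁻¹ ((γ : MulAut Q) y') = y' := by simp
  rw [h1]
  -- `γ (xb y') = d(x) (γ y') d(x)⁻¹`
  have h2 : ((((γ : MulAut Q) ((xb : MulAut Q) y')) : Q) : Ω) =
      d x * (((γ : MulAut Q) y' : Q) : Ω) * (d x)⁻¹ := by
    rw [← hcv, hxv, ← hcv y']
    have hxy : x * (y' : Ω) * x⁻¹ ∈ Q := by
      rw [← hxv]
      exact ((xb : MulAut Q) y').2
    rw [← hdc _ hxy, ← hdc _ y'.2,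
      hd.1.map_mul (Subgroup.mul_mem _ hxN (hQsup y'.2)) (Subgroup.inv_mem _ hxN),
      hd.1.map_mul hxN (hQsup y'.2), hd.1.map_inv hxN]
  -- `xb⁻¹ z = x⁻¹ z x`
  have h3 : ∀ z : Q, ((((xb : MulAut Q)⁻¹ z) : Q) : Ω) = x⁻¹ * z * x := by
    intro z
    have h4 := hxv ((xb : MulAut Q)⁻¹ z)
    have h5 : (xb : MulAut Q) ((xb : MulAut Q)⁻¹ z) = z := by simp
    rw [h5] at h4
    rw [h4]
    group
  rw [h3, h2]
  group

include hS hF in
/-- `Aut_S(Q) ∩ O^p(Aut_F(Q)) ≤ Aut_{hyp(F)}(Q)` for a fully normalized subgroup `Q`. -/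
theorem conj_mem_hyp_of_loop {Q : Subgroup Ω} (hfn : F.IsFullyNormalized Q) {g : Ω}
    (hg : g ∈ normalizerIn S Q) (hloop : PChain F p Q Q Q (cf g)) :
    ∃ h ∈ F.hyperfocalSubgroup p, h ∈ normalizerIn S Q ∧ ∀ x ∈ Q, h * x * h⁻¹ = g * x * g⁻¹ := by
  have hQS : Q ≤ S := hfn.1
  have hfinQ : Finite Q := finite_of_le S hQS
  obtain ⟨-, R, hR⟩ := (fullyNormalized_props hS hF hfn).2
  obtain ⟨-, α, hα, hαg⟩ := hloop.loop_mem_pResidual rfl
  have hαR : α ∈ (R : Subgroup (F.autGroup Q)) := by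
    rw [hR, Subgroup.mem_subgroupOf, mem_autInducedBy_iff]
    exact ⟨g, hg.1, fun x => hαg x⟩
  have h1 : α ∈ (R : Subgroup (F.autGroup Q)) ⊓ pResidual p (F.autGroup Q) := ⟨hαR, hα⟩
  have h2 := sylow_inf_pResidual_le_closure R h1
  have h3 : Subgroup.closure (hypGen p (R : Subgroup (F.autGroup Q))) ≤ hypAut F p Q :=
    (Subgroup.closure_le _).2 (hypGen_le_hypAut hS hF hfn R hR)
  obtain ⟨h, hh, hhN, hv⟩ := h3 h2
  exact ⟨h, hh, hhN, fun x hx => by rw [← hv ⟨x, hx⟩, hαg ⟨x, hx⟩]; rfl⟩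

end

end Cfsg.Agent.Lib.H25.PP
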