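import Cfsg.Agent.Lib.H25.PPHypAut
import Cfsg.Agent.Lib.H25.NormalizerSystem
import Cfsg.Agent.Lib.H25.ExtUnique
import Cfsg.Agent.Lib.H25.PairNorm
import Cfsg.Agent.Lib.H26.NormalizerTransport
import Cfsg.Agent.Lib.H26.PPowerIndex
import Cfsg.Agent.S5096

set_option autoImplicit false

/-!
Subsystems of `p`-power index, part 5a (helper25): towards the key lemma that conjugation by an
element of `S` outside `T` is never a map of `F_T` on an `F`-centric subgroup of `T`. This file: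
the "degree" relation on `Aut_F(Q)` and its compatibility with restriction from larger subgroups
normalizing `Q`.
-/

namespace Cfsg.Agent.Lib.H25.PP

open Cfsg Cfsg.FusionSystem Cfsg.Agent.Lib.H25 Cfsg.Agent.Lib.H26.Nil

variable {Ω : Type*} [Group Ω] {S : Subgroup Ω}

theorem IsIso.of_hom_subset {S' : Subgroup Ω} {N : FusionSystem S'} {F : FusionSystem S}
    (hNF : ∀ P : Subgroup Ω, N.Hom P ⊆ F.Hom P) {P Q : Subgroup Ω} {f : Ω → Ω}
    (h : IsIso N P Q f) : IsIso F P Q f := by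
  obtain ⟨φ, hφ, hφf, hr⟩ := h
  exact ⟨φ, hNF P hφ, hφf, hr⟩

theorem QAut.of_hom_subset {S' : Subgroup Ω} {N : FusionSystem S'} {F : FusionSystem S} {p : ℕ}
    (hNF : ∀ P : Subgroup Ω, N.Hom P ⊆ F.Hom P) {U : Subgroup Ω} {b : Ω → Ω}
    (h : QAut N p U b) : QAut F p U b :=
  ⟨IsIso.of_hom_subset hNF h.1, h.2⟩

/-- Chains of a subsystem over a smaller subgroup are chains of the system. -/
theorem PChain.of_hom_subset {S' : Subgroup Ω} {N : FusionSystem S'} {F : FusionSystem S} {p : ℕ}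
    (hNF : ∀ P : Subgroup Ω, N.Hom P ⊆ F.Hom P) {T' T : Subgroup Ω} (hT : T' ≤ T)
    {P Q : Subgroup Ω} {f : Ω → Ω} (h : PChain N p T' P Q f) : PChain F p T P Q f := by
  induction h with
  | base hU hb hP hf hfb =>
    exact PChain.base (hU.trans hT) (QAut.of_hom_subset hNF hb) hP (IsIso.of_hom_subset hNF hf) hfb
  | trans _ _ hh ih1 ih2 => exact PChain.trans ih1 ih2 hh

/-- The hyperfocal subgroup of a subsystem lies in the hyperfocal subgroup of the system. -/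
theorem hyp_mono {S' : Subgroup Ω} {N : FusionSystem S'} {F : FusionSystem S} (p : ℕ)
    (hS'S : S' ≤ S) (hNF : N.IsSubsystemOf F) :
    N.hyperfocalSubgroup p ≤ F.hyperfocalSubgroup p := by
  unfold hyperfocalSubgroup
  rw [Subgroup.closure_le]
  rintro _ ⟨P, α, x, hP, hα, rfl⟩
  have hle : N.autGroup P ≤ F.autGroup P :=
    Cfsg.Agent.Lib.H26.autGroup_le_of_isSubsystemOf hNF hP (hP.trans hS'S)
  have hα' : Subgroup.inclusion hle α ∈ pResidual p (F.autGroup P) :=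
    map_pResidual_le_hom (Subgroup.inclusion hle) ⟨α, hα, rfl⟩
  exact Subgroup.subset_closure ⟨P, Subgroup.inclusion hle α, x, hP.trans hS'S, hα', rfl⟩

/-- In a system in which `Q` is normal, a chain starting at a subgroup containing `Q` restricts
to a loop at `Q`. -/
theorem PChain.restrict_normal {S' : Subgroup Ω} {N : FusionSystem S'} {p : ℕ} {Q : Subgroup Ω}
    (hQ : N.IsNormal Q) {T' P P' : Subgroup Ω} {f : Ω → Ω} (h : PChain N p T' P P' f) :
    Q ≤ P → Q ≤ P' ∧ PChain N p Q Q Q f := by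
  induction h with
  | @base U P P' b f hU hb hP hf hfb =>
    intro hQP
    obtain ⟨g, hg, hgb, hgQ⟩ := isNormal_exists_ext hQ hb.1
    have hQU : Q ≤ U := hQP.trans hP
    have hbQ : IsIso N Q Q b := hgQ.congr (fun x hx => hgb x (hQU hx))
    have hfQ : IsIso N Q Q f := hbQ.congr (fun x hx => (hfb x (hQP hx)).symm)
    obtain ⟨-, n, hn, hbn⟩ := hb
    have hqQ : QAut N p Q b := ⟨hbQ, n, hn, fun x hx => hbn x (hQU hx)⟩
    refine ⟨fun y hy => ?_, PChain.base le_rfl hqQ le_rfl hfQ (fun x hx => hfb x (hQP hx))⟩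
    obtain ⟨x, hx, rfl⟩ := hfQ.surjOn hy
    exact hf.map_mem (hQP hx)
  | @trans P P' P'' f g h _ _ hh ih1 ih2 =>
    intro hQP
    obtain ⟨hQP', c1⟩ := ih1 hQP
    obtain ⟨hQP'', c2⟩ := ih2 hQP'
    exact ⟨hQP'', PChain.trans c1 c2 (fun x hx => hh x (hQP hx))⟩

/-- Conjugates by elements of `S` of fully normalized subgroups are fully normalized. -/
theorem isFullyNormalized_cjs [Finite S] {F : FusionSystem S} {P : Subgroup Ω}
    (hP : F.IsFullyNormalized P) {g : Ω} (hg : g ∈ S) : F.IsFullyNormalized (cjs g P) := by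
  have hPS := hP.1
  have hiso := isIso_cf F hPS hg
  refine ⟨hiso.le_right, fun Q' hQ' => ?_⟩
  have h1 := hP.2 Q' (isConj_trans F hiso.isConj hQ')
  refine h1.trans ?_
  -- `N_S(P)` maps into `N_S(g P g⁻¹)` by conjugation
  let k : normalizerIn S P → normalizerIn S (cjs g P) := fun n =>
    ⟨cf g n, S.mul_mem (S.mul_mem hg n.2.1) (S.inv_mem hg), by
      show cf g n ∈ Subgroup.normalizer ((cjs g P : Subgroup Ω) : Set Ω)
      haveI : Finite (cjs g P) := finite_of_le S hiso.le_right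
      apply mem_normalizer_of_conj_mem
      rintro _ ⟨x, hx, rfl⟩
      refine ⟨(n : Ω) * x * (n : Ω)⁻¹, (Subgroup.mem_normalizer_iff.1 n.2.2 x).1 hx, ?_⟩
      show cf g ((n : Ω) * x * (n : Ω)⁻¹) = cf g n * cf g x * (cf g n)⁻¹
      simp only [cf_apply]
      group⟩
  have hk : Function.Injective k := by
    intro a b hab
    have h2 : cf g a = cf g b := congrArg Subtype.val hab
    apply Subtype.ext
    have := congrArg (cf g⁻¹) h2
    rwa [cf_inv_cf, cf_inv_cf] at this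
  haveI : Finite (normalizerIn S (cjs g P)) := finite_of_le S inf_le_left
  exact Nat.card_le_card_of_injective k hk

/-- The degree relation: `f`, an automorphism of `Q`, is conjugation by `g ∈ N_S(Q)` composed with
an element of `O^p(Aut_F(Q))`. -/
def DD (F : FusionSystem S) (p : ℕ) (Q : Subgroup Ω) (f : Ω → Ω) (g : Ω) : Prop :=
  g ∈ normalizerIn S Q ∧ ∃ u : Ω → Ω, PChain F p Q Q Q u ∧ ∀ x ∈ Q, f x = g * u x * g⁻¹

theorem cjs_eq_of_mem_normalizer {Q : Subgroup Ω} {g : Ω}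
    (hg : g ∈ Subgroup.normalizer (Q : Set Ω)) : cjs g Q = Q := by
  ext y
  constructor
  · rintro ⟨x, hx, rfl⟩
    exact (Subgroup.mem_normalizer_iff.1 hg x).1 hx
  · intro hy
    refine ⟨g⁻¹ * y * g, ?_, ?_⟩
    · have := (Subgroup.mem_normalizer_iff.1 (Subgroup.inv_mem _ hg) y).1 hy
      simpa using this
    · show g * (g⁻¹ * y * g) * g⁻¹ = y
      group

namespace DD

variable {F : FusionSystem S} {p : ℕ} {Q : Subgroup Ω} {f f' : Ω → Ω} {g g' : Ω}

theorem congr (h : DD F p Q f g) (hff' : ∀ x ∈ Q, f x = f' x) : DD F p Q f' g := by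
  obtain ⟨hg, u, hu, hv⟩ := h
  exact ⟨hg, u, hu, fun x hx => by rw [← hff' x hx, hv x hx]⟩

theorem of_loop (h : PChain F p Q Q Q f) : DD F p Q f 1 :=
  ⟨Subgroup.one_mem _, f, h, fun x _ => by simp⟩

/-- Multiplicativity of the degree relation. -/
theorem mul (h : DD F p Q f g) (h' : DD F p Q f' g') :
    DD F p Q (f ∘ f') (g * g') := by
  obtain ⟨hg, u, hu, hv⟩ := h
  obtain ⟨hg', u', hu', hv'⟩ := h'
  have hg'i : g'⁻¹ ∈ normalizerIn S Q := Subgroup.inv_mem _ hg'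
  have hconj := hu.conj' hg'i.1
    (fun x hx => (Subgroup.mem_normalizer_iff.1 hg'i.2 x).1 hx)
  rw [cjs_eq_of_mem_normalizer hg'i.2] at hconj
  refine ⟨Subgroup.mul_mem _ hg hg', _, PChain.trans' hu' hconj, fun x hx => ?_⟩
  show f (f' x) = g * g' * (cf g'⁻¹ (u (cf g'⁻¹⁻¹ (u' x)))) * (g * g')⁻¹
  have hu'x : u' x ∈ Q := hu'.isIso.map_mem hx
  have hf'x : f' x ∈ Q := by
    rw [hv' x hx]
    exact (Subgroup.mem_normalizer_iff.1 hg'.2 _).1 hu'x
  rw [hv _ hf'x, hv' x hx, inv_inv]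
  simp only [cf_apply]
  group

end DD

section

variable [Finite S] {p : ℕ} [Fact p.Prime] (hS : IsPGroup p S) {F : FusionSystem S}
  (hF : F.IsSaturated p) {T : Subgroup Ω} (hTS : T ≤ S)
  (hTn : ∀ g ∈ S, ∀ x ∈ T, g * x * g⁻¹ ∈ T) (hyp : F.hyperfocalSubgroup p ≤ T)

include hS hF hyp in
/-- Uniqueness of the degree modulo `T`, for `Q ≤ T` centric and fully normalized. -/
theorem DD.unique {Q : Subgroup Ω} (hQT : Q ≤ T) (hQc : F.IsCentric Q)
    (hfn : F.IsFullyNormalized Q) {f : Ω → Ω} {g g' : Ω} (h : DD F p Q f g)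
    (h' : DD F p Q f g') : g'⁻¹ * g ∈ T := by
  have hQS := hfn.1
  obtain ⟨hg, u, hu, hv⟩ := h
  obtain ⟨hg', u', hu', hv'⟩ := h'
  -- `c_{g'⁻¹ g} = u' ∘ u⁻¹` on `Q`
  obtain ⟨k, hk, hk1, hk2⟩ := hu.isIso.symm
  have hk' : PChain F p Q Q Q k := hu.symm hk hk1
  have hloop : PChain F p Q Q Q (cf (g'⁻¹ * g)) := by
    refine (PChain.trans' hk' hu').congr (fun y hy => ?_)
    obtain ⟨x, hx, rfl⟩ := hu.isIso.surjOn hy
    show u' (k (u x)) = cf (g'⁻¹ * g) (u x)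
    rw [hk1 x hx]
    have e := (hv x hx).symm.trans (hv' x hx)
    simp only [cf_apply]
    have : g'⁻¹ * g * u x * (g'⁻¹ * g)⁻¹ = g'⁻¹ * (g * u x * g⁻¹) * g' := by group
    rw [this, e]
    group
  have hmem : g'⁻¹ * g ∈ normalizerIn S Q := Subgroup.mul_mem _ (Subgroup.inv_mem _ hg') hg
  obtain ⟨h, hh, hhN, hhv⟩ := conj_mem_hyp_of_loop hS hF hfn hmem hloop
  -- `h⁻¹ g'⁻¹ g` centralizes `Q`
  have hcen : h⁻¹ * (g'⁻¹ * g) ∈ centralizerIn S Q := by
    refine ⟨S.mul_mem (S.inv_mem hhN.1) hmem.1, ?_⟩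
    show _ ∈ Subgroup.centralizer (Q : Set Ω)
    rw [Subgroup.mem_centralizer_iff]
    intro x hx
    have e := hhv x hx
    have e2 : g'⁻¹ * g * x = h * x * h⁻¹ * (g'⁻¹ * g) := by rw [e]; group
    calc x * (h⁻¹ * (g'⁻¹ * g)) = h⁻¹ * (h * x * h⁻¹ * (g'⁻¹ * g)) := by group
      _ = h⁻¹ * (g'⁻¹ * g * x) := by rw [e2]
      _ = h⁻¹ * (g'⁻¹ * g) * x := by group
  have h1 : h⁻¹ * (g'⁻¹ * g) ∈ T := hQT (hQc.2 Q (isConj_refl F hQS) hcen)
  have : g'⁻¹ * g = h * (h⁻¹ * (g'⁻¹ * g)) := by group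
  rw [this]
  exact T.mul_mem (hyp hh) h1

include hS hF hTS hTn hyp in
/-- **Compatibility with restriction**: an isomorphism between subgroups of `N_T(Q)` properly
containing `Q` and mapping `Q` to `Q`, which is conjugation by `s ∈ S` composed with a map of
`F_T`, restricts on `Q` to an automorphism of degree `s` modulo `T`. -/
theorem restrict_DD {Q : Subgroup Ω} (hQT : Q ≤ T) (hQc : F.IsCentric Q)
    (hfn : F.IsFullyNormalized Q)
    (IH : ∀ U : Subgroup Ω, U ≤ T → F.IsCentric U → Nat.card Q < Nat.card U →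
      ∀ y ∈ S, TIso F p T U (cjs y U) (cf y) → y ∈ T)
    {R R' R₀ : Subgroup Ω} {ω : Ω → Ω} (hω : IsIso F R R' ω) (hQR : Q ≤ R) (hRT : R ≤ T)
    (hRN : R ≤ normalizerIn S Q) (hcard : Nat.card Q < Nat.card R) (hωQ : IsIso F Q Q ω)
    {s : Ω} (hs : s ∈ S) (hωs : TIso F p T R R₀ (cf s⁻¹ ∘ ω)) :
    ∃ g, DD F p Q ω g ∧ s⁻¹ * g ∈ T := by
  have hQS := hfn.1
  have hfinQ : Finite Q := finite_of_le S hQS
  obtain ⟨N, hN⟩ := Cfsg.Agent.S5096.result F Q hQS
  have hNsat : N.IsSaturated p := normalizerSystem_isSaturated hS hF hfn N hN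
  have hNF : N.IsSubsystemOf F := by
    intro P φ hφ
    rw [hN P] at hφ
    exact hφ.1
  haveI hfinSQ : Finite (normalizerIn S Q) := finite_of_le S inf_le_left
  have hSQ : IsPGroup p (normalizerIn S Q) := hS.to_le inf_le_left
  have hQN : Q ≤ normalizerIn S Q := le_normalizerIn hQS
  -- `ω` is a map of the normalizer system
  have hR'N : R' ≤ normalizerIn S Q := by
    intro y hy
    obtain ⟨r, hr, rfl⟩ := hω.surjOn hy
    exact IsIso.map_mem_normalizerIn hω hQR hωQ hr (hRN hr).2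
  have hωN : IsIso N R R' ω := by
    have hsup : R ⊔ Q = R := sup_of_le_left hQR
    have hnh : Cfsg.Agent.Lib.H26.IsNHom F Q R ω := by
      rw [Cfsg.Agent.Lib.H26.isNHom_iff]
      refine ⟨hRN, fun x hx => hR'N (hω.map_mem hx), ω, R', ?_, fun _ _ => rfl,
        fun x hx => hωQ.map_mem hx, fun y hy => hωQ.surjOn hy⟩
      rw [hsup]
      exact hω
    obtain ⟨φ, hφ, hφv⟩ := hnh
    rw [← hN R] at hφ
    refine ⟨φ, hφ, hφv, ?_⟩
    ext y
    constructor
    · rintro ⟨x, rfl⟩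
      rw [hφv]
      exact hω.map_mem x.2
    · intro hy
      obtain ⟨x, hx, rfl⟩ := hω.surjOn hy
      exact ⟨⟨x, hx⟩, hφv ⟨x, hx⟩⟩
  -- the data of the normalizer system
  have hTQS : T ⊓ normalizerIn S Q ≤ normalizerIn S Q := inf_le_right
  have hTQn : ∀ g ∈ normalizerIn S Q, ∀ x ∈ T ⊓ normalizerIn S Q,
      g * x * g⁻¹ ∈ T ⊓ normalizerIn S Q := fun g hg x hx =>
    ⟨hTn g hg.1 x hx.1, Subgroup.mul_mem _ (Subgroup.mul_mem _ hg hx.2) (Subgroup.inv_mem _ hg)⟩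
  have hypN : N.hyperfocalSubgroup p ≤ T ⊓ normalizerIn S Q :=
    le_inf ((hyp_mono p inf_le_left hNF).trans hyp) (hyperfocal_le N p)
  obtain ⟨g, hg, R₁, f₀, hc, hv⟩ :=
    exists_conj_chain hSQ hNsat hTQS hTQn hypN hωN (le_inf hRT hRN)
  have hQnN : N.IsNormal Q := normalizerSystem_isNormal hQS hN
  obtain ⟨hQR₁, hloopN⟩ := hc.restrict_normal hQnN hQR
  have hloopF : PChain F p Q Q Q f₀ := hloopN.of_hom_subset hNF le_rfl
  have hcF : PChain F p T R R₁ f₀ := hc.of_hom_subset hNF inf_le_left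
  refine ⟨g, ⟨hg, f₀, hloopF, fun x hx => hv x (hQR hx)⟩, ?_⟩
  -- `s⁻¹ g ∈ T` by the induction hypothesis applied to `R₁`
  have hR₁T : R₁ ≤ T := hcF.le_right
  have hRc : F.IsCentric R := isCentric_of_le hQc hQR (hRT.trans hTS)
  have hR₁c : F.IsCentric R₁ := Cfsg.Agent.S5114.isCentric_of_isIso hRc hcF.isIso
  have hcard₁ : Nat.card Q < Nat.card R₁ := by rw [← hcF.isIso.card_eq]; exact hcard
  obtain ⟨k, hk, hk1, hk2⟩ := hcF.isIso.symm
  have hck : PChain F p T R₁ R k := hcF.symm hk hk1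
  have ht : TIso F p T R₁ R₀ ((cf s⁻¹ ∘ ω) ∘ k) := (TIso.of_chain hTS hck).trans hTS hωs
  have ht' : TIso F p T R₁ R₀ (cf (s⁻¹ * g)) := by
    refine ht.congr (fun y hy => ?_)
    obtain ⟨x, hx, rfl⟩ := hcF.isIso.surjOn hy
    show cf s⁻¹ (ω (k (f₀ x))) = cf (s⁻¹ * g) (f₀ x)
    rw [hk1 x hx, hv x hx, cf_mul]
    rfl
  have hsg : s⁻¹ * g ∈ S := S.mul_mem (S.inv_mem hs) hg.1
  have hR₀ : R₀ = cjs (s⁻¹ * g) R₁ := eq_cjs_of_isIso hsg ht'.isIso
  rw [hR₀] at ht'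
  exact IH R₁ hR₁T hR₁c hcard₁ _ hsg ht'

end

end Cfsg.Agent.Lib.H25.PP
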