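import Cfsg.Agent.Lib.H25.PPDeg

set_option autoImplicit false

/-!
Subsystems of `p`-power index, part 5c (helper25): the key lemma. For `T` normal in `S` containing
the hyperfocal subgroup of the saturated system `F`, and `Q ≤ T` an `F`-centric subgroup:
if conjugation by `y ∈ S` is a map of `F_T` on `Q`, then `y ∈ T`.
-/

namespace Cfsg.Agent.Lib.H25.PP

open Cfsg Cfsg.FusionSystem Cfsg.Agent.Lib.H25 Cfsg.Agent.Lib.H26.Nil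

variable {Ω : Type*} [Group Ω] {S : Subgroup Ω}

/-- A chart at `Q₁`: an isomorphism `χ` of `F` defined on `N_T(Q₁)`, of degree `g`, carrying `Q₁`
onto `Q`, with inverse `χ'`. -/
def Chart (F : FusionSystem S) (p : ℕ) (T Q Q₁ : Subgroup Ω) (χ χ' : Ω → Ω) (g : Ω) : Prop :=
  Q₁ ≤ T ∧ ∃ D : Subgroup Ω, Deg F p T (normalizerIn T Q₁) D χ g ∧
    IsIso F D (normalizerIn T Q₁) χ' ∧ (∀ x ∈ normalizerIn T Q₁, χ' (χ x) = x) ∧ IsIso F Q₁ Q χ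

theorem Deg.target_le {F : FusionSystem S} {p : ℕ} {T P P' : Subgroup Ω} {f : Ω → Ω} {s : Ω}
    (hTn : ∀ g ∈ S, ∀ x ∈ T, g * x * g⁻¹ ∈ T) (h : Deg F p T P P' f s) : P' ≤ T := by
  obtain ⟨P₀, ht⟩ := h.2.2
  rw [h.target_eq ht]
  exact cjs_le_of_normal hTn h.1 ht.le_right

section

variable [Finite S] {p : ℕ} [Fact p.Prime] (hS : IsPGroup p S) {F : FusionSystem S}
  (hF : F.IsSaturated p) {T : Subgroup Ω} (hTS : T ≤ S)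
  (hTn : ∀ g ∈ S, ∀ x ∈ T, g * x * g⁻¹ ∈ T) (hyp : F.hyperfocalSubgroup p ≤ T)

include hS hF hTS hTn hyp in
/-- Charts exist at every subgroup of `T` conjugate to the fully normalized subgroup `Q`. -/
theorem exists_chart {Q Q₁ : Subgroup Ω} (hfn : F.IsFullyNormalized Q) (hQ₁T : Q₁ ≤ T)
    (hconj : F.IsConj Q₁ Q) : ∃ χ χ' g, Chart F p T Q Q₁ χ χ' g := by
  obtain ⟨hfc, hfa⟩ := fullyNormalized_props hS hF hfn
  have hrec : F.IsReceptive Q := isReceptive_of_fullyCentralized hS hF hfc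
  obtain ⟨f, N', hf, -, hfQ⟩ := exists_normalizer_map hS hfa hrec hconj
  have hle : normalizerIn T Q₁ ≤ normalizerIn S Q₁ := fun x hx => ⟨hTS hx.1, hx.2⟩
  obtain ⟨D, -, hD, -⟩ := hf.restrict hle
  obtain ⟨s, hs⟩ := exists_deg hS hF hTS hTn hyp hD (inf_le_left : normalizerIn T Q₁ ≤ T)
  obtain ⟨f', hf', hf'1, -⟩ := hD.symm
  exact ⟨f, f', s, hQ₁T, D, hs, hf', hf'1, hfQ⟩

include hS hF hTS hTn hyp in
/-- The step of the key lemma for the restriction of an automorphism of a strictly larger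
subgroup. -/
theorem step_big {Q : Subgroup Ω} (hQT : Q ≤ T) (hQc : F.IsCentric Q)
    (hfn : F.IsFullyNormalized Q)
    (IH : ∀ U : Subgroup Ω, U ≤ T → F.IsCentric U → Nat.card Q < Nat.card U →
      ∀ y ∈ S, TIso F p T U (cjs y U) (cf y) → y ∈ T)
    {Q₁ Q₂ U : Subgroup Ω} {b φ : Ω → Ω} (hU : U ≤ T) (hb : QAut F p U b) (hQ₁U : Q₁ ≤ U)
    (hne : Q₁ ≠ U) (hφ : IsIso F Q₁ Q₂ φ) (hφb : ∀ x ∈ Q₁, φ x = b x)
    {χ₁ χ₁' χ₂ χ₂' : Ω → Ω} {g₁ g₂ : Ω} (h₁ : Chart F p T Q Q₁ χ₁ χ₁' g₁)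
    (h₂ : Chart F p T Q Q₂ χ₂ χ₂' g₂) :
    ∃ g', DD F p Q (χ₂ ∘ φ ∘ χ₁') g' ∧ (g₂ * g₁⁻¹)⁻¹ * g' ∈ T := by
  have hUS : U ≤ S := hU.trans hTS
  haveI hfinU : Finite U := finite_of_le S hUS
  have hUp : IsPGroup p U := hS.to_le hUS
  have hQ₁S : Q₁ ≤ S := hQ₁U.trans hUS
  obtain ⟨n, hnR₁, hnQ₁⟩ := exists_mem_normalizerIn_not_mem hUp hQ₁U hne
  have hQ₁R₁ : Q₁ ≤ normalizerIn U Q₁ := le_normalizerIn hQ₁U
  have hR₁U : normalizerIn U Q₁ ≤ U := inf_le_left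
  have hR₁NT : normalizerIn U Q₁ ≤ normalizerIn T Q₁ := fun x hx => ⟨hU hx.1, hx.2⟩
  have hlt : Q₁ < normalizerIn U Q₁ :=
    lt_of_le_of_ne hQ₁R₁ (fun h => hnQ₁ (h ▸ hnR₁))
  have hcard₁ : Nat.card Q₁ < Nat.card (normalizerIn U Q₁) :=
    card_lt_of_lt' (hR₁U.trans hUS) hlt
  have hbQ : IsIso F Q₁ Q₂ b := hφ.congr hφb
  obtain ⟨B₁, hB₁U, hB₁, hB₁mem⟩ := hb.1.restrict hR₁U
  have hB₁NT : B₁ ≤ normalizerIn T Q₂ := by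
    intro y hy
    obtain ⟨x, hx, rfl⟩ := (hB₁mem y).1 hy
    exact ⟨hU (hB₁U hy), (IsIso.map_mem_normalizerIn hb.1 hQ₁U hbQ hx.1 hx.2).2⟩
  obtain ⟨hQ₁T, D₁, hd₁, hχ₁', hinv₁, hχ₁Q⟩ := h₁
  obtain ⟨hQ₂T, D₂, hd₂, hχ₂', hinv₂, hχ₂Q⟩ := h₂
  have hQ₁NT : Q₁ ≤ normalizerIn T Q₁ := le_normalizerIn hQ₁T
  obtain ⟨A₁, hA₁D, hA₁, hA₁mem⟩ := hd₁.isIso.restrict hR₁NT
  have hdA₁ : Deg F p T (normalizerIn U Q₁) A₁ χ₁ g₁ := hd₁.restrict hR₁NT hA₁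
  have hA₁' : IsIso F A₁ (normalizerIn U Q₁) χ₁' := by
    refine hχ₁'.restrict' hA₁D (fun y hy => ?_) (fun x hx => ?_)
    · obtain ⟨x, hx, rfl⟩ := (hA₁mem y).1 hy
      rw [hinv₁ x (hR₁NT hx)]
      exact hx
    · exact ⟨χ₁ x, hA₁.map_mem hx, hinv₁ x (hR₁NT hx)⟩
  have hdA₁' : Deg F p T A₁ (normalizerIn U Q₁) χ₁' g₁⁻¹ :=
    hdA₁.symm hTS hTn hA₁' (fun x hx => hinv₁ x (hR₁NT hx))
  have hdb : Deg F p T (normalizerIn U Q₁) B₁ b 1 :=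
    Deg.of_tiso hTS (TIso.of_chain hTS (PChain.base hU hb hR₁U hB₁ (fun _ _ => rfl)))
  obtain ⟨A₂, -, hA₂, -⟩ := hd₂.isIso.restrict hB₁NT
  have hdA₂ : Deg F p T B₁ A₂ χ₂ g₂ := hd₂.restrict hB₁NT hA₂
  have hdω : Deg F p T A₁ A₂ (χ₂ ∘ (b ∘ χ₁')) (g₂ * (1 * g₁⁻¹)) :=
    (hdA₁'.comp hTS hTn hdb).comp hTS hTn hdA₂
  rw [one_mul] at hdω
  have hD₁T : D₁ ≤ T := hd₁.target_le hTn
  have hQA₁ : Q ≤ A₁ := by
    intro q hq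
    obtain ⟨x, hx, rfl⟩ := hχ₁Q.surjOn hq
    exact hA₁.map_mem (hQ₁R₁ hx)
  have hA₁N : A₁ ≤ normalizerIn S Q := by
    intro y hy
    obtain ⟨x, hx, rfl⟩ := (hA₁mem y).1 hy
    exact IsIso.map_mem_normalizerIn hd₁.isIso hQ₁NT hχ₁Q (hR₁NT hx) hx.2
  have hcard : Nat.card Q < Nat.card A₁ := by
    rw [← hχ₁Q.card_eq, ← hA₁.card_eq]
    exact hcard₁
  have hωQ : IsIso F Q Q (χ₂ ∘ (b ∘ χ₁')) := by
    refine hdω.isIso.restrict' hQA₁ (fun q hq => ?_) (fun q hq => ?_)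
    · obtain ⟨x, hx, rfl⟩ := hχ₁Q.surjOn hq
      show χ₂ (b (χ₁' (χ₁ x))) ∈ Q
      rw [hinv₁ x (hQ₁NT hx)]
      exact hχ₂Q.map_mem (hbQ.map_mem hx)
    · obtain ⟨z, hz, rfl⟩ := hχ₂Q.surjOn hq
      obtain ⟨x, hx, rfl⟩ := hbQ.surjOn hz
      refine ⟨χ₁ x, hχ₁Q.map_mem hx, ?_⟩
      show χ₂ (b (χ₁' (χ₁ x))) = χ₂ (b x)
      rw [hinv₁ x (hQ₁NT hx)]
  obtain ⟨P₀, hωs⟩ := hdω.2.2
  obtain ⟨g', hDD, hmem⟩ := restrict_DD hS hF hTS hTn hyp hQT hQc hfn IH hdω.isIso hQA₁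
    (hA₁D.trans hD₁T) hA₁N hcard hωQ hdω.1 hωs
  refine ⟨g', hDD.congr (fun q hq => ?_), hmem⟩
  obtain ⟨x, hx, rfl⟩ := hχ₁Q.surjOn hq
  show χ₂ (b (χ₁' (χ₁ x))) = χ₂ (φ (χ₁' (χ₁ x)))
  rw [hinv₁ x (hQ₁NT hx), hφb x hx]

include hS hF hTS hTn hyp in
/-- The step of the key lemma for an automorphism of `Q₁` itself. -/
theorem step_small {Q : Subgroup Ω} (hQT : Q ≤ T) (hQc : F.IsCentric Q)
    (hfn : F.IsFullyNormalized Q) (hQne : Q ≠ T)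
    (IH : ∀ U : Subgroup Ω, U ≤ T → F.IsCentric U → Nat.card Q < Nat.card U →
      ∀ y ∈ S, TIso F p T U (cjs y U) (cf y) → y ∈ T)
    {Q₁ Q₂ : Subgroup Ω} {b φ : Ω → Ω} (hb : QAut F p Q₁ b)
    (hφ : IsIso F Q₁ Q₂ φ) (hφb : ∀ x ∈ Q₁, φ x = b x)
    {χ₁ χ₁' χ₂ χ₂' : Ω → Ω} {g₁ g₂ : Ω} (h₁ : Chart F p T Q Q₁ χ₁ χ₁' g₁)
    (h₂ : Chart F p T Q Q₂ χ₂ χ₂' g₂) :
    ∃ g', DD F p Q (χ₂ ∘ φ ∘ χ₁') g' ∧ (g₂ * g₁⁻¹)⁻¹ * g' ∈ T := by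
  have hQ₂ : Q₁ = Q₂ := (IsIso.target_eq hφ hb.1 hφb).symm
  subst hQ₂
  have hQ₁T : Q₁ ≤ T := h₁.1
  haveI hfinT : Finite T := finite_of_le S hTS
  have hTp : IsPGroup p T := hS.to_le hTS
  have hQ₁ne : Q₁ ≠ T := by
    obtain ⟨-, D₁, -, -, -, hχ₁Q⟩ := h₁
    intro h
    apply hQne
    apply Subgroup.eq_of_le_of_card_ge hQT
    rw [← hχ₁Q.card_eq, h]
  obtain ⟨n, hnN, hnQ₁⟩ := exists_mem_normalizerIn_not_mem hTp hQ₁T hQ₁ne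
  have hQ₁NT : Q₁ ≤ normalizerIn T Q₁ := le_normalizerIn hQ₁T
  have hne' : Q₁ ≠ normalizerIn T Q₁ := fun h => hnQ₁ (h ▸ hnN)
  have hNTS : normalizerIn T Q₁ ≤ S := inf_le_left.trans hTS
  obtain ⟨g', hDD, hmem⟩ := step_big hS hF hTS hTn hyp hQT hQc hfn IH
    (inf_le_left : normalizerIn T Q₁ ≤ T) (QAut.refl (F := F) (p := p) hNTS) hQ₁NT hne'
    (IsIso.refl (F := F) (hQ₁T.trans hTS)) (fun _ _ => rfl) h₁ h₂
  obtain ⟨-, D₁, hd₁, hχ₁', hinv₁, hχ₁Q⟩ := h₁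
  -- the transported automorphism of `Q`
  have hχ₁'Q : IsIso F Q Q₁ χ₁' := by
    have hQD : Q ≤ D₁ := by
      intro q hq
      obtain ⟨x, hx, rfl⟩ := hχ₁Q.surjOn hq
      exact hd₁.isIso.map_mem (hQ₁NT hx)
    refine hχ₁'.restrict' hQD (fun q hq => ?_) (fun x hx => ?_)
    · obtain ⟨x, hx, rfl⟩ := hχ₁Q.surjOn hq
      rw [hinv₁ x (hQ₁NT hx)]
      exact hx
    · exact ⟨χ₁ x, hχ₁Q.map_mem hx, hinv₁ x (hQ₁NT hx)⟩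
  have hq : QAut F p Q (χ₁ ∘ b ∘ χ₁') :=
    hb.transport hχ₁Q hχ₁'Q (fun x hx => hinv₁ x (hQ₁NT hx))
  have hloop : PChain F p Q Q Q (χ₁ ∘ b ∘ χ₁') :=
    PChain.base le_rfl hq le_rfl hq.1 (fun _ _ => rfl)
  have hmul := hDD.mul (DD.of_loop hloop)
  rw [mul_one] at hmul
  refine ⟨g', hmul.congr (fun q hq => ?_), hmem⟩
  obtain ⟨x, hx, rfl⟩ := hχ₁Q.surjOn hq
  show χ₂ (id (χ₁' (χ₁ (b (χ₁' (χ₁ x)))))) = χ₂ (φ (χ₁' (χ₁ x)))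
  rw [hinv₁ x (hQ₁NT hx), hinv₁ _ (hQ₁NT (hb.1.map_mem hx)), hφb x hx]
  rfl

include hS hF hTS hTn hyp in
/-- The telescoping argument along a chain. -/
theorem chain_DD {Q : Subgroup Ω} (hQT : Q ≤ T) (hQc : F.IsCentric Q)
    (hfn : F.IsFullyNormalized Q) (hQne : Q ≠ T)
    (IH : ∀ U : Subgroup Ω, U ≤ T → F.IsCentric U → Nat.card Q < Nat.card U →
      ∀ y ∈ S, TIso F p T U (cjs y U) (cf y) → y ∈ T)
    {Q₁ Q₂ : Subgroup Ω} {φ : Ω → Ω} (hc : PChain F p T Q₁ Q₂ φ) :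
    ∀ {χ₁ χ₁' χ₂ χ₂' : Ω → Ω} {g₁ g₂ : Ω}, Chart F p T Q Q₁ χ₁ χ₁' g₁ →
      Chart F p T Q Q₂ χ₂ χ₂' g₂ →
      ∃ g', DD F p Q (χ₂ ∘ φ ∘ χ₁') g' ∧ (g₂ * g₁⁻¹)⁻¹ * g' ∈ T := by
  induction hc with
  | @base U Q₁ Q₂ b φ hU hb hQ₁U hφ hφb =>
    intro χ₁ χ₁' χ₂ χ₂' g₁ g₂ h₁ h₂
    by_cases hne : Q₁ = U
    · subst hne
      exact step_small hS hF hTS hTn hyp hQT hQc hfn hQne IH hb hφ hφb h₁ h₂
    · exact step_big hS hF hTS hTn hyp hQT hQc hfn IH hU hb hQ₁U hne hφ hφb h₁ h₂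
  | @trans Q₁ M Q₂ f g h c1 c2 hh ih1 ih2 =>
    intro χ₁ χ₁' χ₂ χ₂' g₁ g₂ h₁ h₂
    have hMT : M ≤ T := c1.le_right
    have hMconj : F.IsConj M Q := by
      obtain ⟨-, D₁, -, -, -, hχ₁Q⟩ := h₁
      exact isConj_trans F (isConj_symm F c1.isIso.isConj) hχ₁Q.isConj
    obtain ⟨χM, χM', gM, hM⟩ := exists_chart hS hF hTS hTn hyp hfn hMT hMconj
    obtain ⟨a, hDa, ha⟩ := ih1 h₁ hM
    obtain ⟨b, hDb, hb⟩ := ih2 hM h₂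
    have hg₁S : g₁ ∈ S := by obtain ⟨-, D₁, hd₁, -⟩ := h₁; exact hd₁.1
    have hgMS : gM ∈ S := by obtain ⟨-, D₁, hd₁, -⟩ := hM; exact hd₁.1
    obtain ⟨hQ₁T, D₁, hd₁, hχ₁', hinv₁, hχ₁Q⟩ := h₁
    obtain ⟨-, DM, hdM, hχM', hinvM, hχMQ⟩ := hM
    have hQ₁NT : Q₁ ≤ normalizerIn T Q₁ := le_normalizerIn hQ₁T
    have hMNT : M ≤ normalizerIn T M := le_normalizerIn hMT
    refine ⟨b * a, (hDb.mul hDa).congr (fun q hq => ?_), ?_⟩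
    · obtain ⟨x, hx, rfl⟩ := hχ₁Q.surjOn hq
      show χ₂ (g (χM' (χM (f (χ₁' (χ₁ x)))))) = χ₂ (h (χ₁' (χ₁ x)))
      rw [hinv₁ x (hQ₁NT hx), hinvM _ (hMNT (c1.isIso.map_mem hx)), hh x hx]
    · -- `(g₂ g₁⁻¹)⁻¹ (b a) = g₁ (gM⁻¹ ((g₂ gM⁻¹)⁻¹ b) gM) g₁⁻¹ ((gM g₁⁻¹)⁻¹ a)`
      have h1 : gM⁻¹ * ((g₂ * gM⁻¹)⁻¹ * b) * gM⁻¹⁻¹ ∈ T := hTn _ (S.inv_mem hgMS) _ hb
      have h2 : g₁ * (gM⁻¹ * ((g₂ * gM⁻¹)⁻¹ * b) * gM⁻¹⁻¹) * g₁⁻¹ ∈ T := hTn _ hg₁S _ h1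
      have e : (g₂ * g₁⁻¹)⁻¹ * (b * a) =
          g₁ * (gM⁻¹ * ((g₂ * gM⁻¹)⁻¹ * b) * gM⁻¹⁻¹) * g₁⁻¹ * ((gM * g₁⁻¹)⁻¹ * a) := by group
      rw [e]
      exact T.mul_mem h2 ha

include hS hF hTS hTn hyp in
/-- The key lemma for a fully normalized centric subgroup, given it for larger subgroups. -/
theorem KL_fn {Q : Subgroup Ω} (hQT : Q ≤ T) (hQc : F.IsCentric Q)
    (hfn : F.IsFullyNormalized Q)
    (IH : ∀ U : Subgroup Ω, U ≤ T → F.IsCentric U → Nat.card Q < Nat.card U →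
      ∀ y ∈ S, TIso F p T U (cjs y U) (cf y) → y ∈ T) :
    ∀ y ∈ S, TIso F p T Q (cjs y Q) (cf y) → y ∈ T := by
  intro y hy hty
  have hQS : Q ≤ S := hfn.1
  obtain ⟨hfy, t, ht, Q₀, φ₀, hc, hv⟩ := hty
  have htS : t ∈ S := hTS ht
  have hy'S : t⁻¹ * y ∈ S := S.mul_mem (S.inv_mem htS) hy
  have hφ₀ : ∀ x ∈ Q, φ₀ x = cf (t⁻¹ * y) x := by
    intro x hx
    have := hv x hx
    rw [cf_mul, this]
    exact (cf_inv_cf t (φ₀ x)).symm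
  suffices hsuff : t⁻¹ * y ∈ T by
    have : y = t * (t⁻¹ * y) := by group
    rw [this]
    exact T.mul_mem ht hsuff
  have hQ₀ : Q₀ = cjs (t⁻¹ * y) Q := eq_cjs_of_isIso hy'S (hc.isIso.congr hφ₀)
  by_cases hQne : Q = T
  · -- the top case
    subst hQne
    obtain ⟨hQ₀', -⟩ := hc.loop_mem_pResidual rfl
    rw [hQ₀'] at hc
    have hN : t⁻¹ * y ∈ normalizerIn S Q := by
      refine ⟨hy'S, ?_⟩
      haveI : Finite Q := finite_of_le S hQS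
      apply mem_normalizer_of_conj_mem
      intro x hx
      exact hTn _ hy'S x hx
    have hD1 : DD F p Q (cf (t⁻¹ * y)) (t⁻¹ * y) :=
      ⟨hN, id, PChain.refl hQS le_rfl, fun _ _ => rfl⟩
    have hD2 : DD F p Q (cf (t⁻¹ * y)) 1 := DD.of_loop (hc.congr hφ₀)
    have := DD.unique hS hF hyp le_rfl hQc hfn hD1 hD2
    simpa using this
  · -- the general case
    have hNTS : normalizerIn T Q ≤ S := inf_le_left.trans hTS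
    have hchart₁ : Chart F p T Q Q id id 1 := by
      refine ⟨hQT, normalizerIn T Q, ?_, IsIso.refl hNTS, fun _ _ => rfl, IsIso.refl hQS⟩
      exact Deg.of_tiso hTS (TIso.of_chain hTS (PChain.refl hTS inf_le_left))
    have hQ₀T : Q₀ ≤ T := hc.le_right
    have hNT₀S : normalizerIn T Q₀ ≤ S := inf_le_left.trans hTS
    have hchart₂ : Chart F p T Q Q₀ (cf (t⁻¹ * y)⁻¹) (cf (t⁻¹ * y)) (t⁻¹ * y)⁻¹ := by
      refine ⟨hQ₀T, cjs (t⁻¹ * y)⁻¹ (normalizerIn T Q₀),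
        Deg.of_conj hTS inf_le_left (S.inv_mem hy'S), ?_, fun x _ => ?_, ?_⟩
      · have := isIso_cf_inv F hNT₀S (S.inv_mem hy'S)
        rwa [inv_inv] at this
      · have := cf_cf_inv (t⁻¹ * y) x
        exact this
      · rw [hQ₀]
        exact isIso_cf_inv F hQS hy'S
    obtain ⟨g', hDD, hmem⟩ :=
      chain_DD hS hF hTS hTn hyp hQT hQc hfn hQne IH hc hchart₁ hchart₂
    have hD1 : DD F p Q id g' := by
      refine hDD.congr (fun x hx => ?_)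
      show cf (t⁻¹ * y)⁻¹ (φ₀ (id x)) = id x
      rw [id, hφ₀ x hx, cf_inv_cf]
    have hD2 : DD F p Q id 1 := DD.of_loop (PChain.refl hQS le_rfl)
    have hg' : g' ∈ T := by
      have := DD.unique hS hF hyp hQT hQc hfn hD1 hD2
      simpa using this
    have e : t⁻¹ * y = ((t⁻¹ * y)⁻¹ * 1⁻¹)⁻¹ * g' * g'⁻¹ := by group
    rw [e]
    exact T.mul_mem hmem (T.inv_mem hg')

include hS hF hTS hTn hyp in
/-- **Key lemma.** If conjugation by `y ∈ S` is a map of `F_T` on the `F`-centric subgroup `Q` of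
`T`, then `y ∈ T`. -/
theorem KL : ∀ Q : Subgroup Ω, Q ≤ T → F.IsCentric Q →
    ∀ y ∈ S, TIso F p T Q (cjs y Q) (cf y) → y ∈ T := by
  haveI hfinT : Finite T := finite_of_le S hTS
  have key : ∀ n : ℕ, ∀ Q : Subgroup Ω, Q ≤ T → F.IsCentric Q → Nat.card T - Nat.card Q = n →
      ∀ y ∈ S, TIso F p T Q (cjs y Q) (cf y) → y ∈ T := by
    intro n
    induction n using Nat.strong_induction_on with
    | _ n ih =>
    intro Q hQT hQc hn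
    have hQS : Q ≤ S := hQT.trans hTS
    have IH : ∀ U : Subgroup Ω, U ≤ T → F.IsCentric U → Nat.card Q < Nat.card U →
        ∀ y ∈ S, TIso F p T U (cjs y U) (cf y) → y ∈ T := by
      intro U hUT hUc hcard
      have hUle : Nat.card U ≤ Nat.card T := Subgroup.card_le_of_le hUT
      exact ih (Nat.card T - Nat.card U) (by omega) U hUT hUc rfl
    -- a fully normalized conjugate reached by a chain
    obtain ⟨Q', hQQ', hQ'fn⟩ := exists_fullyNormalized_conj F hQS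
    obtain ⟨χ, hχ⟩ := (isConj_iff F).1 hQQ'
    obtain ⟨g, hg, Q₀, χ₀, hc, hv⟩ := exists_conj_chain hS hF hTS hTn hyp hχ hQT
    have hQ₀S : Q₀ ≤ S := hc.le_right.trans hTS
    have hQ'eq : Q' = cjs g Q₀ := by
      have h1 : IsIso F Q (cjs g Q₀) (cf g ∘ χ₀) := hc.isIso.trans (isIso_cf F hQ₀S hg)
      exact IsIso.target_eq hχ h1 hv
    have hQ₀fn : F.IsFullyNormalized Q₀ := by
      have := isFullyNormalized_cjs hQ'fn (S.inv_mem hg)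
      rwa [hQ'eq, cjs_inv_cjs] at this
    have hQ₀c : F.IsCentric Q₀ := Cfsg.Agent.S5114.isCentric_of_isIso hQc hc.isIso
    have hcardeq : Nat.card Q = Nat.card Q₀ := hc.isIso.card_eq
    have IH₀ : ∀ U : Subgroup Ω, U ≤ T → F.IsCentric U → Nat.card Q₀ < Nat.card U →
        ∀ y ∈ S, TIso F p T U (cjs y U) (cf y) → y ∈ T := by
      intro U hUT hUc hcard
      exact IH U hUT hUc (by rw [hcardeq]; exact hcard)
    have hK₀ := KL_fn hS hF hTS hTn hyp hc.le_right hQ₀c hQ₀fn IH₀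
    intro y hy hty
    apply hK₀ y hy
    -- transport along the chain
    obtain ⟨k, hk, hk1, hk2⟩ := hc.isIso.symm
    have hck : TIso F p T Q₀ Q k := TIso.of_chain hTS (hc.symm hk hk1)
    have hcy : TIso F p T (cjs y Q) (cjs y Q₀) (cf y ∘ χ₀ ∘ cf y⁻¹) :=
      (TIso.of_chain hTS hc).conj hTS hTn hy
    refine ((hck.trans hTS hty).trans hTS hcy).congr (fun z hz => ?_)
    obtain ⟨x, hx, rfl⟩ := hc.isIso.surjOn hz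
    show cf y (χ₀ (cf y⁻¹ (cf y (k (χ₀ x))))) = cf y (χ₀ x)
    rw [cf_inv_cf, hk1 x hx]
  intro Q hQT hQc
  exact key _ Q hQT hQc rfl

end

end Cfsg.Agent.Lib.H25.PP
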