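import Cfsg.Agent.Lib.H25.PPExist

set_option autoImplicit false
set_option linter.unusedSectionVars false

/-!
Subsystems of `p`-power index over a normal subgroup `T ⊴ S` are normal subsystems (helper25).
-/

namespace Cfsg.Agent.Lib.H25.PP

open Cfsg Cfsg.FusionSystem Cfsg.Agent.Lib.H25 Cfsg.Agent.Lib.H26.Nil

variable {Ω : Type*} [Group Ω] {S : Subgroup Ω}

/-- Automorphisms of order prime to `p` of subgroups of `T` lie in every subsystem over `T` of
`p`-power index. -/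
theorem QAut.isIso_of_ppower {F : FusionSystem S} {p : ℕ} [Fact p.Prime] {T : Subgroup Ω}
    {E : FusionSystem T} (hEi : E.HasPPowerIndexIn F p) {U : Subgroup Ω} (hU : U ≤ T)
    {b : Ω → Ω} (hb : QAut F p U b) : IsIso E U U b := by
  obtain ⟨α, hα, hαf⟩ := hb.exists_mem_pResidual
  have h1 : (α : MulAut U) ∈ E.autGroup U := hEi.2.2 U hU ⟨α, hα, rfl⟩
  refine (isIso_aut1 E hU h1).congr (fun x hx => ?_)
  rw [aut1_apply_mem _ hx, hαf ⟨x, hx⟩]

/-- A saturated subsystem of `p`-power index over `T` is the explicit system `F_T`. -/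
theorem eq_tSys_of_sat_ppower [Finite S] {p : ℕ} [Fact p.Prime] (hS : IsPGroup p S)
    {F : FusionSystem S} {T : Subgroup Ω} (hTS : T ≤ S) {E : FusionSystem T}
    (hE : E.IsSaturated p) (hEi : E.HasPPowerIndexIn F p) : E = tSys F p T hTS := by
  apply fusionSystem_ext
  intro P
  apply Set.Subset.antisymm
  · exact Cfsg.Agent.Lib.H26.isSubsystemOf_of_pResidual_le hS hTS E hE hEi.1 (tSys F p T hTS)
      le_rfl (fun P hP => pResidual_le_tSys hTS hP) P
  · intro φ hφ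
    have h1 : IsIso (tSys F p T hTS) P φ.range (ext1 φ) := isIso_of_mem _ hφ
    obtain ⟨hfiso, t, ht, P₀, f₀, hc, hv⟩ := isIso_tSys_iff.1 h1
    have hc' : IsIso E P P₀ f₀ :=
      hc.isIso_of_steps (fun U hU _ b hb => hb.isIso_of_ppower hEi hU)
    have hP₀T : P₀ ≤ T := hc.le_right
    have hconj : IsIso E P₀ (cjs t P₀) (cf t) := isIso_cf E hP₀T ht
    have h2 : IsIso E P (cjs t P₀) (ext1 φ) :=
      (hc'.trans hconj).congr (fun x hx => (hv x hx).symm)
    exact mem_hom_of_isIso E h2 (fun x => (ext1_apply φ x).symm)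

/-- `f` extends to an automorphism `b` of `T C_S(T)` in `F` with `[b, C_S(T)] ≤ Z(T)`. -/
def ExtOK (F : FusionSystem S) (T : Subgroup Ω) (f : Ω → Ω) : Prop :=
  ∃ b : Ω → Ω, IsIso F (T ⊔ centralizerIn S T) (T ⊔ centralizerIn S T) b ∧ IsIso F T T b ∧
    (∀ x ∈ T, b x = f x) ∧
    ∀ c ∈ centralizerIn S T, c⁻¹ * b c ∈ T ⊓ Subgroup.centralizer (T : Set Ω)

/-- An automorphism of `T` preserves `Z(T)`. -/
theorem map_mem_center {F : FusionSystem S} {T : Subgroup Ω} {b : Ω → Ω} (hb : IsIso F T T b)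
    {z : Ω} (hz : z ∈ T ⊓ Subgroup.centralizer (T : Set Ω)) :
    b z ∈ T ⊓ Subgroup.centralizer (T : Set Ω) := by
  have h2 : b z ∈ Subgroup.centralizer (T : Set Ω) := by
    rw [Subgroup.mem_centralizer_iff]
    intro y hy
    obtain ⟨x, hx, rfl⟩ := hb.surjOn hy
    rw [← hb.map_mul hx hz.1, ← hb.map_mul hz.1 hx]
    have := (Subgroup.mem_centralizer_iff.1 hz.2) x hx
    rw [this]
  exact ⟨hb.map_mem hz.1, h2⟩

namespace ExtOK

variable {F : FusionSystem S} {T : Subgroup Ω} {f g : Ω → Ω}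

theorem congr (h : ExtOK F T f) (hfg : ∀ x ∈ T, f x = g x) : ExtOK F T g := by
  obtain ⟨b, hb, hbT, hbv, hbc⟩ := h
  exact ⟨b, hb, hbT, fun x hx => (hbv x hx).trans (hfg x hx), hbc⟩

theorem comp (h1 : ExtOK F T f) (h2 : ExtOK F T g) : ExtOK F T (g ∘ f) := by
  obtain ⟨b₁, hb₁, hb₁T, hb₁v, hb₁c⟩ := h1
  obtain ⟨b₂, hb₂, hb₂T, hb₂v, hb₂c⟩ := h2
  refine ⟨b₂ ∘ b₁, hb₁.trans hb₂, hb₁T.trans hb₂T, fun x hx => ?_, fun c hc => ?_⟩
  · show b₂ (b₁ x) = g (f x)
    rw [← hb₁v x hx, hb₂v _ (hb₁T.map_mem hx)]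
  · show c⁻¹ * b₂ (b₁ c) ∈ _
    have hz₁ := hb₁c c hc
    have hcN : c ∈ T ⊔ centralizerIn S T := (le_sup_right : centralizerIn S T ≤ _) hc
    have hz₁N : c⁻¹ * b₁ c ∈ T ⊔ centralizerIn S T := (le_sup_left : T ≤ _) hz₁.1
    have e1 : b₁ c = c * (c⁻¹ * b₁ c) := by group
    rw [e1, hb₂.map_mul hcN hz₁N]
    have e2 : c⁻¹ * (b₂ c * b₂ (c⁻¹ * b₁ c)) = (c⁻¹ * b₂ c) * b₂ (c⁻¹ * b₁ c) := by group
    rw [e2]
    exact Subgroup.mul_mem _ (hb₂c c hc) (map_mem_center hb₂T hz₁)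

theorem conjT (hTS : T ≤ S) {t : Ω} (ht : t ∈ T) : ExtOK F T (cf t) := by
  have hNS : T ⊔ centralizerIn S T ≤ S := sup_le hTS inf_le_left
  have htN : t ∈ T ⊔ centralizerIn S T := (le_sup_left : T ≤ _) ht
  have h1 : IsIso F (T ⊔ centralizerIn S T) (T ⊔ centralizerIn S T) (cf t) := by
    have := isIso_cf F hNS (hTS ht)
    rwa [cjs_eq_of_mem_normalizer (Subgroup.le_normalizer htN)] at this
  have h2 : IsIso F T T (cf t) := by
    have := isIso_cf F hTS (hTS ht)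
    rwa [cjs_eq_of_mem_normalizer (Subgroup.le_normalizer ht)] at this
  refine ⟨cf t, h1, h2, fun _ _ => rfl, fun c hc => ?_⟩
  have hct : t * c = c * t := (Subgroup.mem_centralizer_iff.1 hc.2) t ht
  have : c⁻¹ * cf t c = 1 := by
    show c⁻¹ * (t * c * t⁻¹) = 1
    rw [hct]; group
  rw [this]
  exact Subgroup.one_mem _

end ExtOK

/-- A map of `F` defined on `T C_S(T)` and normalizing `T` maps `C_S(T)` into itself. -/
theorem map_mem_centralizerIn {F : FusionSystem S} {T N' : Subgroup Ω} {e : Ω → Ω}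
    (he : IsIso F (T ⊔ centralizerIn S T) N' e) (heT : IsIso F T T e) {c : Ω}
    (hc : c ∈ centralizerIn S T) : e c ∈ centralizerIn S T := by
  have hcN : c ∈ T ⊔ centralizerIn S T := (le_sup_right : centralizerIn S T ≤ _) hc
  have h2 : e c ∈ Subgroup.centralizer (T : Set Ω) := by
    rw [Subgroup.mem_centralizer_iff]
    intro y hy
    obtain ⟨x, hx, rfl⟩ := heT.surjOn hy
    have hxN : x ∈ T ⊔ centralizerIn S T := (le_sup_left : T ≤ _) hx
    rw [← he.map_mul hxN hcN, ← he.map_mul hcN hxN]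
    have := (Subgroup.mem_centralizer_iff.1 hc.2) x hx
    rw [this]
  exact ⟨he.le_right (he.map_mem hcN), h2⟩

section

variable [Finite S] {p : ℕ} [Fact p.Prime] (hS : IsPGroup p S) {F : FusionSystem S}
  (hF : F.IsSaturated p) {T : Subgroup Ω} (hTS : T ≤ S)
  (hTn : ∀ g ∈ S, ∀ x ∈ T, g * x * g⁻¹ ∈ T) (hyp : F.hyperfocalSubgroup p ≤ T)

include hS hF hTS hTn hyp in
/-- `T` is the only `F`-conjugate of `T`. -/
theorem eq_T_of_isIso {Q : Subgroup Ω} {f : Ω → Ω} (hf : IsIso F T Q f) : Q = T := by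
  have hsc := stronglyClosed_of_hyp_le hS hF hTS hTn hyp
  haveI hfinT : Finite T := finite_of_le S hTS
  have hQT : Q ≤ T := by
    intro y hy
    obtain ⟨x, hx, rfl⟩ := hf.surjOn hy
    obtain ⟨φ, hφ, hφf, -⟩ := hf
    rw [← hφf ⟨x, hx⟩]
    exact hsc.2 T le_rfl φ hφ ⟨x, hx⟩
  exact Subgroup.eq_of_le_of_card_ge hQT hf.card_eq.le

include hS hF hTS hTn hyp in
theorem isReceptive_T : F.IsReceptive T := by
  have hfn : F.IsFullyNormalized T := by
    refine ⟨hTS, fun Q hQ => ?_⟩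
    obtain ⟨f, hf⟩ := (isConj_iff F).1 hQ
    rw [eq_T_of_isIso hS hF hTS hTn hyp hf]
  exact isReceptive_of_fullyCentralized hS hF (fullyNormalized_props hS hF hfn).1

include hS hF hTS hTn hyp in
/-- Automorphisms of `T` of order prime to `p` extend suitably. -/
theorem ExtOK.of_qAut {b : Ω → Ω} (hb : QAut F p T b) : ExtOK F T b := by
  have hrec := isReceptive_T hS hF hTS hTn hyp
  have hNS : T ⊔ centralizerIn S T ≤ S := sup_le hTS inf_le_left
  haveI hfinC : Finite (centralizerIn S T) := finite_of_le S inf_le_left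
  obtain ⟨φ, hφ, hφf, hr⟩ := hb.1
  have hle : T ⊔ centralizerIn S T ≤ extender S T φ :=
    sup_le (le_extender F hφ) (centralizerIn_le_extender S T φ)
  obtain ⟨e, N', he, hev⟩ := IsReceptive_extend hrec hb.1 (T ⊔ centralizerIn S T)
    (fun g hg => (mem_extender_iff' hφf g).1 (hle hg))
  have hevT : ∀ x ∈ T, e x = b x := fun x hx => hev x hx ((le_sup_left : T ≤ _) hx)
  have heT : IsIso F T T e := hb.1.congr (fun x hx => (hevT x hx).symm)
  obtain ⟨C', -, heC, hC'mem⟩ := he.restrict (le_sup_right : centralizerIn S T ≤ _)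
  have hC'le : C' ≤ centralizerIn S T := by
    intro y hy
    obtain ⟨c, hc, rfl⟩ := (hC'mem y).1 hy
    exact map_mem_centralizerIn he heT hc
  have hC'eq : C' = centralizerIn S T := Subgroup.eq_of_le_of_card_ge hC'le heC.card_eq.le
  rw [hC'eq] at heC
  have hN' : N' = T ⊔ centralizerIn S T := IsIso.image_sup he heT heC
  rw [hN'] at he
  obtain ⟨d, hd, hdv⟩ := exists_qAut_extending he hb hevT
  have hdT : IsIso F T T d := hb.1.congr (fun x hx => (hdv x hx).symm)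
  refine ⟨d, hd.1, hdT, hdv, fun c hc => ⟨?_, ?_⟩⟩
  · exact hyp (hd.inv_mul_mem_hyp ((le_sup_right : centralizerIn S T ≤ _) hc))
  · exact Subgroup.mul_mem _ (Subgroup.inv_mem _ hc.2) (map_mem_centralizerIn hd.1 hdT hc).2

include hS hF hTS hTn hyp in
/-- Chains starting at `T` end at `T` and extend suitably. -/
theorem ExtOK.of_chain {P Q : Subgroup Ω} {f : Ω → Ω} (hc : PChain F p T P Q f) :
    P = T → Q = T ∧ ExtOK F T f := by
  induction hc with
  | @base U P Q b f hU hb hP hf hfb =>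
    intro hPT
    subst hPT
    have hUP : U = P := le_antisymm hU hP
    subst hUP
    have hQ : Q = U := eq_T_of_isIso hS hF hTS hTn hyp hf
    exact ⟨hQ, (ExtOK.of_qAut hS hF hTS hTn hyp hb).congr (fun x hx => (hfb x hx).symm)⟩
  | @trans P Q R f g h c1 c2 hh ih1 ih2 =>
    intro hPT
    obtain ⟨hQT, h1⟩ := ih1 hPT
    obtain ⟨hRT, h2⟩ := ih2 hQT
    exact ⟨hRT, (h1.comp h2).congr (fun x hx => (hh x (hPT ▸ hx)).symm)⟩

include hS hF hTS hTn hyp in
/-- **The extension condition** for `F_T`. -/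
theorem tSys_extension (α : MulAut T) (hα : α ∈ (tSys F p T hTS).autGroup T) :
    ∃ β ∈ F.autGroup (T ⊔ centralizerIn S T),
      (∀ x : T, ((β (Subgroup.inclusion le_sup_left x) : ↥(T ⊔ centralizerIn S T)) : Ω) =
        ((α x : T) : Ω)) ∧
      ∀ c : ↥(T ⊔ centralizerIn S T), (c : Ω) ∈ centralizerIn S T →
        (c : Ω)⁻¹ * ((β c : ↥(T ⊔ centralizerIn S T)) : Ω) ∈
          T ⊓ Subgroup.centralizer (T : Set Ω) := by
  obtain ⟨hiso, t, ht, P₀, f₀, hc, hv⟩ := (mem_autGroup_tSys_iff hTS le_rfl α).1 hα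
  obtain ⟨-, h0⟩ := ExtOK.of_chain hS hF hTS hTn hyp hc rfl
  have h1 : ExtOK F T (aut1 α) :=
    (h0.comp (ExtOK.conjT hTS ht)).congr (fun x hx => (hv x hx).symm)
  obtain ⟨b, hb, hbT, hbv, hbc⟩ := h1
  obtain ⟨β, hβ, hβv⟩ := exists_mem_autGroup_of_isIso F hb
  refine ⟨β, hβ, fun x => ?_, fun c hc => ?_⟩
  · rw [hβv]
    show b (x : Ω) = _
    rw [hbv _ x.2, aut1_apply]
  · rw [hβv]
    exact hbc _ hc

include hS hF hTS hTn hyp in
/-- `F_T` is invariant in `F`. -/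
theorem tSys_isInvariantIn : (tSys F p T hTS).IsInvariantIn F := by
  have hsc := stronglyClosed_of_hyp_le hS hF hTS hTn hyp
  refine ⟨tSys_isSubsystemOf hTS, hsc, ?_, ?_⟩
  · intro P hPT φ hφ α hα
    have haiso : IsIso F T T (aut1 α) := isIso_aut1 F hTS hα
    have ha'iso : IsIso F T T (aut1 α⁻¹) := isIso_aut1 F hTS (Subgroup.inv_mem _ hα)
    have hP'mem : ∀ y, y ∈ (P.subgroupOf T).map (T.subtype.comp α.toMonoidHom) ↔
        ∃ x ∈ P, aut1 α x = y := by
      intro y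
      constructor
      · rintro ⟨x, hx, rfl⟩
        refine ⟨(x : Ω), hx, ?_⟩
        rw [aut1_apply]; rfl
      · rintro ⟨x, hx, rfl⟩
        refine ⟨⟨x, hPT hx⟩, hx, ?_⟩
        rw [aut1_apply_mem α (hPT hx)]; rfl
    have hPiso : IsIso F P ((P.subgroupOf T).map (T.subtype.comp α.toMonoidHom)) (aut1 α) :=
      haiso.restrict' hPT (fun x hx => (hP'mem _).2 ⟨x, hx, rfl⟩) (fun y hy => (hP'mem y).1 hy)
    obtain ⟨s, hs⟩ := exists_deg hS hF hTS hTn hyp haiso le_rfl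
    have hsP := hs.restrict hPT hPiso
    have hφiso : IsIso (tSys F p T hTS) P φ.range (ext1 φ) := isIso_of_mem _ hφ
    have hφt : TIso F p T P φ.range (ext1 φ) := isIso_tSys_iff.1 hφiso
    have hQT : φ.range ≤ T := hφt.le_right
    obtain ⟨Q', -, hQiso, -⟩ := haiso.restrict hQT
    have hsQ := hs.restrict hQT hQiso
    have hinv : ∀ x ∈ T, aut1 α⁻¹ (aut1 α x) = x := by
      intro x hx
      rw [aut1_apply_mem α hx, aut1_apply]
      simp
    have hP'T : (P.subgroupOf T).map (T.subtype.comp α.toMonoidHom) ≤ T := by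
      intro y hy
      obtain ⟨x, hx, rfl⟩ := (hP'mem y).1 hy
      exact haiso.map_mem (hPT hx)
    have hkiso : IsIso F ((P.subgroupOf T).map (T.subtype.comp α.toMonoidHom)) P (aut1 α⁻¹) := by
      refine ha'iso.restrict' hP'T (fun y hy => ?_) (fun x hx => ?_)
      · obtain ⟨x, hx, rfl⟩ := (hP'mem y).1 hy
        rw [hinv x (hPT hx)]
        exact hx
      · exact ⟨aut1 α x, (hP'mem _).2 ⟨x, hx, rfl⟩, hinv x (hPT hx)⟩
    have hsP' := hsP.symm hTS hTn hkiso (fun x hx => hinv x (hPT hx))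
    have hd := (hsP'.comp hTS hTn (Deg.of_tiso hTS hφt)).comp hTS hTn hsQ
    obtain ⟨P₀, ht⟩ := hd.2.2
    have he : s * (1 * s⁻¹) = 1 := by group
    rw [he] at ht
    have ht' : TIso F p T ((P.subgroupOf T).map (T.subtype.comp α.toMonoidHom)) P₀
        (aut1 α ∘ (ext1 φ ∘ aut1 α⁻¹)) := by
      refine ht.congr (fun x hx => ?_)
      show cf 1⁻¹ (aut1 α (ext1 φ (aut1 α⁻¹ x))) = _
      rw [inv_one, cf_one]
      rfl
    obtain ⟨χ, hχ, hχv, -⟩ := isIso_tSys_iff.2 ht'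
    refine ⟨χ, hχ, fun x hφx hαx => ?_⟩
    rw [hχv]
    show aut1 α (ext1 φ (aut1 α⁻¹ ((α ⟨x, hPT x.2⟩ : T) : Ω))) = _
    have e1 : ((α ⟨x, hPT x.2⟩ : T) : Ω) = aut1 α (x : Ω) := (aut1_apply_mem α (hPT x.2)).symm
    rw [e1, hinv _ (hPT x.2), ext1_apply, aut1_apply_mem α hφx]
  · intro P hPT φ hφ
    obtain ⟨g, hg, P₀, f₀, hc, hv⟩ :=
      exists_conj_chain hS hF hTS hTn hyp (isIso_of_mem F hφ) hPT
    have hgN : g ∈ Subgroup.normalizer (T : Set Ω) := by
      rw [Subgroup.mem_normalizer_iff]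
      intro x
      constructor
      · exact hTn g hg x
      · intro hx
        have := hTn g⁻¹ (S.inv_mem hg) _ hx
        have e : g⁻¹ * (g * x * g⁻¹) * g⁻¹⁻¹ = x := by group
        rwa [e] at this
    have hgiso : IsIso F T T (cf g) := by
      have := isIso_cf F hTS hg
      rwa [cjs_eq_of_mem_normalizer hgN] at this
    obtain ⟨α, hα, hαv⟩ := exists_mem_autGroup_of_isIso F hgiso
    obtain ⟨φ₀, hφ₀, hφ₀v, -⟩ := isIso_tSys_iff.2 (TIso.of_chain hTS hc)
    refine ⟨α, hα, φ₀, hφ₀, fun x hx => ?_⟩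
    have e3 : φ x = g * f₀ x * g⁻¹ := by
      have := hv x x.2
      rwa [ext1_apply] at this
    rw [e3, hαv]
    show _ = cf g (φ₀ x)
    rw [hφ₀v]
    rfl

include hS hF hTS hTn hyp in
/-- **`F_T` is normal in `F`** as soon as it is saturated. -/
theorem tSys_isNormalIn (hsat : (tSys F p T hTS).IsSaturated p) :
    (tSys F p T hTS).IsNormalIn F p :=
  ⟨⟨hsat, hF, tSys_isInvariantIn hS hF hTS hTn hyp⟩, tSys_extension hS hF hTS hTn hyp⟩

end

end Cfsg.Agent.Lib.H25.PP
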