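import Cfsg.Agent.Lib.H25.PPKLemma2

set_option autoImplicit false

/-!
Subsystems of `p`-power index, part 6a (helper25): the subgroups of `T` that are centric relative
to `T` form a family that is closed under conjugation, contains all `F_T`-centric subgroups, and
generates `F_T`.
-/

namespace Cfsg.Agent.Lib.H25.PP

open Cfsg Cfsg.FusionSystem Cfsg.Agent.Lib.H25 Cfsg.Agent.Lib.H26.Nil

variable {Ω : Type*} [Group Ω] {S : Subgroup Ω}

/-- The subgroups `P` of `T` with `C_T(P') ≤ P'` for all `F`-conjugates `P'`. -/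
def TCentric (F : FusionSystem S) (T : Subgroup Ω) : Set (Subgroup Ω) :=
  {P | P ≤ T ∧ ∀ P' : Subgroup Ω, F.IsConj P P' → centralizerIn T P' ≤ P'}

theorem tCentric_of_isConj {F : FusionSystem S} {T P Q : Subgroup Ω} (hP : P ∈ TCentric F T)
    (hQT : Q ≤ T) (hPQ : F.IsConj P Q) : Q ∈ TCentric F T :=
  ⟨hQT, fun Q' hQ' => hP.2 Q' (isConj_trans F hPQ hQ')⟩

section

variable [Finite S] {p : ℕ} [Fact p.Prime] (hS : IsPGroup p S) {F : FusionSystem S}
  (hF : F.IsSaturated p) {T : Subgroup Ω} (hTS : T ≤ S)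
  (hTn : ∀ g ∈ S, ∀ x ∈ T, g * x * g⁻¹ ∈ T) (hyp : F.hyperfocalSubgroup p ≤ T)

include hS hF hTS hTn hyp in
/-- `F`-conjugates of subgroups of `T` lie in `T`. -/
theorem le_T_of_isConj {P Q : Subgroup Ω} (hP : P ≤ T) (hPQ : F.IsConj P Q) : Q ≤ T := by
  obtain ⟨f, hf⟩ := (isConj_iff F).1 hPQ
  have h := IsIso.inf_T hS hF hTS hTn hyp hf
  rw [inf_of_le_left hP] at h
  intro y hy
  obtain ⟨x, hx, rfl⟩ := hf.surjOn hy
  exact (h.map_mem hx).2

include hTS in
theorem isConj_tSys_le {P Q : Subgroup Ω} (h : (tSys F p T hTS).IsConj P Q) :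
    F.IsConj P Q ∧ P ≤ T ∧ Q ≤ T := by
  obtain ⟨f, hf⟩ := (isConj_iff _).1 h
  have ht := isIso_tSys_iff.1 hf
  exact ⟨ht.isIso.isConj, ht.le_left, ht.le_right⟩

include hS hF hTS hTn hyp in
/-- Every `F_T`-centric subgroup is centric relative to `T`. -/
theorem tCentric_of_isCentric_tSys {P : Subgroup Ω} (hP : (tSys F p T hTS).IsCentric P) :
    P ∈ TCentric F T := by
  refine ⟨hP.1, fun P' hPP' => ?_⟩
  obtain ⟨f, hf⟩ := (isConj_iff F).1 hPP'
  obtain ⟨g, hg, P₀, f₀, hc, hv⟩ := exists_conj_chain hS hF hTS hTn hyp hf hP.1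
  have hP₀S : P₀ ≤ S := hc.le_right.trans hTS
  have hP' : P' = cjs g P₀ := by
    have h1 : IsIso F P (cjs g P₀) (cf g ∘ f₀) := hc.isIso.trans (isIso_cf F hP₀S hg)
    exact IsIso.target_eq hf h1 hv
  have hconj : (tSys F p T hTS).IsConj P P₀ :=
    (isIso_tSys_iff.2 (TIso.of_chain hTS hc)).isConj
  have h0 := hP.2 P₀ hconj
  rw [hP']
  intro c hc'
  have hc0 : cf g⁻¹ c ∈ centralizerIn T P₀ := by
    refine ⟨hTn _ (S.inv_mem hg) c hc'.1, ?_⟩
    show cf g⁻¹ c ∈ Subgroup.centralizer (P₀ : Set Ω)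
    rw [Subgroup.mem_centralizer_iff]
    intro x hx
    have hcc : c ∈ Subgroup.centralizer ((cjs g P₀ : Subgroup Ω) : Set Ω) := hc'.2
    have h1 := (Subgroup.mem_centralizer_iff.1 hcc) (cf g x) (cf_mem_cjs hx)
    have h2 : cf g⁻¹ (cf g x * c) = cf g⁻¹ (c * cf g x) := by rw [h1]
    simp only [cf_apply] at h2 ⊢
    have e1 : x * (g⁻¹ * c * g⁻¹⁻¹) = g⁻¹ * (g * x * g⁻¹ * c) * g⁻¹⁻¹ := by group
    have e2 : g⁻¹ * c * g⁻¹⁻¹ * x = g⁻¹ * (c * (g * x * g⁻¹)) * g⁻¹⁻¹ := by group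
    rw [e1, e2, h2]
  have h3 := h0 hc0
  have : c = cf g (cf g⁻¹ c) := (cf_cf_inv g c).symm
  rw [this]
  exact cf_mem_cjs h3

include hS hF in
/-- If `U₁` is fully normalized and `C_T(U₁) ≤ U₁` then `C_T(U') ≤ U'` for all conjugates. -/
theorem centralizerIn_le_of_fn (hsc : F.StronglyClosed T) {U₁ U' : Subgroup Ω}
    (hfn : F.IsFullyNormalized U₁) (hC : centralizerIn T U₁ ≤ U₁) (hconj : F.IsConj U' U₁) :
    centralizerIn T U' ≤ U' := by
  obtain ⟨hfc, hfa⟩ := fullyNormalized_props hS hF hfn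
  have hrec : F.IsReceptive U₁ := isReceptive_of_fullyCentralized hS hF hfc
  obtain ⟨f₀, hf₀⟩ := (isConj_iff F).1 hconj
  have hU'S : U' ≤ S := hf₀.le_left
  obtain ⟨f, N', hf, hff₀⟩ := IsReceptive_extend hrec hf₀ (U' ⊔ centralizerIn S U') (by
    intro g hg
    obtain ⟨φ, hφ, hφf, hr⟩ := hf₀
    have hle : U' ⊔ centralizerIn S U' ≤ extender S U' φ :=
      sup_le (le_extender F hφ) (centralizerIn_le_extender S U' φ)
    exact (mem_extender_iff' hφf g).1 (hle hg))
  have hUN : U' ≤ U' ⊔ centralizerIn S U' := le_sup_left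
  have hCN : centralizerIn S U' ≤ U' ⊔ centralizerIn S U' := le_sup_right
  intro c hc
  have hcS : c ∈ centralizerIn S U' := ⟨hTS' hsc hc.1, hc.2⟩
  have hcN := hCN hcS
  -- `f c ∈ C_T(U₁)`
  have hfc1 : f c ∈ centralizerIn T U₁ := by
    constructor
    · -- strong closure
      obtain ⟨N'', -, hN'', -⟩ := hf.restrict
        (show Subgroup.zpowers c ≤ U' ⊔ centralizerIn S U' by
          rw [Subgroup.zpowers_le]; exact hcN)
      obtain ⟨φ, hφ, hφf, -⟩ := hN''
      have hz : Subgroup.zpowers c ≤ T := by rw [Subgroup.zpowers_le]; exact hc.1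
      have := hsc.2 _ hz φ hφ ⟨c, Subgroup.mem_zpowers c⟩
      rwa [hφf] at this
    · show f c ∈ Subgroup.centralizer (U₁ : Set Ω)
      rw [Subgroup.mem_centralizer_iff]
      intro y hy
      obtain ⟨x, hx, rfl⟩ := hf₀.surjOn hy
      rw [← hff₀ x hx (hUN hx), ← hf.map_mul (hUN hx) hcN, ← hf.map_mul hcN (hUN hx)]
      congr 1
      exact hc.2 x hx
  obtain ⟨x, hx, hxc⟩ := hf₀.surjOn (hC hfc1)
  rw [← hff₀ x hx (hUN hx)] at hxc
  have := hf.injOn (hUN hx) hcN hxc
  rw [← this]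
  exact hx
where
  hTS' {F : FusionSystem S} {T : Subgroup Ω} (hsc : F.StronglyClosed T) {c : Ω} (hc : c ∈ T) :
      c ∈ S := hsc.1 hc

/-- Chains all of whose steps are maps of `E'` are maps of `E'`. -/
theorem PChain.isIso_of_steps {F : FusionSystem S} {p : ℕ} {T : Subgroup Ω}
    {E' : FusionSystem T} [Finite S] {P Q : Subgroup Ω} {f : Ω → Ω} (h : PChain F p T P Q f) :
    (∀ U : Subgroup Ω, U ≤ T → Nat.card P ≤ Nat.card U → ∀ b, QAut F p U b → IsIso E' U U b) →
      IsIso E' P Q f := by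
  induction h with
  | @base U P Q b f hU hb hP hf hfb =>
    intro hsteps
    haveI : Finite U := finite_of_le S hb.1.le_left
    have h1 := hsteps U hU (Subgroup.card_le_of_le hP) b hb
    refine (h1.restrict' hP (fun x hx => ?_) (fun y hy => ?_)).congr (fun x hx => (hfb x hx).symm)
    · rw [← hfb x hx]
      exact hf.map_mem hx
    · obtain ⟨x, hx, rfl⟩ := hf.surjOn hy
      exact ⟨x, hx, (hfb x hx).symm⟩
  | @trans P Q R f g h c1 _ hh ih1 ih2 =>
    intro hsteps
    have h1 := ih1 hsteps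
    have hcard : Nat.card P = Nat.card Q := c1.isIso.card_eq
    have h2 := ih2 (fun U hU hc b hb => hsteps U hU (by rw [hcard]; exact hc) b hb)
    exact (h1.trans h2).congr (fun x hx => (hh x hx).symm)

include hS hF hTS hTn hyp in
/-- **Generation**: a fusion system over `T` containing the maps of `F_T` between subgroups
centric relative to `T` contains all automorphisms of order prime to `p` of subgroups of `T`. -/
theorem qAut_isIso_of_tCentric (E' : FusionSystem T)
    (hE' : ∀ P ∈ TCentric F T, (tSys F p T hTS).Hom P ⊆ E'.Hom P) :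
    ∀ U : Subgroup Ω, U ≤ T → ∀ b, QAut F p U b → IsIso E' U U b := by
  haveI hfinT : Finite T := finite_of_le S hTS
  have hTp : IsPGroup p T := hS.to_le hTS
  have hsc := stronglyClosed_of_hyp_le hS hF hTS hTn hyp
  have key : ∀ n : ℕ, ∀ U : Subgroup Ω, U ≤ T → Nat.card T - Nat.card U = n →
      ∀ b, QAut F p U b → IsIso E' U U b := by
    intro n
    induction n using Nat.strong_induction_on with
    | _ n ih =>
    intro U hUT hn b hb
    have hUS : U ≤ S := hUT.trans hTS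
    -- induction hypothesis in usable form
    have IH : ∀ V : Subgroup Ω, V ≤ T → Nat.card U < Nat.card V → ∀ c, QAut F p V c →
        IsIso E' V V c := by
      intro V hVT hcard c hc
      have hVle : Nat.card V ≤ Nat.card T := Subgroup.card_le_of_le hVT
      exact ih (Nat.card T - Nat.card V) (by omega) V hVT rfl c hc
    by_cases hUH : U ∈ TCentric F T
    · -- `b` is a map of `F_T` on a subgroup in the family
      have hc : PChain F p T U U b := PChain.base hUT hb le_rfl hb.1 (fun _ _ => rfl)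
      have hiso : IsIso (tSys F p T hTS) U U b := isIso_tSys_iff.2 (TIso.of_chain hTS hc)
      obtain ⟨φ, hφ, hφb, hr⟩ := hiso
      exact ⟨φ, hE' U hUH hφ, hφb, hr⟩
    -- `U` is not centric relative to `T`
    have hUne : U ≠ T := by
      rintro rfl
      apply hUH
      refine ⟨le_rfl, fun P' hP' => ?_⟩
      have hP'T : P' ≤ U := le_T_of_isConj hS hF hTS hTn hyp le_rfl hP'
      have hP'eq : P' = U := by
        obtain ⟨f, hf⟩ := (isConj_iff F).1 hP'
        apply Subgroup.eq_of_le_of_card_ge hP'T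
        rw [hf.card_eq]
      rw [hP'eq]
      exact inf_le_left
    -- a fully normalized conjugate reached by a chain defined on `N_T(U)`
    obtain ⟨U', hUU', hU'fn⟩ := exists_fullyNormalized_conj F hUS
    obtain ⟨hU'fc, hU'fa⟩ := fullyNormalized_props hS hF hU'fn
    have hU'rec : F.IsReceptive U' := isReceptive_of_fullyCentralized hS hF hU'fc
    obtain ⟨ψ, N', hψ, -, hψU⟩ := exists_normalizer_map hS hU'fa hU'rec hUU'
    have hle : normalizerIn T U ≤ normalizerIn S U := fun x hx => ⟨hTS hx.1, hx.2⟩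
    obtain ⟨D, -, hD, -⟩ := hψ.restrict hle
    obtain ⟨g, hg, D₀, ψ₀, hc, hv⟩ :=
      exists_conj_chain hS hF hTS hTn hyp hD (inf_le_left : normalizerIn T U ≤ T)
    have hUNT : U ≤ normalizerIn T U := le_normalizerIn hUT
    -- `ψ₀` is a map of `E'`
    obtain ⟨n₀, hn₀N, hn₀U⟩ := exists_mem_normalizerIn_not_mem hTp hUT hUne
    have hlt : U < normalizerIn T U := lt_of_le_of_ne hUNT (fun h => hn₀U (h ▸ hn₀N))
    have hcardN : Nat.card U < Nat.card (normalizerIn T U) :=
      card_lt_of_lt' (inf_le_left.trans hTS) hlt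
    have hψ₀E : IsIso E' (normalizerIn T U) D₀ ψ₀ :=
      hc.isIso_of_steps (fun V hVT hcard c hc' => IH V hVT (lt_of_lt_of_le hcardN hcard) c hc')
    obtain ⟨U₁, -, hU₁F, -⟩ := hc.isIso.restrict hUNT
    have hU₁E : IsIso E' U U₁ ψ₀ := by
      refine hψ₀E.restrict' hUNT (fun x hx => hU₁F.map_mem hx) (fun y hy => hU₁F.surjOn hy)
    have hU₁T : U₁ ≤ T := fun y hy => by
      obtain ⟨x, hx, rfl⟩ := hU₁F.surjOn hy
      exact hc.le_right (hc.isIso.map_mem (hUNT hx))
    have hU₁S : U₁ ≤ S := hU₁T.trans hTS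
    -- `U₁` is fully normalized: it is the conjugate of `U'` by `g⁻¹`
    have hU'eq : U' = cjs g U₁ := by
      have h1 : IsIso F U (cjs g U₁) (cf g ∘ ψ₀) := hU₁F.trans (isIso_cf F hU₁S hg)
      exact IsIso.target_eq hψU h1 (fun x hx => hv x (hUNT hx))
    have hU₁fn : F.IsFullyNormalized U₁ := by
      have := isFullyNormalized_cjs hU'fn (S.inv_mem hg)
      rwa [hU'eq, cjs_inv_cjs] at this
    obtain ⟨hU₁fc, hU₁fa⟩ := fullyNormalized_props hS hF hU₁fn
    have hU₁rec : F.IsReceptive U₁ := isReceptive_of_fullyCentralized hS hF hU₁fc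
    -- the transported automorphism of `U₁`
    obtain ⟨k, hk, hk1, hk2⟩ := hU₁F.symm
    have hb₁ : QAut F p U₁ (ψ₀ ∘ b ∘ k) := hb.transport hU₁F hk hk1
    -- it suffices to treat `U₁`
    suffices hsuff : IsIso E' U₁ U₁ (ψ₀ ∘ b ∘ k) by
      obtain ⟨k', hk', hk'1, hk'2⟩ := hU₁E.symm
      refine ((hU₁E.trans hsuff).trans hk').congr (fun x hx => ?_)
      show k' (ψ₀ (b (k (ψ₀ x)))) = b x
      rw [hk1 x hx, hk'1 _ (hb.1.map_mem hx)]
    -- `C_T(U₁) ≰ U₁`
    have hnotle : ¬ centralizerIn T U₁ ≤ U₁ := by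
      intro hC
      apply hUH
      refine ⟨hUT, fun P' hP' => ?_⟩
      have hconj : F.IsConj P' U₁ :=
        isConj_trans F (isConj_symm F hP') hU₁F.isConj
      exact centralizerIn_le_of_fn hS hF hsc hU₁fn hC hconj
    -- extend to `U₁ C_S(U₁)`, restrict to `U₁ C_T(U₁)`
    obtain ⟨φ₁, hφ₁, hφ₁f, hr₁⟩ := hb₁.1
    obtain ⟨e, N₁, he, hee⟩ := IsReceptive_extend hU₁rec hb₁.1 (U₁ ⊔ centralizerIn S U₁) (by
      intro x hx
      have hle' : U₁ ⊔ centralizerIn S U₁ ≤ extender S U₁ φ₁ :=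
        sup_le (le_extender F hφ₁) (centralizerIn_le_extender S U₁ φ₁)
      exact (mem_extender_iff' hφ₁f x).1 (hle' hx))
    have hsupT : U₁ ⊔ centralizerIn T U₁ ≤ T := sup_le hU₁T inf_le_left
    have hsuple : U₁ ⊔ centralizerIn T U₁ ≤ U₁ ⊔ centralizerIn S U₁ :=
      sup_le_sup_left (fun x hx => ⟨hTS hx.1, hx.2⟩) U₁
    have hU₁sup : U₁ ≤ U₁ ⊔ centralizerIn T U₁ := le_sup_left
    have hCsup : centralizerIn T U₁ ≤ U₁ ⊔ centralizerIn T U₁ := le_sup_right
    obtain ⟨M', -, hM', -⟩ := he.restrict hsuple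
    have heT := IsIso.inf_T hS hF hTS hTn hyp hM'
    rw [inf_of_le_left hsupT] at heT
    -- `e` maps `U₁ C_T(U₁)` into itself
    have hmaps : U₁ ⊔ centralizerIn T U₁ ≤ hM'.pre (U₁ ⊔ centralizerIn T U₁) := by
      apply sup_le
      · intro x hx
        refine ⟨hU₁sup hx, hU₁sup ?_⟩
        rw [hee x hx (hsuple (hU₁sup hx))]
        exact hb₁.1.map_mem hx
      · intro c hc'
        refine ⟨hCsup hc', hCsup ⟨(heT.map_mem (hCsup hc')).2, ?_⟩⟩
        show e c ∈ Subgroup.centralizer (U₁ : Set Ω)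
        rw [Subgroup.mem_centralizer_iff]
        intro y hy
        obtain ⟨x, hx, rfl⟩ := hb₁.1.surjOn hy
        have hxN := hsuple (hU₁sup hx)
        have hcN := hsuple (hCsup hc')
        rw [← hee x hx hxN, ← he.map_mul hxN hcN, ← he.map_mul hcN hxN]
        congr 1
        exact hc'.2 x hx
    have he' : IsIso F (U₁ ⊔ centralizerIn T U₁) (U₁ ⊔ centralizerIn T U₁) e := by
      haveI : Finite ↥(U₁ ⊔ centralizerIn T U₁) := finite_of_le S (hsupT.trans hTS)
      have hM'le : M' ≤ U₁ ⊔ centralizerIn T U₁ := by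
        intro y hy
        obtain ⟨x, hx, rfl⟩ := hM'.surjOn hy
        exact (hmaps hx).2
      have hM'eq : M' = U₁ ⊔ centralizerIn T U₁ := by
        apply Subgroup.eq_of_le_of_card_ge hM'le
        rw [hM'.card_eq]
      rwa [hM'eq] at hM'
    obtain ⟨d, hd, hdb⟩ := exists_qAut_extending he' hb₁
      (fun x hx => hee x hx (hsuple (hU₁sup hx)))
    -- the larger subgroup
    have hcardU₁ : Nat.card U = Nat.card U₁ := hU₁F.card_eq
    have hltsup : U₁ < U₁ ⊔ centralizerIn T U₁ := by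
      refine lt_of_le_of_ne hU₁sup (fun h => hnotle ?_)
      intro c hc'
      have := hCsup hc'
      rwa [← h] at this
    have hcardsup : Nat.card U < Nat.card ↥(U₁ ⊔ centralizerIn T U₁) := by
      rw [hcardU₁]
      exact card_lt_of_lt' (hsupT.trans hTS) hltsup
    have hdE := IH _ hsupT hcardsup d hd
    refine (hdE.restrict' hU₁sup (fun x hx => ?_) (fun y hy => ?_)).congr hdb
    · rw [hdb x hx]
      exact hb₁.1.map_mem hx
    · obtain ⟨x, hx, rfl⟩ := hb₁.1.surjOn hy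
      exact ⟨x, hx, hdb x hx⟩
  intro U hUT b hb
  exact key _ U hUT rfl b hb

end

end Cfsg.Agent.Lib.H25.PP
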