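import Cfsg.Agent.Lib.H25.PPSat1
import Cfsg.Agent.Lib.H25.SatCritMain
import Cfsg.Agent.Lib.H26.GroupFusion

set_option autoImplicit false

/-!
Subsystems of `p`-power index, part 6b (helper25): for `T` of index `p` in `S` (in the form:
`S = ⟨z⟩ T` for every `z ∈ S ∖ T`) containing the hyperfocal subgroup, `F_T` is saturated.
-/

namespace Cfsg.Agent.Lib.H25.PP

open Cfsg Cfsg.FusionSystem Cfsg.Agent.Lib.H25 Cfsg.Agent.Lib.H26.Nil

variable {Ω : Type*} [Group Ω] {S : Subgroup Ω}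

theorem extender_mono {T : Subgroup Ω} (hTS : T ≤ S) (P : Subgroup Ω) (φ : P →* Ω) :
    extender T P φ ≤ extender S P φ := by
  intro g hg
  rw [mem_extender_iff] at hg ⊢
  obtain ⟨h1, h2, h, hh, h3⟩ := hg
  exact ⟨hTS h1, h2, h, hTS hh, h3⟩

section

variable {F : FusionSystem S} {p : ℕ} [Fact p.Prime] {T : Subgroup Ω}

theorem mem_autGroup_tSys_iff (hTS : T ≤ S) {Q : Subgroup Ω} (hQT : Q ≤ T) (α : MulAut Q) :
    α ∈ (tSys F p T hTS).autGroup Q ↔ TIso F p T Q Q (aut1 α) := by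
  constructor
  · intro hα
    exact isIso_tSys_iff.1 (isIso_aut1 _ hQT hα)
  · intro h
    obtain ⟨β, hβ, hβv⟩ := exists_mem_autGroup_of_isIso _ (isIso_tSys_iff.2 h)
    have : β = α := by
      ext x
      rw [hβv, aut1_apply]
    rw [← this]
    exact hβ

theorem autGroup_tSys_le (hTS : T ≤ S) {Q : Subgroup Ω} (hQT : Q ≤ T) :
    (tSys F p T hTS).autGroup Q ≤ F.autGroup Q :=
  Cfsg.Agent.Lib.H26.autGroup_le_of_isSubsystemOf (tSys_isSubsystemOf hTS) hQT (hQT.trans hTS)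

/-- Receptivity in `F_T` from receptivity in `F` and a lifting property. -/
theorem isReceptive_tSys_of (hTS : T ≤ S) {Q : Subgroup Ω} (hQT : Q ≤ T) (hrec : F.IsReceptive Q)
    (hlift : ∀ (N N' P : Subgroup Ω) (f : Ω → Ω), N ≤ T → IsIso F N N' f → P ≤ N →
      TIso F p T P Q f → ∃ (f' : Ω → Ω) (N'' : Subgroup Ω), TIso F p T N N'' f' ∧
        ∀ x ∈ P, f' x = f x) : (tSys F p T hTS).IsReceptive Q := by
  refine ⟨hQT, fun P φ hφ hr => ?_⟩
  have hφF : φ ∈ F.Hom P := tSys_isSubsystemOf hTS P hφ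
  obtain ⟨ψF, hψF, hψFφ⟩ := hrec.2 P φ hφF hr
  have hNle : extender T P φ ≤ extender S P φ := extender_mono hTS P φ
  have hNT : extender T P φ ≤ T := fun g hg => ((mem_extender_iff T P φ g).1 hg).1
  have hPN : P ≤ extender T P φ := le_extender (tSys F p T hTS) hφ
  obtain ⟨N', -, hN', -⟩ := (isIso_of_mem F hψF).restrict hNle
  have hφiso : IsIso (tSys F p T hTS) P Q (ext1 φ) := by
    have := isIso_of_mem (tSys F p T hTS) hφ
    rwa [hr] at this
  have htP : TIso F p T P Q (ext1 ψF) := by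
    refine (isIso_tSys_iff.1 hφiso).congr (fun x hx => ?_)
    rw [ext1_apply_mem φ hx, ext1_apply_mem ψF (hNle (hPN hx)), hψFφ x hx (hNle (hPN hx))]
  obtain ⟨f', N'', hf', hf'v⟩ := hlift _ N' P (ext1 ψF) hNT hN' hPN htP
  obtain ⟨ψ, hψ, hψv, -⟩ := isIso_tSys_iff.2 hf'
  refine ⟨ψ, hψ, fun x hP hN => ?_⟩
  rw [hψv ⟨x, hN⟩, hf'v x hP, ext1_apply_mem ψF (hNle hN), hψFφ x hP (hNle hN)]

end

section

variable [Finite S] {p : ℕ} [Fact p.Prime] (hS : IsPGroup p S) {F : FusionSystem S}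
  (hF : F.IsSaturated p) {T : Subgroup Ω} (hTS : T ≤ S)
  (hTn : ∀ g ∈ S, ∀ x ∈ T, g * x * g⁻¹ ∈ T) (hyp : F.hyperfocalSubgroup p ≤ T)

include hS hF hTS hTn hyp in
/-- `Aut_F(Q)` normalizes `Aut_{F_T}(Q)`. -/
theorem autGroup_le_normalizer_tSys {Q : Subgroup Ω} (hQT : Q ≤ T) :
    F.autGroup Q ≤ Subgroup.normalizer (((tSys F p T hTS).autGroup Q : Subgroup (MulAut Q)) :
      Set (MulAut Q)) := by
  have hQS : Q ≤ S := hQT.trans hTS
  have key : ∀ β ∈ F.autGroup Q, ∀ α ∈ (tSys F p T hTS).autGroup Q,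
      β * α * β⁻¹ ∈ (tSys F p T hTS).autGroup Q := by
    intro β hβ α hα
    rw [mem_autGroup_tSys_iff hTS hQT] at hα ⊢
    have hβiso := isIso_aut1 F hQS hβ
    have hβ'iso := isIso_aut1 F hQS (Subgroup.inv_mem _ hβ)
    obtain ⟨s, hs⟩ := exists_deg hS hF hTS hTn hyp hβiso hQT
    have hinv : ∀ x ∈ Q, aut1 β⁻¹ (aut1 β x) = x := by
      intro x hx
      rw [aut1_apply_mem β hx, aut1_apply]
      simp
    have hs' := hs.symm hTS hTn hβ'iso hinv
    have hd := (hs'.comp hTS hTn (Deg.of_tiso hTS hα)).comp hTS hTn hs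
    obtain ⟨P₀, ht⟩ := hd.2.2
    have he : s * (1 * s⁻¹) = 1 := by group
    rw [he] at ht
    have ht' : TIso F p T Q P₀ (aut1 (β * α * β⁻¹)) := by
      refine ht.congr (fun x hx => ?_)
      show cf 1⁻¹ (aut1 β (aut1 α (aut1 β⁻¹ x))) = _
      rw [inv_one, cf_one, aut1_apply_mem β⁻¹ hx, aut1_apply, aut1_apply, aut1_apply_mem _ hx]
      rfl
    have hP₀ : P₀ = Q :=
      IsIso.target_eq ht'.isIso
        (isIso_aut1 F hQS (Subgroup.mul_mem _ (Subgroup.mul_mem _ hβ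
          (autGroup_tSys_le hTS hQT ((mem_autGroup_tSys_iff hTS hQT α).2 hα)))
          (Subgroup.inv_mem _ hβ))) (fun _ _ => rfl)
    rwa [hP₀] at ht'
  intro β hβ
  rw [Subgroup.mem_normalizer_iff]
  intro α
  constructor
  · exact key β hβ α
  · intro h
    have := key β⁻¹ (Subgroup.inv_mem _ hβ) _ h
    have e : β⁻¹ * (β * α * β⁻¹) * β⁻¹⁻¹ = α := by group
    rwa [e] at this

include hS hF hTS hTn hyp in
/-- Saturation of `F_T` at an `F`-centric fully normalized subgroup of `T`. -/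
theorem sat_centric {Q : Subgroup Ω} (hQT : Q ≤ T) (hQc : F.IsCentric Q)
    (hfn : F.IsFullyNormalized Q) :
    (tSys F p T hTS).IsFullyAutomized p Q ∧ (tSys F p T hTS).IsReceptive Q := by
  have hQS : Q ≤ S := hQT.trans hTS
  haveI hfinQ : Finite Q := finite_of_le S hQS
  obtain ⟨hfc, hfa⟩ := fullyNormalized_props hS hF hfn
  have hrec : F.IsReceptive Q := isReceptive_of_fullyCentralized hS hF hfc
  have hKL := KL hS hF hTS hTn hyp
  constructor
  · -- fully automized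
    refine ⟨hQT, ?_⟩
    have h1 : Cfsg.Agent.Lib.H26.IsSylowIn p (autInducedBy S Q) (F.autGroup Q) := hfa.2
    have h2 := h1.of_normal (autGroup_tSys_le hTS hQT)
      (autGroup_le_normalizer_tSys hS hF hTS hTn hyp hQT)
    obtain ⟨R, hR⟩ := h2
    refine ⟨R, ?_⟩
    rw [hR]
    ext α
    rw [Subgroup.mem_subgroupOf, Subgroup.mem_subgroupOf, mem_autInducedBy_iff,
      mem_autInducedBy_iff]
    constructor
    · rintro ⟨s, hs, hsv⟩
      refine ⟨s, ?_, hsv⟩
      -- `c_s` on `Q` is a map of `F_T`, so `s ∈ T`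
      have hα : TIso F p T Q Q (aut1 (α : MulAut Q)) :=
        (mem_autGroup_tSys_iff hTS hQT _).1 α.2
      have hα' : TIso F p T Q Q (cf s) := hα.congr (fun x hx => by
        rw [aut1_apply_mem _ hx, hsv ⟨x, hx⟩]
        rfl)
      have hQeq : Q = cjs s Q := eq_cjs_of_isIso hs hα'.isIso
      have hα'' : TIso F p T Q (cjs s Q) (cf s) := by rw [← hQeq]; exact hα'
      exact hKL Q hQT hQc s hs hα''
    · rintro ⟨s, hs, hsv⟩
      exact ⟨s, hTS hs, hsv⟩
  · -- receptive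
    refine isReceptive_tSys_of hTS hQT hrec (fun N N' P f hNT hf hPN htP => ?_)
    obtain ⟨s, hsS, -, N₀, hte⟩ := exists_deg hS hF hTS hTn hyp hf hNT
    -- restrict the `F_T`-part to `P`
    obtain ⟨P₀, -, hP₀, -⟩ := hte.isIso.restrict hPN
    have hteP : TIso F p T P P₀ (cf s⁻¹ ∘ f) := hte.restrict hPN hP₀
    obtain ⟨k, hk, hk1, hk2⟩ := hP₀.symm
    have htk : TIso F p T P₀ P k := hteP.symm hTS hk hk1
    have hcs : TIso F p T P₀ Q (cf s) := by
      refine (htk.trans hTS htP).congr (fun y hy => ?_)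
      obtain ⟨x, hx, rfl⟩ := hP₀.surjOn hy
      show f (k (cf s⁻¹ (f x))) = cf s (cf s⁻¹ (f x))
      have e1 : k (cf s⁻¹ (f x)) = x := hk1 x hx
      rw [e1, cf_cf_inv]
    have hQeq : Q = cjs s P₀ := eq_cjs_of_isIso hsS hcs.isIso
    rw [hQeq] at hcs
    have hP₀T : P₀ ≤ T := hteP.le_right
    have hP₀c : F.IsCentric P₀ := by
      have : F.IsConj Q P₀ := by
        rw [hQeq]
        exact isConj_symm F (isIso_cf F (hP₀T.trans hTS) hsS).isConj
      exact ⟨hP₀T.trans hTS, fun Q' hQ' => hQc.2 Q' (isConj_trans F this hQ')⟩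
    have hsT : s ∈ T := hKL P₀ hP₀T hP₀c s hsS hcs
    have hN₀T : N₀ ≤ T := hte.le_right
    refine ⟨f, cjs s N₀, ?_, fun _ _ => rfl⟩
    refine (hte.trans hTS (TIso.conjT hTS hN₀T hsT)).congr (fun x _ => ?_)
    show cf s (cf s⁻¹ (f x)) = f x
    rw [cf_cf_inv]

include hS hF hTS hTn hyp in
/-- Saturation of `F_T` at a fully normalized subgroup of `T`, centric relative to `T` but not
`F`-centric, when `S = ⟨z⟩ T` for all `z ∉ T`. -/
theorem sat_degenerate (hmax : ∀ z ∈ S, z ∉ T → ∀ s ∈ S, ∃ i : ℕ, z ^ i * s ∈ T)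
    {Q : Subgroup Ω} (hQH : Q ∈ TCentric F T) (hfn : F.IsFullyNormalized Q) {z : Ω}
    (hz : z ∈ centralizerIn S Q) (hzQ : z ∉ Q) :
    (tSys F p T hTS).IsFullyAutomized p Q ∧ (tSys F p T hTS).IsReceptive Q := by
  have hQT : Q ≤ T := hQH.1
  have hQS : Q ≤ S := hQT.trans hTS
  haveI hfinQ : Finite Q := finite_of_le S hQS
  obtain ⟨hfc, hfa⟩ := fullyNormalized_props hS hF hfn
  have hrec : F.IsReceptive Q := isReceptive_of_fullyCentralized hS hF hfc
  have hzT : z ∉ T := fun h => hzQ (hQH.2 Q (isConj_refl F hQS) ⟨h, hz.2⟩)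
  -- powers of `z` centralize `Q`
  have hzpow : ∀ (i : ℕ), ∀ x ∈ Q, cf (z ^ i) x = x := by
    intro i x hx
    have hzc : z ^ i ∈ Subgroup.centralizer (Q : Set Ω) := Subgroup.pow_mem _ hz.2 i
    have := (Subgroup.mem_centralizer_iff.1 hzc) x hx
    rw [cf_apply, ← this]
    group
  -- every isomorphism of `F` onto `Q` with source in `T` is a map of `F_T`, up to `⟨z⟩`
  have hlift : ∀ (N N' : Subgroup Ω) (f : Ω → Ω), N ≤ T → IsIso F N N' f →
      ∃ (i : ℕ) (N'' : Subgroup Ω), TIso F p T N N'' (cf (z ^ i) ∘ f) := by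
    intro N N' f hNT hf
    obtain ⟨s, hsS, -, N₀, hte⟩ := exists_deg hS hF hTS hTn hyp hf hNT
    obtain ⟨i, hi⟩ := hmax z hz.1 hzT s hsS
    refine ⟨i, cjs (z ^ i * s) N₀, ?_⟩
    refine (hte.trans hTS (TIso.conjT hTS hte.le_right hi)).congr (fun x _ => ?_)
    show cf (z ^ i * s) (cf s⁻¹ (f x)) = cf (z ^ i) (f x)
    rw [cf_mul, cf_cf_inv]
  have hAut : ∀ f : Ω → Ω, IsIso F Q Q f → TIso F p T Q Q f := by
    intro f hf
    obtain ⟨i, N'', ht⟩ := hlift Q Q f hQT hf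
    have ht' : TIso F p T Q N'' f := ht.congr (fun x hx => hzpow i _ (hf.map_mem hx))
    have : N'' = Q := IsIso.target_eq ht'.isIso hf (fun _ _ => rfl)
    rwa [this] at ht'
  constructor
  · -- fully automized
    refine ⟨hQT, ?_⟩
    have hEq : (tSys F p T hTS).autGroup Q = F.autGroup Q := by
      apply le_antisymm (autGroup_tSys_le hTS hQT)
      intro α hα
      rw [mem_autGroup_tSys_iff hTS hQT]
      exact hAut _ (isIso_aut1 F hQS hα)
    have hTeq : autInducedBy T Q = autInducedBy S Q := by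
      ext α
      rw [mem_autInducedBy_iff, mem_autInducedBy_iff]
      constructor
      · rintro ⟨s, hs, hsv⟩
        exact ⟨s, hTS hs, hsv⟩
      · rintro ⟨s, hs, hsv⟩
        obtain ⟨i, hi⟩ := hmax z hz.1 hzT s hs
        refine ⟨z ^ i * s, hi, fun x => ?_⟩
        rw [hsv x]
        have h1 : s * (x : Ω) * s⁻¹ ∈ Q := by rw [← hsv x]; exact (α x).2
        have h2 := hzpow i _ h1
        rw [cf_apply] at h2
        rw [← h2]
        group
    rw [hEq, hTeq]
    exact hfa.2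
  · -- receptive
    refine isReceptive_tSys_of hTS hQT hrec (fun N N' P f hNT hf hPN htP => ?_)
    obtain ⟨i, N'', ht⟩ := hlift N N' f hNT hf
    exact ⟨_, N'', ht, fun x hx => hzpow i _ (htP.isIso.map_mem hx)⟩

include hS hF hTS hTn hyp in
/-- **`F_T` is saturated** when `T ⊴ S` contains the hyperfocal subgroup and `S = ⟨z⟩ T` for all
`z ∈ S ∖ T` (in particular when `T` has index `p` in `S`). -/
theorem tSys_isSaturated_of_max (hmax : ∀ z ∈ S, z ∉ T → ∀ s ∈ S, ∃ i : ℕ, z ^ i * s ∈ T) :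
    (tSys F p T hTS).IsSaturated p := by
  haveI hfinT : Finite T := finite_of_le S hTS
  have hTp : IsPGroup p T := hS.to_le hTS
  refine saturated_of_generated p hTp (tSys F p T hTS) (TCentric F T) ?_ ?_ ?_ ?_
  · -- closed under conjugacy
    intro P hP Q hPQ
    obtain ⟨hPQF, -, hQT⟩ := isConj_tSys_le hTS hPQ
    exact tCentric_of_isConj hP hQT hPQF
  · -- saturation on the family
    intro P hP
    have hPT : P ≤ T := hP.1
    have hPS : P ≤ S := hPT.trans hTS
    obtain ⟨P', hPP', hP'fn⟩ := exists_fullyNormalized_conj F hPS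
    obtain ⟨χ, hχ⟩ := (isConj_iff F).1 hPP'
    obtain ⟨g, hg, Q, χ₀, hc, hv⟩ := exists_conj_chain hS hF hTS hTn hyp hχ hPT
    have hQT : Q ≤ T := hc.le_right
    have hQS : Q ≤ S := hQT.trans hTS
    have hP'eq : P' = cjs g Q := by
      have h1 : IsIso F P (cjs g Q) (cf g ∘ χ₀) := hc.isIso.trans (isIso_cf F hQS hg)
      exact IsIso.target_eq hχ h1 hv
    have hQfn : F.IsFullyNormalized Q := by
      have := isFullyNormalized_cjs hP'fn (S.inv_mem hg)
      rwa [hP'eq, cjs_inv_cjs] at this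
    have hconjE : (tSys F p T hTS).IsConj P Q :=
      (isIso_tSys_iff.2 (TIso.of_chain hTS hc)).isConj
    have hQH : Q ∈ TCentric F T := tCentric_of_isConj hP hQT hc.isIso.isConj
    refine ⟨Q, hconjE, ?_⟩
    by_cases hC : centralizerIn S Q ≤ Q
    · have hQc : F.IsCentric Q :=
        isCentric_of_fullyCentralized (fullyNormalized_props hS hF hQfn).1 hC
      exact sat_centric hS hF hTS hTn hyp hQT hQc hQfn
    · obtain ⟨z, hz, hzQ⟩ := SetLike.not_le_iff_exists.1 hC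
      exact sat_degenerate hS hF hTS hTn hyp hmax hQH hQfn hz hzQ
  · -- generation
    intro E' hE'
    have hq := qAut_isIso_of_tCentric hS hF hTS hTn hyp E' hE'
    intro P φ hφ
    have h1 : IsIso (tSys F p T hTS) P φ.range (ext1 φ) := isIso_of_mem _ hφ
    obtain ⟨hfiso, t, ht, P₀, f₀, hc, hv⟩ := isIso_tSys_iff.1 h1
    have hc' : IsIso E' P P₀ f₀ :=
      hc.isIso_of_steps (fun U hU _ b hb => hq U hU b hb)
    have hP₀T : P₀ ≤ T := hc.le_right
    have hconj : IsIso E' P₀ (cjs t P₀) (cf t) := isIso_cf E' hP₀T ht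
    have h2 : IsIso E' P (cjs t P₀) (ext1 φ) :=
      (hc'.trans hconj).congr (fun x hx => (hv x hx).symm)
    exact mem_hom_of_isIso E' h2 (fun x => (ext1_apply φ x).symm)
  · -- the centric subgroups are in the family
    intro P hPc hPH
    exact absurd (tCentric_of_isCentric_tSys hS hF hTS hTn hyp hPc) hPH

end

end Cfsg.Agent.Lib.H25.PP
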