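import Mathlib
import Cfsg.Agent.Lib.H26.PPearlDefs

/-!
# S5238 piece GEN (helper25): every subgroup is generated by `p` elements.
-/

set_option autoImplicit false

namespace Cfsg.Agent.Lib.H25.PPearl

open Cfsg.Agent.Lib.H22.Pearl Cfsg.Agent.Lib.H26.PPearl

variable {p : ℕ} [Fact p.Prime] {G : Type*} [Group G] [Finite G] {n : ℕ}

/-- A subgroup of a group of order `p²` that is not everything is cyclic. -/
theorem gen_isCyclic_of_ne_top {Q : Type*} [Group Q] [Finite Q] (hQ : Nat.card Q = p ^ 2)
    (K : Subgroup Q) (hK : K ≠ ⊤) : IsCyclic K := by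
  have hp : p.Prime := Fact.out
  have hdvd : Nat.card K ∣ p ^ 2 := hQ ▸ Subgroup.card_subgroup_dvd_card K
  obtain ⟨k, hk, hkc⟩ := (Nat.dvd_prime_pow hp).1 hdvd
  interval_cases k
  · have : Subsingleton K := (Nat.card_eq_one_iff_unique.1 (by simpa using hkc)).1
    exact isCyclic_of_subsingleton
  · exact isCyclic_of_prime_card (p := p) (by simpa using hkc)
  · exfalso
    apply hK
    apply Subgroup.eq_top_of_card_eq
    rw [hkc, hQ]

/-- **GEN**. -/
theorem gen_le_p {e : G} (hn : 3 ≤ n) (hG : Nat.card G = p ^ n)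
    (hL1 : Nat.card ↥(L G 1) = p ^ (n - 2)) (hpowL1 : ∀ x : G, x ^ p ∈ L G 1)
    (hA : ∀ H : Subgroup G, H ≤ L G 1 → ∃ T : Finset G, T.card ≤ p - 1 ∧ Subgroup.closure (T : Set G) = H)
    (hB : ∀ t : G, (∃ d ∈ L G 1, t = e * d) → ∀ H : Subgroup G, t ∈ H → ∃ x : G, Subgroup.closure ({t, x} : Set G) = H) :
    ∀ H : Subgroup G, ∃ T : Finset G, T.card ≤ p ∧ Subgroup.closure (T : Set G) = H := by
  classical
  have hp : p.Prime := Fact.out
  have hp2 : 2 ≤ p := hp.two_le
  intro H
  by_cases hcase : ∃ t ∈ H, ∃ d ∈ L G 1, t = e * d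
  · obtain ⟨t, htH, d, hd, htd⟩ := hcase
    obtain ⟨x, hx⟩ := hB t ⟨d, hd, htd⟩ H htH
    refine ⟨{t, x}, ?_, ?_⟩
    · exact (Finset.card_le_two).trans hp2
    · rw [← hx]; congr 1; ext y; simp
  · -- the image of H in G / L 1 is a proper subgroup
    have hN : (L G 1).Normal := inferInstance
    have hQ : Nat.card (G ⧸ L G 1) = p ^ 2 := by
      have h1 := Subgroup.card_eq_card_quotient_mul_card_subgroup (L G 1)
      rw [hG, hL1] at h1
      have h2 : p ^ n = p ^ 2 * p ^ (n - 2) := by rw [← pow_add]; congr 1; omega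
      rw [h2] at h1
      exact (Nat.eq_of_mul_eq_mul_right (pow_pos hp.pos _) h1).symm
    set K : Subgroup (G ⧸ L G 1) := H.map (QuotientGroup.mk' (L G 1)) with hKdef
    have hKne : K ≠ ⊤ := by
      intro htop
      apply hcase
      have : (QuotientGroup.mk' (L G 1) e) ∈ K := by rw [htop]; trivial
      obtain ⟨t, htH, hte⟩ := this
      refine ⟨t, htH, e⁻¹ * t, ?_, by group⟩
      have h3 : (QuotientGroup.mk' (L G 1)) (e⁻¹ * t) = 1 := by
        rw [map_mul, map_inv, hte]; group
      exact (QuotientGroup.eq_one_iff _).1 h3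
    have hcyc : IsCyclic K := gen_isCyclic_of_ne_top hQ K hKne
    obtain ⟨⟨gbar, hgK⟩, hgen⟩ := hcyc.exists_generator
    obtain ⟨h, hhH, hhg⟩ := hgK
    -- every g ∈ H is h^k times an element of H ⊓ L 1
    have hkey : ∀ g ∈ H, ∃ k : ℤ, h ^ (-k) * g ∈ H ⊓ L G 1 := by
      intro g hg
      have hgK' : (QuotientGroup.mk' (L G 1) g) ∈ K := ⟨g, hg, rfl⟩
      obtain ⟨k, hk⟩ := Subgroup.mem_zpowers_iff.1 (hgen ⟨_, hgK'⟩)
      have hk' : gbar ^ k = QuotientGroup.mk' (L G 1) g := by
        have := congrArg Subtype.val hk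
        rw [Subgroup.coe_zpow] at this
        exact this
      refine ⟨k, H.mul_mem (H.zpow_mem hhH _) hg, ?_⟩
      apply (QuotientGroup.eq_one_iff _).1
      have : (QuotientGroup.mk' (L G 1)) (h ^ (-k) * g) = 1 := by
        rw [map_mul, map_zpow, hhg, ← hk', zpow_neg]; group
      exact this
    obtain ⟨T', hT'c, hT'⟩ := hA (H ⊓ L G 1) inf_le_right
    refine ⟨insert h T', ?_, ?_⟩
    · calc (insert h T').card ≤ T'.card + 1 := Finset.card_insert_le _ _
        _ ≤ (p - 1) + 1 := by omega
        _ = p := by omega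
    · apply le_antisymm
      · rw [Subgroup.closure_le]
        intro y hy
        rw [Finset.coe_insert] at hy
        rcases hy with rfl | hy
        · exact hhH
        · have : y ∈ Subgroup.closure (T' : Set G) := Subgroup.subset_closure hy
          rw [hT'] at this
          exact this.1
      · intro g hg
        obtain ⟨k, hk⟩ := hkey g hg
        have h1 : h ∈ Subgroup.closure ((insert h T' : Finset G) : Set G) :=
          Subgroup.subset_closure (by simp)
        have h2 : h ^ (-k) * g ∈ Subgroup.closure ((insert h T' : Finset G) : Set G) := by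
          have : Subgroup.closure (T' : Set G) ≤ Subgroup.closure ((insert h T' : Finset G) : Set G) :=
            Subgroup.closure_mono (by simp)
          apply this
          rw [hT']; exact hk
        have h3 : g = h ^ k * (h ^ (-k) * g) := by group
        rw [h3]
        exact Subgroup.mul_mem _ (Subgroup.zpow_mem _ h1 _) h2

end Cfsg.Agent.Lib.H25.PPearl
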