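import Cfsg.Agent.Lib.H14.Kieler
import Cfsg.Agent.Lib.H14.Amalgam8
import Cfsg.Agent.Lib.H3.Wielandt
import Cfsg.Agent.Lib.H15.SubnormalSylow
import Cfsg.Statements.S2806

/-!
# S2806, piece (AK): Kieler's lemma inside the `p`-local subgroup `N_H(Z)`, in ambient form

Exact signature of `tools/blueprints/S2806_sigs.lean` (architect helper27).  `kieler` of `Lib/H14/Kieler` is applied
to `G := ↥M`, `M = N_H(Z)` (of characteristic `p` by local characteristic `p`), with the Sylow subgroup
`S.subgroupOf M` and the subnormal subgroup `A.subgroupOf M`, and the result is mapped back along `M.subtype`.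
(helper25)
-/

set_option autoImplicit false
open Cfsg Cfsg.Agent.Lib.H14

namespace Cfsg.Agent.Lib.H25.PS

/-- images of centralizers computed inside a subgroup -/
theorem map_inf_centralizer {H : Type*} [Group H] (M : Subgroup H) (L X : Subgroup ↥M) :
    (L ⊓ Subgroup.centralizer (X : Set ↥M)).map M.subtype =
      L.map M.subtype ⊓ Subgroup.centralizer ((X.map M.subtype : Subgroup H) : Set H) := by
  ext y
  rw [Subgroup.mem_inf, Subgroup.mem_map, Subgroup.mem_map]
  constructor
  · rintro ⟨m, hm, rfl⟩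
    rw [Subgroup.mem_inf] at hm
    refine ⟨⟨m, hm.1, rfl⟩, ?_⟩
    rw [Subgroup.mem_centralizer_iff]
    intro z hz
    obtain ⟨x, hx, rfl⟩ := Subgroup.mem_map.1 hz
    have := (Subgroup.mem_centralizer_iff.1 hm.2) x hx
    exact congrArg Subtype.val this
  · rintro ⟨⟨m, hmL, rfl⟩, hC⟩
    refine ⟨m, ?_, rfl⟩
    rw [Subgroup.mem_inf]
    refine ⟨hmL, ?_⟩
    rw [Subgroup.mem_centralizer_iff]
    intro x hx
    apply Subtype.ext
    exact (Subgroup.mem_centralizer_iff.1 hC) _ (Subgroup.mem_map.2 ⟨x, hx, rfl⟩)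

/-- `Ω₁Z` commutes with the inclusion of a subgroup -/
theorem oz_map_subtype {H : Type*} [Group H] {p : ℕ} (M : Subgroup H) (T' : Subgroup ↥M) :
    (oz p T').map M.subtype = oz p (T'.map M.subtype) := by
  unfold oz
  rw [omegaOne_map_subtype, map_inf_centralizer]

variable {H : Type*} [Group H] [Finite H] {p : ℕ} [Fact p.Prime]

/-- (AK) Kieler's lemma inside the `p`-local subgroup `N_H(Z)`, in ambient form. -/
theorem kieler_local (hH : Cfsg.IsOfLocalCharacteristic p H) (Z : Subgroup H) (hZ : IsPGroup p Z) (hZ1 : Z ≠ ⊥)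
    (S : Subgroup H) (hSM : S ≤ Subgroup.normalizer (Z : Set H)) (hSp : IsPGroup p S)
    (hS : ¬ p ∣ S.relIndex (Subgroup.normalizer (Z : Set H)))
    {A : Subgroup H} (hA : A.IsSubnormal) :
    A ⊓ Subgroup.normalizer (Z : Set H) ⊓ Subgroup.centralizer (oz p S : Set H) =
      A ⊓ Subgroup.normalizer (Z : Set H) ⊓ Subgroup.centralizer (oz p (S ⊓ A) : Set H) := by
  set M : Subgroup H := Subgroup.normalizer (Z : Set H) with hM
  have hchar := hH.2 Z hZ hZ1
  -- the Sylow subgroup `S.subgroupOf M` of `↥M`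
  have hT'p : IsPGroup p ↥(S.subgroupOf M) :=
    hSp.comap_of_injective (M.subtype) (Subgroup.subtype_injective M) |>.to_le (le_of_eq rfl)
  let T : Sylow p ↥M := hT'p.toSylow hS
  have hTcoe : (T : Subgroup ↥M) = S.subgroupOf M := IsPGroup.toSylow_coe hT'p hS
  have hL : (A.subgroupOf M).IsSubnormal := hA.subgroupOf
  have key := (kieler hchar T (A.subgroupOf M) hL).2
  rw [hTcoe] at key
  have hSmap : (S.subgroupOf M).map M.subtype = S := by
    rw [Subgroup.subgroupOf_map_subtype, inf_eq_left.mpr hSM]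
  have hAmap : (A.subgroupOf M).map M.subtype = A ⊓ M := Subgroup.subgroupOf_map_subtype A M
  have hSAmap : (S.subgroupOf M ⊓ A.subgroupOf M).map M.subtype = S ⊓ A := by
    rw [Subgroup.map_inf _ _ _ (Subgroup.subtype_injective M), hSmap, hAmap, ← inf_assoc,
      inf_assoc S A M, inf_comm A M, ← inf_assoc, inf_eq_left.mpr hSM]
  have h1 := congrArg (Subgroup.map M.subtype) key
  rw [map_inf_centralizer, map_inf_centralizer, oz_map_subtype, oz_map_subtype, hSmap, hAmap,
    hSAmap] at h1
  exact h1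

end Cfsg.Agent.Lib.H25.PS
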