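import Mathlib
import Cfsg.Agent.Lib.H2.SL2Quat
import Cfsg.Agent.Lib.H20.QuatToDihedral
import Cfsg.Agent.Lib.H2.SLCenterCard

set_option autoImplicit false

/-!
# Sylow 2-subgroups of `PSL₂(q)`, `q` odd, are dihedral
-/

namespace Cfsg.Agent.Lib.H25.PSL2Dih

open Matrix

variable {F : Type*} [Field F] [Fintype F]

theorem card_center_SL2 (hF : Odd (Fintype.card F)) :
    Nat.card (Subgroup.center (SpecialLinearGroup (Fin 2) F)) = 2 := by
  rw [Cfsg.Agent.Lib.H2.card_center_SL 2 (by norm_num), Nat.card_eq_fintype_card]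
  obtain ⟨k, hk⟩ := hF
  have hq : 2 ≤ Fintype.card F := Fintype.one_lt_card
  have : Fintype.card F - 1 = 2 * k := by omega
  rw [this]
  exact Nat.gcd_mul_right_right k 2 ▸ (by simp)

/-- A Sylow 2-subgroup of `PSL₂(q)`, `q` odd, is dihedral. -/
theorem sylow_dihedral (hF : Odd (Fintype.card F))
    (S : Sylow 2 (ProjectiveSpecialLinearGroup (Fin 2) F)) :
    ∃ k : ℕ, 1 ≤ k ∧ Nonempty
      ((S : Subgroup (ProjectiveSpecialLinearGroup (Fin 2) F)) ≃* DihedralGroup (2 ^ k)) := by
  classical
  haveI : Fact (Nat.Prime 2) := ⟨Nat.prime_two⟩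
  have hchar : ringChar F ≠ 2 := by
    intro h
    have := FiniteField.even_card_of_char_two h
    rcases hF with ⟨k, hk⟩
    omega
  have h2 : (2 : F) ≠ 0 := Ring.two_ne_zero hchar
  set π : SpecialLinearGroup (Fin 2) F →* ProjectiveSpecialLinearGroup (Fin 2) F :=
    QuotientGroup.mk' (Subgroup.center (SpecialLinearGroup (Fin 2) F)) with hπdef
  have hπ : Function.Surjective π := QuotientGroup.mk'_surjective _
  have hkerπ : π.ker = Subgroup.center (SpecialLinearGroup (Fin 2) F) := QuotientGroup.ker_mk' _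
  have hker2 : Nat.card π.ker = 2 := by rw [hkerπ]; exact card_center_SL2 hF
  have hkerP : IsPGroup 2 π.ker := IsPGroup.of_card (n := 1) (by rw [hker2, pow_one])
  have hrange : (S : Subgroup (ProjectiveSpecialLinearGroup (Fin 2) F)) ≤ π.range := by
    rw [MonoidHom.range_eq_top.2 hπ]; exact le_top
  set P : Sylow 2 (SpecialLinearGroup (Fin 2) F) := S.comapOfKerIsPGroup π hkerP hrange with hP
  have hPcoe : (P : Subgroup (SpecialLinearGroup (Fin 2) F)) =
      (S : Subgroup (ProjectiveSpecialLinearGroup (Fin 2) F)).comap π := rfl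
  obtain ⟨k, hk, ⟨e⟩⟩ := Cfsg.Agent.Lib.H2.SL2Quat.main hF P
  refine ⟨k, hk, ?_⟩
  haveI : NeZero (2 ^ k) := ⟨by positivity⟩
  -- the two surjections
  set f : (P : Subgroup (SpecialLinearGroup (Fin 2) F)) →* DihedralGroup (2 ^ k) :=
    (Cfsg.Agent.Lib.H20.quatToDihedral (2 ^ k)).comp e.toMonoidHom with hf
  have hfsurj : Function.Surjective f :=
    (Cfsg.Agent.Lib.H20.quatToDihedral_surjective (2 ^ k)).comp e.surjective
  set g : (P : Subgroup (SpecialLinearGroup (Fin 2) F)) →*
      (S : Subgroup (ProjectiveSpecialLinearGroup (Fin 2) F)) :=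
    π.subgroupComap (S : Subgroup (ProjectiveSpecialLinearGroup (Fin 2) F)) with hg
  have hgsurj : Function.Surjective g :=
    MonoidHom.subgroupComap_surjective_of_surjective π _ hπ
  -- kernels have order two
  have hkf : Nat.card f.ker = 2 := by
    have h1 := Subgroup.card_eq_card_quotient_mul_card_subgroup f.ker
    rw [Nat.card_congr (QuotientGroup.quotientKerEquivOfSurjective f hfsurj).toEquiv,
      DihedralGroup.nat_card, Nat.card_congr e.toEquiv, Nat.card_eq_fintype_card,
      QuaternionGroup.card] at h1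
    have hpos : 0 < 2 * 2 ^ k := by positivity
    have : 2 * 2 ^ k * 2 = 2 * 2 ^ k * Nat.card f.ker := by rw [← h1]; ring
    exact (Nat.eq_of_mul_eq_mul_left hpos this).symm
  have hkg : Nat.card g.ker = 2 := by
    have hle : π.ker ≤ (P : Subgroup (SpecialLinearGroup (Fin 2) F)) := by
      rw [hPcoe]
      intro x hx
      rw [Subgroup.mem_comap, MonoidHom.mem_ker.1 hx]
      exact Subgroup.one_mem _
    have h1 : g.ker = π.ker.subgroupOf (P : Subgroup (SpecialLinearGroup (Fin 2) F)) := by
      ext x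
      rw [MonoidHom.mem_ker, Subgroup.mem_subgroupOf, MonoidHom.mem_ker]
      constructor
      · intro h
        have := congrArg Subtype.val h
        exact this
      · intro h
        apply Subtype.ext
        exact h
    rw [h1, Nat.card_congr (Subgroup.subgroupOfEquivOfLe hle).toEquiv]
    exact hker2
  have hkeq : g.ker = f.ker :=
    Cfsg.Agent.Lib.H2.SL2Quat.atMostOne h2 (P : Subgroup (SpecialLinearGroup (Fin 2) F)) _ _ hkg hkf
  exact ⟨((QuotientGroup.quotientKerEquivOfSurjective g hgsurj).symm.trans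
    (QuotientGroup.quotientMulEquivOfEq hkeq)).trans
    (QuotientGroup.quotientKerEquivOfSurjective f hfsurj)⟩

end Cfsg.Agent.Lib.H25.PSL2Dih
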