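import Mathlib
import Cfsg.Agent.Lib.H13.AutPSLSylow

set_option autoImplicit false

/-!
# Matrix lemmas on the unitriangular subgroup of `SL_n(F)` (helper25)
-/

namespace Cfsg.Agent.Lib.H25.PSLn

open Matrix Cfsg.Agent.Lib.H13.AutPSL

variable {n : ℕ} {F : Type*} [Field F]

/-- entries of `s * tm v φ` -/
theorem mul_tm_apply (s : Matrix (Fin n) (Fin n) F) (v φ : Fin n → F) (a b : Fin n) :
    (s * tm v φ) a b = s a b + (s *ᵥ v) a * φ b := by
  unfold tm
  rw [mul_add, Matrix.mul_one, mul_vecMulVec, Matrix.add_apply, vecMulVec_apply]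

/-- entries of `tm v φ * s` -/
theorem tm_mul_apply (s : Matrix (Fin n) (Fin n) F) (v φ : Fin n → F) (a b : Fin n) :
    (tm v φ * s) a b = s a b + v a * (φ ᵥ* s) b := by
  unfold tm
  rw [add_mul, Matrix.one_mul, vecMulVec_mul, Matrix.add_apply, vecMulVec_apply]

theorem mul_el_apply (s : Matrix (Fin n) (Fin n) F) (i j : Fin n) (c : F) (a b : Fin n) :
    (s * tm (Pi.single i 1) (c • (Pi.single j 1 : Fin n → F))) a b =
      s a b + s a i * (if b = j then c else 0) := by
  rw [mul_tm_apply, Matrix.mulVec_single_one, Matrix.col_apply, Pi.smul_apply, Pi.single_apply,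
    smul_eq_mul]
  split_ifs <;> simp

section gen

variable [Fintype F]

open Classical in
/-- the nonzero entries above the diagonal -/
noncomputable def nz (s : Matrix (Fin n) (Fin n) F) : Finset (Fin n × Fin n) :=
  Finset.univ.filter (fun q => q.1 < q.2 ∧ s q.1 q.2 ≠ 0)

theorem mem_nz (s : Matrix (Fin n) (Fin n) F) (q : Fin n × Fin n) :
    q ∈ nz s ↔ q.1 < q.2 ∧ s q.1 q.2 ≠ 0 := by
  unfold nz
  simp

/-- `UT` is generated by the elementary transvections `el i j c`, `i < j`. -/
theorem UT_le_closure_el :
    (UT : Subgroup (SpecialLinearGroup (Fin n) F)) ≤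
      Subgroup.closure {s | ∃ (i j : Fin n) (hij : i < j) (c : F), s = el i j (ne_of_lt hij) c} := by
  have key : ∀ m : ℕ, ∀ s : SpecialLinearGroup (Fin n) F, s ∈ UT →
      (nz (s : Matrix (Fin n) (Fin n) F)).card = m →
      s ∈ Subgroup.closure {s | ∃ (i j : Fin n) (hij : i < j) (c : F),
        s = el i j (ne_of_lt hij) c} := by
    intro m
    induction m using Nat.strong_induction_on with
    | _ m ih =>
      intro s hs hm
      by_cases h0 : nz (s : Matrix (Fin n) (Fin n) F) = ∅
      · have : s = 1 := by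
          apply Subtype.ext
          ext a b
          rw [Matrix.SpecialLinearGroup.coe_one, Matrix.one_apply]
          by_cases hab : a = b
          · subst hab; rw [if_pos rfl]; exact hs.2 a
          · rw [if_neg hab]
            rcases lt_or_gt_of_ne hab with h | h
            · by_contra hne
              have : (a, b) ∈ nz (s : Matrix (Fin n) (Fin n) F) := (mem_nz _ _).2 ⟨h, hne⟩
              rw [h0] at this
              exact absurd this (Finset.notMem_empty _)
            · exact hs.1 a b h
        rw [this]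
        exact Subgroup.one_mem _
      · have hne : (nz (s : Matrix (Fin n) (Fin n) F)).Nonempty := Finset.nonempty_iff_ne_empty.2 h0
        obtain ⟨q, hq, hmin⟩ := Finset.exists_min_image _ (fun q : Fin n × Fin n => q.1) hne
        obtain ⟨i, j⟩ := q
        have hq' := (mem_nz _ _).1 hq
        simp only at hq' hmin
        obtain ⟨hij, hsij⟩ := hq'
        set c := (s : Matrix (Fin n) (Fin n) F) i j with hc
        set s' := s * el i j (ne_of_lt hij) (-c) with hs'
        have hs'UT : s' ∈ UT := UT.mul_mem hs (el_mem_UT hij _)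
        have hcol : ∀ a : Fin n, a ≠ i → (s : Matrix (Fin n) (Fin n) F) a i = 0 := by
          intro a hai
          rcases lt_or_gt_of_ne hai with h | h
          · by_contra hne'
            have hmem : (a, i) ∈ nz (s : Matrix (Fin n) (Fin n) F) := (mem_nz _ _).2 ⟨h, hne'⟩
            have := hmin (a, i) hmem
            simp only at this
            exact absurd h (not_lt.2 this)
          · exact hs.1 a i h
        have hentry : ∀ a b : Fin n, (s' : Matrix (Fin n) (Fin n) F) a b =
            if (a, b) = (i, j) then 0 else (s : Matrix (Fin n) (Fin n) F) a b := by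
          intro a b
          rw [hs', Matrix.SpecialLinearGroup.coe_mul, el_coe, mul_el_apply]
          by_cases hb : b = j
          · subst hb
            rw [if_pos rfl]
            by_cases ha : a = i
            · subst ha
              rw [if_pos rfl, hs.2 a, ← hc]
              ring
            · rw [if_neg (by intro h; exact ha (Prod.ext_iff.1 h).1), hcol a ha]
              ring
          · rw [if_neg hb, if_neg (by intro h; exact hb (Prod.ext_iff.1 h).2)]
            ring
        have hnz : nz (s' : Matrix (Fin n) (Fin n) F) =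
            (nz (s : Matrix (Fin n) (Fin n) F)).erase (i, j) := by
          ext q
          rw [Finset.mem_erase, mem_nz, mem_nz, hentry]
          by_cases hqe : q = (i, j)
          · subst hqe
            simp
          · have : (q.1, q.2) ≠ (i, j) := by simpa using hqe
            rw [if_neg this]
            simp [hqe]
        have hcard : (nz (s' : Matrix (Fin n) (Fin n) F)).card < m := by
          rw [hnz, Finset.card_erase_of_mem hq, hm]
          have : 0 < m := by rw [← hm]; exact Finset.card_pos.2 hne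
          omega
        have h1 := ih _ hcard s' hs'UT rfl
        have h2 : s = s' * el i j (ne_of_lt hij) c := by
          rw [hs', mul_assoc]
          have : el i j (ne_of_lt hij) (-c) * el i j (ne_of_lt hij) c = 1 := by
            apply Subtype.ext
            rw [Matrix.SpecialLinearGroup.coe_mul, el_coe, el_coe,
              tm_mul_right _ _ _ (single_dot_single (ne_of_lt hij) _), ← add_smul,
              neg_add_cancel, zero_smul, tm_zero_right]
            rfl
          rw [this, mul_one]
        rw [h2]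
        exact Subgroup.mul_mem _ h1 (Subgroup.subset_closure ⟨i, j, hij, c, rfl⟩)
  intro s hs
  exact key _ s hs rfl

end gen

section upper

variable [Fintype F]

/-- An element of `SL_n` conjugating `UT` into itself is upper triangular. -/
theorem upper_of_conj_UT (g : SpecialLinearGroup (Fin n) F)
    (hg : ∀ u ∈ (UT : Subgroup (SpecialLinearGroup (Fin n) F)), g * u * g⁻¹ ∈ UT) :
    ∀ i a : Fin n, a < i → (g : Matrix (Fin n) (Fin n) F) i a = 0 := by
  intro i
  induction i using WellFoundedGT.induction with
  | ind i ih =>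
    intro a hai
    have hu := hg _ (el_mem_UT hai (1 : F))
    set u := g * el a i (ne_of_lt hai) 1 * g⁻¹ with hudef
    have heq : g * el a i (ne_of_lt hai) 1 = u * g := by
      rw [hudef]; group
    have h1 := congrArg (fun x : SpecialLinearGroup (Fin n) F =>
      (x : Matrix (Fin n) (Fin n) F) i i) heq
    simp only [Matrix.SpecialLinearGroup.coe_mul, el_coe] at h1
    rw [mul_el_apply, if_pos rfl, mul_one, Matrix.mul_apply] at h1
    have h2 : ∑ k, (u : Matrix (Fin n) (Fin n) F) i k * (g : Matrix (Fin n) (Fin n) F) k i =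
        (g : Matrix (Fin n) (Fin n) F) i i := by
      rw [Finset.sum_eq_single i]
      · rw [hu.2 i, one_mul]
      · intro k _ hki
        rcases lt_or_gt_of_ne hki with h | h
        · rw [hu.1 i k h, zero_mul]
        · rw [ih k h i h, mul_zero]
      · intro h; exact absurd (Finset.mem_univ i) h
    rw [h2] at h1
    exact add_eq_left.mp h1

/-- a diagonal element of `SL_n` -/
def dg (D : Fin n → F) (hD : (Matrix.diagonal D).det = 1) : SpecialLinearGroup (Fin n) F :=
  ⟨Matrix.diagonal D, hD⟩

omit [Fintype F] in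
theorem dg_coe (D : Fin n → F) (hD : (Matrix.diagonal D).det = 1) :
    ((dg D hD : SpecialLinearGroup (Fin n) F) : Matrix (Fin n) (Fin n) F) = Matrix.diagonal D := rfl

/-- An upper triangular element of `SL_n` is a diagonal matrix times a unitriangular one. -/
theorem upper_decomp (g : SpecialLinearGroup (Fin n) F)
    (hg : ∀ i a : Fin n, a < i → (g : Matrix (Fin n) (Fin n) F) i a = 0) :
    ∃ (D : Fin n → F) (hD : (Matrix.diagonal D).det = 1),
      ∃ u ∈ (UT : Subgroup (SpecialLinearGroup (Fin n) F)),
        g = dg D hD * u := by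
  set D : Fin n → F := fun i => (g : Matrix (Fin n) (Fin n) F) i i with hDdef
  have hdet : (g : Matrix (Fin n) (Fin n) F).det = ∏ i, D i := by
    rw [Matrix.det_of_isUpperTriangular]
    intro i j hji
    exact hg i j hji
  have hD : (Matrix.diagonal D).det = 1 := by
    rw [Matrix.det_diagonal, ← hdet, g.2]
  have hD0 : ∀ i, D i ≠ 0 := by
    intro i h0
    have : ∏ i, D i = 0 := Finset.prod_eq_zero (Finset.mem_univ i) h0
    rw [← hdet, g.2] at this
    exact one_ne_zero this
  refine ⟨D, hD, (dg D hD)⁻¹ * g, ?_, by group⟩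
  set d : SpecialLinearGroup (Fin n) F := dg D hD with hd
  set u := d⁻¹ * g with hu
  have heq : d * u = g := by rw [hu]; group
  have hentry : ∀ i j, D i * (u : Matrix (Fin n) (Fin n) F) i j =
      (g : Matrix (Fin n) (Fin n) F) i j := by
    intro i j
    have := congrArg (fun x : SpecialLinearGroup (Fin n) F =>
      (x : Matrix (Fin n) (Fin n) F) i j) heq
    simp only [Matrix.SpecialLinearGroup.coe_mul] at this
    rw [← this, hd, dg_coe, Matrix.diagonal_mul]
  constructor
  · intro i j hji
    have := hentry i j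
    rw [hg i j hji] at this
    exact (mul_eq_zero.1 this).resolve_left (hD0 i)
  · intro i
    have := hentry i i
    have h2 : D i * (u : Matrix (Fin n) (Fin n) F) i i = D i * 1 := by rw [this, mul_one]
    exact mul_left_cancel₀ (hD0 i) h2

/-- A diagonal element of `SL_n` normalizes `UT`. -/
theorem diag_conj_UT (D : Fin n → F) (hD : (Matrix.diagonal D).det = 1)
    (u : SpecialLinearGroup (Fin n) F) (hu : u ∈ (UT : Subgroup (SpecialLinearGroup (Fin n) F))) :
    dg D hD * u * (dg D hD)⁻¹ ∈ UT := by
  have hD0 : ∀ i, D i ≠ 0 := by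
    intro i h0
    have : ∏ i, D i = 0 := Finset.prod_eq_zero (Finset.mem_univ i) h0
    rw [Matrix.det_diagonal, this] at hD
    exact zero_ne_one hD
  set d : SpecialLinearGroup (Fin n) F := dg D hD with hd
  set w := d * u * d⁻¹ with hw
  have heq : w * d = d * u := by rw [hw]; group
  have hentry : ∀ i j, (w : Matrix (Fin n) (Fin n) F) i j * D j =
      D i * (u : Matrix (Fin n) (Fin n) F) i j := by
    intro i j
    have := congrArg (fun x : SpecialLinearGroup (Fin n) F =>
      (x : Matrix (Fin n) (Fin n) F) i j) heq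
    simp only [Matrix.SpecialLinearGroup.coe_mul] at this
    have e1 : ((w : Matrix (Fin n) (Fin n) F) * (d : Matrix (Fin n) (Fin n) F)) i j =
        (w : Matrix (Fin n) (Fin n) F) i j * D j := by
      rw [hd, dg_coe, Matrix.mul_diagonal]
    have e2 : ((d : Matrix (Fin n) (Fin n) F) * (u : Matrix (Fin n) (Fin n) F)) i j =
        D i * (u : Matrix (Fin n) (Fin n) F) i j := by
      rw [hd, dg_coe, Matrix.diagonal_mul]
    rw [e1, e2] at this
    exact this
  constructor
  · intro i j hji
    have := hentry i j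
    rw [hu.1 i j hji, mul_zero] at this
    exact (mul_eq_zero.1 this).resolve_right (hD0 j)
  · intro i
    have := hentry i i
    rw [hu.2 i, mul_one] at this
    have h2 : (w : Matrix (Fin n) (Fin n) F) i i * D i = 1 * D i := by rw [this, one_mul]
    exact mul_right_cancel₀ (hD0 i) h2

end upper

section radicals

variable [Fintype F]

theorem Av_le_UT (hn : 2 ≤ n) :
    (Av (Pi.single (i0 hn) (1 : F)) : Subgroup (SpecialLinearGroup (Fin n) F)) ≤ UT := by
  rintro s ⟨ψ, hψ, hs⟩
  rw [dotProduct_single, mul_one] at hψ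
  show IsUT (s : Matrix (Fin n) (Fin n) F)
  rw [hs]
  constructor
  · intro i j hji
    unfold tm
    rw [Matrix.add_apply, Matrix.one_apply_ne (ne_of_gt hji), vecMulVec_apply, Pi.single_apply,
      zero_add]
    have : i ≠ i0 hn := by
      intro h
      rw [h] at hji
      exact absurd hji (by simp [i0, Fin.lt_def])
    rw [if_neg this, zero_mul]
  · intro i
    unfold tm
    rw [Matrix.add_apply, Matrix.one_apply_eq, vecMulVec_apply, Pi.single_apply]
    by_cases h : i = i0 hn
    · rw [if_pos h, h, hψ]; ring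
    · rw [if_neg h]; ring

theorem Ah_le_UT (hn : 2 ≤ n) :
    (Ah (Pi.single (il hn) (1 : F)) : Subgroup (SpecialLinearGroup (Fin n) F)) ≤ UT := by
  rintro s ⟨w, hw, hs⟩
  rw [single_dotProduct, one_mul] at hw
  show IsUT (s : Matrix (Fin n) (Fin n) F)
  rw [hs]
  constructor
  · intro i j hji
    unfold tm
    rw [Matrix.add_apply, Matrix.one_apply_ne (ne_of_gt hji), vecMulVec_apply, Pi.single_apply,
      zero_add]
    have : j ≠ il hn := by
      intro h
      rw [h] at hji
      have := i.2
      simp only [il, Fin.lt_def] at hji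
      omega
    rw [if_neg this, mul_zero]
  · intro i
    unfold tm
    rw [Matrix.add_apply, Matrix.one_apply_eq, vecMulVec_apply, Pi.single_apply]
    by_cases h : i = il hn
    · rw [if_pos h, h, hw]; ring
    · rw [if_neg h]; ring

omit [Fintype F] in
theorem inv_mulVec_of_mulVec (g : SpecialLinearGroup (Fin n) F) {v : Fin n → F}
    (hg : (g : Matrix (Fin n) (Fin n) F) *ᵥ v = v) :
    ((g⁻¹ : SpecialLinearGroup (Fin n) F) : Matrix (Fin n) (Fin n) F) *ᵥ v = v := by
  conv_lhs => rw [← hg]
  rw [Matrix.mulVec_mulVec, ← Matrix.SpecialLinearGroup.coe_mul, inv_mul_cancel,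
    Matrix.SpecialLinearGroup.coe_one, Matrix.one_mulVec]

omit [Fintype F] in
theorem vecMul_inv_of_vecMul (g : SpecialLinearGroup (Fin n) F) {φ : Fin n → F}
    (hg : φ ᵥ* (g : Matrix (Fin n) (Fin n) F) = φ) :
    φ ᵥ* ((g⁻¹ : SpecialLinearGroup (Fin n) F) : Matrix (Fin n) (Fin n) F) = φ := by
  conv_lhs => rw [← hg]
  rw [Matrix.vecMul_vecMul, ← Matrix.SpecialLinearGroup.coe_mul, mul_inv_cancel,
    Matrix.SpecialLinearGroup.coe_one, Matrix.vecMul_one]

omit [Fintype F] in
theorem coe_mul_inv (g : SpecialLinearGroup (Fin n) F) :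
    (g : Matrix (Fin n) (Fin n) F) *
      ((g⁻¹ : SpecialLinearGroup (Fin n) F) : Matrix (Fin n) (Fin n) F) = 1 := by
  rw [← Matrix.SpecialLinearGroup.coe_mul, mul_inv_cancel, Matrix.SpecialLinearGroup.coe_one]

omit [Fintype F] in
/-- Elements fixing `v` normalize `Av v`. -/
theorem conj_mem_Av {v : Fin n → F} (g : SpecialLinearGroup (Fin n) F)
    (hg : (g : Matrix (Fin n) (Fin n) F) *ᵥ v = v) {s : SpecialLinearGroup (Fin n) F}
    (hs : s ∈ Av v) : g * s * g⁻¹ ∈ Av v := by
  obtain ⟨ψ, hψ, hs⟩ := hs
  refine ⟨ψ ᵥ* ((g⁻¹ : SpecialLinearGroup (Fin n) F) : Matrix (Fin n) (Fin n) F), ?_, ?_⟩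
  · rw [← Matrix.dotProduct_mulVec, inv_mulVec_of_mulVec g hg, hψ]
  · rw [Matrix.SpecialLinearGroup.coe_mul, Matrix.SpecialLinearGroup.coe_mul, hs,
      conj_tm _ _ (coe_mul_inv g), hg]

omit [Fintype F] in
/-- Elements fixing the row vector `φ` normalize `Ah φ`. -/
theorem conj_mem_Ah {φ : Fin n → F} (g : SpecialLinearGroup (Fin n) F)
    (hg : φ ᵥ* (g : Matrix (Fin n) (Fin n) F) = φ) {s : SpecialLinearGroup (Fin n) F}
    (hs : s ∈ Ah φ) : g * s * g⁻¹ ∈ Ah φ := by
  obtain ⟨w, hw, hs⟩ := hs
  refine ⟨(g : Matrix (Fin n) (Fin n) F) *ᵥ w, ?_, ?_⟩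
  · rw [Matrix.dotProduct_mulVec, hg, hw]
  · rw [Matrix.SpecialLinearGroup.coe_mul, Matrix.SpecialLinearGroup.coe_mul, hs,
      conj_tm _ _ (coe_mul_inv g), vecMul_inv_of_vecMul g hg]

omit [Fintype F] in
theorem tm_mul_el_apply (s : Matrix (Fin n) (Fin n) F) (i j : Fin n) (a b : Fin n) :
    (tm (Pi.single i 1) (Pi.single j (1 : F)) * s) a b =
      s a b + (if a = i then 1 else 0) * s j b := by
  rw [tm_mul_apply, Matrix.single_one_vecMul, Matrix.row_apply, Pi.single_apply]

/-- A unitriangular matrix commuting with the `el 0 j 1` lies in `Av e_0`. -/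
theorem mem_Av_of_comm (hn : 2 ≤ n) {u : SpecialLinearGroup (Fin n) F} (hu : u ∈ UT)
    (h : ∀ j : Fin n, ∀ hj : i0 hn ≠ j, u * el (i0 hn) j hj (1 : F) = el (i0 hn) j hj 1 * u) :
    u ∈ Av (Pi.single (i0 hn) (1 : F)) := by
  have hrow : ∀ j : Fin n, i0 hn ≠ j → ∀ b, (u : Matrix (Fin n) (Fin n) F) j b =
      if b = j then 1 else 0 := by
    intro j hj b
    have h1 := congrArg (fun x : SpecialLinearGroup (Fin n) F =>
      (x : Matrix (Fin n) (Fin n) F) (i0 hn) b) (h j hj)
    simp only [Matrix.SpecialLinearGroup.coe_mul, el_coe, one_smul] at h1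
    have h2 := mul_el_apply (u : Matrix (Fin n) (Fin n) F) (i0 hn) j 1 (i0 hn) b
    rw [one_smul] at h2
    rw [h2, tm_mul_el_apply, if_pos rfl, one_mul, hu.2] at h1
    have := add_left_cancel h1
    rw [← this, one_mul]
  refine ⟨fun b => (u : Matrix (Fin n) (Fin n) F) (i0 hn) b - if b = i0 hn then 1 else 0, ?_, ?_⟩
  · rw [dotProduct_single, mul_one, if_pos rfl, hu.2, sub_self]
  · ext a b
    unfold tm
    rw [Matrix.add_apply, vecMulVec_apply, Pi.single_apply, Matrix.one_apply]
    by_cases ha : a = i0 hn
    · subst ha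
      rw [if_pos rfl]
      by_cases hb : i0 hn = b
      · rw [if_pos hb, if_pos hb.symm]; ring
      · rw [if_neg hb, if_neg (Ne.symm hb)]; ring
    · rw [if_neg ha, hrow a (Ne.symm ha) b]
      by_cases hb : a = b
      · rw [if_pos hb, if_pos hb.symm]; ring
      · rw [if_neg hb, if_neg (Ne.symm hb)]; ring

/-- A unitriangular matrix commuting with the `el i last 1` lies in `Ah e_last`. -/
theorem mem_Ah_of_comm (hn : 2 ≤ n) {u : SpecialLinearGroup (Fin n) F} (hu : u ∈ UT)
    (h : ∀ i : Fin n, ∀ hi : i ≠ il hn, u * el i (il hn) hi (1 : F) = el i (il hn) hi 1 * u) :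
    u ∈ Ah (Pi.single (il hn) (1 : F)) := by
  have hcol : ∀ i : Fin n, i ≠ il hn → ∀ a, (u : Matrix (Fin n) (Fin n) F) a i =
      if a = i then 1 else 0 := by
    intro i hi a
    have h1 := congrArg (fun x : SpecialLinearGroup (Fin n) F =>
      (x : Matrix (Fin n) (Fin n) F) a (il hn)) (h i hi)
    simp only [Matrix.SpecialLinearGroup.coe_mul, el_coe, one_smul] at h1
    have h2 := mul_el_apply (u : Matrix (Fin n) (Fin n) F) i (il hn) 1 a (il hn)
    rw [one_smul] at h2
    rw [h2, tm_mul_el_apply, if_pos rfl, mul_one, hu.2, mul_one] at h1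
    exact add_left_cancel h1
  refine ⟨fun a => (u : Matrix (Fin n) (Fin n) F) a (il hn) - if a = il hn then 1 else 0, ?_, ?_⟩
  · rw [single_dotProduct, one_mul, if_pos rfl, hu.2, sub_self]
  · ext a b
    unfold tm
    rw [Matrix.add_apply, vecMulVec_apply, Pi.single_apply, Matrix.one_apply]
    by_cases hb : b = il hn
    · subst hb
      rw [if_pos rfl]
      by_cases ha : a = il hn
      · rw [if_pos ha]; ring
      · rw [if_neg ha]; ring
    · rw [if_neg hb, hcol b hb a]
      by_cases hab : a = b
      · rw [if_pos hab]; ring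
      · rw [if_neg hab]; ring

end radicals

end Cfsg.Agent.Lib.H25.PSLn
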