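import Mathlib
import Cfsg.Agent.Lib.H25.PSLnA
import Cfsg.Agent.Lib.H1.NilpotentBasic
import Cfsg.Prelude.Def_TwoFusion

set_option autoImplicit false

/-!
# Strongly closed subgroups of the unitriangular Sylow subgroup of `PSL_n(F)` (helper25)
-/

namespace Cfsg.Agent.Lib.H25.PSLn

open Matrix Cfsg.Agent.Lib.H13.AutPSL

variable {n : ℕ} {F : Type*} [Field F] [Fintype F]

/-- the middle index `1` -/
def im (hn : 3 ≤ n) : Fin n := ⟨1, by omega⟩

theorem i0_ne_im (hn : 3 ≤ n) : i0 (by omega : 2 ≤ n) ≠ im hn := by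
  intro h
  have := congrArg Fin.val h
  simp [i0, im] at this

theorem im_ne_il (hn : 3 ≤ n) : im hn ≠ il (by omega : 2 ≤ n) := by
  intro h
  have := congrArg Fin.val h
  simp only [il, im] at this
  omega

/-- An element of `UT` whose image is central in `UTbar` is `el 0 last c`. -/
theorem central_eq_el (hn : 2 ≤ n) {u : SpecialLinearGroup (Fin n) F} (hu : u ∈ UT)
    (hcen : ∀ w ∈ (UT : Subgroup (SpecialLinearGroup (Fin n) F)),
      (pr w : ProjectiveSpecialLinearGroup (Fin n) F) * pr u = pr u * pr w) :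
    u = el (i0 hn) (il hn) (i0_ne_il hn) ((u : Matrix (Fin n) (Fin n) F) (i0 hn) (il hn)) := by
  have hcomm : ∀ w ∈ (UT : Subgroup (SpecialLinearGroup (Fin n) F)),
      (w : Matrix (Fin n) (Fin n) F) * (u : Matrix (Fin n) (Fin n) F) =
        (u : Matrix (Fin n) (Fin n) F) * (w : Matrix (Fin n) (Fin n) F) := by
    intro w hw
    have h3 := hcen w hw
    rw [← map_mul, ← map_mul] at h3
    obtain ⟨r, -, hr⟩ := (mk_eq_mk_iff (w * u) (u * w)).1 h3
    have hwu : IsUT ((w * u : SpecialLinearGroup (Fin n) F) : Matrix (Fin n) (Fin n) F) :=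
      UT.mul_mem hw hu
    have huw : IsUT ((u * w : SpecialLinearGroup (Fin n) F) : Matrix (Fin n) (Fin n) F) :=
      UT.mul_mem hu hw
    have h4 := congrFun (congrFun hr (i0 hn)) (i0 hn)
    rw [Matrix.smul_apply, huw.2, hwu.2, smul_eq_mul, mul_one] at h4
    rw [← h4, one_smul] at hr
    rw [← Matrix.SpecialLinearGroup.coe_mul, ← Matrix.SpecialLinearGroup.coe_mul, hr]
  have hu2 := eq_tm_of_comm hn hu (fun i j hij => by
    have := hcomm (el i j (ne_of_lt hij) 1) (el_mem_UT hij 1)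
    rw [el_coe, one_smul] at this
    exact this.symm)
  apply Subtype.ext
  rw [el_coe]
  exact hu2

theorem pr_el_mem_Tbar {i j : Fin n} (hij : i ≠ j) {c : F} (hc : c ≠ 0) :
    (pr (el i j hij c) : ProjectiveSpecialLinearGroup (Fin n) F) ∈ Tbar :=
  ⟨el i j hij c, ⟨_, _, single_ne_zero' i, smul_single_ne_zero hc j, single_dot_single hij c,
    el_coe i j hij c⟩, rfl⟩

section sc

variable {p : ℕ} [Fact p.Prime] [CharP F p]

/-- conjugating `el 0 last c` by a diagonal matrix -/
theorem diag2n_conj_el (hn : 3 ≤ n) (a c : F) (ha : a ≠ 0) :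
    SpecialLinearGroup.diag2n (i0_ne_im hn) a ha * el (i0 (by omega)) (il (by omega))
      (i0_ne_il (by omega)) c * (SpecialLinearGroup.diag2n (i0_ne_im hn) a ha)⁻¹ =
    el (i0 (by omega)) (il (by omega)) (i0_ne_il (by omega)) (a * c) := by
  apply Subtype.ext
  have h1 : ((SpecialLinearGroup.diag2n (i0_ne_im hn) a ha : SpecialLinearGroup (Fin n) F) :
      Matrix (Fin n) (Fin n) F) *ᵥ Pi.single (i0 (by omega)) 1 =
      a • Pi.single (i0 (by omega)) 1 := by
    rw [SpecialLinearGroup.diag2n_coe, Matrix.diagonal_mulVec_single, if_pos rfl, mul_one,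
      ← Pi.single_smul, smul_eq_mul, mul_one]
  have h2 : (Pi.single (il (by omega : 2 ≤ n)) (1 : F)) ᵥ*
      ((SpecialLinearGroup.diag2n (i0_ne_im hn) a ha : SpecialLinearGroup (Fin n) F) :
      Matrix (Fin n) (Fin n) F) = Pi.single (il (by omega)) 1 := by
    rw [SpecialLinearGroup.diag2n_coe, Matrix.single_vecMul_diagonal,
      if_neg (Ne.symm (i0_ne_il (by omega))), if_neg (Ne.symm (im_ne_il hn)), mul_one]
  rw [Matrix.SpecialLinearGroup.coe_mul, Matrix.SpecialLinearGroup.coe_mul, el_coe, el_coe,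
    conj_tm _ _ (coe_mul_inv _), h1, Matrix.smul_vecMul, vecMul_inv_of_vecMul _ h2,
    tm_smul_comm, smul_smul]

/-- A nontrivial strongly closed subgroup of `UTbar` is `UTbar`. -/
theorem stronglyClosed_eq (p : ℕ) [Fact p.Prime] [CharP F p] (hn : 3 ≤ n)
    (T : Subgroup (ProjectiveSpecialLinearGroup (Fin n) F))
    (hT : Cfsg.IsStronglyClosed T (UTbar : Subgroup (ProjectiveSpecialLinearGroup (Fin n) F)))
    (hne : T ≠ ⊥) : T = UTbar := by
  have hn2 : 2 ≤ n := by omega
  have hpU : IsPGroup p (UTbar : Subgroup (ProjectiveSpecialLinearGroup (Fin n) F)) :=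
    (isPGroup_UT (p := p)).map pr
  apply le_antisymm hT.1
  -- a central element
  have : Group.IsNilpotent (UTbar : Subgroup (ProjectiveSpecialLinearGroup (Fin n) F)) :=
    hpU.isNilpotent
  have hN : (T.subgroupOf (UTbar : Subgroup (ProjectiveSpecialLinearGroup (Fin n) F))).Normal := by
    constructor
    intro x hx s
    rw [Subgroup.mem_subgroupOf] at hx ⊢
    have h1 : ((s * x * s⁻¹ : (UTbar : Subgroup (ProjectiveSpecialLinearGroup (Fin n) F))) :
        ProjectiveSpecialLinearGroup (Fin n) F) = (s : ProjectiveSpecialLinearGroup (Fin n) F) *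
          (x : ProjectiveSpecialLinearGroup (Fin n) F) *
          (s : ProjectiveSpecialLinearGroup (Fin n) F)⁻¹ := by simp
    rw [h1]
    apply hT.2 _ hx
    rw [← h1]
    exact (s * x * s⁻¹).2
  have hNne : T.subgroupOf (UTbar : Subgroup (ProjectiveSpecialLinearGroup (Fin n) F)) ≠ ⊥ := by
    intro h
    apply hne
    rw [Subgroup.subgroupOf_eq_bot] at h
    rwa [disjoint_iff, inf_of_le_left hT.1] at h
  have hcz := Cfsg.Agent.Lib.H1.normal_inf_center_ne_bot _ hNne
  obtain ⟨⟨z, hzmem⟩, hz1'⟩ := (Subgroup.ne_bot_iff_exists_ne_one).1 hcz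
  have hz1 : z ≠ 1 := fun h => hz1' (Subtype.ext h)
  have hzT : ((z : (UTbar : Subgroup (ProjectiveSpecialLinearGroup (Fin n) F))) :
      ProjectiveSpecialLinearGroup (Fin n) F) ∈ T := (Subgroup.mem_inf.1 hzmem).1
  have hzc := (Subgroup.mem_inf.1 hzmem).2
  obtain ⟨u, hu, huz⟩ := Subgroup.mem_map.1 z.2
  have hucen : ∀ w ∈ (UT : Subgroup (SpecialLinearGroup (Fin n) F)),
      (pr w : ProjectiveSpecialLinearGroup (Fin n) F) * pr u = pr u * pr w := by
    intro w hw
    have := Subgroup.mem_center_iff.1 hzc ⟨pr w, Subgroup.mem_map_of_mem _ hw⟩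
    have h2 := congrArg (fun t : (UTbar : Subgroup (ProjectiveSpecialLinearGroup (Fin n) F)) =>
      (t : ProjectiveSpecialLinearGroup (Fin n) F)) this
    simp only [Subgroup.coe_mul] at h2
    rw [huz]
    exact h2
  have hu_el := central_eq_el hn2 hu hucen
  set c := (u : Matrix (Fin n) (Fin n) F) (i0 hn2) (il hn2) with hc
  have hc0 : c ≠ 0 := by
    intro h0
    apply hz1
    rw [h0, el_zero] at hu_el
    rw [hu_el, map_one] at huz
    apply Subtype.ext
    rw [← huz]
    rfl
  have hlt : i0 hn2 < il hn2 := by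
    rw [Fin.lt_def]; show 0 < n - 1; omega
  -- all `el 0 last c'` lie in `T`
  have hroot : ∀ c' : F, (pr (el (i0 hn2) (il hn2) (i0_ne_il hn2) c') :
      ProjectiveSpecialLinearGroup (Fin n) F) ∈ T := by
    intro c'
    have ha : c' * c⁻¹ ≠ 0 ∨ c' = 0 := by
      by_cases h : c' = 0
      · exact Or.inr h
      · exact Or.inl (mul_ne_zero h (inv_ne_zero hc0))
    rcases ha with ha | ha
    · have h1 := diag2n_conj_el hn (c' * c⁻¹) c ha
      have h2 : c' * c⁻¹ * c = c' := by field_simp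
      rw [h2] at h1
      rw [← h1, map_mul, map_mul, map_inv]
      have hmem : (pr (el (i0 hn2) (il hn2) (i0_ne_il hn2) c) :
          ProjectiveSpecialLinearGroup (Fin n) F) ∈ T := by
        rw [← hu_el, huz]; exact hzT
      apply hT.2 _ hmem
      rw [← map_inv, ← map_mul, ← map_mul, h1]
      exact Subgroup.mem_map_of_mem _ (el_mem_UT hlt c')
    · rw [ha, el_zero, map_one]; exact Subgroup.one_mem _
  -- all transvections in `UTbar` lie in `T`
  have htrans : ∀ y ∈ (Tbar : Set (ProjectiveSpecialLinearGroup (Fin n) F)),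
      y ∈ (UTbar : Subgroup (ProjectiveSpecialLinearGroup (Fin n) F)) → y ∈ T := by
    intro y hyT hyU
    have hy1 : y ≠ 1 := by
      rintro rfl
      exact one_notMem_Tbar hn hyT
    obtain ⟨P, hyP, hyc⟩ := mem_ZS_of_mem_Tbar (p := p) hn2 hyT
    obtain ⟨k, hk⟩ := exists_conj_sylU P
    have hy' : k⁻¹ * y * k ∈ (UTbar : Subgroup (ProjectiveSpecialLinearGroup (Fin n) F)) :=
      (hk y).1 hyP
    obtain ⟨v, hv, hvy⟩ := Subgroup.mem_map.1 hy'
    have hvcen : ∀ w ∈ (UT : Subgroup (SpecialLinearGroup (Fin n) F)),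
        (pr w : ProjectiveSpecialLinearGroup (Fin n) F) * pr v = pr v * pr w := by
      intro w hw
      have h1 : k * pr w * k⁻¹ ∈ P := by
        rw [hk]
        have : k⁻¹ * (k * pr w * k⁻¹) * k = pr w := by group
        rw [this]
        exact Subgroup.mem_map_of_mem _ hw
      have h2 := hyc _ h1
      rw [hvy]
      have e1 : pr w * (k⁻¹ * y * k) = k⁻¹ * ((k * pr w * k⁻¹) * y) * k := by group
      have e2 : (k⁻¹ * y * k) * pr w = k⁻¹ * (y * (k * pr w * k⁻¹)) * k := by group
      rw [e1, e2, h2]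
    have hv_el := central_eq_el hn2 hv hvcen
    have h3 := hroot ((v : Matrix (Fin n) (Fin n) F) (i0 hn2) (il hn2))
    rw [← hv_el, hvy] at h3
    have e : y = k * (k⁻¹ * y * k) * k⁻¹ := by group
    rw [e]
    apply hT.2 _ h3
    rw [← e]
    exact hyU
  -- generation
  have hgen : (UT : Subgroup (SpecialLinearGroup (Fin n) F)) ≤ T.comap pr := by
    refine UT_le_closure_el.trans ((Subgroup.closure_le _).2 ?_)
    rintro s ⟨i, j, hij, c', rfl⟩
    show pr (el i j (ne_of_lt hij) c') ∈ T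
    by_cases hc' : c' = 0
    · rw [hc', el_zero, map_one]; exact Subgroup.one_mem _
    · exact htrans _ (pr_el_mem_Tbar (ne_of_lt hij) hc')
        (Subgroup.mem_map_of_mem _ (el_mem_UT hij c'))
  rintro x ⟨s, hs, rfl⟩
  exact hgen hs

end sc

end Cfsg.Agent.Lib.H25.PSLn
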