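import Mathlib
import Cfsg.Agent.Lib.H25.PSLnB
import Cfsg.Agent.Lib.H25.LieCrit
import Cfsg.Agent.Lib.H2.SLGen

set_option autoImplicit false

/-!
# The normalizer of the unitriangular Sylow subgroup of `PSL_n(F)` (helper25)
-/

namespace Cfsg.Agent.Lib.H25.PSLn

open Matrix Cfsg.Agent.Lib.H13.AutPSL Cfsg.Agent.Lib.H25.LieCrit

variable {n : ℕ} {F : Type*} [Field F] [Fintype F]

/-- conjugation-invariance in `SL_n` gives normalization in `PSL_n` -/
theorem pr_mem_normalizer_map (A : Subgroup (SpecialLinearGroup (Fin n) F))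
    (g : SpecialLinearGroup (Fin n) F) (h : ∀ s ∈ A, g * s * g⁻¹ ∈ A) :
    (pr g : ProjectiveSpecialLinearGroup (Fin n) F) ∈
      Subgroup.normalizer ((A.map pr : Subgroup (ProjectiveSpecialLinearGroup (Fin n) F)) :
        Set (ProjectiveSpecialLinearGroup (Fin n) F)) := by
  apply mem_normalizer_of_conj_mem
  rintro x ⟨s, hs, rfl⟩
  rw [← map_inv, ← map_mul, ← map_mul]
  exact Subgroup.mem_map_of_mem _ (h s hs)

/-- commuting images of unitriangular matrices commute -/
theorem comm_of_pr_comm (hn : 2 ≤ n) {u w : SpecialLinearGroup (Fin n) F} (hu : u ∈ UT)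
    (hw : w ∈ UT)
    (h : (pr w : ProjectiveSpecialLinearGroup (Fin n) F) * pr u = pr u * pr w) :
    w * u = u * w := by
  rw [← map_mul, ← map_mul] at h
  obtain ⟨r, -, hr⟩ := (mk_eq_mk_iff (w * u) (u * w)).1 h
  have hwu : IsUT ((w * u : SpecialLinearGroup (Fin n) F) : Matrix (Fin n) (Fin n) F) :=
    UT.mul_mem hw hu
  have huw : IsUT ((u * w : SpecialLinearGroup (Fin n) F) : Matrix (Fin n) (Fin n) F) :=
    UT.mul_mem hu hw
  have h4 := congrFun (congrFun hr (i0 hn)) (i0 hn)
  rw [Matrix.smul_apply, huw.2, hwu.2, smul_eq_mul, mul_one] at h4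
  rw [← h4, one_smul] at hr
  exact Subtype.ext hr.symm

theorem PA_le_UTbar (hn : 2 ≤ n) :
    (PA (Pi.single (i0 hn) (1 : F)) : Subgroup (ProjectiveSpecialLinearGroup (Fin n) F)) ≤ UTbar :=
  Subgroup.map_mono (Av_le_UT hn)

theorem PH_le_UTbar (hn : 2 ≤ n) :
    (PH (Pi.single (il hn) (1 : F)) : Subgroup (ProjectiveSpecialLinearGroup (Fin n) F)) ≤ UTbar :=
  Subgroup.map_mono (Ah_le_UT hn)

theorem UTbar_le_normalizer_PA (hn : 2 ≤ n) :
    (UTbar : Subgroup (ProjectiveSpecialLinearGroup (Fin n) F)) ≤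
      Subgroup.normalizer ((PA (Pi.single (i0 hn) (1 : F)) :
        Subgroup (ProjectiveSpecialLinearGroup (Fin n) F)) :
          Set (ProjectiveSpecialLinearGroup (Fin n) F)) := by
  rintro x ⟨w, hw, rfl⟩
  apply pr_mem_normalizer_map
  intro s hs
  exact conj_mem_Av w (IsUT.mulVec_single_zero hn hw) hs

theorem UTbar_le_normalizer_PH (hn : 2 ≤ n) :
    (UTbar : Subgroup (ProjectiveSpecialLinearGroup (Fin n) F)) ≤
      Subgroup.normalizer ((PH (Pi.single (il hn) (1 : F)) :
        Subgroup (ProjectiveSpecialLinearGroup (Fin n) F)) :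
          Set (ProjectiveSpecialLinearGroup (Fin n) F)) := by
  rintro x ⟨w, hw, rfl⟩
  apply pr_mem_normalizer_map
  intro s hs
  exact conj_mem_Ah w (IsUT.single_vecMul_last hn hw) hs

theorem el_mem_Av (hn : 2 ≤ n) (j : Fin n) (hj : i0 hn ≠ j) (c : F) :
    el (i0 hn) j hj c ∈ Av (Pi.single (i0 hn) (1 : F)) :=
  ⟨c • Pi.single j 1, single_dot_single hj c, el_coe _ _ _ _⟩

theorem el_mem_Ah (hn : 2 ≤ n) (i : Fin n) (hi : i ≠ il hn) (c : F) :
    el i (il hn) hi c ∈ Ah (Pi.single (il hn) (1 : F)) := by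
  refine ⟨c • Pi.single i 1, ?_, ?_⟩
  · rw [dotProduct_smul, single_dotProduct, Pi.single_apply, if_neg (Ne.symm hi), mul_zero,
      smul_zero]
  · rw [el_coe, tm_smul_comm]

theorem centralizer_PA_le (hn : 2 ≤ n) :
    Subgroup.centralizer ((PA (Pi.single (i0 hn) (1 : F)) :
        Subgroup (ProjectiveSpecialLinearGroup (Fin n) F)) :
          Set (ProjectiveSpecialLinearGroup (Fin n) F)) ⊓ UTbar ≤
      PA (Pi.single (i0 hn) (1 : F)) := by
  rintro x ⟨hxc, u, hu, rfl⟩
  apply Subgroup.mem_map_of_mem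
  apply mem_Av_of_comm hn hu
  intro j hj
  have hmem : (pr (el (i0 hn) j hj (1 : F)) : ProjectiveSpecialLinearGroup (Fin n) F) ∈
      PA (Pi.single (i0 hn) (1 : F)) := Subgroup.mem_map_of_mem _ (el_mem_Av hn j hj 1)
  have hc := Subgroup.mem_centralizer_iff.1 hxc _ hmem
  have hlt : i0 hn < j := by
    rw [Fin.lt_def]
    have : (j : ℕ) ≠ 0 := fun h => hj (Fin.ext h.symm)
    show 0 < (j : ℕ)
    omega
  exact (comm_of_pr_comm hn hu (el_mem_UT hlt 1) hc).symm

theorem centralizer_PH_le (hn : 2 ≤ n) :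
    Subgroup.centralizer ((PH (Pi.single (il hn) (1 : F)) :
        Subgroup (ProjectiveSpecialLinearGroup (Fin n) F)) :
          Set (ProjectiveSpecialLinearGroup (Fin n) F)) ⊓ UTbar ≤
      PH (Pi.single (il hn) (1 : F)) := by
  rintro x ⟨hxc, u, hu, rfl⟩
  apply Subgroup.mem_map_of_mem
  apply mem_Ah_of_comm hn hu
  intro i hi
  have hmem : (pr (el i (il hn) hi (1 : F)) : ProjectiveSpecialLinearGroup (Fin n) F) ∈
      PH (Pi.single (il hn) (1 : F)) := Subgroup.mem_map_of_mem _ (el_mem_Ah hn i hi 1)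
  have hc := Subgroup.mem_centralizer_iff.1 hxc _ hmem
  have hlt : i < il hn := by
    rw [Fin.lt_def]
    have : (i : ℕ) ≠ n - 1 := fun h => hi (Fin.ext h)
    show (i : ℕ) < n - 1
    have := i.2
    omega
  exact (comm_of_pr_comm hn hu (el_mem_UT hlt 1) hc).symm

section transv

omit [Fintype F] in
theorem tm_pow (v φ : Fin n → F) (h : φ ⬝ᵥ v = 0) (m : ℕ) : tm v φ ^ m = tm v (m • φ) := by
  induction m with
  | zero => rw [pow_zero, zero_smul, tm_zero_right]
  | succ m ih =>
    rw [pow_succ, ih, tm_mul_right _ _ _ (by rw [smul_dotProduct, h, smul_zero]), succ_nsmul]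

variable {p : ℕ} [Fact p.Prime] [CharP F p]

theorem orderOf_pr_transvection (p : ℕ) [Fact p.Prime] [CharP F p] {i j : Fin n} (hij : i ≠ j)
    (c : F) : ∃ k : ℕ, orderOf (pr (SpecialLinearGroup.transvection hij c) :
      ProjectiveSpecialLinearGroup (Fin n) F) = p ^ k := by
  have h1 : (SpecialLinearGroup.transvection hij c : SpecialLinearGroup (Fin n) F) ^ p = 1 := by
    apply Subtype.ext
    rw [Matrix.SpecialLinearGroup.coe_pow, transvection_coe_eq_tm, tm_pow]
    · have : (p • (Pi.single j c : Fin n → F)) = 0 := by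
        rw [← Nat.cast_smul_eq_nsmul F, CharP.cast_eq_zero, zero_smul]
      rw [this, tm_zero_right]
      rfl
    · rw [single_dotProduct, Pi.single_apply, if_neg hij.symm, mul_zero]
  have h2 : (pr (SpecialLinearGroup.transvection hij c) :
      ProjectiveSpecialLinearGroup (Fin n) F) ^ p = 1 := by
    rw [← map_pow, h1, map_one]
  have hdvd := orderOf_dvd_of_pow_eq_one h2
  rcases (Nat.dvd_prime (Fact.out : p.Prime)).1 hdvd with h | h
  · exact ⟨0, by rw [h, pow_zero]⟩
  · exact ⟨1, by rw [h, pow_one]⟩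

omit [Fintype F] in
theorem transvection_mulVec_single {i j k : Fin n} (hij : i ≠ j) (hjk : j ≠ k) (c : F) :
    ((SpecialLinearGroup.transvection hij c : SpecialLinearGroup (Fin n) F) :
      Matrix (Fin n) (Fin n) F) *ᵥ Pi.single k 1 = Pi.single k 1 := by
  rw [transvection_coe_eq_tm, tm_mulVec, single_dotProduct, Pi.single_apply, if_neg hjk,
    mul_zero, zero_smul, add_zero]

omit [Fintype F] in
theorem single_vecMul_transvection {i j k : Fin n} (hij : i ≠ j) (hik : i ≠ k) (c : F) :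
    Pi.single k 1 ᵥ* ((SpecialLinearGroup.transvection hij c : SpecialLinearGroup (Fin n) F) :
      Matrix (Fin n) (Fin n) F) = Pi.single k 1 := by
  rw [transvection_coe_eq_tm, vecMul_tm, single_dotProduct, Pi.single_apply, if_neg hik.symm,
    mul_zero, zero_smul, add_zero]

theorem pr_transvection_mem_normalizer_PA (hn : 2 ≤ n) {i j : Fin n} (hij : i ≠ j)
    (hj : j ≠ i0 hn) (c : F) :
    (pr (SpecialLinearGroup.transvection hij c) : ProjectiveSpecialLinearGroup (Fin n) F) ∈
      Subgroup.normalizer ((PA (Pi.single (i0 hn) (1 : F)) :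
        Subgroup (ProjectiveSpecialLinearGroup (Fin n) F)) :
          Set (ProjectiveSpecialLinearGroup (Fin n) F)) := by
  apply pr_mem_normalizer_map
  intro s hs
  exact conj_mem_Av _ (transvection_mulVec_single hij hj c) hs

theorem pr_transvection_mem_normalizer_PH (hn : 2 ≤ n) {i j : Fin n} (hij : i ≠ j)
    (hi : i ≠ il hn) (c : F) :
    (pr (SpecialLinearGroup.transvection hij c) : ProjectiveSpecialLinearGroup (Fin n) F) ∈
      Subgroup.normalizer ((PH (Pi.single (il hn) (1 : F)) :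
        Subgroup (ProjectiveSpecialLinearGroup (Fin n) F)) :
          Set (ProjectiveSpecialLinearGroup (Fin n) F)) := by
  apply pr_mem_normalizer_map
  intro s hs
  exact conj_mem_Ah _ (single_vecMul_transvection hij hi c) hs

end transv

end Cfsg.Agent.Lib.H25.PSLn
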