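import Mathlib
import Cfsg.Agent.Lib.H25.PSLnC

set_option autoImplicit false

/-!
# The `p`-fusion system of `PSL_n(F)`, `n ≥ 3`, in characteristic `p` is simple (helper25)
-/

namespace Cfsg.Agent.Lib.H25.PSLn

open Matrix Cfsg.Agent.Lib.H13.AutPSL Cfsg.Agent.Lib.H25.LieCrit

variable {n : ℕ} {F : Type*} [Field F] [Fintype F]

theorem im_ne_i0 (hn : 3 ≤ n) : im hn ≠ i0 (by omega : 2 ≤ n) := (i0_ne_im hn).symm

/-- The images of the rank one diagonal elements are good generators. -/
theorem pr_diag2n_good (p : ℕ) [Fact p.Prime] [CharP F p] (hn : 3 ≤ n) (i : Fin n)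
    (hi : i ≠ im hn) (a : F) (ha : a ≠ 0) :
    GoodElt p (UTbar : Subgroup (ProjectiveSpecialLinearGroup (Fin n) F))
      (pr (SpecialLinearGroup.diag2n hi a ha)) := by
  have hn2 : 2 ≤ n := by omega
  right; right
  refine ⟨?_, ?_⟩
  · apply pr_mem_normalizer_map
    intro u hu
    exact diag_conj_UT (fun k => if k = i then a else if k = im hn then a⁻¹ else 1)
      (SpecialLinearGroup.diag2n hi a ha).2 u hu
  · have hdec := Cfsg.Agent.Lib.H2.diag2n_decompose hi a ha
    by_cases hi0 : i = i0 hn2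
    · refine ⟨PH (Pi.single (il hn2) (1 : F)), PH_le_UTbar hn2, UTbar_le_normalizer_PH hn2,
        centralizer_PH_le hn2, ?_⟩
      have hil : i ≠ il hn2 := by rw [hi0]; exact i0_ne_il hn2
      have t1 : ∀ c : F, (pr (SpecialLinearGroup.transvection hi c) :
          ProjectiveSpecialLinearGroup (Fin n) F) ∈ Subgroup.closure
            {x | x ∈ Subgroup.normalizer ((PH (Pi.single (il hn2) (1 : F)) :
              Subgroup (ProjectiveSpecialLinearGroup (Fin n) F)) :
                Set (ProjectiveSpecialLinearGroup (Fin n) F)) ∧ ∃ k : ℕ, orderOf x = p ^ k} :=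
        fun c => Subgroup.subset_closure
          ⟨pr_transvection_mem_normalizer_PH hn2 hi hil c, orderOf_pr_transvection p hi c⟩
      have t2 : ∀ c : F, (pr (SpecialLinearGroup.transvection hi.symm c) :
          ProjectiveSpecialLinearGroup (Fin n) F) ∈ Subgroup.closure
            {x | x ∈ Subgroup.normalizer ((PH (Pi.single (il hn2) (1 : F)) :
              Subgroup (ProjectiveSpecialLinearGroup (Fin n) F)) :
                Set (ProjectiveSpecialLinearGroup (Fin n) F)) ∧ ∃ k : ℕ, orderOf x = p ^ k} :=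
        fun c => Subgroup.subset_closure
          ⟨pr_transvection_mem_normalizer_PH hn2 hi.symm (im_ne_il hn) c,
            orderOf_pr_transvection p hi.symm c⟩
      rw [hdec]
      simp only [map_mul]
      exact Subgroup.mul_mem _ (Subgroup.mul_mem _ (Subgroup.mul_mem _ (Subgroup.mul_mem _
        (Subgroup.mul_mem _ (t1 _) (t2 _)) (t1 _)) (t1 _)) (t2 _)) (t1 _)
    · refine ⟨PA (Pi.single (i0 hn2) (1 : F)), PA_le_UTbar hn2, UTbar_le_normalizer_PA hn2,
        centralizer_PA_le hn2, ?_⟩
      have t1 : ∀ c : F, (pr (SpecialLinearGroup.transvection hi c) :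
          ProjectiveSpecialLinearGroup (Fin n) F) ∈ Subgroup.closure
            {x | x ∈ Subgroup.normalizer ((PA (Pi.single (i0 hn2) (1 : F)) :
              Subgroup (ProjectiveSpecialLinearGroup (Fin n) F)) :
                Set (ProjectiveSpecialLinearGroup (Fin n) F)) ∧ ∃ k : ℕ, orderOf x = p ^ k} :=
        fun c => Subgroup.subset_closure
          ⟨pr_transvection_mem_normalizer_PA hn2 hi (im_ne_i0 hn) c,
            orderOf_pr_transvection p hi c⟩
      have t2 : ∀ c : F, (pr (SpecialLinearGroup.transvection hi.symm c) :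
          ProjectiveSpecialLinearGroup (Fin n) F) ∈ Subgroup.closure
            {x | x ∈ Subgroup.normalizer ((PA (Pi.single (i0 hn2) (1 : F)) :
              Subgroup (ProjectiveSpecialLinearGroup (Fin n) F)) :
                Set (ProjectiveSpecialLinearGroup (Fin n) F)) ∧ ∃ k : ℕ, orderOf x = p ^ k} :=
        fun c => Subgroup.subset_closure
          ⟨pr_transvection_mem_normalizer_PA hn2 hi.symm hi0 c,
            orderOf_pr_transvection p hi.symm c⟩
      rw [hdec]
      simp only [map_mul]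
      exact Subgroup.mul_mem _ (Subgroup.mul_mem _ (Subgroup.mul_mem _ (Subgroup.mul_mem _
        (Subgroup.mul_mem _ (t1 _) (t2 _)) (t1 _)) (t1 _)) (t2 _)) (t1 _)

/-- An element of `SL_n` whose image normalizes `UTbar` conjugates `UT` into itself. -/
theorem conj_UT_of_pr_normalizer (p : ℕ) [Fact p.Prime] [CharP F p] (hn : 2 ≤ n)
    (g : SpecialLinearGroup (Fin n) F)
    (hg : (pr g : ProjectiveSpecialLinearGroup (Fin n) F) ∈ Subgroup.normalizer
      ((UTbar : Subgroup (ProjectiveSpecialLinearGroup (Fin n) F)) :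
        Set (ProjectiveSpecialLinearGroup (Fin n) F)))
    (u : SpecialLinearGroup (Fin n) F) (hu : u ∈ UT) : g * u * g⁻¹ ∈ UT := by
  have h1 : (pr (g * u * g⁻¹) : ProjectiveSpecialLinearGroup (Fin n) F) ∈ UTbar := by
    rw [map_mul, map_mul, map_inv]
    exact (Subgroup.mem_normalizer_iff.1 hg _).1 (Subgroup.mem_map_of_mem _ hu)
  obtain ⟨u', hu', hpr⟩ := Subgroup.mem_map.1 h1
  obtain ⟨r, -, hr⟩ := (mk_eq_mk_iff u' (g * u * g⁻¹)).1 hpr
  obtain ⟨k, hk⟩ := (isPGroup_UT (p := p) (n := n) (F := F)) ⟨u, hu⟩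
  have huk : u ^ p ^ k = 1 := by
    have := congrArg Subtype.val hk
    simpa using this
  have hvk : (g * u * g⁻¹) ^ p ^ k = 1 := by
    rw [conj_pow, huk]; group
  have hmat : ((g * u * g⁻¹ : SpecialLinearGroup (Fin n) F) : Matrix (Fin n) (Fin n) F) ^ p ^ k
      = 1 := by
    rw [← Matrix.SpecialLinearGroup.coe_pow, hvk, Matrix.SpecialLinearGroup.coe_one]
  rw [hr, smul_pow] at hmat
  have hu'k : IsUT ((u' : Matrix (Fin n) (Fin n) F) ^ p ^ k) := IsUT.pow hu' _
  have h00 := congrFun (congrFun hmat (i0 hn)) (i0 hn)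
  rw [Matrix.smul_apply, hu'k.2, Matrix.one_apply_eq, smul_eq_mul, mul_one] at h00
  have hr1 : r = 1 := by
    have h2 : (r - 1) ^ p ^ k = 0 := by
      rw [sub_pow_char_pow, one_pow, h00, sub_self]
    exact sub_eq_zero.1 ((pow_eq_zero_iff (pow_ne_zero k (Fact.out : p.Prime).ne_zero)).1 h2)
  rw [hr1, one_smul] at hr
  have : g * u * g⁻¹ = u' := Subtype.ext hr
  rw [this]
  exact hu'

/-- `N(UTbar)` is generated by good elements. -/
theorem normalizer_UTbar_le (p : ℕ) [Fact p.Prime] [CharP F p] (hn : 3 ≤ n) :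
    Subgroup.normalizer ((UTbar : Subgroup (ProjectiveSpecialLinearGroup (Fin n) F)) :
        Set (ProjectiveSpecialLinearGroup (Fin n) F)) ≤
      Subgroup.closure {h | GoodElt p
        (UTbar : Subgroup (ProjectiveSpecialLinearGroup (Fin n) F)) h} := by
  have hn2 : 2 ≤ n := by omega
  intro x hx
  obtain ⟨g, rfl⟩ := pr_surjective x
  have hup := upper_of_conj_UT g (conj_UT_of_pr_normalizer p hn2 g hx)
  obtain ⟨D, hD, u, hu, hgu⟩ := upper_decomp g hup
  rw [hgu, map_mul]
  apply Subgroup.mul_mem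
  · have e : dg D hD = (⟨Matrix.diagonal D, hD⟩ : SpecialLinearGroup (Fin n) F) := rfl
    rw [e, SpecialLinearGroup.diag_eq_diag2n_prod (im hn) D hD]
    show _ ∈ (Subgroup.closure {h | GoodElt p
        (UTbar : Subgroup (ProjectiveSpecialLinearGroup (Fin n) F)) h}).comap pr
    apply Subgroup.noncommProd_mem
    intro i _
    by_cases hi : i ≠ im hn
    · rw [dif_pos hi]
      exact Subgroup.subset_closure (pr_diag2n_good p hn i hi _ _)
    · rw [dif_neg hi]
      exact Subgroup.one_mem _
  · exact Subgroup.subset_closure (Or.inl (Subgroup.mem_map_of_mem _ hu))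

end Cfsg.Agent.Lib.H25.PSLn
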