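import Mathlib
import Cfsg.Agent.Lib.H25.SimpleCrit
import Cfsg.Agent.Lib.H6.QDF7
import Cfsg.Agent.S3116

set_option autoImplicit false

/-!
# Perfect groups with a quasi-dihedral Sylow 2-subgroup have a simple 2-fusion system (helper25)
-/

namespace Cfsg.Agent.Lib.H25.QDSimple

open Cfsg Cfsg.FusionSystem Cfsg.Agent.Lib.H25 Cfsg.Agent.Lib.H6 Cfsg.Agent.Lib.H6.QD
  Cfsg.Agent.Lib.H6.QDF

variable {G : Type*} [Group G] [Finite G]

/-- an element of order two exists in a nontrivial `2`-subgroup -/
theorem exists_involution_mem {T : Subgroup G} (hTp : IsPGroup 2 T) (hTb : T ≠ ⊥) :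
    ∃ t ∈ T, orderOf t = 2 := by
  haveI : Fact (Nat.Prime 2) := ⟨Nat.prime_two⟩
  have hTnt : Nontrivial T := (Subgroup.nontrivial_iff_ne_bot T).2 hTb
  obtain ⟨n, hn⟩ := hTp.exists_card_eq
  have hn0 : n ≠ 0 := by
    rintro rfl
    rw [pow_zero] at hn
    have := (Nat.card_eq_one_iff_unique.1 hn).1
    exact not_subsingleton T this
  have h2T : 2 ∣ Nat.card T := by rw [hn]; exact dvd_pow_self 2 hn0
  obtain ⟨t, ht⟩ := exists_prime_orderOf_dvd_card' 2 h2T
  exact ⟨t, t.2, by rw [Subgroup.orderOf_coe]; exact ht⟩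

theorem isSimple_of_quasiDihedral (S : Sylow 2 G)
    (hS : Cfsg.IsQuasiDihedral (S : Subgroup G)) (hperf : commutator G = ⊤) :
    (groupFusionSystem (S : Subgroup G)).IsSimple 2 := by
  haveI : Fact (Nat.Prime 2) := ⟨Nat.prime_two⟩
  obtain ⟨n, ⟨P⟩⟩ := QD.exists_pres hS
  have hz : IsConj (zG P) (yG P) := by
    by_contra h
    have := yG_not_mem_commutator P h
    rw [hperf] at this
    exact this (Subgroup.mem_top _)
  have ha : IsConj (aG P) (bG P) := by
    by_contra h
    have := bG_not_mem_commutator P h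
    rw [hperf] at this
    exact this (Subgroup.mem_top _)
  have hinv2 : ∀ g : G, orderOf g = 2 → IsConj g (zG P) := by
    intro g hg
    rcases isConj_of_orderOf_two P g hg with h | h
    · exact h
    · exact h.trans hz.symm
  have hinv4 : ∀ g : G, orderOf g = 4 → IsConj g (aG P) := by
    intro g hg
    rcases isConj_of_orderOf_four P g hg with h | h
    · exact h
    · exact h.trans ha.symm
  apply SimpleCrit.groupFusionSystem_isSimple S
  · intro h
    have hc := P.card
    rw [h, Subgroup.card_bot] at hc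
    have : 2 ≤ 2 ^ (n + 1) := by
      calc 2 = 2 ^ 1 := by norm_num
        _ ≤ 2 ^ (n + 1) := Nat.pow_le_pow_right (by norm_num) (by omega)
    omega
  · intro T hT
    by_cases hTb : T = ⊥
    · exact Or.inl hTb
    right
    apply le_antisymm hT.1
    obtain ⟨t, htT, ht2⟩ := exists_involution_mem (S.isPGroup'.to_le hT.1) hTb
    -- transfer of membership along conjugacy
    have hmem : ∀ u v : G, u ∈ T → IsConj u v → v ∈ (S : Subgroup G) → v ∈ T := by
      intro u v hu huv hv
      obtain ⟨c, hc⟩ := _root_.isConj_iff.1 huv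
      rw [← hc]
      apply hT.2 u hu c
      rw [hc]; exact hv
    have h2 : ∀ s : (S : Subgroup G), orderOf s = 2 → (s : G) ∈ T := by
      intro s hs
      have hs' : orderOf (s : G) = 2 := by rw [Subgroup.orderOf_coe]; exact hs
      exact hmem t s htT ((hinv2 t ht2).trans (hinv2 _ hs').symm) s.2
    have hSR_even : ∀ k : ZMod (2 ^ n), ((P.SR (2 * k) : (S : Subgroup G)) : G) ∈ T := by
      intro k
      apply h2
      rw [P.orderOf_eq_two_iff]
      right; exact ⟨k, rfl⟩
    -- `R 2 ∈ T`
    have hR2 : ((P.R 2 : (S : Subgroup G)) : G) ∈ T := by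
      have h0 := hSR_even 0
      have h1 := hSR_even 1
      rw [mul_zero] at h0
      rw [mul_one] at h1
      have : (P.R 2 : (S : Subgroup G)) = P.SR 2 * (P.SR 0)⁻¹ := by
        unfold QD.Pres.SR
        rw [P.R_zero, one_mul, mul_inv_cancel_right]
      rw [this, Subgroup.coe_mul, Subgroup.coe_inv]
      exact T.mul_mem h1 (T.inv_mem h0)
    -- an element of order four in `T`
    have haT : aG P ∈ T := by
      have hn3 := P.hn
      have : (P.R (qt n) : (S : Subgroup G)) = P.R 2 ^ (2 ^ (n - 3)) := by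
        rw [P.R_pow]
        congr 1
        unfold qt
        have : n - 2 = (n - 3) + 1 := by omega
        rw [this, pow_succ]
        push_cast
        ring
      unfold aG
      rw [this, Subgroup.coe_pow]
      exact T.pow_mem hR2 _
    have h4 : ∀ s : (S : Subgroup G), orderOf s = 4 → (s : G) ∈ T := by
      intro s hs
      have hs' : orderOf (s : G) = 4 := by rw [Subgroup.orderOf_coe]; exact hs
      exact hmem (aG P) s haT (hinv4 _ hs').symm s.2
    have hSR_odd : ∀ k : ZMod (2 ^ n), ((P.SR (2 * k + 1) : (S : Subgroup G)) : G) ∈ T := by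
      intro k
      apply h4
      rw [P.orderOf_eq_four_iff]
      right; right; exact ⟨k, rfl⟩
    have hSR : ∀ i : ZMod (2 ^ n), ((P.SR i : (S : Subgroup G)) : G) ∈ T := by
      intro i
      rcases even_or_odd i with ⟨k, rfl⟩ | ⟨k, rfl⟩
      · exact hSR_even k
      · exact hSR_odd k
    have hR : ∀ i : ZMod (2 ^ n), ((P.R i : (S : Subgroup G)) : G) ∈ T := by
      intro i
      have : (P.R i : (S : Subgroup G)) = P.SR i * (P.SR 0)⁻¹ := by
        unfold QD.Pres.SR
        rw [P.R_zero, one_mul, mul_inv_cancel_right]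
      rw [this, Subgroup.coe_mul, Subgroup.coe_inv]
      exact T.mul_mem (hSR i) (T.inv_mem (hSR 0))
    intro x hx
    rcases P.cases ⟨x, hx⟩ with ⟨i, hi⟩ | ⟨i, hi⟩
    · have := hR i
      rw [← hi] at this
      exact this
    · have := hSR i
      rw [← hi] at this
      exact this
  · exact Cfsg.Agent.S3116.result S.isPGroup' (Or.inr hS)

end Cfsg.Agent.Lib.H25.QDSimple
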