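import Mathlib
import Cfsg.Agent.Lib.H25.SimpleCrit
import Cfsg.Agent.Lib.H25.QDSimple
import Cfsg.Agent.Lib.H5.WreathedOddV
import Cfsg.Agent.Lib.H5.WreathedAut5
import Cfsg.Agent.Lib.H5.CentInv
import Cfsg.Agent.S1202
import Cfsg.Agent.S1208
import Cfsg.Agent.S1210
import Cfsg.Agent.S1211
import Cfsg.Agent.S1212

set_option autoImplicit false

/-!
# Groups with a wreathed Sylow 2-subgroup and no subgroup of index 2 have a simple 2-fusion
system (helper25)
-/

namespace Cfsg.Agent.Lib.H25.WrSimple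

open Subgroup Cfsg Cfsg.FusionSystem Cfsg.Agent.Lib.H25 Cfsg.Agent.Lib.H5 Cfsg.Agent.Lib.H5.Wr
  Cfsg.Agent.Lib.H5.WS Cfsg.Agent.Lib.H5.SD

/-- The automorphism group of a wreathed `2`-group is a `2`-group. -/
theorem wreathed_aut {S : Type*} [Group S] [Finite S] (hS : Cfsg.IsWreathed S) :
    IsPGroup 2 (MulAut S) := by
  have hS' := hS
  obtain ⟨n, -, hn, -⟩ := hS'
  have key : IsPGroup 2 (MulAut (⊤ : Subgroup S)) := by
    by_contra hA
    have h := (Cfsg.Agent.S1202.result hS n hn (⊤ : Subgroup S) le_top hA).1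
    rw [Subgroup.relIndex_top_left] at h
    omega
  exact key.of_equiv (MulAut.congr (Subgroup.topEquiv : (⊤ : Subgroup S) ≃* S))

variable {G : Type*} [Group G] [Finite G]

section Main

variable {S : Sylow 2 G} {n : ℕ} {x y z : ↥(S : Subgroup G)}
  (d : Gens ↥(S : Subgroup G) n x y z)

/-- the anti-diagonal elements `x^a y^(-a)` -/
theorem antidiag_key (g : G) (hg : g ∈ normalizer ((up d.base : Subgroup G) : Set G))
    (hodd : Odd (orderOf g)) (hgC : g ∉ centralizer ((up d.base : Subgroup G) : Set G))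
    (c e : ZMod (2 ^ n))
    (h : ((wp n x y c (-c) : ↥(S : Subgroup G)) : G) =
      g * ((wp n x y e (-e) : ↥(S : Subgroup G)) : G) * g⁻¹) : c = 0 := by
  have : Fact (Nat.Prime 2) := ⟨Nat.prime_two⟩
  by_contra hc
  set w : ↥(S : Subgroup G) := wp n x y c (-c) with hw
  set w' : ↥(S : Subgroup G) := wp n x y e (-e) with hw'
  have hw1 : w ≠ 1 := by
    rw [hw, Ne, d.wp_eq_one_iff]
    exact fun h => hc h.1
  obtain ⟨i, hi⟩ := (IsPGroup.iff_orderOf.mp S.isPGroup') w
  have hi0 : i ≠ 0 := by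
    rintro rfl
    rw [pow_zero, orderOf_eq_one_iff] at hi
    exact hw1 hi
  obtain ⟨j, rfl⟩ : ∃ j, i = j + 1 := ⟨i - 1, by omega⟩
  -- the involution
  have hv2 : (w ^ 2 ^ j) * (w ^ 2 ^ j) = 1 := by
    rw [← pow_two, ← pow_mul, ← pow_succ, ← hi, pow_orderOf_eq_one]
  have hv1 : w ^ 2 ^ j ≠ 1 := by
    apply pow_ne_one_of_lt_orderOf (by positivity)
    rw [hi]
    exact Nat.pow_lt_pow_right (by norm_num) (by omega)
  have h2hh := two_hh (n := n) d.hn1
  have hneg : -(hh n) = hh n := by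
    have : hh n + hh n = 0 := by rw [← two_mul]; exact h2hh
    exact neg_eq_of_add_eq_zero_left this
  -- an anti-diagonal involution is `zeta`
  have hanti : ∀ a : ZMod (2 ^ n), wp n x y a (-a) * wp n x y a (-a) = 1 →
      wp n x y a (-a) ≠ 1 → wp n x y a (-a) = wp n x y (hh n) (hh n) := by
    intro a hsq hne
    rw [← d.wp_add, d.wp_eq_one_iff] at hsq
    have h2a : 2 * a = 0 := by rw [two_mul]; exact hsq.1
    rcases two_torsion d.hn1 a h2a with h0 | h0
    · exfalso; apply hne; rw [h0, neg_zero, Gens.wp_zero]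
    · rw [h0, hneg]
  have hvz : w ^ 2 ^ j = wp n x y (hh n) (hh n) := by
    have e1 : w ^ 2 ^ j = wp n x y ((2 ^ j : ℕ) * c) (-((2 ^ j : ℕ) * c)) := by
      rw [hw, d.wp_pow]; congr 1; ring
    rw [e1] at hv2 hv1 ⊢
    exact hanti _ hv2 hv1
  have hv'eq : ((w ^ 2 ^ j : ↥(S : Subgroup G)) : G) =
      g * ((w' ^ 2 ^ j : ↥(S : Subgroup G)) : G) * g⁻¹ := by
    rw [Subgroup.coe_pow, Subgroup.coe_pow, h, conj_pow]
  have hv'2 : (w' ^ 2 ^ j) * (w' ^ 2 ^ j) = 1 := by
    apply Subtype.ext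
    have h3 := congrArg (fun t : ↥(S : Subgroup G) => (t : G)) hv2
    simp only [Subgroup.coe_mul, Subgroup.coe_one] at h3 ⊢
    rw [hv'eq] at h3
    have : g * (((w' ^ 2 ^ j : ↥(S : Subgroup G)) : G) * ((w' ^ 2 ^ j : ↥(S : Subgroup G)) : G)) * g⁻¹
        = 1 := by rw [← h3]; group
    have h4 : ((w' ^ 2 ^ j : ↥(S : Subgroup G)) : G) * ((w' ^ 2 ^ j : ↥(S : Subgroup G)) : G)
        = g⁻¹ * 1 * g := by rw [← this]; group
    rw [h4]; group
  have hv'1 : w' ^ 2 ^ j ≠ 1 := by
    intro h1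
    apply hv1
    apply Subtype.ext
    rw [hv'eq, h1]
    simp
  have hv'z : w' ^ 2 ^ j = wp n x y (hh n) (hh n) := by
    have e1 : w' ^ 2 ^ j = wp n x y ((2 ^ j : ℕ) * e) (-((2 ^ j : ℕ) * e)) := by
      rw [hw', d.wp_pow]; congr 1; ring
    rw [e1] at hv'2 hv'1 ⊢
    exact hanti _ hv'2 hv'1
  rw [hvz, hv'z] at hv'eq
  have hfix := base_odd_fix_free d g hg hodd hgC (zetaG d) (zetaG_mem d) hv'eq.symm
  have := orderOf_zetaG d
  rw [hfix, orderOf_one] at this
  omega

/-- The base group is generated by the anti-diagonal and its `g`-conjugate. -/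
theorem base_eq_prod (g : G) (hg : g ∈ normalizer ((up d.base : Subgroup G) : Set G))
    (hodd : Odd (orderOf g)) (hgC : g ∉ centralizer ((up d.base : Subgroup G) : Set G))
    (u : G) (hu : u ∈ up d.base) :
    ∃ a b : ZMod (2 ^ n), u = ((wp n x y a (-a) : ↥(S : Subgroup G)) : G) *
      (g * ((wp n x y b (-b) : ↥(S : Subgroup G)) : G) * g⁻¹) := by
  have : NeZero (2 ^ n) := ⟨by positivity⟩
  let φ : ZMod (2 ^ n) × ZMod (2 ^ n) → ↥(up d.base : Subgroup G) := fun p =>
    ⟨((wp n x y p.1 (-p.1) : ↥(S : Subgroup G)) : G) *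
      (g * ((wp n x y p.2 (-p.2) : ↥(S : Subgroup G)) : G) * g⁻¹),
      mul_mem ⟨_, d.wp_mem_base _ _, rfl⟩
        ((mem_normalizer_iff.mp hg _).mp ⟨_, d.wp_mem_base _ _, rfl⟩)⟩
  have hinj : Function.Injective φ := by
    rintro ⟨a, b⟩ ⟨a', b'⟩ hab
    have h1 : ((wp n x y a (-a) : ↥(S : Subgroup G)) : G) *
        (g * ((wp n x y b (-b) : ↥(S : Subgroup G)) : G) * g⁻¹) =
        ((wp n x y a' (-a') : ↥(S : Subgroup G)) : G) *
        (g * ((wp n x y b' (-b') : ↥(S : Subgroup G)) : G) * g⁻¹) := congrArg Subtype.val hab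
    have h2 : ((wp n x y (a - a') (-(a - a')) : ↥(S : Subgroup G)) : G) =
        g * ((wp n x y (b' - b) (-(b' - b)) : ↥(S : Subgroup G)) : G) * g⁻¹ := by
      have e1 : (wp n x y (a - a') (-(a - a')) : ↥(S : Subgroup G)) =
          (wp n x y a' (-a'))⁻¹ * wp n x y a (-a) := by
        rw [← d.wp_neg, ← d.wp_add]; congr 1 <;> ring
      have e2 : (wp n x y (b' - b) (-(b' - b)) : ↥(S : Subgroup G)) =
          wp n x y b' (-b') * (wp n x y b (-b))⁻¹ := by
        rw [← d.wp_neg, ← d.wp_add]; congr 1 <;> ring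
      rw [e1, e2]
      simp only [Subgroup.coe_mul, Subgroup.coe_inv]
      calc ((wp n x y a' (-a') : ↥(S : Subgroup G)) : G)⁻¹ * ((wp n x y a (-a) : ↥(S : Subgroup G)) : G)
          = ((wp n x y a' (-a') : ↥(S : Subgroup G)) : G)⁻¹ *
            (((wp n x y a (-a) : ↥(S : Subgroup G)) : G) *
              (g * ((wp n x y b (-b) : ↥(S : Subgroup G)) : G) * g⁻¹)) *
            (g * ((wp n x y b (-b) : ↥(S : Subgroup G)) : G) * g⁻¹)⁻¹ := by group
        _ = ((wp n x y a' (-a') : ↥(S : Subgroup G)) : G)⁻¹ *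
            (((wp n x y a' (-a') : ↥(S : Subgroup G)) : G) *
              (g * ((wp n x y b' (-b') : ↥(S : Subgroup G)) : G) * g⁻¹)) *
            (g * ((wp n x y b (-b) : ↥(S : Subgroup G)) : G) * g⁻¹)⁻¹ := by rw [h1]
        _ = g * (((wp n x y b' (-b') : ↥(S : Subgroup G)) : G) *
            ((wp n x y b (-b) : ↥(S : Subgroup G)) : G)⁻¹) * g⁻¹ := by group
    have hc := antidiag_key d g hg hodd hgC _ _ h2
    rw [hc, neg_zero, Gens.wp_zero, Subgroup.coe_one] at h2
    have he : (wp n x y (b' - b) (-(b' - b)) : ↥(S : Subgroup G)) = 1 := by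
      apply Subtype.ext
      have : ((wp n x y (b' - b) (-(b' - b)) : ↥(S : Subgroup G)) : G) = g⁻¹ * 1 * g := by
        rw [h2]; group
      rw [this]; simp
    rw [d.wp_eq_one_iff] at he
    have ha : a = a' := sub_eq_zero.1 hc
    have hb : b = b' := (sub_eq_zero.1 he.1).symm
    rw [ha, hb]
  have hcard : Nat.card (ZMod (2 ^ n) × ZMod (2 ^ n)) = Nat.card ↥(up d.base : Subgroup G) := by
    rw [card_up, d.card_base, Nat.card_prod, Nat.card_zmod, two_mul, pow_add]
  have : Finite (ZMod (2 ^ n) × ZMod (2 ^ n)) := inferInstance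
  have hsurj : Function.Surjective φ :=
    (Function.Injective.bijective_of_nat_card_le hinj hcard.ge).2
  obtain ⟨⟨a, b⟩, hab⟩ := hsurj ⟨u, hu⟩
  exact ⟨a, b, (congrArg Subtype.val hab).symm⟩

end Main

theorem isSimple_of_wreathed (S : Sylow 2 G) (hS : Cfsg.IsWreathed (S : Subgroup G))
    (hidx : ∀ H : Subgroup G, H.index ≠ 2) :
    (groupFusionSystem (S : Subgroup G)).IsSimple 2 := by
  have : Fact (Nat.Prime 2) := ⟨Nat.prime_two⟩
  have hS' := hS
  obtain ⟨n, hn2, hn, -⟩ := hS'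
  obtain ⟨x, y, z, d⟩ := exists_gens' S hS n hn
  have hUS : up d.base ≤ (S : Subgroup G) := up_le _
  have hUab : IsMulCommutative (up d.base : Subgroup G) := by
    have := d.card_base_commutative
    exact Subgroup.map_isMulCommutative _ _
  have hUcard : Nat.card (up d.base : Subgroup G) = 2 ^ (2 * n) := by rw [card_up, d.card_base]
  have hαβ : hh n + 0 = hh n := add_zero _
  obtain ⟨eQ0⟩ := d.q8Sub_equiv (hh n) 0 hαβ
  have hQS : up (d.q8Sub (hh n) 0 hαβ) ≤ (S : Subgroup G) := up_le _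
  have eQ : (up (d.q8Sub (hh n) 0 hαβ) : Subgroup G) ≃* QuaternionGroup 2 :=
    (upEquiv _).symm.trans eQ0
  obtain ⟨h1, h2⟩ := Cfsg.Agent.S1208.result S hS n hn _ hUS hUab hUcard _ hQS eQ
  have hno : ∀ (K : Subgroup G), K.Normal → ∀ k : ℕ, k ≠ 0 → K.index ≠ 2 ^ k := by
    intro K hK k hk hKi
    obtain ⟨H, hH⟩ := CI.exists_index_two_of_normal K k hk hKi
    exact hidx H hH
  have h16 : (Subgroup.centralizer ((up d.base : Subgroup G) : Set G)).relIndex
      (Subgroup.normalizer ((up d.base : Subgroup G) : Set G)) = 6 := by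
    rcases h1 with h1 | h1
    · exfalso
      rcases h2 with h2 | h2
      · obtain ⟨⟨P, N, hN, hcompl⟩, -⟩ :=
          Cfsg.Agent.S1212.result S hS n hn _ hUS hUab hUcard _ hQS eQ h1 h2
        have hNi : N.index = Nat.card (P : Subgroup G) := hcompl.symm.index_eq_card
        have hPc : Nat.card (P : Subgroup G) = 2 ^ (2 * n + 1) := by
          rw [Nat.card_congr (Sylow.equiv P S).toEquiv]; exact hn
        exact hno N hN (2 * n + 1) (by omega) (hNi.trans hPc)
      · obtain ⟨⟨K, hK, hKi, -⟩, -⟩ :=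
          Cfsg.Agent.S1210.result S hS n hn _ hUS hUab hUcard _ hQS eQ h1 h2
        exact hno K hK n (by omega) hKi
    · exact h1
  have h26 := h2
  rcases h2 with h2 | h2
  · exfalso
    obtain ⟨⟨K, hK, hKi, -⟩, -⟩ :=
      Cfsg.Agent.S1211.result S hS n hn _ hUS hUab hUcard _ hQS eQ h16 h2
    exact hidx K hKi
  clear h26 h1
  -- the main case
  set Q : Subgroup G := up (d.q8Sub (hh n) 0 hαβ) with hQdef
  have hQ' : Nonempty (Q.subgroupOf (S : Subgroup G) ≃* QuaternionGroup 2) :=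
    ⟨(Subgroup.subgroupOfEquivOfLe hQS).trans eQ⟩
  have hG := d.good_of_quat _ hQ'
  have hV : Q ⊔ ((Subgroup.center (S : Subgroup G)).map (S : Subgroup G).subtype) =
      up (Q.subgroupOf (S : Subgroup G) ⊔ center ↥(S : Subgroup G)) := by
    rw [up_sup, up_subgroupOf hQS]
  rw [hV] at h2
  set X := Q.subgroupOf (S : Subgroup G) ⊔ center ↥(S : Subgroup G) with hX
  obtain ⟨g, hgN, hgodd, hgC⟩ := AZ.exists_odd_notMem_of_three_dvd
    (NC.normalizer_le_normalizer_centralizer (up d.base : Subgroup G)) (by rw [h16]; norm_num)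
  have hNM : normalizer ((up X : Subgroup G) : Set G) ≤
      normalizer ((up X ⊔ centralizer ((up X : Subgroup G) : Set G) : Subgroup G) : Set G) :=
    (le_inf (le_refl _) (NC.normalizer_le_normalizer_centralizer (up X))).trans
      (NC.normalizer_inf_le_normalizer_sup' (up X) _)
  obtain ⟨g', hg'N, hg'odd, hg'M⟩ := AZ.exists_odd_notMem_of_three_dvd hNM
    (by rw [h2]; norm_num)
  have hbz := isConj_b_zeta_of_odd d g hgN hgodd hgC
  have hbt := isConj_b_t_of_odd d hG g' hg'N hg'odd hg'M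
  have hallb : ∀ a : G, orderOf a = 2 → IsConj a (bG d) := by
    intro a ha
    rcases involution_cases d a ha with h | h | h
    · exact h
    · exact h.trans hbz.symm
    · exact h.trans hbt.symm
  apply SimpleCrit.groupFusionSystem_isSimple S
  · intro h
    have hc : Nat.card (S : Subgroup G) = 2 ^ (2 * n + 1) := hn
    rw [h, Subgroup.card_bot] at hc
    have : 2 ≤ 2 ^ (2 * n + 1) := by
      calc 2 = 2 ^ 1 := by norm_num
        _ ≤ 2 ^ (2 * n + 1) := Nat.pow_le_pow_right (by norm_num) (by omega)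
    omega
  · intro T hT
    by_cases hTb : T = ⊥
    · exact Or.inl hTb
    right
    apply le_antisymm hT.1
    obtain ⟨t, htT, ht2⟩ := QDSimple.exists_involution_mem (S.isPGroup'.to_le hT.1) hTb
    have hmem : ∀ u v : G, u ∈ T → IsConj u v → v ∈ (S : Subgroup G) → v ∈ T := by
      intro u v hu huv hv
      obtain ⟨c, hc⟩ := _root_.isConj_iff.1 huv
      rw [← hc]
      apply hT.2 u hu c
      rw [hc]; exact hv
    have hinv : ∀ s : ↥(S : Subgroup G), orderOf s = 2 → (s : G) ∈ T := by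
      intro s hs
      have hs' : orderOf (s : G) = 2 := by rw [Subgroup.orderOf_coe]; exact hs
      exact hmem t s htT ((hallb t ht2).trans (hallb _ hs').symm) s.2
    have hzT : (z : G) ∈ T := hinv z d.hz
    have hD : ∀ a : ZMod (2 ^ n), ((wp n x y a (-a) : ↥(S : Subgroup G)) : G) ∈ T := by
      intro a
      have h := hinv (wp n x y a (-a) * z) ((d.orderOf_eq_two_iff _).2 (Or.inr ⟨a, rfl⟩))
      have e1 : ((wp n x y a (-a) : ↥(S : Subgroup G)) : G) =
          ((wp n x y a (-a) * z : ↥(S : Subgroup G)) : G) * (z : G)⁻¹ := by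
        rw [Subgroup.coe_mul, mul_inv_cancel_right]
      rw [e1]
      exact T.mul_mem h (T.inv_mem hzT)
    have hUT : ∀ u : G, u ∈ (up d.base : Subgroup G) → u ∈ T := by
      intro u hu
      obtain ⟨a, b, rfl⟩ := base_eq_prod d g hgN hgodd hgC u hu
      apply T.mul_mem (hD a)
      apply hT.2 _ (hD b) g
      exact hUS ((mem_normalizer_iff.mp hgN _).mp ⟨_, d.wp_mem_base _ _, rfl⟩)
    intro s hs
    rcases d.cases ⟨s, hs⟩ with ⟨a, b, h⟩ | ⟨a, b, h⟩
    · have : s = ((wp n x y a b : ↥(S : Subgroup G)) : G) := congrArg Subtype.val h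
      rw [this]
      exact hUT _ ⟨_, d.wp_mem_base a b, rfl⟩
    · have : s = ((wp n x y a b : ↥(S : Subgroup G)) : G) * (z : G) := congrArg Subtype.val h
      rw [this]
      exact T.mul_mem (hUT _ ⟨_, d.wp_mem_base a b, rfl⟩) hzT
  · exact wreathed_aut hS

end Cfsg.Agent.Lib.H25.WrSimple
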