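import Mathlib
import Cfsg.Agent.Lib.H25.QDSimple
import Cfsg.Agent.Lib.H25.WrSimple

set_option autoImplicit false

/-!
# Transfer of Sylow 2-subgroups along homomorphisms with odd kernel and odd-index image,
and the simple-group packaging of the quasi-dihedral / wreathed criteria (helper25)
-/

namespace Cfsg.Agent.Lib.H25.SylowOdd

open Subgroup Cfsg Cfsg.FusionSystem

/-- If `f : H →* G` has a kernel of odd order and an image of odd index, then the Sylow
2-subgroups of `G` are isomorphic to the Sylow 2-subgroups of `H`. -/
theorem sylow_equiv_of_odd {H G : Type*} [Group H] [Group G] [Finite H] [Finite G]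
    (f : H →* G) (hker : Odd (Nat.card f.ker)) (hidx : Odd f.range.index)
    (P : Sylow 2 H) (S : Sylow 2 G) :
    Nonempty (↥(P : Subgroup H) ≃* ↥(S : Subgroup G)) := by
  have : Fact (Nat.Prime 2) := ⟨Nat.prime_two⟩
  -- `f` is injective on `P`
  have hdisj : (P : Subgroup H) ⊓ f.ker = ⊥ := by
    apply disjoint_iff.mp
    apply Subgroup.disjoint_of_coprime_natCard
    obtain ⟨k, hk⟩ := (IsPGroup.iff_card.mp P.isPGroup')
    rw [hk]
    exact (Nat.Coprime.pow_left k (Nat.coprime_two_left.mpr hker))
  have hinj : Function.Injective (f.comp (P : Subgroup H).subtype) := by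
    rw [← MonoidHom.ker_eq_bot_iff, eq_bot_iff]
    intro a ha
    rw [MonoidHom.mem_ker, MonoidHom.comp_apply] at ha
    have : (a : H) ∈ (P : Subgroup H) ⊓ f.ker := ⟨a.2, ha⟩
    rw [hdisj, Subgroup.mem_bot] at this
    exact Subtype.ext this
  -- the image of `P`
  have hrange : (f.comp (P : Subgroup H).subtype).range = (P : Subgroup H).map f := by
    rw [MonoidHom.range_comp, Subgroup.range_subtype]
  let e1 : ↥(P : Subgroup H) ≃* ↥((P : Subgroup H).map f) :=
    (MonoidHom.ofInjective hinj).trans (MulEquiv.subgroupCongr hrange)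
  have hcard : Nat.card ↥((P : Subgroup H).map f) = 2 ^ (Nat.card G).factorization 2 := by
    rw [← Nat.card_congr e1.toEquiv, P.card_eq_multiplicity]
    congr 1
    have h1 : Nat.card f.ker * Nat.card f.range = Nat.card H := by
      have := f.ker.card_mul_index
      rwa [Subgroup.index_ker] at this
    have h2 : Nat.card f.range * f.range.index = Nat.card G := f.range.card_mul_index
    have hk0 : Nat.card f.ker ≠ 0 := Nat.card_pos.ne'
    have hr0 : Nat.card f.range ≠ 0 := Nat.card_pos.ne'
    have hi0 : f.range.index ≠ 0 := Subgroup.index_ne_zero_of_finite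
    have hfk : (Nat.card f.ker).factorization 2 = 0 := by
      apply Nat.factorization_eq_zero_of_not_dvd
      intro h
      exact (Nat.not_even_iff_odd.mpr hker) (even_iff_two_dvd.mpr h)
    have hfi : (f.range.index).factorization 2 = 0 := by
      apply Nat.factorization_eq_zero_of_not_dvd
      intro h
      exact (Nat.not_even_iff_odd.mpr hidx) (even_iff_two_dvd.mpr h)
    rw [← h1, ← h2, Nat.factorization_mul hk0 hr0, Nat.factorization_mul hr0 hi0]
    simp only [Finsupp.coe_add, Pi.add_apply, hfk, hfi, zero_add, add_zero]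
  let Q : Sylow 2 G := Sylow.ofCard ((P : Subgroup H).map f) hcard
  exact ⟨e1.trans (Sylow.equiv Q S)⟩

/-- A simple group of order divisible by four is perfect and has no subgroup of index two. -/
theorem simple_perfect {G : Type*} [Group G] [Finite G] [IsSimpleGroup G]
    (h4 : 4 ∣ Nat.card G) : commutator G = ⊤ ∧ ∀ H : Subgroup G, H.index ≠ 2 := by
  have : Fact (Nat.Prime 2) := ⟨Nat.prime_two⟩
  have hcard2 : Nat.card G ≠ 2 := by
    intro h
    rw [h] at h4
    omega
  constructor
  · rcases (inferInstance : (commutator G).Normal).eq_bot_or_eq_top with h | h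
    · exfalso
      have hcen : Subgroup.center G = ⊤ := (commutator_eq_bot_iff_center_eq_top G).mp h
      have h2 : 2 ∣ Nat.card G := dvd_trans (by norm_num) h4
      obtain ⟨t, ht⟩ := exists_prime_orderOf_dvd_card' 2 h2
      have hN : (Subgroup.zpowers t).Normal := by
        constructor
        intro n hn g
        have : n ∈ Subgroup.center G := by rw [hcen]; exact Subgroup.mem_top _
        rw [Subgroup.mem_center_iff] at this
        rw [this g, mul_inv_cancel_right]
        exact hn
      rcases hN.eq_bot_or_eq_top with h' | h'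
      · rw [Subgroup.zpowers_eq_bot] at h'
        rw [h', orderOf_one] at ht
        omega
      · have := Nat.card_zpowers t
        rw [h', Subgroup.card_top, ht] at this
        exact hcard2 this
    · exact h
  · intro H hH
    have hN : H.Normal := Subgroup.normal_of_index_eq_two hH
    rcases hN.eq_bot_or_eq_top with h | h
    · rw [h, Subgroup.index_bot] at hH
      exact hcard2 hH
    · rw [h, Subgroup.index_top] at hH
      omega

/-- A finite simple group with quasi-dihedral or wreathed Sylow 2-subgroups has a simple
2-fusion system. -/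
theorem isSimple_of_simple {G : Type*} [Group G] [Finite G] [IsSimpleGroup G] (S : Sylow 2 G)
    (h : Cfsg.IsQuasiDihedral (S : Subgroup G) ∨ Cfsg.IsWreathed (S : Subgroup G)) :
    (groupFusionSystem (S : Subgroup G)).IsSimple 2 := by
  have h4 : 4 ∣ Nat.card G := by
    have hS : Nat.card (S : Subgroup G) ∣ Nat.card G := Subgroup.card_subgroup_dvd_card _
    refine dvd_trans ?_ hS
    rcases h with ⟨n, hn, hc, -⟩ | ⟨n, hn, hc, -⟩
    · rw [hc]
      exact pow_dvd_pow 2 (show 2 ≤ n + 1 by omega)
    · rw [hc]
      exact pow_dvd_pow 2 (show 2 ≤ 2 * n + 1 by omega)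
  obtain ⟨hperf, hidx⟩ := simple_perfect (G := G) h4
  rcases h with h | h
  · exact QDSimple.isSimple_of_quasiDihedral S h hperf
  · exact WrSimple.isSimple_of_wreathed S h hidx

end Cfsg.Agent.Lib.H25.SylowOdd
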