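import Mathlib
import Cfsg.Agent.Lib.H6.PSL3Inv
import Cfsg.Agent.Lib.H6.GU2Syl
import Cfsg.Agent.Lib.H2.Unitary4
import Cfsg.Agent.Lib.H2.Unitary6
import Cfsg.Agent.Lib.H12.SU3Count
import Cfsg.Agent.Lib.H11.UnitarySimple6
import Cfsg.Agent.Lib.H25.SylowOdd

set_option autoImplicit false

/-!
# The embedding `GU₂(q) → SU₃(q) → PSU₃(q)` and the Sylow 2-subgroups of `PSU₃(q)`, `q` odd
(helper25)
-/

namespace Cfsg.Agent.Lib.H25.PSU3Syl

open Matrix Cfsg Cfsg.Agent.Lib.H6.PSL3Inv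
open scoped MatrixGroups

variable {F : Type*} [Field F] [Fintype F] {q : ℕ}

theorem hermForm_three (u v : Fin 3 → F) :
    Cfsg.hermForm 3 F q u v = u 0 * v 0 ^ q +
      Cfsg.hermForm 2 F q (fun i : Fin 2 => u i.succ) (fun i : Fin 2 => v i.succ) := by
  unfold Cfsg.hermForm
  rw [Fin.sum_univ_succ]

theorem blk_mulVec_zero (d : F) (A : Matrix (Fin 2) (Fin 2) F) (u : Fin 3 → F) :
    (blk d A *ᵥ u) 0 = d * u 0 := by
  simp [blk, Matrix.mulVec, dotProduct, Fin.sum_univ_three]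

theorem blk_mulVec_succ (d : F) (A : Matrix (Fin 2) (Fin 2) F) (u : Fin 3 → F) :
    (fun i : Fin 2 => (blk d A *ᵥ u) i.succ) = A *ᵥ (fun i : Fin 2 => u i.succ) := by
  ext i
  fin_cases i <;>
    simp [blk, Matrix.mulVec, dotProduct, Fin.sum_univ_three, Fin.sum_univ_two]

theorem Phi_mem_SU (hF : Fintype.card F = q ^ 2) (A : GL (Fin 2) F) (hA : A ∈ Cfsg.GU 2 F q) :
    Phi F A ∈ Cfsg.SU 3 F q := by
  intro u v
  show Cfsg.hermForm 3 F q
    (((Phi F A : SpecialLinearGroup (Fin 3) F) : Matrix (Fin 3) (Fin 3) F) *ᵥ u)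
    (((Phi F A : SpecialLinearGroup (Fin 3) F) : Matrix (Fin 3) (Fin 3) F) *ᵥ v) = _
  rw [Phi_val, hermForm_three, hermForm_three, blk_mulVec_zero, blk_mulVec_zero,
    blk_mulVec_succ, blk_mulVec_succ]
  have h1 := (Cfsg.Agent.Lib.H2.Unitary.mem_GU_iff A).1 hA
    (fun i : Fin 2 => u i.succ) (fun i : Fin 2 => v i.succ)
  rw [h1]
  have h2 := Cfsg.Agent.Lib.H2.Unitary.det_norm hF A hA
  have h3 : ((A : Matrix (Fin 2) (Fin 2) F).det)⁻¹ * (((A : Matrix (Fin 2) (Fin 2) F).det)⁻¹) ^ q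
      = 1 := by
    rw [inv_pow, ← mul_inv, h2, inv_one]
  rw [mul_pow]
  linear_combination (u 0 * v 0 ^ q) * h3

/-- `GU₂(q) → SU₃(q)` -/
noncomputable def PhiU (hF : Fintype.card F = q ^ 2) : Cfsg.GU 2 F q →* Cfsg.SU 3 F q :=
  ((Phi F).comp (Cfsg.GU 2 F q).subtype).codRestrict (Cfsg.SU 3 F q)
    (fun A => Phi_mem_SU hF A.1 A.2)

theorem PhiU_injective (hF : Fintype.card F = q ^ 2) : Function.Injective (PhiU hF) := by
  intro A B h
  have h1 : Phi F A.1 = Phi F B.1 := congrArg Subtype.val h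
  exact Subtype.ext (Phi_injective h1)

/-- `GU₂(q) → PSU₃(q)` -/
noncomputable def PsiU (hF : Fintype.card F = q ^ 2) : Cfsg.GU 2 F q →* Cfsg.PSU 3 F q :=
  (QuotientGroup.mk' (Subgroup.center (Cfsg.SU 3 F q))).comp (PhiU hF)

theorem card_ker_dvd (hF : Fintype.card F = q ^ 2) :
    Nat.card (PsiU hF).ker ∣ Nat.card (Subgroup.center (Cfsg.SU 3 F q)) := by
  have hmem : ∀ a : (PsiU hF).ker, PhiU hF a.1 ∈ Subgroup.center (Cfsg.SU 3 F q) := by
    intro a
    have := a.2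
    rw [MonoidHom.mem_ker] at this
    exact (QuotientGroup.eq_one_iff _).mp this
  let f : (PsiU hF).ker →* Subgroup.center (Cfsg.SU 3 F q) :=
    ((PhiU hF).comp (PsiU hF).ker.subtype).codRestrict _ hmem
  apply Subgroup.card_dvd_of_injective f
  intro a b h
  have : PhiU hF a.1 = PhiU hF b.1 := congrArg Subtype.val h
  exact Subtype.ext (PhiU_injective hF this)

theorem card_center_dvd_three (hF : Fintype.card F = q ^ 2) :
    Nat.card (Subgroup.center (Cfsg.SU 3 F q)) ∣ 3 := by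
  rw [Cfsg.Agent.Lib.H2.Unitary.card_center_SU hF (by norm_num)]
  exact Nat.gcd_dvd_left _ _

theorem odd_of_dvd_three {k : ℕ} (h : k ∣ 3) : Odd k := by
  rcases (Nat.dvd_prime Nat.prime_three).mp h with h | h <;> rw [h] <;> decide

theorem ker_odd (hF : Fintype.card F = q ^ 2) : Odd (Nat.card (PsiU hF).ker) :=
  odd_of_dvd_three ((card_ker_dvd hF).trans (card_center_dvd_three hF))

theorem index_odd (hF : Fintype.card F = q ^ 2) (hq : Odd q) : Odd (PsiU hF).range.index := by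
  have hk := ker_odd hF
  have hz := odd_of_dvd_three (card_center_dvd_three hF)
  have h1 : Nat.card (PsiU hF).ker * Nat.card (PsiU hF).range = Nat.card (Cfsg.GU 2 F q) := by
    have := (PsiU hF).ker.card_mul_index
    rwa [Subgroup.index_ker] at this
  have h3 := (PsiU hF).range.card_mul_index
  have h4 := Subgroup.card_eq_card_quotient_mul_card_subgroup (Subgroup.center (Cfsg.SU 3 F q))
  have h5 := Cfsg.Agent.Lib.H12.SU3Inv.card_SU3 (F := F) hF
  have h6 := Cfsg.Agent.Lib.H6.GU2Syl.card_GU2 (F := F) hF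
  have hq2 := Cfsg.Agent.Lib.H2.Herm.two_le_q hF
  generalize Nat.card (PsiU hF).ker = k at *
  generalize Nat.card (PsiU hF).range = r at *
  generalize (PsiU hF).range.index = i at *
  generalize Nat.card (Subgroup.center (Cfsg.SU 3 F q)) = z at *
  generalize Nat.card (Cfsg.SU 3 F q ⧸ Subgroup.center (Cfsg.SU 3 F q)) = g at *
  generalize Nat.card (Cfsg.SU 3 F q) = s at *
  generalize Nat.card (Cfsg.GU 2 F q) = a at *
  obtain ⟨m, rfl⟩ : ∃ m, q = m + 1 := ⟨q - 1, by omega⟩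
  have hm : 0 < m := by omega
  have e1 : (m + 1) ^ 2 - 1 = m * (m + 2) := by
    have : (m + 1) ^ 2 = m * (m + 2) + 1 := by ring
    omega
  rw [e1] at h5 h6
  have key : ((m + 1) * (m + 2) * m * (m + 2)) * (i * z) =
      ((m + 1) * (m + 2) * m * (m + 2)) * (k * ((m + 1) ^ 2 * (m ^ 2 + m + 1))) := by
    have : i * z * a = k * s := by
      rw [h4, ← h3, ← h1]; ring
    rw [h5, h6] at this
    have e : (m + 1) * (m + 2) * m * (m + 2) * (i * z) =
        i * z * ((m + 1) * ((m + 1 + 1) * (m * (m + 2)))) := by ring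
    rw [e, this]; ring
  have hi : i * z = k * ((m + 1) ^ 2 * (m ^ 2 + m + 1)) :=
    Nat.eq_of_mul_eq_mul_left (by positivity) key
  have hmev : Even m := by
    have := hq
    rw [Nat.odd_add_one] at this
    exact Nat.not_odd_iff_even.mp this
  obtain ⟨j, rfl⟩ := hmev
  have hodd : Odd (i * z) := by
    rw [hi]
    apply Odd.mul hk
    apply Odd.mul
    · exact Odd.pow ⟨j, by ring⟩
    · exact ⟨2 * j ^ 2 + j, by ring⟩
  exact Nat.Odd.of_mul_left hodd

open Cfsg.FusionSystem in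
theorem psu3_isSimple (hF : Fintype.card F = q ^ 2) (hodd : q % 2 = 1)
    (S : Sylow 2 (Cfsg.PSU 3 F q)) :
    (Cfsg.groupFusionSystem (S : Subgroup (Cfsg.PSU 3 F q))).IsSimple 2 := by
  classical
  have : Fact (Nat.Prime 2) := ⟨Nat.prime_two⟩
  have hq : Odd q := Nat.odd_iff.mpr hodd
  have : IsSimpleGroup (Cfsg.PSU 3 F q) :=
    Cfsg.Agent.Lib.H11.USimple.psu_simple hF 3 (le_refl 3) (by omega)
  have : Finite (Cfsg.GU 2 F q) := inferInstance
  let P : Sylow 2 (Cfsg.GU 2 F q) := default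
  obtain ⟨e⟩ := Cfsg.Agent.Lib.H25.SylowOdd.sylow_equiv_of_odd
    (PsiU hF) (ker_odd hF) (index_odd hF hq) P S
  apply Cfsg.Agent.Lib.H25.SylowOdd.isSimple_of_simple S
  have hq4 : q % 4 = 1 ∨ q % 4 = 3 := by omega
  rcases hq4 with h | h
  · exact Or.inl (Cfsg.Agent.Lib.H5.CI.isQuasiDihedral_of_equiv e
      (Cfsg.Agent.Lib.H6.GU2Syl.qd_case hF hq P h))
  · exact Or.inr (Cfsg.Agent.Lib.H5.CI.isWreathed_of_equiv e
      (Cfsg.Agent.Lib.H6.GU2Syl.w_case hF hq P h))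

end Cfsg.Agent.Lib.H25.PSU3Syl
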