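import Mathlib
import Cfsg.Agent.Lib.H25.PSUI

set_option autoImplicit false
set_option linter.unusedSectionVars false

/-!
# The `p`-fusion system of `PSU_n(q)` in characteristic `p` is simple (helper25)
-/

namespace Cfsg.Agent.Lib.H25.PSU

open Matrix Cfsg.Agent.Lib.H13.AutPSU Cfsg.Agent.Lib.H25.LieCrit

variable {F : Type*} [Field F] [Fintype F] {n q : ℕ} {D : UF F q} {k r : ℕ}

section main

variable (p : ℕ) [Fact p.Prime] [CharP F p]

/-- the parameters of the rank one torus element -/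
theorem exists_params (b : Frame D n k r) (hr : r ≤ 1) (hk : 2 ≤ k) {t₂ : ↥(Cfsg.SU n F q)}
    (ht₂ : IsDg b t₂) (hfix : ∀ i, i ≠ i1 hk → sv t₂ (b.e i) = b.e i) {δ : F} (hδ0 : δ ≠ 0)
    (hδ : sv t₂ (b.e (i1 hk)) = δ • b.e (i1 hk)) :
    ∃ (ω : Fin n → F) (α β β₀ : F), HTrip D (b.e (i1 hk)) (b.f (i1 hk)) ω ∧
      (∀ i, H D (b.e i) ω = 0) ∧ (∀ i, H D (b.f i) ω = 0) ∧ (∀ j, ∃ c : F, b.w j = c • ω) ∧
      β ≠ 0 ∧ β₀ ≠ 0 ∧ ELOK D (b.e (i1 hk)) (α • ω) β ∧
      ELOK D (b.e (i1 hk)) ((0 : F) • ω) β₀ ∧ β / β₀ = δ := by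
  obtain ⟨a₀, ha₀, ha₀0⟩ := exists_skew_ne_zero D
  have hee : H D (b.e (i1 hk)) (b.e (i1 hk)) = 0 := b.ee _ _
  have hff : H D (b.f (i1 hk)) (b.f (i1 hk)) = 0 := b.ff _ _
  have hef : H D (b.e (i1 hk)) (b.f (i1 hk)) = 1 := by rw [b.ef, if_pos rfl]
  have hfe : H D (b.f (i1 hk)) (b.e (i1 hk)) = 1 := by rw [b.fe, if_pos rfl]
  have hdiv : δ * a₀ / a₀ = δ := by field_simp
  rcases Nat.lt_or_ge r 1 with hr0 | hr1
  · -- `r = 0`
    have hr0' : r = 0 := by omega
    subst hr0'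
    have htrip : HTrip D (b.e (i1 hk)) (b.f (i1 hk)) (0 : Fin n → F) :=
      ⟨hee, hff, hef, hfe, H_zero_left D _, H_zero_left D _⟩
    -- `δ` is fixed by `τ`
    have hτδ : D.τ δ = δ := by
      have hprod := IsDg.prod_eq_one b ht₂
      rw [Fintype.prod_sum_type, Fintype.prod_sum_type] at hprod
      have h1 : ∏ i : Fin k, cm b t₂ (Sum.inl i) (Sum.inl i) = δ := by
        rw [Finset.prod_eq_single (i1 hk)]
        · exact IsDg.cm_of_eigen b (a := Sum.inl (i1 hk)) hδ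
        · intro i _ hi
          exact IsDg.cm_of_eigen b (a := Sum.inl i) (d := 1) (by rw [fv_e, hfix i hi, one_smul])
        · intro h'; exact absurd (Finset.mem_univ _) h'
      have h2 : ∏ i : Fin k, cm b t₂ (Sum.inr (Sum.inr i)) (Sum.inr (Sum.inr i)) =
          (D.τ δ)⁻¹ := by
        rw [Finset.prod_eq_single (i1 hk)]
        · exact IsDg.cm_of_eigen b (a := Sum.inr (Sum.inr (i1 hk))) (IsDg.eigen_f b ht₂ hδ)
        · intro i _ hi
          have h3 := IsDg.eigen_f b ht₂ (i := i) (d := 1) (by rw [hfix i hi, one_smul])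
          rw [map_one, inv_one] at h3
          exact IsDg.cm_of_eigen b (a := Sum.inr (Sum.inr i)) h3
        · intro h'; exact absurd (Finset.mem_univ _) h'
      rw [h1, h2] at hprod
      simp only [Finset.univ_eq_empty, Finset.prod_empty, one_mul] at hprod
      have hτδ0 : D.τ δ ≠ 0 := (map_ne_zero D.τ).2 hδ0
      field_simp at hprod
      exact hprod.symm
    refine ⟨0, 0, δ * a₀, a₀, htrip, fun i => H_zero_right D _, fun i => H_zero_right D _,
      fun j => Fin.elim0 j, mul_ne_zero hδ0 ha₀0, ha₀0, ?_, ?_, hdiv⟩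
    · rw [htrip.elok_iff]
      have : D.τ a₀ = -a₀ := ha₀
      rw [map_mul, hτδ, this, H_zero_left]
      ring
    · rw [htrip.elok_iff]
      have : D.τ a₀ = -a₀ := ha₀
      rw [this, H_zero_left]
      ring
  · -- `r = 1`
    have hr1' : r = 1 := by omega
    subst hr1'
    have htrip : HTrip D (b.e (i1 hk)) (b.f (i1 hk)) (b.w 0) :=
      ⟨hee, hff, hef, hfe, b.we _ _, b.wf _ _⟩
    have hww : H D (b.w 0) (b.w 0) = 1 := by rw [b.ww, if_pos rfl]
    set β := δ * a₀ with hβ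
    have hcfix : D.τ (-(β + D.τ β)) = -(β + D.τ β) := by
      rw [map_neg, map_add, D.hτ2]
      ring
    obtain ⟨α, hα⟩ : ∃ α : F, α * D.τ α = -(β + D.τ β) := by
      by_cases hc : -(β + D.τ β) = 0
      · exact ⟨0, by rw [zero_mul, hc]⟩
      · exact D.nm_surj _ hcfix hc
    refine ⟨b.w 0, α, β, a₀, htrip, fun i => b.ew _ _, fun i => b.fw _ _, ?_,
      mul_ne_zero hδ0 ha₀0, ha₀0, ?_, ?_, hdiv⟩
    · intro j
      refine ⟨1, ?_⟩
      rw [one_smul, Subsingleton.elim j 0]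
    · rw [htrip.elok_iff, hww, hα]
      ring
    · rw [htrip.elok_iff]
      have : D.τ a₀ = -a₀ := ha₀
      rw [this, hww]
      ring

/-- diagonal elements are products of good elements -/
theorem isDg_good (b : Frame D n k r) (hr : r ≤ 1) (hn : 2 ≤ n) (hk : 2 ≤ k)
    {t : ↥(Cfsg.SU n F q)} (ht : IsDg b t) :
    (pr t : Cfsg.PSU n F q) ∈ Subgroup.closure {h | GoodElt p (Ubar b) h} := by
  have hk1 : 1 ≤ k := by omega
  have hex : ∀ i, ∃ d : F, sv t (b.e i) = d • b.e i := fun i => ht (Sum.inl i)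
  choose dE hdE using hex
  have hdE0 : ∀ i, dE i ≠ 0 := fun i => eigen_ne_zero (b.e_ne_zero i) (hdE i)
  set δ : F := ∏ i, dE i with hδdef
  have hδ0 : δ ≠ 0 := Finset.prod_ne_zero_iff.2 (fun i _ => hdE0 i)
  set x : Fin k → F := dE * Function.update (1 : Fin k → F) (i1 hk) δ⁻¹ with hx
  have hx1 : x (i1 hk) = dE (i1 hk) * δ⁻¹ := by
    rw [hx, Pi.mul_apply, Function.update_self]
  have hxi : ∀ i, i ≠ i1 hk → x i = dE i := by
    intro i hi
    rw [hx, Pi.mul_apply, Function.update_of_ne hi, Pi.one_apply, mul_one]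
  have hprod : ∏ i, x i = 1 := by
    rw [hx]
    simp only [Pi.mul_apply]
    rw [Finset.prod_mul_distrib, Finset.prod_update_of_mem (Finset.mem_univ _)]
    simp only [Pi.one_apply, Finset.prod_const_one, mul_one]
    exact mul_inv_cancel₀ hδ0
  have hdet : (Matrix.diagonal x).det = 1 := by rw [Matrix.det_diagonal, hprod]
  set γ : SpecialLinearGroup (Fin k) F := ⟨Matrix.diagonal x, hdet⟩ with hγ
  set t₁ := Lam b γ with ht₁
  have ht₁e : ∀ i, sv t₁ (b.e i) = x i • b.e i := by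
    intro i
    rw [ht₁, sv_Lam_e_single]
    show b.Be *ᵥ (Matrix.diagonal x *ᵥ Pi.single i 1) = _
    rw [Matrix.diagonal_mulVec_single, mul_one]
    have : (Pi.single i (x i) : Fin k → F) = x i • Pi.single i 1 := by
      ext j
      simp [Pi.single_apply]
    rw [this, mulVec_smul, b.Be_single]
  have ht₁Dg : IsDg b t₁ := by
    apply isDg_of_e b (fun i => ⟨x i, ht₁e i⟩)
    · intro i
      rw [ht₁, ← b.Bf_single i, sv_Lam_f]
      exact ⟨_, rfl⟩
    · intro j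
      exact ⟨1, by rw [ht₁, sv_Lam_w_single, one_smul]⟩
  set t₂ := t₁⁻¹ * t with ht₂
  have ht₂Dg : IsDg b t₂ := IsDg.mul b (IsDg.inv b ht₁Dg) ht
  have hx0 : ∀ i, x i ≠ 0 := fun i => eigen_ne_zero (b.e_ne_zero i) (ht₁e i)
  have ht₂e : ∀ i, sv t₂ (b.e i) = (dE i * (x i)⁻¹) • b.e i := by
    intro i
    rw [ht₂, sv_mul, hdE i, sv_smul, sv_inv_of_smul (hx0 i) (ht₁e i), smul_smul]
  have hfix : ∀ i, i ≠ i1 hk → sv t₂ (b.e i) = b.e i := by
    intro i hi
    rw [ht₂e i, hxi i hi, mul_inv_cancel₀ (hdE0 i), one_smul]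
  have hδ : sv t₂ (b.e (i1 hk)) = δ • b.e (i1 hk) := by
    rw [ht₂e, hx1]
    congr 1
    have := hdE0 (i1 hk)
    field_simp
  obtain ⟨ω, α, β, β₀, htrip, hωe, hωf, hw, hβ, hβ₀, hok, hok₀, hdiv⟩ :=
    exists_params b hr hk ht₂Dg hfix hδ0 hδ
  have hδ' : sv t₂ (b.e (i1 hk)) = (β / β₀) • b.e (i1 hk) := by rw [hdiv]; exact hδ
  have ht₂eq := dg_eq_hh b hr hk ht₂Dg hfix htrip hωe hωf hw hβ hβ₀ hok hok₀ hδ'
  have htt : t = t₁ * t₂ := by rw [ht₂]; group
  rw [htt, map_mul]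
  refine Subgroup.mul_mem _ ?_ ?_
  · apply Subgroup.subset_closure
    exact pr_Lam_good p b hr hn hk γ (fun u hu => IsDg.conj_mem_U b ht₁Dg hu)
  · apply Subgroup.subset_closure
    right; right
    refine ⟨pr_mem_normalizer_map (U b) _ (fun u hu => IsDg.conj_mem_U b ht₂Dg hu), P1 b hk1,
      Subgroup.map_mono (Qg_e0_le_U b hr hk1), Ubar_le_normalizer_P1 b hk1, ?_, ?_⟩
    · exact centric_map b hn hk1 (Qg_e0_le_U b hr hk1)
        (fun u hu h => centralizer_Qg b hk1 hu h)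
    · have h0e : H D (b.e (i0 hk1)) (b.e (i1 hk)) = 0 := b.ee _ _
      have h0f : H D (b.e (i0 hk1)) (b.f (i1 hk)) = 0 := by
        rw [b.ef, if_neg (i0_ne_i1 hk)]
      rw [ht₂eq, map_mul, map_inv]
      exact Subgroup.mul_mem _ (pr_nn_mem_closure p b hk1 htrip h0e h0f (hωe _) hβ hok)
        (Subgroup.inv_mem _ (pr_nn_mem_closure p b hk1 htrip h0e h0f (hωe _) hβ₀ hok₀))

/-- `N(Ubar)` is generated by good elements. -/
theorem normalizer_Ubar_le (b : Frame D n k r) (hr : r ≤ 1) (hn : 2 ≤ n) (hk : 2 ≤ k) :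
    Subgroup.normalizer ((Ubar b : Subgroup (Cfsg.PSU n F q)) : Set (Cfsg.PSU n F q)) ≤
      Subgroup.closure {h | GoodElt p (Ubar b) h} := by
  have hk1 : 1 ≤ k := by omega
  intro x hx
  obtain ⟨g, rfl⟩ := pr_surjective (n := n) (F := F) (q := q) x
  obtain ⟨u, hu, t, ht, hgu⟩ :=
    normalizer_U_decomp b hr g (conj_U_of_pr_normalizer b p hn hk1 g hx)
  rw [hgu, map_mul]
  refine Subgroup.mul_mem _ ?_ (isDg_good p b hr hn hk ht)
  exact Subgroup.subset_closure (Or.inl (Subgroup.mem_map_of_mem _ hu))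

/-- The `p`-fusion system of `PSU_n(q)` with respect to a frame is simple. -/
theorem psu_isSimple_of_frame (b : Frame D n k r) (hr : r ≤ 1) (hn : 2 ≤ n) (hk : 2 ≤ k)
    (S : Sylow p (Cfsg.PSU n F q)) :
    (Cfsg.groupFusionSystem (S : Subgroup (Cfsg.PSU n F q))).IsSimple p := by
  have hk1 : 1 ≤ k := by omega
  obtain ⟨g, hg⟩ := exists_conj_Ubar p b hr hk1 S
  have hS : (S : Subgroup (Cfsg.PSU n F q)) = Cfsg.Agent.Lib.H26.cj g (Ubar b) := by
    ext x
    rw [Cfsg.Agent.Lib.H26.mem_cj]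
    exact hg x
  refine isSimple_of_gen_conj S (Ubar b) g hS (Ubar_ne_bot b hr hn hk1) ?_
    (normalizer_Ubar_le p b hr hn hk)
  intro T hT
  by_cases hTb : T = ⊥
  · exact Or.inl hTb
  · exact Or.inr (stronglyClosed_Ubar b p hr hk T hT hTb)

end main

end Cfsg.Agent.Lib.H25.PSU
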