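import Mathlib
import Cfsg.Agent.Lib.H13.AutPSp1
import Cfsg.Agent.Lib.H2.SpPerfect

set_option autoImplicit false

/-!
# The unitriangular Sylow subgroup of `Sp_{2m}(F)` (helper25)

Coordinates: the basis is `e_i = bv (inl i)`, `f_i = bv (inr i)`, ordered
`e_0 < ... < e_{m-1} < f_{m-1} < ... < f_0` by the rank function `rk`.
-/

namespace Cfsg.Agent.Lib.H25.PSp

open Matrix Cfsg.Agent.Lib.H4 Cfsg.Agent.Lib.H2.Sp Cfsg.Agent.Lib.H13.AutPSp

variable {F : Type*} [Field F] {m : ℕ}

set_option quotPrecheck false in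
local notation "B" => Cfsg.sympForm m F

/-- standard basis vectors -/
def bv (k : K m) : K m → F := Pi.single k 1

theorem bv_apply (k j : K m) : (bv k : K m → F) j = if j = k then 1 else 0 := by
  unfold bv
  rw [Pi.single_apply]

theorem bv_self (k : K m) : (bv k : K m → F) k = 1 := by
  rw [bv_apply, if_pos rfl]

theorem bv_ne {k j : K m} (h : j ≠ k) : (bv k : K m → F) j = 0 := by
  rw [bv_apply, if_neg h]

/-- the involution `e_i ↔ f_i` on indices -/
def bar : K m → K m
  | Sum.inl i => Sum.inr i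
  | Sum.inr i => Sum.inl i

@[simp] theorem bar_inl (i : Fin m) : bar (Sum.inl i : K m) = Sum.inr i := rfl
@[simp] theorem bar_inr (i : Fin m) : bar (Sum.inr i : K m) = Sum.inl i := rfl

@[simp] theorem bar_bar (k : K m) : bar (bar k) = k := by
  rcases k with i | i <;> rfl

theorem bar_ne (k : K m) : bar k ≠ k := by
  rcases k with i | i <;> simp

theorem bar_injective : Function.Injective (bar : K m → K m) := by
  intro a b h
  rw [← bar_bar a, h, bar_bar]

theorem eq_bar_comm {a b : K m} : a = bar b ↔ b = bar a := by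
  constructor
  · intro h; rw [h, bar_bar]
  · intro h; rw [h, bar_bar]

/-- the sign: `-1` on the `e_i`, `1` on the `f_i` -/
def sg (F : Type*) [Field F] : K m → F
  | Sum.inl _ => -1
  | Sum.inr _ => 1

@[simp] theorem sg_inl (i : Fin m) : sg F (Sum.inl i : K m) = -1 := rfl
@[simp] theorem sg_inr (i : Fin m) : sg F (Sum.inr i : K m) = 1 := rfl

theorem sg_ne_zero (k : K m) : sg F k ≠ 0 := by
  rcases k with i | i <;> simp

theorem sg_mul_self (k : K m) : sg F k * sg F k = 1 := by
  rcases k with i | i <;> simp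

theorem sg_bar (k : K m) : sg F (bar k) = - sg F k := by
  rcases k with i | i <;> simp

/-- the rank of an index in the order `e_0 < ... < e_{m-1} < f_{m-1} < ... < f_0` -/
def rk : K m → ℕ
  | Sum.inl i => i.val
  | Sum.inr i => 2 * m - 1 - i.val

@[simp] theorem rk_inl (i : Fin m) : rk (Sum.inl i : K m) = i.val := rfl
@[simp] theorem rk_inr (i : Fin m) : rk (Sum.inr i : K m) = 2 * m - 1 - i.val := rfl

theorem rk_bar (k : K m) : rk (bar k) + rk k = 2 * m - 1 := by
  rcases k with i | i
  · have := i.2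
    simp only [bar_inl, rk_inr, rk_inl]
    omega
  · have := i.2
    simp only [bar_inr, rk_inr, rk_inl]
    omega

theorem rk_lt (k : K m) : rk k < 2 * m := by
  rcases k with i | i
  · have := i.2
    simp only [rk_inl]
    omega
  · have := i.2
    simp only [rk_inr]
    omega

theorem rk_injective : Function.Injective (rk : K m → ℕ) := by
  intro a b h
  rcases a with i | i <;> rcases b with j | j
  · simp only [rk_inl] at h
    rw [Fin.ext h]
  · have := i.2; have := j.2
    simp only [rk_inl, rk_inr] at h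
    omega
  · have := i.2; have := j.2
    simp only [rk_inl, rk_inr] at h
    omega
  · have := i.2; have := j.2
    simp only [rk_inr] at h
    have : i.val = j.val := by omega
    rw [Fin.ext this]

theorem rk_bar_lt {a b : K m} (h : rk a < rk b) : rk (bar b) < rk (bar a) := by
  have h1 := rk_bar a
  have h2 := rk_bar b
  omega

/-- entries of `J` -/
theorem J_apply (a b : K m) :
    Matrix.J (Fin m) F a b = if b = bar a then sg F a else 0 := by
  rcases a with i | i <;> rcases b with j | j
  · simp [Matrix.J]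
  · simp only [Matrix.J, Matrix.fromBlocks_apply₁₂, Matrix.neg_apply, Matrix.one_apply, bar_inl,
      sg_inl, Sum.inr.injEq]
    by_cases h : i = j
    · rw [if_pos h, if_pos h.symm]
    · rw [if_neg h, if_neg (Ne.symm h), neg_zero]
  · simp only [Matrix.J, Matrix.fromBlocks_apply₂₁, Matrix.one_apply, bar_inr, sg_inr,
      Sum.inl.injEq]
    by_cases h : i = j
    · rw [if_pos h, if_pos h.symm]
    · rw [if_neg h, if_neg (Ne.symm h)]
  · simp [Matrix.J]

theorem J_mulVec_apply (y : K m → F) (a : K m) :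
    (Matrix.J (Fin m) F *ᵥ y) a = sg F a * y (bar a) := by
  rw [Matrix.mulVec, dotProduct, Finset.sum_eq_single (bar a)]
  · rw [J_apply, if_pos rfl]
  · intro b _ hb
    rw [J_apply, if_neg hb, zero_mul]
  · intro h; exact absurd (Finset.mem_univ _) h

theorem B_eq_sum (x y : K m → F) : B x y = ∑ a, sg F a * x a * y (bar a) := by
  unfold Cfsg.sympForm
  rw [dotProduct]
  apply Finset.sum_congr rfl
  intro a _
  rw [J_mulVec_apply]
  ring

theorem B_bv_left (a : K m) (y : K m → F) : B (bv a) y = sg F a * y (bar a) := by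
  unfold Cfsg.sympForm bv
  rw [single_dotProduct, one_mul, J_mulVec_apply]

theorem B_bv_right (x : K m → F) (b : K m) : B x (bv b) = - (sg F b * x (bar b)) := by
  rw [sympForm_swap, B_bv_left]

theorem B_bv_bv (a b : K m) : B (bv a) (bv b) = if b = bar a then sg F a else 0 := by
  rw [B_bv_left, bv_apply]
  by_cases h : b = bar a
  · rw [if_pos h, if_pos h.symm, mul_one]
  · rw [if_neg h, if_neg (Ne.symm h), mul_zero]

/-- columns of the matrix of `s` -/
theorem sv_bv (s : SpG m F) (l j : K m) : sv s (bv l) j = mat s j l := by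
  unfold sv bv
  rw [Matrix.mulVec_single_one]
  rfl

theorem ext_bv {s t : SpG m F} (h : ∀ l, sv s (bv l) = sv t (bv l)) : s = t := by
  apply mat_injective
  ext j l
  rw [← sv_bv, ← sv_bv, h]

theorem sv_eq_sum (s : SpG m F) (x : K m → F) (j : K m) :
    sv s x j = ∑ l, mat s j l * x l := rfl

/-! ### Unitriangular matrices with respect to `rk` -/

/-- unitriangular with respect to the order given by `rk` -/
def IsUU (M : Matrix (K m) (K m) F) : Prop :=
  (∀ j l, rk l < rk j → M j l = 0) ∧ ∀ l, M l l = 1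

theorem isUU_one : IsUU (1 : Matrix (K m) (K m) F) := by
  refine ⟨fun j l h => Matrix.one_apply_ne ?_, fun l => Matrix.one_apply_eq l⟩
  rintro rfl
  exact lt_irrefl _ h

theorem IsUU.mul {M N : Matrix (K m) (K m) F} (hM : IsUU M) (hN : IsUU N) : IsUU (M * N) := by
  constructor
  · intro j l hjl
    rw [Matrix.mul_apply]
    apply Finset.sum_eq_zero
    intro k _
    by_cases hk : rk k < rk j
    · rw [hM.1 j k hk, zero_mul]
    · have : rk l < rk k := lt_of_lt_of_le hjl (not_lt.1 hk)
      rw [hN.1 k l this, mul_zero]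
  · intro l
    rw [Matrix.mul_apply, Finset.sum_eq_single l]
    · rw [hM.2, hN.2, one_mul]
    · intro k _ hk
      have hne : rk k ≠ rk l := fun h => hk (rk_injective h)
      rcases lt_or_gt_of_ne hne with h | h
      · rw [hM.1 l k h, zero_mul]
      · rw [hN.1 k l h, mul_zero]
    · intro h; exact absurd (Finset.mem_univ l) h

theorem IsUU.pow {M : Matrix (K m) (K m) F} (hM : IsUU M) (k : ℕ) : IsUU (M ^ k) := by
  induction k with
  | zero => rw [pow_zero]; exact isUU_one
  | succ k ih => rw [pow_succ]; exact ih.mul hM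

theorem mat_pow (s : SpG m F) (k : ℕ) : mat (s ^ k) = mat s ^ k := by
  induction k with
  | zero => rfl
  | succ k ih => rw [pow_succ, pow_succ, mat_mul, ih]

section fin

variable [Fintype F]

/-- the unitriangular subgroup of `Sp_{2m}(F)` -/
def U : Subgroup (SpG m F) where
  carrier := {s | IsUU (mat s)}
  mul_mem' := by
    intro s t hs ht
    show IsUU (mat (s * t))
    rw [mat_mul]
    exact IsUU.mul hs ht
  one_mem' := isUU_one
  inv_mem' := by
    intro s hs
    have h1 : s⁻¹ = s ^ (orderOf s - 1) := by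
      apply inv_eq_of_mul_eq_one_right
      rw [← pow_succ', Nat.sub_add_cancel (orderOf_pos s), pow_orderOf_eq_one]
    show IsUU (mat s⁻¹)
    rw [h1, mat_pow]
    exact IsUU.pow hs _

theorem mem_U {s : SpG m F} : s ∈ (U : Subgroup (SpG m F)) ↔ IsUU (mat s) := Iff.rfl

theorem mem_U_iff_sv {s : SpG m F} : s ∈ (U : Subgroup (SpG m F)) ↔
    ∀ l, (∀ j, rk l < rk j → sv s (bv l) j = 0) ∧ sv s (bv l) l = 1 := by
  rw [mem_U]
  constructor
  · intro h l
    refine ⟨fun j hj => ?_, ?_⟩
    · rw [sv_bv]; exact h.1 j l hj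
    · rw [sv_bv]; exact h.2 l
  · intro h
    refine ⟨fun j l hj => ?_, fun l => ?_⟩
    · rw [← sv_bv]; exact (h l).1 j hj
    · rw [← sv_bv]; exact (h l).2

/-- a product `x (bar l) * y j` vanishes when the supports are small -/
theorem supp_mul_eq_zero {x y : K m → F} {a b : ℕ} (hx : ∀ j, x j ≠ 0 → rk j ≤ a)
    (hy : ∀ j, y j ≠ 0 → rk j ≤ b) (hab : a + b + 1 < 2 * m) {l j : K m} (hlj : rk l ≤ rk j) :
    x (bar l) * y j = 0 := by
  by_contra h
  have h1 := hx _ (left_ne_zero_of_mul h)
  have h2 := hy _ (right_ne_zero_of_mul h)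
  have h3 := rk_bar l
  omega

/-- a criterion for Eichler transformations to lie in `U` -/
theorem EL_mem_U {e w : K m → F} (hw : B w e = 0) (b : F) (α β : ℕ)
    (he : ∀ j, e j ≠ 0 → rk j ≤ α) (hwβ : ∀ j, w j ≠ 0 → rk j ≤ β)
    (hαβ : α + β + 1 < 2 * m) (hb : b = 0 ∨ 2 * α + 1 < 2 * m) :
    EL e w b ∈ (U : Subgroup (SpG m F)) := by
  rw [mem_U_iff_sv]
  intro l
  have key : ∀ j, rk l ≤ rk j → sv (EL e w b) (bv l) j = (bv l : K m → F) j := by
    intro j hlj
    rw [sv_EL hw]
    simp only [Pi.add_apply, Pi.smul_apply, smul_eq_mul, B_bv_left]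
    have h1 : e (bar l) * w j = 0 := supp_mul_eq_zero he hwβ hαβ hlj
    have h2 : w (bar l) * e j = 0 := supp_mul_eq_zero hwβ he (by omega) hlj
    have h3 : b * (e (bar l) * e j) = 0 := by
      rcases hb with hb | hb
      · rw [hb, zero_mul]
      · rw [supp_mul_eq_zero he he (by omega) hlj, mul_zero]
    linear_combination sg F l * h1 + sg F l * h2 + sg F l * h3
  refine ⟨fun j hj => ?_, ?_⟩
  · rw [key j (le_of_lt hj), bv_ne]
    rintro rfl
    exact lt_irrefl _ hj
  · rw [key l le_rfl, bv_self]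

theorem tv_mem_U {e : K m → F} (c : F) (α : ℕ) (he : ∀ j, e j ≠ 0 → rk j ≤ α)
    (hα : 2 * α + 1 < 2 * m) : tv m e c ∈ (U : Subgroup (SpG m F)) := by
  rw [← EL_zero_left]
  exact EL_mem_U (B_zero_left e) c α 0 he (fun j h => absurd rfl h) (by omega) (Or.inr hα)

/-! ### `U` is a `p`-group -/

theorem IsUU.sub_one_pow {M : Matrix (K m) (K m) F} (hM : IsUU M) (r : ℕ) :
    ∀ j l, rk l < rk j + r → ((M - 1) ^ r) j l = 0 := by
  induction r with
  | zero =>
    intro j l h
    rw [pow_zero, Matrix.one_apply_ne]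
    rintro rfl
    omega
  | succ r ih =>
    intro j l h
    rw [pow_succ, Matrix.mul_apply]
    apply Finset.sum_eq_zero
    intro a _
    by_cases ha : rk a < rk j + r
    · rw [ih j a ha, zero_mul]
    · have hla : rk l ≤ rk a := by omega
      rw [Matrix.sub_apply]
      rcases lt_or_eq_of_le hla with h1 | h1
      · rw [hM.1 a l h1, Matrix.one_apply_ne, sub_zero, mul_zero]
        rintro rfl
        exact lt_irrefl _ h1
      · have : l = a := rk_injective h1
        subst this
        rw [hM.2, Matrix.one_apply_eq, sub_self, mul_zero]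

theorem IsUU.sub_one_pow_eq_zero {M : Matrix (K m) (K m) F} (hM : IsUU M) {r : ℕ}
    (hr : 2 * m ≤ r) : (M - 1) ^ r = 0 := by
  ext j l
  rw [hM.sub_one_pow r j l (by have := rk_lt l; omega), Matrix.zero_apply]

theorem isPGroup_U (p : ℕ) [Fact p.Prime] [CharP F p] (hm : 1 ≤ m) :
    IsPGroup p (U : Subgroup (SpG m F)) := by
  have : Nonempty (K m) := ⟨Sum.inl ⟨0, hm⟩⟩
  rintro ⟨s, hs⟩
  refine ⟨2 * m, ?_⟩
  apply Subtype.ext
  rw [Subgroup.coe_pow]
  show s ^ p ^ (2 * m) = 1
  apply mat_injective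
  rw [mat_pow, mat_one]
  have hp : 2 * m ≤ p ^ (2 * m) := by
    have h2 : 2 ≤ p := (Fact.out : p.Prime).two_le
    calc 2 * m ≤ 2 ^ (2 * m) := Nat.le_of_lt (Nat.lt_two_pow_self)
      _ ≤ p ^ (2 * m) := Nat.pow_le_pow_left h2 _
  have h1 : mat s = (mat s - 1) + 1 := by rw [sub_add_cancel]
  rw [h1, add_pow_char_pow_of_commute p (2 * m) (Commute.one_right _), one_pow,
    (mem_U.1 hs).sub_one_pow_eq_zero hp, zero_add]

end fin

end Cfsg.Agent.Lib.H25.PSp
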