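import Mathlib
import Cfsg.Agent.Lib.H25.PSpA
import Cfsg.Agent.Lib.H12.SylLargeSp

set_option autoImplicit false
set_option linter.unusedSectionVars false

/-!
# Torus, Levi subgroup and the radicals `QW`, `Qg e₀` of `Sp_{2m}(F)` (helper25)
-/

namespace Cfsg.Agent.Lib.H25.PSp

open Matrix Cfsg.Agent.Lib.H4 Cfsg.Agent.Lib.H2.Sp Cfsg.Agent.Lib.H13.AutPSp
  Cfsg.Agent.Lib.H12.SylLarge

variable {F : Type*} [Field F] {m : ℕ}

set_option quotPrecheck false in
local notation "B" => Cfsg.sympForm m F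

/-! ### The torus -/

/-- diagonal matrices in `GL_m` -/
def diagGL : (Fin m → Fˣ) →* GL (Fin m) F where
  toFun t := ⟨Matrix.diagonal (fun i => (t i : F)),
    Matrix.diagonal (fun i => (((t i)⁻¹ : Fˣ) : F)),
    by rw [Matrix.diagonal_mul_diagonal]; simp, by rw [Matrix.diagonal_mul_diagonal]; simp⟩
  map_one' := by
    apply Units.ext
    simp
  map_mul' s t := by
    apply Units.ext
    simp [Matrix.diagonal_mul_diagonal]

theorem diagGL_coe (t : Fin m → Fˣ) :
    ((diagGL t : GL (Fin m) F) : Matrix (Fin m) (Fin m) F) =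
      Matrix.diagonal (fun i => (t i : F)) := rfl

theorem diagGL_inv_coe (t : Fin m → Fˣ) :
    (((diagGL t)⁻¹ : GL (Fin m) F) : Matrix (Fin m) (Fin m) F) =
      Matrix.diagonal (fun i => (((t i)⁻¹ : Fˣ) : F)) := rfl

/-- the diagonal of a torus element -/
def dd (t : Fin m → Fˣ) : K m → F :=
  Sum.elim (fun i => (t i : F)) (fun i => (((t i)⁻¹ : Fˣ) : F))

@[simp] theorem dd_inl (t : Fin m → Fˣ) (i : Fin m) : dd t (Sum.inl i) = (t i : F) := rfl
@[simp] theorem dd_inr (t : Fin m → Fˣ) (i : Fin m) :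
    dd t (Sum.inr i) = (((t i)⁻¹ : Fˣ) : F) := rfl

theorem dd_ne_zero (t : Fin m → Fˣ) (k : K m) : dd t k ≠ 0 := by
  rcases k with i | i <;> simp

variable [Fintype F]

/-- the torus -/
def hd : (Fin m → Fˣ) →* SpG m F := (leviSp m).comp diagGL

theorem mat_hd (t : Fin m → Fˣ) : mat (hd t) = Matrix.diagonal (dd t) := by
  show Matrix.fromBlocks ((diagGL t : GL (Fin m) F) : Matrix (Fin m) (Fin m) F) 0 0
    (((diagGL t)⁻¹ : GL (Fin m) F) : Matrix (Fin m) (Fin m) F)ᵀ = _
  rw [diagGL_coe, diagGL_inv_coe, Matrix.diagonal_transpose, Matrix.fromBlocks_diagonal]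
  rfl

theorem mat_hd_mul (t : Fin m → Fˣ) (s : SpG m F) (j l : K m) :
    mat (hd t * s) j l = dd t j * mat s j l := by
  rw [mat_mul, mat_hd, Matrix.diagonal_mul]

theorem mat_mul_hd (t : Fin m → Fˣ) (s : SpG m F) (j l : K m) :
    mat (s * hd t) j l = mat s j l * dd t l := by
  rw [mat_mul, mat_hd, Matrix.mul_diagonal]

theorem sv_hd (t : Fin m → Fˣ) (x : K m → F) (j : K m) : sv (hd t) x j = dd t j * x j := by
  unfold sv
  rw [mat_hd, Matrix.mulVec_diagonal]

/-- the torus normalizes `U` -/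
theorem hd_conj_mem_U (t : Fin m → Fˣ) {u : SpG m F} (hu : u ∈ (U : Subgroup (SpG m F))) :
    hd t * u * (hd t)⁻¹ ∈ (U : Subgroup (SpG m F)) := by
  set w := hd t * u * (hd t)⁻¹ with hw
  have heq : w * hd t = hd t * u := by rw [hw]; group
  have hentry : ∀ j l, mat w j l * dd t l = dd t j * mat u j l := by
    intro j l
    rw [← mat_mul_hd, ← mat_hd_mul, heq]
  rw [mem_U] at hu ⊢
  constructor
  · intro j l hjl
    have := hentry j l
    rw [hu.1 j l hjl, mul_zero] at this
    exact (mul_eq_zero.1 this).resolve_right (dd_ne_zero t l)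
  · intro l
    have := hentry l l
    rw [hu.2 l, mul_one] at this
    have h2 : mat w l l * dd t l = 1 * dd t l := by rw [this, one_mul]
    exact mul_right_cancel₀ (dd_ne_zero t l) h2

theorem hd_inv_conj_mem_U (t : Fin m → Fˣ) {u : SpG m F} (hu : u ∈ (U : Subgroup (SpG m F))) :
    (hd t)⁻¹ * u * hd t ∈ (U : Subgroup (SpG m F)) := by
  have := hd_conj_mem_U t⁻¹ hu
  rwa [map_inv, inv_inv] at this

theorem hd_pow_card_sub_one (t : Fin m → Fˣ) : hd t ^ (Fintype.card F - 1) = (1 : SpG m F) := by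
  rw [← map_pow]
  have : t ^ (Fintype.card F - 1) = 1 := by
    funext i
    rw [Pi.pow_apply, Pi.one_apply]
    apply Units.ext
    rw [Units.val_pow_eq_pow_val, Units.val_one]
    exact FiniteField.pow_card_sub_one_eq_one _ (Units.ne_zero _)
  rw [this, map_one]

/-! ### The Levi subgroup -/

/-- the Levi embedding of `SL_m` -/
def Lv : SpecialLinearGroup (Fin m) F →* SpG m F :=
  (leviSp m).comp SpecialLinearGroup.toGL

theorem mat_Lv (A : SpecialLinearGroup (Fin m) F) :
    mat (Lv A) = Matrix.fromBlocks (A : Matrix (Fin m) (Fin m) F) 0 0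
      ((A⁻¹ : SpecialLinearGroup (Fin m) F) : Matrix (Fin m) (Fin m) F)ᵀ := by
  show Matrix.fromBlocks ((SpecialLinearGroup.toGL A : GL (Fin m) F) :
      Matrix (Fin m) (Fin m) F) 0 0
    (((SpecialLinearGroup.toGL A)⁻¹ : GL (Fin m) F) : Matrix (Fin m) (Fin m) F)ᵀ = _
  rw [← map_inv]
  rfl

/-- the span of the `e_i` -/
def InW (x : K m → F) : Prop := ∀ i : Fin m, x (Sum.inr i) = 0

theorem inW_bv_inl (i : Fin m) : InW (bv (Sum.inl i) : K m → F) := by
  intro j
  rw [bv_ne]
  simp

theorem inW_add {x y : K m → F} (hx : InW x) (hy : InW y) : InW (x + y) := by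
  intro i
  rw [Pi.add_apply, hx i, hy i, add_zero]

theorem inW_smul (c : F) {x : K m → F} (hx : InW x) : InW (c • x) := by
  intro i
  rw [Pi.smul_apply, hx i, smul_zero]

theorem inW_rk {x : K m → F} (hx : InW x) (hm : 1 ≤ m) : ∀ j, x j ≠ 0 → rk j ≤ m - 1 := by
  intro j hj
  rcases j with i | i
  · have := i.2
    simp only [rk_inl]
    omega
  · exact absurd (hx i) hj

theorem B_inW {x y : K m → F} (hx : InW x) (hy : InW y) : B x y = 0 := by
  rw [B_eq_sum]
  apply Finset.sum_eq_zero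
  intro a _
  rcases a with i | i
  · rw [bar_inl, hy i, mul_zero]
  · rw [hx i, mul_zero, zero_mul]

theorem inW_sv_Lv (A : SpecialLinearGroup (Fin m) F) {x : K m → F} (hx : InW x) :
    InW (sv (Lv A) x) := by
  intro i
  unfold sv
  rw [mat_Lv, Matrix.fromBlocks_mulVec]
  simp only [Sum.elim_inr, Matrix.zero_mulVec, zero_add]
  have : x ∘ Sum.inr = 0 := by
    funext j
    exact hx j
  rw [this, Matrix.mulVec_zero]
  rfl

theorem inW_sv_of_mem_U {s : SpG m F} (hs : s ∈ (U : Subgroup (SpG m F))) {x : K m → F}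
    (hx : InW x) : InW (sv s x) := by
  intro i
  rw [sv_eq_sum]
  apply Finset.sum_eq_zero
  intro l _
  rcases l with j | j
  · have : rk (Sum.inl j : K m) < rk (Sum.inr i : K m) := by
      have := i.2; have := j.2
      simp only [rk_inl, rk_inr]
      omega
    rw [(mem_U.1 hs).1 _ _ this, zero_mul]
  · rw [hx j, mul_zero]

/-! ### The Siegel radical `QW` -/

/-- the pointwise stabilizer of the `e_i` -/
def QW : Subgroup (SpG m F) where
  carrier := {s | ∀ i : Fin m, sv s (bv (Sum.inl i)) = bv (Sum.inl i)}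
  mul_mem' := by
    intro s t hs ht i
    rw [sv_mul, ht i, hs i]
  one_mem' := fun i => sv_one _
  inv_mem' := by
    intro s hs i
    conv_lhs => rw [← hs i]
    rw [sv_inv_sv]

theorem mem_QW {s : SpG m F} : s ∈ (QW : Subgroup (SpG m F)) ↔
    ∀ i : Fin m, sv s (bv (Sum.inl i)) = bv (Sum.inl i) := Iff.rfl

theorem sv_of_mem_QW {s : SpG m F} (hs : s ∈ (QW : Subgroup (SpG m F))) {x : K m → F}
    (hx : InW x) : sv s x = x := by
  funext j
  rw [sv_eq_sum, Fintype.sum_sum_type]
  have h2 : ∑ i : Fin m, mat s j (Sum.inr i) * x (Sum.inr i) = 0 := by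
    apply Finset.sum_eq_zero
    intro i _
    rw [hx i, mul_zero]
  rw [h2, add_zero]
  have h1 : ∀ i : Fin m, mat s j (Sum.inl i) = (bv (Sum.inl i) : K m → F) j := by
    intro i
    rw [← sv_bv, hs i]
  rcases j with j | j
  · rw [Finset.sum_eq_single j]
    · rw [h1, bv_self, one_mul]
    · intro i _ hi
      rw [h1, bv_ne, zero_mul]
      simpa using hi.symm
    · intro h; exact absurd (Finset.mem_univ j) h
  · rw [hx j]
    apply Finset.sum_eq_zero
    intro i _
    rw [h1, bv_ne, zero_mul]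
    simp

theorem QW_le_U : (QW : Subgroup (SpG m F)) ≤ U := by
  intro s hs
  rw [mem_U_iff_sv]
  intro l
  rcases l with i | i
  · rw [hs i]
    refine ⟨fun j hj => bv_ne ?_, bv_self _⟩
    rintro rfl
    exact lt_irrefl _ hj
  · -- the `f_i` column
    have key : ∀ j : Fin m, sv s (bv (Sum.inr i)) (Sum.inr j) =
        (bv (Sum.inr i) : K m → F) (Sum.inr j) := by
      intro j
      have h1 := B_sv s (bv (Sum.inr i)) (bv (Sum.inl j))
      rw [hs j, B_bv_right, B_bv_right] at h1
      simp only [sg_inl, bar_inl] at h1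
      linear_combination h1
    refine ⟨fun j hj => ?_, ?_⟩
    · rcases j with j | j
      · have := i.2; have := j.2
        simp only [rk_inl, rk_inr] at hj
        omega
      · rw [key, bv_ne]
        rintro h
        rw [h] at hj
        exact lt_irrefl _ hj
    · rw [key, bv_self]

theorem conj_mem_QW {g : SpG m F} (hg : ∀ x : K m → F, InW x → InW (sv g⁻¹ x)) {s : SpG m F}
    (hs : s ∈ (QW : Subgroup (SpG m F))) : g * s * g⁻¹ ∈ (QW : Subgroup (SpG m F)) := by
  intro i
  rw [sv_mul, sv_mul, sv_of_mem_QW hs (hg _ (inW_bv_inl i)), sv_sv_inv]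

theorem tv_mem_QW {w : K m → F} (hw : InW w) (c : F) :
    tv m w c ∈ (QW : Subgroup (SpG m F)) := by
  intro i
  rw [sv_tv, B_inW (inW_bv_inl i) hw, mul_zero, zero_smul, add_zero]

end Cfsg.Agent.Lib.H25.PSp
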