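import Mathlib
import Cfsg.Agent.Lib.H25.PSpB

set_option autoImplicit false
set_option linter.unusedSectionVars false

/-!
# The normalizer of the unitriangular subgroup of `Sp_{2m}(F)`; `U` is a Sylow subgroup (helper25)
-/

namespace Cfsg.Agent.Lib.H25.PSp

open Matrix Cfsg.Agent.Lib.H4 Cfsg.Agent.Lib.H2.Sp Cfsg.Agent.Lib.H13.AutPSp
  Cfsg.Agent.Lib.H12.SylLarge

variable {F : Type*} [Field F] [Fintype F] {m : ℕ}

set_option quotPrecheck false in
local notation "B" => Cfsg.sympForm m F

theorem bv_supp (l : K m) : ∀ j, (bv l : K m → F) j ≠ 0 → rk j ≤ rk l := by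
  intro j hj
  by_cases h : j = l
  · rw [h]
  · exact absurd (bv_ne h) hj

/-- the root element with an entry at `(l, j)` -/
noncomputable def rootElt (l j : K m) : SpG m F :=
  if j = bar l then tv m (bv l) 1 else EL (bv l) (bv (bar j)) 0

theorem rootElt_mem_U {l j : K m} (h : rk l < rk j) :
    rootElt l j ∈ (U : Subgroup (SpG m F)) := by
  unfold rootElt
  split_ifs with hj
  · apply tv_mem_U 1 (rk l) (bv_supp l)
    have := rk_bar l
    rw [← hj] at this
    omega
  · have hw : B (bv (bar j)) (bv l) = 0 := by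
      rw [B_bv_bv, bar_bar, if_neg]
      rintro rfl
      exact lt_irrefl _ h
    apply EL_mem_U hw 0 (rk l) (rk (bar j)) (bv_supp l) (bv_supp (bar j)) _ (Or.inl rfl)
    have := rk_bar j
    omega

theorem sv_rootElt {l j : K m} (h : rk l < rk j) :
    sv (rootElt l j) (bv j) = (bv j : K m → F) + sg F j • bv l := by
  unfold rootElt
  split_ifs with hj
  · rw [sv_tv, B_bv_bv, if_pos (eq_bar_comm.1 hj), one_mul]
  · have hw : B (bv (bar j)) (bv l) = 0 := by
      rw [B_bv_bv, bar_bar, if_neg]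
      rintro rfl
      exact lt_irrefl _ h
    have e1 : B (bv j) (bv l) = 0 := by
      rw [B_bv_bv, if_neg (fun h' => hj (eq_bar_comm.1 h'))]
    have e2 : B (bv j) (bv (bar j)) = sg F j := by
      rw [B_bv_bv, if_pos rfl]
    rw [sv_EL hw, e1, e2, zero_smul, add_zero, mul_zero, zero_smul, add_zero]

/-- An element of `Sp` conjugating `U` into itself is upper triangular. -/
theorem upper_of_conj_U (g : SpG m F)
    (hg : ∀ u ∈ (U : Subgroup (SpG m F)), g * u * g⁻¹ ∈ (U : Subgroup (SpG m F))) :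
    ∀ j l : K m, rk l < rk j → mat g j l = 0 := by
  have key : ∀ n : ℕ, ∀ j : K m, 2 * m - 1 - rk j = n → ∀ l : K m, rk l < rk j →
      mat g j l = 0 := by
    intro n
    induction n using Nat.strong_induction_on with
    | _ n ih =>
      intro j hjn l hlj
      have hu := hg _ (rootElt_mem_U (F := F) hlj)
      set u := g * rootElt l j * g⁻¹ with hudef
      have heq : g * rootElt l j = u * g := by rw [hudef]; group
      have h1 : sv (g * rootElt l j) (bv j) j = sv (u * g) (bv j) j := by rw [heq]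
      rw [sv_mul, sv_rootElt hlj, sv_add, sv_smul, Pi.add_apply, Pi.smul_apply, sv_bv, sv_bv,
        sv_bv, mat_mul, Matrix.mul_apply, smul_eq_mul] at h1
      have h2 : ∑ a, mat u j a * mat g a j = mat g j j := by
        rw [Finset.sum_eq_single j]
        · rw [(mem_U.1 hu).2 j, one_mul]
        · intro a _ haj
          have hne : rk a ≠ rk j := fun h => haj (rk_injective h)
          rcases lt_or_gt_of_ne hne with h | h
          · rw [(mem_U.1 hu).1 j a h, zero_mul]
          · have h3 := rk_lt a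
            rw [ih (2 * m - 1 - rk a) (by omega) a rfl j h, mul_zero]
        · intro h; exact absurd (Finset.mem_univ j) h
      rw [h2] at h1
      have h3 : sg F j * mat g j l = 0 := add_eq_left.mp h1
      exact (mul_eq_zero.1 h3).resolve_left (sg_ne_zero j)
  intro j l h
  exact key _ j rfl l h

/-- diagonal entries of an upper triangular symplectic matrix -/
theorem diag_mul_diag (g : SpG m F) (hg : ∀ j l : K m, rk l < rk j → mat g j l = 0) (l : K m) :
    mat g l l * mat g (bar l) (bar l) = 1 := by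
  have h1 := B_sv g (bv l) (bv (bar l))
  rw [B_bv_bv, if_pos rfl, B_eq_sum, Finset.sum_eq_single l] at h1
  · rw [sv_bv, sv_bv] at h1
    have h2 : sg F l * (mat g l l * mat g (bar l) (bar l)) = sg F l * 1 := by
      linear_combination h1
    exact mul_left_cancel₀ (sg_ne_zero l) h2
  · intro a _ hal
    rw [sv_bv, sv_bv]
    have hne : rk a ≠ rk l := fun h => hal (rk_injective h)
    rcases lt_or_gt_of_ne hne with h | h
    · rw [hg _ _ (rk_bar_lt h), mul_zero]
    · rw [hg _ _ h, mul_zero, zero_mul]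
  · intro h; exact absurd (Finset.mem_univ l) h

/-- An upper triangular element of `Sp` is a torus element times an element of `U`. -/
theorem upper_decomp (g : SpG m F) (hg : ∀ j l : K m, rk l < rk j → mat g j l = 0) :
    ∃ t : Fin m → Fˣ, ∃ u ∈ (U : Subgroup (SpG m F)), g = hd t * u := by
  have hne : ∀ l, mat g l l ≠ 0 := by
    intro l h0
    have := diag_mul_diag g hg l
    rw [h0, zero_mul] at this
    exact zero_ne_one this
  set t : Fin m → Fˣ := fun i => Units.mk0 (mat g (Sum.inl i) (Sum.inl i)) (hne _) with ht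
  have hdd : ∀ l, dd t l = mat g l l := by
    intro l
    rcases l with i | i
    · rfl
    · rw [dd_inr, Units.val_inv_eq_inv_val]
      have := diag_mul_diag g hg (Sum.inl i)
      rw [bar_inl] at this
      exact (eq_inv_of_mul_eq_one_right this).symm
  refine ⟨t, (hd t)⁻¹ * g, ?_, by group⟩
  set u := (hd t)⁻¹ * g with hu
  have heq : hd t * u = g := by rw [hu]; group
  have hentry : ∀ j l, dd t j * mat u j l = mat g j l := by
    intro j l
    rw [← mat_hd_mul, heq]
  rw [mem_U]
  constructor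
  · intro j l hjl
    have := hentry j l
    rw [hg j l hjl] at this
    exact (mul_eq_zero.1 this).resolve_left (dd_ne_zero t j)
  · intro l
    have := hentry l l
    rw [← hdd l] at this
    have h2 : dd t l * mat u l l = dd t l * 1 := by rw [this, mul_one]
    exact mul_left_cancel₀ (dd_ne_zero t l) h2

/-- the normalizer of `U` is `H U` -/
theorem normalizer_U_decomp (g : SpG m F)
    (hg : ∀ u ∈ (U : Subgroup (SpG m F)), g * u * g⁻¹ ∈ (U : Subgroup (SpG m F))) :
    ∃ t : Fin m → Fˣ, ∃ u ∈ (U : Subgroup (SpG m F)), g = hd t * u :=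
  upper_decomp g (upper_of_conj_U g hg)

section sylow

variable (p : ℕ) [Fact p.Prime] [CharP F p]

theorem coprime_card_sub_one (k : ℕ) : Nat.Coprime (p ^ k) (Fintype.card F - 1) := by
  apply Nat.Coprime.pow_left
  rw [Nat.Prime.coprime_iff_not_dvd (Fact.out : p.Prime)]
  intro h
  have h1 : p ∣ Fintype.card F := Cfsg.Agent.Lib.H13.AutPSL.p_dvd_card (p := p)
  have h2 : 1 ≤ Fintype.card F := Fintype.card_pos
  have h3 : p ∣ Fintype.card F - (Fintype.card F - 1) := Nat.dvd_sub h1 h
  have h4 : Fintype.card F - (Fintype.card F - 1) = 1 := by omega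
  rw [h4] at h3
  exact (Fact.out : p.Prime).one_lt.ne' (Nat.dvd_one.1 h3)

/-- a torus element of `p`-power order is trivial -/
theorem hd_eq_one_of_pow (t : Fin m → Fˣ) {k : ℕ} (h : hd t ^ p ^ k = (1 : SpG m F)) :
    hd t = (1 : SpG m F) := by
  have h1 : orderOf (hd t : SpG m F) ∣ p ^ k := orderOf_dvd_of_pow_eq_one h
  have h2 : orderOf (hd t : SpG m F) ∣ Fintype.card F - 1 :=
    orderOf_dvd_of_pow_eq_one (hd_pow_card_sub_one t)
  have h3 := Nat.dvd_gcd h1 h2
  rw [(coprime_card_sub_one (F := F) p k), Nat.dvd_one] at h3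
  exact orderOf_eq_one_iff.1 h3

/-- `U` is a maximal `p`-subgroup -/
theorem eq_U_of_isPGroup (hm : 1 ≤ m) {Q : Subgroup (SpG m F)} (hQ : IsPGroup p Q)
    (hUQ : (U : Subgroup (SpG m F)) ≤ Q) : Q = U := by
  apply le_antisymm _ hUQ
  have hnil : Group.IsNilpotent Q := hQ.isNilpotent
  have hNC := Group.normalizerCondition_of_isNilpotent (G := Q)
  by_contra hle
  have hlt : (U : Subgroup (SpG m F)).subgroupOf Q < ⊤ := by
    rw [lt_top_iff_ne_top]
    intro h
    apply hle
    rw [Subgroup.subgroupOf_eq_top] at h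
    exact h
  have h2 := hNC _ hlt
  obtain ⟨x, hxN, hxU⟩ := SetLike.exists_of_lt h2
  have hconj : ∀ u ∈ (U : Subgroup (SpG m F)), (x : SpG m F) * u * (x : SpG m F)⁻¹ ∈
      (U : Subgroup (SpG m F)) := by
    intro u hu
    have h3 := (Subgroup.mem_normalizer_iff.1 hxN ⟨u, hUQ hu⟩).1
      (Subgroup.mem_subgroupOf.2 hu)
    exact Subgroup.mem_subgroupOf.1 h3
  obtain ⟨t, u₀, hu₀, hx⟩ := normalizer_U_decomp (x : SpG m F) hconj
  have hhd : hd t ∈ Q := by
    have : hd t = (x : SpG m F) * u₀⁻¹ := by rw [hx]; group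
    rw [this]
    exact Q.mul_mem x.2 (Q.inv_mem (hUQ hu₀))
  obtain ⟨k, hk⟩ := hQ ⟨hd t, hhd⟩
  have hk' : hd t ^ p ^ k = (1 : SpG m F) := by
    have := congrArg (fun y : Q => (y : SpG m F)) hk
    simpa using this
  have h1 := hd_eq_one_of_pow p t hk'
  rw [h1, one_mul] at hx
  apply hxU
  rw [Subgroup.mem_subgroupOf, hx]
  exact hu₀

/-- the standard Sylow `p`-subgroup of `Sp` -/
noncomputable def sylSp (hm : 1 ≤ m) : Sylow p (SpG m F) where
  toSubgroup := U
  isPGroup' := isPGroup_U p hm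
  is_maximal' := fun hQ hUQ => eq_U_of_isPGroup p hm hQ hUQ

/-- the image of `U` in `PSp` -/
def Ubar : Subgroup (Cfsg.PSp m F) := (U : Subgroup (SpG m F)).map pr

/-- the standard Sylow `p`-subgroup of `PSp` -/
noncomputable def sylPSp (hm : 1 ≤ m) : Sylow p (Cfsg.PSp m F) :=
  (sylSp p hm).mapSurjective (pr_surjective (m := m) (F := F))

theorem coe_sylPSp (hm : 1 ≤ m) :
    ((sylPSp p hm : Sylow p (Cfsg.PSp m F)) : Subgroup (Cfsg.PSp m F)) = Ubar :=
  Sylow.coe_mapSurjective _ _

/-- every Sylow `p`-subgroup of `PSp` is conjugate to `Ubar` -/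
theorem exists_conj_Ubar (hm : 1 ≤ m) (P : Sylow p (Cfsg.PSp m F)) :
    ∃ g : Cfsg.PSp m F, ∀ x, x ∈ P ↔ g⁻¹ * x * g ∈ (Ubar : Subgroup (Cfsg.PSp m F)) := by
  have : Finite (Cfsg.PSp m F) := Finite.of_surjective _ (pr_surjective (m := m) (F := F))
  obtain ⟨g, hg⟩ := MulAction.exists_smul_eq (Cfsg.PSp m F) (sylPSp p hm) P
  refine ⟨g, fun x => ?_⟩
  rw [← hg, ← coe_sylPSp p hm]
  change x ∈ Sylow.toSubgroup (g • sylPSp p hm) ↔ _
  rw [Sylow.coe_subgroup_smul,
    Subgroup.mem_pointwise_smul_iff_inv_smul_mem, ← map_inv, MulAut.smul_def, MulAut.conj_apply,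
    inv_inv]

end sylow

end Cfsg.Agent.Lib.H25.PSp
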