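import Mathlib
import Cfsg.Agent.Lib.H25.PSpC

set_option autoImplicit false
set_option linter.unusedSectionVars false

/-!
# Eichler transformations: recognition of `Qg e`, generation of `U`, moving vectors (helper25)
-/

namespace Cfsg.Agent.Lib.H25.PSp

open Matrix Cfsg.Agent.Lib.H4 Cfsg.Agent.Lib.H2.Sp Cfsg.Agent.Lib.H13.AutPSp
  Cfsg.Agent.Lib.H12.SylLarge

variable {F : Type*} [Field F] {m : ℕ}

set_option quotPrecheck false in
local notation "B" => Cfsg.sympForm m F

/-! ### values of the form on basis vectors -/

@[simp] theorem B_ee (i j : Fin m) : B (bv (Sum.inl i)) (bv (Sum.inl j)) = 0 := by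
  rw [B_bv_bv, if_neg]; simp

@[simp] theorem B_ff (i j : Fin m) : B (bv (Sum.inr i)) (bv (Sum.inr j)) = 0 := by
  rw [B_bv_bv, if_neg]; simp

theorem B_ef (i j : Fin m) : B (bv (Sum.inl i)) (bv (Sum.inr j)) = if i = j then -1 else 0 := by
  rw [B_bv_bv]
  by_cases h : i = j
  · rw [if_pos h, if_pos (by rw [h]; rfl)]; rfl
  · rw [if_neg h, if_neg]
    simpa using Ne.symm h

theorem B_fe (i j : Fin m) : B (bv (Sum.inr i)) (bv (Sum.inl j)) = if i = j then 1 else 0 := by
  rw [B_bv_bv]
  by_cases h : i = j
  · rw [if_pos h, if_pos (by rw [h]; rfl)]; rfl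
  · rw [if_neg h, if_neg]
    simpa using Ne.symm h

@[simp] theorem B_ef_self (i : Fin m) : B (bv (Sum.inl i)) (bv (Sum.inr i)) = -1 := by
  rw [B_ef, if_pos rfl]

@[simp] theorem B_fe_self (i : Fin m) : B (bv (Sum.inr i)) (bv (Sum.inl i)) = 1 := by
  rw [B_fe, if_pos rfl]

theorem B_ef_ne {i j : Fin m} (h : i ≠ j) : B (bv (Sum.inl i)) (bv (Sum.inr j)) = 0 := by
  rw [B_ef, if_neg h]

theorem B_fe_ne {i j : Fin m} (h : i ≠ j) : B (bv (Sum.inr i)) (bv (Sum.inl j)) = 0 := by
  rw [B_fe, if_neg h]

theorem B_right_e (x : K m → F) (i : Fin m) : B x (bv (Sum.inl i)) = x (Sum.inr i) := by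
  rw [B_bv_right]; simp

theorem B_right_f (x : K m → F) (i : Fin m) : B x (bv (Sum.inr i)) = - x (Sum.inl i) := by
  rw [B_bv_right]; simp

theorem B_left_e (i : Fin m) (y : K m → F) : B (bv (Sum.inl i)) y = - y (Sum.inr i) := by
  rw [B_bv_left]; simp

theorem B_left_f (i : Fin m) (y : K m → F) : B (bv (Sum.inr i)) y = y (Sum.inl i) := by
  rw [B_bv_left]; simp

theorem bv_ne_zero (k : K m) : (bv k : K m → F) ≠ 0 := by
  intro h
  have := congrFun h k
  rw [bv_self] at this
  exact one_ne_zero this

/-! ### Recognition of `Qg e` -/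

theorem sv_EL_self {e w : K m → F} (hw : B w e = 0) (b : F) : sv (EL e w b) e = e := by
  rw [sv_EL hw, sympForm_self, B_eq_zero_symm hw]
  simp

/-- the Eichler transformation moving `f` to `v` -/
theorem sv_EL_reg {e f v : K m → F} (hf : B f e = 1) (hv : B v e = 1) :
    B (v - f) e = 0 ∧ sv (EL e (v - f) (- B f (v - f))) f = v := by
  have hw : B (v - f) e = 0 := by rw [B_sub_left, hv, hf, sub_self]
  refine ⟨hw, ?_⟩
  rw [sv_EL hw, hf]
  module

/-- uniqueness of the parameters of an Eichler transformation -/
theorem EL_eq_imp {e w w' : K m → F} (he : e ≠ 0) (hw : B w e = 0) (hw' : B w' e = 0) {b b' : F}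
    (h : EL e w b = EL e w' b') : ∃ c : F, w' = w + c • e := by
  obtain ⟨f, hf⟩ := exists_B_eq_one he
  have h1 : sv (EL e w b) f = sv (EL e w' b') f := by rw [h]
  rw [sv_EL hw, sv_EL hw', hf] at h1
  refine ⟨(B f w + b) - (B f w' + b'), ?_⟩
  have h2 : w' = w + ((B f w + b) - (B f w' + b')) • e := by
    have e1 : f + (1 : F) • w + B f w • e + (b * 1) • e =
        f + w + (B f w + b) • e := by module
    have e2 : f + (1 : F) • w' + B f w' • e + (b' * 1) • e =
        f + w' + (B f w' + b') • e := by module
    rw [e1, e2] at h1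
    have h3 : w + (B f w + b) • e = w' + (B f w' + b') • e := by
      have := congrArg (fun x => x - f) h1
      simpa [add_assoc] using this
    calc w' = (w' + (B f w' + b') • e) - (B f w' + b') • e := by abel
      _ = (w + (B f w + b) • e) - (B f w' + b') • e := by rw [h3]
      _ = w + ((B f w + b) - (B f w' + b')) • e := by module
  exact h2

theorem EL_eq_imp_b {e w : K m → F} (he : e ≠ 0) (hw : B w e = 0) {b b' : F}
    (h : EL e w b = EL e w b') : b = b' := by
  obtain ⟨f, hf⟩ := exists_B_eq_one he
  have h1 : sv (EL e w b) f = sv (EL e w b') f := by rw [h]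
  rw [sv_EL hw, sv_EL hw, hf] at h1
  have h2 : (b * 1) • e = (b' * 1) • e := add_left_cancel h1
  rw [mul_one, mul_one] at h2
  by_contra hne
  have h3 : (b - b') • e = 0 := by rw [sub_smul, h2, sub_self]
  rcases smul_eq_zero.1 h3 with h4 | h4
  · exact hne (sub_eq_zero.1 h4)
  · exact he h4

/-- an element fixing `e` and acting trivially on `e^⊥/e` lies in `Qg e` -/
theorem mem_Qg_of_trivial {e : K m → F} (he : e ≠ 0) {z : SpG m F} (hze : sv z e = e)
    (h : ∀ w, B w e = 0 → ∃ c : F, sv z w = w + c • e) : z ∈ Qg e := by
  obtain ⟨f, hf⟩ := exists_B_eq_one he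
  have hef : B e f = -1 := by rw [sympForm_swap, hf]
  set v := sv z f with hvdef
  have hv : B v e = 1 := by
    have := B_sv z f e
    rw [hze] at this
    rw [hvdef, this, hf]
  obtain ⟨hw, hq⟩ := sv_EL_reg hf hv
  set w := v - f with hwdef
  set b := - B f w with hbdef
  set q := EL e w b with hqdef
  suffices hzq : z = q by
    rw [hzq]; exact EL_mem_Qg hw b
  have hqinv : q⁻¹ = EL e (-w) (-b) := EL_inv hw b
  have hw' : B (-w) e = 0 := by rw [B_neg_left, hw, neg_zero]
  -- `y = q⁻¹ z` is trivial
  suffices hy : q⁻¹ * z = 1 by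
    have := congrArg (fun s => q * s) hy
    simpa using this
  apply ext_sv
  intro x
  rw [sv_one, sv_mul]
  -- decompose `x`
  set x' := x - B x e • f + B x f • e with hx'def
  have hx'e : B x' e = 0 := by
    rw [hx'def, sympForm_add_left, B_sub_left, sympForm_smul_left, sympForm_smul_left, hf,
      sympForm_self]
    ring
  have hx'f : B x' f = 0 := by
    rw [hx'def, sympForm_add_left, B_sub_left, sympForm_smul_left, sympForm_smul_left,
      sympForm_self, hef]
    ring
  have hx : x = x' + B x e • f - B x f • e := by rw [hx'def]; abel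
  obtain ⟨c, hc⟩ := h x' hx'e
  have hqf : sv q⁻¹ v = f := by
    rw [← hq, sv_inv_sv]
  have hqe : sv q⁻¹ e = e := by
    rw [hqinv]; exact sv_EL_self hw' _
  -- `q⁻¹ z x' = x' + c' e`
  have h1 : sv q⁻¹ (sv z x') = x' + (c - B x' w) • e := by
    rw [hc, sv_add, sv_smul, hqe, hqinv, sv_EL hw', hx'e, B_neg_right]
    module
  have h2 : c - B x' w = 0 := by
    have h3 : B (sv q⁻¹ (sv z x')) (sv q⁻¹ (sv z f)) = B x' f := by
      rw [B_sv, B_sv]
    rw [h1, ← hvdef, hqf, sympForm_add_left, sympForm_smul_left, hx'f, hef] at h3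
    linear_combination -h3
  rw [h2, zero_smul, add_zero] at h1
  conv_lhs => rw [hx]
  rw [sv_sub, sv_add, sv_smul, sv_smul, sv_sub, sv_add, sv_smul, sv_smul, h1, ← hvdef, hqf, hze,
    hqe]
  rw [hx'def]
  abel

/-- an element fixing `e` and commuting with the `EL e w 0` lies in `Qg e` -/
theorem mem_Qg_of_comm {e : K m → F} (he : e ≠ 0) {z : SpG m F} (hze : sv z e = e)
    (hcomm : ∀ w, B w e = 0 → z * EL e w 0 = EL e w 0 * z) : z ∈ Qg e := by
  apply mem_Qg_of_trivial he hze
  intro w hw
  have h1 : z * EL e w 0 * z⁻¹ = EL e w 0 := by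
    rw [hcomm w hw, mul_assoc, mul_inv_cancel, mul_one]
  rw [EL_conj hw, hze] at h1
  have hw' : B (sv z w) e = 0 := by
    have := B_sv z w e
    rw [hze] at this
    rw [this, hw]
  exact EL_eq_imp he hw hw' h1.symm

/-! ### Generation of `U` by Eichler transformations -/

section gen

variable [Fintype F]

/-- the generating set: Eichler transformations in `U` with centre some `e_k` -/
def GenEL : Set (SpG m F) :=
  {x | x ∈ (U : Subgroup (SpG m F)) ∧ ∃ (k : Fin m) (w : K m → F) (b : F),
      B w (bv (Sum.inl k)) = 0 ∧ x = EL (bv (Sum.inl k)) w b}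

/-- fixing `e_i`, `f_i` for `i < k` -/
def FixTo (k : ℕ) (s : SpG m F) : Prop :=
  ∀ i : Fin m, i.val < k → sv s (bv (Sum.inl i)) = bv (Sum.inl i) ∧
    sv s (bv (Sum.inr i)) = bv (Sum.inr i)

theorem sv_inv_of_sv {s : SpG m F} {x : K m → F} (h : sv s x = x) : sv s⁻¹ x = x := by
  conv_lhs => rw [← h]
  rw [sv_inv_sv]

theorem U_le_closure_GenEL :
    (U : Subgroup (SpG m F)) ≤ Subgroup.closure (GenEL : Set (SpG m F)) := by
  have key : ∀ d : ℕ, ∀ k : ℕ, m - k = d → ∀ s ∈ (U : Subgroup (SpG m F)), FixTo k s →
      s ∈ Subgroup.closure (GenEL : Set (SpG m F)) := by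
    intro d
    induction d with
    | zero =>
      intro k hk s _ hfix
      have : s = 1 := by
        apply ext_bv
        intro l
        rw [sv_one]
        rcases l with i | i
        · exact (hfix i (by have := i.2; omega)).1
        · exact (hfix i (by have := i.2; omega)).2
      rw [this]
      exact Subgroup.one_mem _
    | succ d ih =>
      intro k hk s hs hfix
      have hkm : k < m := by omega
      set kk : Fin m := ⟨k, hkm⟩ with hkk
      set e : K m → F := bv (Sum.inl kk) with he
      set f : K m → F := bv (Sum.inr kk) with hf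
      have hsU := mem_U_iff_sv.1 hs
      -- `s` fixes `e`
      have hkv : kk.val = k := rfl
      have hse : sv s e = e := by
        rw [he]
        funext j
        rcases j with i | i
        · rcases lt_trichotomy i.val k with h | h | h
          · have h1 := B_sv s e (bv (Sum.inr i))
            rw [(hfix i h).2, he, B_right_f, B_ef_ne] at h1
            · rw [bv_ne]
              · linear_combination -h1
              · intro h2
                have := congrArg (fun x : K m => rk x) h2
                simp only [rk_inl] at this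
                omega
            · intro h2
              have := congrArg Fin.val h2
              simp only [hkk] at this
              omega
          · have : i = kk := Fin.ext h
            rw [this, bv_self]
            exact (hsU (Sum.inl kk)).2
          · rw [(hsU (Sum.inl kk)).1 _ (by simp only [rk_inl]; omega), bv_ne]
            intro h2
            have := congrArg (fun x : K m => rk x) h2
            simp only [rk_inl] at this
            omega
        · rw [(hsU (Sum.inl kk)).1 _ (by have := i.2; simp only [rk_inl, rk_inr]; omega), bv_ne]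
          simp
      have hfe : B f e = 1 := B_fe_self kk
      set v := sv s f with hvdef
      have hv : B v e = 1 := by
        have := B_sv s f e
        rw [hse] at this
        rw [hvdef, this, hfe]
      obtain ⟨hw, hq⟩ := sv_EL_reg hfe hv
      set w := v - f with hwdef
      set b := - B f w with hbdef
      set q := EL e w b with hqdef
      -- `q ∈ U`
      have hwsupp : ∀ j, w j ≠ 0 → rk j ≤ 2 * m - 2 - k := by
        intro j hj
        by_contra hcon
        apply hj
        have h1 : rk (Sum.inr kk : K m) ≤ rk j := by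
          simp only [rk_inr, hkv]
          omega
        rw [hwdef, Pi.sub_apply, hvdef, hf]
        rcases lt_or_eq_of_le h1 with h2 | h2
        · rw [(hsU (Sum.inr kk)).1 j h2, bv_ne, sub_zero]
          rintro rfl
          exact lt_irrefl _ h2
        · have : j = Sum.inr kk := (rk_injective h2).symm
          rw [this, (hsU (Sum.inr kk)).2, bv_self, sub_self]
      have hqU : q ∈ (U : Subgroup (SpG m F)) := by
        apply EL_mem_U hw b k (2 * m - 2 - k) _ hwsupp (by omega) (Or.inr (by omega))
        intro j hj
        have := bv_supp (F := F) (Sum.inl kk) j hj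
        simpa using this
      have hqG : q ∈ (GenEL : Set (SpG m F)) := ⟨hqU, kk, w, b, hw, rfl⟩
      -- `q` fixes the earlier basis vectors
      have hqfix : ∀ x : K m → F, sv s x = x → B x e = 0 → B x f = 0 → sv q x = x := by
        intro x hsx hxe hxf
        have hxw : B x w = 0 := by
          rw [hwdef, B_sub_right, hxf, sub_zero, hvdef]
          have := B_sv s x f
          rw [hsx] at this
          rw [this, hxf]
        rw [hqdef, sv_EL hw, hxe, hxw]
        simp
      have hqe : sv q e = e := sv_EL_self hw b
      -- the quotient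
      set y := q⁻¹ * s with hydef
      have hyU : y ∈ (U : Subgroup (SpG m F)) := Subgroup.mul_mem _ (Subgroup.inv_mem _ hqU) hs
      have hyfix : FixTo (k + 1) y := by
        intro i hi
        rcases Nat.lt_succ_iff_lt_or_eq.1 hi with h | h
        · have hne : i ≠ kk := by
            intro h2
            have := congrArg Fin.val h2
            simp only [hkk] at this
            omega
          constructor
          · rw [hydef, sv_mul, (hfix i h).1]
            apply sv_inv_of_sv
            apply hqfix _ (hfix i h).1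
            · rw [he]; exact B_ee _ _
            · rw [hf]; exact B_ef_ne hne
          · rw [hydef, sv_mul, (hfix i h).2]
            apply sv_inv_of_sv
            apply hqfix _ (hfix i h).2
            · rw [he]; exact B_fe_ne hne
            · rw [hf]; exact B_ff _ _
        · have : i = kk := Fin.ext h
          rw [this]
          constructor
          · rw [hydef, sv_mul]
            show sv q⁻¹ (sv s e) = e
            rw [hse]
            exact sv_inv_of_sv hqe
          · rw [hydef, sv_mul]
            show sv q⁻¹ (sv s f) = f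
            rw [← hvdef, ← hq, sv_inv_sv]
      have hy := ih (k + 1) (by omega) y hyU hyfix
      have hsq : s = q * y := by rw [hydef]; group
      rw [hsq]
      exact Subgroup.mul_mem _ (Subgroup.subset_closure hqG) hy
  intro s hs
  exact key _ 0 rfl s hs (fun i hi => absurd hi (Nat.not_lt_zero _))

end gen

/-! ### Moving a vector orthogonal to `e_k` into `W` -/

section move

variable [Fintype F]

open Classical in
theorem exists_move (k : Fin m) : ∀ n : ℕ, ∀ w : K m → F, w (Sum.inr k) = 0 →
    (Finset.univ.filter (fun j : Fin m => w (Sum.inr j) ≠ 0)).card = n →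
    ∃ s : SpG m F, sv s (bv (Sum.inl k)) = bv (Sum.inl k) ∧ InW (sv s w) := by
  intro n
  induction n with
  | zero =>
    intro w _ hcard
    refine ⟨1, sv_one _, ?_⟩
    rw [sv_one]
    intro i
    by_contra hi
    have : i ∈ Finset.univ.filter (fun j : Fin m => w (Sum.inr j) ≠ 0) := by simp [hi]
    rw [Finset.card_eq_zero.1 hcard] at this
    exact absurd this (Finset.notMem_empty _)
  | succ n ih =>
    intro w hwk hcard
    have hne : (Finset.univ.filter (fun j : Fin m => w (Sum.inr j) ≠ 0)).Nonempty := by
      rw [← Finset.card_pos, hcard]; omega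
    obtain ⟨j, hj⟩ := hne
    have hβ : w (Sum.inr j) ≠ 0 := (Finset.mem_filter.1 hj).2
    have hjk : k ≠ j := by
      rintro rfl
      exact hβ hwk
    set α := w (Sum.inl j) with hα
    set β := w (Sum.inr j) with hβdef
    set c := (β - α) / β with hc
    set g : SpG m F := tv m (bv (Sum.inr j)) 1 * tv m (bv (Sum.inl j)) c with hg
    set w' : K m → F := w + (β - α) • bv (Sum.inl j) - β • bv (Sum.inr j) with hw'
    have hcβ : c * β = β - α := by rw [hc]; field_simp
    have hx₁ : sv (tv m (bv (Sum.inl j)) c) w = w + (β - α) • bv (Sum.inl j) := by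
      rw [sv_tv, B_right_e, ← hβdef, hcβ]
    have hgw : sv g w = w' := by
      rw [hg, sv_mul, hx₁, sv_tv, B_right_f, hw']
      simp only [Pi.add_apply, Pi.smul_apply, smul_eq_mul, bv_self]
      rw [← hα]
      module
    have hgk : sv g (bv (Sum.inl k)) = bv (Sum.inl k) := by
      have h1 : sv (tv m (bv (Sum.inl j)) c) (bv (Sum.inl k)) = (bv (Sum.inl k) : K m → F) := by
        rw [sv_tv, B_ee, mul_zero, zero_smul, add_zero]
      rw [hg, sv_mul, h1, sv_tv, B_ef_ne hjk, mul_zero, zero_smul, add_zero]
    have hw'r : ∀ i : Fin m, w' (Sum.inr i) = if i = j then 0 else w (Sum.inr i) := by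
      intro i
      rw [hw']
      simp only [Pi.add_apply, Pi.sub_apply, Pi.smul_apply, smul_eq_mul]
      by_cases hij : i = j
      · rw [if_pos hij, hij, bv_ne (by simp), bv_self, ← hβdef]
        ring
      · rw [if_neg hij, bv_ne (by simp), bv_ne (by simpa using hij)]
        ring
    have hw'k : w' (Sum.inr k) = 0 := by
      rw [hw'r, if_neg hjk, hwk]
    have hfilter : Finset.univ.filter (fun i : Fin m => w' (Sum.inr i) ≠ 0) =
        (Finset.univ.filter (fun i : Fin m => w (Sum.inr i) ≠ 0)).erase j := by
      ext i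
      rw [Finset.mem_erase, Finset.mem_filter, Finset.mem_filter, hw'r]
      by_cases hij : i = j
      · simp [hij]
      · simp [hij]
    have hcard' : (Finset.univ.filter (fun i : Fin m => w' (Sum.inr i) ≠ 0)).card = n := by
      rw [hfilter, Finset.card_erase_of_mem hj, hcard]
      rfl
    obtain ⟨s', hs'k, hs'w⟩ := ih w' hw'k hcard'
    refine ⟨s' * g, ?_, ?_⟩
    · rw [sv_mul, hgk, hs'k]
    · rw [sv_mul, hgw]
      exact hs'w

theorem exists_move' (k : Fin m) (w : K m → F) (hw : B w (bv (Sum.inl k)) = 0) :
    ∃ s : SpG m F, sv s (bv (Sum.inl k)) = bv (Sum.inl k) ∧ InW (sv s w) := by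
  rw [B_right_e] at hw
  exact exists_move k _ w hw rfl

end move

end Cfsg.Agent.Lib.H25.PSp
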