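import Mathlib
import Cfsg.Agent.Lib.H25.PSpD
import Cfsg.Agent.Lib.H1.NilpotentBasic

set_option autoImplicit false
set_option linter.unusedSectionVars false

/-!
# Central elements of `U` and transvections in strongly closed subgroups (helper25)
-/

namespace Cfsg.Agent.Lib.H25.PSp

open Matrix Cfsg.Agent.Lib.H4 Cfsg.Agent.Lib.H2.Sp Cfsg.Agent.Lib.H13.AutPSp
  Cfsg.Agent.Lib.H12.SylLarge

variable {F : Type*} [Field F] [Fintype F] {m : ℕ}

set_option quotPrecheck false in
local notation "B" => Cfsg.sympForm m F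

/-- the first three indices -/
def i0 (hm : 1 ≤ m) : Fin m := ⟨0, by omega⟩
def i1 (hm : 2 ≤ m) : Fin m := ⟨1, by omega⟩
def i2 (hm : 3 ≤ m) : Fin m := ⟨2, by omega⟩

theorem i0_ne_i1 (hm : 2 ≤ m) : i0 (by omega : 1 ≤ m) ≠ i1 hm := by
  intro h
  have := congrArg Fin.val h
  simp [i0, i1] at this

theorem i0_ne_i2 (hm : 3 ≤ m) : i0 (by omega : 1 ≤ m) ≠ i2 hm := by
  intro h
  have := congrArg Fin.val h
  simp [i0, i2] at this

theorem i1_ne_i2 (hm : 3 ≤ m) : i1 (by omega : 2 ≤ m) ≠ i2 hm := by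
  intro h
  have := congrArg Fin.val h
  simp [i1, i2] at this

/-- every finite field element is a sum of two squares -/
theorem exists_sq_add_sq (x : F) : ∃ a b : F, a ^ 2 + b ^ 2 = x := by
  by_cases h : Fintype.card F % 2 = 1
  · obtain ⟨a, b, hab⟩ := FiniteField.exists_root_sum_quadratic
      (f := (Polynomial.X ^ 2 : Polynomial F)) (g := Polynomial.X ^ 2 - Polynomial.C x)
      (Polynomial.degree_X_pow 2) (Polynomial.degree_X_pow_sub_C (by norm_num) x) h
    refine ⟨a, b, ?_⟩
    simp only [Polynomial.eval_pow, Polynomial.eval_X, Polynomial.eval_sub,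
      Polynomial.eval_C] at hab
    linear_combination hab
  · have h2 : Fintype.card F % 2 = 0 := by omega
    have h3 : ringChar F = 2 := FiniteField.even_card_iff_char_two.2 h2
    obtain ⟨r, hr⟩ := FiniteField.isSquare_of_char_two h3 x
    exact ⟨r, 0, by rw [hr]; ring⟩

theorem sv_e0_of_mem_U (hm : 1 ≤ m) {s : SpG m F} (hs : s ∈ (U : Subgroup (SpG m F))) :
    sv s (bv (Sum.inl (i0 hm))) = bv (Sum.inl (i0 hm)) := by
  have hsU := mem_U_iff_sv.1 hs (Sum.inl (i0 hm))
  funext j
  by_cases hj : j = Sum.inl (i0 hm)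
  · rw [hj, hsU.2, bv_self]
  · rw [bv_ne hj]
    apply hsU.1
    rcases j with i | i
    · simp only [rk_inl, i0]
      by_contra h
      apply hj
      have : i.val = 0 := by omega
      rw [show i = i0 hm from Fin.ext this]
    · have := i.2
      simp only [rk_inl, rk_inr, i0]
      omega

theorem Qg_e0_le_U (hm : 1 ≤ m) :
    (Qg (bv (Sum.inl (i0 hm)) : K m → F) : Subgroup (SpG m F)) ≤ U := by
  rintro x ⟨w, b, hw, rfl⟩
  apply EL_mem_U hw b 0 (2 * m - 2)
  · intro j hj
    have := bv_supp (F := F) (Sum.inl (i0 hm)) j hj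
    simpa [i0] using this
  · intro j hj
    by_contra hcon
    apply hj
    have h1 := rk_lt j
    have h2 : rk j = rk (Sum.inr (i0 hm) : K m) := by
      simp only [rk_inr, i0]
      omega
    rw [rk_injective h2]
    have := B_right_e w (i0 hm)
    rw [← this]
    exact hw
  · omega
  · right; omega

theorem sv_hd_bv (t : Fin m → Fˣ) (k : K m) : sv (hd t) (bv k) = (dd t k • bv k : K m → F) := by
  funext j
  rw [sv_hd, Pi.smul_apply, smul_eq_mul]
  by_cases h : j = k
  · rw [h]
  · rw [bv_ne h, mul_zero, mul_zero]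

/-- the form of a central element of `U` -/
theorem central_form (hm : 2 ≤ m) {z : SpG m F} (hz : z ∈ (U : Subgroup (SpG m F)))
    (hcen : ∀ s ∈ (U : Subgroup (SpG m F)), s * z = z * s) :
    ∃ l b : F, z = EL (bv (Sum.inl (i0 (by omega)))) (l • bv (Sum.inl (i1 hm))) b := by
  have hm1 : 1 ≤ m := by omega
  set e₀ : K m → F := bv (Sum.inl (i0 hm1)) with he₀
  set e₁ : K m → F := bv (Sum.inl (i1 hm)) with he₁
  have hz0 : sv z e₀ = e₀ := sv_e0_of_mem_U hm1 hz
  have he₀0 : e₀ ≠ 0 := bv_ne_zero _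
  have hzQ : z ∈ Qg e₀ := by
    apply mem_Qg_of_comm he₀0 hz0
    intro w hw
    exact (hcen _ (Qg_e0_le_U hm1 (EL_mem_Qg hw 0))).symm
  obtain ⟨w₀, b₀, hw₀, hzEL⟩ := hzQ
  -- every element of `U` fixes `w₀` modulo `e₀`
  have key : ∀ s ∈ (U : Subgroup (SpG m F)), ∃ c : F, sv s w₀ = w₀ + c • e₀ := by
    intro s hs
    have h1 : s * z * s⁻¹ = z := by
      rw [hcen s hs, mul_assoc, mul_inv_cancel, mul_one]
    rw [hzEL, EL_conj hw₀, sv_e0_of_mem_U hm1 hs] at h1
    have hw' : B (sv s w₀) e₀ = 0 := by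
      have := B_sv s w₀ e₀
      rw [sv_e0_of_mem_U hm1 hs] at this
      rw [this, hw₀]
    exact EL_eq_imp he₀0 hw₀ hw' h1.symm
  -- `w₀` lies in `W`
  have hW : InW w₀ := by
    intro i
    by_cases hi : i = i0 hm1
    · rw [hi]
      have := B_right_e w₀ (i0 hm1)
      rw [← this]
      exact hw₀
    · have hmem : tv m (bv (Sum.inl i)) (1 : F) ∈ (U : Subgroup (SpG m F)) := by
        apply tv_mem_U 1 i.val
        · intro j hj
          have := bv_supp (F := F) (Sum.inl i) j hj
          simpa using this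
        · have := i.2; omega
      obtain ⟨c, hc⟩ := key _ hmem
      rw [sv_tv, B_right_e, one_mul] at hc
      have h2 := congrFun hc (Sum.inl i)
      have h3 : e₀ (Sum.inl i) = 0 := by
        rw [he₀]; exact bv_ne (by simpa using hi)
      simp only [Pi.add_apply, Pi.smul_apply, smul_eq_mul, bv_self, h3] at h2
      linear_combination h2
  -- the coordinates `e_j`, `j ≥ 2`, vanish
  have hW2 : ∀ j : Fin m, 2 ≤ j.val → w₀ (Sum.inl j) = 0 := by
    intro j hj
    have hj1 : j ≠ i1 hm := by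
      intro h
      have := congrArg Fin.val h
      simp only [i1] at this
      omega
    have hw : B (bv (Sum.inr j)) e₁ = 0 := B_fe_ne hj1
    have hmem : EL e₁ (bv (Sum.inr j)) 0 ∈ (U : Subgroup (SpG m F)) := by
      apply EL_mem_U hw 0 1 (2 * m - 1 - j.val)
      · intro a ha
        have := bv_supp (F := F) (Sum.inl (i1 hm)) a ha
        simpa [i1] using this
      · intro a ha
        have := bv_supp (F := F) (Sum.inr j) a ha
        simpa using this
      · have := j.2; omega
      · left; rfl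
    obtain ⟨c, hc⟩ := key _ hmem
    rw [sv_EL hw, he₁, B_right_e, hW (i1 hm), B_right_f] at hc
    have h2 := congrFun hc (Sum.inl (i1 hm))
    have h3 : e₀ (Sum.inl (i1 hm)) = 0 := by
      rw [he₀]; exact bv_ne (by simpa using (i0_ne_i1 hm).symm)
    have h4 : (bv (Sum.inr j) : K m → F) (Sum.inl (i1 hm)) = 0 := bv_ne (by simp)
    have h5 : (bv (Sum.inl (i1 hm)) : K m → F) (Sum.inl (i1 hm)) = 1 := bv_self _
    simp only [Pi.add_apply, Pi.smul_apply, smul_eq_mul, h3, h4, h5] at h2
    linear_combination -h2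
  -- hence `w₀ = a e₀ + l e₁`
  have hw₀eq : w₀ = w₀ (Sum.inl (i0 hm1)) • e₀ + w₀ (Sum.inl (i1 hm)) • e₁ := by
    funext j
    simp only [Pi.add_apply, Pi.smul_apply, smul_eq_mul]
    rcases j with i | i
    · by_cases h0 : i = i0 hm1
      · rw [h0, he₀, he₁, bv_self, bv_ne (by simpa using (i0_ne_i1 hm))]
        ring
      · by_cases h1 : i = i1 hm
        · rw [h1, he₀, he₁, bv_self, bv_ne (by simpa using (i0_ne_i1 hm).symm)]
          ring
        · have : 2 ≤ i.val := by
            by_contra hlt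
            have hv : i.val = 0 ∨ i.val = 1 := by omega
            rcases hv with hv | hv
            · exact h0 (Fin.ext hv)
            · exact h1 (Fin.ext hv)
          rw [hW2 i this, he₀, he₁, bv_ne (by simpa using h0), bv_ne (by simpa using h1)]
          ring
    · rw [hW i, he₀, he₁, bv_ne (by simp), bv_ne (by simp)]
      ring
  set a := w₀ (Sum.inl (i0 hm1)) with ha
  set l := w₀ (Sum.inl (i1 hm)) with hl
  refine ⟨l, b₀ + 2 * a, ?_⟩
  have hw1 : B (l • e₁) e₀ = 0 := by
    rw [sympForm_smul_left, he₁, he₀, B_ee, mul_zero]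
  rw [hzEL]
  apply ext_sv
  intro x
  rw [sv_EL hw₀, sv_EL hw1, hw₀eq]
  simp only [sympForm_add_right, sympForm_smul_right]
  module

end Cfsg.Agent.Lib.H25.PSp
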