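import Mathlib
import Cfsg.Agent.Lib.H25.PSpE

set_option autoImplicit false
set_option linter.unusedSectionVars false

/-!
# Strongly closed subgroups of the unitriangular subgroup of `Sp_{2m}(F)`: key lemmas (helper25)
-/

namespace Cfsg.Agent.Lib.H25.PSp

open Matrix Cfsg.Agent.Lib.H4 Cfsg.Agent.Lib.H2.Sp Cfsg.Agent.Lib.H13.AutPSp
  Cfsg.Agent.Lib.H12.SylLarge

variable {F : Type*} [Field F] [Fintype F] {m : ℕ}

set_option quotPrecheck false in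
local notation "B" => Cfsg.sympForm m F

theorem tv_inv' (v : K m → F) (c : F) : (tv m v c)⁻¹ = tv m v (-c) := by
  rw [inv_eq_iff_mul_eq_one, tv_mul, add_neg_cancel, tv_zero_right]

theorem inW_neg {x : K m → F} (hx : InW x) : InW (-x) := by
  intro i
  rw [Pi.neg_apply, hx i, neg_zero]

theorem inW_sub {x y : K m → F} (hx : InW x) (hy : InW y) : InW (x - y) := by
  intro i
  rw [Pi.sub_apply, hx i, hy i, sub_zero]

theorem inW_zero : InW (0 : K m → F) := fun _ => rfl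

theorem tv_zero_left' (c : F) : tv m (0 : K m → F) c = 1 := by
  apply ext_sv
  intro x
  rw [sv_tv, smul_zero, add_zero, sv_one]

theorem conj_tv' (g : SpG m F) (v : K m → F) (c : F) :
    g * tv m v c * g⁻¹ = tv m (sv g v) c := conj_tv g v c

section sc

variable {T : Subgroup (SpG m F)}

/-- the standing hypothesis: `T` is strongly closed in `U` with respect to `Sp` -/
def SC (T : Subgroup (SpG m F)) : Prop :=
  T ≤ U ∧ ∀ x ∈ T, ∀ g : SpG m F, g * x * g⁻¹ ∈ (U : Subgroup (SpG m F)) → g * x * g⁻¹ ∈ T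

theorem SC.conj_mem (hT : SC T) {x u : SpG m F} (hx : x ∈ T)
    (hu : u ∈ (U : Subgroup (SpG m F))) : u * x * u⁻¹ ∈ T :=
  hT.2 x hx u (Subgroup.mul_mem _ (Subgroup.mul_mem _ hu (hT.1 hx)) (Subgroup.inv_mem _ hu))

theorem key_c (hT : SC T) (hm : 2 ≤ m) (l b : F)
    (h : EL (bv (Sum.inl (i0 (by omega : 1 ≤ m))) : K m → F) (l • bv (Sum.inl (i1 hm))) b ∈ T) :
    tv m (bv (Sum.inl (i0 (by omega : 1 ≤ m))) : K m → F) (b - l ^ 2) ∈ T := by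
  have hm1 : 1 ≤ m := by omega
  set e₀ : K m → F := bv (Sum.inl (i0 hm1)) with he₀
  set e₁ : K m → F := bv (Sum.inl (i1 hm)) with he₁
  set f₁ : K m → F := bv (Sum.inr (i1 hm)) with hf₁
  have h01 : B e₀ e₁ = 0 := B_ee _ _
  have h10 : B e₁ e₀ = 0 := B_ee _ _
  have h11 : B e₁ e₁ = 0 := B_ee _ _
  have h00 : B e₀ e₀ = 0 := B_ee _ _
  have h0f : B e₀ f₁ = 0 := B_ef_ne (i0_ne_i1 hm)
  have hf0 : B f₁ e₀ = 0 := B_fe_ne (i0_ne_i1 hm).symm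
  have h1f : B e₁ f₁ = -1 := B_ef_self _
  have hf1 : B f₁ e₁ = 1 := B_fe_self _
  have hw : B (l • e₁) e₀ = 0 := by rw [sympForm_smul_left, h10, mul_zero]
  set z := EL e₀ (l • e₁) b with hz
  set s' : SpG m F := tv m e₁ 1 * tv m f₁ 1 with hs'
  have hs'0 : sv s' e₀ = e₀ := by
    have a1 : sv (tv m f₁ 1) e₀ = e₀ := by
      rw [sv_tv, h0f, mul_zero, zero_smul, add_zero]
    rw [hs', sv_mul, a1, sv_tv, h01, mul_zero, zero_smul, add_zero]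
  have hs'1 : sv s' e₁ = - f₁ := by
    have a2 : sv (tv m f₁ 1) e₁ = e₁ - f₁ := by
      rw [sv_tv, h1f]
      module
    rw [hs', sv_mul, a2, sv_tv, B_sub_left, h11, hf1]
    module
  have hw' : B (l • -f₁) e₀ = 0 := by
    rw [sympForm_smul_left, B_neg_left, hf0, neg_zero, mul_zero]
  have hz' : s' * z * s'⁻¹ = EL e₀ (l • -f₁) b := by
    rw [hz, EL_conj hw, hs'0, sv_smul, hs'1]
  have hz'U : EL e₀ (l • -f₁) b ∈ (U : Subgroup (SpG m F)) :=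
    Qg_e0_le_U hm1 (EL_mem_Qg hw' b)
  have hz'T : EL e₀ (l • -f₁) b ∈ T := by
    rw [← hz']
    apply hT.2 _ h
    rw [hz']
    exact hz'U
  set z' := EL e₀ (l • -f₁) b with hz'def
  have ht₁U : tv m e₁ (1 : F) ∈ (U : Subgroup (SpG m F)) := by
    apply tv_mem_U 1 1
    · intro j hj
      have := bv_supp (F := F) (Sum.inl (i1 hm)) j hj
      simpa [i1] using this
    · omega
  have hcT : z' * tv m e₁ 1 * z'⁻¹ * (tv m e₁ 1)⁻¹ ∈ T := by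
    have h1 : z' * tv m e₁ 1 * z'⁻¹ * (tv m e₁ 1)⁻¹ =
        z' * (tv m e₁ 1 * z'⁻¹ * (tv m e₁ 1)⁻¹) := by group
    rw [h1]
    exact T.mul_mem hz'T (hT.conj_mem (T.inv_mem hz'T) ht₁U)
  have hz'e₁ : sv z' e₁ = e₁ + l • e₀ := by
    rw [hz'def, sv_EL hw', h10, sympForm_smul_right, B_neg_right, h1f]
    module
  have hc : z' * tv m e₁ 1 * z'⁻¹ * (tv m e₁ 1)⁻¹ = EL e₀ (l • e₁) (l ^ 2) := by
    rw [conj_tv', hz'e₁, tv_inv']
    apply ext_sv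
    intro x
    rw [sv_mul, sv_tv, sv_tv, sv_EL hw]
    simp only [sympForm_add_left, sympForm_add_right, sympForm_smul_left, sympForm_smul_right,
      h11, h10]
    module
  rw [hc] at hcT
  have hfin : z * (EL e₀ (l • e₁) (l ^ 2))⁻¹ = tv m e₀ (b - l ^ 2) := by
    have hwn : B (-(l • e₁)) e₀ = 0 := by rw [B_neg_left, hw, neg_zero]
    rw [hz, EL_inv hw, EL_mul hw hwn, add_neg_cancel, EL_zero_left, B_neg_left, sympForm_self]
    congr 1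
    ring
  rw [← hfin]
  exact T.mul_mem h (T.inv_mem hcT)

theorem key_e2 (hT : SC T) (hm : 3 ≤ m) (l : F)
    (h : EL (bv (Sum.inl (i0 (by omega : 1 ≤ m))) : K m → F)
      (l • bv (Sum.inl (i1 (by omega : 2 ≤ m)))) (l ^ 2) ∈ T) :
    tv m (bv (Sum.inl (i0 (by omega : 1 ≤ m))) : K m → F) (- l ^ 2) ∈ T := by
  have hm1 : 1 ≤ m := by omega
  have hm2 : 2 ≤ m := by omega
  set e₀ : K m → F := bv (Sum.inl (i0 hm1)) with he₀
  set e₁ : K m → F := bv (Sum.inl (i1 hm2)) with he₁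
  set e₂ : K m → F := bv (Sum.inl (i2 hm)) with he₂
  set f₁ : K m → F := bv (Sum.inr (i1 hm2)) with hf₁
  set f₂ : K m → F := bv (Sum.inr (i2 hm)) with hf₂
  have hW0 : InW e₀ := inW_bv_inl _
  have hW1 : InW e₁ := inW_bv_inl _
  have hW2 : InW e₂ := inW_bv_inl _
  have h0f1 : B e₀ f₁ = 0 := B_ef_ne (i0_ne_i1 hm2)
  have h0f2 : B e₀ f₂ = 0 := B_ef_ne (i0_ne_i2 hm)
  have h1f1 : B e₁ f₁ = -1 := B_ef_self _
  have h1f2 : B e₁ f₂ = 0 := B_ef_ne (i1_ne_i2 hm)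
  have h2f2 : B e₂ f₂ = -1 := B_ef_self _
  have hw : B (l • e₁) e₀ = 0 := B_inW (inW_smul l hW1) hW0
  set z := EL e₀ (l • e₁) (l ^ 2) with hz
  -- first conjugation
  have hw1 : B f₁ e₂ = 0 := B_fe_ne (i1_ne_i2 hm)
  have hg₁0 : sv (EL e₂ f₁ 0) e₀ = e₀ := by
    rw [sv_EL hw1, B_inW hW0 hW2, h0f1]
    simp
  have hg₁1 : sv (EL e₂ f₁ 0) e₁ = e₁ - e₂ := by
    rw [sv_EL hw1, B_inW hW1 hW2, h1f1]
    module
  have hwA2 : B (l • (e₁ - e₂)) e₀ = 0 := B_inW (inW_smul l (inW_sub hW1 hW2)) hW0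
  have hA2 : EL e₂ f₁ 0 * z * (EL e₂ f₁ 0)⁻¹ = EL e₀ (l • (e₁ - e₂)) (l ^ 2) := by
    rw [hz, EL_conj hw, hg₁0, sv_smul, hg₁1]
  have hA2T : EL e₀ (l • (e₁ - e₂)) (l ^ 2) ∈ T := by
    rw [← hA2]
    apply hT.2 _ h
    rw [hA2]
    exact Qg_e0_le_U hm1 (EL_mem_Qg hwA2 _)
  -- second conjugation
  have hw2 : B f₂ e₁ = 0 := B_fe_ne (i1_ne_i2 hm).symm
  have hg₂0 : sv (EL e₁ f₂ 0) e₀ = e₀ := by
    rw [sv_EL hw2, B_inW hW0 hW1, h0f2]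
    simp
  have hg₂1 : sv (EL e₁ f₂ 0) e₁ = e₁ := by
    rw [sv_EL hw2, B_inW hW1 hW1, h1f2]
    simp
  have hg₂2 : sv (EL e₁ f₂ 0) e₂ = e₂ - e₁ := by
    rw [sv_EL hw2, B_inW hW2 hW1, h2f2]
    module
  have hwA4 : B (l • (e₁ - (e₂ - e₁))) e₀ = 0 :=
    B_inW (inW_smul l (inW_sub hW1 (inW_sub hW2 hW1))) hW0
  have hA4 : EL e₁ f₂ 0 * EL e₀ (l • (e₁ - e₂)) (l ^ 2) * (EL e₁ f₂ 0)⁻¹ =
      EL e₀ (l • (e₁ - (e₂ - e₁))) (l ^ 2) := by
    rw [EL_conj hwA2, hg₂0, sv_smul, sv_sub, hg₂1, hg₂2]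
  have hA4T : EL e₀ (l • (e₁ - (e₂ - e₁))) (l ^ 2) ∈ T := by
    rw [← hA4]
    apply hT.2 _ hA2T
    rw [hA4]
    exact Qg_e0_le_U hm1 (EL_mem_Qg hwA4 _)
  -- the product
  have hA3T : z * EL e₀ (l • (e₁ - e₂)) (l ^ 2) ∈ T := T.mul_mem h hA2T
  rw [hz, EL_mul hw hwA2] at hA3T
  have hw3 : B (l • e₁ + l • (e₁ - e₂)) e₀ = 0 :=
    B_inW (inW_add (inW_smul l hW1) (inW_smul l (inW_sub hW1 hW2))) hW0
  have hfin := T.mul_mem hA4T (T.inv_mem hA3T)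
  have hw3n : B (-(l • e₁ + l • (e₁ - e₂))) e₀ = 0 := by rw [B_neg_left, hw3, neg_zero]
  rw [EL_inv hw3, EL_mul hwA4 hw3n] at hfin
  have e1 : l • (e₁ - (e₂ - e₁)) + -(l • e₁ + l • (e₁ - e₂)) = 0 := by module
  have e2 : B (l • (e₁ - e₂)) (l • e₁) = 0 :=
    B_inW (inW_smul l (inW_sub hW1 hW2)) (inW_smul l hW1)
  have e3 : B (-(l • e₁ + l • (e₁ - e₂))) (l • (e₁ - (e₂ - e₁))) = 0 :=
    B_inW (inW_neg (inW_add (inW_smul l hW1) (inW_smul l (inW_sub hW1 hW2))))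
      (inW_smul l (inW_sub hW1 (inW_sub hW2 hW1)))
  rw [e1, e2, e3, EL_zero_left] at hfin
  have e4 : l ^ 2 + -(l ^ 2 + l ^ 2 + 0) + 0 = - l ^ 2 := by ring
  rw [e4] at hfin
  exact hfin

theorem key_torus (hT : SC T) (hm : 2 ≤ m) (t : Fˣ) (l b : F)
    (h : EL (bv (Sum.inl (i0 (by omega : 1 ≤ m))) : K m → F) (l • bv (Sum.inl (i1 hm))) b ∈ T) :
    EL (bv (Sum.inl (i0 (by omega : 1 ≤ m))) : K m → F)
      ((l * (t : F)) • bv (Sum.inl (i1 hm))) b ∈ T := by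
  have hm1 : 1 ≤ m := by omega
  set e₀ : K m → F := bv (Sum.inl (i0 hm1)) with he₀
  set e₁ : K m → F := bv (Sum.inl (i1 hm)) with he₁
  have hW0 : InW e₀ := inW_bv_inl _
  have hW1 : InW e₁ := inW_bv_inl _
  have hw : B (l • e₁) e₀ = 0 := B_inW (inW_smul l hW1) hW0
  set hh : SpG m F := hd (Function.update (1 : Fin m → Fˣ) (i1 hm) t) with hhdef
  have h0 : sv hh e₀ = e₀ := by
    rw [hhdef, he₀, sv_hd_bv, dd_inl, Function.update_of_ne (i0_ne_i1 hm)]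
    simp
  have h1 : sv hh e₁ = (t : F) • e₁ := by
    rw [hhdef, he₁, sv_hd_bv, dd_inl, Function.update_self]
  have hconj : hh * EL e₀ (l • e₁) b * hh⁻¹ = EL e₀ ((l * (t : F)) • e₁) b := by
    rw [EL_conj hw, h0, sv_smul, h1, smul_smul]
  rw [← hconj]
  apply hT.2 _ h
  rw [hconj]
  exact Qg_e0_le_U hm1 (EL_mem_Qg (B_inW (inW_smul _ hW1) hW0) _)

end sc

end Cfsg.Agent.Lib.H25.PSp
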