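import Mathlib
import Cfsg.Agent.Lib.H25.PSpF
import Cfsg.Prelude.Def_TwoFusion

set_option autoImplicit false
set_option linter.unusedSectionVars false

/-!
# Strongly closed subgroups of the Sylow `p`-subgroup of `PSp_{2m}(F)` (helper25)
-/

namespace Cfsg.Agent.Lib.H25.PSp

open Matrix Cfsg.Agent.Lib.H4 Cfsg.Agent.Lib.H2.Sp Cfsg.Agent.Lib.H13.AutPSp
  Cfsg.Agent.Lib.H12.SylLarge

variable {F : Type*} [Field F] [Fintype F] {m : ℕ}

set_option quotPrecheck false in
local notation "B" => Cfsg.sympForm m F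

section sc

variable {T : Subgroup (SpG m F)}

/-- a nontrivial strongly closed subgroup contains a nontrivial transvection with centre `e₀` -/
theorem exists_tv_mem (p : ℕ) [Fact p.Prime] [CharP F p] (hT : SC T) (hm : 2 ≤ m)
    (hex : m = 2 → 3 ≤ Fintype.card F) (hne : T ≠ ⊥) :
    ∃ c : F, c ≠ 0 ∧ tv m (bv (Sum.inl (i0 (by omega : 1 ≤ m))) : K m → F) c ∈ T := by
  have hm1 : 1 ≤ m := by omega
  have hpU : IsPGroup p (U : Subgroup (SpG m F)) := isPGroup_U p hm1
  have : Group.IsNilpotent (U : Subgroup (SpG m F)) := hpU.isNilpotent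
  have hN : (T.subgroupOf (U : Subgroup (SpG m F))).Normal := by
    constructor
    intro x hx s
    rw [Subgroup.mem_subgroupOf] at hx ⊢
    have h1 : ((s * x * s⁻¹ : (U : Subgroup (SpG m F))) : SpG m F) =
        (s : SpG m F) * (x : SpG m F) * (s : SpG m F)⁻¹ := by simp
    rw [h1]
    exact hT.conj_mem hx s.2
  have hNne : T.subgroupOf (U : Subgroup (SpG m F)) ≠ ⊥ := by
    intro h
    apply hne
    rw [Subgroup.subgroupOf_eq_bot] at h
    rwa [disjoint_iff, inf_of_le_left hT.1] at h
  have hcz := Cfsg.Agent.Lib.H1.normal_inf_center_ne_bot _ hNne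
  obtain ⟨⟨z, hzmem⟩, hz1'⟩ := (Subgroup.ne_bot_iff_exists_ne_one).1 hcz
  have hz1 : (z : SpG m F) ≠ 1 := fun h => hz1' (Subtype.ext (Subtype.ext h))
  have hzT : (z : SpG m F) ∈ T := (Subgroup.mem_inf.1 hzmem).1
  have hzc := (Subgroup.mem_inf.1 hzmem).2
  have hcen : ∀ s ∈ (U : Subgroup (SpG m F)), s * (z : SpG m F) = (z : SpG m F) * s := by
    intro s hs
    have := Subgroup.mem_center_iff.1 hzc ⟨s, hs⟩
    have h2 := congrArg (fun t : (U : Subgroup (SpG m F)) => (t : SpG m F)) this
    simpa using h2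
  obtain ⟨l, b, hzform⟩ := central_form hm z.2 hcen
  set e₀ : K m → F := bv (Sum.inl (i0 hm1)) with he₀
  set e₁ : K m → F := bv (Sum.inl (i1 hm)) with he₁
  rw [hzform] at hzT hz1
  by_cases hl : l = 0
  · -- a transvection
    rw [hl, zero_smul, EL_zero_left] at hzT hz1
    refine ⟨b, ?_, hzT⟩
    rintro rfl
    exact hz1 (tv_zero_right _)
  · have h1 := key_c hT hm l b hzT
    by_cases hb : b - l ^ 2 = 0
    · have hb' : b = l ^ 2 := sub_eq_zero.1 hb
      rw [hb'] at hzT
      by_cases hm3 : 3 ≤ m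
      · refine ⟨- l ^ 2, ?_, key_e2 hT hm3 l hzT⟩
        exact neg_ne_zero.2 (pow_ne_zero 2 hl)
      · have hm2 : m = 2 := by omega
        have hcard := hex hm2
        by_cases h2 : (2 : F) = 0
        · -- characteristic two: use the torus
          have hex2 : ∃ t : F, t ≠ 0 ∧ t ≠ 1 := by
            classical
            have hlt : ({0, 1} : Finset F).card < (Finset.univ : Finset F).card := by
              have : ({0, 1} : Finset F).card ≤ 2 := Finset.card_le_two
              rw [Finset.card_univ]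
              omega
            obtain ⟨t, -, ht⟩ := Finset.exists_mem_notMem_of_card_lt_card hlt
            refine ⟨t, ?_, ?_⟩
            · rintro rfl; exact ht (by simp)
            · rintro rfl; exact ht (by simp)
          obtain ⟨t, ht0, ht1⟩ := hex2
          have ht2 : t ^ 2 ≠ 1 := by
            intro h
            apply ht1
            have h3 : (t - 1) ^ 2 = 0 := by
              have : (t - 1) ^ 2 = t ^ 2 - 2 * t + 1 := by ring
              rw [this, h, h2, zero_mul, sub_zero]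
              linear_combination h2
            exact sub_eq_zero.1 ((pow_eq_zero_iff (two_ne_zero)).1 h3)
          have h3 := key_torus hT hm (Units.mk0 t ht0) l (l ^ 2) hzT
          have h4 := key_c hT hm _ _ h3
          refine ⟨_, ?_, h4⟩
          rw [Units.val_mk0]
          have : l ^ 2 - (l * t) ^ 2 = l ^ 2 * (1 - t ^ 2) := by ring
          rw [this]
          apply mul_ne_zero (pow_ne_zero 2 hl)
          intro h5
          exact ht2 (sub_eq_zero.1 h5).symm
        · -- odd characteristic: `l = 0`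
          exfalso
          apply hl
          set f₁ : K m → F := bv (Sum.inr (i1 hm)) with hf₁
          have hwf : B f₁ e₀ = 0 := B_fe_ne (i0_ne_i1 hm).symm
          have hwl : B (l • e₁) e₀ = 0 := by
            rw [sympForm_smul_left]
            have : B e₁ e₀ = 0 := B_ee _ _
            rw [this, mul_zero]
          have hxU : EL e₀ f₁ 0 ∈ (U : Subgroup (SpG m F)) :=
            Qg_e0_le_U hm1 (EL_mem_Qg hwf 0)
          have hcomm := hcen _ hxU
          rw [hzform, hb', EL_mul hwf hwl, EL_mul hwl hwf, add_comm f₁ (l • e₁)] at hcomm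
          have hws : B (l • e₁ + f₁) e₀ = 0 := by
            rw [sympForm_add_left, hwl, hwf, add_zero]
          have h5 := EL_eq_imp_b (bv_ne_zero _) hws hcomm
          rw [sympForm_smul_left, sympForm_smul_right] at h5
          have h1f : B e₁ f₁ = -1 := B_ef_self _
          have hf1 : B f₁ e₁ = 1 := B_fe_self _
          rw [h1f, hf1] at h5
          have h6 : 2 * l = 0 := by linear_combination -h5
          exact (mul_eq_zero.1 h6).resolve_left h2
    · exact ⟨_, hb, h1⟩

/-- all transvections with centre in `W` lie in a nontrivial strongly closed subgroup -/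
theorem tv_mem_of_SC (hT : SC T) (hm : 1 ≤ m) {c : F} (hc : c ≠ 0)
    (h : tv m (bv (Sum.inl (i0 hm)) : K m → F) c ∈ T) {w : K m → F} (hw : InW w) (c' : F) :
    tv m w c' ∈ T := by
  have hconj : ∀ w : K m → F, InW w → tv m w c ∈ T := by
    intro w hw
    by_cases hw0 : w = 0
    · rw [hw0, tv_zero_left']
      exact T.one_mem
    · obtain ⟨g, hg⟩ := transitive m (bv (Sum.inl (i0 hm)) : K m → F) w (bv_ne_zero _) hw0
      have h1 : g * tv m (bv (Sum.inl (i0 hm))) c * g⁻¹ = tv m w c := by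
        rw [conj_tv]
        rw [hg]
      rw [← h1]
      apply hT.2 _ h
      rw [h1]
      apply tv_mem_U c (m - 1) (inW_rk hw hm)
      omega
  obtain ⟨a, b, hab⟩ := exists_sq_add_sq (c' / c)
  have h2 : tv m w c' = tv m (a • w) c * tv m (b • w) c := by
    rw [tv_smul, tv_smul, tv_mul]
    congr 1
    have : c' = c * (c' / c) := by field_simp
    rw [this, ← hab]
    ring
  rw [h2]
  exact T.mul_mem (hconj _ (inW_smul a hw)) (hconj _ (inW_smul b hw))

/-- the generators of `U` lie in a nontrivial strongly closed subgroup -/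
theorem GenEL_subset (hT : SC T) (hm : 1 ≤ m) {c : F} (hc : c ≠ 0)
    (h : tv m (bv (Sum.inl (i0 hm)) : K m → F) c ∈ T) :
    (GenEL : Set (SpG m F)) ⊆ T := by
  rintro x ⟨hxU, k, w, b, hw, rfl⟩
  obtain ⟨s, hsk, hsw⟩ := exists_move' k w hw
  have h1 : s * EL (bv (Sum.inl k)) w b * s⁻¹ = EL (bv (Sum.inl k)) (sv s w) b := by
    rw [EL_conj hw, hsk]
  have h2 : EL (bv (Sum.inl k) : K m → F) (sv s w) b ∈ T := by
    unfold EL
    refine T.mul_mem (T.mul_mem ?_ ?_) ?_
    · exact tv_mem_of_SC hT hm hc h hsw _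
    · exact tv_mem_of_SC hT hm hc h (inW_bv_inl k) _
    · exact tv_mem_of_SC hT hm hc h (inW_add (inW_bv_inl k) hsw) _
  have h3 : EL (bv (Sum.inl k) : K m → F) w b =
      s⁻¹ * EL (bv (Sum.inl k)) (sv s w) b * s⁻¹⁻¹ := by
    rw [← h1]; group
  rw [SetLike.mem_coe, h3]
  apply hT.2 _ h2
  rw [← h3]
  exact hxU

/-- A nontrivial strongly closed subgroup of `U` is `U`. -/
theorem stronglyClosed_Sp (p : ℕ) [Fact p.Prime] [CharP F p] (hT : SC T) (hm : 2 ≤ m)
    (hex : m = 2 → 3 ≤ Fintype.card F) (hne : T ≠ ⊥) : T = U := by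
  obtain ⟨c, hc, h⟩ := exists_tv_mem p hT hm hex hne
  apply le_antisymm hT.1
  refine U_le_closure_GenEL.trans ((Subgroup.closure_le _).2 ?_)
  exact GenEL_subset hT (by omega) hc h

end sc

/-! ### Transfer to `PSp` -/

section psp

/-- `U` meets the centre trivially -/
theorem eq_one_of_mem_U_of_center {u : SpG m F} (hu : u ∈ (U : Subgroup (SpG m F)))
    (hm : 1 ≤ m) (hc : u ∈ Subgroup.center (SpG m F)) : u = 1 := by
  obtain ⟨c, hc⟩ := scalar_of_mem_center hm hc
  apply ext_bv
  intro l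
  rw [sv_one, hc]
  have h1 := (mem_U_iff_sv.1 hu l).2
  rw [hc, Pi.smul_apply, bv_self, smul_eq_mul, mul_one] at h1
  rw [h1, one_smul]

theorem pr_injOn_U (hm : 1 ≤ m) {u v : SpG m F} (hu : u ∈ (U : Subgroup (SpG m F)))
    (hv : v ∈ (U : Subgroup (SpG m F))) (h : pr u = pr v) : u = v := by
  have h1 := (pr_eq_pr_iff (s := u) (t := v)).1 h
  have h2 := eq_one_of_mem_U_of_center (Subgroup.mul_mem _ (Subgroup.inv_mem _ hu) hv) hm h1
  calc u = u * (u⁻¹ * v) := by rw [h2, mul_one]
    _ = v := by group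

/-- A nontrivial strongly closed subgroup of `Ubar` is `Ubar`. -/
theorem stronglyClosed_Ubar (p : ℕ) [Fact p.Prime] [CharP F p] (hm : 2 ≤ m) (hex : m = 2 → 3 ≤ Fintype.card F)
    (T : Subgroup (Cfsg.PSp m F))
    (hT : Cfsg.IsStronglyClosed T (Ubar : Subgroup (Cfsg.PSp m F))) (hne : T ≠ ⊥) :
    T = Ubar := by
  have hm1 : 1 ≤ m := by omega
  set T₀ : Subgroup (SpG m F) := (U : Subgroup (SpG m F)) ⊓ T.comap pr with hT₀
  have hSC : SC T₀ := by
    refine ⟨inf_le_left, ?_⟩
    intro x hx g hg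
    refine ⟨hg, ?_⟩
    show pr (g * x * g⁻¹) ∈ T
    rw [map_mul, map_mul, map_inv]
    apply hT.2 _ hx.2
    rw [← map_inv, ← map_mul, ← map_mul]
    exact Subgroup.mem_map_of_mem _ hg
  have hne₀ : T₀ ≠ ⊥ := by
    intro h
    apply hne
    rw [eq_bot_iff]
    intro t ht
    obtain ⟨u, hu, rfl⟩ := Subgroup.mem_map.1 (hT.1 ht)
    have : u ∈ T₀ := ⟨hu, ht⟩
    rw [h, Subgroup.mem_bot] at this
    rw [this, map_one]
    exact Subgroup.mem_bot.2 rfl
  have h1 := stronglyClosed_Sp p hSC hm hex hne₀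
  apply le_antisymm hT.1
  rintro x ⟨u, hu, rfl⟩
  have : u ∈ T₀ := by rw [h1]; exact hu
  exact this.2

theorem Ubar_ne_bot (hm : 1 ≤ m) : (Ubar : Subgroup (Cfsg.PSp m F)) ≠ ⊥ := by
  intro h
  have hmem : (pr (tv m (bv (Sum.inl (i0 hm)) : K m → F) 1) : Cfsg.PSp m F) ∈
      (Ubar : Subgroup (Cfsg.PSp m F)) := by
    apply Subgroup.mem_map_of_mem
    apply tv_mem_U 1 0
    · intro j hj
      have := bv_supp (F := F) (Sum.inl (i0 hm)) j hj
      simpa [i0] using this
    · omega
  rw [h, Subgroup.mem_bot, pr_eq_one_iff] at hmem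
  exact tv_not_mem_center hm (bv_ne_zero _) one_ne_zero hmem

end psp

end Cfsg.Agent.Lib.H25.PSp
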