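import Mathlib
import Cfsg.Agent.Lib.H25.PSpG
import Cfsg.Agent.Lib.H25.PSLnC
import Cfsg.Agent.Lib.H25.LieCrit

set_option autoImplicit false
set_option linter.unusedSectionVars false

/-!
# The normalizer of `Ubar` in `PSp_{2m}(F)` is generated by good elements (helper25)
-/

namespace Cfsg.Agent.Lib.H25.PSp

open Matrix Cfsg.Agent.Lib.H4 Cfsg.Agent.Lib.H2.Sp Cfsg.Agent.Lib.H13.AutPSp
  Cfsg.Agent.Lib.H12.SylLarge Cfsg.Agent.Lib.H25.LieCrit

variable {F : Type*} [Field F] [Fintype F] {m : ℕ}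

set_option quotPrecheck false in
local notation "B" => Cfsg.sympForm m F

instance finite_PSp : Finite (Cfsg.PSp m F) :=
  Finite.of_surjective _ (pr_surjective (m := m) (F := F))

/-- conjugation-invariance in `Sp` gives normalization in `PSp` -/
theorem pr_mem_normalizer_map (A : Subgroup (SpG m F)) (g : SpG m F)
    (h : ∀ s ∈ A, g * s * g⁻¹ ∈ A) :
    (pr g : Cfsg.PSp m F) ∈
      Subgroup.normalizer ((A.map pr : Subgroup (Cfsg.PSp m F)) : Set (Cfsg.PSp m F)) := by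
  apply Cfsg.Agent.Lib.H25.mem_normalizer_of_conj_mem
  rintro x ⟨s, hs, rfl⟩
  rw [← map_inv, ← map_mul, ← map_mul]
  exact Subgroup.mem_map_of_mem _ (h s hs)

/-- An element of `Sp` whose image normalizes `Ubar` conjugates `U` into itself. -/
theorem conj_U_of_pr_normalizer (p : ℕ) [Fact p.Prime] [CharP F p] (hm : 1 ≤ m) (g : SpG m F)
    (hg : (pr g : Cfsg.PSp m F) ∈ Subgroup.normalizer
      ((Ubar : Subgroup (Cfsg.PSp m F)) : Set (Cfsg.PSp m F)))
    (u : SpG m F) (hu : u ∈ (U : Subgroup (SpG m F))) :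
    g * u * g⁻¹ ∈ (U : Subgroup (SpG m F)) := by
  have h1 : (pr (g * u * g⁻¹) : Cfsg.PSp m F) ∈ (Ubar : Subgroup (Cfsg.PSp m F)) := by
    rw [map_mul, map_mul, map_inv]
    exact (Subgroup.mem_normalizer_iff.1 hg _).1 (Subgroup.mem_map_of_mem _ hu)
  obtain ⟨u', hu', hpr⟩ := Subgroup.mem_map.1 h1
  have hz := (pr_eq_pr_iff (s := u') (t := g * u * g⁻¹)).1 hpr
  set z := u'⁻¹ * (g * u * g⁻¹) with hzdef
  obtain ⟨c, hc⟩ := scalar_of_mem_center hm hz
  have hguz : g * u * g⁻¹ = u' * z := by rw [hzdef]; group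
  obtain ⟨k₁, hk₁⟩ := (isPGroup_U p hm) ⟨u, hu⟩
  obtain ⟨k₂, hk₂⟩ := (isPGroup_U p hm) ⟨u', hu'⟩
  have huk : u ^ p ^ (k₁ + k₂) = 1 := by
    have h2 : u ^ p ^ k₁ = 1 := by
      have := congrArg Subtype.val hk₁
      simpa using this
    rw [pow_add, pow_mul, h2, one_pow]
  have hu'k : u' ^ p ^ (k₁ + k₂) = 1 := by
    have h2 : u' ^ p ^ k₂ = 1 := by
      have := congrArg Subtype.val hk₂
      simpa using this
    rw [pow_add, mul_comm, pow_mul, h2, one_pow]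
  have hvk : (g * u * g⁻¹) ^ p ^ (k₁ + k₂) = 1 := by
    rw [conj_pow, huk]; group
  have hzk : z ^ p ^ (k₁ + k₂) = 1 := by
    have hcomm : Commute u' z := (Subgroup.mem_center_iff.1 hz u')
    rw [hguz, hcomm.mul_pow, hu'k, one_mul] at hvk
    exact hvk
  -- `z` is the scalar `c` and `c ^ p ^ k = 1`
  have hsvpow : ∀ n : ℕ, ∀ x : K m → F, sv (z ^ n) x = c ^ n • x := by
    intro n
    induction n with
    | zero => intro x; simp
    | succ n ih =>
      intro x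
      rw [pow_succ, sv_mul, hc, sv_smul, ih, smul_smul, pow_succ, mul_comm]
  have hck : c ^ p ^ (k₁ + k₂) = 1 := by
    have h3 := hsvpow (p ^ (k₁ + k₂)) (bv (Sum.inl (i0 hm)))
    rw [hzk, sv_one] at h3
    have h4 := congrFun h3 (Sum.inl (i0 hm))
    rw [Pi.smul_apply, bv_self, smul_eq_mul, mul_one] at h4
    exact h4.symm
  have hc1 : c = 1 := by
    have h2 : (c - 1) ^ p ^ (k₁ + k₂) = 0 := by
      rw [sub_pow_char_pow, one_pow, hck, sub_self]
    exact sub_eq_zero.1 ((pow_eq_zero_iff (pow_ne_zero _ (Fact.out : p.Prime).ne_zero)).1 h2)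
  have hz1 : z = 1 := by
    apply ext_sv
    intro x
    rw [hc, hc1, one_smul, sv_one]
  rw [hguz, hz1, mul_one]
  exact hu'

/-- centricity passes to `PSp` -/
theorem centric_map (hm : 1 ≤ m) {P : Subgroup (SpG m F)} (hPU : P ≤ U)
    (hC : ∀ u ∈ (U : Subgroup (SpG m F)), (∀ y ∈ P, y * u = u * y) → u ∈ P) :
    Subgroup.centralizer ((P.map pr : Subgroup (Cfsg.PSp m F)) : Set (Cfsg.PSp m F)) ⊓
      (Ubar : Subgroup (Cfsg.PSp m F)) ≤ P.map pr := by
  rintro x ⟨hxc, u, hu, rfl⟩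
  apply Subgroup.mem_map_of_mem
  apply hC u hu
  intro y hy
  have h1 := Subgroup.mem_centralizer_iff.1 hxc (pr y) (Subgroup.mem_map_of_mem _ hy)
  rw [← map_mul, ← map_mul] at h1
  exact pr_injOn_U hm (Subgroup.mul_mem _ (hPU hy) hu) (Subgroup.mul_mem _ hu (hPU hy)) h1

/-! ### The two radicals -/

theorem U_le_normalizer_Qg (hm : 1 ≤ m) {u g : SpG m F} (hu : u ∈ (U : Subgroup (SpG m F)))
    (hg : g ∈ Qg (bv (Sum.inl (i0 hm)) : K m → F)) :
    u * g * u⁻¹ ∈ Qg (bv (Sum.inl (i0 hm)) : K m → F) :=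
  conj_mem_Qg (sv_e0_of_mem_U hm hu) hg

theorem centralizer_Qg (hm : 1 ≤ m) {u : SpG m F} (hu : u ∈ (U : Subgroup (SpG m F)))
    (h : ∀ y ∈ Qg (bv (Sum.inl (i0 hm)) : K m → F), y * u = u * y) :
    u ∈ Qg (bv (Sum.inl (i0 hm)) : K m → F) := by
  apply mem_Qg_of_comm (bv_ne_zero _) (sv_e0_of_mem_U hm hu)
  intro w hw
  exact (h _ (EL_mem_Qg hw 0)).symm

theorem U_le_normalizer_QW {u g : SpG m F} (hu : u ∈ (U : Subgroup (SpG m F)))
    (hg : g ∈ (QW : Subgroup (SpG m F))) : u * g * u⁻¹ ∈ (QW : Subgroup (SpG m F)) :=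
  conj_mem_QW (fun _ hx => inW_sv_of_mem_U (Subgroup.inv_mem _ hu) hx) hg

theorem centralizer_QW {u : SpG m F} (hu : u ∈ (U : Subgroup (SpG m F)))
    (h : ∀ y ∈ (QW : Subgroup (SpG m F)), y * u = u * y) :
    u ∈ (QW : Subgroup (SpG m F)) := by
  intro i
  have h1 := h _ (tv_mem_QW (inW_bv_inl i) (1 : F))
  have h2 : u * tv m (bv (Sum.inl i)) 1 * u⁻¹ = tv m (bv (Sum.inl i)) 1 := by
    rw [← h1, mul_assoc, mul_inv_cancel, mul_one]
  rw [conj_tv'] at h2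
  have h3 : sv (tv m (sv u (bv (Sum.inl i))) (1 : F)) (bv (Sum.inr i)) =
      sv (tv m (bv (Sum.inl i)) (1 : F)) (bv (Sum.inr i)) := by rw [h2]
  rw [sv_tv, sv_tv, B_left_f, sv_bv, (mem_U.1 hu).2, B_fe_self, one_mul, one_smul, one_smul] at h3
  exact add_left_cancel h3

end Cfsg.Agent.Lib.H25.PSp
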