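import Mathlib
import Cfsg.Agent.Lib.H25.PSpH
import Cfsg.Agent.Lib.H2.SLGen

set_option autoImplicit false
set_option linter.unusedSectionVars false

/-!
# Torus elements of `PSp_{2m}(F)` are products of good elements (helper25)
-/

namespace Cfsg.Agent.Lib.H25.PSp

open Matrix Cfsg.Agent.Lib.H4 Cfsg.Agent.Lib.H2.Sp Cfsg.Agent.Lib.H13.AutPSp
  Cfsg.Agent.Lib.H12.SylLarge Cfsg.Agent.Lib.H25.LieCrit

variable {F : Type*} [Field F] [Fintype F] {m : ℕ}

set_option quotPrecheck false in
local notation "B" => Cfsg.sympForm m F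

/-! ### The rank one torus as a product of transvections -/

theorem sv_tv_e (j : Fin m) (c α β : F) :
    sv (tv m (bv (Sum.inl j)) c) (α • bv (Sum.inl j) + β • bv (Sum.inr j)) =
      ((α + c * β) • bv (Sum.inl j) + β • bv (Sum.inr j) : K m → F) := by
  rw [sv_tv, sympForm_add_left, sympForm_smul_left, sympForm_smul_left, B_ee, B_fe_self]
  module

theorem sv_tv_f (j : Fin m) (c α β : F) :
    sv (tv m (bv (Sum.inr j)) c) (α • bv (Sum.inl j) + β • bv (Sum.inr j)) =
      (α • bv (Sum.inl j) + (β - c * α) • bv (Sum.inr j) : K m → F) := by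
  rw [sv_tv, sympForm_add_left, sympForm_smul_left, sympForm_smul_left, B_ff, B_ef_self]
  module

theorem sv_tv_other {v : K m → F} (c : F) {l : K m} (h : B (bv l) v = 0) :
    sv (tv m v c) (bv l) = bv l := by
  rw [sv_tv, h, mul_zero, zero_smul, add_zero]

/-- the rank one torus element as a product of five transvections -/
theorem hd_update_eq (j : Fin m) (a : Fˣ) :
    hd (Function.update (1 : Fin m → Fˣ) j a) =
      tv m (bv (Sum.inl j)) (a : F) * tv m (bv (Sum.inr j)) ((a : F)⁻¹) *
        tv m (bv (Sum.inl j)) ((a : F) - 1) * tv m (bv (Sum.inr j)) (-1) *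
        (tv m (bv (Sum.inl j)) (-1) : SpG m F) := by
  have ha : (a : F) ≠ 0 := Units.ne_zero a
  have gen : ∀ α β : F, sv (tv m (bv (Sum.inl j)) (a : F)) (sv (tv m (bv (Sum.inr j)) ((a : F)⁻¹))
      (sv (tv m (bv (Sum.inl j)) ((a : F) - 1)) (sv (tv m (bv (Sum.inr j)) (-1))
        (sv (tv m (bv (Sum.inl j)) (-1)) (α • bv (Sum.inl j) + β • bv (Sum.inr j)))))) =
      (((a : F) * α) • bv (Sum.inl j) + ((a : F)⁻¹ * β) • bv (Sum.inr j) : K m → F) := by
    intro α β
    rw [sv_tv_e, sv_tv_f, sv_tv_e, sv_tv_f, sv_tv_e]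
    have c1 : (α + -1 * β + ((a : F) - 1) * (β - -1 * (α + -1 * β)) +
        (a : F) * (β - -1 * (α + -1 * β) -
          (a : F)⁻¹ * (α + -1 * β + ((a : F) - 1) * (β - -1 * (α + -1 * β))))) = (a : F) * α := by
      field_simp
      ring
    have c2 : (β - -1 * (α + -1 * β) -
          (a : F)⁻¹ * (α + -1 * β + ((a : F) - 1) * (β - -1 * (α + -1 * β)))) =
        (a : F)⁻¹ * β := by
      field_simp
      ring
    rw [c1, c2]
  apply ext_bv
  intro l
  simp only [sv_mul]
  rw [sv_hd_bv]
  by_cases h1 : l = Sum.inl j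
  · rw [h1, dd_inl, Function.update_self]
    have := gen 1 0
    rw [one_smul, zero_smul, add_zero, mul_one, mul_zero, zero_smul, add_zero] at this
    exact this.symm
  · by_cases h2 : l = Sum.inr j
    · rw [h2, dd_inr, Function.update_self]
      have := gen 0 1
      rw [one_smul, zero_smul, zero_add, mul_one, mul_zero, zero_smul, zero_add] at this
      rw [Units.val_inv_eq_inv_val]
      exact this.symm
    · have hB1 : B (bv l) (bv (Sum.inl j)) = 0 := by
        rw [B_bv_bv, if_neg]
        intro h
        apply h2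
        rw [eq_bar_comm.1 h]
        rfl
      have hB2 : B (bv l) (bv (Sum.inr j)) = 0 := by
        rw [B_bv_bv, if_neg]
        intro h
        apply h1
        rw [eq_bar_comm.1 h]
        rfl
      rw [sv_tv_other _ hB1, sv_tv_other _ hB2, sv_tv_other _ hB1, sv_tv_other _ hB2,
        sv_tv_other _ hB1]
      have : dd (Function.update (1 : Fin m → Fˣ) j a) l = 1 := by
        rcases l with i | i
        · have hij : i ≠ j := fun h => h1 (by rw [h])
          rw [dd_inl, Function.update_of_ne hij]
          simp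
        · have hij : i ≠ j := fun h => h2 (by rw [h])
          rw [dd_inr, Function.update_of_ne hij]
          simp
      rw [this, one_smul]

end Cfsg.Agent.Lib.H25.PSp
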