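import Mathlib
import Cfsg.Agent.Lib.H25.PSpI

set_option autoImplicit false
set_option linter.unusedSectionVars false

/-!
# `N(Ubar)` is generated by good elements; `PSp_{2m}(F)` criterion data (helper25)
-/

namespace Cfsg.Agent.Lib.H25.PSp

open Matrix Cfsg.Agent.Lib.H4 Cfsg.Agent.Lib.H2.Sp Cfsg.Agent.Lib.H13.AutPSp
  Cfsg.Agent.Lib.H12.SylLarge Cfsg.Agent.Lib.H25.LieCrit

variable {F : Type*} [Field F] [Fintype F] {m : ℕ}

set_option quotPrecheck false in
local notation "B" => Cfsg.sympForm m F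

theorem tv_pow (v : K m → F) (c : F) (k : ℕ) : tv m v c ^ k = tv m v ((k : F) * c) := by
  induction k with
  | zero => rw [pow_zero, Nat.cast_zero, zero_mul, tv_zero_right]
  | succ k ih =>
    rw [pow_succ, ih, tv_mul]
    congr 1
    push_cast
    ring

/-- an element of `Sp` with `x ^ p = 1` has image of `p`-power order -/
theorem orderOf_pr_of_pow (p : ℕ) [Fact p.Prime] {x : SpG m F} (h : x ^ p = 1) :
    ∃ k : ℕ, orderOf (pr x : Cfsg.PSp m F) = p ^ k := by
  have h2 : (pr x : Cfsg.PSp m F) ^ p = 1 := by rw [← map_pow, h, map_one]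
  have hdvd := orderOf_dvd_of_pow_eq_one h2
  rcases (Nat.dvd_prime (Fact.out : p.Prime)).1 hdvd with h | h
  · exact ⟨0, by rw [h, pow_zero]⟩
  · exact ⟨1, by rw [h, pow_one]⟩

theorem tv_pow_char (p : ℕ) [Fact p.Prime] [CharP F p] (v : K m → F) (c : F) :
    tv m v c ^ p = 1 := by
  rw [tv_pow, CharP.cast_eq_zero, zero_mul, tv_zero_right]

section good

variable (p : ℕ) [Fact p.Prime] [CharP F p]

/-- the radical `Qg e₀` in `PSp` -/
def P1 (hm : 1 ≤ m) : Subgroup (Cfsg.PSp m F) :=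
  (Qg (bv (Sum.inl (i0 hm)) : K m → F)).map pr

/-- the Siegel radical in `PSp` -/
def P2 : Subgroup (Cfsg.PSp m F) := (QW : Subgroup (SpG m F)).map pr

theorem pr_hd_mem_normalizer (t : Fin m → Fˣ) :
    (pr (hd t) : Cfsg.PSp m F) ∈ Subgroup.normalizer
      ((Ubar : Subgroup (Cfsg.PSp m F)) : Set (Cfsg.PSp m F)) :=
  pr_mem_normalizer_map U _ (fun _ hu => hd_conj_mem_U t hu)

theorem Ubar_le_normalizer_P1 (hm : 1 ≤ m) :
    (Ubar : Subgroup (Cfsg.PSp m F)) ≤ Subgroup.normalizer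
      ((P1 hm : Subgroup (Cfsg.PSp m F)) : Set (Cfsg.PSp m F)) := by
  rintro x ⟨u, hu, rfl⟩
  exact pr_mem_normalizer_map _ u (fun _ hg => U_le_normalizer_Qg hm hu hg)

theorem Ubar_le_normalizer_P2 :
    (Ubar : Subgroup (Cfsg.PSp m F)) ≤ Subgroup.normalizer
      ((P2 : Subgroup (Cfsg.PSp m F)) : Set (Cfsg.PSp m F)) := by
  rintro x ⟨u, hu, rfl⟩
  exact pr_mem_normalizer_map _ u (fun _ hg => U_le_normalizer_QW hu hg)

/-- the rank one torus elements `h_j(a)`, `j ≠ 0`, are good -/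
theorem pr_hd_update_good (hm : 1 ≤ m) (j : Fin m) (hj : i0 hm ≠ j) (a : Fˣ) :
    GoodElt p (Ubar : Subgroup (Cfsg.PSp m F))
      (pr (hd (Function.update (1 : Fin m → Fˣ) j a))) := by
  right; right
  refine ⟨pr_hd_mem_normalizer _, P1 hm, Subgroup.map_mono (Qg_e0_le_U hm),
    Ubar_le_normalizer_P1 hm, ?_, ?_⟩
  · exact centric_map hm (Qg_e0_le_U hm) (fun u hu h => centralizer_Qg hm hu h)
  · have t1 : ∀ c : F, (pr (tv m (bv (Sum.inl j)) c) : Cfsg.PSp m F) ∈ Subgroup.closure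
          {x | x ∈ Subgroup.normalizer ((P1 hm : Subgroup (Cfsg.PSp m F)) :
            Set (Cfsg.PSp m F)) ∧ ∃ k : ℕ, orderOf x = p ^ k} := by
      intro c
      apply Subgroup.subset_closure
      refine ⟨?_, orderOf_pr_of_pow p (tv_pow_char p _ c)⟩
      apply pr_mem_normalizer_map
      intro g hg
      apply conj_mem_Qg _ hg
      rw [sv_tv, B_ee, mul_zero, zero_smul, add_zero]
    have t2 : ∀ c : F, (pr (tv m (bv (Sum.inr j)) c) : Cfsg.PSp m F) ∈ Subgroup.closure
          {x | x ∈ Subgroup.normalizer ((P1 hm : Subgroup (Cfsg.PSp m F)) :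
            Set (Cfsg.PSp m F)) ∧ ∃ k : ℕ, orderOf x = p ^ k} := by
      intro c
      apply Subgroup.subset_closure
      refine ⟨?_, orderOf_pr_of_pow p (tv_pow_char p _ c)⟩
      apply pr_mem_normalizer_map
      intro g hg
      apply conj_mem_Qg _ hg
      rw [sv_tv, B_ef_ne hj, mul_zero, zero_smul, add_zero]
    rw [hd_update_eq]
    simp only [map_mul]
    exact Subgroup.mul_mem _ (Subgroup.mul_mem _ (Subgroup.mul_mem _ (Subgroup.mul_mem _
      (t1 _) (t2 _)) (t1 _)) (t2 _)) (t1 _)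

/-! ### The Levi subgroup -/

theorem transvection_pow_char {i j : Fin m} (hij : i ≠ j) (c : F) :
    (SpecialLinearGroup.transvection hij c : SpecialLinearGroup (Fin m) F) ^ p = 1 := by
  apply Subtype.ext
  rw [Matrix.SpecialLinearGroup.coe_pow, Cfsg.Agent.Lib.H13.AutPSL.transvection_coe_eq_tm,
    Cfsg.Agent.Lib.H25.PSLn.tm_pow]
  · have : (p • (Pi.single j c : Fin m → F)) = 0 := by
      rw [← Nat.cast_smul_eq_nsmul F, CharP.cast_eq_zero, zero_smul]
    rw [this, Cfsg.Agent.Lib.H13.AutPSL.tm_zero_right]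
    rfl
  · rw [single_dotProduct, Pi.single_apply, if_neg hij.symm, mul_zero]

theorem pr_Lv_mem_normalizer_P2 (A : SpecialLinearGroup (Fin m) F) :
    (pr (Lv A) : Cfsg.PSp m F) ∈ Subgroup.normalizer
      ((P2 : Subgroup (Cfsg.PSp m F)) : Set (Cfsg.PSp m F)) := by
  apply pr_mem_normalizer_map
  intro s hs
  apply conj_mem_QW _ hs
  intro x hx
  rw [← map_inv]
  exact inW_sv_Lv _ hx

/-- images of Levi elements are products of `p`-elements normalizing `P2` -/
theorem pr_Lv_mem_closure (hm : 2 ≤ m) (A : SpecialLinearGroup (Fin m) F) :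
    (pr (Lv A) : Cfsg.PSp m F) ∈ Subgroup.closure
      {x | x ∈ Subgroup.normalizer ((P2 : Subgroup (Cfsg.PSp m F)) :
        Set (Cfsg.PSp m F)) ∧ ∃ k : ℕ, orderOf x = p ^ k} := by
  have : Nontrivial (Fin m) := Fin.nontrivial_iff_two_le.2 hm
  have hA : A ∈ (⊤ : Subgroup (SpecialLinearGroup (Fin m) F)) := Subgroup.mem_top _
  rw [← Cfsg.Agent.Lib.H2.SL_closure_transvection] at hA
  have hle : Subgroup.closure {A : SpecialLinearGroup (Fin m) F |
      ∃ (i j : Fin m) (h : i ≠ j) (c : F), A = SpecialLinearGroup.transvection h c} ≤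
      (Subgroup.closure {x | x ∈ Subgroup.normalizer ((P2 : Subgroup (Cfsg.PSp m F)) :
        Set (Cfsg.PSp m F)) ∧ ∃ k : ℕ, orderOf x = p ^ k}).comap
        ((pr : SpG m F →* Cfsg.PSp m F).comp Lv) := by
    rw [Subgroup.closure_le]
    rintro _ ⟨i, j, hij, c, rfl⟩
    apply Subgroup.subset_closure
    refine ⟨pr_Lv_mem_normalizer_P2 _, ?_⟩
    apply orderOf_pr_of_pow p
    rw [← map_pow, transvection_pow_char p hij c, map_one]
  exact hle hA

/-- Levi elements normalizing `U` are good -/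
theorem pr_Lv_good (hm : 2 ≤ m) (A : SpecialLinearGroup (Fin m) F)
    (hN : ∀ u ∈ (U : Subgroup (SpG m F)), Lv A * u * (Lv A)⁻¹ ∈ (U : Subgroup (SpG m F))) :
    GoodElt p (Ubar : Subgroup (Cfsg.PSp m F)) (pr (Lv A)) := by
  right; right
  refine ⟨pr_mem_normalizer_map U _ hN, P2, Subgroup.map_mono QW_le_U,
    Ubar_le_normalizer_P2, ?_, pr_Lv_mem_closure p hm A⟩
  exact centric_map (by omega) QW_le_U (fun u hu h => centralizer_QW hu h)

/-- decomposition of a torus element -/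
theorem hd_decomp (hm : 2 ≤ m) (t : Fin m → Fˣ) :
    ∃ (A : SpecialLinearGroup (Fin m) F) (t' : Fin m → Fˣ) (a : Fˣ), Lv A = hd t' ∧
      hd t = Lv A * hd (Function.update (1 : Fin m → Fˣ) (i1 hm) a) := by
  set δ : Fˣ := ∏ i, t i with hδ
  set t' : Fin m → Fˣ := t * Function.update (1 : Fin m → Fˣ) (i1 hm) δ⁻¹ with ht'
  have hprod : ∏ i, t' i = 1 := by
    rw [ht']
    simp only [Pi.mul_apply]
    rw [Finset.prod_mul_distrib, Finset.prod_update_of_mem (Finset.mem_univ _)]
    simp [hδ]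
  have hdet : (Matrix.diagonal (fun i => ((t' i : Fˣ) : F))).det = 1 := by
    rw [Matrix.det_diagonal, ← Units.coe_prod, hprod, Units.val_one]
  refine ⟨⟨Matrix.diagonal (fun i => ((t' i : Fˣ) : F)), hdet⟩, t', δ, ?_, ?_⟩
  · show leviSp m (SpecialLinearGroup.toGL _) = leviSp m (diagGL t')
    congr 1
    apply Units.ext
    rfl
  · have h1 : t = t' * Function.update (1 : Fin m → Fˣ) (i1 hm) δ := by
      rw [ht', mul_assoc]
      have : Function.update (1 : Fin m → Fˣ) (i1 hm) δ⁻¹ *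
          Function.update (1 : Fin m → Fˣ) (i1 hm) δ = 1 := by
        funext i
        by_cases hi : i = i1 hm
        · rw [hi, Pi.mul_apply, Function.update_self, Function.update_self, inv_mul_cancel]
          rfl
        · rw [Pi.mul_apply, Function.update_of_ne hi, Function.update_of_ne hi]
          simp
      rw [this, mul_one]
    have h2 : Lv (⟨Matrix.diagonal (fun i => ((t' i : Fˣ) : F)), hdet⟩ :
        SpecialLinearGroup (Fin m) F) = hd t' := by
      show leviSp m (SpecialLinearGroup.toGL _) = leviSp m (diagGL t')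
      congr 1
      apply Units.ext
      rfl
    rw [h2, ← map_mul, ← h1]

/-- `N(Ubar)` is generated by good elements. -/
theorem normalizer_Ubar_le (hm : 2 ≤ m) :
    Subgroup.normalizer ((Ubar : Subgroup (Cfsg.PSp m F)) : Set (Cfsg.PSp m F)) ≤
      Subgroup.closure {h | GoodElt p (Ubar : Subgroup (Cfsg.PSp m F)) h} := by
  have hm1 : 1 ≤ m := by omega
  intro x hx
  obtain ⟨g, rfl⟩ := pr_surjective (m := m) (F := F) x
  obtain ⟨t, u, hu, hgu⟩ := normalizer_U_decomp g (conj_U_of_pr_normalizer p hm1 g hx)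
  obtain ⟨A, t', a, hAt', hdec⟩ := hd_decomp hm t
  rw [hgu, hdec, map_mul, map_mul]
  refine Subgroup.mul_mem _ (Subgroup.mul_mem _ ?_ ?_) ?_
  · apply Subgroup.subset_closure
    apply pr_Lv_good p hm A
    intro u hu
    rw [hAt']
    exact hd_conj_mem_U t' hu
  · exact Subgroup.subset_closure (pr_hd_update_good p hm1 (i1 hm) (i0_ne_i1 hm) a)
  · exact Subgroup.subset_closure (Or.inl (Subgroup.mem_map_of_mem _ hu))

end good

end Cfsg.Agent.Lib.H25.PSp
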