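import Mathlib

/-!
# S5239 piece N4: small `p`-groups are generated by two elements (helper25)
-/

set_option autoImplicit false

namespace Cfsg.Agent.Lib.H25.Pearl

theorem card_lt_of_lt' {H : Type*} [Group H] [Finite H] {A B : Subgroup H} (h : A < B) :
    Nat.card ↥A < Nat.card ↥B := by
  by_contra hcon
  push Not at hcon
  exact h.ne (Subgroup.eq_of_le_of_card_ge h.le hcon)

theorem comm_of_card_dvd_sq {K : Type*} [Group K] [Finite K] (p : ℕ) [hp : Fact p.Prime]
    (hc : Nat.card K ∣ p ^ 2) (a b : K) : a * b = b * a := by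
  obtain ⟨m, hm, hcard⟩ := (Nat.dvd_prime_pow hp.out).1 hc
  interval_cases m
  · have : Subsingleton K := (Nat.card_eq_one_iff_unique.1 (by simpa using hcard)).1
    exact Subsingleton.elim _ _
  · have hcyc : IsCyclic K := isCyclic_of_prime_card (p := p) (by simpa using hcard)
    exact (IsCyclic.commGroup (α := K)).mul_comm a b
  · have := IsPGroup.isMulCommutative_of_card_eq_prime_sq (p := p) hcard
    exact this.is_comm.comm a b

/-- **N4a**.  A group of order `1, p, p²` is generated by two elements. -/
theorem two_gen_of_card_le_sq {H : Type*} [Group H] [Finite H] (p : ℕ) [hp : Fact p.Prime]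
    (hc : Nat.card H ∣ p ^ 2) : ∃ x y : H, Subgroup.closure ({x, y} : Set H) = ⊤ := by
  classical
  by_cases h1 : ∃ x : H, x ≠ 1
  · obtain ⟨x, hx⟩ := h1
    by_cases h2 : ∃ y : H, y ∉ Subgroup.zpowers x
    · obtain ⟨y, hy⟩ := h2
      refine ⟨x, y, ?_⟩
      have hxK : x ∈ Subgroup.closure ({x, y} : Set H) := Subgroup.subset_closure (by simp)
      have hyK : y ∈ Subgroup.closure ({x, y} : Set H) := Subgroup.subset_closure (by simp)
      have hlt : Subgroup.zpowers x < Subgroup.closure ({x, y} : Set H) := by
        refine lt_of_le_of_ne ((Subgroup.zpowers_le).2 hxK) ?_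
        intro h
        apply hy
        rw [h]
        exact hyK
      have h3 := card_lt_of_lt' hlt
      have h4 : Nat.card ↥(Subgroup.zpowers x) ∣ p ^ 2 :=
        (Subgroup.card_subgroup_dvd_card _).trans hc
      have h5 : Nat.card ↥(Subgroup.closure ({x, y} : Set H)) ∣ Nat.card H :=
        Subgroup.card_subgroup_dvd_card _
      obtain ⟨m, hm, hm'⟩ := (Nat.dvd_prime_pow hp.out).1 h4
      obtain ⟨k, hk, hk'⟩ := (Nat.dvd_prime_pow hp.out).1 (h5.trans hc)
      have hm0 : m ≠ 0 := by
        rintro rfl
        rw [pow_zero, Nat.card_zpowers, orderOf_eq_one_iff] at hm'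
        exact hx hm'
      rw [hm', hk'] at h3
      have hmk : m < k := (Nat.pow_lt_pow_iff_right hp.out.one_lt).1 h3
      have hk2 : k = 2 := by omega
      apply Subgroup.eq_top_of_card_eq
      apply Nat.dvd_antisymm h5
      rw [hk', hk2]
      exact hc
    · push Not at h2
      refine ⟨x, x, ?_⟩
      rw [eq_top_iff]
      intro y _
      have := h2 y
      rw [Subgroup.mem_zpowers_iff] at this
      obtain ⟨k, rfl⟩ := this
      exact Subgroup.zpow_mem _ (Subgroup.subset_closure (by simp)) k
  · push Not at h1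
    refine ⟨1, 1, ?_⟩
    rw [eq_top_iff]
    intro y _
    rw [h1 y]
    exact Subgroup.one_mem _

/-- **N4b**.  A group of order `p³` is generated by two elements or elementary abelian. -/
theorem two_gen_or_elementary_of_card_cube {H : Type*} [Group H] [Finite H] (p : ℕ) [hp : Fact p.Prime]
    (hc : Nat.card H = p ^ 3) :
    (∃ x y : H, Subgroup.closure ({x, y} : Set H) = ⊤) ∨
      ((∀ a b : H, a * b = b * a) ∧ ∀ a : H, a ^ p = 1) := by
  classical
  have key : ∀ x y : H, p ^ 2 < Nat.card ↥(Subgroup.closure ({x, y} : Set H)) →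
      Subgroup.closure ({x, y} : Set H) = ⊤ := by
    intro x y hlt
    have h5 : Nat.card ↥(Subgroup.closure ({x, y} : Set H)) ∣ p ^ 3 := by
      rw [← hc]; exact Subgroup.card_subgroup_dvd_card _
    obtain ⟨k, hk, hk'⟩ := (Nat.dvd_prime_pow hp.out).1 h5
    rw [hk'] at hlt
    have : 2 < k := (Nat.pow_lt_pow_iff_right hp.out.one_lt).1 hlt
    have hk3 : k = 3 := by omega
    apply Subgroup.eq_top_of_card_eq
    rw [hk', hk3, hc]
  by_cases hab : ∀ a b : H, a * b = b * a
  · by_cases hexp : ∀ a : H, a ^ p = 1
    · exact Or.inr ⟨hab, hexp⟩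
    · left
      push Not at hexp
      obtain ⟨a, ha⟩ := hexp
      have h4 : Nat.card ↥(Subgroup.zpowers a) ∣ p ^ 3 := by
        rw [← hc]; exact Subgroup.card_subgroup_dvd_card _
      obtain ⟨m, hm, hm'⟩ := (Nat.dvd_prime_pow hp.out).1 h4
      have hm2 : 2 ≤ m := by
        by_contra hcon
        push Not at hcon
        apply ha
        have : orderOf a ∣ p := by
          rw [← Nat.card_zpowers, hm']
          interval_cases m
          · simp
          · simp
        exact orderOf_dvd_iff_pow_eq_one.1 this
      by_cases h2 : ∃ y : H, y ∉ Subgroup.zpowers a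
      · obtain ⟨y, hy⟩ := h2
        refine ⟨a, y, key a y ?_⟩
        have hxK : a ∈ Subgroup.closure ({a, y} : Set H) := Subgroup.subset_closure (by simp)
        have hyK : y ∈ Subgroup.closure ({a, y} : Set H) := Subgroup.subset_closure (by simp)
        have hlt : Subgroup.zpowers a < Subgroup.closure ({a, y} : Set H) := by
          refine lt_of_le_of_ne ((Subgroup.zpowers_le).2 hxK) ?_
          intro h
          apply hy
          rw [h]
          exact hyK
        have h3 := card_lt_of_lt' hlt
        rw [hm'] at h3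
        exact lt_of_le_of_lt (Nat.pow_le_pow_right hp.out.pos hm2) h3
      · push Not at h2
        refine ⟨a, a, ?_⟩
        rw [eq_top_iff]
        intro y _
        have := h2 y
        rw [Subgroup.mem_zpowers_iff] at this
        obtain ⟨k, rfl⟩ := this
        exact Subgroup.zpow_mem _ (Subgroup.subset_closure (by simp)) k
  · left
    push Not at hab
    obtain ⟨a, b, hab⟩ := hab
    refine ⟨a, b, key a b ?_⟩
    by_contra hcon
    push Not at hcon
    have h5 : Nat.card ↥(Subgroup.closure ({a, b} : Set H)) ∣ p ^ 3 := by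
      rw [← hc]; exact Subgroup.card_subgroup_dvd_card _
    obtain ⟨k, hk, hk'⟩ := (Nat.dvd_prime_pow hp.out).1 h5
    rw [hk'] at hcon
    have hk2 : k ≤ 2 := (Nat.pow_le_pow_iff_right hp.out.one_lt).1 hcon
    have hdvd : Nat.card ↥(Subgroup.closure ({a, b} : Set H)) ∣ p ^ 2 := by
      rw [hk']; exact pow_dvd_pow p hk2
    have haK : a ∈ Subgroup.closure ({a, b} : Set H) := Subgroup.subset_closure (by simp)
    have hbK : b ∈ Subgroup.closure ({a, b} : Set H) := Subgroup.subset_closure (by simp)
    have := comm_of_card_dvd_sq p hdvd ⟨a, haK⟩ ⟨b, hbK⟩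
    exact hab (congrArg Subtype.val this)

end Cfsg.Agent.Lib.H25.Pearl
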