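import Cfsg.Agent.Lib.H17.CosetCert

set_option autoImplicit false

/-!
# Permutations from a lookup function together with the lookup function of the inverse (helper25)

helper17's `CosetPerm` builds permutations from packed tables of involutions.  Here a letter is a pair of
functions `(f, f')`, mutually inverse on the points `< n` (in the applications: lookups in tables stored as
binary trees `BT` of small packed leaves, so that the kernel never handles a big number); the permutation
`ρ n f f'` of `Fin n` ACTS AS `f'`, so that a product of letters is trivial as soon as the word, read from the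
left through the functions `f`, fixes all points (the convention of a right action).
-/

namespace Cfsg.Agent.Lib.H25.PPT

open Cfsg.Agent.Lib.H17.CosetCert (force force_eq BT)

/-- entry `i` of a table stored as a tree with `2 * h` leaves of `bb` entries of `wb` bits (`Wm = 2 ^ wb`) -/
noncomputable def lkB (h bb wb Wm : ℕ) (t : BT) (i : ℕ) : ℕ :=
  force (BT.get t h (Nat.div i bb)) fun leaf =>
    Nat.mod (Nat.shiftRight leaf (Nat.mul (Nat.mod i bb) wb)) Wm

/-- apply a word, given as the list of the functions of its letters, first letter first -/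
noncomputable def applyF (fs : List (ℕ → ℕ)) : ℕ → ℕ :=
  List.rec (motive := fun _ => ℕ → ℕ) (fun i => i) (fun f _ ih i => force (f i) ih) fs

theorem applyF_nil (i : ℕ) : applyF [] i = i := rfl

theorem applyF_cons (f : ℕ → ℕ) (fs : List (ℕ → ℕ)) (i : ℕ) :
    applyF (f :: fs) i = applyF fs (f i) := by
  change force (f i) (applyF fs) = _
  rw [force_eq]

theorem applyF_append (fs gs : List (ℕ → ℕ)) (i : ℕ) :
    applyF (fs ++ gs) i = applyF gs (applyF fs i) := by
  induction fs generalizing i with
  | nil => rfl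
  | cons f fs ih => rw [List.cons_append, applyF_cons, applyF_cons, ih]

/-- the points `lo ≤ i < lo + cnt` are fixed by the word -/
noncomputable def checkWordF (fs : List (ℕ → ℕ)) (lo cnt : ℕ) : Bool :=
  Nat.rec (motive := fun _ => Bool) true
    (fun k ih => force (Nat.add lo k) fun i => cond (Nat.beq (applyF fs i) i) ih false) cnt

theorem checkWordF_sound (fs : List (ℕ → ℕ)) (lo cnt : ℕ) (h : checkWordF fs lo cnt = true) :
    ∀ i, lo ≤ i → i < lo + cnt → applyF fs i = i := by
  induction cnt with
  | zero => intro i h1 h2; omega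
  | succ k ih =>
    have h' : (force (Nat.add lo k) fun i =>
        cond (Nat.beq (applyF fs i) i) (checkWordF fs lo k) false) = true := h
    rw [force_eq] at h'
    cases hb : Nat.beq (applyF fs (Nat.add lo k)) (Nat.add lo k) with
    | false => rw [hb] at h'; exact absurd h' (by simp)
    | true =>
      rw [hb] at h'
      intro i h1 h2
      by_cases hi : i = lo + k
      · subst hi; exact Nat.eq_of_beq_eq_true hb
      · exact ih h' i h1 (by omega)

/-- the values at the points `lo ≤ i < lo + cnt` are `< N` -/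
noncomputable def checkRangeF (f : ℕ → ℕ) (N lo cnt : ℕ) : Bool :=
  Nat.rec (motive := fun _ => Bool) true
    (fun k ih => force (Nat.add lo k) fun i => cond (Nat.ble N (f i)) false ih) cnt

theorem checkRangeF_sound (f : ℕ → ℕ) (N lo cnt : ℕ) (h : checkRangeF f N lo cnt = true) :
    ∀ i, lo ≤ i → i < lo + cnt → f i < N := by
  induction cnt with
  | zero => intro i h1 h2; omega
  | succ k ih =>
    have h' : (force (Nat.add lo k) fun i =>
        cond (Nat.ble N (f i)) false (checkRangeF f N lo k)) = true := h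
    rw [force_eq] at h'
    cases hb : Nat.ble N (f (Nat.add lo k)) with
    | true => rw [hb] at h'; exact absurd h' (by simp)
    | false =>
      rw [hb] at h'
      intro i h1 h2
      by_cases hi : i = lo + k
      · subst hi
        by_contra hcon
        have : Nat.ble N (f (lo + k)) = true := Nat.ble_eq.mpr (not_lt.mp hcon)
        have hb' : Nat.ble N (f (lo + k)) = false := hb
        rw [this] at hb'
        exact absurd hb' (by simp)
      · exact ih h' i h1 (by omega)

section

variable (n : ℕ)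

/-- `f'` is the inverse of the permutation `f` of the points `< n` -/
def GoodF (f f' : ℕ → ℕ) : Prop :=
  (∀ i < n, f i < n) ∧ (∀ i < n, f' i < n) ∧ (∀ i < n, f' (f i) = i) ∧ (∀ i < n, f (f' i) = i)

theorem GoodF.symm {f f' : ℕ → ℕ} (h : GoodF n f f') : GoodF n f' f :=
  ⟨h.2.1, h.1, h.2.2.2, h.2.2.1⟩

open Classical in
/-- the permutation of `Fin n` acting as `f'` (the identity if the pair is not good) -/
noncomputable def ρ (f f' : ℕ → ℕ) : Equiv.Perm (Fin n) :=
  if h : GoodF n f f' then
    { toFun := fun i => ⟨f' i, h.2.1 i i.2⟩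
      invFun := fun i => ⟨f i, h.1 i i.2⟩
      left_inv := fun i => Fin.ext (h.2.2.2 i i.2)
      right_inv := fun i => Fin.ext (h.2.2.1 i i.2) }
  else 1

theorem ρ_apply (f f' : ℕ → ℕ) (h : GoodF n f f') (i : Fin n) :
    ((ρ n f f' i : Fin n) : ℕ) = f' i := by
  unfold ρ
  rw [dif_pos h]
  rfl

theorem ρ_inv_apply (f f' : ℕ → ℕ) (h : GoodF n f f') (i : Fin n) :
    (((ρ n f f')⁻¹ i : Fin n) : ℕ) = f i := by
  unfold ρ
  rw [dif_pos h]
  rfl

/-- the inverse of a product of letters acts as the word read from the left through the functions `f` -/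
theorem prod_inv_apply (ps : List ((ℕ → ℕ) × (ℕ → ℕ))) (hg : ∀ p ∈ ps, GoodF n p.1 p.2) (i : Fin n) :
    (((((ps.map fun p => ρ n p.1 p.2).prod)⁻¹ i : Fin n)) : ℕ) = applyF (ps.map Prod.fst) i := by
  induction ps generalizing i with
  | nil => simp [applyF_nil]
  | cons p ps ih =>
    rw [List.map_cons, List.prod_cons, mul_inv_rev, Equiv.Perm.mul_apply,
      ih (fun q hq => hg q (List.mem_cons_of_mem _ hq)), List.map_cons, applyF_cons,
      ρ_inv_apply n p.1 p.2 (hg p List.mem_cons_self)]

/-- a product of letters is trivial if the word fixes all points -/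
theorem prod_eq_one_of_fix (ps : List ((ℕ → ℕ) × (ℕ → ℕ))) (hg : ∀ p ∈ ps, GoodF n p.1 p.2)
    (h : ∀ i < n, applyF (ps.map Prod.fst) i = i) : (ps.map fun p => ρ n p.1 p.2).prod = 1 := by
  have h1 : ((ps.map fun p => ρ n p.1 p.2).prod)⁻¹ = 1 := by
    ext i
    rw [prod_inv_apply n ps hg i, h i i.2]
    rfl
  exact inv_eq_one.mp h1

/-- a letter which moves a point is not trivial -/
theorem ρ_ne_one (f f' : ℕ → ℕ) (h : GoodF n f f') (i : ℕ) (hi : i < n) (hne : f' i ≠ i) :
    ρ n f f' ≠ 1 := by
  intro h1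
  have := ρ_apply n f f' h ⟨i, hi⟩
  rw [h1] at this
  exact hne this.symm

end

section ranges

/-- from the range checks to the pointwise statement -/
theorem fix_of_checks (fs : List (ℕ → ℕ)) (n : ℕ) (rs : List (ℕ × ℕ))
    (hcov : ∀ i < n, ∃ r ∈ rs, r.1 ≤ i ∧ i < r.1 + r.2)
    (h : ∀ r ∈ rs, checkWordF fs r.1 r.2 = true) : ∀ i < n, applyF fs i = i := by
  intro i hi
  obtain ⟨r, hr, h1, h2⟩ := hcov i hi
  exact checkWordF_sound fs r.1 r.2 (h r hr) i h1 h2

theorem range_of_checks (f : ℕ → ℕ) (N n : ℕ) (rs : List (ℕ × ℕ))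
    (hcov : ∀ i < n, ∃ r ∈ rs, r.1 ≤ i ∧ i < r.1 + r.2)
    (h : ∀ r ∈ rs, checkRangeF f N r.1 r.2 = true) : ∀ i < n, f i < N := by
  intro i hi
  obtain ⟨r, hr, h1, h2⟩ := hcov i hi
  exact checkRangeF_sound f N r.1 r.2 (h r hr) i h1 h2

/-- goodness of a pair from the checks -/
theorem goodF_of_checks (f f' : ℕ → ℕ) (n : ℕ) (rs : List (ℕ × ℕ))
    (hcov : ∀ i < n, ∃ r ∈ rs, r.1 ≤ i ∧ i < r.1 + r.2)
    (h1 : ∀ r ∈ rs, checkRangeF f n r.1 r.2 = true)
    (h2 : ∀ r ∈ rs, checkRangeF f' n r.1 r.2 = true)
    (h3 : ∀ r ∈ rs, checkWordF [f, f'] r.1 r.2 = true)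
    (h4 : ∀ r ∈ rs, checkWordF [f', f] r.1 r.2 = true) : GoodF n f f' := by
  refine ⟨range_of_checks f n n rs hcov h1, range_of_checks f' n n rs hcov h2,
    fun i hi => ?_, fun i hi => ?_⟩
  · have := fix_of_checks [f, f'] n rs hcov h3 i hi
    rwa [applyF_cons, applyF_cons, applyF_nil] at this
  · have := fix_of_checks [f', f] n rs hcov h4 i hi
    rwa [applyF_cons, applyF_cons, applyF_nil] at this

end ranges

section uniform

/-- the chunks `[k * c, k * c + c)`, `k < m`, cover the points `< n` -/
theorem cover_uniform (n c m : ℕ) (hc : 0 < c) (hm : n ≤ m * c) :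
    ∀ i < n, ∃ k < m, k * c ≤ i ∧ i < k * c + c := by
  intro i hi
  refine ⟨i / c, ?_, Nat.div_mul_le_self i c, Nat.lt_div_mul_add hc⟩
  exact (Nat.div_lt_iff_lt_mul hc).mpr (lt_of_lt_of_le hi hm)

theorem fix_of_uniform (fs : List (ℕ → ℕ)) (n c m : ℕ) (hc : 0 < c) (hm : n ≤ m * c)
    (h : ∀ k < m, checkWordF fs (k * c) c = true) : ∀ i < n, applyF fs i = i := by
  intro i hi
  obtain ⟨k, hk, h1, h2⟩ := cover_uniform n c m hc hm i hi
  exact checkWordF_sound fs (k * c) c (h k hk) i h1 h2

theorem range_of_uniform (f : ℕ → ℕ) (N n c m : ℕ) (hc : 0 < c) (hm : n ≤ m * c)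
    (h : ∀ k < m, checkRangeF f N (k * c) c = true) : ∀ i < n, f i < N := by
  intro i hi
  obtain ⟨k, hk, h1, h2⟩ := cover_uniform n c m hc hm i hi
  exact checkRangeF_sound f N (k * c) c (h k hk) i h1 h2

/-- goodness of a pair from pointwise facts -/
theorem goodF_of_fix (f f' : ℕ → ℕ) (n : ℕ) (h1 : ∀ i < n, f i < n) (h2 : ∀ i < n, f' i < n)
    (h3 : ∀ i < n, applyF [f, f'] i = i) (h4 : ∀ i < n, applyF [f', f] i = i) : GoodF n f f' := by
  refine ⟨h1, h2, fun i hi => ?_, fun i hi => ?_⟩
  · have := h3 i hi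
    rwa [applyF_cons, applyF_cons, applyF_nil] at this
  · have := h4 i hi
    rwa [applyF_cons, applyF_cons, applyF_nil] at this

end uniform

end Cfsg.Agent.Lib.H25.PPT
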