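import Mathlib
import Cfsg.Prelude.Def_OddOrderLocal
import Cfsg.Prelude.Def_CaseTheorems
import Cfsg.Prelude.Def_PLocal
import Cfsg.Agent.Lib.H19.R2Defs
import Cfsg.Agent.Lib.H1.PGroupBasic
import Cfsg.Agent.Lib.H25.GXSAUT

/-!
# S3888 piece R2 HUP2 (helper25): `metacyclic_of_class_two`

A finite `p`-group (`p` odd) of class at most two whose commutators have order at most `p` and with
`|G : ℧₁(G)| ≤ p²` is metacyclic.  The `p`-power map is an endomorphism; no Frattini theory is used.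
-/

set_option autoImplicit false

namespace Cfsg.Agent.Lib.H25.R2

open Cfsg Cfsg.Agent.Lib.H19.R2
open scoped commutatorElement

universe u

variable {p : ℕ} [Fact p.Prime] {G : Type u} [Group G] [Finite G]

/-- a cyclic group is metacyclic -/
theorem hup2_metacyclic_of_isCyclic {H : Type*} [Group H] [IsCyclic H] : Cfsg.IsMetacyclic H := by
  refine ⟨⊤, inferInstance, ?_, ?_⟩
  · exact isCyclic_of_surjective (Subgroup.topEquiv (G := H)).symm.toMonoidHom
      (Subgroup.topEquiv (G := H)).symm.surjective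
  · exact isCyclic_of_surjective (QuotientGroup.mk' (⊤ : Subgroup H))
      (QuotientGroup.mk'_surjective _)

section hom

variable (hp2 : p ≠ 2) (hc : ∀ x y : G, ⁅x, y⁆ ∈ Subgroup.center G)
  (hexp : ∀ a b : G, ⁅a, b⁆ ^ p = 1)

include hp2 hc hexp in
theorem hup2_mul_pow (u v : G) : (u * v) ^ p = u ^ p * v ^ p := by
  have hpp : p.Prime := Fact.out
  rw [Cfsg.Agent.Lib.H25.GXS.gxs_mul_pow hc u v p]
  have h2 : 2 < p := lt_of_le_of_ne hpp.two_le (Ne.symm hp2)
  obtain ⟨m, hm⟩ : p ∣ p.choose 2 := hpp.dvd_choose_self (by norm_num) h2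
  rw [hm, pow_mul, hexp, one_pow, mul_one]

include hp2 hc hexp in
theorem hup2_mul_pow_pow (k : ℕ) (u v : G) : (u * v) ^ (p ^ k) = u ^ (p ^ k) * v ^ (p ^ k) := by
  induction k with
  | zero => simp
  | succ k ih =>
    rw [pow_succ, pow_mul, pow_mul, pow_mul, ih, hup2_mul_pow hp2 hc hexp]

/-- the `p ^ k`-power endomorphism -/
noncomputable def hup2Pow (k : ℕ) : G →* G where
  toFun g := g ^ (p ^ k)
  map_one' := one_pow _
  map_mul' := hup2_mul_pow_pow hp2 hc hexp k

theorem hup2Pow_apply (k : ℕ) (g : G) : hup2Pow hp2 hc hexp k g = g ^ (p ^ k) := rfl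

/-- the range of the `p`-power endomorphism is `℧₁(G)` -/
theorem hup2_agemo_eq : agemo p G = (hup2Pow hp2 hc hexp 1).range := by
  apply le_antisymm
  · apply agemoOf_le
    intro d _
    exact ⟨d, by rw [hup2Pow_apply, pow_one]⟩
  · rintro _ ⟨d, rfl⟩
    rw [hup2Pow_apply, pow_one]
    exact pow_mem_agemo p d

theorem hup2_range_normal (k : ℕ) : (hup2Pow hp2 hc hexp k).range.Normal := by
  constructor
  rintro _ ⟨d, rfl⟩ g
  refine ⟨g * d * g⁻¹, ?_⟩
  rw [hup2Pow_apply, hup2Pow_apply, conj_pow]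

include hp2 hc hexp in
/-- generation modulo `℧₁(G)` is generation (`℧₁(G) ≤ Φ(G)`), by iterating the power map -/
theorem hup2_eq_top_of_sup (hG : IsPGroup p G) (H : Subgroup G)
    (hH : H ⊔ (hup2Pow hp2 hc hexp 1).range = ⊤) : H = ⊤ := by
  have hstep : ∀ k : ℕ, H ⊔ (hup2Pow hp2 hc hexp (k + 1)).range = ⊤ := by
    intro k
    induction k with
    | zero => simpa using hH
    | succ k ih =>
      have h1 : (hup2Pow hp2 hc hexp (k + 1)).range
          = Subgroup.map (hup2Pow hp2 hc hexp (k + 1)) (H ⊔ (hup2Pow hp2 hc hexp 1).range) := by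
        rw [hH, MonoidHom.range_eq_map]
      have h2 : Subgroup.map (hup2Pow hp2 hc hexp (k + 1)) H ≤ H := by
        rintro _ ⟨h, hh, rfl⟩
        rw [hup2Pow_apply]
        exact H.pow_mem hh _
      have h3 : Subgroup.map (hup2Pow hp2 hc hexp (k + 1)) (hup2Pow hp2 hc hexp 1).range
          ≤ (hup2Pow hp2 hc hexp (k + 1 + 1)).range := by
        rintro _ ⟨_, ⟨d, rfl⟩, rfl⟩
        refine ⟨d, ?_⟩
        rw [hup2Pow_apply, hup2Pow_apply, hup2Pow_apply, pow_one, ← pow_mul, ← pow_succ']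
      rw [eq_top_iff, ← ih, h1, Subgroup.map_sup]
      refine sup_le le_sup_left (sup_le (h2.trans le_sup_left) (h3.trans le_sup_right))
  obtain ⟨n, hn⟩ := (IsPGroup.iff_card).mp hG
  have hbot : (hup2Pow hp2 hc hexp (n + 1)).range = ⊥ := by
    rw [eq_bot_iff]
    rintro _ ⟨d, rfl⟩
    rw [hup2Pow_apply, Subgroup.mem_bot, pow_succ, pow_mul, ← hn, pow_card_eq_one', one_pow]
  have := hstep n
  rwa [hbot, sup_bot_eq] at this

end hom

/-- in a quotient of order `p ^ 2` and exponent `p`, an element outside `R` is part of a generating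
pair modulo `R` -/
theorem hup2_two_gen (R : Subgroup G) [R.Normal] (hpow : ∀ g : G, g ^ p ∈ R)
    (hidx : R.index = p ^ 2) (c : G) (hcR : c ∉ R) :
    ∃ d : G, Subgroup.closure {c, d} ⊔ R = ⊤ := by
  have hpp : p.Prime := Fact.out
  have hcard : Nat.card (G ⧸ R) = p ^ 2 := by rw [← Subgroup.index_eq_card, hidx]
  have hx1 : (c : G ⧸ R) ≠ 1 := fun h => hcR ((QuotientGroup.eq_one_iff c).mp h)
  have hxp : (c : G ⧸ R) ^ p = 1 := by
    rw [← QuotientGroup.mk_pow]; exact (QuotientGroup.eq_one_iff _).mpr (hpow c)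
  have hox : orderOf (c : G ⧸ R) = p := orderOf_eq_prime hxp hx1
  have hzx : Nat.card (Subgroup.zpowers (c : G ⧸ R)) = p := by rw [Nat.card_zpowers, hox]
  have hppne : p ≠ p ^ 2 := by
    intro h
    have h1 : p ^ 1 = p ^ 2 := by rw [pow_one]; exact h
    have := Nat.pow_right_injective hpp.two_le h1
    omega
  have hne : Subgroup.zpowers (c : G ⧸ R) ≠ ⊤ := by
    intro h
    have : Nat.card (Subgroup.zpowers (c : G ⧸ R)) = p ^ 2 := by rw [h, Subgroup.card_top, hcard]
    rw [hzx] at this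
    exact hppne this
  obtain ⟨y, hy⟩ : ∃ y, y ∉ Subgroup.zpowers (c : G ⧸ R) := by
    by_contra hcon
    exact hne (eq_top_iff.mpr fun g _ => by_contra fun hg => hcon ⟨g, hg⟩)
  obtain ⟨d, rfl⟩ := QuotientGroup.mk_surjective y
  refine ⟨d, ?_⟩
  have hmap : Subgroup.map (QuotientGroup.mk' R) (Subgroup.closure {c, d})
      = Subgroup.closure {(c : G ⧸ R), (d : G ⧸ R)} := by
    rw [MonoidHom.map_closure, Set.image_pair]; rfl
  have hxL : Subgroup.zpowers (c : G ⧸ R) ≤ Subgroup.closure {(c : G ⧸ R), (d : G ⧸ R)} := by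
    rw [Subgroup.zpowers_le]; exact Subgroup.subset_closure (by simp)
  have hdL : (d : G ⧸ R) ∈ Subgroup.closure {(c : G ⧸ R), (d : G ⧸ R)} :=
    Subgroup.subset_closure (by simp)
  have hLtop : Subgroup.closure {(c : G ⧸ R), (d : G ⧸ R)} = ⊤ := by
    have hdvd : Nat.card (Subgroup.closure {(c : G ⧸ R), (d : G ⧸ R)}) ∣ p ^ 2 :=
      hcard ▸ Subgroup.card_subgroup_dvd_card _
    obtain ⟨j, hj, hjc⟩ := (Nat.dvd_prime_pow hpp).mp hdvd
    have hdvd2 : p ∣ Nat.card (Subgroup.closure {(c : G ⧸ R), (d : G ⧸ R)}) :=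
      hzx ▸ Subgroup.card_dvd_of_le hxL
    have hj0 : j ≠ 0 := by
      rintro rfl
      rw [hjc, pow_zero] at hdvd2
      exact hpp.one_lt.ne' (Nat.dvd_one.mp hdvd2)
    have hj1 : j ≠ 1 := by
      rintro rfl
      rw [pow_one] at hjc
      have := Subgroup.eq_of_le_of_card_ge hxL (by rw [hjc, hzx])
      exact hy (this ▸ hdL)
    have hj2 : j = 2 := by omega
    rw [← Subgroup.card_eq_iff_eq_top, hjc, hj2, hcard]
  rw [eq_top_iff]
  intro g _
  have hg : (g : G ⧸ R) ∈ Subgroup.map (QuotientGroup.mk' R) (Subgroup.closure {c, d}) := by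
    rw [hmap, hLtop]; exact Subgroup.mem_top _
  obtain ⟨h, hh, hhg⟩ := hg
  have h1 : h⁻¹ * g ∈ R := QuotientGroup.eq.mp hhg
  have h2 : g = h * (h⁻¹ * g) := by group
  rw [h2]
  exact Subgroup.mul_mem_sup hh h1

section comm

variable (hc : ∀ x y : G, ⁅x, y⁆ ∈ Subgroup.center G)

include hc in
theorem hup2_comm_inv_left (y s : G) : ⁅y⁻¹, s⁆ = ⁅y, s⁆⁻¹ := by
  apply eq_inv_of_mul_eq_one_left
  rw [← Cfsg.Agent.Lib.H25.GXS.gxs_comm_mul_left hc, inv_mul_cancel, commutatorElement_one_left]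

include hc in
theorem hup2_comm_left_mem (Z : Subgroup G) (S : Set G) (hS : Subgroup.closure S = ⊤) (s : G)
    (h : ∀ t ∈ S, ⁅t, s⁆ ∈ Z) (y : G) : ⁅y, s⁆ ∈ Z := by
  have hy : y ∈ Subgroup.closure S := hS ▸ Subgroup.mem_top y
  induction hy using Subgroup.closure_induction with
  | mem t ht => exact h t ht
  | one => rw [commutatorElement_one_left]; exact Z.one_mem
  | mul a b _ _ ha hb =>
    rw [Cfsg.Agent.Lib.H25.GXS.gxs_comm_mul_left hc]; exact Z.mul_mem ha hb
  | inv a _ ha => rw [hup2_comm_inv_left hc]; exact Z.inv_mem ha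

include hc in
/-- if `G = ⟨a, b⟩` has class at most two, all commutators are powers of `⁅a, b⁆` -/
theorem hup2_comm_mem_zpowers (a b : G) (hab : Subgroup.closure {a, b} = ⊤) (x y : G) :
    ⁅x, y⁆ ∈ Subgroup.zpowers ⁅a, b⁆ := by
  have hsw : ∀ u v : G, ⁅u, v⁆ ∈ Subgroup.zpowers ⁅a, b⁆ → ⁅v, u⁆ ∈ Subgroup.zpowers ⁅a, b⁆ := by
    intro u v h
    have h1 : ⁅v, u⁆ = ⁅u, v⁆⁻¹ := (commutatorElement_inv u v).symm
    rw [h1]
    exact Subgroup.inv_mem _ h
  have hw : ⁅a, b⁆ ∈ Subgroup.zpowers ⁅a, b⁆ := Subgroup.mem_zpowers _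
  have hA : ∀ y : G, ⁅y, a⁆ ∈ Subgroup.zpowers ⁅a, b⁆ := by
    apply hup2_comm_left_mem hc _ _ hab
    intro t ht
    rcases ht with rfl | rfl
    · rw [commutatorElement_self]; exact Subgroup.one_mem _
    · exact hsw _ _ hw
  have hB : ∀ y : G, ⁅y, b⁆ ∈ Subgroup.zpowers ⁅a, b⁆ := by
    apply hup2_comm_left_mem hc _ _ hab
    intro t ht
    rcases ht with rfl | rfl
    · exact hw
    · rw [commutatorElement_self]; exact Subgroup.one_mem _
  apply hup2_comm_left_mem hc _ _ hab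
  intro t ht
  rcases ht with rfl | rfl
  · exact hsw _ _ (hA y)
  · exact hsw _ _ (hB y)

end comm

/-- **HUP2.**  class ≤ 2, commutators of order ≤ p, `|G : ℧₁(G)| ≤ p²`, `p` odd ⇒ metacyclic. -/
theorem metacyclic_of_class_two (hp2 : p ≠ 2) (hG : IsPGroup p G)
    (hcl : ∀ a b c : G, ⁅⁅a, b⁆, c⁆ = 1) (hexp : ∀ a b : G, ⁅a, b⁆ ^ p = 1)
    (hidx : (agemo p G).index ≤ p ^ 2) : Cfsg.IsMetacyclic G := by
  have hpp : p.Prime := Fact.out
  have hc : ∀ x y : G, ⁅x, y⁆ ∈ Subgroup.center G := by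
    intro x y
    rw [Subgroup.mem_center_iff]
    intro g
    exact ((commutatorElement_eq_one_iff_commute.mp (hcl x y g)).eq).symm
  have hag : agemo p G = (hup2Pow hp2 hc hexp 1).range := hup2_agemo_eq hp2 hc hexp
  rw [hag] at hidx
  generalize hRdef : (hup2Pow hp2 hc hexp 1).range = R at hidx
  have hRn : R.Normal := hRdef ▸ hup2_range_normal hp2 hc hexp 1
  have hpow : ∀ g : G, g ^ p ∈ R := fun g => hRdef ▸ ⟨g, by rw [hup2Pow_apply, pow_one]⟩
  have hgen : ∀ H : Subgroup G, H ⊔ R = ⊤ → H = ⊤ := fun H hH =>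
    hup2_eq_top_of_sup hp2 hc hexp hG H (by rw [hRdef]; exact hH)
  obtain ⟨n, hn⟩ := (IsPGroup.iff_card).mp hG
  have hdvd : R.index ∣ p ^ n := hn ▸ Subgroup.index_dvd_card R
  obtain ⟨j, hjn, hj⟩ := (Nat.dvd_prime_pow hpp).mp hdvd
  have hj2 : j ≤ 2 := by
    rw [hj] at hidx
    exact (Nat.pow_le_pow_iff_right hpp.one_lt).mp hidx
  have hexa : R ≠ ⊤ → ∃ a, a ∉ R := by
    intro hne
    by_contra hcon
    exact hne (eq_top_iff.mpr fun g _ => by_contra fun hg => hcon ⟨g, hg⟩)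
  have hj012 : j = 0 ∨ j = 1 ∨ j = 2 := by omega
  rcases hj012 with rfl | rfl | rfl
  · -- index 1
    have hRtop : R = ⊤ := Subgroup.index_eq_one.mp (by rw [hj, pow_zero])
    have hbt : (⊥ : Subgroup G) = ⊤ := hgen ⊥ (by rw [bot_sup_eq, hRtop])
    have : Subsingleton G := by
      constructor
      intro x y
      have hx : x ∈ (⊥ : Subgroup G) := hbt ▸ Subgroup.mem_top x
      have hy : y ∈ (⊥ : Subgroup G) := hbt ▸ Subgroup.mem_top y
      rw [Subgroup.mem_bot] at hx hy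
      rw [hx, hy]
    have : IsCyclic G := isCyclic_of_subsingleton
    exact hup2_metacyclic_of_isCyclic
  · -- index p
    rw [pow_one] at hj
    have hRne : R ≠ ⊤ := by
      intro h
      rw [h, Subgroup.index_top] at hj
      exact hpp.one_lt.ne hj
    obtain ⟨a, ha⟩ := hexa hRne
    have hK : Subgroup.zpowers a ⊔ R = ⊤ := by
      have h1 := Subgroup.relIndex_mul_index (le_sup_right : R ≤ Subgroup.zpowers a ⊔ R)
      rw [hj] at h1
      rcases (Nat.dvd_prime hpp).mp (Dvd.intro_left _ h1) with h2 | h2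
      · exact Subgroup.index_eq_one.mp h2
      · rw [h2] at h1
        have h3 : R.relIndex (Subgroup.zpowers a ⊔ R) = 1 :=
          Nat.eq_of_mul_eq_mul_right hpp.pos (by rw [h1, one_mul])
        have h4 := Subgroup.relIndex_eq_one.mp h3
        exact absurd (h4 (le_sup_left (a := Subgroup.zpowers a) (Subgroup.mem_zpowers a))) ha
    have hza := hgen _ hK
    have : IsCyclic G := isCyclic_iff_exists_zpowers_eq_top.mpr ⟨a, hza⟩
    exact hup2_metacyclic_of_isCyclic
  · -- index p ^ 2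
    have hRne : R ≠ ⊤ := by
      intro h
      rw [h, Subgroup.index_top] at hj
      exact (one_lt_pow₀ hpp.one_lt (by norm_num)).ne hj
    obtain ⟨a, ha⟩ := hexa hRne
    obtain ⟨b, hb⟩ := hup2_two_gen R hpow hj a ha
    have hab : Subgroup.closure {a, b} = ⊤ := hgen _ hb
    have hcomm : ∀ x y : G, ⁅x, y⁆ ∈ Subgroup.zpowers ⁅a, b⁆ :=
      hup2_comm_mem_zpowers hc a b hab
    let T : Set G := {c | ∃ k : ℕ, c ^ (p ^ k) = ⁅a, b⁆}
    have : Nonempty T := ⟨⟨⁅a, b⁆, 0, by simp⟩⟩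
    obtain ⟨⟨c, k, hck⟩, hcmax⟩ := Finite.exists_max (fun t : T => orderOf (t : G))
    have hcR : c ∉ R := by
      intro hcR
      rw [← hRdef] at hcR
      obtain ⟨d, hd⟩ := hcR
      rw [hup2Pow_apply, pow_one] at hd
      have hdT : d ∈ T := ⟨k + 1, by rw [pow_succ', pow_mul, hd, hck]⟩
      have hle : orderOf d ≤ orderOf c := hcmax ⟨d, hdT⟩
      by_cases hd1 : d = 1
      · have hc1 : c = 1 := by rw [← hd, hd1, one_pow]
        have hw1 : ⁅a, b⁆ = 1 := by rw [← hck, hc1, one_pow]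
        have hall : ∀ g : G, g = 1 := by
          intro g
          have hgT : g ∈ T := ⟨n, by rw [hw1, ← hn, pow_card_eq_one']⟩
          have h1 : orderOf g ≤ orderOf c := hcmax ⟨g, hgT⟩
          rw [hc1, orderOf_one] at h1
          exact orderOf_eq_one_iff.mp (le_antisymm h1 (orderOf_pos g))
        exact ha (hall a ▸ R.one_mem)
      · obtain ⟨m, hm⟩ := (IsPGroup.iff_orderOf.mp hG) d
        have hm0 : m ≠ 0 := by
          rintro rfl
          rw [pow_zero, orderOf_eq_one_iff] at hm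
          exact hd1 hm
        have hpd : p ∣ orderOf d := hm ▸ dvd_pow_self p hm0
        have h1 := orderOf_pow_of_dvd hpp.ne_zero hpd
        rw [hd] at h1
        have hlt : orderOf d / p < orderOf d := Nat.div_lt_self (orderOf_pos d) hpp.one_lt
        omega
    have hwc : ⁅a, b⁆ ∈ Subgroup.zpowers c := hck ▸ Subgroup.npow_mem_zpowers c _
    have hNn : (Subgroup.zpowers c).Normal := Cfsg.Agent.Lib.H1.normal_of_commutator_le (by
      rw [commutator_def, Subgroup.commutator_le]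
      intro x _ y _
      exact (Subgroup.zpowers_le.mpr hwc) (hcomm x y))
    obtain ⟨d, hd⟩ := hup2_two_gen R hpow hj c hcR
    have hcd : Subgroup.closure {c, d} = ⊤ := hgen _ hd
    refine ⟨Subgroup.zpowers c, hNn, inferInstance,
      isCyclic_iff_exists_zpowers_eq_top.mpr ⟨(d : G ⧸ Subgroup.zpowers c), ?_⟩⟩
    rw [eq_top_iff]
    rintro q -
    obtain ⟨g, rfl⟩ := QuotientGroup.mk_surjective q
    have hg : g ∈ Subgroup.closure {c, d} := hcd ▸ Subgroup.mem_top g
    induction hg using Subgroup.closure_induction with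
    | mem t ht =>
      rcases ht with ht | ht
      · have h1 : ((t : G) : G ⧸ Subgroup.zpowers c) = 1 :=
          (QuotientGroup.eq_one_iff _).mpr (ht ▸ Subgroup.mem_zpowers c)
        rw [h1]; exact Subgroup.one_mem _
      · rw [Set.mem_singleton_iff] at ht
        rw [ht]; exact Subgroup.mem_zpowers _
    | one => exact Subgroup.one_mem _
    | mul x y _ _ hx hy => rw [QuotientGroup.mk_mul]; exact Subgroup.mul_mem _ hx hy
    | inv x _ hx => rw [QuotientGroup.mk_inv]; exact Subgroup.inv_mem _ hx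

end Cfsg.Agent.Lib.H25.R2
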