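import Mathlib
import Cfsg.Agent.Lib.H4.ReeSpecDefs
import Cfsg.Agent.Lib.H16.PGL2SpecB

/-!
# S3626 pieces INV and SL2 : involutions of `SL(2,K)` in characteristic 3, and the trichotomy
-/

set_option autoImplicit false
set_option linter.style.haveILetI false

namespace Cfsg.Agent.Lib.H25.RS

open Matrix Cfsg.Agent.Lib.H4.ReeSpec

section field

variable {K : Type*} [Field K] [CharP K 3]

omit [CharP K 3] in
/-- a `2 × 2` matrix of determinant one whose square is a scalar `c` with `c ≠ -1`... here: the
entrywise form of `A * A = 1`, `det A = 1`, `2 ≠ 0` gives `A = ±1` -/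
theorem inv_entries (h2 : (2 : K) ≠ 0) (a b c d : K) (hdet : a * d - b * c = 1)
    (h00 : a * a + b * c = 1) (h01 : a * b + b * d = 0) (h10 : c * a + d * c = 0)
    (h11 : c * b + d * d = 1) :
    (a = 1 ∧ b = 0 ∧ c = 0 ∧ d = 1) ∨ (a = -1 ∧ b = 0 ∧ c = 0 ∧ d = -1) := by
  by_cases hs : a + d = 0
  · exfalso
    have hd : d = -a := by linear_combination hs
    subst hd
    apply h2
    linear_combination (-1 : K) * h00 - hdet
  · have hb : b = 0 := by
      have : b * (a + d) = 0 := by linear_combination h01
      rcases mul_eq_zero.mp this with h | h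
      · exact h
      · exact absurd h hs
    have hc : c = 0 := by
      have : c * (a + d) = 0 := by linear_combination h10
      rcases mul_eq_zero.mp this with h | h
      · exact h
      · exact absurd h hs
    subst hb hc
    have ha : (a - 1) * (a + 1) = 0 := by linear_combination h00
    have had : a = d := by
      have : a * (a * d) = d * (a * a) := by ring
      have h1 : a * d = 1 := by linear_combination hdet
      have h2' : a * a = 1 := by linear_combination h00
      rw [h1, h2'] at this
      simpa using this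
    rcases mul_eq_zero.mp ha with h | h
    · left
      have : a = 1 := by linear_combination h
      exact ⟨this, rfl, rfl, by rw [← had, this]⟩
    · right
      have : a = -1 := by linear_combination h
      exact ⟨this, rfl, rfl, by rw [← had, this]⟩

theorem two_ne_zero_char3 : (2 : K) ≠ 0 := by
  intro h
  have h2 : ((2 : ℕ) : K) = 0 := by exact_mod_cast h
  rw [CharP.cast_eq_zero_iff K 3] at h2
  omega

/-- INV: in characteristic `3` the only elements of `SL(2,K)` with square `1` are `±1`. -/
theorem sl2_sq_eq_one (A : Matrix.SpecialLinearGroup (Fin 2) K) (h : A ^ 2 = 1) : A = 1 ∨ A = -1 := by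
  have hdet : (A : M2 K) 0 0 * (A : M2 K) 1 1 - (A : M2 K) 0 1 * (A : M2 K) 1 0 = 1 := by
    have := A.2
    rw [Matrix.det_fin_two] at this
    exact this
  have hsq : (A : M2 K) * (A : M2 K) = 1 := by
    have := congrArg (fun B : Matrix.SpecialLinearGroup (Fin 2) K => (B : M2 K)) h
    simpa [pow_two] using this
  have e00 := congrFun (congrFun hsq 0) 0
  have e01 := congrFun (congrFun hsq 0) 1
  have e10 := congrFun (congrFun hsq 1) 0
  have e11 := congrFun (congrFun hsq 1) 1
  simp only [Matrix.mul_apply, Fin.sum_univ_two, Matrix.one_apply_eq, Matrix.one_apply_ne,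
    ne_eq, zero_ne_one, one_ne_zero, not_false_eq_true] at e00 e01 e10 e11
  rcases inv_entries two_ne_zero_char3 _ _ _ _ hdet e00 e01 e10 e11 with
    ⟨h1, h2, h3, h4⟩ | ⟨h1, h2, h3, h4⟩
  · left
    ext i j
    fin_cases i <;> fin_cases j <;> simp [h1, h2, h3, h4]
  · right
    ext i j
    fin_cases i <;> fin_cases j <;> simp [h1, h2, h3, h4]

/-- SL2: every `A ∈ SL(2,K)`, `|K| = q`, satisfies `A³ = ±1` or `A^(q-1) = 1` or `A^(q+1) = 1`. -/
theorem sl2_cases [Fintype K] (A : Matrix.SpecialLinearGroup (Fin 2) K) :
    A ^ 3 = 1 ∨ A ^ 3 = -1 ∨ A ^ (Fintype.card K - 1) = 1 ∨ A ^ (Fintype.card K + 1) = 1 := by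
  have hdet : (A : M2 K).det = 1 := A.2
  have hdet0 : (A : M2 K).det ≠ 0 := by rw [hdet]; exact one_ne_zero
  rcases Cfsg.Agent.Lib.H16.PGL2Spec.pow_scalar_cases 3 (A : M2 K) hdet0 with ⟨c, hc⟩ | h | h
  · -- `A³ = c • 1`, and `det` gives `c² = 1`
    have hd : ((A : M2 K) ^ 3).det = 1 := by rw [Matrix.det_pow, hdet, one_pow]
    rw [hc, Matrix.det_smul, Matrix.det_one, mul_one, Fintype.card_fin] at hd
    have hc2 : (c - 1) * (c + 1) = 0 := by linear_combination hd
    rcases mul_eq_zero.mp hc2 with h1 | h1
    · left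
      have hc1 : c = 1 := by linear_combination h1
      apply Subtype.ext
      rw [Matrix.SpecialLinearGroup.coe_pow, hc, hc1, one_smul, Matrix.SpecialLinearGroup.coe_one]
    · right; left
      have hc1 : c = -1 := by linear_combination h1
      apply Subtype.ext
      rw [Matrix.SpecialLinearGroup.coe_pow, hc, hc1, Matrix.SpecialLinearGroup.coe_neg,
        Matrix.SpecialLinearGroup.coe_one, neg_smul, one_smul]
  · right; right; left
    apply Subtype.ext
    rw [Matrix.SpecialLinearGroup.coe_pow, h, Matrix.SpecialLinearGroup.coe_one]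
  · right; right; right
    apply Subtype.ext
    rw [Matrix.SpecialLinearGroup.coe_pow, h, hdet, one_smul, Matrix.SpecialLinearGroup.coe_one]

end field

end Cfsg.Agent.Lib.H25.RS
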