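import Mathlib
import Cfsg.Agent.Lib.H4.ReeSpecDefs
import Cfsg.Agent.Lib.H16.PGL2SpecA
import Cfsg.Agent.Lib.H22.RSKER
import Cfsg.Agent.Lib.H25.RSINV

/-!
# S3626 piece WB : an element of order `(q + 1)/2` in `Y K`
-/

set_option autoImplicit false
set_option linter.style.haveILetI false

namespace Cfsg.Agent.Lib.H25.RS

open Matrix Cfsg.Agent.Lib.H4.ReeSpec

section field

variable {K : Type*} [Field K] [CharP K 3]

/-- `rhoM (1, A) ^ n = 1` iff `A ^ n = ±1` -/
theorem wb_pow_eq_one_iff (A : Matrix.SpecialLinearGroup (Fin 2) K) (n : ℕ) :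
    (rhoM K ((1, A) : G0 K)) ^ n = 1 ↔ (A ^ n = 1 ∨ A ^ n = -1) := by
  have hpow : (rhoM K ((1, A) : G0 K)) ^ n = rhoM K ((1, A ^ n) : G0 K) := by
    rw [← map_pow]
    congr 1
    ext <;> simp
  rw [hpow]
  constructor
  · intro h
    have h1 : rho K ((1, A ^ n) : G0 K) = 1 := by
      have := congrArg Subtype.val h
      simpa [rhoM] using this
    exact (Cfsg.Agent.Lib.H22.RS.rho_eq_one _ h1).2
  · rintro (h | h)
    · rw [h]
      have : ((1, 1) : G0 K) = 1 := rfl
      rw [this, map_one]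
    · rw [h]
      apply Subtype.ext
      have : ((rhoM K ((1, -1) : G0 K) : Mq K) : MulAut (W K)) = rho K ((1, -1) : G0 K) := rfl
      rw [this, Cfsg.Agent.Lib.H22.RS.rho_neg_one]
      rfl

/-- WB: `⟨0, ρ(1, A)⟩`, `A ∈ SL(2,K)` of order `q + 1`, has order `(q + 1)/2`. -/
theorem exists_orderOf_half_succ [Fintype K] {m : ℕ} (hK : Fintype.card K = 3 ^ (2 * m + 1)) :
    ∃ y : Y K, orderOf y = (3 ^ (2 * m + 1) + 1) / 2 := by
  obtain ⟨A, hA⟩ := Cfsg.Agent.Lib.H16.PGL2Spec.exists_sl2_orderOf_card_succ (F := K)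
  rw [hK] at hA
  set q := 3 ^ (2 * m + 1) with hq
  have hqodd : Odd q := by rw [hq]; exact Odd.pow (by decide)
  obtain ⟨k, hk⟩ := hqodd
  set h := (q + 1) / 2 with hh
  have hh2 : q + 1 = 2 * h := by omega
  have hhpos : 0 < h := by omega
  -- `A ^ h = -1`
  have hAh2 : (A ^ h) ^ 2 = 1 := by
    rw [← pow_mul, mul_comm, ← hh2, ← hA, pow_orderOf_eq_one]
  have hAh : A ^ h = -1 := by
    rcases sl2_sq_eq_one (A ^ h) hAh2 with h1 | h1
    · exfalso
      have := orderOf_dvd_of_pow_eq_one h1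
      rw [hA] at this
      have := Nat.le_of_dvd hhpos this
      omega
    · exact h1
  set x : Mq K := rhoM K ((1, A) : G0 K) with hx
  have hxord : orderOf x = h := by
    apply Nat.dvd_antisymm
    · apply orderOf_dvd_of_pow_eq_one
      rw [hx, wb_pow_eq_one_iff]
      exact Or.inr hAh
    · have h1 : x ^ orderOf x = 1 := pow_orderOf_eq_one x
      rw [hx, wb_pow_eq_one_iff] at h1
      have h2 : A ^ (2 * orderOf x) = 1 := by
        rw [mul_comm, pow_mul]
        rcases h1 with h1 | h1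
        · rw [h1, one_pow]
        · rw [h1]
          simp
      have h3 := orderOf_dvd_of_pow_eq_one h2
      rw [hA, hh2] at h3
      exact (Nat.mul_dvd_mul_iff_left (by norm_num : 0 < 2)).mp h3
  refine ⟨(SemidirectProduct.inr : Mq K →* Y K) x, ?_⟩
  rw [orderOf_injective _ SemidirectProduct.inr_injective, hxord]

end field

end Cfsg.Agent.Lib.H25.RS
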