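import Cfsg.Agent.Lib.H26.ModelStruct
import Cfsg.Agent.Lib.H26.NormalSubgroupFusion
import Cfsg.Agent.Lib.H25.MorphismSat
import Cfsg.Agent.S5103

set_option autoImplicit false

/-!
Fusion systems realized by a finite group `G` through `ι : S →* G` (helper25):
* a system realized on a Sylow subgroup is saturated;
* a normal subgroup `N` of `G` gives a normal subsystem `realizedSub` over `ι⁻¹(N)`.
-/

namespace Cfsg.Agent.Lib.H25

open Cfsg Cfsg.FusionSystem Cfsg.Agent.Lib.H26 Cfsg.Agent.Lib.H26.Model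

section Saturated

variable {Ω : Type*} [Group Ω] {S : Subgroup Ω} {G : Type*} [Group G]

/-- A fusion system realized by a finite group on a Sylow subgroup is saturated. -/
theorem isSaturated_of_isRealizedBy [Finite G] {p : ℕ} [Fact p.Prime]
    {F : FusionSystem S} {ι : S →* G} (hreal : F.IsRealizedBy ι) (T : Sylow p G)
    (hT : (T : Subgroup G) = ι.range) : F.IsSaturated p := by
  have h0 : (groupFusionSystem ι.range).IsSaturated p := by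
    rw [← hT]
    exact groupFusionSystem_isSaturated T
  have hsm := Cfsg.Agent.S5103.isSurjectiveMorphism_back F ι hreal
  have hp : IsPGroup p ι.range := by
    rw [← hT]
    exact T.2
  exact isSaturated_of_surjectiveMorphism hp h0 hsm

end Saturated

section Sub

variable {Ω : Type*} [Group Ω] {S : Subgroup Ω} {G : Type*} [Group G]

/-- The subsystem of `F` (realized by `ι : S →* G`) over `ι⁻¹(N)` whose maps are induced by
conjugation by elements of `N`. -/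
def realizedSub (F : FusionSystem S) {ι : S →* G} (hreal : F.IsRealizedBy ι) (N : Subgroup G) :
    FusionSystem (preSub ι N) where
  Hom P := {φ | ∃ (hP : P ≤ preSub ι N) (hφ : ∀ x : P, φ x ∈ preSub ι N), ∃ n ∈ N, ∀ x : P,
    ι ⟨φ x, preSub_le ι N (hφ x)⟩ = n * ι ⟨x, preSub_le ι N (hP x.2)⟩ * n⁻¹}
  le_of_mem := by
    rintro P φ ⟨hP, hφ, -⟩
    exact ⟨hP, hφ⟩
  injective_of_mem := by
    rintro P φ ⟨hP, hφ, n, hn, h⟩
    exact F.injective_of_mem ((hreal.2 P (hP.trans (preSub_le ι N)) φ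
      (fun x => preSub_le ι N (hφ x))).2 ⟨n, h⟩)
  conj_mem := by
    intro P g hP hg
    have hgS : g ∈ S := preSub_le ι N hg
    have hmem : ∀ x : P, conjHom P g x ∈ preSub ι N := fun x =>
      (preSub ι N).mul_mem ((preSub ι N).mul_mem hg (hP x.2)) ((preSub ι N).inv_mem hg)
    refine ⟨hP, hmem, ι ⟨g, hgS⟩, (mem_preSub.1 hg).2, fun x => ?_⟩
    rw [← map_inv, ← map_mul, ← map_mul]
    rfl
  comp_mem := by
    rintro P Q φ ψ ⟨hP, hφ, n, hn, h1⟩ ⟨hQ, hψ, m, hm, h2⟩ h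
    refine ⟨hP, fun x => hψ _, m * n, N.mul_mem hm hn, fun x => ?_⟩
    show ι ⟨ψ (φ.codRestrict Q h x), _⟩ = _
    rw [h2]
    show m * ι ⟨φ x, _⟩ * m⁻¹ = _
    rw [h1, mul_inv_rev]
    simp only [mul_assoc]
  inv_mem := by
    rintro P φ ⟨hP, hφ, n, hn, h1⟩
    have hφF : φ ∈ F.Hom P := (hreal.2 P (hP.trans (preSub_le ι N)) φ
      (fun x => preSub_le ι N (hφ x))).2 ⟨n, h1⟩
    obtain ⟨ψ, hψ, hψφ⟩ := F.inv_mem hφF
    have hrange : φ.range ≤ preSub ι N := by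
      rintro _ ⟨x, rfl⟩
      exact hφ x
    have hψmem : ∀ y : φ.range, ψ y ∈ preSub ι N := by
      rintro ⟨_, x, rfl⟩
      rw [hψφ x]
      exact hP x.2
    refine ⟨ψ, ⟨hrange, hψmem, n⁻¹, N.inv_mem hn, ?_⟩, hψφ⟩
    rintro ⟨_, x, rfl⟩
    have e1 : (⟨ψ ⟨φ x, ⟨x, rfl⟩⟩, preSub_le ι N (hψmem ⟨φ x, ⟨x, rfl⟩⟩)⟩ : S) =
        ⟨x, preSub_le ι N (hP x.2)⟩ := Subtype.ext (hψφ x)
    rw [e1]
    show _ = n⁻¹ * ι ⟨φ x, _⟩ * n⁻¹⁻¹
    rw [h1]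
    group

variable {F : FusionSystem S} {ι : S →* G} (hreal : F.IsRealizedBy ι) (N : Subgroup G)

theorem mem_realizedSub_hom_iff {P : Subgroup Ω} {φ : P →* Ω} :
    φ ∈ (realizedSub F hreal N).Hom P ↔
      ∃ (hP : P ≤ preSub ι N) (hφ : ∀ x : P, φ x ∈ preSub ι N), ∃ n ∈ N, ∀ x : P,
        ι ⟨φ x, preSub_le ι N (hφ x)⟩ = n * ι ⟨x, preSub_le ι N (hP x.2)⟩ * n⁻¹ := Iff.rfl

theorem realizedSub_isSubsystemOf : (realizedSub F hreal N).IsSubsystemOf F := by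
  rintro P φ ⟨hP, hφ, n, hn, h⟩
  exact (hreal.2 P (hP.trans (preSub_le ι N)) φ (fun x => preSub_le ι N (hφ x))).2 ⟨n, h⟩

end Sub

section Normal

variable {Ω : Type*} [Group Ω] {S : Subgroup Ω} [Finite S] {G : Type*} [Group G]
  {F : FusionSystem S} {ι : S →* G} (hreal : F.IsRealizedBy ι)

include hreal

theorem exists_elt_of_mem_hom {P : Subgroup Ω} {φ : P →* Ω} (hφ : φ ∈ F.Hom P) :
    ∃ g : G, ∀ x : P, ι ⟨φ x, hom_mem_S F hφ x⟩ = g * ι ⟨x, hom_le F hφ x.2⟩ * g⁻¹ :=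
  (hreal.2 P (hom_le F hφ) φ (hom_mem_S F hφ)).1 hφ

/-- An element of `G` normalizing the image of `Q` induces an element of `Aut_F(Q)`. -/
theorem exists_aut_of_elt {Q : Subgroup Ω} (hQS : Q ≤ S) {g : G}
    (hg : ∀ x : Q, ∃ (y : Ω) (hy : y ∈ Q), ι ⟨y, hQS hy⟩ = g * ι ⟨x, hQS x.2⟩ * g⁻¹) :
    ∃ α ∈ F.autGroup Q, ∀ x : Q,
      ι ⟨((α x : Q) : Ω), hQS (α x).2⟩ = g * ι ⟨x, hQS x.2⟩ * g⁻¹ := by
  have hfinQ : Finite Q := finite_of_le S hQS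
  have hmem : ∀ x : Q, g * ι ⟨x, hQS x.2⟩ * g⁻¹ ∈ ι.range := by
    intro x
    obtain ⟨y, hy, h⟩ := hg x
    exact ⟨_, h⟩
  obtain ⟨φ, hφ⟩ := exists_conjMap hreal.1 g hQS hmem
  have hφS : ∀ x : Q, φ x ∈ S := fun x => (hφ x).1
  have hφeq : ∀ x : Q, ι ⟨φ x, hφS x⟩ = g * ι ⟨x, hQS x.2⟩ * g⁻¹ := fun x => (hφ x).2
  have hφF : φ ∈ F.Hom Q := (hreal.2 Q hQS φ hφS).2 ⟨g, hφeq⟩
  have hφQ : ∀ x : Q, φ x ∈ Q := by
    intro x
    obtain ⟨y, hy, h⟩ := hg x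
    have := hreal.1 (h.trans (hφeq x).symm)
    have e : y = φ x := congrArg Subtype.val this
    rw [← e]
    exact hy
  have hrange : φ.range = Q := by
    have hle : φ.range ≤ Q := by
      rintro _ ⟨x, rfl⟩
      exact hφQ x
    have hsurj : Function.Surjective (φ.codRestrict Q hφQ) := by
      apply Finite.surjective_of_injective
      intro a b hab
      exact F.injective_of_mem hφF (congrArg Subtype.val hab)
    apply le_antisymm hle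
    intro y hy
    obtain ⟨x, hx⟩ := hsurj ⟨y, hy⟩
    exact ⟨x, congrArg Subtype.val hx⟩
  have hiso : IsIso F Q Q (ext1 φ) := ⟨φ, hφF, fun x => (ext1_apply φ x).symm, hrange⟩
  obtain ⟨α, hα, hαf⟩ := exists_mem_autGroup_of_isIso F hiso
  refine ⟨α, hα, fun x => ?_⟩
  have e : (⟨((α x : Q) : Ω), hQS (α x).2⟩ : S) = ⟨φ x, hφS x⟩ :=
    Subtype.ext ((hαf x).trans (ext1_apply φ x))
  rw [e]
  exact hφeq x

/-- Elements of `Aut_F(Q)` are induced by elements of `G`. -/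
theorem exists_elt_of_mem_autGroup {Q : Subgroup Ω} (hQS : Q ≤ S) {α : MulAut Q}
    (hα : α ∈ F.autGroup Q) :
    ∃ g : G, ∀ x : Q, ι ⟨((α x : Q) : Ω), hQS (α x).2⟩ = g * ι ⟨x, hQS x.2⟩ * g⁻¹ := by
  have h1 := (mem_autGroup_iff F hQS α).1 hα
  exact exists_elt_of_mem_hom hreal h1

variable (N : Subgroup G) [hN : N.Normal]

theorem preSub_stronglyClosed : F.StronglyClosed (preSub ι N) := by
  refine ⟨preSub_le ι N, fun R hR φ hφ x => ?_⟩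
  obtain ⟨g, hg⟩ := exists_elt_of_mem_hom hreal hφ
  rw [mem_preSub]
  refine ⟨hom_mem_S F hφ x, ?_⟩
  rw [hg]
  exact hN.conj_mem _ (mem_preSub.1 (hR x.2)).2 g

omit [Finite S] hreal in
theorem ι_congr {a b : Ω} (ha : a ∈ S) (hb : b ∈ S) (h : a = b) : ι ⟨a, ha⟩ = ι ⟨b, hb⟩ := by
  subst h
  rfl

omit [Finite S] in
theorem eq_of_ι_eq {a b : Ω} (ha : a ∈ S) (hb : b ∈ S) (h : ι ⟨a, ha⟩ = ι ⟨b, hb⟩) : a = b :=
  congrArg Subtype.val (hreal.1 h)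

/-- Invariance of `realizedSub` under `Aut_F(T)`. -/
theorem realizedSub_invariance (P : Subgroup Ω) (hPT : P ≤ preSub ι N) (φ : P →* Ω)
    (hφ : φ ∈ (realizedSub F hreal N).Hom P) (α : MulAut (preSub ι N))
    (hα : α ∈ F.autGroup (preSub ι N)) :
    ∃ χ ∈ (realizedSub F hreal N).Hom
        ((P.subgroupOf (preSub ι N)).map ((preSub ι N).subtype.comp α.toMonoidHom)),
      ∀ (x : P) (hφx : φ x ∈ preSub ι N)
        (hαx : ((α ⟨x, hPT x.2⟩ : preSub ι N) : Ω) ∈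
          (P.subgroupOf (preSub ι N)).map ((preSub ι N).subtype.comp α.toMonoidHom)),
        χ ⟨(α ⟨x, hPT x.2⟩ : preSub ι N), hαx⟩ = ((α ⟨φ x, hφx⟩ : preSub ι N) : Ω) := by
  have hTS := preSub_le ι N
  obtain ⟨g, hg⟩ := exists_elt_of_mem_autGroup hreal hTS hα
  obtain ⟨hP, hφT, n, hn, hnφ⟩ := hφ
  set P' := (P.subgroupOf (preSub ι N)).map ((preSub ι N).subtype.comp α.toMonoidHom) with hP'
  have hP'T : P' ≤ preSub ι N := by
    rintro _ ⟨t, -, rfl⟩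
    exact (α t).2
  have hP'elt : ∀ y : P', ∃ x : P, (y : Ω) = ((α ⟨x, hPT x.2⟩ : preSub ι N) : Ω) := by
    rintro ⟨_, t, ht, rfl⟩
    exact ⟨⟨t, ht⟩, rfl⟩
  have hm : g * n * g⁻¹ ∈ N := hN.conj_mem n hn g
  have key : ∀ x : P, g * n * g⁻¹ * ι ⟨((α ⟨x, hPT x.2⟩ : preSub ι N) : Ω),
      hTS (α ⟨x, hPT x.2⟩).2⟩ * (g * n * g⁻¹)⁻¹ =
      ι ⟨((α ⟨φ x, hφT x⟩ : preSub ι N) : Ω), hTS (α ⟨φ x, hφT x⟩).2⟩ := by
    intro x
    rw [hg ⟨x, hPT x.2⟩, hg ⟨φ x, hφT x⟩]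
    have := hnφ x
    rw [ι_congr (ι := ι) (hTS (hφT x)) (preSub_le ι N (hφT x)) rfl, this]
    group
  have hmem : ∀ y : P', g * n * g⁻¹ * ι ⟨y, hTS (hP'T y.2)⟩ * (g * n * g⁻¹)⁻¹ ∈ ι.range := by
    intro y
    obtain ⟨x, hx⟩ := hP'elt y
    rw [ι_congr (ι := ι) (hTS (hP'T y.2)) (hTS (α ⟨x, hPT x.2⟩).2) hx, key x]
    exact ⟨_, rfl⟩
  obtain ⟨χ, hχ⟩ := exists_conjMap hreal.1 (g * n * g⁻¹) (hP'T.trans hTS) hmem
  have hχα : ∀ (y : P') (x : P), (y : Ω) = ((α ⟨x, hPT x.2⟩ : preSub ι N) : Ω) →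
      χ y = ((α ⟨φ x, hφT x⟩ : preSub ι N) : Ω) := by
    intro y x hx
    obtain ⟨h1, h2⟩ := hχ y
    apply eq_of_ι_eq hreal h1 (hTS (α ⟨φ x, hφT x⟩).2)
    rw [h2, ι_congr (ι := ι) (hTS (hP'T y.2)) (hTS (α ⟨x, hPT x.2⟩).2) hx, key x]
  have hχT : ∀ y : P', χ y ∈ preSub ι N := by
    intro y
    obtain ⟨x, hx⟩ := hP'elt y
    rw [hχα y x hx]
    exact (α _).2
  refine ⟨χ, ⟨hP'T, hχT, g * n * g⁻¹, hm, fun y => (hχ y).2⟩, fun x hφx hαx => ?_⟩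
  exact hχα ⟨_, hαx⟩ x rfl

variable [Finite G] {p : ℕ} [Fact p.Prime]

omit [Finite S] hN hreal [Finite G] [Fact p.Prime] in
theorem ι_mem_inf (Sy : Sylow p G) (hSy : (Sy : Subgroup G) = ι.range) {t : Ω}
    (ht : t ∈ preSub ι N) : ι ⟨t, preSub_le ι N ht⟩ ∈ (Sy : Subgroup G) ⊓ N := by
  refine ⟨?_, (mem_preSub.1 ht).2⟩
  rw [hSy]
  exact ⟨_, rfl⟩

omit [Finite S] hN hreal [Finite G] [Fact p.Prime] in
theorem exists_of_mem_inf (Sy : Sylow p G) (hSy : (Sy : Subgroup G) = ι.range) {y : G}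
    (hy : y ∈ (Sy : Subgroup G) ⊓ N) :
    ∃ (t : Ω) (ht : t ∈ preSub ι N), ι ⟨t, preSub_le ι N ht⟩ = y := by
  obtain ⟨h1, h2⟩ := hy
  rw [hSy] at h1
  obtain ⟨s, rfl⟩ := h1
  exact ⟨s, mem_preSub.2 ⟨s.2, h2⟩, rfl⟩

/-- The Frattini condition for `realizedSub`. -/
theorem realizedSub_frattini (Sy : Sylow p G) (hSy : (Sy : Subgroup G) = ι.range)
    (P : Subgroup Ω) (hPT : P ≤ preSub ι N) (φ : P →* Ω) (hφ : φ ∈ F.Hom P) :
    ∃ α ∈ F.autGroup (preSub ι N), ∃ φ₀ ∈ (realizedSub F hreal N).Hom P,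
      ∀ (x : P) (hx : φ₀ x ∈ preSub ι N), φ x = ((α ⟨φ₀ x, hx⟩ : preSub ι N) : Ω) := by
  have hTS := preSub_le ι N
  obtain ⟨g, hg⟩ := exists_elt_of_mem_hom hreal hφ
  have hsyl : IsSylowIn p ((Sy : Subgroup G) ⊓ N) N := sylow_inf_normal_isSylowIn Sy N
  obtain ⟨h, hh, n, hn, rfl⟩ := frattini_decomp inf_le_right hsyl g
  have hφT : ∀ x : P, φ x ∈ preSub ι N := fun x =>
    (preSub_stronglyClosed hreal N).2 P hPT φ hφ x
  have hh' : h⁻¹ ∈ Subgroup.normalizer (((Sy : Subgroup G) ⊓ N : Subgroup G) : Set G) :=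
    Subgroup.inv_mem _ hh
  -- `n ι(x) n⁻¹` lies in `T_G`
  have hnx : ∀ x : P, n * ι ⟨x, hom_le F hφ x.2⟩ * n⁻¹ ∈ (Sy : Subgroup G) ⊓ N := by
    intro x
    have h1 : ι ⟨φ x, hom_mem_S F hφ x⟩ ∈ (Sy : Subgroup G) ⊓ N := ι_mem_inf N Sy hSy (hφT x)
    have h2 := (Subgroup.mem_normalizer_iff.1 hh' _).1 h1
    have e : h⁻¹ * ι ⟨φ x, hom_mem_S F hφ x⟩ * h⁻¹⁻¹ = n * ι ⟨x, hom_le F hφ x.2⟩ * n⁻¹ := by
      rw [hg x]
      group
    rwa [e] at h2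
  have hmem : ∀ x : P, n * ι ⟨x, (hPT.trans hTS) x.2⟩ * n⁻¹ ∈ ι.range := by
    intro x
    have := (hnx x).1
    rw [hSy] at this
    exact this
  obtain ⟨φ₀, hφ₀⟩ := exists_conjMap hreal.1 n (hPT.trans hTS) hmem
  have hφ₀T : ∀ x : P, φ₀ x ∈ preSub ι N := by
    intro x
    obtain ⟨h1, h2⟩ := hφ₀ x
    rw [mem_preSub]
    refine ⟨h1, ?_⟩
    rw [h2]
    exact (hnx x).2
  have hφ₀E : φ₀ ∈ (realizedSub F hreal N).Hom P :=
    ⟨hPT, hφ₀T, n, hn, fun x => (hφ₀ x).2⟩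
  -- the automorphism induced by `h`
  have hhT : ∀ t : preSub ι N, ∃ (y : Ω) (hy : y ∈ preSub ι N),
      ι ⟨y, hTS hy⟩ = h * ι ⟨t, hTS t.2⟩ * h⁻¹ := by
    intro t
    have h1 : ι ⟨t, hTS t.2⟩ ∈ (Sy : Subgroup G) ⊓ N := ι_mem_inf N Sy hSy t.2
    have h2 := (Subgroup.mem_normalizer_iff.1 hh _).1 h1
    exact exists_of_mem_inf N Sy hSy h2
  obtain ⟨α, hα, hαh⟩ := exists_aut_of_elt hreal hTS hhT
  refine ⟨α, hα, φ₀, hφ₀E, fun x hx => ?_⟩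
  apply eq_of_ι_eq hreal (hom_mem_S F hφ x) (hTS (α ⟨φ₀ x, hx⟩).2)
  rw [hg x, hαh ⟨φ₀ x, hx⟩]
  have := (hφ₀ x).2
  rw [ι_congr (ι := ι) (hTS hx) (hφ₀ x).1 rfl, this]
  group

omit [Finite S] hN hreal [Finite G] [Fact p.Prime] in
/-- The image of `C_S(T)` is `C_{ι(S)}(ι(T) )`. -/
theorem ι_mem_centralizerIn (hinj : Function.Injective ι) (Sy : Sylow p G)
    (hSy : (Sy : Subgroup G) = ι.range) {c : Ω} (hc : c ∈ S) :
    c ∈ centralizerIn S (preSub ι N) ↔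
      ι ⟨c, hc⟩ ∈ centralizerIn (Sy : Subgroup G) ((Sy : Subgroup G) ⊓ N) := by
  constructor
  · rintro ⟨-, h2⟩
    refine ⟨by rw [hSy]; exact ⟨_, rfl⟩, ?_⟩
    show ι ⟨c, hc⟩ ∈ Subgroup.centralizer (((Sy : Subgroup G) ⊓ N : Subgroup G) : Set G)
    have h2 : c ∈ Subgroup.centralizer (preSub ι N : Set Ω) := h2
    rw [Subgroup.mem_centralizer_iff]
    intro y hy
    obtain ⟨t, ht, rfl⟩ := exists_of_mem_inf N Sy hSy hy
    have h3 := (Subgroup.mem_centralizer_iff.1 h2) t ht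
    rw [← map_mul, ← map_mul]
    exact ι_congr (ι := ι) _ _ h3
  · rintro ⟨-, h2⟩
    refine ⟨hc, ?_⟩
    show c ∈ Subgroup.centralizer (preSub ι N : Set Ω)
    have h2 : ι ⟨c, hc⟩ ∈ Subgroup.centralizer (((Sy : Subgroup G) ⊓ N : Subgroup G) : Set G) := h2
    rw [Subgroup.mem_centralizer_iff]
    intro t ht
    have h3 := (Subgroup.mem_centralizer_iff.1 h2) _ (ι_mem_inf N Sy hSy ht)
    rw [← map_mul, ← map_mul] at h3
    exact congrArg Subtype.val (hinj h3)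

/-- The extension condition for `realizedSub`. -/
theorem realizedSub_extension (Sy : Sylow p G) (hSy : (Sy : Subgroup G) = ι.range)
    (α : MulAut (preSub ι N)) (hα : α ∈ (realizedSub F hreal N).autGroup (preSub ι N)) :
    ∃ β ∈ F.autGroup (preSub ι N ⊔ centralizerIn S (preSub ι N)),
      (∀ x : preSub ι N, ((β (Subgroup.inclusion le_sup_left x) :
        ↥(preSub ι N ⊔ centralizerIn S (preSub ι N))) : Ω) = ((α x : preSub ι N) : Ω)) ∧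
      ∀ c : ↥(preSub ι N ⊔ centralizerIn S (preSub ι N)),
        (c : Ω) ∈ centralizerIn S (preSub ι N) →
        (c : Ω)⁻¹ * ((β c : ↥(preSub ι N ⊔ centralizerIn S (preSub ι N))) : Ω) ∈
          preSub ι N ⊓ Subgroup.centralizer (preSub ι N : Set Ω) := by
  classical
  have hTS := preSub_le ι N
  have hinj := hreal.1
  obtain ⟨_, _, n, hn, hnα⟩ := (mem_autGroup_iff (realizedSub F hreal N) le_rfl α).1 hα
  have hnα' : ∀ t : preSub ι N, ι ⟨((α t : preSub ι N) : Ω), hTS (α t).2⟩ =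
      n * ι ⟨t, hTS t.2⟩ * n⁻¹ := fun t => hnα t
  set TG : Subgroup G := (Sy : Subgroup G) ⊓ N with hTG
  have hnN : n ∈ Subgroup.normalizer (TG : Set G) := by
    apply mem_normalizer_of_conj_mem
    intro y hy
    obtain ⟨t, ht, rfl⟩ := exists_of_mem_inf N Sy hSy hy
    rw [← hnα' ⟨t, ht⟩]
    exact ι_mem_inf N Sy hSy (α ⟨t, ht⟩).2
  obtain ⟨g, hgN, hgC, hgT⟩ := exists_extension_elt Sy N hTG hn hnN
  set U : Subgroup Ω := preSub ι N ⊔ centralizerIn S (preSub ι N) with hU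
  have hUS : U ≤ S := sup_le hTS inf_le_left
  -- `g` maps the image of `U` into itself
  set W : Subgroup Ω := preSub ι (((U.subgroupOf S).map ι).comap (MulAut.conj g).toMonoidHom) with hW
  have hTW : preSub ι N ≤ W := by
    intro t ht
    rw [hW, mem_preSub]
    refine ⟨hTS ht, ?_⟩
    rw [Subgroup.mem_comap]
    show g * ι ⟨t, hTS ht⟩ * g⁻¹ ∈ (U.subgroupOf S).map ι
    rw [hgT _ (ι_mem_inf N Sy hSy ht), ← hnα' ⟨t, ht⟩]
    exact ⟨⟨_, hTS (α ⟨t, ht⟩).2⟩,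
      Subgroup.mem_subgroupOf.2 ((le_sup_left : preSub ι N ≤ U) (α ⟨t, ht⟩).2), rfl⟩
  have hCW : centralizerIn S (preSub ι N) ≤ W := by
    intro c hc
    rw [hW, mem_preSub]
    refine ⟨hc.1, ?_⟩
    rw [Subgroup.mem_comap]
    show g * ι ⟨c, hc.1⟩ * g⁻¹ ∈ (U.subgroupOf S).map ι
    have h1 := (ι_mem_centralizerIn N hinj Sy hSy hc.1).1 hc
    have h2 := (Subgroup.mem_normalizer_iff.1 hgC _).1 h1
    have h3 := h2.1
    rw [hSy] at h3
    obtain ⟨c', hc'⟩ := h3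
    rw [← hc'] at h2 ⊢
    have h4 := (ι_mem_centralizerIn N hinj Sy hSy c'.2).2 h2
    exact ⟨c', Subgroup.mem_subgroupOf.2
      ((le_sup_right : centralizerIn S (preSub ι N) ≤ U) h4), rfl⟩
  have hUW : U ≤ W := sup_le hTW hCW
  have hgU : ∀ u : U, ∃ (y : Ω) (hy : y ∈ U), ι ⟨y, hUS hy⟩ = g * ι ⟨u, hUS u.2⟩ * g⁻¹ := by
    intro u
    have h1 := hUW u.2
    rw [hW, mem_preSub] at h1
    obtain ⟨hu, h2⟩ := h1
    rw [Subgroup.mem_comap] at h2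
    obtain ⟨y, hyU, hy⟩ := h2
    exact ⟨y, Subgroup.mem_subgroupOf.1 hyU, hy⟩
  obtain ⟨β, hβ, hβg⟩ := exists_aut_of_elt hreal hUS hgU
  refine ⟨β, hβ, fun x => ?_, fun c hc => ?_⟩
  · apply eq_of_ι_eq hreal (hUS (β _).2) (hTS (α x).2)
    rw [hβg, hnα' x]
    exact hgT _ (ι_mem_inf N Sy hSy x.2)
  · have hβc : ((β c : U) : Ω) ∈ centralizerIn S (preSub ι N) := by
      rw [ι_mem_centralizerIn N hinj Sy hSy (hUS (β c).2), hβg]
      have h1 := (ι_mem_centralizerIn N hinj Sy hSy hc.1).1 hc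
      exact (Subgroup.mem_normalizer_iff.1 hgC _).1 h1
    refine Subgroup.mem_inf.2 ⟨?_, ?_⟩
    · rw [mem_preSub]
      refine ⟨S.mul_mem (S.inv_mem hc.1) (hUS (β c).2), ?_⟩
      have e : (⟨(c : Ω)⁻¹ * ((β c : U) : Ω), S.mul_mem (S.inv_mem hc.1) (hUS (β c).2)⟩ : S) =
          (⟨c, hc.1⟩ : S)⁻¹ * ⟨((β c : U) : Ω), hUS (β c).2⟩ := rfl
      rw [e, map_mul, map_inv, hβg]
      have h4 : (ι ⟨c, hc.1⟩)⁻¹ * g * ι ⟨c, hc.1⟩ ∈ N := by
        have := hN.conj_mem g hgN (ι ⟨c, hc.1⟩)⁻¹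
        simpa using this
      have e2 : (ι ⟨c, hc.1⟩)⁻¹ * (g * ι ⟨c, hUS c.2⟩ * g⁻¹) =
          (ι ⟨c, hc.1⟩)⁻¹ * g * ι ⟨c, hc.1⟩ * g⁻¹ := by group
      rw [e2]
      exact N.mul_mem h4 (N.inv_mem hgN)
    · exact Subgroup.mul_mem _ (Subgroup.inv_mem _ hc.2) hβc.2

/-- A normal subgroup of a group realizing `F` on a Sylow subgroup gives a normal subsystem. -/
theorem realizedSub_isNormalIn (hF : F.IsSaturated p) (Sy : Sylow p G)
    (hSy : (Sy : Subgroup G) = ι.range) : (realizedSub F hreal N).IsNormalIn F p := by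
  have hTS := preSub_le ι N
  refine ⟨⟨?_, hF, realizedSub_isSubsystemOf hreal N, preSub_stronglyClosed hreal N,
    fun P hPT φ hφ α hα => realizedSub_invariance hreal N P hPT φ hφ α hα,
    fun P hPT φ hφ => realizedSub_frattini hreal N Sy hSy P hPT φ hφ⟩,
    fun α hα => realizedSub_extension hreal N Sy hSy α hα⟩
  -- saturation of the subsystem: it is realized by `N`
  set ιN : preSub ι N →* N :=
    (ι.comp (Subgroup.inclusion hTS)).codRestrict N (fun t => (mem_preSub.1 t.2).2) with hιN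
  have hrealN : (realizedSub F hreal N).IsRealizedBy ιN := by
    refine ⟨?_, fun P hP φ hφ => ?_⟩
    · intro a b hab
      have h1 : ι (Subgroup.inclusion hTS a) = ι (Subgroup.inclusion hTS b) :=
        congrArg Subtype.val hab
      have h2 := hreal.1 h1
      exact Subgroup.inclusion_injective hTS h2
    · constructor
      · rintro ⟨_, _, n, hn, h⟩
        exact ⟨⟨n, hn⟩, fun x => Subtype.ext (h x)⟩
      · rintro ⟨g, h⟩
        exact ⟨hP, hφ, g.1, g.2, fun x => congrArg Subtype.val (h x)⟩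
  obtain ⟨R, hR⟩ := sylow_inf_normal_isSylowIn Sy N
  refine isSaturated_of_isRealizedBy hrealN R ?_
  rw [hR]
  ext ⟨y, hy⟩
  rw [Subgroup.mem_subgroupOf]
  constructor
  · intro h
    obtain ⟨t, ht, h2⟩ := exists_of_mem_inf N Sy hSy h
    exact ⟨⟨t, ht⟩, Subtype.ext h2⟩
  · rintro ⟨t, ht⟩
    have := ι_mem_inf N Sy hSy t.2
    have e : ι ⟨t, hTS t.2⟩ = y := congrArg Subtype.val ht
    rwa [e] at this

end Normal

end Cfsg.Agent.Lib.H25
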