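import Mathlib
import Cfsg.Agent.Lib.H9.S28Defs

/-!
# S2928 piece C7 COUNT (parametric core)

`card_eight_of` takes the C5 lemmas (`IsKlein_image`, the two 3-cycle lemmas) and the C6 design count
as hypotheses.
-/

set_option autoImplicit false
set_option linter.style.haveILetI false

namespace Cfsg.Agent.Lib.H25.S28

open Equiv Cfsg.Agent.Lib.H9.S28

variable {β : Type*} [Fintype β] [DecidableEq β] {G : Subgroup (Perm β)}

/-- two distinct Klein sets meet in 0 or 2 points -/
theorem c7_inter_card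
    (hI1 : ∀ S S' : Finset β, IsKlein G S → IsKlein G S' → (S ∩ S').card = 1 →
      ∃ c ∈ G, c.IsThreeCycle)
    (hI3 : ∀ S S' : Finset β, IsKlein G S → IsKlein G S' → (S ∩ S').card = 3 →
      ∃ c ∈ G, c.IsThreeCycle)
    (hno : ∀ c ∈ G, ¬ c.IsThreeCycle)
    {S S' : Finset β} (hS : IsKlein G S) (hS' : IsKlein G S') (hne : S ≠ S') :
    (S ∩ S').card = 0 ∨ (S ∩ S').card = 2 := by
  have hle : (S ∩ S').card ≤ 4 := by
    calc (S ∩ S').card ≤ S.card := Finset.card_le_card Finset.inter_subset_left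
      _ = 4 := hS.1
  have h4 : (S ∩ S').card ≠ 4 := by
    intro h
    apply hne
    have h1 : S ∩ S' = S := by
      apply Finset.eq_of_subset_of_card_le Finset.inter_subset_left
      rw [h, hS.1]
    have h2 : S ∩ S' = S' := by
      apply Finset.eq_of_subset_of_card_le Finset.inter_subset_right
      rw [h, hS'.1]
    rw [← h1, h2]
  have h1 : (S ∩ S').card ≠ 1 := by
    intro h
    obtain ⟨c, hc, h3⟩ := hI1 S S' hS hS' h
    exact hno c hc h3
  have h3 : (S ∩ S').card ≠ 3 := by
    intro h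
    obtain ⟨c, hc, h3⟩ := hI3 S S' hS hS' h
    exact hno c hc h3
  omega

/-- the number of Klein sets through `a` and `x` does not depend on `x ≠ a` -/
theorem c7_lam_le
    (hImg : ∀ (S : Finset β) (g : Perm β), IsKlein G S → g ∈ G → IsKlein G (S.image g))
    (h2 : ∀ a b c d : β, a ≠ b → c ≠ d → ∃ g ∈ G, g a = c ∧ g b = d)
    (a x x' : β) (hx : a ≠ x) (hx' : a ≠ x') :
    ((kleinSets G).filter (fun S => a ∈ S ∧ x ∈ S)).card ≤
      ((kleinSets G).filter (fun S => a ∈ S ∧ x' ∈ S)).card := by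
  obtain ⟨g, hg, hga, hgx⟩ := h2 a x a x' hx hx'
  apply Finset.card_le_card_of_injOn (fun S => S.image g)
  · intro S hS
    rw [Finset.mem_coe, Finset.mem_filter, mem_kleinSets] at hS
    rw [Finset.mem_coe, Finset.mem_filter, mem_kleinSets]
    refine ⟨hImg S g hS.1 hg, ?_, ?_⟩
    · rw [Finset.mem_image]; exact ⟨a, hS.2.1, hga⟩
    · rw [Finset.mem_image]; exact ⟨x, hS.2.2, hgx⟩
  · intro S _ S' _ h
    exact Finset.image_injective g.injective h

theorem c7_lam_eq
    (hImg : ∀ (S : Finset β) (g : Perm β), IsKlein G S → g ∈ G → IsKlein G (S.image g))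
    (h2 : ∀ a b c d : β, a ≠ b → c ≠ d → ∃ g ∈ G, g a = c ∧ g b = d)
    (a x x' : β) (hx : a ≠ x) (hx' : a ≠ x') :
    ((kleinSets G).filter (fun S => a ∈ S ∧ x ∈ S)).card =
      ((kleinSets G).filter (fun S => a ∈ S ∧ x' ∈ S)).card :=
  le_antisymm (c7_lam_le hImg h2 a x x' hx hx') (c7_lam_le hImg h2 a x' x hx' hx)

/-- there is a Klein set through every point -/
theorem c7_exists_through
    (hImg : ∀ (S : Finset β) (g : Perm β), IsKlein G S → g ∈ G → IsKlein G (S.image g))
    (h8 : 8 ≤ Fintype.card β) {S : Finset β} (hS : IsKlein G S)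
    (h2 : ∀ a b c d : β, a ≠ b → c ≠ d → ∃ g ∈ G, g a = c ∧ g b = d) (a : β) :
    ∃ S' : Finset β, IsKlein G S' ∧ a ∈ S' := by
  have h1 : 1 < S.card := by rw [hS.1]; norm_num
  obtain ⟨s0, hs0, s1, hs1, hne⟩ := Finset.one_lt_card.mp h1
  have h1' : 1 < (Finset.univ : Finset β).card := by rw [Finset.card_univ]; omega
  obtain ⟨a', ha'⟩ : ∃ a' : β, a ≠ a' := by
    by_contra hcon
    push Not at hcon
    have : (Finset.univ : Finset β) ⊆ {a} := by
      intro y _
      rw [Finset.mem_singleton]; exact (hcon y).symm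
    have := Finset.card_le_card this
    rw [Finset.card_singleton] at this
    omega
  obtain ⟨g, hg, hga, -⟩ := h2 s0 s1 a a' hne ha'
  refine ⟨S.image g, hImg S g hS hg, ?_⟩
  rw [Finset.mem_image]; exact ⟨s0, hs0, hga⟩

theorem card_eight_of
    (hImg : ∀ (S : Finset β) (g : Perm β), IsKlein G S → g ∈ G → IsKlein G (S.image g))
    (hI1 : ∀ S S' : Finset β, IsKlein G S → IsKlein G S' → (S ∩ S').card = 1 →
      ∃ c ∈ G, c.IsThreeCycle)
    (hI3 : ∀ S S' : Finset β, IsKlein G S → IsKlein G S' → (S ∩ S').card = 3 →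
      ∃ c ∈ G, c.IsThreeCycle)
    (hDesign : ∀ (X : Finset β) (T : Finset (Finset β)) (lam : ℕ), T.Nonempty →
      (∀ t ∈ T, t ⊆ X) → (∀ t ∈ T, t.card = 3) →
      (∀ t ∈ T, ∀ t' ∈ T, t ≠ t' → (t ∩ t').card = 1) →
      (∀ x ∈ X, (T.filter (fun t => x ∈ t)).card = lam) →
      (X.card = 3 ∧ lam = 1 ∧ T.card = 1) ∨ (X.card = 6 ∧ lam = 2 ∧ T.card = 4) ∨
        (X.card = 7 ∧ lam = 3 ∧ T.card = 7))
    (h8 : 8 ≤ Fintype.card β) {S : Finset β} (hS : IsKlein G S)
    (h2 : ∀ a b c d : β, a ≠ b → c ≠ d → ∃ g ∈ G, g a = c ∧ g b = d)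
    (hno : ∀ c ∈ G, ¬ c.IsThreeCycle) :
    Fintype.card β = 8 ∧ (∀ a : β, ((kleinSets G).filter (fun S => a ∈ S)).card = 7) ∧
      ∀ a b : β, a ≠ b → ((kleinSets G).filter (fun S => a ∈ S ∧ b ∈ S)).card = 3 := by
  classical
  -- the key statement for a fixed point `a`
  have key : ∀ a : β, Fintype.card β = 8 ∧ ((kleinSets G).filter (fun S => a ∈ S)).card = 7 ∧
      ∀ b : β, a ≠ b → ((kleinSets G).filter (fun S => a ∈ S ∧ b ∈ S)).card = 3 := by
    intro a
    set Ka := (kleinSets G).filter (fun S => a ∈ S) with hKa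
    set X : Finset β := Finset.univ.erase a with hX
    set e : Finset β → Finset β := fun S => S.erase a with he
    set T : Finset (Finset β) := Ka.image e with hT
    have hXcard : X.card = Fintype.card β - 1 := by
      rw [hX, Finset.card_erase_of_mem (Finset.mem_univ a), Finset.card_univ]
    have hKa_mem : ∀ S, S ∈ Ka ↔ IsKlein G S ∧ a ∈ S := by
      intro S; rw [hKa, Finset.mem_filter, mem_kleinSets]
    have hinj : Set.InjOn e (Ka : Set (Finset β)) := by
      intro S hS S' hS' h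
      have ha : a ∈ S := ((hKa_mem S).mp hS).2
      have ha' : a ∈ S' := ((hKa_mem S').mp hS').2
      have h' : S.erase a = S'.erase a := h
      rw [← Finset.insert_erase ha, ← Finset.insert_erase ha', h']
    -- a point x0 ≠ a
    obtain ⟨x0, hx0⟩ : ∃ x0 : β, a ≠ x0 := by
      by_contra hcon
      push Not at hcon
      have : (Finset.univ : Finset β) ⊆ {a} := by
        intro y _
        rw [Finset.mem_singleton]; exact (hcon y).symm
      have := Finset.card_le_card this
      rw [Finset.card_singleton, Finset.card_univ] at this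
      omega
    set lam := ((kleinSets G).filter (fun S => a ∈ S ∧ x0 ∈ S)).card with hlam
    have hTne : T.Nonempty := by
      obtain ⟨S', hS', haS'⟩ := c7_exists_through hImg h8 hS h2 a
      exact ⟨e S', Finset.mem_image_of_mem e ((hKa_mem S').mpr ⟨hS', haS'⟩)⟩
    have hsub : ∀ t ∈ T, t ⊆ X := by
      intro t ht
      obtain ⟨S', -, rfl⟩ := Finset.mem_image.mp ht
      intro y hy
      rw [he] at hy
      rw [hX, Finset.mem_erase]
      exact ⟨(Finset.mem_erase.mp hy).1, Finset.mem_univ y⟩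
    have h3 : ∀ t ∈ T, t.card = 3 := by
      intro t ht
      obtain ⟨S', hS', rfl⟩ := Finset.mem_image.mp ht
      have := (hKa_mem S').mp hS'
      rw [he]
      change (S'.erase a).card = 3
      rw [Finset.card_erase_of_mem this.2, this.1.1]
    have hint : ∀ t ∈ T, ∀ t' ∈ T, t ≠ t' → (t ∩ t').card = 1 := by
      intro t ht t' ht' hne
      obtain ⟨S1, hS1, rfl⟩ := Finset.mem_image.mp ht
      obtain ⟨S2, hS2, rfl⟩ := Finset.mem_image.mp ht'
      have h1 := (hKa_mem S1).mp hS1
      have h2' := (hKa_mem S2).mp hS2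
      have hne' : S1 ≠ S2 := fun h => hne (by rw [h])
      have hamem : a ∈ S1 ∩ S2 := Finset.mem_inter.mpr ⟨h1.2, h2'.2⟩
      have hcard := c7_inter_card hI1 hI3 hno h1.1 h2'.1 hne'
      have hpos : 0 < (S1 ∩ S2).card := Finset.card_pos.mpr ⟨a, hamem⟩
      have h2c : (S1 ∩ S2).card = 2 := by omega
      have : e S1 ∩ e S2 = (S1 ∩ S2).erase a := by
        rw [he]
        change S1.erase a ∩ S2.erase a = (S1 ∩ S2).erase a
        ext y
        simp only [Finset.mem_inter, Finset.mem_erase]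
        tauto
      rw [this, Finset.card_erase_of_mem hamem, h2c]
    have hlamx : ∀ x ∈ X, (T.filter (fun t => x ∈ t)).card = lam := by
      intro x hx
      have hxa : a ≠ x := by
        rw [hX, Finset.mem_erase] at hx
        exact fun h => hx.1 h.symm
      have h1 : T.filter (fun t => x ∈ t) = (Ka.filter (fun S => x ∈ S)).image e := by
        rw [hT, Finset.filter_image]
        congr 1
        ext S'
        simp only [Finset.mem_filter, he, Finset.mem_erase]
        constructor
        · rintro ⟨h1, -, h3⟩; exact ⟨h1, h3⟩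
        · rintro ⟨h1, h3⟩; exact ⟨h1, fun h => hxa h.symm, h3⟩
      rw [h1, Finset.card_image_of_injOn]
      · have h4 : Ka.filter (fun S => x ∈ S) =
            (kleinSets G).filter (fun S => a ∈ S ∧ x ∈ S) := by
          rw [hKa, Finset.filter_filter]
        rw [h4, hlam]
        exact c7_lam_eq hImg h2 a x x0 hxa hx0
      · intro S1 hS1 S2 hS2 h
        exact hinj (Finset.mem_of_mem_filter _ hS1) (Finset.mem_of_mem_filter _ hS2) h
    have hcases := hDesign X T lam hTne hsub h3 hint hlamx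
    have hX7 : 7 ≤ X.card := by rw [hXcard]; omega
    rcases hcases with ⟨h, -, -⟩ | ⟨h, -, -⟩ | ⟨hX7', hlam3, hT7⟩
    · omega
    · omega
    · refine ⟨by omega, ?_, ?_⟩
      · rw [← hT7, hT, Finset.card_image_of_injOn hinj]
      · intro b hb
        rw [c7_lam_eq hImg h2 a b x0 hb hx0, ← hlam, hlam3]
  obtain ⟨a0⟩ : Nonempty β := by
    rw [← Fintype.card_pos_iff]; omega
  exact ⟨(key a0).1, fun a => (key a).2.1, fun a b hab => (key a).2.2 b hab⟩

end Cfsg.Agent.Lib.H25.S28
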