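import Mathlib
import Cfsg.Agent.Lib.H9.S28Defs
import Cfsg.Agent.Lib.H2.S28C5
import Cfsg.Agent.Lib.H2.S28C6
import Cfsg.Agent.Lib.H25.S28C7core

/-!
# S2928 piece C7 COUNT : 8 points, 7 Klein sets through a point, 3 through a pair (exact signature)
-/

set_option autoImplicit false

namespace Cfsg.Agent.Lib.H25.S28

open Equiv Cfsg.Agent.Lib.H9.S28 Cfsg.Agent.Lib.H15.SymF

variable {β : Type*} [Fintype β] [DecidableEq β] {G L : Subgroup (Perm β)}

theorem card_eight_of_no_threeCycle (h8 : 8 ≤ Fintype.card β) {S : Finset β} (hS : IsKlein G S)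
    (h2 : ∀ a b c d : β, a ≠ b → c ≠ d → ∃ g ∈ G, g a = c ∧ g b = d)
    (hno : ∀ c ∈ G, ¬ c.IsThreeCycle) :
    Fintype.card β = 8 ∧ (∀ a : β, ((kleinSets G).filter (fun S => a ∈ S)).card = 7) ∧
      ∀ a b : β, a ≠ b → ((kleinSets G).filter (fun S => a ∈ S ∧ b ∈ S)).card = 3 :=
  card_eight_of
    (fun _ _ hS' hg => Cfsg.Agent.Lib.H2.S28.IsKlein_image hS' hg)
    (fun _ _ h1 h1' hi => Cfsg.Agent.Lib.H2.S28.threeCycle_of_inter_one h1 h1' hi)
    (fun _ _ h1 h1' hi => Cfsg.Agent.Lib.H2.S28.threeCycle_of_inter_three h1 h1' hi)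
    (fun X T lam hne hsub h3 hint hlam =>
      Cfsg.Agent.Lib.H2.S28.design_cases X T lam hne hsub h3 hint hlam)
    h8 hS h2 hno

end Cfsg.Agent.Lib.H25.S28
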