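import Mathlib

/-!
# S2928 piece O1-Q (parametric core): a subgroup of order `2^6` of `H` supported on an 8-set `s`

`exists_Q_of` takes the conclusion of O1-SYL (`conj_into`) for the given `H`, `s` as a hypothesis.
-/

set_option autoImplicit false
set_option linter.style.haveILetI false

namespace Cfsg.Agent.Lib.H25.S28

open Equiv

variable {α : Type*} [Fintype α] [DecidableEq α] {H : Subgroup (Perm α)}

omit [Fintype α] in
/-- `2^6` divides the order of the alternating group on 8 points -/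
theorem o1q_dvd_card_alt (s : Finset α) (hs8 : s.card = 8) :
    2 ^ 6 ∣ Nat.card ↥(alternatingGroup {x // x ∈ s}) := by
  haveI : Nontrivial {x // x ∈ s} := by
    rw [← Fintype.one_lt_card_iff_nontrivial, Fintype.card_coe, hs8]; norm_num
  have h := two_mul_card_alternatingGroup (α := {x // x ∈ s})
  rw [Fintype.card_perm, Fintype.card_coe, hs8] at h
  rw [Nat.card_eq_fintype_card]
  have h2 : Fintype.card ↥(alternatingGroup {x // x ∈ s}) = 20160 := by
    have : Nat.factorial 8 = 40320 := by decide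
    omega
  rw [h2]
  norm_num

theorem exists_Q_of (s : Finset α) (hs8 : s.card = 8)
    (hconj : ∀ V : Subgroup (Perm α), IsPGroup 2 ↥V → V ≤ alternatingGroup α →
      (∀ v ∈ V, ∀ x ∈ s, v x ∈ s) →
      ∃ k : Perm α, (∀ x, k x ∈ s ↔ x ∈ s) ∧ ∀ v ∈ V, k * v * k⁻¹ ∈ H) :
    ∃ Q : Subgroup (Perm α), Q ≤ H ∧ Nat.card ↥Q = 64 ∧ ∀ q ∈ Q, ∀ x, x ∉ s → q x = x := by
  classical
  haveI : Fact (Nat.Prime 2) := ⟨Nat.prime_two⟩
  obtain ⟨Q0, hQ0⟩ := Sylow.exists_subgroup_card_pow_prime 2 (o1q_dvd_card_alt s hs8)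
  -- the embedding `Alt s → Perm α`
  set f : ↥(alternatingGroup {x // x ∈ s}) →* Perm α :=
    (Perm.ofSubtype (p := fun x => x ∈ s)).comp (alternatingGroup {x // x ∈ s}).subtype with hf
  have hfinj : Function.Injective f := by
    rw [hf]
    exact Perm.ofSubtype_injective.comp (Subgroup.subtype_injective _)
  set V : Subgroup (Perm α) := Q0.map f with hV
  have hVcard : Nat.card ↥V = 2 ^ 6 := by
    rw [hV, Subgroup.card_map_of_injective hfinj, hQ0]
  have hV2 : IsPGroup 2 ↥V := IsPGroup.of_card hVcard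
  have hVA : V ≤ alternatingGroup α := by
    rintro _ ⟨q, -, rfl⟩
    rw [Perm.mem_alternatingGroup]
    change Perm.sign (Perm.ofSubtype (q : Perm {x // x ∈ s})) = 1
    rw [Perm.sign_ofSubtype]
    exact Perm.mem_alternatingGroup.mp q.2
  have hVs : ∀ v ∈ V, ∀ x ∈ s, v x ∈ s := by
    rintro _ ⟨q, -, rfl⟩ x hx
    change Perm.ofSubtype (q : Perm {x // x ∈ s}) x ∈ s
    rw [Perm.ofSubtype_apply_of_mem _ hx]
    exact ((q : Perm {x // x ∈ s}) ⟨x, hx⟩).2
  have hVfix : ∀ v ∈ V, ∀ x, x ∉ s → v x = x := by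
    rintro _ ⟨q, -, rfl⟩ x hx
    change Perm.ofSubtype (q : Perm {x // x ∈ s}) x = x
    exact Perm.ofSubtype_apply_of_not_mem _ hx
  obtain ⟨k, hks, hkH⟩ := hconj V hV2 hVA hVs
  refine ⟨V.map (MulAut.conj k).toMonoidHom, ?_, ?_, ?_⟩
  · rintro _ ⟨v, hv, rfl⟩
    simpa [MulAut.conj_apply] using hkH v hv
  · rw [Subgroup.card_map_of_injective (MulAut.conj k).injective, hVcard]
    norm_num
  · rintro _ ⟨v, hv, rfl⟩ x hx
    have hx' : k⁻¹ x ∉ s := by
      intro h
      apply hx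
      have := (hks (k⁻¹ x)).mpr h
      simpa using this
    have h1 : v (k⁻¹ x) = k⁻¹ x := hVfix v hv _ hx'
    change (k * v * k⁻¹) x = x
    rw [Perm.mul_apply, Perm.mul_apply, h1]
    simp

end Cfsg.Agent.Lib.H25.S28
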