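import Mathlib
import Cfsg.Agent.Lib.H9.S28Defs
import Cfsg.Agent.Lib.H18.S28O1SYL
import Cfsg.Agent.Lib.H25.S28O1Qcore

/-!
# S2928 piece O1-Q : a subgroup of order `2^6` of `H` supported on an 8-set `s` (exact signature)
-/

set_option autoImplicit false

namespace Cfsg.Agent.Lib.H25.S28

open Equiv Cfsg.Agent.Lib.H9.S28 Cfsg.Agent.Lib.H15.SymF

variable {α : Type*} [Fintype α] [DecidableEq α] {H : Subgroup (Perm α)}

/-- O1-Q -/
theorem exists_Q (s : Finset α) (hHs : ∀ h ∈ H, ∀ x ∈ s, h x ∈ s)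
    (P : Sylow 2 ↥(alternatingGroup α))
    (hPH : (P : Subgroup ↥(alternatingGroup α)).map (alternatingGroup α).subtype ≤ H)
    (hs8 : s.card = 8) :
    ∃ Q : Subgroup (Perm α), Q ≤ H ∧ Nat.card ↥Q = 64 ∧ ∀ q ∈ Q, ∀ x, x ∉ s → q x = x :=
  exists_Q_of s hs8 (fun V hV2 hVA hVs =>
    Cfsg.Agent.Lib.H18.S28.conj_into s hHs P hPH V hV2 hVA hVs)

end Cfsg.Agent.Lib.H25.S28
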