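import Cfsg.Agent.Lib.H9.S3571Defs

/-!
# S3571, group block, pieces (C1a1) and (C1a2)

* `c1a1 : C1a1Stmt` : an intransitive subgroup of `Sym(m)` leaves a nonempty set of size `≤ m/2`
  invariant (an orbit or its complement);
* `c1a2 : C1a2Stmt` : by maximality, `H` is the full stabiliser in `Γ` of such a set.
-/

set_option autoImplicit false

namespace Cfsg.Agent.Lib.H25.S3571C1a

open Equiv Cfsg.Agent.Lib.H9.S3571

variable {m : ℕ}

/-- if `Δ.image g ⊆ Δ` for a permutation `g` then `Δ.image g = Δ` -/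
theorem image_eq_of_subset (g : Perm (Fin m)) (Δ : Finset (Fin m)) (h : Δ.image g ⊆ Δ) :
    Δ.image g = Δ := by
  apply Finset.eq_of_subset_of_card_le h
  rw [Finset.card_image_of_injective _ g.injective]

/-- the complement of an invariant set is invariant -/
theorem image_compl_eq (g : Perm (Fin m)) (Δ : Finset (Fin m)) (h : Δ.image g = Δ) :
    (Δᶜ).image g = Δᶜ := by
  apply image_eq_of_subset
  intro a ha
  rw [Finset.mem_image] at ha
  obtain ⟨a', ha', rfl⟩ := ha
  rw [Finset.mem_compl] at ha' ⊢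
  intro hga
  rw [← h, Finset.mem_image] at hga
  obtain ⟨a'', ha'', hgg⟩ := hga
  have : a'' = a' := g.injective hgg
  exact ha' (this ▸ ha'')

theorem c1a1 : C1a1Stmt := by
  classical
  intro m H hnt
  rw [MulAction.isPretransitive_iff] at hnt
  push Not at hnt
  obtain ⟨x, y, hxy⟩ := hnt
  -- the orbit of `x`
  set Δ₀ : Finset (Fin m) := Finset.univ.filter (fun a => ∃ h ∈ H, h x = a) with hΔ₀
  have hmem : ∀ a, a ∈ Δ₀ ↔ ∃ h ∈ H, h x = a := by
    intro a; rw [hΔ₀, Finset.mem_filter]; simp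
  have hx : x ∈ Δ₀ := (hmem x).2 ⟨1, H.one_mem, rfl⟩
  have hy : y ∉ Δ₀ := by
    intro hy
    obtain ⟨h, hh, hhx⟩ := (hmem y).1 hy
    exact hxy ⟨h, hh⟩ hhx
  have hinv : ∀ h ∈ H, Δ₀.image h = Δ₀ := by
    intro h hh
    apply image_eq_of_subset
    intro a ha
    rw [Finset.mem_image] at ha
    obtain ⟨a', ha', rfl⟩ := ha
    obtain ⟨h', hh', rfl⟩ := (hmem a').1 ha'
    exact (hmem _).2 ⟨h * h', H.mul_mem hh hh', rfl⟩
  have hinv' : ∀ h ∈ H, (Δ₀ᶜ).image h = Δ₀ᶜ := fun h hh => image_compl_eq h Δ₀ (hinv h hh)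
  have hc1 : 1 ≤ Δ₀.card := Finset.card_pos.2 ⟨x, hx⟩
  have hc2 : 1 ≤ (Δ₀ᶜ).card := Finset.card_pos.2 ⟨y, Finset.mem_compl.2 hy⟩
  have hsum : Δ₀.card + (Δ₀ᶜ).card = m := by
    rw [Finset.card_add_card_compl, Fintype.card_fin]
  by_cases h2 : 2 * Δ₀.card ≤ m
  · exact ⟨Δ₀, hc1, h2, hinv⟩
  · exact ⟨Δ₀ᶜ, hc2, by omega, hinv'⟩

/-- the setwise stabiliser of `Δ` in `Sym(m)` -/
def setStab (Δ : Finset (Fin m)) : Subgroup (Perm (Fin m)) where
  carrier := {g | Δ.image g = Δ}
  one_mem' := by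
    show Δ.image (⇑(1 : Perm (Fin m))) = Δ
    rw [Perm.coe_one, Finset.image_id]
  mul_mem' := by
    intro g h hg hh
    show Δ.image (⇑(g * h)) = Δ
    have hg' : Δ.image g = Δ := hg
    have hh' : Δ.image h = Δ := hh
    rw [Perm.coe_mul, ← Finset.image_image, hh', hg']
  inv_mem' := by
    intro g hg
    show Δ.image (⇑(g⁻¹)) = Δ
    have hg' : Δ.image g = Δ := hg
    nth_rewrite 1 [← hg']
    rw [Finset.image_image]
    have : (⇑g⁻¹ ∘ ⇑g) = id := by
      funext a; simp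
    rw [this, Finset.image_id]

theorem mem_setStab {Δ : Finset (Fin m)} {g : Perm (Fin m)} : g ∈ setStab Δ ↔ Δ.image g = Δ :=
  Iff.rfl

theorem c1a2 : C1a2Stmt := by
  classical
  intro m Γ H n r hP Δ hΔ1 hΔm hH g hgΓ hg
  set L : Subgroup (Perm (Fin m)) := Γ ⊓ setStab Δ with hL
  have hHL : H ≤ L := by
    intro h hh
    exact ⟨hP.hHΓ hh, hH h hh⟩
  have hLΓ : L ≤ Γ := inf_le_left
  have hgL : g ∈ L := ⟨hgΓ, hg⟩
  rcases hP.hmax L hHL hLΓ with h | h
  · rw [← h]; exact hgL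
  · exfalso
    -- a 3-cycle of `A_m ≤ Γ = L` moves `Δ`
    obtain ⟨a, ha⟩ := Finset.card_pos.1 hΔ1
    have hex : ∃ c, c ∉ Δ := by
      by_contra hcon
      push Not at hcon
      have : Δ = Finset.univ := Finset.eq_univ_iff_forall.2 hcon
      rw [this, Finset.card_univ, Fintype.card_fin] at hΔm
      exact lt_irrefl _ hΔm
    obtain ⟨c, hc⟩ := hex
    have hac : a ≠ c := fun h => hc (h ▸ ha)
    have hex2 : ∃ d : Fin m, d ≠ a ∧ d ≠ c := by
      by_contra hcon
      push Not at hcon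
      have hsub : (Finset.univ : Finset (Fin m)) ⊆ {a, c} := by
        intro d _
        by_cases hda : d = a
        · simp [hda]
        · simp [hcon d hda]
      have h1 := Finset.card_le_card hsub
      rw [Finset.card_univ, Fintype.card_fin] at h1
      have h2 : ({a, c} : Finset (Fin m)).card ≤ 2 := Finset.card_le_two
      have := hP.hm
      omega
    obtain ⟨d, hda, hdc⟩ := hex2
    set σ : Perm (Fin m) := swap c a * swap c d with hσ
    have h3 : σ.IsThreeCycle :=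
      Equiv.Perm.isThreeCycle_swap_mul_swap_same hac.symm hdc.symm hda.symm
    have hσA : σ ∈ alternatingGroup (Fin m) := h3.mem_alternatingGroup
    have hσL : σ ∈ L := by rw [h]; exact hP.hA hσA
    have hσΔ : Δ.image σ = Δ := hσL.2
    have hσa : σ a = c := by
      rw [hσ, Perm.mul_apply, swap_apply_of_ne_of_ne hac hda.symm, swap_apply_right]
    have : c ∈ Δ := by
      rw [← hσΔ, Finset.mem_image]
      exact ⟨a, ha, hσa⟩
    exact hc this

end Cfsg.Agent.Lib.H25.S3571C1a
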