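import Mathlib
import Cfsg.Agent.Lib.H9.S3776Defs

/-!
# S3776, piece (S1Q): the induction hypothesis for `G ⧸ V`, pulled back to `G` (helper25)

`V` is central, hence normal; `E` acts on `G ⧸ V` through `QuotientGroup.congr`; the hypotheses of `(*)`
hold for `G ⧸ V` (its involutions are the cosets `zV`, `z` central with `z² ∈ V ∖ 1`), and its order is
smaller.  A commutative quotient gives the first alternative; a special one gives commutators which are
central of square `1`, and then squares are central by the class-2 identity.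
-/

set_option autoImplicit false

namespace Cfsg.Agent.Lib.H25.S3776S1Q

open Cfsg.Agent.Lib.H9.S3776

universe u

theorem s1q : S1QStmt.{u} := by
  intro G E _ _ _ _ φ V hyp ih fr h1 h2
  have hVn : V.Normal := ⟨fun v hv g => by
    rw [fr.cen v hv g, mul_assoc, mul_inv_cancel, mul_one]; exact hv⟩
  -- the action on the quotient
  have hmap : ∀ e : E, V.map ((φ e : G ≃* G) : G →* G) = V := by
    intro e
    apply le_antisymm
    · rintro _ ⟨x, hx, rfl⟩
      exact fr.inv e x hx
    · intro v hv
      refine ⟨φ e⁻¹ v, fr.inv e⁻¹ v hv, ?_⟩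
      show φ e (φ e⁻¹ v) = v
      rw [← MulAut.mul_apply, ← map_mul, mul_inv_cancel, map_one]; rfl
  let ψ : E →* MulAut (G ⧸ V) :=
    { toFun := fun e => QuotientGroup.congr V V (φ e) (hmap e)
      map_one' := by
        ext q
        induction q using QuotientGroup.induction_on with
        | H x =>
          show QuotientGroup.congr V V (φ 1) (hmap 1) (QuotientGroup.mk x) = QuotientGroup.mk x
          rw [QuotientGroup.congr_mk, map_one]; rfl
      map_mul' := fun e f => by
        ext q
        induction q using QuotientGroup.induction_on with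
        | H x =>
          show QuotientGroup.congr V V (φ (e * f)) (hmap (e * f)) (QuotientGroup.mk x) =
            QuotientGroup.congr V V (φ e) (hmap e)
              (QuotientGroup.congr V V (φ f) (hmap f) (QuotientGroup.mk x))
          rw [QuotientGroup.congr_mk, QuotientGroup.congr_mk, QuotientGroup.congr_mk, map_mul]; rfl }
  have hψ : ∀ (e : E) (x : G), ψ e (QuotientGroup.mk x) = QuotientGroup.mk (φ e x) := by
    intro e x
    show QuotientGroup.congr V V (φ e) (hmap e) (QuotientGroup.mk x) = _
    rw [QuotientGroup.congr_mk]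
  -- membership in V through the quotient
  have hmk : ∀ x : G, (QuotientGroup.mk x : G ⧸ V) = 1 ↔ x ∈ V := fun x => QuotientGroup.eq_one_iff x
  -- central elements with square in V
  have hcen : ∀ x : G, x ^ 2 ∈ V → ∀ g : G, g * x = x * g := by
    intro x hx g
    exact (Subgroup.mem_center_iff.mp (h2 x hx) g)
  -- the hypotheses for the quotient
  have hypQ : Hyp (G ⧸ V) E ψ := by
    refine ⟨hyp.pG.to_quotient V, hyp.solv, hyp.odd, ?_, ?_⟩
    · obtain ⟨x, y, hxV, hyV, hxy, hx1, hy1⟩ := fr.two
      obtain ⟨zx, hzxc, hzx⟩ := h1 x hxV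
      obtain ⟨zy, hzyc, hzy⟩ := h1 y hyV
      have hzxV : zx ∉ V := fun h => hx1 (by rw [← hzx]; exact (fr.mem zx).mp h)
      have hzyV : zy ∉ V := fun h => hy1 (by rw [← hzy]; exact (fr.mem zy).mp h)
      refine ⟨QuotientGroup.mk zx, QuotientGroup.mk zy, ?_, ?_, ?_, ?_, ?_⟩
      · intro h
        rw [QuotientGroup.eq] at h
        -- zx⁻¹ * zy ∈ V, so its square is 1, so zx² = zy²
        have h3 : (zx⁻¹ * zy) ^ 2 = 1 := (fr.mem _).mp h
        have hc : Commute zx⁻¹ zy := (Subgroup.mem_center_iff.mp hzyc zx⁻¹)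
        rw [hc.mul_pow, inv_pow, hzx, hzy] at h3
        exact hxy (by rw [← mul_one x, ← h3, mul_inv_cancel_left])
      · intro h; exact hzxV ((hmk zx).mp h)
      · rw [← QuotientGroup.mk_pow, hmk, hzx]; exact hxV
      · intro h; exact hzyV ((hmk zy).mp h)
      · rw [← QuotientGroup.mk_pow, hmk, hzy]; exact hyV
    · intro a b
      induction a using QuotientGroup.induction_on with
      | H x =>
      induction b using QuotientGroup.induction_on with
      | H y =>
        intro hx1 hx2 hy1 hy2
        rw [← QuotientGroup.mk_pow, hmk] at hx2 hy2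
        have hxV : x ∉ V := fun h => hx1 ((hmk x).mpr h)
        have hyV : y ∉ V := fun h => hy1 ((hmk y).mpr h)
        have hv1 : x ^ 2 ≠ 1 := fun h => hxV ((fr.mem x).mpr h)
        have hw1 : y ^ 2 ≠ 1 := fun h => hyV ((fr.mem y).mpr h)
        obtain ⟨e, he⟩ := fr.trans (x ^ 2) (y ^ 2) hx2 hy2 hv1 hw1
        refine ⟨e, ?_⟩
        rw [hψ, QuotientGroup.eq]
        -- (φ e x)⁻¹ * y has square 1
        rw [fr.mem]
        have hsq : (φ e x) ^ 2 = y ^ 2 := by rw [← map_pow]; exact he
        have hc : Commute (φ e x)⁻¹ y := (hcen y hy2 (φ e x)⁻¹)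
        rw [hc.mul_pow, inv_pow, hsq, inv_mul_cancel]
  have hcard : Nat.card (G ⧸ V) < Nat.card G := by
    have h3 := Subgroup.card_eq_card_quotient_mul_card_subgroup V
    have hV2 : 1 < Nat.card V := by
      obtain ⟨x, y, hxV, hyV, hxy, hx1, hy1⟩ := fr.two
      rw [Finite.one_lt_card_iff_nontrivial]
      exact ⟨⟨⟨x, hxV⟩, 1, fun h => hx1 (congrArg Subtype.val h)⟩⟩
    have hpos : 0 < Nat.card (G ⧸ V) := Nat.card_pos
    rw [h3]
    nlinarith
  rcases ih (G ⧸ V) E ψ hcard hypQ with hab | ⟨hcf, hfz, hz⟩
  · left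
    intro x y
    rw [← hmk]
    simp only [QuotientGroup.mk_mul, QuotientGroup.mk_inv]
    rw [hab (QuotientGroup.mk x) (QuotientGroup.mk y)]
    group
  · right
    -- commutators of the quotient are central of square 1
    have hcz : commutator (G ⧸ V) = Subgroup.center (G ⧸ V) := hcf.trans hfz
    have hcomm : ∀ a b : G ⧸ V, a * b * a⁻¹ * b⁻¹ ∈ Subgroup.center (G ⧸ V) := by
      intro a b
      rw [← hcz]
      have := Subgroup.commutator_mem_commutator (Subgroup.mem_top a) (Subgroup.mem_top b)
      rw [commutatorElement_def] at this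
      exact this
    have hcsq : ∀ a b : G ⧸ V, (a * b * a⁻¹ * b⁻¹) ^ 2 = 1 := fun a b => (hz _).mp (hcomm a b)
    have hsqc : ∀ a : G ⧸ V, a ^ 2 ∈ Subgroup.center (G ⧸ V) := by
      intro a
      rw [Subgroup.mem_center_iff]
      intro b
      -- c := [a,b] central with c² = 1; a b = c b a
      have key : ∀ c : G ⧸ V, (∀ g, g * c = c * g) → c * c = 1 → a * b = c * (b * a) →
          b * a ^ 2 = a ^ 2 * b := by
        intro c hc hcc e1
        symm
        calc a ^ 2 * b = a * (a * b) := by rw [pow_two, mul_assoc]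
          _ = a * (c * (b * a)) := by rw [e1]
          _ = (a * c) * (b * a) := by rw [mul_assoc]
          _ = (c * a) * (b * a) := by rw [hc a]
          _ = c * ((a * b) * a) := by simp only [mul_assoc]
          _ = c * ((c * (b * a)) * a) := by rw [e1]
          _ = (c * c) * (b * (a * a)) := by simp only [mul_assoc]
          _ = b * a ^ 2 := by rw [hcc, one_mul, pow_two]
      refine key (a * b * a⁻¹ * b⁻¹) (Subgroup.mem_center_iff.mp (hcomm a b)) ?_ ?_
      · rw [← pow_two]; exact hcsq a b
      · group
    constructor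
    · intro x
      rw [← hmk, QuotientGroup.mk_pow, QuotientGroup.mk_pow]
      exact (hz _).mp (hsqc _)
    · intro x y
      rw [← hmk, QuotientGroup.mk_pow]
      simp only [QuotientGroup.mk_mul, QuotientGroup.mk_inv]
      exact hcsq _ _

example : S1QStmt.{0} := s1q
example : S1QStmt.{3} := s1q

end Cfsg.Agent.Lib.H25.S3776S1Q
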