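import Cfsg.Agent.Lib.H25.S3777P2Defs

/-!
# S3777, `P2` step, piece (ALG) (helper25)
-/

set_option autoImplicit false

namespace Cfsg.Agent.Lib.H25.S3777P2Alg

open Cfsg.Agent.Lib.H5.S3777 Cfsg.Agent.Lib.H25.S3777P2

universe u

theorem alg : AlgStmt.{u} := by
  intro G _ K0 K1 M0 M hM0n hsup hM0K0 hM0K1 h0 h1 m hMm
  have := hM0n
  set N : Subgroup G := ⁅M0, M0⁆ with hN
  have hNn : N.Normal := by rw [hN]; infer_instance
  let π : G →* G ⧸ N := QuotientGroup.mk' N
  have hker : ∀ x : G, π x = 1 ↔ x ∈ N := fun x => QuotientGroup.eq_one_iff x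
  -- the image of `M0` is central
  have hcen : ∀ a ∈ M0, ∀ g : G, π a * π g = π g * π a := by
    let C : Subgroup G :=
      (Subgroup.centralizer ((M0.map π : Subgroup (G ⧸ N)) : Set (G ⧸ N))).comap π
    have hK : ∀ K : Subgroup G, M0 ≤ K → ⁅K, K⁆ ≤ N → K ≤ C := by
      intro K hMK hKN g hg
      rw [Subgroup.mem_comap, Subgroup.mem_centralizer_iff]
      rintro _ ⟨a, ha, rfl⟩
      have h2 : a * g * a⁻¹ * g⁻¹ ∈ N := by
        have := hKN (Subgroup.commutator_mem_commutator (hMK ha) hg)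
        rwa [commutatorElement_def] at this
      have h3 : π (a * g * a⁻¹ * g⁻¹) = 1 := (hker _).mpr h2
      simp only [map_mul, map_inv] at h3
      exact mul_inv_eq_iff_eq_mul.mp (mul_inv_eq_one.mp h3)
    have hC : C = ⊤ := by
      rw [eq_top_iff, ← hsup]
      exact sup_le (hK K0 hM0K0 h0) (hK K1 hM0K1 h1)
    intro a ha g
    have hg : g ∈ C := hC ▸ Subgroup.mem_top g
    rw [Subgroup.mem_comap, Subgroup.mem_centralizer_iff] at hg
    exact hg (π a) ⟨a, ha, rfl⟩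
  rw [Subgroup.commutator_le]
  intro x hx x' hx'
  rw [hMm] at hx hx'
  have hx2 : x ∈ ((M0 ⊔ Subgroup.zpowers m : Subgroup G) : Set G) := hx
  have hx2' : x' ∈ ((M0 ⊔ Subgroup.zpowers m : Subgroup G) : Set G) := hx'
  rw [Subgroup.normal_mul] at hx2 hx2'
  obtain ⟨a, ha, b, hb, rfl⟩ := Set.mem_mul.mp hx2
  obtain ⟨a', ha', b', hb', rfl⟩ := Set.mem_mul.mp hx2'
  obtain ⟨i, rfl⟩ := Subgroup.mem_zpowers_iff.mp hb
  obtain ⟨j, rfl⟩ := Subgroup.mem_zpowers_iff.mp hb'
  rw [← hker, map_commutatorElement, commutatorElement_eq_one_iff_mul_comm]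
  simp only [map_mul, map_zpow]
  have e1 : ∀ g : G, π a * π g = π g * π a := hcen a ha
  have e2 : ∀ g : G, π a' * π g = π g * π a' := hcen a' ha'
  have c1 : ∀ z : G ⧸ N, π a * z = z * π a := by
    intro z
    obtain ⟨g, rfl⟩ := QuotientGroup.mk'_surjective N z
    exact e1 g
  have c2 : ∀ z : G ⧸ N, π a' * z = z * π a' := by
    intro z
    obtain ⟨g, rfl⟩ := QuotientGroup.mk'_surjective N z
    exact e2 g
  have c3 : (π m) ^ i * (π m) ^ j = (π m) ^ j * (π m) ^ i := zpow_mul_comm (π m) i j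
  calc π a * π m ^ i * (π a' * π m ^ j)
      = π a * (π m ^ i * π a') * π m ^ j := by simp only [mul_assoc]
    _ = π a * (π a' * π m ^ i) * π m ^ j := by rw [← c2]
    _ = π a * π a' * (π m ^ i * π m ^ j) := by simp only [mul_assoc]
    _ = π a * π a' * (π m ^ j * π m ^ i) := by rw [c3]
    _ = (π a * π a') * π m ^ j * π m ^ i := by simp only [mul_assoc]
    _ = (π a' * π a) * π m ^ j * π m ^ i := by rw [c1 (π a')]
    _ = π a' * (π a * π m ^ j) * π m ^ i := by simp only [mul_assoc]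
    _ = π a' * (π m ^ j * π a) * π m ^ i := by rw [c1]
    _ = π a' * π m ^ j * (π a * π m ^ i) := by simp only [mul_assoc]

end Cfsg.Agent.Lib.H25.S3777P2Alg
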