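import Cfsg.Agent.Lib.H25.S3777P2Defs

/-!
# S3777, `P2` step, piece (GEO) (helper25)
-/

set_option autoImplicit false

namespace Cfsg.Agent.Lib.H25.S3777P2Geo

open Cfsg.Agent.Lib.H5.S3777 Cfsg.Agent.Lib.H25.S3777P2

universe u

variable {G : Type u} [Group G]

theorem normal_of_index_p [Finite G] {p : ℕ} [Fact p.Prime] (hG : IsPGroup p G)
    (K : Subgroup G) (hK : K.index = p) : K.Normal := by
  have hp : p.Prime := Fact.out
  obtain ⟨n, hn⟩ := IsPGroup.iff_card.mp hG
  have hn0 : n ≠ 0 := by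
    rintro rfl
    have h1 : K.index ∣ Nat.card G := Subgroup.index_dvd_card K
    rw [hK, hn, pow_zero] at h1
    exact hp.one_lt.ne' (Nat.dvd_one.mp h1)
  apply Subgroup.normal_of_index_eq_minFac_card
  rw [hK, hn, hp.pow_minFac hn0]

theorem max_of_prime_index {p : ℕ} (hp : p.Prime) (K L : Subgroup G) (hK : K.index = p)
    (hKL : K ≤ L) : L = K ∨ L = ⊤ := by
  have h := Subgroup.relIndex_mul_index hKL
  rw [hK] at h
  rcases (Nat.dvd_prime hp).mp ⟨_, h.symm⟩ with h1 | h1
  · left; exact le_antisymm (Subgroup.relIndex_eq_one.mp h1) hKL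
  · right
    rw [h1] at h
    have h2 : L.index = 1 := Nat.eq_of_mul_eq_mul_left hp.pos (h.trans (mul_one p).symm)
    exact Subgroup.index_eq_one.mp h2

theorem exists_index_p_of_mem [Finite G] {p : ℕ} [Fact p.Prime] (hG : IsPGroup p G) (y : G)
    (hy : Subgroup.zpowers y ≠ ⊤) : ∃ K : Subgroup G, K.index = p ∧ y ∈ K := by
  have hp : p.Prime := Fact.out
  obtain ⟨k, hk⟩ := IsPGroup.iff_card.mp hG
  obtain ⟨a, ha⟩ := IsPGroup.iff_card.mp (hG.to_subgroup (Subgroup.zpowers y))
  have hak : a < k := by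
    by_contra hcon
    have hcon := not_lt.mp hcon
    apply hy
    apply Subgroup.eq_top_of_le_card
    rw [ha, hk]; exact Nat.pow_le_pow_right hp.pos hcon
  have hk1 : k - 1 + 1 = k := by omega
  have hdvd : p ^ (k - 1) ∣ Nat.card G := by rw [hk]; exact pow_dvd_pow p (Nat.sub_le k 1)
  obtain ⟨K, hKc, hKy⟩ :=
    Sylow.exists_subgroup_card_pow_prime_le p hdvd (Subgroup.zpowers y) ha (by omega)
  refine ⟨K, ?_, hKy (Subgroup.mem_zpowers y)⟩
  have h := Subgroup.card_mul_index K
  rw [hKc, hk] at h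
  have h2 : p ^ (k - 1) * K.index = p ^ (k - 1) * p := by rw [h, ← pow_succ, hk1]
  exact Nat.eq_of_mul_eq_mul_left (pow_pos hp.pos _) h2


theorem geo : GeoStmt.{u} := by
  intro p _ G _ _ hG M hMi hab
  have hp : p.Prime := Fact.out
  have hMn : M.Normal := normal_of_index_p hG M hMi
  have hMtop : M ≠ ⊤ := by
    intro h
    rw [h, Subgroup.index_top] at hMi
    exact hp.one_lt.ne hMi
  obtain ⟨y, hyM⟩ : ∃ y : G, y ∉ M := by
    by_contra hcon
    apply hMtop
    rw [eq_top_iff]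
    intro x _
    by_contra hx
    exact hcon ⟨x, hx⟩
  have hytop : Subgroup.zpowers y ≠ ⊤ := by
    intro h
    apply hab
    rw [eq_bot_iff, commutator_def, Subgroup.commutator_le]
    intro a _ b _
    have ha : a ∈ Subgroup.zpowers y := h ▸ Subgroup.mem_top a
    have hb : b ∈ Subgroup.zpowers y := h ▸ Subgroup.mem_top b
    obtain ⟨i, rfl⟩ := Subgroup.mem_zpowers_iff.mp ha
    obtain ⟨j, rfl⟩ := Subgroup.mem_zpowers_iff.mp hb
    rw [Subgroup.mem_bot, commutatorElement_eq_one_iff_mul_comm]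
    exact zpow_mul_comm y i j
  obtain ⟨K0, hK0i, hyK0⟩ := exists_index_p_of_mem hG y hytop
  have hK0n : K0.Normal := normal_of_index_p hG K0 hK0i
  have hK0M : K0 ≠ M := fun h => hyM (h ▸ hyK0)
  have hK0top : K0 ≠ ⊤ := by
    intro h
    rw [h, Subgroup.index_top] at hK0i
    exact hp.one_lt.ne hK0i
  -- m ∈ M \ K0
  obtain ⟨m, hmM, hmK0⟩ : ∃ m : G, m ∈ M ∧ m ∉ K0 := by
    by_contra hcon
    have hle : M ≤ K0 := by
      intro x hx
      by_contra hx'
      exact hcon ⟨x, hx, hx'⟩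
    rcases max_of_prime_index hp M K0 hMi hle with h | h
    · exact hK0M h
    · exact hK0top h
  set M0 : Subgroup G := K0 ⊓ M with hM0
  have hM0n : M0.Normal := by
    rw [hM0]; infer_instance
  have hM0M : M0 ≤ M := inf_le_right
  have hM0K0 : M0 ≤ K0 := inf_le_left
  -- relIndex of M0 in M is p
  have hrel : M0.relIndex M = p := by
    rw [hM0, Subgroup.inf_relIndex_right]
    have hdvd : K0.relIndex M ∣ K0.index := Subgroup.relIndex_dvd_index_of_normal K0 M
    rw [hK0i] at hdvd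
    rcases (Nat.dvd_prime hp).mp hdvd with h1 | h1
    · exfalso
      exact hmK0 (Subgroup.relIndex_eq_one.mp h1 hmM)
    · exact h1
  have hstep : ∀ L : Subgroup G, M0 ≤ L → L ≤ M → L = M0 ∨ L = M := by
    intro L h1 h2
    have h := Subgroup.relIndex_mul_relIndex M0 L M h1 h2
    rw [hrel] at h
    rcases (Nat.dvd_prime hp).mp ⟨_, h.symm⟩ with h3 | h3
    · left; exact le_antisymm (Subgroup.relIndex_eq_one.mp h3) h1
    · right
      rw [h3] at h
      have h4 : L.relIndex M = 1 := Nat.eq_of_mul_eq_mul_left hp.pos (h.trans (mul_one p).symm)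
      exact le_antisymm h2 (Subgroup.relIndex_eq_one.mp h4)
  -- M = M0 ⊔ zpowers m
  have hMm : M = M0 ⊔ Subgroup.zpowers m := by
    have hle : M0 ⊔ Subgroup.zpowers m ≤ M :=
      sup_le hM0M (by rw [Subgroup.zpowers_le]; exact hmM)
    rcases hstep _ le_sup_left hle with h | h
    · exfalso
      have : m ∈ M0 := h ▸ (le_sup_right : Subgroup.zpowers m ≤ _) (Subgroup.mem_zpowers m)
      exact hmK0 (hM0K0 this)
    · exact h.symm
  -- the third subgroup
  let π : G →* G ⧸ M0 := QuotientGroup.mk' M0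
  let q : G ⧸ M0 := π (y * m)
  have hqne : q ≠ 1 := by
    intro h
    have : y * m ∈ M0 := (QuotientGroup.eq_one_iff _).mp h
    exact hyM ((Subgroup.mul_mem_cancel_right M hmM).mp (hM0M this))
  have hypow : y ^ p ∈ M0 := by
    refine ⟨K0.pow_mem hyK0 p, ?_⟩
    have := M.pow_index_mem y
    rwa [hMi] at this
  have hmpow : m ^ p ∈ M0 := by
    refine ⟨?_, M.pow_mem hmM p⟩
    have := K0.pow_index_mem m
    rwa [hK0i] at this
  have hcomm : Commute (π y) (π m) := by
    have h1 : y * m * y⁻¹ * m⁻¹ ∈ M0 := by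
      refine ⟨?_, ?_⟩
      · have : m * y⁻¹ * m⁻¹ ∈ K0 := hK0n.conj_mem _ (K0.inv_mem hyK0) m
        have h2 := K0.mul_mem hyK0 this
        simpa [mul_assoc] using h2
      · have : y * m * y⁻¹ ∈ M := hMn.conj_mem _ hmM y
        exact M.mul_mem this (M.inv_mem hmM)
    have h2 : π (y * m * y⁻¹ * m⁻¹) = 1 := (QuotientGroup.eq_one_iff _).mpr h1
    simp only [map_mul, map_inv] at h2
    have h3 := mul_inv_eq_one.mp h2
    exact mul_inv_eq_iff_eq_mul.mp h3
  have hqpow : q ^ p = 1 := by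
    show (π (y * m)) ^ p = 1
    have e1 : π (y ^ p) = 1 := (QuotientGroup.eq_one_iff _).mpr hypow
    have e2 : π (m ^ p) = 1 := (QuotientGroup.eq_one_iff _).mpr hmpow
    rw [map_mul, hcomm.mul_pow, ← map_pow, ← map_pow, e1, e2, one_mul]
  have hqord : orderOf q = p := orderOf_eq_prime hqpow hqne
  have hM0i : M0.index = p * p := by
    rw [← Subgroup.relIndex_mul_index hM0M, hrel, hMi]
  have hQcard : Nat.card (G ⧸ M0) = p * p := by
    rw [← Subgroup.index_eq_card, hM0i]
  have hZi : (Subgroup.zpowers q).index = p := by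
    have h := Subgroup.card_mul_index (Subgroup.zpowers q)
    rw [Nat.card_zpowers, hqord, hQcard] at h
    exact Nat.eq_of_mul_eq_mul_left hp.pos h
  set K1 : Subgroup G := (Subgroup.zpowers q).comap π with hK1
  have hK1i : K1.index = p := by
    rw [hK1, Subgroup.index_comap_of_surjective _ (QuotientGroup.mk'_surjective M0), hZi]
  have hK1n : K1.Normal := normal_of_index_p hG K1 hK1i
  have hymK1 : y * m ∈ K1 := by
    rw [hK1, Subgroup.mem_comap]
    exact Subgroup.mem_zpowers q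
  have hM0K1 : M0 ≤ K1 := by
    intro x hx
    rw [hK1, Subgroup.mem_comap]
    have : π x = 1 := (QuotientGroup.eq_one_iff _).mpr hx
    rw [this]
    exact Subgroup.one_mem _
  have hK1top : K1 ≠ ⊤ := by
    intro h
    rw [h, Subgroup.index_top] at hK1i
    exact hp.one_lt.ne hK1i
  have hK1M : K1 ≠ M := by
    intro h
    have : y * m ∈ M := h ▸ hymK1
    exact hyM ((Subgroup.mul_mem_cancel_right M hmM).mp this)
  have hK1K0 : ¬ K1 ≤ K0 := by
    intro h
    have : y * m ∈ K0 := h hymK1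
    exact hmK0 ((Subgroup.mul_mem_cancel_left K0 hyK0).mp this)
  have hsup : K0 ⊔ K1 = ⊤ := by
    rcases max_of_prime_index hp K0 (K0 ⊔ K1) hK0i le_sup_left with h | h
    · exfalso; exact hK1K0 (h ▸ le_sup_right)
    · exact h
  have hmeet : K0 ⊓ M = K1 ⊓ M := by
    have h1 : M0 ≤ K1 ⊓ M := le_inf hM0K1 hM0M
    rcases hstep (K1 ⊓ M) h1 inf_le_right with h | h
    · exact h.symm
    · exfalso
      have hle : M ≤ K1 := h ▸ inf_le_left
      rcases max_of_prime_index hp M K1 hMi hle with h2 | h2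
      · exact hK1M h2
      · exact hK1top h2
  exact ⟨K0, K1, hK0n, hK1n, hK0i, hK1i, hK0M, hK1M, hsup, hmeet, hM0n, m, hmM, hMm⟩

end Cfsg.Agent.Lib.H25.S3777P2Geo
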