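import Cfsg.Agent.Lib.H25.S3777P2Asm
import Cfsg.Agent.Lib.H25.S3777P2Geo
import Cfsg.Agent.Lib.H25.S3777P2Alg
import Cfsg.Agent.Lib.H1.S3777A2
import Cfsg.Agent.Lib.H6.S3777P2W
import Cfsg.Agent.Lib.H29.S3777TG

/-!
# S3777, the `P2` step, all pieces plugged (helper25)

`p2step : P2StepStmt` = `p2step_of` with (A) from helper1, (T1)/(RES)/(PAIR) from helper6,
(TG) from helper29, (GEO)/(ALG) from helper25.
-/

set_option autoImplicit false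

namespace Cfsg.Agent.Lib.H25.S3777P2

universe u

theorem p2step : Cfsg.Agent.Lib.H5.S3777.P2StepStmt.{u} :=
  p2step_of Cfsg.Agent.Lib.H1.S3777A2.a Cfsg.Agent.Lib.H6.S3777P2W.t1
    Cfsg.Agent.Lib.H29.S3777TG.tg Cfsg.Agent.Lib.H6.S3777P2W.res
    Cfsg.Agent.Lib.H25.S3777P2Geo.geo Cfsg.Agent.Lib.H25.S3777P2Alg.alg
    Cfsg.Agent.Lib.H6.S3777P2W.pair

end Cfsg.Agent.Lib.H25.S3777P2
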