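import Cfsg.Agent.Lib.H25.S3777P2Defs

/-!
# S3777, the `P2` step: assembly from the pieces of `S3777P2Defs` (helper25)
-/

set_option autoImplicit false

namespace Cfsg.Agent.Lib.H25.S3777P2

open Cfsg.Agent.Lib.H5.S3777

universe u

theorem p2step_of (hA : AStmt.{u}) (hT1 : T1Stmt.{u}) (hTG : TGStmt.{u})
    (hRes : ResStmt.{u}) (hGeo : GeoStmt.{u}) (hAlg : AlgStmt.{u}) (hPair : PairStmt.{u}) :
    P2StepStmt.{u} := by
  intro p _ G _ _ hG ih M f hpair hres
  have hp : p.Prime := Fact.out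
  by_cases hab : commutator G = ⊥
  · rw [hab]
    simp only [Subgroup.card_bot]
    exact Nat.one_le_pow _ _ hp.pos
  obtain ⟨K0, K1, hK0n, hK1n, hK0i, hK1i, hK0M, hK1M, hsup, hmeet, hM0n, m, hmM, hMm⟩ :=
    hGeo p G hG M hpair.idx hab
  have hMtop : M ≠ ⊤ := by
    intro h
    have := hpair.idx
    rw [h, Subgroup.index_top] at this
    exact hp.one_lt.ne this
  have key : ∀ K : Subgroup G, K.Normal → K.index = p → K ≠ M →
      (⁅K ⊓ M, K ⊓ M⁆ ≠ ⁅K, K⁆ → Nat.card ↥(commutator G) ≤ p ^ (tri f + f)) ∧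
      (⁅K ⊓ M, K ⊓ M⁆ = ⁅K, K⁆ → Nat.card ↥⁅K, K⁆ ≤ p ^ (tri f + f)) := by
    intro K hKn hKi hKM
    have hKtop : K ≠ ⊤ := by
      intro h
      rw [h, Subgroup.index_top] at hKi
      exact hp.one_lt.ne hKi
    have hKlt : Nat.card ↥K < Nat.card G := by
      have h := Subgroup.card_mul_index K
      rw [hKi] at h
      have hpos : 0 < Nat.card ↥K := Nat.card_pos
      have h2 := hp.two_le
      nlinarith
    have hKp : IsPGroup p ↥K := hG.to_subgroup K
    obtain ⟨h1, h2, -⟩ := ih ↥K hKp hKlt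
    have hpairK := hPair p G M K f hpair hKn hKi hKM
    constructor
    · intro hne
      have hne' : ⁅M.subgroupOf K, M.subgroupOf K⁆ ≠ commutator ↥K :=
        fun h => hne ((hRes G K M).1 h)
      have hb := h1 _ f hpairK hne'
      rw [hT1 G K] at hb
      obtain ⟨u, huM, huK⟩ := hTG G M K hMtop hKtop
      have hAu := hA p G K hKn hKi u huK
      have hu := hpair.out u huM
      calc Nat.card ↥(commutator G)
          ≤ (Subgroup.centralizer ({u} : Set G)).index * Nat.card ↥⁅K, K⁆ := hAu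
        _ ≤ p ^ f * p ^ tri f := Nat.mul_le_mul hu hb
        _ = p ^ (tri f + f) := by rw [← pow_add, add_comm]
    · intro heq
      have heq' := (hRes G K M).2 heq
      have hb := h2 _ f hpairK heq'
      rwa [hT1 G K] at hb
  by_cases c0 : ⁅K0 ⊓ M, K0 ⊓ M⁆ = ⁅K0, K0⁆
  · by_cases c1 : ⁅K1 ⊓ M, K1 ⊓ M⁆ = ⁅K1, K1⁆
    · have hM' : ⁅M, M⁆ ≤ ⁅K0 ⊓ M, K0 ⊓ M⁆ := by
        refine hAlg G K0 K1 (K0 ⊓ M) M hM0n hsup inf_le_left ?_ ?_ ?_ m hMm
        · rw [hmeet]; exact inf_le_left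
        · rw [c0]
        · rw [hmeet, c1]
      have hcomm : commutator G = ⁅K0, K0⁆ := by
        apply le_antisymm
        · rw [← hres, ← c0]; exact hM'
        · rw [commutator_def]; exact Subgroup.commutator_mono le_top le_top
      have h := (key K0 hK0n hK0i hK0M).2 c0
      rw [hcomm]
      exact h
    · exact (key K1 hK1n hK1i hK1M).1 c1
  · exact (key K0 hK0n hK0i hK0M).1 c0

end Cfsg.Agent.Lib.H25.S3777P2
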