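import Cfsg.Agent.Lib.H25.S3797M0A
import Cfsg.Agent.Lib.H1.S3797M0B
import Cfsg.Agent.Lib.H5.S3797AML

/-!
# S3797, main lemma, piece (M0): `AMLStmt → MLStmt` (helper25: M0A, helper1: M0B)

`m0 := m0b ∘ m0a`, and (spare) the main lemma itself from helper5's `aml`.
-/

set_option autoImplicit false

namespace Cfsg.Agent.Lib.H25.S3797M0

universe u

/-- **(M0)** the group-side bridge -/
theorem m0 (h : Cfsg.Agent.Lib.H5.S3797ML.AMLStmt.{u}) : Cfsg.Agent.Lib.H19.S3797.MLStmt.{u} :=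
  Cfsg.Agent.Lib.H1.S3797M0B.m0b (Cfsg.Agent.Lib.H25.S3797M0A.m0a h)

/-- **(ML)** the main lemma of S3797 (spare twin of helper5's final `ml`) -/
theorem ml : Cfsg.Agent.Lib.H19.S3797.MLStmt.{u} := m0 Cfsg.Agent.Lib.H5.S3797ML.aml

example : Cfsg.Agent.Lib.H19.S3797.MLStmt.{0} := ml
example : Cfsg.Agent.Lib.H19.S3797.MLStmt.{3} := ml

end Cfsg.Agent.Lib.H25.S3797M0
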