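import Mathlib
import Cfsg.Agent.Lib.H1.Hall
import Cfsg.Agent.Lib.H9.CoprimeGeneration

set_option autoImplicit false
open Pointwise

namespace Cfsg.Agent.Lib.H25.S3814NormalSylow

universe u

variable {G : Type u} [Group G]

theorem orderOf_conj_eq (c g : G) : orderOf (c * g * c⁻¹) = orderOf g := by
  have := MulEquiv.orderOf_eq (MulAut.conj c) g
  simpa using this

/-- two commuting elements of prime order `t` generate a `t`-group -/
theorem isPGroup_sup_zpowers {t : ℕ} (x z : G) (hx : orderOf x = t)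
    (hz : orderOf z = t) (hxz : Commute x z) :
    IsPGroup t ↥(Subgroup.zpowers x ⊔ Subgroup.zpowers z) := by
  have h1 : IsPGroup t ↥(Subgroup.zpowers x) :=
    IsPGroup.of_card (n := 1) (by rw [Nat.card_zpowers, hx, pow_one])
  have h2 : IsPGroup t ↥(Subgroup.zpowers z) :=
    IsPGroup.of_card (n := 1) (by rw [Nat.card_zpowers, hz, pow_one])
  refine IsPGroup.to_sup_of_normal_right' h1 h2 ?_
  rw [Subgroup.zpowers_le]
  rw [Subgroup.mem_normalizer_iff]
  intro h
  constructor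
  · intro hh
    obtain ⟨k, rfl⟩ := Subgroup.mem_zpowers_iff.mp hh
    have : x * z ^ k * x⁻¹ = z ^ k := by
      have hc : Commute x (z ^ k) := hxz.zpow_right k
      rw [hc.eq, mul_inv_cancel_right]
    rw [this]
    exact hh
  · intro hh
    obtain ⟨k, hk⟩ := Subgroup.mem_zpowers_iff.mp hh
    have hc : Commute x (z ^ k) := hxz.zpow_right k
    have : h = z ^ k := by
      have h3 : h = x⁻¹ * (x * h * x⁻¹) * x := by group
      rw [h3, ← hk]
      have hc' : Commute x⁻¹ (z ^ k) := hc.inv_left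
      rw [hc'.eq, inv_mul_cancel_right]
    rw [this]
    exact Subgroup.zpow_mem_zpowers z k

variable [Finite G]

/-- conjugating a subgroup of order prime to `n` into a fixed Hall subgroup of order `m` -/
theorem conj_into_hall [Group.IsSolvable G] {m n : ℕ} (hG : Nat.card G = m * n) (hmn : m.Coprime n)
    (H : Subgroup G) (hH : Nat.card H = m) (U : Subgroup G) (hU : (Nat.card U).Coprime n) :
    ∃ c : G, ∀ u ∈ U, c * u * c⁻¹ ∈ H := by
  obtain ⟨H', hH', hUH'⟩ := Cfsg.Agent.Lib.H1.hall_contain hG hmn U hU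
  obtain ⟨c, hc⟩ := Cfsg.Agent.Lib.H1.hall_conj hG hmn H' H hH' hH
  refine ⟨c, fun u hu => ?_⟩
  rw [← hc]
  have := Subgroup.smul_mem_pointwise_smul u (MulAut.conj c) H' (hUH' hu)
  simpa [MulAut.smul_def] using this

/-- **S3814, FRAME A**: in a group that is minimal (among its subgroups) for property (J),
with (F2), every nontrivial normal `a`-subgroup (`a ∈ σ`) has index prime to `a`. -/
theorem normal_sylow [Group.IsSolvable G] (σ : Finset ℕ) (hprime : ∀ p ∈ σ, p.Prime)
    (h2 : ∀ p ∈ σ, ∀ q ∈ σ, p ≠ q → ∃ g : G, orderOf g = p * q)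
    (hF2 : ∀ t ∈ σ, ∃ x z : G, orderOf x = t ∧ orderOf z = t ∧ Commute x z ∧
      x ∉ Subgroup.zpowers z)
    (hmin : ∀ M : Subgroup G, (∀ p ∈ σ, ∀ q ∈ σ, p ≠ q → ∃ g : M, orderOf g = p * q) → M = ⊤)
    (a : ℕ) (ha : a ∈ σ) (N : Subgroup G) [N.Normal] (hN : IsPGroup a N) (hN1 : N ≠ ⊥) :
    ¬ a ∣ N.index := by
  classical
  have hap : a.Prime := hprime a ha
  have : Fact a.Prime := ⟨hap⟩
  have hG0 : Nat.card G ≠ 0 := Nat.card_pos.ne'
  set n : ℕ := a ^ (Nat.card G).factorization a with hn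
  set m : ℕ := Nat.card G / n with hm
  have hG : Nat.card G = m * n := by
    rw [hm, hn, mul_comm]
    exact (Nat.ordProj_mul_ordCompl_eq_self (Nat.card G) a).symm
  have hmn : m.Coprime n := by
    rw [hn]
    exact (Nat.Coprime.pow_left _ (Nat.coprime_ordCompl hap hG0)).symm
  obtain ⟨H, hH⟩ := Cfsg.Agent.Lib.H1.hall_exists (G := G) hG hmn
  -- a number prime to `a` is prime to `n`
  have hcop_n : ∀ k : ℕ, k.Coprime a → k.Coprime n := by
    intro k hk
    rw [hn]
    exact Nat.Coprime.pow_right _ hk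
  -- the key: elements of order `a * t`
  have key : ∀ t ∈ σ, t ≠ a → ∃ g : G, g ∈ N ⊔ H ∧ orderOf g = a * t := by
    intro t ht hta
    have htp : t.Prime := hprime t ht
    have : Fact t.Prime := ⟨htp⟩
    obtain ⟨x, z, hx, hz, hxz, hxnz⟩ := hF2 t ht
    have hT : IsPGroup t ↥(Subgroup.zpowers x ⊔ Subgroup.zpowers z) :=
      isPGroup_sup_zpowers x z hx hz hxz
    obtain ⟨k, hk⟩ := IsPGroup.iff_card.mp hT
    have hTcop : (Nat.card ↥(Subgroup.zpowers x ⊔ Subgroup.zpowers z)).Coprime n := by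
      rw [hk]
      apply hcop_n
      exact Nat.Coprime.pow_left _ ((Nat.coprime_primes htp hap).mpr hta)
    obtain ⟨c, hc⟩ := conj_into_hall hG hmn H hH _ hTcop
    set x' : G := c * x * c⁻¹ with hx'
    set z' : G := c * z * c⁻¹ with hz'
    have hx'H : x' ∈ H := hc x (Subgroup.mem_sup_left (Subgroup.mem_zpowers x))
    have hz'H : z' ∈ H := hc z (Subgroup.mem_sup_right (Subgroup.mem_zpowers z))
    have hx'o : orderOf x' = t := by rw [hx', orderOf_conj_eq, hx]
    have hz'o : orderOf z' = t := by rw [hz', orderOf_conj_eq, hz]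
    have hx'z' : z' * x' = x' * z' := by
      rw [hx', hz']
      have := hxz.eq
      calc c * z * c⁻¹ * (c * x * c⁻¹) = c * (z * x) * c⁻¹ := by group
        _ = c * (x * z) * c⁻¹ := by rw [this]
        _ = c * x * c⁻¹ * (c * z * c⁻¹) := by group
    have hconjpow : ∀ i : ℕ, z' ^ i = c * z ^ i * c⁻¹ := by
      intro i
      rw [hz', conj_pow]
    -- the lines of `<z', x'>` different from ... are `z'` and `z' ^ i * x'`
    have hne : ∀ i : ℕ, z' ^ i * x' ≠ 1 := by
      intro i h1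
      apply hxnz
      have h3 : c * (z ^ i * x) * c⁻¹ = 1 := by
        rw [← h1, hconjpow, hx']
        group
      have h4 : z ^ i * x = 1 := conj_eq_one_iff.mp h3
      have h5 : x = (z ^ i)⁻¹ := eq_inv_of_mul_eq_one_right h4
      rw [h5]
      exact Subgroup.inv_mem _ (Subgroup.pow_mem _ (Subgroup.mem_zpowers z) i)
    -- coprime action of `H` on `N`
    have hca : Cfsg.Agent.Lib.H1.CoprimeAction H N := by
      refine ⟨Cfsg.Agent.Lib.H1.le_normalizer_of_normal N H, ?_, Or.inl inferInstance⟩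
      rw [hH]
      obtain ⟨j, hj⟩ := IsPGroup.iff_card.mp hN
      rw [hj]
      have : m.Coprime a := by
        rw [hm, hn]
        exact (Nat.coprime_ordCompl hap hG0).symm
      exact Nat.Coprime.pow_right _ this
    have hNt : (Nat.card N).Coprime t := by
      obtain ⟨j, hj⟩ := IsPGroup.iff_card.mp hN
      rw [hj]
      exact Nat.Coprime.pow_left _ ((Nat.coprime_primes hap htp).mpr (Ne.symm hta))
    have hz't : z' ^ t = 1 := by rw [← hz'o]; exact pow_orderOf_eq_one z'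
    have hx't : x' ^ t = 1 := by rw [← hx'o]; exact pow_orderOf_eq_one x'
    -- some line has a fixed point
    have hex : ∃ e : G, e ∈ H ∧ orderOf e = t ∧ N ⊓ Subgroup.centralizer {e} ≠ ⊥ := by
      by_contra hcon
      push Not at hcon
      apply hN1
      rw [eq_bot_iff]
      apply Cfsg.Agent.Lib.H9.le_of_centralizers_le (p := t) hca hNt hz'H hx'H hx'z' hz't hx't
      · exact (hcon z' hz'H hz'o).le
      · intro i
        have hmem : z' ^ i * x' ∈ H := H.mul_mem (H.pow_mem hz'H i) hx'H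
        have hord : orderOf (z' ^ i * x') = t := by
          apply orderOf_eq_prime _ (hne i)
          have hcomm : Commute (z' ^ i) x' := (Commute.pow_left (show Commute z' x' from hx'z') i)
          rw [hcomm.mul_pow, ← pow_mul, mul_comm i t, pow_mul, hz't, one_pow, hx't, one_mul]
        exact (hcon _ hmem hord).le
    obtain ⟨e, heH, heo, heN⟩ := hex
    -- Cauchy in `C_N(e)`
    have hL : IsPGroup a ↥(N ⊓ Subgroup.centralizer {e}) := hN.to_le inf_le_left
    have hdvd : a ∣ Nat.card ↥(N ⊓ Subgroup.centralizer {e}) := by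
      rcases hL.card_eq_or_dvd with h1 | h1
      · exfalso
        apply heN
        exact Subgroup.card_eq_one.mp h1
      · exact h1
    obtain ⟨y, hy⟩ := exists_prime_orderOf_dvd_card' a hdvd
    have hyN : (y : G) ∈ N := (Subgroup.mem_inf.mp y.2).1
    have hyc : (y : G) ∈ Subgroup.centralizer {e} := (Subgroup.mem_inf.mp y.2).2
    have hyo : orderOf (y : G) = a := by rw [Subgroup.orderOf_coe, hy]
    have hcomm : Commute (y : G) e := by
      have := Subgroup.mem_centralizer_iff.mp hyc e (Set.mem_singleton e)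
      exact this.symm
    refine ⟨(y : G) * e, Subgroup.mul_mem_sup hyN heH, ?_⟩
    rw [hcomm.orderOf_mul_eq_mul_orderOf_of_coprime, hyo, heo]
    rw [hyo, heo]
    exact (Nat.coprime_primes hap htp).mpr (Ne.symm hta)
  -- (J) for `N ⊔ H`
  have hJ : ∀ p ∈ σ, ∀ q ∈ σ, p ≠ q → ∃ g : ↥(N ⊔ H), orderOf g = p * q := by
    intro p hp q hq hpq
    by_cases hpa : p = a
    · subst hpa
      obtain ⟨g, hg, hgo⟩ := key q hq (Ne.symm hpq)
      exact ⟨⟨g, hg⟩, by rw [Subgroup.orderOf_mk, hgo]⟩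
    · by_cases hqa : q = a
      · subst hqa
        obtain ⟨g, hg, hgo⟩ := key p hp hpa
        exact ⟨⟨g, hg⟩, by rw [Subgroup.orderOf_mk, hgo, mul_comm]⟩
      · obtain ⟨g, hg⟩ := h2 p hp q hq hpq
        have hcop : (Nat.card ↥(Subgroup.zpowers g)).Coprime n := by
          rw [Nat.card_zpowers, hg]
          apply hcop_n
          exact Nat.Coprime.mul_left ((Nat.coprime_primes (hprime p hp) hap).mpr hpa)
            ((Nat.coprime_primes (hprime q hq) hap).mpr hqa)
        obtain ⟨c, hc⟩ := conj_into_hall hG hmn H hH _ hcop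
        refine ⟨⟨c * g * c⁻¹, Subgroup.mem_sup_right (hc g (Subgroup.mem_zpowers g))⟩, ?_⟩
        rw [Subgroup.orderOf_mk, orderOf_conj_eq, hg]
  have htop : N ⊔ H = ⊤ := hmin _ hJ
  -- the index of `N`
  have hidx : N.index ∣ m := by
    rw [← Subgroup.relIndex_top_right, ← htop, Subgroup.relIndex_sup_left, ← hH]
    exact Subgroup.relIndex_dvd_card N H
  intro hdiv
  have h1 : a ∣ m := hdiv.trans hidx
  have h2' : a.Coprime m := by
    rw [hm, hn]
    exact Nat.coprime_ordCompl hap hG0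
  exact hap.one_lt.ne' (Nat.Coprime.eq_one_of_dvd h2' h1)

/-- corollary: such an `N` is the unique Sylow `a`-subgroup -/
theorem normal_sylow_eq [Group.IsSolvable G] (σ : Finset ℕ) (hprime : ∀ p ∈ σ, p.Prime)
    (h2 : ∀ p ∈ σ, ∀ q ∈ σ, p ≠ q → ∃ g : G, orderOf g = p * q)
    (hF2 : ∀ t ∈ σ, ∃ x z : G, orderOf x = t ∧ orderOf z = t ∧ Commute x z ∧
      x ∉ Subgroup.zpowers z)
    (hmin : ∀ M : Subgroup G, (∀ p ∈ σ, ∀ q ∈ σ, p ≠ q → ∃ g : M, orderOf g = p * q) → M = ⊤)
    (a : ℕ) (ha : a ∈ σ) (N : Subgroup G) [N.Normal] (hN : IsPGroup a N) (hN1 : N ≠ ⊥)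
    [Fact a.Prime] (P : Sylow a G) : (P : Subgroup G) = N := by
  have hidx := normal_sylow σ hprime h2 hF2 hmin a ha N hN hN1
  have hle : N ≤ (P : Subgroup G) := hN.le_sylow_of_normal P
  symm
  apply Subgroup.eq_of_le_of_card_ge hle
  apply Nat.le_of_dvd Nat.card_pos
  -- `|P|` is a power of `a` dividing `|G| = |N| * index`
  have h1 : Nat.card (P : Subgroup G) ∣ Nat.card N * N.index := by
    rw [Subgroup.card_mul_index]
    exact Subgroup.card_subgroup_dvd_card _
  obtain ⟨k, hk⟩ := IsPGroup.iff_card.mp P.isPGroup'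
  have hcop : (Nat.card (P : Subgroup G)).Coprime N.index := by
    rw [hk]
    apply Nat.Coprime.pow_left
    exact (Nat.Prime.coprime_iff_not_dvd (Fact.out)).mpr hidx
  exact hcop.dvd_of_dvd_mul_right h1

/-- corollary: every nontrivial normal subgroup of `G` inside such an `N` is `N` -/
theorem normal_sylow_minimal [Group.IsSolvable G] (σ : Finset ℕ) (hprime : ∀ p ∈ σ, p.Prime)
    (h2 : ∀ p ∈ σ, ∀ q ∈ σ, p ≠ q → ∃ g : G, orderOf g = p * q)
    (hF2 : ∀ t ∈ σ, ∃ x z : G, orderOf x = t ∧ orderOf z = t ∧ Commute x z ∧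
      x ∉ Subgroup.zpowers z)
    (hmin : ∀ M : Subgroup G, (∀ p ∈ σ, ∀ q ∈ σ, p ≠ q → ∃ g : M, orderOf g = p * q) → M = ⊤)
    (a : ℕ) (ha : a ∈ σ) (N : Subgroup G) [N.Normal] (hN : IsPGroup a N)
    (L : Subgroup G) [L.Normal] (hLN : L ≤ N) (hL1 : L ≠ ⊥) : L = N := by
  have hap : a.Prime := hprime a ha
  have : Fact a.Prime := ⟨hap⟩
  have hN1 : N ≠ ⊥ := fun h => hL1 (eq_bot_iff.mpr (h ▸ hLN))
  obtain ⟨P⟩ : Nonempty (Sylow a G) := inferInstance
  rw [← normal_sylow_eq σ hprime h2 hF2 hmin a ha N hN hN1 P,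
    ← normal_sylow_eq σ hprime h2 hF2 hmin a ha L (hN.to_le hLN) hL1 P]

/-- corollary: such an `N` is abelian -/
theorem normal_sylow_comm [Group.IsSolvable G] (σ : Finset ℕ) (hprime : ∀ p ∈ σ, p.Prime)
    (h2 : ∀ p ∈ σ, ∀ q ∈ σ, p ≠ q → ∃ g : G, orderOf g = p * q)
    (hF2 : ∀ t ∈ σ, ∃ x z : G, orderOf x = t ∧ orderOf z = t ∧ Commute x z ∧
      x ∉ Subgroup.zpowers z)
    (hmin : ∀ M : Subgroup G, (∀ p ∈ σ, ∀ q ∈ σ, p ≠ q → ∃ g : M, orderOf g = p * q) → M = ⊤)
    (a : ℕ) (ha : a ∈ σ) (N : Subgroup G) [N.Normal] (hN : IsPGroup a N) (hN1 : N ≠ ⊥) :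
    ∀ x ∈ N, ∀ y ∈ N, x * y = y * x := by
  have hap : a.Prime := hprime a ha
  have : Fact a.Prime := ⟨hap⟩
  have : Nontrivial N := (Subgroup.nontrivial_iff_ne_bot N).mpr hN1
  have hZ : Nontrivial (Subgroup.center N) := hN.center_nontrivial
  have hLN : (Subgroup.center N).map N.subtype ≤ N := Subgroup.map_subtype_le _
  have hL1 : (Subgroup.center N).map N.subtype ≠ ⊥ := by
    intro h
    rw [Subgroup.map_eq_bot_iff_of_injective _ N.subtype_injective] at h
    exact ((Subgroup.nontrivial_iff_ne_bot _).mp hZ) h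
  have heq := normal_sylow_minimal σ hprime h2 hF2 hmin a ha N hN _ hLN hL1
  intro x hx y hy
  have hxZ : x ∈ (Subgroup.center N).map N.subtype := by rw [heq]; exact hx
  obtain ⟨x', hx', rfl⟩ := Subgroup.mem_map.mp hxZ
  have := Subgroup.mem_center_iff.mp hx' ⟨y, hy⟩
  have h3 := congrArg Subtype.val this
  simpa using h3.symm

/-- corollary: such an `N` has exponent `a` -/
theorem normal_sylow_exp [Group.IsSolvable G] (σ : Finset ℕ) (hprime : ∀ p ∈ σ, p.Prime)
    (h2 : ∀ p ∈ σ, ∀ q ∈ σ, p ≠ q → ∃ g : G, orderOf g = p * q)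
    (hF2 : ∀ t ∈ σ, ∃ x z : G, orderOf x = t ∧ orderOf z = t ∧ Commute x z ∧
      x ∉ Subgroup.zpowers z)
    (hmin : ∀ M : Subgroup G, (∀ p ∈ σ, ∀ q ∈ σ, p ≠ q → ∃ g : M, orderOf g = p * q) → M = ⊤)
    (a : ℕ) (ha : a ∈ σ) (N : Subgroup G) [N.Normal] (hN : IsPGroup a N) (hN1 : N ≠ ⊥) :
    ∀ x ∈ N, x ^ a = 1 := by
  have hap : a.Prime := hprime a ha
  have : Fact a.Prime := ⟨hap⟩
  have hcomm := normal_sylow_comm σ hprime h2 hF2 hmin a ha N hN hN1
  -- the subgroup of elements of order dividing `a`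
  let L : Subgroup G :=
    { carrier := {x | x ∈ N ∧ x ^ a = 1}
      one_mem' := ⟨N.one_mem, one_pow a⟩
      mul_mem' := by
        rintro x y ⟨hx, hxa⟩ ⟨hy, hya⟩
        refine ⟨N.mul_mem hx hy, ?_⟩
        have hc : Commute x y := hcomm x hx y hy
        rw [hc.mul_pow, hxa, hya, one_mul]
      inv_mem' := by
        rintro x ⟨hx, hxa⟩
        exact ⟨N.inv_mem hx, by rw [inv_pow, hxa, inv_one]⟩ }
  have hLmem : ∀ x, x ∈ L ↔ x ∈ N ∧ x ^ a = 1 := fun x => Iff.rfl
  have hLnormal : L.Normal := by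
    constructor
    intro x hx g
    rw [hLmem] at hx ⊢
    refine ⟨‹N.Normal›.conj_mem x hx.1 g, ?_⟩
    rw [conj_pow, hx.2, mul_one, mul_inv_cancel]
  have hLN : L ≤ N := fun x hx => ((hLmem x).mp hx).1
  have hL1 : L ≠ ⊥ := by
    have : Nontrivial N := (Subgroup.nontrivial_iff_ne_bot N).mpr hN1
    have hdvd : a ∣ Nat.card N := by
      rcases hN.card_eq_or_dvd with h1 | h1
      · exfalso
        exact hN1 (Subgroup.card_eq_one.mp h1)
      · exact h1
    obtain ⟨y, hy⟩ := exists_prime_orderOf_dvd_card' a hdvd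
    intro h
    have hyL : (y : G) ∈ L := by
      rw [hLmem]
      refine ⟨y.2, ?_⟩
      rw [← hy, ← Subgroup.orderOf_coe]
      exact pow_orderOf_eq_one (y : G)
    rw [h, Subgroup.mem_bot] at hyL
    have : orderOf (y : G) = 1 := by rw [hyL, orderOf_one]
    rw [Subgroup.orderOf_coe, hy] at this
    exact hap.one_lt.ne' this
  have heq := normal_sylow_minimal σ hprime h2 hF2 hmin a ha N hN L hLN hL1
  intro x hx
  have : x ∈ L := by rw [heq]; exact hx
  exact ((hLmem x).mp this).2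

end Cfsg.Agent.Lib.H25.S3814NormalSylow
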