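import Cfsg.Agent.Lib.H7.S3814Defs2
import Cfsg.Agent.Lib.H25.S3814NormalSylow
import Cfsg.Agent.Lib.H19.HallPi

set_option autoImplicit false
open Pointwise

namespace Cfsg.Agent.Lib.H25.S3814C1A2

open Cfsg.Agent.H7.S3814Defs
open Cfsg.Agent.Lib.H25.S3814NormalSylow

universe u

variable {G : Type u} [Group G]

/-- an `ElemAb p` subgroup is a `p`-group -/
theorem isPGroup_of_elemAb {p : ℕ} {V : Subgroup G} (h : ElemAb p V) : IsPGroup p V := by
  intro v
  refine ⟨1, ?_⟩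
  rw [pow_one]
  apply Subtype.ext
  simpa using h.2 v v.2

variable [Finite G]

/-- a Hall `c'`-subgroup of `K`, with conjugation inside `K` -/
theorem exists_hall_compl [Group.IsSolvable G] (K : Subgroup G) {c : ℕ} (hc : c.Prime) :
    ∃ X : Subgroup G, X ≤ K ∧ (Nat.card X).Coprime c ∧
      ∀ x ∈ K, (orderOf x).Coprime c → ∃ k ∈ K, k * x * k⁻¹ ∈ X := by
  classical
  have hK0 : Nat.card K ≠ 0 := Nat.card_pos.ne'
  set n : ℕ := c ^ (Nat.card K).factorization c with hn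
  set m : ℕ := Nat.card K / n with hm
  have hK : Nat.card K = m * n := by
    rw [hm, hn, mul_comm]
    exact (Nat.ordProj_mul_ordCompl_eq_self (Nat.card K) c).symm
  have hmc : m.Coprime c := by
    rw [hm, hn]
    exact (Nat.coprime_ordCompl hc hK0).symm
  have hmn : m.Coprime n := by
    rw [hn]
    exact Nat.Coprime.pow_right _ hmc
  obtain ⟨X', hX'⟩ := Cfsg.Agent.Lib.H1.hall_exists (G := ↥K) hK hmn
  refine ⟨X'.map K.subtype, Subgroup.map_subtype_le _, ?_, ?_⟩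
  · rw [Subgroup.card_map_of_injective K.subtype_injective, hX']
    exact hmc
  · intro x hx hxc
    have hU : (Nat.card ↥(Subgroup.zpowers (⟨x, hx⟩ : ↥K))).Coprime n := by
      rw [Nat.card_zpowers, Subgroup.orderOf_mk, hn]
      exact Nat.Coprime.pow_right _ hxc
    obtain ⟨k, hk⟩ := conj_into_hall hK hmn X' hX' _ hU
    refine ⟨(k : G), k.2, ?_⟩
    have h1 := hk ⟨x, hx⟩ (Subgroup.mem_zpowers _)
    exact Subgroup.mem_map.mpr ⟨_, h1, rfl⟩

/-- coprime generation, element form: some line of `<x,y>` has a fixed point on `N` -/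
theorem exists_fixed {t : ℕ} [Fact t.Prime] (A N : Subgroup G)
    (hca : Cfsg.Agent.Lib.H1.CoprimeAction A N) (hNt : (Nat.card N).Coprime t) (hN1 : N ≠ ⊥)
    (x y : G) (hxA : x ∈ A) (hyA : y ∈ A) (hxy : x * y = y * x) (hx : x ^ t = 1) (hy : y ^ t = 1)
    (hx1 : x ≠ 1) (hyx : y ∉ Subgroup.zpowers x) :
    ∃ e ∈ A, orderOf e = t ∧ N ⊓ Subgroup.centralizer {e} ≠ ⊥ := by
  by_contra hcon
  push Not at hcon
  apply hN1
  rw [eq_bot_iff]
  apply Cfsg.Agent.Lib.H9.le_of_centralizers_le (p := t) hca hNt hxA hyA hxy hx hy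
  · exact (hcon x hxA (orderOf_eq_prime hx hx1)).le
  · intro i
    have hmem : x ^ i * y ∈ A := A.mul_mem (A.pow_mem hxA i) hyA
    have hne : x ^ i * y ≠ 1 := by
      intro h1
      apply hyx
      have h5 : y = (x ^ i)⁻¹ := eq_inv_of_mul_eq_one_right h1
      rw [h5]
      exact Subgroup.inv_mem _ (Subgroup.pow_mem _ (Subgroup.mem_zpowers x) i)
    have hord : orderOf (x ^ i * y) = t := by
      apply orderOf_eq_prime _ hne
      have hcomm : Commute (x ^ i) y := (Commute.pow_left (show Commute x y from hxy) i)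
      rw [hcomm.mul_pow, ← pow_mul, mul_comm i t, pow_mul, hx, one_pow, hy, one_mul]
    exact (hcon _ hmem hord).le

/-- Cauchy in `C_N(e)` -/
theorem exists_mul_order {q t : ℕ} [Fact q.Prime] (ht : t.Prime) (hqt : q ≠ t) (N : Subgroup G)
    (hN : IsPGroup q N) (e : G) (he : orderOf e = t)
    (hne : N ⊓ Subgroup.centralizer {e} ≠ ⊥) :
    ∃ n ∈ N, Commute n e ∧ orderOf n = q ∧ orderOf (n * e) = q * t := by
  have hqp : q.Prime := Fact.out
  have hL : IsPGroup q ↥(N ⊓ Subgroup.centralizer {e}) := hN.to_le inf_le_left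
  have hdvd : q ∣ Nat.card ↥(N ⊓ Subgroup.centralizer {e}) := by
    rcases hL.card_eq_or_dvd with h1 | h1
    · exact absurd (Subgroup.card_eq_one.mp h1) hne
    · exact h1
  obtain ⟨y, hy⟩ := exists_prime_orderOf_dvd_card' q hdvd
  have hyN : (y : G) ∈ N := (Subgroup.mem_inf.mp y.2).1
  have hyc : (y : G) ∈ Subgroup.centralizer {e} := (Subgroup.mem_inf.mp y.2).2
  have hyo : orderOf (y : G) = q := by rw [Subgroup.orderOf_coe, hy]
  have hcomm : Commute (y : G) e :=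
    (Subgroup.mem_centralizer_iff.mp hyc e (Set.mem_singleton e)).symm
  refine ⟨(y : G), hyN, hcomm, hyo, ?_⟩
  rw [hcomm.orderOf_mul_eq_mul_orderOf_of_coprime, hyo, he]
  rw [hyo, he]
  exact (Nat.coprime_primes hqp ht).mpr hqt

/-- **S3814, Case 1, step (1.1)**: `K = M X` with `X` a Hall `c'`-subgroup of `K`. -/
theorem k_eq_mx {σ : Finset ℕ} {p c : ℕ} {V K M : Subgroup G}
    (hG : IsCex G σ) (hmin : MinSub G σ) (hI : ShapeI σ p V K) (hKF : KFacts σ p V K)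
    (hc : c.Prime) (hMK : M ≤ K) (hMn : K ≤ Subgroup.normalizer (M : Set G))
    (hMe : ElemAb c M) (hM2 : c ^ 2 ∣ Nat.card M) :
    ∃ X : Subgroup G, X ≤ K ∧ M ⊓ X = ⊥ ∧ M ⊔ X = K ∧ (Nat.card X).Coprime c ∧
      (∀ x ∈ K, (orderOf x).Coprime c → ∃ k ∈ K, k * x * k⁻¹ ∈ X) := by
  classical
  have := hG.sol
  have hVn : V.Normal := hI.normal
  have hpp : p.Prime := hG.prime p hI.hp
  have : Fact p.Prime := ⟨hpp⟩
  have : Fact c.Prime := ⟨hc⟩
  have hcK : c ∣ Nat.card K :=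
    ((dvd_pow_self c two_ne_zero).trans hM2).trans (Subgroup.card_dvd_of_le hMK)
  obtain ⟨hcσ, hcp⟩ := hKF.primes c hc hcK
  have hVp : IsPGroup p V := isPGroup_of_elemAb hI.elem
  have hMc : IsPGroup c M := isPGroup_of_elemAb hMe
  have hM1 : M ≠ ⊥ := by
    intro h
    rw [h, Subgroup.card_bot] at hM2
    have := Nat.le_of_dvd one_pos hM2
    have h2 : 2 ≤ c := hc.two_le
    nlinarith
  obtain ⟨X, hXK, hXc, hconj⟩ := exists_hall_compl K hc
  have hMX : M ⊓ X = ⊥ := by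
    apply Disjoint.eq_bot
    apply Subgroup.disjoint_of_coprime_natCard
    obtain ⟨j, hj⟩ := IsPGroup.iff_card.mp hMc
    rw [hj]
    exact (Nat.Coprime.pow_right _ hXc).symm
  refine ⟨X, hXK, hMX, ?_, hXc, hconj⟩
  -- the order of an element of `V`
  have hVord : ∀ v ∈ V, v ≠ 1 → orderOf v = p := fun v hv hv1 =>
    orderOf_eq_prime (hI.elem.2 v hv) hv1
  -- (F-pc)
  have Fpc : ∃ g ∈ V ⊔ M, orderOf g = p * c := by
    obtain ⟨x, hxM, hx1⟩ : ∃ x ∈ M, x ≠ 1 := by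
      by_contra h
      push Not at h
      exact hM1 (eq_bot_iff.mpr fun x hx => Subgroup.mem_bot.mpr (h x hx))
    have hxo : orderOf x = c := orderOf_eq_prime (hMe.2 x hxM) hx1
    obtain ⟨y, hyM, hyx⟩ : ∃ y ∈ M, y ∉ Subgroup.zpowers x := by
      by_contra h
      push Not at h
      have hle : M ≤ Subgroup.zpowers x := fun y hy => h y hy
      have h1 : Nat.card M ≤ c := by
        have := Subgroup.card_le_of_le hle
        rwa [Nat.card_zpowers, hxo] at this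
      have h2 : c ^ 2 ≤ Nat.card M := Nat.le_of_dvd Nat.card_pos hM2
      have h3 : 2 ≤ c := hc.two_le
      nlinarith
    have hca : Cfsg.Agent.Lib.H1.CoprimeAction M V := by
      refine ⟨Cfsg.Agent.Lib.H1.le_normalizer_of_normal V M, ?_, Or.inl inferInstance⟩
      obtain ⟨j, hj⟩ := IsPGroup.iff_card.mp hMc
      obtain ⟨i, hi⟩ := IsPGroup.iff_card.mp hVp
      rw [hj, hi]
      exact Nat.Coprime.pow _ _ ((Nat.coprime_primes hc hpp).mpr hcp)
    have hVc : (Nat.card V).Coprime c := by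
      obtain ⟨i, hi⟩ := IsPGroup.iff_card.mp hVp
      rw [hi]
      exact Nat.Coprime.pow_left _ ((Nat.coprime_primes hpp hc).mpr (Ne.symm hcp))
    obtain ⟨e, heM, heo, hne⟩ := exists_fixed (t := c) M V hca hVc hI.ne_bot x y hxM hyM
      (hMe.1 x hxM y hyM) (hMe.2 x hxM) (hMe.2 y hyM) hx1 hyx
    obtain ⟨n, hnV, -, -, hno⟩ := exists_mul_order (q := p) hc (Ne.symm hcp) V hVp e heo hne
    exact ⟨n * e, Subgroup.mul_mem_sup hnV heM, hno⟩
  -- (F-pt)
  have Fpt : ∀ t ∈ σ, t ≠ p → t ≠ c → ∃ g ∈ V ⊔ X, orderOf g = p * t := by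
    intro t ht htp htc
    have htpr : t.Prime := hG.prime t ht
    obtain ⟨x, hxK, hxo, hxf⟩ := hKF.j1 t ht htp
    unfold Fpf at hxf
    push Not at hxf
    obtain ⟨v, hvV, hxv, hv1⟩ := hxf
    have hvo : orderOf v = p := hVord v hvV hv1
    have hcomm : Commute v x := hxv.symm
    have hord : orderOf (v * x) = p * t := by
      rw [hcomm.orderOf_mul_eq_mul_orderOf_of_coprime, hvo, hxo]
      rw [hvo, hxo]
      exact (Nat.coprime_primes hpp htpr).mpr (Ne.symm htp)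
    obtain ⟨k, -, hkX⟩ := hconj x hxK (by rw [hxo]; exact (Nat.coprime_primes htpr hc).mpr htc)
    refine ⟨k * (v * x) * k⁻¹, ?_, by rw [orderOf_conj_eq, hord]⟩
    have : k * (v * x) * k⁻¹ = (k * v * k⁻¹) * (k * x * k⁻¹) := by group
    rw [this]
    exact Subgroup.mul_mem_sup (hVn.conj_mem v hvV k) hkX
  -- (F-ct)
  have Fct : ∀ t ∈ σ, t ≠ p → t ≠ c → ∃ g ∈ M ⊔ X, orderOf g = c * t := by
    intro t ht htp htc
    have htpr : t.Prime := hG.prime t ht
    have : Fact t.Prime := ⟨htpr⟩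
    obtain ⟨e₁, he₁K, e₂, he₂K, he₁o, he₂o, he₁₂, hnot⟩ := hKF.f2 t ht htp
    have hT : IsPGroup t ↥(Subgroup.zpowers e₁ ⊔ Subgroup.zpowers e₂) :=
      isPGroup_sup_zpowers e₁ e₂ he₁o he₂o he₁₂
    have hTK : Subgroup.zpowers e₁ ⊔ Subgroup.zpowers e₂ ≤ K :=
      sup_le (Subgroup.zpowers_le.mpr he₁K) (Subgroup.zpowers_le.mpr he₂K)
    have hca : Cfsg.Agent.Lib.H1.CoprimeAction (Subgroup.zpowers e₁ ⊔ Subgroup.zpowers e₂) M := by
      refine ⟨hTK.trans hMn, ?_, Or.inl inferInstance⟩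
      obtain ⟨j, hj⟩ := IsPGroup.iff_card.mp hMc
      obtain ⟨i, hi⟩ := IsPGroup.iff_card.mp hT
      rw [hj, hi]
      exact Nat.Coprime.pow _ _ ((Nat.coprime_primes htpr hc).mpr htc)
    have hMt : (Nat.card M).Coprime t := by
      obtain ⟨j, hj⟩ := IsPGroup.iff_card.mp hMc
      rw [hj]
      exact Nat.Coprime.pow_left _ ((Nat.coprime_primes hc htpr).mpr (Ne.symm htc))
    have he₁1 : e₁ ≠ 1 := by
      intro h
      rw [h, orderOf_one] at he₁o
      exact htpr.one_lt.ne he₁o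
    obtain ⟨e, heT, heo, hne⟩ := exists_fixed (t := t) _ M hca hMt hM1 e₁ e₂
      (Subgroup.mem_sup_left (Subgroup.mem_zpowers e₁))
      (Subgroup.mem_sup_right (Subgroup.mem_zpowers e₂)) he₁₂
      (by rw [← he₁o]; exact pow_orderOf_eq_one e₁) (by rw [← he₂o]; exact pow_orderOf_eq_one e₂)
      he₁1 hnot
    obtain ⟨n, hnM, -, -, hno⟩ := exists_mul_order (q := c) htpr (Ne.symm htc) M hMc e heo hne
    have heK : e ∈ K := hTK heT
    obtain ⟨k, hkK, hkX⟩ := hconj e heK (by rw [heo]; exact (Nat.coprime_primes htpr hc).mpr htc)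
    refine ⟨k * (n * e) * k⁻¹, ?_, by rw [orderOf_conj_eq, hno]⟩
    have : k * (n * e) * k⁻¹ = (k * n * k⁻¹) * (k * e * k⁻¹) := by group
    rw [this]
    refine Subgroup.mul_mem_sup ?_ hkX
    exact (Subgroup.mem_normalizer_iff.mp (hMn hkK) n).mp hnM
  -- (F-tt')
  have Ftt : ∀ t ∈ σ, ∀ t' ∈ σ, t ≠ p → t ≠ c → t' ≠ p → t' ≠ c → t ≠ t' →
      ∃ g ∈ X, orderOf g = t * t' := by
    intro t ht t' ht' htp htc ht'p ht'c htt'
    obtain ⟨x, hxK, hxo⟩ := hKF.j2 t ht t' ht' htp ht'p htt'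
    have hcop : (orderOf x).Coprime c := by
      rw [hxo]
      exact Nat.Coprime.mul_left ((Nat.coprime_primes (hG.prime t ht) hc).mpr htc)
        ((Nat.coprime_primes (hG.prime t' ht') hc).mpr ht'c)
    obtain ⟨k, -, hkX⟩ := hconj x hxK hcop
    exact ⟨k * x * k⁻¹, hkX, by rw [orderOf_conj_eq, hxo]⟩
  -- (J) for `L`
  have hVL : V ⊔ M ≤ V ⊔ (M ⊔ X) := sup_le_sup_left le_sup_left V
  have hVXL : V ⊔ X ≤ V ⊔ (M ⊔ X) := sup_le_sup_left le_sup_right V
  have hMXL : M ⊔ X ≤ V ⊔ (M ⊔ X) := le_sup_right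
  have hXL : X ≤ V ⊔ (M ⊔ X) := le_sup_right.trans hMXL
  have hL : Pairs ↥(V ⊔ (M ⊔ X)) σ := by
    intro t ht t' ht' htt'
    have mk : ∀ n : ℕ, (∃ g ∈ V ⊔ (M ⊔ X), orderOf g = n) →
        ∃ g : ↥(V ⊔ (M ⊔ X)), orderOf g = n := by
      rintro n ⟨g, hg, hgo⟩
      exact ⟨⟨g, hg⟩, by rw [Subgroup.orderOf_mk, hgo]⟩
    apply mk
    by_cases htp : t = p
    · subst htp
      by_cases ht'c : t' = c
      · subst ht'c
        obtain ⟨g, hg, hgo⟩ := Fpc
        exact ⟨g, hVL hg, hgo⟩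
      · obtain ⟨g, hg, hgo⟩ := Fpt t' ht' (Ne.symm htt') ht'c
        exact ⟨g, hVXL hg, hgo⟩
    · by_cases htc : t = c
      · subst htc
        by_cases ht'p : t' = p
        · subst ht'p
          obtain ⟨g, hg, hgo⟩ := Fpc
          exact ⟨g, hVL hg, by rw [hgo, mul_comm]⟩
        · obtain ⟨g, hg, hgo⟩ := Fct t' ht' ht'p (Ne.symm htt')
          exact ⟨g, hMXL hg, hgo⟩
      · by_cases ht'p : t' = p
        · subst ht'p
          obtain ⟨g, hg, hgo⟩ := Fpt t ht htp htc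
          exact ⟨g, hVXL hg, by rw [hgo, mul_comm]⟩
        · by_cases ht'c : t' = c
          · subst ht'c
            obtain ⟨g, hg, hgo⟩ := Fct t ht htp htc
            exact ⟨g, hMXL hg, by rw [hgo, mul_comm]⟩
          · obtain ⟨g, hg, hgo⟩ := Ftt t ht t' ht' htp htc ht'p ht'c htt'
            exact ⟨g, hXL hg, hgo⟩
  have htop := hmin _ hL
  apply le_antisymm (sup_le hMK hXK)
  intro k hk
  have hk' : k ∈ V ⊔ (M ⊔ X) := by rw [htop]; exact Subgroup.mem_top k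
  rw [← SetLike.mem_coe, Subgroup.normal_mul] at hk'
  obtain ⟨v, hv, y, hy, rfl⟩ := Set.mem_mul.mp hk'
  have hyK : y ∈ K := (sup_le hMK hXK) hy
  have hvK : v ∈ K := by
    have := K.mul_mem hk (K.inv_mem hyK)
    simpa using this
  have hv1 : v = 1 := by
    have h1 : v ∈ V ⊓ K := ⟨hv, hvK⟩
    rw [hI.compl_inf] at h1
    exact Subgroup.mem_bot.mp h1
  rw [hv1, one_mul]
  exact hy

omit [Finite G] in
/-- **S3814, Case 1, step (1.1')**: `M` contains every element of order `c` of `K`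
(`M` is the Sylow `c`-subgroup of `K`). -/
theorem c_elt_mem {σ : Finset ℕ} {p c : ℕ} {V K M : Subgroup G}
    (hG : IsCex G σ) (hmin : MinSub G σ) (hI : ShapeI σ p V K) (hKF : KFacts σ p V K)
    (hc : c.Prime) (hMK : M ≤ K) (hMn : K ≤ Subgroup.normalizer (M : Set G))
    (hMe : ElemAb c M) (hM2 : c ^ 2 ∣ Nat.card M) :
    ∀ x ∈ K, orderOf x = c → x ∈ M := by
  intro x hxK hxo
  have := hG.fin
  have : Fact c.Prime := ⟨hc⟩
  obtain ⟨X, hXK, -, hsup, hXc, -⟩ := k_eq_mx hG hmin hI hKF hc hMK hMn hMe hM2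
  have hMc : IsPGroup c M := isPGroup_of_elemAb hMe
  have hZ : IsPGroup c ↥(Subgroup.zpowers x) :=
    IsPGroup.of_card (n := 1) (by rw [Nat.card_zpowers, hxo, pow_one])
  have hQ : IsPGroup c ↥(Subgroup.zpowers x ⊔ M) :=
    IsPGroup.to_sup_of_normal_right' hZ hMc ((Subgroup.zpowers_le.mpr hxK).trans hMn)
  have hQK : Subgroup.zpowers x ⊔ M ≤ K := sup_le (Subgroup.zpowers_le.mpr hxK) hMK
  have h1 : Nat.card K ∣ Nat.card X * Nat.card M := by
    have := Cfsg.Agent.Lib.H19.card_sup_dvd_mul_of_le_normalizer (U := X) (N := M)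
      (hXK.trans hMn)
    rwa [sup_comm, hsup] at this
  obtain ⟨j, hj⟩ := IsPGroup.iff_card.mp hQ
  have h2 : Nat.card ↥(Subgroup.zpowers x ⊔ M) ∣ Nat.card M := by
    have h3 : Nat.card ↥(Subgroup.zpowers x ⊔ M) ∣ Nat.card X * Nat.card M :=
      (Subgroup.card_dvd_of_le hQK).trans h1
    have h4 : (Nat.card ↥(Subgroup.zpowers x ⊔ M)).Coprime (Nat.card X) := by
      rw [hj]
      exact (Nat.Coprime.pow_right _ hXc).symm
    exact h4.dvd_of_dvd_mul_left h3
  have h5 : M = Subgroup.zpowers x ⊔ M :=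
    Subgroup.eq_of_le_of_card_ge le_sup_right (Nat.le_of_dvd Nat.card_pos h2)
  rw [h5]
  exact Subgroup.mem_sup_left (Subgroup.mem_zpowers x)

end Cfsg.Agent.Lib.H25.S3814C1A2
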