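import Cfsg.Agent.Lib.H27.S3814C1Defs
import Cfsg.Agent.Lib.H25.S3814C1A2

set_option autoImplicit false

namespace Cfsg.Agent.Lib.H25.S3814C1Compl

open Cfsg.Agent.H7.S3814Defs Cfsg.Agent.H27.S3814C1

universe u

/-- PIECE COMPL (A2) of helper27's Case 1 cut. -/
theorem compl : ComplStmt.{u} := by
  intro G _ σ p V K c M h0 t t' _ _ _
  have := h0.cex.fin
  obtain ⟨X, h1, h2, h3, h4, -⟩ := Cfsg.Agent.Lib.H25.S3814C1A2.k_eq_mx h0.cex h0.min h0.shape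
    h0.kf h0.hc h0.hMK h0.hMn h0.hMe h0.hM2
  exact ⟨X, h1, h2, h3, h4⟩

example : ComplStmt.{0} := compl

end Cfsg.Agent.Lib.H25.S3814C1Compl
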