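import Cfsg.Agent.Lib.H7.S3814Defs2
import Cfsg.Agent.Lib.H25.S3814NormalSylow

set_option autoImplicit false

namespace Cfsg.Agent.Lib.H25.S3814NSyl

open Cfsg.Agent.H7.S3814Defs

universe u

/-- PIECE NSYL of helper7's cut, from (F2) alone (no `Rank2IndexStmt` needed). -/
theorem normalSylow_of_f2 (hF2 : F2Stmt.{u}) : NormalSylowStmt.{u} := by
  intro G _ σ hG hmin a N ha hNn hN1 hNa
  have := hG.fin
  have := hG.sol
  have : Fact a.Prime := ⟨ha⟩
  -- `a ∈ σ`
  have haσ : a ∈ σ := by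
    apply hG.sgrp a ha
    have hdvd : a ∣ Nat.card N := by
      rcases hNa.card_eq_or_dvd with h1 | h1
      · exact absurd (Subgroup.card_eq_one.mp h1) hN1
      · exact h1
    exact hdvd.trans (Subgroup.card_subgroup_dvd_card N)
  have hF2' : ∀ t ∈ σ, ∃ x z : G, orderOf x = t ∧ orderOf z = t ∧ Commute x z ∧
      x ∉ Subgroup.zpowers z := by
    intro t ht
    obtain ⟨e₁, -, e₂, -, h1, h2, h3, h4⟩ := hF2 G σ hG t ht
    exact ⟨e₂, e₁, h2, h1, h3.symm, h4⟩
  exact Cfsg.Agent.Lib.H25.S3814NormalSylow.normal_sylow σ hG.prime hG.pairs hF2' hmin a haσ N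
    hNa hN1

/-- the same in the exact shape `F2Stmt → Rank2IndexStmt → NormalSylowStmt` -/
theorem normalSylow (hF2 : F2Stmt.{u}) (_hR : Rank2IndexStmt.{u}) : NormalSylowStmt.{u} :=
  normalSylow_of_f2 hF2

end Cfsg.Agent.Lib.H25.S3814NSyl
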