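import Cfsg.Agent.Lib.H1.S77.Hyp
import Cfsg.Agent.Lib.H1.S77.Sys

/-!
# S0429: shared facts on the point/block structure `Pt`, `Bk`, `blocks` (defs in `H1.S77.Sys`)
used by the pieces (STEINER) and (ISO)
-/

set_option autoImplicit false
set_option linter.unusedSectionVars false
open Cfsg

namespace Cfsg.Agent.Lib.H25.S77

open Cfsg.Agent.Lib.H1.S77 Finset

section
variable {V : Type*} [Fintype V] [DecidableEq V] (G : SimpleGraph V) [DecidableRel G.Adj]

variable {G}

theorem mem_Bk {v : V} {C : Pt G} : C ∈ Bk G v ↔ v ∈ C.1 := by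
  rw [Bk, Finset.mem_filter]; simp

/-- counting points of `Pt G` with a property = counting members of `HC G` -/
theorem card_filter_Pt (q : Finset V → Prop) [DecidablePred q] :
    (univ.filter (fun C : Pt G => q C.1)).card = ((HC G).filter q).card := by
  refine Finset.card_bij (fun C _ => C.1) ?_ ?_ ?_
  · intro C hC
    rw [Finset.mem_filter] at hC ⊢
    exact ⟨C.2, hC.2⟩
  · intro C _ D _ h
    exact Subtype.ext h
  · intro C hC
    rw [Finset.mem_filter] at hC
    exact ⟨⟨C, hC.1⟩, Finset.mem_filter.mpr ⟨Finset.mem_univ _, hC.2⟩, rfl⟩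

theorem card_Pt : Fintype.card (Pt G) = (HC G).card := by
  rw [Fintype.card_coe]

theorem card_Bk (h1 : HF1 G) (v : V) : (Bk G v).card = 6 := by
  rw [Bk, card_filter_Pt (fun C => v ∈ C)]
  exact h1 v

theorem Bk_inter (v w : V) : Bk G v ∩ Bk G w = univ.filter (fun C : Pt G => v ∈ C.1 ∧ w ∈ C.1) := by
  ext C
  simp only [Finset.mem_inter, mem_Bk, Finset.mem_filter, Finset.mem_univ, true_and]

theorem Bk_disjoint_of_adj {v w : V} (h : G.Adj v w) : Disjoint (Bk G v) (Bk G w) := by
  rw [Finset.disjoint_left]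
  intro C hv hw
  have hC : IsHC G C.1 := mem_HC.mp C.2
  exact hC.2 v (mem_Bk.mp hv) w (mem_Bk.mp hw) h

theorem card_Bk_inter_of_nadj (h2 : HF2 G) {v w : V} (hne : v ≠ w) (h : ¬ G.Adj v w) :
    (Bk G v ∩ Bk G w).card = 2 := by
  rw [Bk_inter, card_filter_Pt (fun C => v ∈ C ∧ w ∈ C)]
  exact h2 v w hne h

theorem card_Bk_inter_le (h2 : HF2 G) {v w : V} (hne : v ≠ w) : (Bk G v ∩ Bk G w).card ≤ 2 := by
  by_cases h : G.Adj v w
  · rw [Finset.disjoint_iff_inter_eq_empty.mp (Bk_disjoint_of_adj h)]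
    simp
  · exact (card_Bk_inter_of_nadj h2 hne h).le

theorem Bk_injective (h1 : HF1 G) (h2 : HF2 G) : Function.Injective (Bk G) := by
  intro v w hvw
  by_contra hne
  have := card_Bk_inter_le h2 hne
  rw [hvw, Finset.inter_self, card_Bk h1] at this
  omega

end

end Cfsg.Agent.Lib.H25.S77
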