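import Cfsg.Agent.Lib.H25.SHPTOP2
import Cfsg.Agent.Lib.H13.SHQ3B
import Cfsg.Agent.Lib.H23.SHQ3PT
import Cfsg.Agent.Lib.H24.ShIAll

/-!
# S3016 (Shult, odd `p`): the closed assembly (twin)

`caseB3_closed` : the `|H| = 3` CASE B theorem in the shape consumed by `shult_II_of_B3`
(helper13's group side `caseB3` fed by helper23's hypothesis-free `q3_pointwise'`).
`shult_II` : conclusion (II) of S3016 with no open hypothesis.
`shult_all` : both conclusions, binders as in the statement ((I) through helper24's `concl_I`).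
-/

set_option autoImplicit false

namespace Cfsg.Agent.Lib.H25.SHPALL

open Cfsg

universe u

/-- CASE B at `|H| = 3` is impossible (helper13's group side + helper23's pointwise bound). -/
theorem caseB3_closed :
    ∀ (G : Type u) [Group G] [Finite G] (M : Ideal AlgInt), IsPModular 3 M →
      ∀ H : Subgroup G, IsPGroup 3 H → IsMulCommutative ↥H → IsExtremelyClosed H →
      Cfsg.Agent.Lib.H11.SH.LocData 3 H (principalBlock M G) →
      Subgroup.normalClosure (H : Set G) = ⊤ → Cfsg.pPrimeCore 3 G = ⊥ →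
      Cfsg.Agent.Lib.H12.SH.TransN H → Nat.card ↥H = 3 → False :=
  fun _ _ _ M hM H hH3 hHab hcl hloc hncl _ htr hq =>
    Cfsg.Agent.Lib.H13.SHQ3.caseB3 M hM H hloc hncl htr hq
      (Cfsg.Agent.Lib.H23.SHQ3.q3_pointwise' hH3 hHab hcl hq)

/-- conclusion (II) of S3016 -/
theorem shult_II {p : ℕ} [Fact p.Prime] (hp2 : p ≠ 2) :
    ∀ (G : Type u) [Group G] [Finite G] (H : Subgroup G), IsPGroup p H →
      IsMulCommutative ↥H → IsExtremelyClosed H →
      Subgroup.normalizer (H : Set G) ⊔ Cfsg.pPrimeCore p G = ⊤ :=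
  Cfsg.Agent.Lib.H25.SHPTOP.shult_II_of_B3 hp2 caseB3_closed

/-- both conclusions of S3016, binders as in the statement -/
theorem shult_all {G : Type u} [Group G] [Finite G] {p : ℕ} [Fact p.Prime] (hp : p ≠ 2)
    (H : Subgroup G) (hHp : IsPGroup p H) (hHab : IsMulCommutative H)
    (hcl : Cfsg.IsExtremelyClosed H) :
    Subgroup.normalClosure (H : Set G) ⊓ Subgroup.normalizer (H : Set G) = H ∧
      Subgroup.normalizer (H : Set G) ⊔ Cfsg.pPrimeCore p G = ⊤ := by
  have hII := shult_II hp G H hHp hHab hcl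
  exact ⟨Cfsg.Agent.Lib.H24.ShI.concl_I hp H hHp hHab hcl hII, hII⟩

end Cfsg.Agent.Lib.H25.SHPALL
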