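import Mathlib
import Cfsg.Agent.Lib.H9.SHLOCpD
import Cfsg.Agent.Lib.H12.SHGLUEA
import Cfsg.Agent.Lib.L0.PRegCongP

/-!
# S3016 (Shult, odd `p`), piece MINp (helper25): the minimal-configuration frame

General-`p` twin of helper7's `H7.Shult.min_normal`.  `H` an abelian extremely closed `p`-subgroup
of the finite group `G`, with the induction hypothesis in the centralizers `C_G(h)`, `h ∈ H#`
(the output of helper4's `ih_centralizer_p`, the input of helper9's `locData_of_loc`).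

* `fus_of_loc_p` : `N_G(H)` controls `G`-fusion in `H` (from `g = k ν`, `k ∈ K_g`, `H ⊓ K_g = ⊥`).
* `min_normal_p` : given the two case theorems as hypotheses specialised to `(G, H)`
  (CASE A: `N_G(H)` not transitive on `H#` gives `H = ⊤`; CASE B: transitive is impossible),
  `H` is normal.  For odd `p` the sub-case "`N_G(H)` centralizes `H`" needs no `Z*`: it lies
  inside CASE A.
* `min_normal_p'` : the same with the case theorems as universally quantified statements
  `CaseAStmtP`, `CaseBStmtP`.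
-/

set_option autoImplicit false

namespace Cfsg.Agent.Lib.H25.SHPMIN

open Cfsg

universe u

/-- the fusion-control statement: `N_G(H)` controls `G`-fusion in `H` -/
def FusCtl {G : Type u} [Group G] (H : Subgroup G) : Prop :=
  ∀ h ∈ H, ∀ c ∈ H, IsConj h c → ∃ n ∈ Subgroup.normalizer (H : Set G), n * c * n⁻¹ = h

/-- the induction hypothesis in the centralizers of the nontrivial elements of `H` -/
def CentIH (p : ℕ) {G : Type u} [Group G] (H : Subgroup G) : Prop :=
  ∀ h ∈ H, h ≠ 1 → Subgroup.normalizer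
      ((H.subgroupOf (Subgroup.centralizer ({h} : Set G)) :
        Subgroup ↥(Subgroup.centralizer ({h} : Set G))) :
        Set ↥(Subgroup.centralizer ({h} : Set G))) ⊔
      Cfsg.pPrimeCore p ↥(Subgroup.centralizer ({h} : Set G)) = ⊤

section frame

variable {G : Type u} [Group G] [Finite G] {H : Subgroup G}

/-- `N_G(H)` controls fusion in `H` (general prime `p`). -/
theorem fus_of_loc_p {p : ℕ} [hp : Fact p.Prime] (hHp : IsPGroup p H)
    (hHab : IsMulCommutative ↥H) (hcl : IsExtremelyClosed H) : FusCtl H := by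
  intro h hh c hc hconj
  obtain ⟨g, hg⟩ := isConj_iff.1 hconj
  obtain ⟨k, hk, ν, hν, hgk⟩ := Cfsg.Agent.Lib.H9.SHp.exists_struct hHp hHab hcl g
  have hb' : ν * h * ν⁻¹ ∈ H := ((Subgroup.mem_normalizer_iff.1 hν) h).1 hh
  have hc' : c = k * (ν * h * ν⁻¹) * k⁻¹ := by rw [← hg, hgk]; group
  have hmem : (ν * h * ν⁻¹)⁻¹ * c ∈ Cfsg.Agent.Lib.H9.SHp.Kg p H g := by
    have h1 : (ν * h * ν⁻¹)⁻¹ * c = ((ν * h * ν⁻¹)⁻¹ * k * ((ν * h * ν⁻¹)⁻¹)⁻¹) * k⁻¹ := by
      rw [hc']; group
    rw [h1]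
    refine Subgroup.mul_mem _ ?_ (Subgroup.inv_mem _ hk)
    exact Cfsg.Agent.Lib.H9.SHp.Kg_conj_mem p H g
      (Cfsg.Agent.Lib.H9.SHp.H_le_Tg H g (H.inv_mem hb')) hk
  have hmemH : (ν * h * ν⁻¹)⁻¹ * c ∈ H := H.mul_mem (H.inv_mem hb') hc
  have h1 : (ν * h * ν⁻¹)⁻¹ * c = 1 := by
    have h2 : (ν * h * ν⁻¹)⁻¹ * c ∈ H ⊓ Cfsg.Agent.Lib.H9.SHp.Kg p H g := ⟨hmemH, hmem⟩
    rw [Cfsg.Agent.Lib.H9.SHp.H_inf_Kg hHp hHab hcl g, Subgroup.mem_bot] at h2
    exact h2
  have hceq : c = ν * h * ν⁻¹ := (inv_mul_eq_one.1 h1).symm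
  refine ⟨ν⁻¹, Subgroup.inv_mem _ hν, ?_⟩
  rw [hceq]; group

/-- **MINp**: the minimal-configuration frame, case theorems as hypotheses at `(G, H)`. -/
theorem min_normal_p {p : ℕ} [hp : Fact p.Prime] (H : Subgroup G) (hHp : IsPGroup p H)
    (hHab : IsMulCommutative ↥H) (hcl : IsExtremelyClosed H) (hIH : CentIH p H)
    (caseA : ∀ M : Ideal AlgInt, IsPModular p M →
      Cfsg.Agent.Lib.H11.SH.LocData p H (principalBlock M G) → FusCtl H →
      ¬ Cfsg.Agent.Lib.H12.SH.TransN H → H = ⊤)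
    (caseB : ∀ M : Ideal AlgInt, IsPModular p M →
      Cfsg.Agent.Lib.H11.SH.LocData p H (principalBlock M G) →
      Cfsg.Agent.Lib.H12.SH.TransN H → False) : H.Normal := by
  obtain ⟨M, hM⟩ := Cfsg.Agent.Lib.L0.PRegP.exists_isPModular hp.out
  have hloc := Cfsg.Agent.Lib.H9.SHp.locData_of_loc hHp hHab hcl hIH M hM
  have hfus := fus_of_loc_p hHp hHab hcl
  by_cases htr : Cfsg.Agent.Lib.H12.SH.TransN H
  · exact (caseB M hM hloc htr).elim
  · rw [caseA M hM hloc hfus htr]
    infer_instance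

end frame

/-- the shape of the group-side CASE A theorem at a prime `p` -/
def CaseAStmtP (p : ℕ) : Prop :=
  ∀ (G : Type u) [Group G] [Finite G] (M : Ideal AlgInt), IsPModular p M → ∀ H : Subgroup G,
    IsPGroup p H → IsMulCommutative ↥H → IsExtremelyClosed H →
    Cfsg.Agent.Lib.H11.SH.LocData p H (principalBlock M G) → FusCtl H →
    Subgroup.normalClosure (H : Set G) = ⊤ → Cfsg.pPrimeCore p G = ⊥ →
    ¬ Cfsg.Agent.Lib.H12.SH.TransN H → H = ⊤

/-- the shape of the group-side CASE B theorem at a prime `p` -/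
def CaseBStmtP (p : ℕ) : Prop :=
  ∀ (G : Type u) [Group G] [Finite G] (M : Ideal AlgInt), IsPModular p M → ∀ H : Subgroup G,
    IsPGroup p H → IsMulCommutative ↥H → IsExtremelyClosed H →
    Cfsg.Agent.Lib.H11.SH.LocData p H (principalBlock M G) →
    Subgroup.normalClosure (H : Set G) = ⊤ → Cfsg.pPrimeCore p G = ⊥ →
    Cfsg.Agent.Lib.H12.SH.TransN H → False

/-- **MINp**, statement form: in the minimal configuration `H` is normal. -/
theorem min_normal_p' {p : ℕ} [hp : Fact p.Prime] (caseA : CaseAStmtP.{u} p)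
    (caseB : CaseBStmtP.{u} p) :
    ∀ (G : Type u) [Group G] [Finite G] (H : Subgroup G), IsPGroup p H →
      IsMulCommutative ↥H → IsExtremelyClosed H → CentIH p H →
      Cfsg.pPrimeCore p G = ⊥ → Subgroup.normalClosure (H : Set G) = ⊤ → H.Normal := by
  intro G _ _ H hHp hHab hcl hIH hO hncl
  exact min_normal_p H hHp hHab hcl hIH
    (fun M hM hloc hfus hnt => caseA G M hM H hHp hHab hcl hloc hfus hncl hO hnt)
    (fun M hM hloc htr => caseB G M hM H hHp hHab hcl hloc hncl hO htr)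

end Cfsg.Agent.Lib.H25.SHPMIN
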