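import Mathlib
import Cfsg.Agent.Lib.H25.SHPMIN
import Cfsg.Agent.Lib.H4.SHPIHC

/-!
# S3016 (Shult, odd `p`), top-level glue for conclusion (II) (helper25)

`shult_II_p` : conclusion (II) of S3016, `G = N_G(H) O_{p'}(G)`, for an abelian extremely closed
`p`-subgroup `H` (`p` odd), from the three group-side case theorems given as hypotheses
(each with ALL the facts of the minimal configuration as binders, so that any landed case theorem
with fewer binders plugs in by one `fun`):

* CASE A  (`N_G(H)` not transitive on `H#`)            : `H = ⊤`;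
* CASE B5 (`N_G(H)` transitive on `H#`, `5 ≤ |H|`)     : impossible;
* CASE B3 (`p = 3`, `N_G(H)` transitive, `|H| = 3`)    : impossible.

Route: helper4's `red_p` + `ih_centralizer_p`, helper9's `locData_of_loc` (inside `min_normal_p`),
and the split `|H| = p^k` odd, `≠ 1`, so `|H| = 3` (then `p = 3`) or `5 ≤ |H|`.
-/

set_option autoImplicit false

namespace Cfsg.Agent.Lib.H25.SHPTOP

open Cfsg

universe u

/-- an odd prime power `≠ 1, 3` is at least `5`; and `p ^ k = 3` forces `p = 3` -/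
theorem card_split {p : ℕ} (hp : p.Prime) (hp2 : p ≠ 2) {n k : ℕ} (hn : n = p ^ k) (hn1 : n ≠ 1) :
    (n = 3 ∧ p = 3) ∨ 5 ≤ n := by
  have hk0 : k ≠ 0 := by
    rintro rfl
    exact hn1 (by rw [hn, pow_zero])
  have hodd : Odd n := by
    rw [hn]
    exact (hp.odd_of_ne_two hp2).pow
  have hpos : 0 < n := by
    rw [hn]
    exact pow_pos hp.pos k
  by_cases h3 : n = 3
  · left
    refine ⟨h3, ?_⟩
    have hdvd : p ∣ 3 := by
      rw [← h3, hn]
      exact dvd_pow_self p hk0
    exact (Nat.prime_dvd_prime_iff_eq hp Nat.prime_three).1 hdvd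
  · right
    obtain ⟨m, hm⟩ := hodd
    omega

/-- **(II) of S3016 from the three case theorems.** -/
theorem shult_II_p {p : ℕ} [hp : Fact p.Prime] (hp2 : p ≠ 2)
    (caseA : ∀ (G : Type u) [Group G] [Finite G] (M : Ideal AlgInt), IsPModular p M →
      ∀ H : Subgroup G, IsPGroup p H → IsMulCommutative ↥H → IsExtremelyClosed H →
      Cfsg.Agent.Lib.H11.SH.LocData p H (principalBlock M G) →
      (∀ h ∈ H, ∀ c ∈ H, IsConj h c →
        ∃ n ∈ Subgroup.normalizer (H : Set G), n * c * n⁻¹ = h) →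
      Subgroup.normalClosure (H : Set G) = ⊤ → Cfsg.pPrimeCore p G = ⊥ → H ≠ ⊥ →
      ¬ Cfsg.Agent.Lib.H12.SH.TransN H → H = ⊤)
    (caseB5 : ∀ (G : Type u) [Group G] [Finite G] (M : Ideal AlgInt), IsPModular p M →
      ∀ H : Subgroup G, IsPGroup p H → IsMulCommutative ↥H → IsExtremelyClosed H →
      Cfsg.Agent.Lib.H11.SH.LocData p H (principalBlock M G) →
      Subgroup.normalClosure (H : Set G) = ⊤ → Cfsg.pPrimeCore p G = ⊥ →
      Cfsg.Agent.Lib.H12.SH.TransN H → 5 ≤ Nat.card ↥H → False)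
    (caseB3 : ∀ (G : Type u) [Group G] [Finite G] (M : Ideal AlgInt), IsPModular 3 M →
      ∀ H : Subgroup G, IsPGroup 3 H → IsMulCommutative ↥H → IsExtremelyClosed H →
      Cfsg.Agent.Lib.H11.SH.LocData 3 H (principalBlock M G) →
      Subgroup.normalClosure (H : Set G) = ⊤ → Cfsg.pPrimeCore 3 G = ⊥ →
      Cfsg.Agent.Lib.H12.SH.TransN H → Nat.card ↥H = 3 → False) :
    ∀ (G : Type u) [Group G] [Finite G] (H : Subgroup G), IsPGroup p H → IsMulCommutative ↥H →
      IsExtremelyClosed H → Subgroup.normalizer (H : Set G) ⊔ Cfsg.pPrimeCore p G = ⊤ := by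
  refine Cfsg.Agent.Lib.H4.SHP.red_p (p := p) ?_
  intro G _ _ H hHp hHab hcl IH hO hncl hZ
  by_cases hbot : H = ⊥
  · subst hbot
    infer_instance
  have hIH : Cfsg.Agent.Lib.H25.SHPMIN.CentIH p H :=
    Cfsg.Agent.Lib.H4.SHP.ih_centralizer_p hHp hHab hcl IH hZ
  refine Cfsg.Agent.Lib.H25.SHPMIN.min_normal_p H hHp hHab hcl hIH ?_ ?_
  · intro M hM hloc hfus hnt
    exact caseA G M hM H hHp hHab hcl hloc hfus hncl hO hbot hnt
  · intro M hM hloc htr
    obtain ⟨k, hk⟩ := IsPGroup.iff_card.1 hHp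
    have hn1 : Nat.card ↥H ≠ 1 := fun h => hbot (Subgroup.card_eq_one.1 h)
    rcases card_split hp.out hp2 hk hn1 with ⟨h3, hp3⟩ | h5
    · subst hp3
      exact caseB3 G M hM H hHp hHab hcl hloc hncl hO htr h3
    · exact caseB5 G M hM H hHp hHab hcl hloc hncl hO htr h5

end Cfsg.Agent.Lib.H25.SHPTOP
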