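import Mathlib
import Cfsg.Agent.Lib.H25.SHPTOP
import Cfsg.Agent.Lib.H12.SHPSYL
import Cfsg.Agent.Lib.H6.SHPCASEB
import Cfsg.Agent.Lib.H16.SHINVp

/-!
# S3016 (Shult, odd `p`): conclusion (II) from the CASE B3 theorem alone (helper25)

`shult_II_of_B3` : `shult_II_p` with CASE A discharged by helper12's landed `caseA_top` and
CASE B5 (`5 ≤ |H|`) by helper6's landed `caseB_p` + helper16's landed rank bound
`char_mul_order_p_ge'`.  Only the `q = 3` group side remains as a hypothesis.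
-/

set_option autoImplicit false

namespace Cfsg.Agent.Lib.H25.SHPTOP

open Cfsg

universe u

/-- **(II) of S3016 from the `q = 3` case theorem.** -/
theorem shult_II_of_B3 {p : ℕ} [hp : Fact p.Prime] (hp2 : p ≠ 2)
    (caseB3 : ∀ (G : Type u) [Group G] [Finite G] (M : Ideal AlgInt), IsPModular 3 M →
      ∀ H : Subgroup G, IsPGroup 3 H → IsMulCommutative ↥H → IsExtremelyClosed H →
      Cfsg.Agent.Lib.H11.SH.LocData 3 H (principalBlock M G) →
      Subgroup.normalClosure (H : Set G) = ⊤ → Cfsg.pPrimeCore 3 G = ⊥ →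
      Cfsg.Agent.Lib.H12.SH.TransN H → Nat.card ↥H = 3 → False) :
    ∀ (G : Type u) [Group G] [Finite G] (H : Subgroup G), IsPGroup p H → IsMulCommutative ↥H →
      IsExtremelyClosed H → Subgroup.normalizer (H : Set G) ⊔ Cfsg.pPrimeCore p G = ⊤ := by
  refine shult_II_p hp2 ?_ ?_ caseB3
  · intro G _ _ M hM H hHp hHab hcl hloc _ hncl hO _ hnt
    exact Cfsg.Agent.Lib.H12.SHP.caseA_top M hM H hHp
      (fun a ha b hb => setLike_mul_comm ha hb) hcl hloc hncl hO hnt
  · intro G _ _ M hM H hHp _ _ hloc hncl _ htr hq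
    refine Cfsg.Agent.Lib.H6.SHP.caseB_p hp2 M hM H hHp hloc hncl htr hq ?_
    intro χ hχ x y hx hy d hdx hdy
    have h := Cfsg.Agent.Lib.H16.SHp.char_mul_order_p_ge' χ hχ p hp.out.pos x y hx hy (d : ℂ)
      hdx hdy
    simpa using h

end Cfsg.Agent.Lib.H25.SHPTOP
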