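import Mathlib
import Cfsg.Agent.Lib.H12.SLMinDefs
import Cfsg.Agent.Lib.H2.SLGen

/-!
# S2332 piece GEN: a normal subgroup of `SL_{m+1}(F)`, `m ≥ 2`, containing the row radical is everything

The radical contains the transvections `T_{0j}(c)`; by the Steinberg relations
`T_{ij}(c) = ⁅T_{i0}(c), T_{0j}(1)⁆` and `T_{i0}(c) = ⁅T_{ik}(c), T_{k0}(1)⁆` a normal subgroup containing them
contains all transvections, which generate.
-/

set_option autoImplicit false

namespace Cfsg.Agent.Lib.H25.SLMin

open Matrix Cfsg.Agent.Lib.H12.SLMin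
open scoped commutatorElement

/-- `T_{0,j+1}(c)` lies in the row radical. -/
theorem transvection_zero_succ {F : Type*} [Field F] {m : ℕ} (j : Fin m) (c : F)
    (h : (0 : Fin (m + 1)) ≠ j.succ) :
    Matrix.SpecialLinearGroup.transvection h c = uEl (Pi.single j c) := by
  apply Subtype.ext
  rw [uEl_coe, Matrix.SpecialLinearGroup.transvection_coe]
  apply bm_ext
  · simp [Matrix.single_apply, (Fin.succ_ne_zero j)]
  · intro j'
    by_cases hj : j = j'
    · subst hj
      simp [Matrix.single_apply, (Fin.succ_ne_zero j).symm]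
    · have hj' : j.succ ≠ j'.succ := fun h' => hj (Fin.succ_injective _ h')
      simp [Matrix.single_apply, (Fin.succ_ne_zero j').symm, hj', Pi.single_apply, Ne.symm hj]
  · intro i
    simp [Matrix.single_apply, Fin.succ_ne_zero, (Fin.succ_ne_zero i).symm]
  · intro i j'
    simp [Matrix.single_apply, Matrix.one_apply, (Fin.succ_ne_zero i).symm]

/-- GEN: a normal subgroup containing the row radical is everything (`m ≥ 2`). -/
theorem gen_SL {F : Type*} [Field F] {m : ℕ} (hm : 2 ≤ m)
    (N : Subgroup (Matrix.SpecialLinearGroup (Fin (m + 1)) F)) [N.Normal]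
    (h : ∀ a : Fin m → F, uEl a ∈ N) : N = ⊤ := by
  have hnt : Nontrivial (Fin (m + 1)) := Fin.nontrivial_iff_two_le.mpr (by omega)
  -- commutators with one entry in `N`
  have hcomm_right : ∀ g n : Matrix.SpecialLinearGroup (Fin (m + 1)) F, n ∈ N → ⁅g, n⁆ ∈ N := by
    intro g n hn
    rw [commutatorElement_def]
    exact N.mul_mem (‹N.Normal›.conj_mem n hn g) (N.inv_mem hn)
  have hcomm_left : ∀ n g : Matrix.SpecialLinearGroup (Fin (m + 1)) F, n ∈ N → ⁅n, g⁆ ∈ N := by
    intro n g hn
    rw [commutatorElement_def, mul_assoc, mul_assoc]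
    refine N.mul_mem hn ?_
    rw [← mul_assoc]
    exact ‹N.Normal›.conj_mem n⁻¹ (N.inv_mem hn) g
  -- `T_{0j}`
  have h0 : ∀ (j : Fin (m + 1)) (h0j : (0 : Fin (m + 1)) ≠ j) (c : F),
      Matrix.SpecialLinearGroup.transvection h0j c ∈ N := by
    intro j
    refine Fin.cases ?_ (fun j' => ?_) j
    · intro h0j
      exact absurd rfl h0j
    · intro h0j c
      rw [transvection_zero_succ]
      exact h _
  -- `T_{ij}`, `i, j ≠ 0`
  have h1 : ∀ (i j : Fin (m + 1)) (hij : i ≠ j) (c : F), i ≠ 0 → j ≠ 0 →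
      Matrix.SpecialLinearGroup.transvection hij c ∈ N := by
    intro i j hij c hi hj
    rw [Cfsg.Agent.Lib.H2.transvection_eq_commutator hij hi (Ne.symm hj) c]
    exact hcomm_right _ _ (h0 j (Ne.symm hj) 1)
  -- `T_{i0}`
  have h2 : ∀ (i : Fin (m + 1)) (hi0 : i ≠ 0) (c : F),
      Matrix.SpecialLinearGroup.transvection hi0 c ∈ N := by
    intro i hi0 c
    obtain ⟨k, hk⟩ : ∃ k : Fin (m + 1), k ∉ ({0, i} : Finset (Fin (m + 1))) := by
      by_contra hcon
      push Not at hcon
      have h3 : Fintype.card (Fin (m + 1)) ≤ ({0, i} : Finset (Fin (m + 1))).card := by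
        rw [← Finset.card_univ]
        exact Finset.card_le_card (fun x _ => hcon x)
      have h4 : ({0, i} : Finset (Fin (m + 1))).card ≤ 2 := Finset.card_le_two
      rw [Fintype.card_fin] at h3
      omega
    simp only [Finset.mem_insert, Finset.mem_singleton, not_or] at hk
    rw [Cfsg.Agent.Lib.H2.transvection_eq_commutator hi0 (Ne.symm hk.2) hk.1 c]
    exact hcomm_left _ _ (h1 i k (Ne.symm hk.2) c hi0 hk.1)
  rw [eq_top_iff]
  intro A _
  refine Cfsg.Agent.Lib.H2.SL_transvection_induction (fun A => A ∈ N) (fun i j hij c => ?_)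
    (fun A B hA hB => N.mul_mem hA hB) A
  by_cases hi : i = 0
  · subst hi
    exact h0 j hij c
  · by_cases hj : j = 0
    · subst hj
      exact h2 i hi c
    · exact h1 i j hij c hi hj

end Cfsg.Agent.Lib.H25.SLMin
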