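import Mathlib

set_option autoImplicit false

/-!
# S3685 / S3385, piece (MOD), additive core: `F₂ S₃`-modules (helper25; blueprint `tools/blueprints/S3685.md`,
section 5)

`V` an abelian group of exponent 2, `s t : V →+ V` with `s² = t³ = 1`, `s t s = t²`; `Y = C_V(⟨s, t⟩)`,
`W = (1 + t) V = [V, t]`, `B = (1 + s) V = [V, s]`, `e = 1 + t + t²`.  If `V` is generated by the fixed points of
the three involutions `s`, `t⁻¹ s t`, `t⁻² s t²` then `C_V(t) = Y`, `V = Y ⊕ W`, `C_W(s) = B`,
`C_V(s) = Y ⊕ B`, `|W| = |B|²`, `|V| = |Y| |B|²`, and for `s' = t s t⁻¹`: `C_V(s) ⊓ C_V(s') = Y`,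
`C_V(s) ⊔ C_V(s') = ⊤`, `B = (1 + s) C_V(s')`.
-/

namespace Cfsg.Agent.Lib.H25.Sims

section additive

variable {V : Type*} [AddCommGroup V]

/-- an `F₂ S₃`-module: exponent 2, `s² = t³ = 1`, `s t s = t²` -/
structure S3Mod (s t : V →+ V) : Prop where
  h2 : ∀ v : V, v + v = 0
  hs : ∀ v, s (s v) = v
  ht : ∀ v, t (t (t v)) = v
  hst : ∀ v, s (t (s v)) = t (t v)

/-- `e = 1 + t + t²` -/
def eM (t : V →+ V) (v : V) : V := v + t v + t (t v)

/-- the fixed points of `s` -/
def fixS (s : V →+ V) : AddSubgroup V where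
  carrier := {v | s v = v}
  zero_mem' := map_zero s
  add_mem' := fun {a b} ha hb => by
    change s (a + b) = a + b
    rw [map_add, ha, hb]
  neg_mem' := fun {a} ha => by
    change s (-a) = -a
    rw [map_neg, ha]

theorem mem_fixS (s : V →+ V) (v : V) : v ∈ fixS s ↔ s v = v := Iff.rfl

/-- `Y`: the fixed points of `s` and `t` -/
def fixY (s t : V →+ V) : AddSubgroup V := fixS s ⊓ fixS t

theorem mem_fixY (s t : V →+ V) (v : V) : v ∈ fixY s t ↔ s v = v ∧ t v = v := Iff.rfl

/-- `W = (1 + t) V` -/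
def comW (t : V →+ V) : AddSubgroup V := (AddMonoidHom.id V + t).range

theorem mem_comW (t : V →+ V) (w : V) : w ∈ comW t ↔ ∃ u, u + t u = w := by
  unfold comW
  rw [AddMonoidHom.mem_range]
  simp only [AddMonoidHom.add_apply, AddMonoidHom.id_apply]

/-- `s' = t s t⁻¹` -/
def conjS (s t : V →+ V) : V →+ V := t.comp (s.comp (t.comp t))

theorem conjS_apply (s t : V →+ V) (v : V) : conjS s t v = t (s (t (t v))) := rfl

variable {s t : V →+ V}

namespace S3Mod

variable (M : S3Mod s t)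
include M

theorem add_eq_zero_iff (a b : V) : a + b = 0 ↔ a = b := by
  constructor
  · intro h
    have : a = a + (b + b) := by rw [M.h2 b, add_zero]
    rw [this, ← add_assoc, h, zero_add]
  · rintro rfl
    exact M.h2 a

theorem st (v : V) : s (t v) = t (t (s v)) := by
  have := M.hst (s v)
  rwa [M.hs] at this

theorem stt (v : V) : s (t (t v)) = t (s v) := by
  rw [M.st (t v), M.st v, M.ht]

theorem t_eM (v : V) : t (eM t v) = eM t v := by
  unfold eM
  rw [map_add, map_add, M.ht]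
  abel

theorem eM_t (v : V) : eM t (t v) = eM t v := by
  unfold eM
  rw [M.ht]
  abel

omit M in
theorem eM_add (a b : V) : eM t (a + b) = eM t a + eM t b := by
  unfold eM
  simp only [map_add]
  abel

theorem s_eM_of_fixed (z : V) (hz : s z = z) : s (eM t z) = eM t z := by
  unfold eM
  rw [map_add, map_add, hz, M.st, M.stt, hz]
  abel

theorem s_eM_comm (v : V) : s (eM t v) = eM t (s v) := by
  unfold eM
  rw [map_add, map_add, M.st, M.stt]
  abel

theorem eM_of_fixT (v : V) (hv : t v = v) : eM t v = v := by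
  unfold eM
  rw [hv, hv, M.h2, zero_add]

/-- `e` kills `W` -/
theorem eM_comW (w : V) (hw : w ∈ comW t) : eM t w = 0 := by
  obtain ⟨u, rfl⟩ := (mem_comW t w).mp hw
  rw [eM_add, M.eM_t, M.h2]

/-- on `W`: `t w + t² w = w` -/
theorem comW_rel (w : V) (hw : w ∈ comW t) : t w + t (t w) = w := by
  have h := M.eM_comW w hw
  unfold eM at h
  rw [add_assoc, M.add_eq_zero_iff] at h
  exact h.symm

omit M in
theorem t_mem_comW (w : V) (hw : w ∈ comW t) : t w ∈ comW t := by
  obtain ⟨u, rfl⟩ := (mem_comW t w).mp hw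
  exact (mem_comW t _).mpr ⟨t u, by rw [map_add]⟩

theorem s_mem_comW (w : V) (hw : w ∈ comW t) : s w ∈ comW t := by
  obtain ⟨u, rfl⟩ := (mem_comW t w).mp hw
  refine (mem_comW t _).mpr ⟨t (t (s u)), ?_⟩
  rw [M.ht, map_add, M.st]
  abel

/-- the complement: `v + e v ∈ W` -/
theorem add_eM_mem_comW (v : V) : v + eM t v ∈ comW t := by
  refine (mem_comW t _).mpr ⟨t v, ?_⟩
  unfold eM
  have : v + (v + t v + t (t v)) = (v + v) + (t v + t (t v)) := by abel
  rw [this, M.h2, zero_add]

/-- `C_W(t) = 0` -/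
theorem comW_fixT (w : V) (hw : w ∈ comW t) (hfix : t w = w) : w = 0 := by
  have h := M.eM_comW w hw
  rwa [M.eM_of_fixT w hfix] at h

/-- `C_W(s) ≤ (1 + s) W` -/
theorem comW_fixS (w : V) (hw : w ∈ comW t) (hfix : s w = w) : t w + s (t w) = w := by
  rw [M.st, hfix]
  exact M.comW_rel w hw

/-- the decomposition of `W` into fixed points of `s` and of `s' = t s t⁻¹` -/
theorem comW_decomp (w : V) (hw : w ∈ comW t) :
    s (t (t w) + s (t (t w))) = t (t w) + s (t (t w)) ∧
      conjS s t (w + (t (t w) + s (t (t w)))) = w + (t (t w) + s (t (t w))) := by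
  constructor
  · rw [map_add, M.hs]
    abel
  · have h1 := M.eM_comW w hw
    have h2 := M.eM_comW (s w) (M.s_mem_comW w hw)
    unfold eM at h1 h2
    have hb : w + (t (t w) + s (t (t w))) = w + t (t w) + t (s w) := by rw [M.stt]; abel
    have h3 : t (t (w + t (t w) + t (s w))) = t (t w) + t w + s w := by
      simp only [map_add, M.ht]
    have h4 : s (t (t w) + t w + s w) = t (s w) + t (t (s w)) + w := by
      simp only [map_add, M.stt, M.st, M.hs]
    have h5 : t (t (s w) + t (t (s w)) + w) = t (t (s w)) + s w + t w := by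
      simp only [map_add, M.ht]
    rw [conjS_apply, hb, h3, h4, h5, ← M.add_eq_zero_iff]
    have : t (t (s w)) + s w + t w + (w + t (t w) + t (s w)) =
        (w + t w + t (t w)) + (s w + t (s w) + t (t (s w))) := by abel
    rw [this, h1, h2, add_zero]

end S3Mod

/-- `B = (1 + s) V` -/
def comB (s : V →+ V) : AddSubgroup V := (AddMonoidHom.id V + s).range

theorem mem_comB (s : V →+ V) (x : V) : x ∈ comB s ↔ ∃ u, u + s u = x := by
  unfold comB
  rw [AddMonoidHom.mem_range]
  simp only [AddMonoidHom.add_apply, AddMonoidHom.id_apply]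

/-- `e` as a homomorphism -/
def eHom (t : V →+ V) : V →+ V := AddMonoidHom.id V + t + t.comp t

theorem eHom_apply (t : V →+ V) (v : V) : eHom t v = eM t v := rfl

/-- cardinality of a subgroup via a homomorphism: kernel times image -/
theorem card_eq_ker_mul_map {A B : Type*} [AddCommGroup A] [AddCommGroup B] [Finite A] (g : A →+ B)
    (H : AddSubgroup A) : Nat.card H = Nat.card ↥(g.ker ⊓ H) * Nat.card ↥(H.map g) := by
  have h1 := AddSubgroup.card_mul_index (g.domRestrict H).ker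
  rw [AddSubgroup.index_ker, AddMonoidHom.domRestrict_range, AddMonoidHom.ker_domRestrict] at h1
  rw [← h1, ← AddSubgroup.inf_addSubgroupOf_right]
  congr 1
  exact Nat.card_congr (AddSubgroup.addSubgroupOfEquivOfLe inf_le_right).toEquiv

namespace S3Mod

variable (M : S3Mod s t)
include M

theorem comB_le_fixS : comB s ≤ fixS s := by
  intro x hx
  obtain ⟨u, rfl⟩ := (mem_comB s x).mp hx
  rw [mem_fixS, map_add, M.hs]
  abel

theorem ker_one_add_s : (AddMonoidHom.id V + s).ker = fixS s := by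
  ext v
  rw [AddMonoidHom.mem_ker, AddMonoidHom.add_apply, AddMonoidHom.id_apply, M.add_eq_zero_iff, mem_fixS]
  exact eq_comm

/-- `C_V(s) ⊓ C_V(t s t⁻¹) = Y` -/
theorem fixS_inf_fixS' : fixS s ⊓ fixS (conjS s t) = fixY s t := by
  ext v
  rw [AddSubgroup.mem_inf, mem_fixS, mem_fixS, mem_fixY, conjS_apply]
  constructor
  · rintro ⟨h1, h2⟩
    refine ⟨h1, ?_⟩
    have h3 : t (t v) = v := by
      have : t (s (t (t (s v)))) = v := by rw [h1]; exact h2
      rwa [M.stt, M.hs] at this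
    calc t v = t (t (t v)) := by rw [h3]
      _ = v := M.ht v
  · rintro ⟨h1, h2⟩
    exact ⟨h1, by rw [h2, h2, h1, h2]⟩

/-- (5a) `Y ⊓ W = ⊥` -/
theorem fixY_inf_comW : fixY s t ⊓ comW t = ⊥ := by
  rw [eq_bot_iff]
  rintro v ⟨h1, h2⟩
  exact M.comW_fixT v h2 h1.2

/-- (5a) every `v` is `e v + (v + e v)` with `e v ∈ Y`, `v + e v ∈ W` -/
theorem decomp (v : V) : v = eM t v + (v + eM t v) := by
  rw [add_comm v, ← add_assoc, M.h2, zero_add]

theorem ker_eHom : (eHom t).ker = comW t := by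
  ext v
  rw [AddMonoidHom.mem_ker, eHom_apply]
  constructor
  · intro h
    have := M.add_eM_mem_comW v
    rwa [h, add_zero] at this
  · exact M.eM_comW v

section gen

variable (hgen : AddSubgroup.closure {v : V | s v = v ∨ s (t v) = t v ∨ s (t (t v)) = t (t v)} = ⊤)
include hgen

/-- (5a) `e V` is fixed by `s` -/
theorem s_eM (v : V) : s (eM t v) = eM t v := by
  have hv : v ∈ AddSubgroup.closure {v : V | s v = v ∨ s (t v) = t v ∨ s (t (t v)) = t (t v)} := by
    rw [hgen]; trivial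
  induction hv using AddSubgroup.closure_induction with
  | mem x hx =>
    rcases hx with h | h | h
    · exact M.s_eM_of_fixed x h
    · rw [← M.eM_t x]
      exact M.s_eM_of_fixed _ h
    · rw [← M.eM_t x, ← M.eM_t (t x)]
      exact M.s_eM_of_fixed _ h
  | zero => simp [eM]
  | add x y _ _ hx hy => rw [eM_add, map_add, hx, hy]
  | neg x _ hx =>
    have : eM t (-x) = -eM t x := by unfold eM; simp only [map_neg]; abel
    rw [this, map_neg, hx]

theorem eM_mem_fixY (v : V) : eM t v ∈ fixY s t :=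
  (mem_fixY s t _).mpr ⟨M.s_eM hgen v, M.t_eM v⟩

/-- (5a) `C_V(t) = Y` -/
theorem fixT_eq_fixY : fixS t = fixY s t := by
  apply le_antisymm
  · intro v hv
    rw [← M.eM_of_fixT v hv]
    exact M.eM_mem_fixY hgen v
  · exact inf_le_right

theorem fixY_sup_comW : fixY s t ⊔ comW t = ⊤ := by
  rw [eq_top_iff]
  intro v _
  rw [M.decomp v]
  exact AddSubgroup.add_mem_sup (M.eM_mem_fixY hgen v) (M.add_eM_mem_comW v)

/-- (5b) `(1 + s) V ≤ W` -/
theorem comB_le_comW : comB s ≤ comW t := by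
  intro x hx
  obtain ⟨u, rfl⟩ := (mem_comB s x).mp hx
  have h1 : u + s u = (u + eM t u) + s (u + eM t u) := by
    rw [map_add, M.s_eM hgen]
    have : u + eM t u + (s u + eM t u) = (u + s u) + (eM t u + eM t u) := by abel
    rw [this, M.h2, add_zero]
  rw [h1]
  exact add_mem (M.add_eM_mem_comW u) (M.s_mem_comW _ (M.add_eM_mem_comW u))

/-- (5b) `C_W(s) = (1 + s) V` -/
theorem comW_inf_fixS : comW t ⊓ fixS s = comB s := by
  apply le_antisymm
  · rintro w ⟨hw, hs⟩
    exact (mem_comB s w).mpr ⟨t w, M.comW_fixS w hw hs⟩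
  · exact le_inf (M.comB_le_comW hgen) M.comB_le_fixS

/-- (5b) `C_V(s) = Y ⊔ (1 + s) V` -/
theorem fixS_eq : fixS s = fixY s t ⊔ comB s := by
  apply le_antisymm
  · intro v hv
    rw [M.decomp v]
    refine AddSubgroup.add_mem_sup (M.eM_mem_fixY hgen v) ?_
    rw [← M.comW_inf_fixS hgen]
    refine ⟨M.add_eM_mem_comW v, ?_⟩
    show s (v + eM t v) = v + eM t v
    rw [map_add, M.s_eM hgen, (mem_fixS s v).mp hv]
  · exact sup_le inf_le_left M.comB_le_fixS

/-- (5b) `(1 + s) W = (1 + s) V` -/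
theorem map_comW : (comW t).map (AddMonoidHom.id V + s) = comB s := by
  apply le_antisymm
  · rintro _ ⟨w, _, rfl⟩
    exact ⟨w, rfl⟩
  · intro x hx
    obtain ⟨u, rfl⟩ := (mem_comB s x).mp hx
    refine ⟨u + eM t u, M.add_eM_mem_comW u, ?_⟩
    rw [AddMonoidHom.add_apply, AddMonoidHom.id_apply, map_add, M.s_eM hgen]
    have : u + eM t u + (s u + eM t u) = (u + s u) + (eM t u + eM t u) := by abel
    rw [this, M.h2, add_zero]

variable [Finite V]

/-- (5b) `|W| = |(1 + s) V|²` -/
theorem card_comW : Nat.card (comW t) = Nat.card (comB s) ^ 2 := by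
  rw [card_eq_ker_mul_map (AddMonoidHom.id V + s) (comW t), M.ker_one_add_s, inf_comm,
    M.comW_inf_fixS hgen, M.map_comW hgen, sq]

omit [Finite V] in
theorem range_eHom : (eHom t).range = fixY s t := by
  apply le_antisymm
  · rintro _ ⟨v, rfl⟩
    exact M.eM_mem_fixY hgen v
  · intro y hy
    exact ⟨y, M.eM_of_fixT y hy.2⟩

/-- `|V| = |Y| |(1 + s) V|²` -/
theorem card_V : Nat.card V = Nat.card (fixY s t) * Nat.card (comB s) ^ 2 := by
  have h1 := AddSubgroup.card_mul_index (eHom t).ker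
  rw [AddSubgroup.index_ker, M.ker_eHom, M.range_eHom hgen, M.card_comW hgen] at h1
  rw [← h1, mul_comm]

/-- (5b) `|C_V(s)| = |Y| |(1 + s) V|` -/
theorem card_fixS : Nat.card (fixS s) = Nat.card (fixY s t) * Nat.card (comB s) := by
  have hmap : (fixS s).map (eHom t) = fixY s t := by
    apply le_antisymm
    · rintro _ ⟨v, _, rfl⟩
      exact M.eM_mem_fixY hgen v
    · intro y hy
      exact ⟨y, hy.1, M.eM_of_fixT y hy.2⟩
  rw [card_eq_ker_mul_map (eHom t) (fixS s), M.ker_eHom, M.comW_inf_fixS hgen, hmap, mul_comm]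

omit [Finite V] in
/-- (5c) `C_V(s) ⊔ C_V(t s t⁻¹) = ⊤` -/
theorem fixS_sup_fixS' : fixS s ⊔ fixS (conjS s t) = ⊤ := by
  rw [eq_top_iff]
  intro v _
  obtain ⟨h1, h2⟩ := M.comW_decomp (v + eM t v) (M.add_eM_mem_comW v)
  set w := v + eM t v with hw
  set a := t (t w) + s (t (t w)) with ha
  have hv : v = (eM t v + a) + (w + a) := by
    have : eM t v + a + (w + a) = (eM t v + w) + (a + a) := by abel
    rw [this, M.h2, add_zero, hw]
    exact M.decomp v
  rw [hv]
  refine AddSubgroup.add_mem_sup ?_ h2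
  rw [mem_fixS, map_add, M.s_eM hgen, h1]

omit [Finite V] in
/-- (5c) `(1 + s) V = (1 + s) C_V(t s t⁻¹)` -/
theorem comB_eq_map_fixS' (x : V) (hx : x ∈ comB s) : ∃ z ∈ fixS (conjS s t), z + s z = x := by
  obtain ⟨u, rfl⟩ := (mem_comB s x).mp hx
  have hu : u ∈ fixS s ⊔ fixS (conjS s t) := by rw [M.fixS_sup_fixS' hgen]; trivial
  obtain ⟨a, ha, b, hb, rfl⟩ := AddSubgroup.mem_sup.mp hu
  refine ⟨b, hb, ?_⟩
  rw [map_add, (mem_fixS s a).mp ha]
  have : a + b + (a + s b) = (b + s b) + (a + a) := by abel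
  rw [this, M.h2, add_zero]

end gen

end S3Mod

end additive

end Cfsg.Agent.Lib.H25.Sims
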