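import Cfsg.Agent.Lib.H10.SimsLOC2

set_option autoImplicit false

/-!
# S3685 / S3385, piece (MOD): the extra local facts at one `P_j` (helper25)

The index 2 facts and the `S₃`-relation for an arbitrary Sylow 2-subgroup `X` of `P_j`, derived from helper10's
standalone `Lib/H10/SimsLOC.lean` through his `LocHyp` transfer.
-/

open scoped Pointwise

namespace Cfsg.Agent.Lib.H25.Sims

open Cfsg.Agent.Lib.H5.Sims Cfsg.Agent.Lib.H10.Sims

variable {G : Type*} [Group G] [Finite G]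

/-- the extra local facts -/
structure LocPlus (S : Setup G) : Prop where
  Q_le : ∀ (j : ℤ) (X : Subgroup G), S.IsSyl j X → S.Qj j ≤ X
  ex_not_mem : ∀ (j : ℤ) (X : Subgroup G), S.IsSyl j X → ∃ s ∈ X, s ∉ S.Qj j
  mul_mem_Q : ∀ (j : ℤ) (X : Subgroup G), S.IsSyl j X → ∀ s ∈ X, ∀ s' ∈ X, s ∉ S.Qj j → s' ∉ S.Qj j →
    s * s' ∈ S.Qj j
  conj_three : ∀ (j : ℤ) (X : Subgroup G), S.IsSyl j X → ∀ s ∈ X, s ∉ S.Qj j → ∀ t ∈ S.Pj j,
    orderOf t = 3 → s * t * s⁻¹ * t ∈ S.Qj j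
  syl_three : ∀ (j : ℤ) (X X' : Subgroup G), S.IsSyl j X → S.IsSyl j X' → X ≠ X' →
    ∃ t ∈ S.Pj j, orderOf t = 3 ∧ MulAut.conj t • X = X'
  two : ∀ (j : ℤ) (X : Subgroup G), S.IsSyl j X → IsPGroup 2 ↥X

omit [Finite G] in
theorem mem_map_subtype_iff {P : Subgroup G} (A : Subgroup P) (x : P) :
    (x : G) ∈ A.map P.subtype ↔ x ∈ A := by
  constructor
  · rintro ⟨y, hy, hyx⟩
    have : y = x := Subtype.ext hyx
    rwa [← this]
  · intro hx
    exact ⟨x, hx, rfl⟩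

theorem locPlus (S : Setup G) (hb : S.Bent) : LocPlus S := by
  have H := fun j => locHyp S hb j
  have hQ : ∀ j : ℤ, ((S.Tj j).subgroupOf (S.Pj j)).normalCore.map (S.Pj j).subtype = S.Qj j :=
    fun j => (H j).core_eq
  have memQ : ∀ (j : ℤ) (x : S.Pj j), (x : G) ∈ S.Qj j ↔
      x ∈ ((S.Tj j).subgroupOf (S.Pj j)).normalCore := by
    intro j x
    rw [← hQ j, mem_map_subtype_iff]
  refine
    { Q_le := ?_
      ex_not_mem := ?_
      mul_mem_Q := ?_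
      conj_three := ?_
      syl_three := ?_
      two := ?_ }
  · intro j X hX
    obtain ⟨g, hg⟩ := (H j).syl X hX.1 hX.2
    rw [hg, ← hQ j]
    exact Subgroup.map_mono (core_le_conj _ g)
  · intro j X hX
    obtain ⟨g, hg⟩ := (H j).syl X hX.1 hX.2
    obtain ⟨s, hs, hsQ⟩ := exists_not_mem_core _ (H j).h3 (H j).hnn g
    refine ⟨(s : G), ?_, ?_⟩
    · rw [hg]; exact (mem_map_subtype_iff _ s).mpr hs
    · rw [memQ]; exact hsQ
  · intro j X hX s hs s' hs' hsQ hsQ'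
    obtain ⟨g, hg⟩ := (H j).syl X hX.1 hX.2
    have hsP : s ∈ S.Pj j := hX.1 hs
    have hsP' : s' ∈ S.Pj j := hX.1 hs'
    rw [hg] at hs hs'
    have h1 : (⟨s, hsP⟩ : S.Pj j) ∈ MulAut.conj g • (S.Tj j).subgroupOf (S.Pj j) :=
      (mem_map_subtype_iff _ ⟨s, hsP⟩).mp hs
    have h1' : (⟨s', hsP'⟩ : S.Pj j) ∈ MulAut.conj g • (S.Tj j).subgroupOf (S.Pj j) :=
      (mem_map_subtype_iff _ ⟨s', hsP'⟩).mp hs'
    have h2 : (⟨s, hsP⟩ : S.Pj j) ∉ ((S.Tj j).subgroupOf (S.Pj j)).normalCore :=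
      fun h => hsQ ((memQ j ⟨s, hsP⟩).mpr h)
    have h2' : (⟨s', hsP'⟩ : S.Pj j) ∉ ((S.Tj j).subgroupOf (S.Pj j)).normalCore :=
      fun h => hsQ' ((memQ j ⟨s', hsP'⟩).mpr h)
    have key := mul_mem_core _ (H j).h3 g _ _ h1 h1' h2 h2'
    have key2 := (memQ j _).mpr key
    have e : (((⟨s, hsP⟩ : S.Pj j) * ⟨s', hsP'⟩ : S.Pj j) : G) = s * s' := by
      simp only [Subgroup.coe_mul]
    rw [← e]
    exact key2
  · intro j X hX s hs hsQ t ht ho
    obtain ⟨g, hg⟩ := (H j).syl X hX.1 hX.2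
    have hsP : s ∈ S.Pj j := hX.1 hs
    rw [hg] at hs
    have h1 : (⟨s, hsP⟩ : S.Pj j) ∈ MulAut.conj g • (S.Tj j).subgroupOf (S.Pj j) :=
      (mem_map_subtype_iff _ ⟨s, hsP⟩).mp hs
    have h2 : (⟨s, hsP⟩ : S.Pj j) ∉ ((S.Tj j).subgroupOf (S.Pj j)).normalCore :=
      fun h => hsQ ((memQ j ⟨s, hsP⟩).mpr h)
    have ho' : orderOf (⟨t, ht⟩ : S.Pj j) = 3 := by rw [← Subgroup.orderOf_coe]; exact ho
    have key := conj_order_three _ (H j).h3 (H j).h2 g _ h1 h2 _ ho'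
    have key2 := (memQ j _).mpr key
    have e : (((⟨s, hsP⟩ : S.Pj j) * ⟨t, ht⟩ * (⟨s, hsP⟩ : S.Pj j)⁻¹ * ⟨t, ht⟩ : S.Pj j) : G) =
        s * t * s⁻¹ * t := by
      simp only [Subgroup.coe_mul, Subgroup.coe_inv]
    rw [← e]
    exact key2
  · intro j X X' hX hX' hne
    obtain ⟨g, hg⟩ := (H j).syl X hX.1 hX.2
    obtain ⟨g', hg'⟩ := (H j).syl X' hX'.1 hX'.2
    obtain ⟨t, ht⟩ := exists_orderOf_three _ (H j).h3
    have ho : orderOf (t : G) = 3 := by rw [Subgroup.orderOf_coe]; exact ht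
    have ht2 : orderOf (t * t) = 3 := by
      have h3 : t ^ 3 = 1 := by rw [← ht]; exact pow_orderOf_eq_one t
      have hne1 : t * t ≠ 1 := by
        intro h
        have : t = 1 := by
          calc t = t ^ 3 * (t * t)⁻¹ := by group
            _ = 1 := by rw [h3, h]; simp
        rw [this, orderOf_one] at ht
        omega
      have h3' : (t * t) ^ 3 = 1 := by
        calc (t * t) ^ 3 = (t ^ 3) ^ 2 := by rw [← pow_two, ← pow_mul, ← pow_mul]
          _ = 1 := by rw [h3, one_pow]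
      have hd := orderOf_dvd_of_pow_eq_one h3'
      rcases (Nat.dvd_prime Nat.prime_three).1 hd with h | h
      · exact absurd (orderOf_eq_one_iff.1 h) hne1
      · exact h
    have ho2 : orderOf ((t * t : S.Pj j) : G) = 3 := by rw [Subgroup.orderOf_coe]; exact ht2
    rcases smul_order_three_cycle _ (H j).h3 (H j).hnn (H j).h2 g t ht g' with h | h | h
    · exfalso
      apply hne
      rw [hg, hg', h]
    · refine ⟨(t : G), t.2, ho, ?_⟩
      rw [hg, hg', ← map_conj_smul, h]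
    · refine ⟨((t * t : S.Pj j) : G), (t * t).2, ho2, ?_⟩
      rw [hg, hg', ← map_conj_smul, h]
  · intro j X hX
    have hf : Fact (Nat.Prime 2) := ⟨Nat.prime_two⟩
    obtain ⟨n, hn⟩ := (IsPGroup.iff_card).1 hb.two
    exact IsPGroup.of_card (n := n) (hX.2.trans hn)

end Cfsg.Agent.Lib.H25.Sims
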