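import Cfsg.Agent.Lib.H25.SimsMODT
import Cfsg.Agent.Lib.H25.SimsMODL
import Cfsg.Agent.Lib.H24.SimsMODX

set_option autoImplicit false
set_option linter.unusedSectionVars false

/-!
# S3685 / S3385, piece (MOD): `mod : S.Bent → S.Loc → S.Con → S.Mod` (helper25)

The module facts of section 5 of `tools/blueprints/S3685.md` for the chain library `Lib/H5/Sims/Defs.lean`, from
the additive core `SimsMOD`, its transport `SimsMODT`, the extra local facts `SimsMODL` and helper24's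
cross-conjugation part `Lib/H24/SimsMODX.lean`.
-/

open scoped Pointwise commutatorElement

namespace Cfsg.Agent.Lib.H25.Sims

open Cfsg.Agent.Lib.H5.Sims

variable {G : Type*} [Group G]

/-! ## pure group theory -/

theorem inv_eq_sq_of_cube {t : G} (h3 : t ^ 3 = 1) : t⁻¹ = t * t := by
  apply inv_eq_of_mul_eq_one_right
  rw [← mul_assoc, ← h3, pow_succ, pow_succ, pow_one]

theorem conj_eq_of_comm {q v : G} (h : v * q = q * v) : q * v * q⁻¹ = v := by
  rw [← h, mul_inv_cancel_right]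

theorem comm_of_conj_eq {q v : G} (h : q * v * q⁻¹ = v) : q * v = v * q := by
  calc q * v = (q * v * q⁻¹) * q := by group
    _ = v * q := by rw [h]

theorem sts_aux (s t v : G) (ht3 : t ^ 3 = 1)
    (h1 : (s * s) * v * (s * s)⁻¹ = v)
    (h2 : (s * t * s⁻¹ * t) * (t⁻¹ * v * t) * (s * t * s⁻¹ * t)⁻¹ = t⁻¹ * v * t) :
    s * (t * (s * v * s⁻¹) * t⁻¹) * s⁻¹ = t * (t * v * t⁻¹) * t⁻¹ := by
  have e1 : s * (t * (s * v * s⁻¹) * t⁻¹) * s⁻¹ =
      (s * t * s⁻¹ * t) * (t⁻¹ * ((s * s) * v * (s * s)⁻¹) * t) * (s * t * s⁻¹ * t)⁻¹ := by group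
  rw [e1, h1, h2]
  have e2 : t⁻¹ = t * t := inv_eq_sq_of_cube ht3
  have e3 : t * (t * v * t⁻¹) * t⁻¹ = (t * t) * v * (t * t)⁻¹ := by group
  rw [e3, ← e2, inv_inv]

/-! ## the conjugation data in the chain -/

section chain

variable [Finite G] (S : Setup G) (hL : S.Loc) (hC : S.Con) (hP : LocPlus S)
include hL hC hP

omit [Finite G] hL hP in
theorem cen_Q (j : ℤ) (q : G) (hq : q ∈ S.Qj j) (v : G) (hv : v ∈ S.Vj j) : q * v * q⁻¹ = v :=
  conj_eq_of_comm (hC.V_comm_Q j v hv q hq)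

omit [Finite G] hL hP in
theorem norm_V (j : ℤ) (p : G) (hp : p ∈ S.Pj j) (v : G) (hv : v ∈ S.Vj j) : p * v * p⁻¹ ∈ S.Vj j :=
  (Subgroup.mem_normalizer_iff.mp (hC.V_norm j hp) v).mp hv

omit [Finite G] hL hP in
theorem V_le_P (j : ℤ) : S.Vj j ≤ S.Pj j := (hC.V_le_Q j).trans (S.Qj_le j)

omit hL hC in
/-- every element of a Sylow subgroup is in `Q_j` or is `q s⁻¹` with `q ∈ Q_j` -/
theorem syl_cases (j : ℤ) (X : Subgroup G) (hX : S.IsSyl j X) (s : G) (hs : s ∈ X) (hsQ : s ∉ S.Qj j)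
    (x : G) (hx : x ∈ X) : x ∈ S.Qj j ∨ x * s ∈ S.Qj j := by
  by_cases h : x ∈ S.Qj j
  · exact Or.inl h
  · exact Or.inr (hP.mul_mem_Q j X hX x hx s hs h hsQ)

/-- an element of `V_j` commuting with `s` commutes with the Sylow subgroup of `s` -/
theorem comm_syl (j : ℤ) (X : Subgroup G) (hX : S.IsSyl j X) (s : G) (hs : s ∈ X) (hsQ : s ∉ S.Qj j)
    (v : G) (hv : v ∈ S.Vj j) (hsv : s * v * s⁻¹ = v) (x : G) (hx : x ∈ X) : x * v * x⁻¹ = v := by
  rcases syl_cases S hP j X hX s hs hsQ x hx with h | h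
  · exact cen_Q S hC j x h v hv
  · have h1 := cen_Q S hC j (x * s) h v hv
    have hsv' : s⁻¹ * v * s = v := by
      calc s⁻¹ * v * s = s⁻¹ * (s * v * s⁻¹) * s := by rw [hsv]
        _ = v := by group
    calc x * v * x⁻¹ = (x * s) * (s⁻¹ * v * s) * (x * s)⁻¹ := by group
      _ = v := by rw [hsv', h1]

theorem conjData0 (j : ℤ) (X : Subgroup G) (hX : S.IsSyl j X) (s : G) (hs : s ∈ X) (hsQ : s ∉ S.Qj j)
    (t : G) (ht : t ∈ S.Pj j) (ho : orderOf t = 3) : ConjData0 (S.Vj j) s t := by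
  have ht3 : t ^ 3 = 1 := by rw [← ho]; exact pow_orderOf_eq_one t
  have hsP : s ∈ S.Pj j := hX.1 hs
  have hss : s * s ∈ S.Qj j := hP.mul_mem_Q j X hX s hs s hs hsQ hsQ
  have hq : s * t * s⁻¹ * t ∈ S.Qj j := hP.conj_three j X hX s hs hsQ t ht ho
  refine
    { comm := fun x hx y hy => hC.V_comm_Q j x hx y (hC.V_le_Q j hy)
      sq := hC.V_sq j
      sV := norm_V S hC j s hsP
      tV := norm_V S hC j t ht
      s2 := ?_
      t3 := ?_
      sts := ?_ }
  · intro v hv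
    have := cen_Q S hC j (s * s) hss v hv
    calc s * (s * v * s⁻¹) * s⁻¹ = (s * s) * v * (s * s)⁻¹ := by group
      _ = v := this
  · intro v hv
    have h3' : t * t * t = 1 := by rw [← ht3, pow_succ, pow_succ, pow_one]
    calc t * (t * (t * v * t⁻¹) * t⁻¹) * t⁻¹ = (t * t * t) * v * (t * t * t)⁻¹ := by group
      _ = v := by rw [h3']; group
  · intro v hv
    apply sts_aux s t v ht3 (cen_Q S hC j (s * s) hss v hv)
    have hw : t⁻¹ * v * t ∈ S.Vj j := by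
      have := norm_V S hC j t⁻¹ ((S.Pj j).inv_mem ht) v hv
      rwa [inv_inv] at this
    exact cen_Q S hC j _ hq _ hw

/-- `e v ∈ Y_j` for `v` in the centre of a Sylow subgroup -/
theorem e_mem_Y (j : ℤ) (X : Subgroup G) (hX : S.IsSyl j X) (t : G) (ht : t ∈ S.Pj j)
    (ho : orderOf t = 3) (v : G) (hv : v ∈ zOf X) :
    v * (t * v * t⁻¹) * (t * (t * v * t⁻¹) * t⁻¹) ∈ S.Yj j := by
  obtain ⟨x, hx, hxQ⟩ := hP.ex_not_mem j X hX
  have D := conjData0 S hL hC hP j X hX x hx hxQ t ht ho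
  have hvV : v ∈ S.Vj j := hC.Z_le_V j X hX hv
  have hxv : x * v * x⁻¹ = v := conj_eq_of_comm (hv.2.2 x hx).symm
  obtain ⟨h1, h2⟩ := D.e_fixed v hvV hxv
  have heV := D.e_mem v hvV
  set e := v * (t * v * t⁻¹) * (t * (t * v * t⁻¹) * t⁻¹) with he
  refine ⟨V_le_P S hC j heV, hC.V_sq j e heV, ?_⟩
  -- `e` commutes with `X ⊔ zpowers t = P_j`
  have hcen : X ⊔ Subgroup.zpowers t ≤ Subgroup.centralizer {e} := by
    apply sup_le
    · intro y hy
      rw [Subgroup.mem_centralizer_iff]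
      intro z hz
      rw [Set.mem_singleton_iff] at hz
      subst hz
      exact (comm_of_conj_eq (comm_syl S hL hC hP j X hX x hx hxQ _ heV h1 y hy)).symm
    · rw [Subgroup.zpowers_le]
      rw [Subgroup.mem_centralizer_iff]
      intro z hz
      rw [Set.mem_singleton_iff] at hz
      subst hz
      exact (comm_of_conj_eq h2).symm
  rw [hL.sup_three j X hX t ht ho] at hcen
  intro y hy
  have := hcen hy
  rw [Subgroup.mem_centralizer_iff] at this
  exact (this e rfl).symm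

theorem conjData (j : ℤ) (X : Subgroup G) (hX : S.IsSyl j X) (s : G) (hs : s ∈ X) (hsQ : s ∉ S.Qj j)
    (t : G) (ht : t ∈ S.Pj j) (ho : orderOf t = 3) : ConjData (S.Vj j) s t := by
  have D0 := conjData0 S hL hC hP j X hX s hs hsQ t ht ho
  refine { D0 with hE := ?_ }
  -- `e v ∈ Y_j` for all `v ∈ V_j`, by induction on the supremum
  have key : ∀ v ∈ S.Vj j, v ∈ S.Vj j ∧
      v * (t * v * t⁻¹) * (t * (t * v * t⁻¹) * t⁻¹) ∈ S.Yj j := by
    intro v hv
    unfold Setup.Vj at hv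
    refine Subgroup.iSup_induction (fun g : S.Pj j => MulAut.conj (g : G) • S.Zj j)
      (C := fun v => v ∈ S.Vj j ∧ v * (t * v * t⁻¹) * (t * (t * v * t⁻¹) * t⁻¹) ∈ S.Yj j) hv ?_ ?_ ?_
    · intro g x hx
      have hx' : x ∈ zOf (MulAut.conj (g : G) • S.Tj j) := by
        rw [zOf_conj_smul]; exact hx
      have hSyl : S.IsSyl j (MulAut.conj (g : G) • S.Tj j) := by
        refine ⟨?_, ?_⟩
        · intro y hy
          rw [mem_conj_smul] at hy
          have h1 := S.Tj_le_left j hy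
          have h2 : y = (g : G) * ((g : G)⁻¹ * y * g) * (g : G)⁻¹ := by group
          rw [h2]
          exact (S.Pj j).mul_mem ((S.Pj j).mul_mem g.2 h1) ((S.Pj j).inv_mem g.2)
        · rw [Setup.card_conj_smul, S.card_Tj]
      exact ⟨hC.Z_le_V j _ hSyl hx', e_mem_Y S hL hC hP j _ hSyl t ht ho x hx'⟩
    · refine ⟨(S.Vj j).one_mem, ?_⟩
      have : (1 : G) * (t * 1 * t⁻¹) * (t * (t * 1 * t⁻¹) * t⁻¹) = 1 := by group
      rw [this]; exact (S.Yj j).one_mem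
    · intro x y hx hy
      refine ⟨(S.Vj j).mul_mem hx.1 hy.1, ?_⟩
      rw [D0.e_mul x y hx.1 hy.1]
      exact (S.Yj j).mul_mem hx.2 hy.2
  intro v hv
  have h := (key v hv).2
  exact conj_eq_of_comm (h.2.2 s (hX.1 hs)).symm


/-! ## identification of the subgroups -/

theorem sq_inv (j : ℤ) (v : G) (hv : v ∈ S.Vj j) : v⁻¹ = v := by
  rw [inv_eq_iff_mul_eq_one, ← pow_two]
  exact hC.V_sq j v hv

theorem mem_Y_of_fixed (j : ℤ) (X : Subgroup G) (hX : S.IsSyl j X) (s : G) (hs : s ∈ X)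
    (hsQ : s ∉ S.Qj j) (t : G) (ht : t ∈ S.Pj j) (ho : orderOf t = 3) (v : G) (hv : v ∈ S.Vj j)
    (h1 : s * v * s⁻¹ = v) (h2 : t * v * t⁻¹ = v) : v ∈ S.Yj j := by
  refine ⟨V_le_P S hC j hv, hC.V_sq j v hv, ?_⟩
  have hcen : X ⊔ Subgroup.zpowers t ≤ Subgroup.centralizer {v} := by
    apply sup_le
    · intro y hy
      rw [Subgroup.mem_centralizer_iff]
      intro z hz
      rw [Set.mem_singleton_iff] at hz
      subst hz
      exact (comm_of_conj_eq (comm_syl S hL hC hP j X hX s hs hsQ _ hv h1 y hy)).symm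
    · rw [Subgroup.zpowers_le, Subgroup.mem_centralizer_iff]
      intro z hz
      rw [Set.mem_singleton_iff] at hz
      subst hz
      exact (comm_of_conj_eq h2).symm
  rw [hL.sup_three j X hX t ht ho] at hcen
  intro y hy
  have := hcen hy
  rw [Subgroup.mem_centralizer_iff] at this
  exact (this v rfl).symm

theorem iff_Y (j : ℤ) (X : Subgroup G) (hX : S.IsSyl j X) (s : G) (hs : s ∈ X)
    (hsQ : s ∉ S.Qj j) (t : G) (ht : t ∈ S.Pj j) (ho : orderOf t = 3) (v : G) :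
    v ∈ S.Yj j ↔ v ∈ S.Vj j ∧ s * v * s⁻¹ = v ∧ t * v * t⁻¹ = v := by
  constructor
  · intro hv
    exact ⟨hC.Z_le_V j X hX (hC.Y_le_Z j X hX hv), conj_eq_of_comm (hv.2.2 s (hX.1 hs)).symm,
      conj_eq_of_comm (hv.2.2 t ht).symm⟩
  · rintro ⟨hv, h1, h2⟩
    exact mem_Y_of_fixed S hL hC hP j X hX s hs hsQ t ht ho v hv h1 h2

theorem iff_Z (j : ℤ) (X : Subgroup G) (hX : S.IsSyl j X) (s : G) (hs : s ∈ X)
    (hsQ : s ∉ S.Qj j) (v : G) : v ∈ zOf X ↔ v ∈ S.Vj j ∧ s * v * s⁻¹ = v := by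
  constructor
  · intro hv
    exact ⟨hC.Z_le_V j X hX hv, conj_eq_of_comm (hv.2.2 s hs).symm⟩
  · rintro ⟨hv, h1⟩
    refine ⟨hP.Q_le j X hX (hC.V_le_Q j hv), hC.V_sq j v hv, fun y hy => ?_⟩
    exact comm_of_conj_eq (comm_syl S hL hC hP j X hX s hs hsQ v hv h1 y hy)

theorem iff_B (j : ℤ) (X : Subgroup G) (hX : S.IsSyl j X) (s : G) (hs : s ∈ X)
    (hsQ : s ∉ S.Qj j) (t : G) (ht : t ∈ S.Pj j) (ho : orderOf t = 3) (x : G) :
    x ∈ ⁅S.Vj j, X⁆ ↔ ∃ u ∈ S.Vj j, x = u * (s * u * s⁻¹) := by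
  have D0 := conjData0 S hL hC hP j X hX s hs hsQ t ht ho
  obtain ⟨B, hB⟩ := D0.exists_subgroup_B
  constructor
  · intro hx
    rw [← hB]
    revert x
    change ⁅S.Vj j, X⁆ ≤ B
    rw [Subgroup.commutator_le]
    intro v hv y hy
    rw [hB, commutatorElement_def]
    have hvi := sq_inv S hL hC hP j v hv
    rcases syl_cases S hP j X hX s hs hsQ y hy with h | h
    · refine ⟨1, (S.Vj j).one_mem, ?_⟩
      have h1 := cen_Q S hC j y h v hv
      calc v * y * v⁻¹ * y⁻¹ = v * (y * v * y⁻¹)⁻¹ := by group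
        _ = 1 * (s * 1 * s⁻¹) := by rw [h1]; group
    · refine ⟨v, hv, ?_⟩
      have hw : s⁻¹ * v * s ∈ S.Vj j := by
        have := norm_V S hC j s⁻¹ ((S.Pj j).inv_mem (hX.1 hs)) v hv
        rwa [inv_inv] at this
      have h1 := cen_Q S hC j (y * s) h _ hw
      have h2 : s⁻¹ * v * s = s * v * s⁻¹ := by
        have := D0.s2 v hv
        calc s⁻¹ * v * s = s⁻¹ * (s * (s * v * s⁻¹) * s⁻¹) * s := by rw [this]
          _ = s * v * s⁻¹ := by group
      calc v * y * v⁻¹ * y⁻¹ = v * ((y * s) * (s⁻¹ * v⁻¹ * s) * (y * s)⁻¹) := by group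
        _ = v * ((y * s) * (s⁻¹ * v * s) * (y * s)⁻¹) := by rw [hvi]
        _ = v * (s * v * s⁻¹) := by rw [h1, h2]
  · rintro ⟨u, hu, rfl⟩
    have hui := sq_inv S hL hC hP j u hu
    have : u * (s * u * s⁻¹) = ⁅u, s⁆ := by
      rw [commutatorElement_def]
      nth_rewrite 2 [← hui]
      group
    rw [this]
    exact Subgroup.commutator_mem_commutator hu hs

theorem iff_W (j : ℤ) (X : Subgroup G) (hX : S.IsSyl j X) (s : G) (hs : s ∈ X)
    (hsQ : s ∉ S.Qj j) (t : G) (ht : t ∈ S.Pj j) (ho : orderOf t = 3) (x : G) :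
    x ∈ ⁅S.Vj j, Subgroup.zpowers t⁆ ↔ ∃ u ∈ S.Vj j, x = u * (t * u * t⁻¹) := by
  have D0 := conjData0 S hL hC hP j X hX s hs hsQ t ht ho
  have ht3 : t ^ 3 = 1 := by rw [← ho]; exact pow_orderOf_eq_one t
  obtain ⟨W, hW⟩ := D0.exists_subgroup_W
  constructor
  · intro hx
    rw [← hW]
    revert x
    change ⁅S.Vj j, Subgroup.zpowers t⁆ ≤ W
    rw [Subgroup.commutator_le]
    intro v hv y hy
    rw [hW, commutatorElement_def]
    have hvi := sq_inv S hL hC hP j v hv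
    obtain ⟨k, rfl⟩ := Subgroup.mem_zpowers_iff.mp hy
    have hk : t ^ k = t ^ (k % 3) := by
      have := zpow_mod_orderOf t k
      rw [ho] at this
      exact this.symm
    have h0 : 0 ≤ k % 3 := Int.emod_nonneg k (by norm_num)
    have h3 : k % 3 < 3 := Int.emod_lt_of_pos k (by norm_num)
    rw [hk]
    generalize k % 3 = r at h0 h3
    interval_cases r
    · refine ⟨1, (S.Vj j).one_mem, ?_⟩
      rw [zpow_zero]; group
    · refine ⟨v, hv, ?_⟩
      rw [zpow_one]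
      nth_rewrite 2 [← hvi]
      group
    · refine ⟨t * (t * v * t⁻¹) * t⁻¹, D0.tV _ (D0.tV v hv), ?_⟩
      have e1 : t * (t * (t * v * t⁻¹) * t⁻¹) * t⁻¹ = v := D0.t3 v hv
      rw [e1]
      have e2 : t ^ (2 : ℤ) = t * t := by
        rw [show (2 : ℤ) = 1 + 1 from rfl, zpow_add, zpow_one]
      rw [e2]
      have e3 : v * (t * t) * v⁻¹ * (t * t)⁻¹ = v * (t * (t * v⁻¹ * t⁻¹) * t⁻¹) := by group
      rw [e3, hvi]
      exact D0.comm _ hv _ (D0.tV _ (D0.tV v hv))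
  · rintro ⟨u, hu, rfl⟩
    have hui := sq_inv S hL hC hP j u hu
    have : u * (t * u * t⁻¹) = ⁅u, t⁆ := by
      rw [commutatorElement_def]
      nth_rewrite 2 [← hui]
      group
    rw [this]
    exact Subgroup.commutator_mem_commutator hu (Subgroup.mem_zpowers t)

theorem iff_Z' (j : ℤ) (X : Subgroup G) (hX : S.IsSyl j X) (s : G) (hs : s ∈ X)
    (hsQ : s ∉ S.Qj j) (t : G) (ht : t ∈ S.Pj j) (ho : orderOf t = 3) (v : G) :
    v ∈ zOf (MulAut.conj t • X) ↔ v ∈ S.Vj j ∧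
      s * (t * (t * v * t⁻¹) * t⁻¹) * s⁻¹ = t * (t * v * t⁻¹) * t⁻¹ := by
  have ht3 : t ^ 3 = 1 := by rw [← ho]; exact pow_orderOf_eq_one t
  have e2 : t⁻¹ = t * t := inv_eq_sq_of_cube ht3
  have e : t * (t * v * t⁻¹) * t⁻¹ = t⁻¹ * v * t := by
    calc t * (t * v * t⁻¹) * t⁻¹ = (t * t) * v * (t * t)⁻¹ := by group
      _ = t⁻¹ * v * t := by rw [← e2, inv_inv]
  rw [zOf_conj_smul, mem_conj_smul, iff_Z S hL hC hP j X hX s hs hsQ, e]
  constructor
  · rintro ⟨h1, h2⟩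
    refine ⟨?_, h2⟩
    have := norm_V S hC j t ht _ h1
    have e3 : t * (t⁻¹ * v * t) * t⁻¹ = v := by group
    rwa [e3] at this
  · rintro ⟨h1, h2⟩
    refine ⟨?_, h2⟩
    have := norm_V S hC j t⁻¹ ((S.Pj j).inv_mem ht) v h1
    rwa [inv_inv] at this

end chain

end Cfsg.Agent.Lib.H25.Sims
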