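import Cfsg.Agent.Lib.H25.SimsMOD

set_option autoImplicit false

/-!
# S3685 / S3385, piece (MOD): transport of the additive core to an elementary abelian subgroup `V` of a group,
acted on by conjugation by two elements `s`, `t` (helper25)
-/

namespace Cfsg.Agent.Lib.H25.Sims

variable {G : Type*} [Group G]

/-- conjugation data: `V` elementary abelian, normalized by `s` and `t`; `s²`, `t³`, `s t s⁻¹ t` centralize `V`;
`e v = v v^t v^(t²)` is centralized by `s` -/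
structure ConjData0 (V : Subgroup G) (s t : G) : Prop where
  comm : ∀ x ∈ V, ∀ y ∈ V, x * y = y * x
  sq : ∀ x ∈ V, x ^ 2 = 1
  sV : ∀ v ∈ V, s * v * s⁻¹ ∈ V
  tV : ∀ v ∈ V, t * v * t⁻¹ ∈ V
  s2 : ∀ v ∈ V, s * (s * v * s⁻¹) * s⁻¹ = v
  t3 : ∀ v ∈ V, t * (t * (t * v * t⁻¹) * t⁻¹) * t⁻¹ = v
  sts : ∀ v ∈ V, s * (t * (s * v * s⁻¹) * t⁻¹) * s⁻¹ = t * (t * v * t⁻¹) * t⁻¹

/-- conjugation data with `(5a)`: `e v = v v^t v^(t²)` is centralized by `s` -/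
structure ConjData (V : Subgroup G) (s t : G) : Prop extends ConjData0 V s t where
  hE : ∀ v ∈ V, s * (v * (t * v * t⁻¹) * (t * (t * v * t⁻¹) * t⁻¹)) * s⁻¹ =
    v * (t * v * t⁻¹) * (t * (t * v * t⁻¹) * t⁻¹)

/-- `V` written additively -/
@[ext] structure AV (V : Subgroup G) (_h : ∀ x ∈ V, ∀ y ∈ V, x * y = y * x) where
  val : G
  mem : val ∈ V

namespace AV

variable {V : Subgroup G} {h : ∀ x ∈ V, ∀ y ∈ V, x * y = y * x}

instance : Zero (AV V h) := ⟨⟨1, V.one_mem⟩⟩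
instance : Add (AV V h) := ⟨fun a b => ⟨a.val * b.val, V.mul_mem a.mem b.mem⟩⟩
instance : Neg (AV V h) := ⟨fun a => ⟨a.val⁻¹, V.inv_mem a.mem⟩⟩

@[simp] theorem val_zero : (0 : AV V h).val = 1 := rfl
@[simp] theorem val_add (a b : AV V h) : (a + b).val = a.val * b.val := rfl
@[simp] theorem val_neg (a : AV V h) : (-a).val = a.val⁻¹ := rfl

instance : AddCommGroup (AV V h) where
  add_assoc a b c := by ext; simp [mul_assoc]
  zero_add a := by ext; simp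
  add_zero a := by ext; simp
  nsmul := nsmulRec
  zsmul := zsmulRec
  neg_add_cancel a := by ext; simp
  add_comm a b := by ext; exact h a.val a.mem b.val b.mem

/-- conjugation by `g` as an additive endomorphism -/
def conj (g : G) (hg : ∀ v ∈ V, g * v * g⁻¹ ∈ V) : AV V h →+ AV V h where
  toFun a := ⟨g * a.val * g⁻¹, hg a.val a.mem⟩
  map_zero' := by ext; simp
  map_add' a b := by ext; simp [mul_assoc]

@[simp] theorem conj_val (g : G) (hg : ∀ v ∈ V, g * v * g⁻¹ ∈ V) (a : AV V h) :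
    (conj g hg a).val = g * a.val * g⁻¹ := rfl

/-- the equivalence with `↥V` -/
def equivSub : AV V h ≃ ↥V where
  toFun a := ⟨a.val, a.mem⟩
  invFun v := ⟨v.1, v.2⟩
  left_inv _ := rfl
  right_inv _ := rfl

end AV


section additive2

variable {A : Type*} [AddCommGroup A] {s t : A →+ A}

/-- `(5a)` as a hypothesis implies the generation hypothesis of the additive core -/
theorem S3Mod.hgen_of_hE (M : S3Mod s t) (hE : ∀ v, s (eM t v) = eM t v) :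
    AddSubgroup.closure {v : A | s v = v ∨ s (t v) = t v ∨ s (t (t v)) = t (t v)} = ⊤ := by
  rw [eq_top_iff]
  intro v _
  obtain ⟨h1, h2⟩ := M.comW_decomp (v + eM t v) (M.add_eM_mem_comW v)
  set w := v + eM t v with hw
  set a := t (t w) + s (t (t w)) with ha
  have hv : v = eM t v + a + (w + a) := by
    have : eM t v + a + (w + a) = (eM t v + w) + (a + a) := by abel
    rw [this, M.h2, add_zero, hw]
    exact M.decomp v
  rw [hv]
  refine add_mem (add_mem ?_ ?_) ?_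
  · exact AddSubgroup.subset_closure (Or.inl (hE v))
  · exact AddSubgroup.subset_closure (Or.inl h1)
  · refine AddSubgroup.subset_closure (Or.inr (Or.inr ?_))
    rw [conjS_apply] at h2
    have := congrArg (fun x => t (t x)) h2
    simp only [M.ht] at this
    exact this

end additive2

section transport

variable {V : Subgroup G} {s t : G}

/-- the module of the conjugation data -/
theorem ConjData0.s3mod (D : ConjData0 V s t) :
    S3Mod (AV.conj (h := D.comm) s D.sV) (AV.conj (h := D.comm) t D.tV) where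
  h2 v := by
    ext
    rw [AV.val_add, AV.val_zero, ← pow_two]
    exact D.sq v.val v.mem
  hs v := by ext; exact D.s2 v.val v.mem
  ht v := by ext; exact D.t3 v.val v.mem
  hst v := by ext; exact D.sts v.val v.mem

theorem ConjData.hE' (D : ConjData V s t) (v : AV V D.comm) :
    AV.conj (h := D.comm) s D.sV (eM (AV.conj (h := D.comm) t D.tV) v) =
      eM (AV.conj (h := D.comm) t D.tV) v := by
  ext
  exact D.hE v.val v.mem

/-- `e v` is fixed by `s` and `t` if `v` is fixed by `s` -/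
theorem ConjData0.e_fixed (D : ConjData0 V s t) (v : G) (hv : v ∈ V) (hsv : s * v * s⁻¹ = v) :
    s * (v * (t * v * t⁻¹) * (t * (t * v * t⁻¹) * t⁻¹)) * s⁻¹ =
        v * (t * v * t⁻¹) * (t * (t * v * t⁻¹) * t⁻¹) ∧
      t * (v * (t * v * t⁻¹) * (t * (t * v * t⁻¹) * t⁻¹)) * t⁻¹ =
        v * (t * v * t⁻¹) * (t * (t * v * t⁻¹) * t⁻¹) := by
  have M := D.s3mod
  have h1 := M.s_eM_of_fixed (⟨v, hv⟩ : AV V D.comm) (AV.ext hsv)
  have h2 := M.t_eM (⟨v, hv⟩ : AV V D.comm)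
  exact ⟨congrArg AV.val h1, congrArg AV.val h2⟩

/-- `e v ∈ V` -/
theorem ConjData0.e_mem (D : ConjData0 V s t) (v : G) (hv : v ∈ V) :
    v * (t * v * t⁻¹) * (t * (t * v * t⁻¹) * t⁻¹) ∈ V :=
  V.mul_mem (V.mul_mem hv (D.tV v hv)) (D.tV _ (D.tV v hv))

/-- `e` is multiplicative on `V` -/
theorem ConjData0.e_mul (D : ConjData0 V s t) (v w : G) (hv : v ∈ V) (hw : w ∈ V) :
    (v * w) * (t * (v * w) * t⁻¹) * (t * (t * (v * w) * t⁻¹) * t⁻¹) =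
      (v * (t * v * t⁻¹) * (t * (t * v * t⁻¹) * t⁻¹)) *
        (w * (t * w * t⁻¹) * (t * (t * w * t⁻¹) * t⁻¹)) := by
  have M := D.s3mod
  have h := S3Mod.eM_add (t := AV.conj (h := D.comm) t D.tV) (⟨v, hv⟩ : AV V D.comm) ⟨w, hw⟩
  exact congrArg AV.val h

/-- the subgroup of `G` of an additive subgroup of `AV` -/
def AV.toSubgroup {h : ∀ x ∈ V, ∀ y ∈ V, x * y = y * x} (H : AddSubgroup (AV V h)) : Subgroup G where
  carrier := {x | ∃ a ∈ H, a.val = x}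
  one_mem' := ⟨0, H.zero_mem, rfl⟩
  mul_mem' := by
    rintro _ _ ⟨a, ha, rfl⟩ ⟨b, hb, rfl⟩
    exact ⟨a + b, H.add_mem ha hb, rfl⟩
  inv_mem' := by
    rintro _ ⟨a, ha, rfl⟩
    exact ⟨-a, H.neg_mem ha, rfl⟩

theorem AV.mem_toSubgroup {h : ∀ x ∈ V, ∀ y ∈ V, x * y = y * x} (H : AddSubgroup (AV V h)) (x : G) :
    x ∈ AV.toSubgroup H ↔ ∃ a ∈ H, a.val = x := Iff.rfl

/-- the subgroup `{u * (s u s⁻¹)}` -/
theorem ConjData0.exists_subgroup_B (D : ConjData0 V s t) :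
    ∃ B : Subgroup G, ∀ x, x ∈ B ↔ ∃ u ∈ V, x = u * (s * u * s⁻¹) := by
  refine ⟨AV.toSubgroup (comB (AV.conj (h := D.comm) s D.sV)), fun x => ?_⟩
  rw [AV.mem_toSubgroup]
  constructor
  · rintro ⟨a, ha, rfl⟩
    obtain ⟨u, rfl⟩ := (mem_comB _ a).mp ha
    exact ⟨u.val, u.mem, rfl⟩
  · rintro ⟨u, hu, rfl⟩
    exact ⟨_, (mem_comB _ _).mpr ⟨⟨u, hu⟩, rfl⟩, rfl⟩

/-- the subgroup `{u * (t u t⁻¹)}` -/
theorem ConjData0.exists_subgroup_W (D : ConjData0 V s t) :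
    ∃ W : Subgroup G, ∀ x, x ∈ W ↔ ∃ u ∈ V, x = u * (t * u * t⁻¹) := by
  refine ⟨AV.toSubgroup (comW (AV.conj (h := D.comm) t D.tV)), fun x => ?_⟩
  rw [AV.mem_toSubgroup]
  constructor
  · rintro ⟨a, ha, rfl⟩
    obtain ⟨u, rfl⟩ := (mem_comW _ a).mp ha
    exact ⟨u.val, u.mem, rfl⟩
  · rintro ⟨u, hu, rfl⟩
    exact ⟨_, (mem_comW _ _).mpr ⟨⟨u, hu⟩, rfl⟩, rfl⟩

/-- cardinality of an additive subgroup of `AV` described by a subgroup of `G` -/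
theorem AV.card_eq {h : ∀ x ∈ V, ∀ y ∈ V, x * y = y * x} (H : AddSubgroup (AV V h)) (K : Subgroup G)
    (hK : K ≤ V) (hiff : ∀ a : AV V h, a ∈ H ↔ a.val ∈ K) : Nat.card H = Nat.card K := by
  refine Nat.card_congr
    { toFun := fun a => ⟨a.1.val, (hiff a.1).mp a.2⟩
      invFun := fun k => ⟨⟨k.1, hK k.2⟩, (hiff _).mpr k.2⟩
      left_inv := fun a => rfl
      right_inv := fun k => rfl }

theorem AV.card_univ {h : ∀ x ∈ V, ∀ y ∈ V, x * y = y * x} : Nat.card (AV V h) = Nat.card V :=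
  Nat.card_congr AV.equivSub


instance AV.finite {h : ∀ x ∈ V, ∀ y ∈ V, x * y = y * x} [Finite ↥V] : Finite (AV V h) :=
  Finite.of_equiv _ AV.equivSub.symm

theorem S3Mod.mem_fixS_conjS_iff {A : Type*} [AddCommGroup A] {s t : A →+ A} (M : S3Mod s t) (a : A) :
    a ∈ fixS (conjS s t) ↔ s (t (t a)) = t (t a) := by
  rw [mem_fixS, conjS_apply]
  constructor
  · intro h2
    have := congrArg (fun x => t (t x)) h2
    simp only [M.ht] at this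
    exact this
  · intro h
    rw [h, M.ht]

/-- the multiplicative form of the module facts -/
structure ModLocal (V Y Z B W : Subgroup G) (s t : G) : Prop where
  B_le_Z : B ≤ Z
  Z_eq : Z = Y ⊔ B
  Y_inf_B : Y ⊓ B = ⊥
  Y_sup_W : Y ⊔ W = V
  Y_inf_W : Y ⊓ W = ⊥
  B_le_W : B ≤ W
  card_V : Nat.card V = Nat.card Y * Nat.card B ^ 2
  card_W : Nat.card W = Nat.card B ^ 2
  card_Z : Nat.card Z = Nat.card Y * Nat.card B
  fixT : ∀ v ∈ V, t * v * t⁻¹ = v → v ∈ Y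
  W_s : ∀ w ∈ W, s * w * s⁻¹ ∈ W
  W_t : ∀ w ∈ W, t * w * t⁻¹ ∈ W

theorem ConjData.modLocal [Finite G] (D : ConjData V s t) (Y Z B W : Subgroup G)
    (hY : ∀ v, v ∈ Y ↔ v ∈ V ∧ s * v * s⁻¹ = v ∧ t * v * t⁻¹ = v)
    (hZ : ∀ v, v ∈ Z ↔ v ∈ V ∧ s * v * s⁻¹ = v)
    (hB : ∀ x, x ∈ B ↔ ∃ u ∈ V, x = u * (s * u * s⁻¹))
    (hW : ∀ x, x ∈ W ↔ ∃ u ∈ V, x = u * (t * u * t⁻¹)) : ModLocal V Y Z B W s t := by
  set σ := AV.conj (h := D.comm) s D.sV with hσ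
  set τ := AV.conj (h := D.comm) t D.tV with hτ
  have M : S3Mod σ τ := D.toConjData0.s3mod
  have hE : ∀ v, σ (eM τ v) = eM τ v := D.hE'
  have hgen := M.hgen_of_hE hE
  have hYV : Y ≤ V := fun v hv => ((hY v).mp hv).1
  have hZV : Z ≤ V := fun v hv => ((hZ v).mp hv).1
  have hBV : B ≤ V := by
    intro x hx
    obtain ⟨u, hu, rfl⟩ := (hB x).mp hx
    exact V.mul_mem hu (D.sV u hu)
  have hWV : W ≤ V := by
    intro x hx
    obtain ⟨u, hu, rfl⟩ := (hW x).mp hx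
    exact V.mul_mem hu (D.tV u hu)
  have iY : ∀ a : AV V D.comm, a ∈ fixY σ τ ↔ a.val ∈ Y := by
    intro a
    rw [mem_fixY, hY, AV.ext_iff, AV.ext_iff]
    exact ⟨fun h => ⟨a.mem, h.1, h.2⟩, fun h => ⟨h.2.1, h.2.2⟩⟩
  have iZ : ∀ a : AV V D.comm, a ∈ fixS σ ↔ a.val ∈ Z := by
    intro a
    rw [mem_fixS, hZ, AV.ext_iff]
    exact ⟨fun h => ⟨a.mem, h⟩, fun h => h.2⟩
  have iT : ∀ a : AV V D.comm, a ∈ fixS τ ↔ t * a.val * t⁻¹ = a.val := by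
    intro a
    rw [mem_fixS, AV.ext_iff]
    rfl
  have iB : ∀ a : AV V D.comm, a ∈ comB σ ↔ a.val ∈ B := by
    intro a
    rw [mem_comB, hB]
    constructor
    · rintro ⟨u, rfl⟩
      exact ⟨u.val, u.mem, rfl⟩
    · rintro ⟨u, hu, h⟩
      exact ⟨⟨u, hu⟩, AV.ext h.symm⟩
  have iW : ∀ a : AV V D.comm, a ∈ comW τ ↔ a.val ∈ W := by
    intro a
    rw [mem_comW, hW]
    constructor
    · rintro ⟨u, rfl⟩
      exact ⟨u.val, u.mem, rfl⟩
    · rintro ⟨u, hu, h⟩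
      exact ⟨⟨u, hu⟩, AV.ext h.symm⟩
  -- transfer of inclusions
  have le_of : ∀ (H1 H2 : AddSubgroup (AV V D.comm)) (K1 K2 : Subgroup G), K1 ≤ V →
      (∀ a, a ∈ H1 ↔ a.val ∈ K1) → (∀ a, a ∈ H2 ↔ a.val ∈ K2) → H1 ≤ H2 → K1 ≤ K2 := by
    intro H1 H2 K1 K2 hK1 i1 i2 hle x hx
    exact (i2 ⟨x, hK1 hx⟩).mp (hle ((i1 ⟨x, hK1 hx⟩).mpr hx))
  have sup_of : ∀ (H1 H2 H3 : AddSubgroup (AV V D.comm)) (K1 K2 K3 : Subgroup G), K3 ≤ V →
      (∀ a, a ∈ H1 ↔ a.val ∈ K1) → (∀ a, a ∈ H2 ↔ a.val ∈ K2) → (∀ a, a ∈ H3 ↔ a.val ∈ K3) →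
      H3 ≤ H1 ⊔ H2 → K3 ≤ K1 ⊔ K2 := by
    intro H1 H2 H3 K1 K2 K3 hK3 i1 i2 i3 hle x hx
    have := hle ((i3 ⟨x, hK3 hx⟩).mpr hx)
    obtain ⟨a, ha, b, hb, hab⟩ := AddSubgroup.mem_sup.mp this
    have hx' : x = a.val * b.val := by
      have := congrArg AV.val hab
      exact this.symm
    rw [hx']
    exact Subgroup.mul_mem_sup ((i1 a).mp ha) ((i2 b).mp hb)
  have inf_of : ∀ (H1 H2 : AddSubgroup (AV V D.comm)) (K1 K2 : Subgroup G), K1 ≤ V →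
      (∀ a, a ∈ H1 ↔ a.val ∈ K1) → (∀ a, a ∈ H2 ↔ a.val ∈ K2) → H1 ⊓ H2 = ⊥ → K1 ⊓ K2 = ⊥ := by
    intro H1 H2 K1 K2 hK1 i1 i2 hbot
    rw [eq_bot_iff]
    rintro x ⟨h1, h2⟩
    have : (⟨x, hK1 h1⟩ : AV V D.comm) ∈ H1 ⊓ H2 := ⟨(i1 _).mpr h1, (i2 _).mpr h2⟩
    rw [hbot, AddSubgroup.mem_bot] at this
    exact congrArg AV.val this
  have iTop : ∀ a : AV V D.comm, a ∈ (⊤ : AddSubgroup (AV V D.comm)) ↔ a.val ∈ V :=
    fun a => ⟨fun _ => a.mem, fun _ => trivial⟩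
  have hBZ : B ≤ Z := le_of _ _ _ _ hBV iB iZ M.comB_le_fixS
  have hBW : B ≤ W := le_of _ _ _ _ hBV iB iW (M.comB_le_comW hgen)
  have hYZ : Y ≤ Z := le_of _ _ _ _ hYV iY iZ inf_le_left
  refine
    { B_le_Z := hBZ
      Z_eq := le_antisymm (sup_of _ _ _ _ _ _ hZV iY iB iZ (M.fixS_eq hgen).le) (sup_le hYZ hBZ)
      Y_inf_B := ?_
      Y_sup_W := le_antisymm (sup_le hYV hWV)
        (sup_of _ _ _ _ _ _ le_rfl iY iW iTop (M.fixY_sup_comW hgen).ge)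
      Y_inf_W := inf_of _ _ _ _ hYV iY iW M.fixY_inf_comW
      B_le_W := hBW
      card_V := ?_
      card_W := ?_
      card_Z := ?_
      fixT := ?_
      W_s := ?_
      W_t := ?_ }
  · rw [eq_bot_iff]
    have h0 := inf_of _ _ _ _ hYV iY iW M.fixY_inf_comW
    rw [← h0]
    exact inf_le_inf_left _ hBW
  · rw [← AV.card_univ (h := D.comm), M.card_V hgen, AV.card_eq _ Y hYV iY, AV.card_eq _ B hBV iB]
  · rw [← AV.card_eq _ W hWV iW, M.card_comW hgen, AV.card_eq _ B hBV iB]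
  · rw [← AV.card_eq _ Z hZV iZ, M.card_fixS hgen, AV.card_eq _ Y hYV iY, AV.card_eq _ B hBV iB]
  · intro v hv hfix
    have h1 : (⟨v, hv⟩ : AV V D.comm) ∈ fixS τ := (iT _).mpr hfix
    rw [M.fixT_eq_fixY hgen] at h1
    exact (iY _).mp h1
  · intro w hw
    have h1 : (⟨w, hWV hw⟩ : AV V D.comm) ∈ comW τ := (iW _).mpr hw
    exact (iW _).mp (M.s_mem_comW _ h1)
  · intro w hw
    have h1 : (⟨w, hWV hw⟩ : AV V D.comm) ∈ comW τ := (iW _).mpr hw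
    exact (iW _).mp (S3Mod.t_mem_comW _ h1)

/-- the facts about a second Sylow subgroup: `Z'` is the fixed space of `t s t⁻¹` -/
theorem ConjData.modLocal' (D : ConjData V s t) (Z Z' B : Subgroup G)
    (hZ : ∀ v, v ∈ Z ↔ v ∈ V ∧ s * v * s⁻¹ = v)
    (hZ' : ∀ v, v ∈ Z' ↔ v ∈ V ∧ s * (t * (t * v * t⁻¹) * t⁻¹) * s⁻¹ = t * (t * v * t⁻¹) * t⁻¹)
    (hB : ∀ x, x ∈ B ↔ ∃ u ∈ V, x = u * (s * u * s⁻¹)) :
    Z ⊔ Z' = V ∧ ∀ x ∈ B, ∃ z ∈ Z', x = z * (s * z * s⁻¹) := by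
  set σ := AV.conj (h := D.comm) s D.sV with hσ
  set τ := AV.conj (h := D.comm) t D.tV with hτ
  have M : S3Mod σ τ := D.toConjData0.s3mod
  have hE : ∀ v, σ (eM τ v) = eM τ v := D.hE'
  have hgen := M.hgen_of_hE hE
  have iZ : ∀ a : AV V D.comm, a ∈ fixS σ ↔ a.val ∈ Z := by
    intro a
    rw [mem_fixS, hZ, AV.ext_iff]
    exact ⟨fun h => ⟨a.mem, h⟩, fun h => h.2⟩
  have iZ' : ∀ a : AV V D.comm, a ∈ fixS (conjS σ τ) ↔ a.val ∈ Z' := by
    intro a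
    rw [M.mem_fixS_conjS_iff, hZ', AV.ext_iff]
    exact ⟨fun h => ⟨a.mem, h⟩, fun h => h.2⟩
  constructor
  · apply le_antisymm
    · exact sup_le (fun v hv => ((hZ v).mp hv).1) (fun v hv => ((hZ' v).mp hv).1)
    · intro x hx
      have : (⟨x, hx⟩ : AV V D.comm) ∈ fixS σ ⊔ fixS (conjS σ τ) := by
        rw [M.fixS_sup_fixS' hgen]; trivial
      obtain ⟨a, ha, b, hb, hab⟩ := AddSubgroup.mem_sup.mp this
      have hx' : x = a.val * b.val := (congrArg AV.val hab).symm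
      rw [hx']
      exact Subgroup.mul_mem_sup ((iZ a).mp ha) ((iZ' b).mp hb)
  · intro x hx
    obtain ⟨u, hu, rfl⟩ := (hB x).mp hx
    have hmem : (⟨u, hu⟩ : AV V D.comm) + σ ⟨u, hu⟩ ∈ comB σ := (mem_comB σ _).mpr ⟨_, rfl⟩
    obtain ⟨z, hz, hzx⟩ := M.comB_eq_map_fixS' hgen _ hmem
    refine ⟨z.val, (iZ' z).mp hz, ?_⟩
    exact (congrArg AV.val hzx).symm

end transport

end Cfsg.Agent.Lib.H25.Sims
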