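import Mathlib

set_option autoImplicit false

/-!
# S3685 / S3385, piece (RED): from a primitive action with a suborbit of length 3 to the subgroup setting
(helper25; blueprint `tools/blueprints/S3685.md`, section 0)
-/

open scoped Pointwise

namespace Cfsg.Agent.Lib.H25.Sims

open MulAction

/-- (RED) from the permutation statement to the subgroup setting -/
theorem red {G Ω : Type*} [Group G] [Finite G] [MulAction G Ω] [FaithfulSMul G Ω]
    (hprim : MulAction.IsPreprimitive G Ω) (a b : Ω)
    (h3 : Nat.card (MulAction.orbit (MulAction.stabilizer G a) b) = 3) :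
    ∃ h : G, (∀ X : Subgroup G, X ≤ MulAction.stabilizer G a → X ≠ ⊥ →
        MulAction.stabilizer G a ≤ Subgroup.normalizer (X : Set G) →
        Subgroup.normalizer (X : Set G) ≤ MulAction.stabilizer G a) ∧
      Nat.card (MulAction.stabilizer G a) =
        3 * Nat.card ↥(MulAction.stabilizer G a ⊓ MulAut.conj h • MulAction.stabilizer G a) := by
  have htr : IsPretransitive G Ω := hprim.toIsPretransitive
  obtain ⟨h, hh⟩ := exists_smul_eq G a b
  refine ⟨h, ?_, ?_⟩
  · -- (A1)
    have hnt : Nontrivial Ω := by
      by_contra hsub
      rw [not_nontrivial_iff_subsingleton] at hsub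
      have : Nat.card (orbit (stabilizer G a) b) ≤ 1 :=
        Finite.card_le_one_iff_subsingleton.mpr inferInstance
      omega
    have hco : IsCoatom (stabilizer G a) :=
      IsPreprimitive.isCoatom_stabilizer_of_isPreprimitive (G := G) a
    intro X hXP hX1 hPN
    rcases hco.le_iff.mp hPN with htop | heq
    · exfalso
      apply hX1
      rw [eq_bot_iff]
      intro x hx
      rw [Subgroup.mem_bot]
      apply FaithfulSMul.eq_of_smul_eq_smul (α := Ω)
      intro c
      rw [one_smul]
      obtain ⟨g, rfl⟩ := exists_smul_eq G a c
      have hg : g ∈ Subgroup.normalizer (X : Set G) := by rw [htop]; trivial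
      have h1 : g⁻¹ * x * g ∈ X := (Subgroup.mem_normalizer_iff''.mp hg x).mp hx
      have h2 := hXP h1
      rw [mem_stabilizer_iff, mul_smul, mul_smul] at h2
      calc x • g • a = g • (g⁻¹ • x • g • a) := by rw [smul_inv_smul]
        _ = g • a := by rw [h2]
    · exact heq.le
  · -- (A2)
    set P : Subgroup G := stabilizer G a with hP
    have hstab : stabilizer G b = MulAut.conj h • P := by
      rw [← hh, stabilizer_smul_eq_stabilizer_map_conj]
      rfl
    have hidx : (stabilizer ↥P b).index = 3 := by
      rw [index_stabilizer, ← _root_.Nat.card_coe_set_eq]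
      exact h3
    have hcard : Nat.card ↥(stabilizer ↥P b) = Nat.card ↥(P ⊓ MulAut.conj h • P) := by
      rw [← hstab]
      refine Nat.card_congr
        { toFun := fun x => ⟨((x : ↥P) : G), ⟨(x : ↥P).2, ?_⟩⟩
          invFun := fun y => ⟨⟨(y : G), y.2.1⟩, ?_⟩
          left_inv := fun x => rfl
          right_inv := fun y => rfl }
      · have hx : (x : ↥P) • b = b := x.2
        show ((x : ↥P) : G) ∈ stabilizer G b
        rw [mem_stabilizer_iff]
        exact hx
      · have hy : (y : G) ∈ stabilizer G b := y.2.2
        rw [mem_stabilizer_iff] at hy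
        show (⟨(y : G), y.2.1⟩ : ↥P) • b = b
        exact hy
    have := Subgroup.card_mul_index (stabilizer ↥P b)
    rw [hidx, hcard] at this
    omega

end Cfsg.Agent.Lib.H25.Sims
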