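import Cfsg.Agent.Lib.H25.SoSubTa

/-!
# S5659 task T: one transvection with a rational singular centre generates everything
-/

set_option autoImplicit false
set_option linter.unusedSectionVars false
set_option linter.unusedVariables false
set_option linter.unusedSimpArgs false

namespace Cfsg.Agent.Lib.H25.SoSub

open Matrix
open Cfsg.Agent.S0837 (Bs Bs_apply Bs_symm Bs_nondeg)
open Cfsg.Agent.S0781 (Em Em_mulVec)
open Cfsg.Agent.Lib.H11.UGen (Um Um_mulVec)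
open Cfsg.Agent.Lib.H10.Sf (IsRat)
open Cfsg.Agent.Lib.H10.Su
open Cfsg.Agent.Lib.H10.So
open Cfsg.Agent.Lib.H9.SuSub (Wset Wset_zero Wset_add Wset_smul_self Wset_short)
open Cfsg.Agent.Lib.H11.SuPar (Cen Cen_smul Cen_act Cen_of_smul eq_of_Cen_all)
open Cfsg.Agent.Lib.H11.SuSp (tv tv_val)

variable {F : Type*} [Field F] [Fintype F] {n q : ℕ}
variable {φ : F →+* F} {F₀ : Subfield F} {P : GL (Fin n) F} {H : Subgroup (GL (Fin n) F)}

/-- every rational vector orthogonal to the rational vectors `vs i` is a sum of three rational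
singular vectors orthogonal to the `vs i` -/
theorem exists_three_sing (R : RS φ n q F₀ P) {k : ℕ} (vs : Fin k → Fin n → F)
    (hvs : ∀ i, RatV F₀ P (vs i)) (hk : 2 * (k + 1) + 3 ≤ n) {x : Fin n → F} (hx : RatV F₀ P x)
    (hvx : ∀ i, Bs φ n (vs i) x = 0) :
    ∃ s₁ s₂ s₃ : Fin n → F, RatV F₀ P s₁ ∧ RatV F₀ P s₂ ∧ RatV F₀ P s₃ ∧
      Bs φ n s₁ s₁ = 0 ∧ Bs φ n s₂ s₂ = 0 ∧ Bs φ n s₃ s₃ = 0 ∧
      (∀ i, Bs φ n (vs i) s₁ = 0) ∧ (∀ i, Bs φ n (vs i) s₂ = 0) ∧ (∀ i, Bs φ n (vs i) s₃ = 0) ∧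
      x = s₁ + s₂ + s₃ := by
  have hrat : ∀ i, RatV F₀ P ((Fin.cons x vs : Fin (k + 1) → Fin n → F) i) := by
    intro i
    refine Fin.cases ?_ (fun j => ?_) i
    · simpa using hx
    · simpa using hvs j
  obtain ⟨e, f, he, hf, hee, hff, hef, hve, hvf⟩ :=
    R.exists_hyp_perp (Fin.cons x vs : Fin (k + 1) → Fin n → F) hrat hk
  have hxe : Bs φ n x e = 0 := by simpa using hve 0
  have hxf : Bs φ n x f = 0 := by simpa using hvf 0
  have hvse : ∀ i, Bs φ n (vs i) e = 0 := fun i => by simpa using hve i.succ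
  have hvsf : ∀ i, Bs φ n (vs i) f = 0 := fun i => by simpa using hvf i.succ
  have hex : Bs φ n e x = 0 := B_zero_symm φ R.hφ2 hxe
  have hfx : Bs φ n f x = 0 := B_zero_symm φ R.hφ2 hxf
  have hfe : Bs φ n f e = 1 := by rw [R.B_symm hf he]; exact hef
  have hκ : Bs φ n x x / 2 ∈ F₀ := F₀.div_mem (R.hB x x hx hx) R.two_mem
  have hφκ := R.fix hκ
  refine ⟨x + e - (Bs φ n x x / 2) • f, -e, (Bs φ n x x / 2) • f,
    (hx.add he).sub (hf.smul hκ), he.neg, hf.smul hκ, ?_, ?_, ?_, fun i => ?_, fun i => ?_,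
    fun i => ?_, by module⟩
  · simp only [map_add, map_sub, map_smulₛₗ, map_smul, LinearMap.add_apply, LinearMap.sub_apply,
      LinearMap.smul_apply, smul_eq_mul, hee, hff, hef, hfe, hxe, hxf, hex, hfx, hφκ,
      RingHom.id_apply]
    have := R.h2
    field_simp
    ring
  · simp only [map_neg, LinearMap.neg_apply, hee, neg_zero]
  · simp only [map_smulₛₗ, map_smul, LinearMap.smul_apply, smul_eq_mul, hff, mul_zero]
  · simp only [map_add, map_sub, map_smul, hvx i, hvse i, hvsf i, smul_zero, add_zero, sub_zero]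
  · simp only [map_neg, hvse i, neg_zero]
  · simp only [map_smul, hvsf i, smul_zero]

/-- step (d): every vector orthogonal to a rational singular vector is in `Wset` -/
theorem perp_mem_Wset (C : HC φ n q F₀ P H)
    (hT : ∀ u, RatV F₀ P u → Bs φ n u u = 0 → TVs φ H u) {y : Fin n → F}
    (hy : RatV F₀ P y) (hy0 : y ≠ 0) (hyy : Bs φ n y y = 0) {w : Fin n → F}
    (hw : Bs φ n y w = 0) : w ∈ Wset φ H y := by
  have R := C.R
  have hφ2 := R.hφ2
  have hn := R.hn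
  have hφne := Cfsg.Agent.S0837.phi_ne_id φ R.hF R.hφ
  have hU : ∀ c, c + φ c = 0 → InH H (Um φ y c) := hT y hy hyy
  obtain ⟨θ, hθ0, hθ, -⟩ := R.exists_theta
  obtain ⟨w₁, w₂, hw₁, hw₂, rfl⟩ := R.decomp hθ0 hθ w
  have hyw : Bs φ n y w₁ = 0 ∧ Bs φ n y w₂ = 0 := by
    rw [map_add, map_smul, smul_eq_mul] at hw
    exact R.scalar_unique hθ0 hθ (R.hB y w₁ hy hw₁) (R.hB y w₂ hy hw₂) hw
  apply Wset_add hφ2 hyy hφne
  · -- the rational part
    refine ⟨hyw.1, fun s hs => ?_⟩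
    have hN := (R.Em_half hy hw₁ hyy hyw.1).mono C.hN
    have hw₁y : Bs φ n w₁ y = 0 := B_zero_symm φ hφ2 hyw.1
    have e := Em_mul φ hφ2 y w₁ 0 (-(Bs φ n w₁ w₁) / 2) (s - (-(Bs φ n w₁ w₁) / 2)) hyy
      (map_zero _) hw₁y
    have hU' : InH H (Em φ y 0 (s - (-(Bs φ n w₁ w₁) / 2))) := by
      rw [← Um_eq_Em φ hφ2 y _ hyy]
      apply hU
      have := (R.half_mem hw₁).2
      rw [map_sub]
      linear_combination hs - this
    have h2 := hN.mul hU'
    rw [e] at h2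
    simpa using h2
  · -- the imaginary part
    have hrat : ∀ i, RatV F₀ P (![y] i) := by
      intro i; fin_cases i; exact hy
    obtain ⟨s₁, s₂, s₃, hs₁, hs₂, hs₃, h11, h22, h33, hp₁, hp₂, hp₃, hsum⟩ :=
      exists_three_sing R ![y] hrat (by omega) hw₂ (by
        intro i; fin_cases i; exact hyw.2)
    have hys₁ : Bs φ n y s₁ = 0 := hp₁ 0
    have hys₂ : Bs φ n y s₂ = 0 := hp₂ 0
    have hys₃ : Bs φ n y s₃ = 0 := hp₃ 0
    have e : θ • w₂ = θ • s₁ + θ • s₂ + θ • s₃ := by rw [hsum]; module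
    rw [e]
    refine Wset_add hφ2 hyy hφne (Wset_add hφ2 hyy hφne ?_ ?_) ?_
    · exact Wset_short hφ2 hyy hU h11 hys₁
        (fun β => short_all C hT hy hy0 hyy hs₁ h11 hys₁ β) θ
    · exact Wset_short hφ2 hyy hU h22 hys₂
        (fun β => short_all C hT hy hy0 hyy hs₂ h22 hys₂ β) θ
    · exact Wset_short hφ2 hyy hU h33 hys₃
        (fun β => short_all C hT hy hy0 hyy hs₃ h33 hys₃ β) θ

/-- a non-zero vector pairs non-trivially with some rational singular vector -/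
theorem exists_sing_pair_ne (R : RS φ n q F₀ P) {v : Fin n → F} (hv0 : v ≠ 0) :
    ∃ y, RatV F₀ P y ∧ Bs φ n y y = 0 ∧ Bs φ n y v ≠ 0 := by
  have hn := R.hn
  by_contra hcon
  push Not at hcon
  apply hv0
  apply R.nondeg_rat
  intro w hw
  obtain ⟨s₁, s₂, s₃, hs₁, hs₂, hs₃, h11, h22, h33, -, -, -, hsum⟩ :=
    exists_three_sing R (k := 0) (fun i => Fin.elim0 i) (fun i => Fin.elim0 i) (by omega) hw
      (fun i => Fin.elim0 i)
  rw [hsum, map_add, map_add, LinearMap.add_apply, LinearMap.add_apply, hcon s₁ hs₁ h11,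
    hcon s₂ hs₂ h22, hcon s₃ hs₃ h33]
  ring

theorem rat_mem_Cen (R : RS φ n q F₀ P)
    (hT : ∀ u, RatV F₀ P u → Bs φ n u u = 0 → TVs φ H u) {y : Fin n → F}
    (hy : RatV F₀ P y) (hyy : Bs φ n y y = 0) : y ∈ Cen R.hφ R.hφ2 H := by
  intro c hv hc
  apply InH.mem
  rw [tv_val]
  exact hT y hy hyy c hc

/-- step (e): every isotropic vector is a centre -/
theorem mem_Cen (C : HC φ n q F₀ P H)
    (hT : ∀ u, RatV F₀ P u → Bs φ n u u = 0 → TVs φ H u) (v : Fin n → F)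
    (hv : Bs φ n v v = 0) : v ∈ Cen C.R.hφ C.R.hφ2 H := by
  have R := C.R
  have hφ2 := R.hφ2
  by_cases hv0 : v = 0
  · have h1 := Cen_smul R.hφ R.hφ2 (rat_mem_Cen (H := H) R hT RatV.zero (by rw [map_zero]))
      (0 : F)
    rwa [zero_smul, ← hv0] at h1
  · obtain ⟨y, hy, hyy, hBv⟩ := exists_sing_pair_ne R hv0
    have hy0 : y ≠ 0 := by
      rintro rfl
      apply hBv
      rw [map_zero, LinearMap.zero_apply]
    obtain ⟨z', hz', hzz, hb⟩ := R.exists_partner hy hy0 hyy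
    obtain ⟨a, ha⟩ : ∃ a, Bs φ n y v = a := ⟨_, rfl⟩
    rw [ha] at hBv
    obtain ⟨v', hv'⟩ : ∃ v', v' = (1 / a) • v := ⟨_, rfl⟩
    have hyv' : Bs φ n y v' = 1 := by
      rw [hv', map_smul, smul_eq_mul, ha, div_mul_cancel₀ _ hBv]
    have hv'v' : Bs φ n v' v' = 0 := by
      rw [hv']
      simp only [map_smulₛₗ, map_smul, LinearMap.smul_apply, smul_eq_mul, hv, mul_zero]
    obtain ⟨t, ht⟩ : ∃ t, Bs φ n v' z' = t := ⟨_, rfl⟩
    have htz : Bs φ n z' v' = φ t := by rw [← ht]; exact (B_symm' φ hφ2 _ _).symm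
    obtain ⟨w, hw⟩ : ∃ w, w = v' - z' := ⟨_, rfl⟩
    have hyw : Bs φ n y w = 0 := by
      rw [hw, map_sub, hyv', hb, sub_self]
    have hwz : Bs φ n w z' = t := by
      rw [hw, map_sub, LinearMap.sub_apply, hzz, sub_zero, ht]
    have hww : Bs φ n w w = -(t + φ t) := by
      rw [hw]
      simp only [map_sub, LinearMap.sub_apply, hv'v', hzz, ht, htz]
      ring
    have hs : t + φ t + Bs φ n w w = 0 := by
      rw [hww]; ring
    obtain ⟨g, hg, hgM⟩ := (perp_mem_Wset C hT hy hy0 hyy hyw).2 t hs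
    have hgz : g.1 *ᵥ z' = v' := by
      have h1 : g.1 = Em φ y w t := hgM
      rw [h1, Em_mulVec φ hφ2 _ _ _ hyy, hb, hwz]
      rw [mul_one, sub_self, zero_smul, add_zero, hw, one_smul]
      abel
    have h1 := Cen_act R.hφ R.hφ2 C.hGU (rat_mem_Cen (H := H) R hT hz' hzz) hg
    rw [hgz, hv'] at h1
    exact Cen_of_smul R.hφ R.hφ2 (div_ne_zero one_ne_zero hBv) h1

/-- **T (one transvection with a rational singular centre ⟹ everything)**. -/
theorem eq_top_of_tv (C : HC φ n q F₀ P H) {z : Fin n → F} {c : F} (hz : RatV F₀ P z)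
    (hz0 : z ≠ 0) (hzz : Bs φ n z z = 0) (hc : c + φ c = 0) (hc0 : c ≠ 0)
    (h : InH H (Um φ z c)) :
    H = Cfsg.GU n F q ⊓ Cfsg.Geo.specialLinear (Fin n) F := by
  have R := C.R
  have hn := R.hn
  have hT : ∀ u, RatV F₀ P u → Bs φ n u u = 0 → TVs φ H u :=
    fun u hu huu => tv_all C hz hz0 hzz hc hc0 h hu huu
  exact eq_of_Cen_all R.hφ R.hφ2 R.hF (by omega) (by omega) C.hH
    (fun y hy => mem_Cen C hT y hy)

end Cfsg.Agent.Lib.H25.SoSub
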