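import Cfsg.Agent.Lib.H10.SoD
import Cfsg.Agent.Lib.H9.SuSubA
import Cfsg.Agent.Lib.H11.SuPar1

/-!
# S5659 task T (part a): from one transvection with a rational singular centre to all
transvections and all short root elements with rational singular centres.
-/

set_option autoImplicit false
set_option linter.unusedSectionVars false
set_option linter.unusedVariables false
set_option linter.unusedSimpArgs false

namespace Cfsg.Agent.Lib.H25.SoSub

open Matrix
open Cfsg.Agent.S0837 (Bs Bs_apply Bs_symm Bs_nondeg)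
open Cfsg.Agent.S0781 (Em Em_mulVec)
open Cfsg.Agent.Lib.H11.UGen (Um Um_mulVec)
open Cfsg.Agent.Lib.H10.Sf (IsRat)
open Cfsg.Agent.Lib.H10.Su
open Cfsg.Agent.Lib.H10.So

variable {F : Type*} [Field F] [Fintype F] {n q : ℕ}
variable {φ : F →+* F} {F₀ : Subfield F} {P : GL (Fin n) F} {H : Subgroup (GL (Fin n) F)}

/-- all transvections with centre `u` lie in `H` -/
def TVs (φ : F →+* F) (H : Subgroup (GL (Fin n) F)) (u : Fin n → F) : Prop :=
  ∀ c, c + φ c = 0 → InH H (Um φ u c)

theorem Um_zero_vec (c : F) : Um φ (0 : Fin n → F) c = 1 := by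
  rw [Matrix.ext_iff_mulVec]
  intro x
  rw [Um_mulVec, smul_zero, add_zero, Matrix.one_mulVec]

theorem TVs_zero : TVs φ H (0 : Fin n → F) := by
  intro c _
  rw [Um_zero_vec]
  exact InH.one H

/-- the conjugation step: `Um z c` conjugates a rational long root element to
`Em y' (y + c z) 0` -/
theorem conj_step (C : HC φ n q F₀ P H) {z y' : Fin n → F} {c : F} (hz : RatV F₀ P z)
    (hy' : RatV F₀ P y') (hy'y' : Bs φ n y' y' = 0) (hzy' : Bs φ n z y' = 0)
    (hli : LinearIndependent F ![z, y']) (h : InH H (Um φ z c)) :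
    ∃ y, RatV F₀ P y ∧ Bs φ n y y = 0 ∧ Bs φ n y' y = 0 ∧ Bs φ n y y' = 0 ∧ Bs φ n z y = 1 ∧
      Bs φ n y z = 1 ∧ InH H (Em φ y' (y + c • z) 0) := by
  have R := C.R
  have hφ2 := R.hφ2
  have hn := R.hn
  have hrat : ∀ i, RatV F₀ P (![z, y'] i) := by
    intro i; fin_cases i
    · exact hz
    · exact hy'
  obtain ⟨y, hy, hyy, hyp⟩ := R.exists_sing_pairing ![z, y'] hrat hli ![1, 0]
    (by intro j; fin_cases j
        · exact F₀.one_mem
        · exact F₀.zero_mem) (by omega)
  have hyz : Bs φ n y z = 1 := by simpa using hyp 0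
  have hyy' : Bs φ n y y' = 0 := by simpa using hyp 1
  have hzy : Bs φ n z y = 1 := by rw [R.B_symm hz hy]; exact hyz
  have hy'y : Bs φ n y' y = 0 := by rw [R.B_symm hy' hy]; exact hyy'
  refine ⟨y, hy, hyy, hy'y, hyy', hzy, hyz, ?_⟩
  have hN : InH H (Em φ y' y 0) := by
    refine (R.Em_inH_NP hy' hy F₀.zero_mem hy'y' hy'y ?_).mono C.hN
    rw [map_zero, hyy]; ring
  have h1 := h.conj_Em φ R.hφ hφ2 C.hGU hy'y' hN
  rw [Um_mulVec, Um_mulVec, hzy', hzy, mul_zero, zero_smul, add_zero, mul_one] at h1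
  exact h1

/-- step (a): all transvections with centre `y'` -/
theorem tv_step (C : HC φ n q F₀ P H) {z y' : Fin n → F} {c : F} (hz : RatV F₀ P z)
    (hy' : RatV F₀ P y') (hy'y' : Bs φ n y' y' = 0) (hzy' : Bs φ n z y' = 0)
    (hli : LinearIndependent F ![z, y']) (hc : c + φ c = 0) (hc0 : c ≠ 0)
    (h : InH H (Um φ z c)) : TVs φ H y' := by
  have R := C.R
  have hφ2 := R.hφ2
  obtain ⟨y, hy, hyy, hy'y, hyy', hzy, hyz, hE⟩ := conj_step C hz hy' hy'y' hzy' hli h
  have hy'z : Bs φ n y' z = 0 := B_zero_symm φ hφ2 hzy'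
  have hφc : φ c = -c := by linear_combination hc
  intro c' hc'
  have hφc' : φ c' = -c' := by linear_combination hc'
  have h2c : (2 : F) * c ≠ 0 := mul_ne_zero R.h2 hc0
  obtain ⟨γ, hγdef⟩ : ∃ γ, γ = c' / (2 * c) := ⟨_, rfl⟩
  have hγ : γ ∈ F₀ := by
    rw [R.hfix, hγdef, map_div₀, map_mul, R.phi_two, hφc, hφc']
    field_simp
  have hN : InH H (Em φ y' (γ • y) 0) := by
    refine (R.Em_inH_NP hy' (hy.smul hγ) F₀.zero_mem hy'y' ?_ ?_).mono C.hN
    · rw [map_smul, hy'y, smul_zero]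
    · simp only [map_smulₛₗ, map_smul, LinearMap.smul_apply, smul_eq_mul, hyy, mul_zero, map_zero,
        add_zero]
  have e := Em_comm_mat φ hφ2 y' (y + c • z) (γ • y) 0 0 hy'y'
    (by rw [map_add, map_smul, hy'y, hy'z, smul_zero, add_zero])
    (by rw [map_smul, hy'y, smul_zero])
  have hD := InH.of_comm hE hN e
  have h4 : Bs φ n (γ • y) (y + c • z) - Bs φ n (y + c • z) (γ • y) = c' := by
    simp only [map_add, map_smulₛₗ, map_smul, LinearMap.add_apply, LinearMap.smul_apply,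
      smul_eq_mul, hyy, hyz, hzy, R.fix hγ, hφc, RingHom.id_apply]
    rw [hγdef]
    have := R.h2
    field_simp
    ring
  rwa [h4] at hD

theorem li_of_hyp (hφ2 : ∀ x, φ (φ x) = x) {u e f : Fin n → F} (hu0 : u ≠ 0)
    (hef : Bs φ n e f = 1) (huf : Bs φ n u f = 0) : LinearIndependent F ![u, e] := by
  rw [LinearIndependent.pair_iff]
  intro s t hst
  have hfu : Bs φ n f u = 0 := B_zero_symm φ hφ2 huf
  have hfe : Bs φ n f e = 1 := by rw [← B_symm' φ hφ2 e f, hef, map_one]
  have h1 := congrArg (Bs φ n f) hst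
  rw [map_add, map_smul, map_smul, hfu, hfe, smul_zero, zero_add, smul_eq_mul, mul_one,
    map_zero] at h1
  rw [h1, zero_smul, add_zero] at hst
  rcases smul_eq_zero.1 hst with h | h
  · exact ⟨h, h1⟩
  · exact absurd h hu0

theorem li_swap {u e : Fin n → F} (h : LinearIndependent F ![u, e]) :
    LinearIndependent F ![e, u] := by
  rw [LinearIndependent.pair_iff] at h ⊢
  intro s t hst
  have := h t s (by rw [add_comm]; exact hst)
  exact ⟨this.2, this.1⟩

/-- step (b): all transvections with a rational singular centre -/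
theorem tv_all (C : HC φ n q F₀ P H) {z : Fin n → F} {c : F} (hz : RatV F₀ P z)
    (hz0 : z ≠ 0) (hzz : Bs φ n z z = 0) (hc : c + φ c = 0) (hc0 : c ≠ 0)
    (h : InH H (Um φ z c)) {u : Fin n → F} (hu : RatV F₀ P u) (huu : Bs φ n u u = 0) :
    TVs φ H u := by
  have R := C.R
  have hφ2 := R.hφ2
  have hn := R.hn
  by_cases hu0 : u = 0
  · rw [hu0]; exact TVs_zero
  have hrat : ∀ i, RatV F₀ P (![z, u] i) := by
    intro i; fin_cases i
    · exact hz
    · exact hu
  obtain ⟨e, f, he, hf, hee, hff, hef, hve, hvf⟩ := R.exists_hyp_perp ![z, u] hrat (by omega)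
  have hze : Bs φ n z e = 0 := hve 0
  have hue : Bs φ n u e = 0 := hve 1
  have hzf : Bs φ n z f = 0 := hvf 0
  have huf : Bs φ n u f = 0 := hvf 1
  have h1 : TVs φ H e := tv_step C hz he hee hze (li_of_hyp hφ2 hz0 hef hzf) hc hc0 h
  have heu : Bs φ n e u = 0 := B_zero_symm φ hφ2 hue
  exact tv_step C he hu huu heu (li_swap (li_of_hyp hφ2 hu0 hef huf)) hc hc0 (h1 c hc)

/-- step (c1): `Em y' (c z) 0 ∈ H` for trace-zero `c` -/
theorem short_step (C : HC φ n q F₀ P H) {z y' : Fin n → F} {c : F} (hz : RatV F₀ P z)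
    (hzz : Bs φ n z z = 0)
    (hy' : RatV F₀ P y') (hy'y' : Bs φ n y' y' = 0) (hzy' : Bs φ n z y' = 0)
    (hli : LinearIndependent F ![z, y']) (hc : c + φ c = 0) (h : InH H (Um φ z c))
    (hT : TVs φ H y') : InH H (Em φ y' (c • z) 0) := by
  have R := C.R
  have hφ2 := R.hφ2
  obtain ⟨y, hy, hyy, hy'y, hyy', hzy, hyz, hE⟩ := conj_step C hz hy' hy'y' hzy' hli h
  have hy'z : Bs φ n y' z = 0 := B_zero_symm φ hφ2 hzy'
  have hφc : φ c = -c := by linear_combination hc
  have hN : InH H (Em φ y' ((-1 : F) • y) 0) := by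
    refine (R.Em_inH_NP hy' (hy.smul (F₀.neg_mem F₀.one_mem)) F₀.zero_mem hy'y' ?_ ?_).mono C.hN
    · rw [map_smul, hy'y, smul_zero]
    · simp only [map_smulₛₗ, map_smul, LinearMap.smul_apply, smul_eq_mul, hyy, mul_zero, map_zero,
        add_zero]
  -- `Em y' (-y) 0 * Em y' (y + c z) 0 = Em y' (c z) c`
  have e1 := Em_mul φ hφ2 y' ((-1 : F) • y) (y + c • z) 0 0 hy'y'
    (by rw [map_add, map_smul, hy'y, hy'z, smul_zero, add_zero])
    (by rw [map_smulₛₗ, LinearMap.smul_apply, hyy', smul_zero])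
  have h1 := hN.mul hE
  rw [e1] at h1
  have e2 : (-1 : F) • y + (y + c • z) = c • z := by module
  have e3 : (0 : F) + 0 - Bs φ n ((-1 : F) • y) (y + c • z) = c := by
    simp only [map_add, map_smulₛₗ, map_smul, LinearMap.add_apply, LinearMap.smul_apply,
      smul_eq_mul, hyy, hyz, map_neg, map_one, RingHom.id_apply]
    ring
  rw [e2, e3] at h1
  -- remove the parameter with a transvection
  have hcz : Bs φ n (c • z) y' = 0 := by
    rw [map_smulₛₗ, LinearMap.smul_apply, hzy', smul_zero]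
  have e4 := Em_mul φ hφ2 y' (c • z) 0 c (-c) hy'y' (map_zero _) hcz
  have hU : InH H (Em φ y' 0 (-c)) := by
    rw [← Um_eq_Em φ hφ2 y' (-c) hy'y']
    apply hT
    rw [map_neg]; linear_combination -hc
  have h2 := h1.mul hU
  rw [e4] at h2
  simpa using h2

/-- step (c): all short root elements `Em y' (β z) 0`, `y'`, `z` rational singular orthogonal -/
theorem short_all (C : HC φ n q F₀ P H)
    (hT : ∀ u, RatV F₀ P u → Bs φ n u u = 0 → TVs φ H u) {y' z : Fin n → F}
    (hy' : RatV F₀ P y') (hy'0 : y' ≠ 0) (hy'y' : Bs φ n y' y' = 0) (hz : RatV F₀ P z)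
    (hzz : Bs φ n z z = 0) (hy'z : Bs φ n y' z = 0) (β : F) :
    InH H (Em φ y' (β • z) 0) := by
  have R := C.R
  have hφ2 := R.hφ2
  have hzy' : Bs φ n z y' = 0 := B_zero_symm φ hφ2 hy'z
  by_cases hli : LinearIndependent F ![z, y']
  · obtain ⟨θ, hθ0, hθ, -⟩ := R.exists_theta
    obtain ⟨b₁, b₂, hb₁, hb₂, hβ⟩ := R.scalar_decomp hθ0 hθ β
    have hc : θ * b₂ + φ (θ * b₂) = 0 := by
      rw [map_mul, hθ, R.fix hb₂]; ring
    have h1 : InH H (Em φ y' ((θ * b₂) • z) 0) :=
      short_step C hz hzz hy' hy'y' hzy' hli hc (hT z hz hzz _ hc) (hT y' hy' hy'y')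
    have h2 : InH H (Em φ y' (b₁ • z) 0) := by
      refine (R.Em_inH_NP hy' (hz.smul hb₁) F₀.zero_mem hy'y' ?_ ?_).mono C.hN
      · rw [map_smul, hy'z, smul_zero]
      · simp only [map_smulₛₗ, map_smul, LinearMap.smul_apply, smul_eq_mul, hzz, mul_zero,
          map_zero, add_zero]
    have e := Em_mul φ hφ2 y' (b₁ • z) ((θ * b₂) • z) 0 0 hy'y'
      (by rw [map_smul, hy'z, smul_zero])
      (by rw [map_smulₛₗ, LinearMap.smul_apply, hzy', smul_zero])
    have h3 := h2.mul h1
    rw [e] at h3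
    have e2 : b₁ • z + (θ * b₂) • z = β • z := by rw [hβ]; module
    have e3 : (0 : F) + 0 - Bs φ n (b₁ • z) ((θ * b₂) • z) = 0 := by
      simp only [map_smulₛₗ, map_smul, LinearMap.smul_apply, smul_eq_mul, hzz, mul_zero, add_zero,
        sub_zero]
    rwa [e2, e3] at h3
  · rw [LinearIndependent.pair_iff] at hli
    push Not at hli
    obtain ⟨s, t, hst, hne⟩ := hli
    have hs : s ≠ 0 := by
      intro hs
      rw [hs, zero_smul, zero_add] at hst
      rcases smul_eq_zero.1 hst with h | h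
      · exact hne hs h
      · exact hy'0 h
    have hz' : z = (-(t / s)) • y' := by
      have : s • z = (-t) • y' := by
        rw [neg_smul]; exact eq_neg_of_add_eq_zero_left hst
      have h2 := congrArg (fun x => s⁻¹ • x) this
      simp only [smul_smul, inv_mul_cancel₀ hs, one_smul] at h2
      rw [h2]
      congr 1
      field_simp
    have hW := Cfsg.Agent.Lib.H9.SuSub.Wset_smul_self (H := H) hφ2 hy'y' (hT y' hy' hy'y')
      (β * (-(t / s)))
    have := hW.2 0 (by
      simp only [map_smulₛₗ, map_smul, LinearMap.smul_apply, smul_eq_mul, hy'y', mul_zero,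
        map_zero, add_zero])
    rw [hz', smul_smul]
    exact this

end Cfsg.Agent.Lib.H25.SoSub
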