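import Mathlib
import Cfsg.Agent.Lib.H2.Spec2
import Cfsg.Agent.Lib.H23.BurnsidePQ

/-!
# Three small solvable groups with prescribed spectra (helper25, for helper8's S3452)

* `exists_solvable_spec_a`: spectrum `{1,2,3}` (the symmetric group of degree three);
* `exists_solvable_spec_b`: spectrum `{1,2,3,4}` (the symmetric group of degree four);
* `exists_solvable_spec_c`: spectrum `{1,2,3,4,5,8,10}` (a Frobenius group with complement
  `Z5 : Z8` of order 40 acting on an elementary abelian 3-group).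
-/

set_option autoImplicit false

namespace Cfsg.Agent.Lib.H25.SolvSpec

open Cfsg.Agent.Lib.H2.Spec

/-! ### The symmetric groups of degree three and four -/

theorem perm3_pow : ∀ g : Equiv.Perm (Fin 3), g ^ 2 = 1 ∨ g ^ 3 = 1 := by decide +kernel

theorem perm4_pow : ∀ g : Equiv.Perm (Fin 4), g ^ 3 = 1 ∨ g ^ 4 = 1 := by decide +kernel

theorem exists_solvable_spec_a : ∃ (G : Type) (_ : Group G) (_ : Finite G),
    Group.IsSolvable G ∧ Nontrivial G ∧ Set.range (orderOf : G → ℕ) = {1, 2, 3} := by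
  refine ⟨Equiv.Perm (Fin 3), inferInstance, inferInstance, ?_, inferInstance, ?_⟩
  · apply Cfsg.Agent.Lib.H23.isSolvable_of_card_eq_prime_pow_mul_prime_pow 2 3 1 1
      Nat.prime_two Nat.prime_three
    rw [Nat.card_eq_fintype_card, Fintype.card_perm, Fintype.card_fin]
    rfl
  · apply Set.Subset.antisymm
    · rintro _ ⟨g, rfl⟩
      rcases perm3_pow g with h | h
      · have h1 := orderOf_dvd_of_pow_eq_one h
        rcases (Nat.dvd_prime Nat.prime_two).1 h1 with h2 | h2 <;> simp [h2]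
      · have h1 := orderOf_dvd_of_pow_eq_one h
        rcases (Nat.dvd_prime Nat.prime_three).1 h1 with h2 | h2 <;> simp [h2]
    · intro k hk
      simp only [Set.mem_insert_iff, Set.mem_singleton_iff] at hk
      rcases hk with rfl | rfl | rfl
      · exact ⟨1, orderOf_one⟩
      · have : Fact (Nat.Prime 2) := ⟨Nat.prime_two⟩
        exact ⟨Equiv.swap 0 1, orderOf_eq_prime (by decide) (by decide)⟩
      · have : Fact (Nat.Prime 3) := ⟨Nat.prime_three⟩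
        exact ⟨finRotate 3, orderOf_eq_prime (by decide) (by decide)⟩

theorem exists_solvable_spec_b : ∃ (G : Type) (_ : Group G) (_ : Finite G),
    Group.IsSolvable G ∧ Nontrivial G ∧ Set.range (orderOf : G → ℕ) = {1, 2, 3, 4} := by
  refine ⟨Equiv.Perm (Fin 4), inferInstance, inferInstance, ?_, inferInstance, ?_⟩
  · apply Cfsg.Agent.Lib.H23.isSolvable_of_card_eq_prime_pow_mul_prime_pow 2 3 3 1
      Nat.prime_two Nat.prime_three
    rw [Nat.card_eq_fintype_card, Fintype.card_perm, Fintype.card_fin]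
    rfl
  · apply Set.Subset.antisymm
    · rintro _ ⟨g, rfl⟩
      rcases perm4_pow g with h | h
      · have h1 := orderOf_dvd_of_pow_eq_one h
        rcases (Nat.dvd_prime Nat.prime_three).1 h1 with h2 | h2 <;> simp [h2]
      · have h1 : orderOf g ∈ Nat.divisors 4 :=
          Nat.mem_divisors.2 ⟨orderOf_dvd_of_pow_eq_one h, by norm_num⟩
        have h2 : Nat.divisors 4 = {1, 2, 4} := by decide
        rw [h2] at h1
        simp only [Finset.mem_insert, Finset.mem_singleton] at h1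
        rcases h1 with h1 | h1 | h1 <;> simp [h1]
    · intro k hk
      simp only [Set.mem_insert_iff, Set.mem_singleton_iff] at hk
      have h4 : orderOf (finRotate 4) = 4 := by
        apply orderOf_eq_prime_pow (p := 2) (n := 1)
        · decide
        · decide
      rcases hk with rfl | rfl | rfl | rfl
      · exact ⟨1, orderOf_one⟩
      · exact ⟨finRotate 4 ^ 2, by rw [orderOf_pow' _ (by norm_num), h4]; norm_num⟩
      · have : Fact (Nat.Prime 3) := ⟨Nat.prime_three⟩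
        exact ⟨Equiv.swap 0 1 * Equiv.swap 1 2, orderOf_eq_prime (by decide) (by decide)⟩
      · exact ⟨finRotate 4, h4⟩

/-! ### The group `Z5 : Z8` inside `GL_4(3)` -/

/-- `4 × 4` matrices over the field with three elements -/
abbrev M43 : Type := Matrix (Fin 4) (Fin 4) (ZMod 3)

/-- the forty elements `A^i B^j` of `Z5 : Z8` (`A`: multiplication by a fifth root of unity of
`F_81`, `B`: the semilinear map `x ↦ g x³`, `g` a generator of `F_81ˣ`, in the basis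
`1, g, g², g³`) -/
def LC : List M43 :=
  [!![1, 0, 0, 0; 0, 1, 0, 0; 0, 0, 1, 0; 0, 0, 0, 1],
   !![0, 1, 2, 1; 1, 2, 1, 2; 0, 0, 0, 1; 0, 0, 1, 1],
   !![1, 2, 2, 2; 2, 2, 0, 2; 0, 0, 1, 1; 0, 0, 1, 2],
   !![2, 2, 0, 0; 2, 0, 2, 2; 0, 0, 1, 2; 0, 0, 2, 0],
   !![2, 0, 0, 0; 0, 2, 0, 0; 0, 0, 2, 0; 0, 0, 0, 2],
   !![0, 2, 1, 2; 2, 1, 2, 1; 0, 0, 0, 2; 0, 0, 2, 2],
   !![2, 1, 1, 1; 1, 1, 0, 1; 0, 0, 2, 2; 0, 0, 2, 1],
   !![1, 1, 0, 0; 1, 0, 1, 1; 0, 0, 2, 1; 0, 0, 1, 0],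
   !![2, 2, 0, 1; 1, 0, 2, 2; 0, 1, 0, 2; 2, 0, 1, 0],
   !![2, 0, 1, 1; 0, 1, 1, 2; 1, 2, 0, 1; 0, 2, 1, 0],
   !![0, 2, 2, 1; 1, 2, 0, 2; 2, 2, 2, 0; 2, 1, 2, 2],
   !![2, 1, 0, 1; 2, 2, 0, 1; 2, 0, 0, 2; 1, 1, 1, 2],
   !![1, 1, 0, 2; 2, 0, 1, 1; 0, 2, 0, 1; 1, 0, 2, 0],
   !![1, 0, 2, 2; 0, 2, 2, 1; 2, 1, 0, 2; 0, 1, 2, 0],
   !![0, 1, 1, 2; 2, 1, 0, 1; 1, 1, 1, 0; 1, 2, 1, 1],
   !![1, 2, 0, 2; 1, 1, 0, 2; 1, 0, 0, 1; 2, 2, 2, 1],
   !![2, 1, 2, 0; 0, 1, 2, 2; 2, 0, 1, 2; 1, 2, 0, 1],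
   !![1, 1, 2, 0; 1, 2, 0, 0; 0, 2, 0, 2; 2, 2, 2, 0],
   !![1, 0, 0, 2; 2, 2, 1, 2; 2, 1, 1, 0; 2, 0, 0, 2],
   !![0, 1, 1, 0; 2, 0, 2, 0; 1, 1, 2, 2; 0, 2, 0, 1],
   !![1, 2, 1, 0; 0, 2, 1, 1; 1, 0, 2, 1; 2, 1, 0, 2],
   !![2, 2, 1, 0; 2, 1, 0, 0; 0, 1, 0, 1; 1, 1, 1, 0],
   !![2, 0, 0, 1; 1, 1, 2, 1; 1, 2, 2, 0; 1, 0, 0, 1],
   !![0, 2, 2, 0; 1, 0, 1, 0; 2, 2, 1, 1; 0, 1, 0, 2],
   !![2, 0, 2, 2; 2, 2, 1, 0; 2, 2, 2, 1; 0, 2, 2, 2],
   !![0, 2, 0, 0; 2, 0, 0, 1; 2, 0, 1, 0; 2, 1, 1, 2],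
   !![2, 1, 2, 1; 0, 2, 2, 0; 0, 2, 1, 0; 1, 1, 1, 1],
   !![1, 1, 0, 1; 2, 1, 2, 0; 2, 1, 2, 2; 1, 0, 1, 2],
   !![1, 0, 1, 1; 1, 1, 2, 0; 1, 1, 1, 2; 0, 1, 1, 1],
   !![0, 1, 0, 0; 1, 0, 0, 2; 1, 0, 2, 0; 1, 2, 2, 1],
   !![1, 2, 1, 2; 0, 1, 1, 0; 0, 1, 2, 0; 2, 2, 2, 2],
   !![2, 2, 0, 2; 1, 2, 1, 0; 1, 2, 1, 1; 2, 0, 2, 1],
   !![2, 0, 2, 0; 0, 2, 1, 2; 2, 0, 2, 1; 0, 2, 0, 2],
   !![0, 2, 1, 1; 2, 1, 1, 1; 0, 2, 2, 2; 2, 1, 1, 0],
   !![2, 1, 0, 0; 1, 1, 0, 0; 2, 1, 1, 2; 1, 1, 2, 2],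
   !![1, 1, 2, 1; 1, 0, 0, 0; 1, 1, 1, 1; 1, 0, 2, 1],
   !![1, 0, 1, 0; 0, 1, 2, 1; 1, 0, 1, 2; 0, 1, 0, 1],
   !![0, 1, 2, 2; 1, 2, 2, 2; 0, 1, 1, 1; 1, 2, 2, 0],
   !![1, 2, 0, 0; 2, 2, 0, 0; 1, 2, 2, 1; 2, 2, 1, 1],
   !![2, 2, 1, 2; 2, 0, 0, 0; 2, 2, 2, 2; 2, 0, 1, 2]]

/-- the multiplication table of `LC` -/
def MT : List (List ℕ) :=
  [[0, 1, 2, 3, 4, 5, 6, 7, 8, 9, 10, 11, 12, 13, 14, 15, 16, 17, 18, 19, 20, 21, 22, 23, 24, 25, 26, 27, 28, 29, 30, 31, 32, 33, 34, 35, 36, 37, 38, 39],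
   [1, 2, 3, 4, 5, 6, 7, 0, 25, 26, 27, 28, 29, 30, 31, 24, 9, 10, 11, 12, 13, 14, 15, 8, 33, 34, 35, 36, 37, 38, 39, 32, 17, 18, 19, 20, 21, 22, 23, 16],
   [2, 3, 4, 5, 6, 7, 0, 1, 34, 35, 36, 37, 38, 39, 32, 33, 26, 27, 28, 29, 30, 31, 24, 25, 18, 19, 20, 21, 22, 23, 16, 17, 10, 11, 12, 13, 14, 15, 8, 9],
   [3, 4, 5, 6, 7, 0, 1, 2, 19, 20, 21, 22, 23, 16, 17, 18, 35, 36, 37, 38, 39, 32, 33, 34, 11, 12, 13, 14, 15, 8, 9, 10, 27, 28, 29, 30, 31, 24, 25, 26],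
   [4, 5, 6, 7, 0, 1, 2, 3, 12, 13, 14, 15, 8, 9, 10, 11, 20, 21, 22, 23, 16, 17, 18, 19, 28, 29, 30, 31, 24, 25, 26, 27, 36, 37, 38, 39, 32, 33, 34, 35],
   [5, 6, 7, 0, 1, 2, 3, 4, 29, 30, 31, 24, 25, 26, 27, 28, 13, 14, 15, 8, 9, 10, 11, 12, 37, 38, 39, 32, 33, 34, 35, 36, 21, 22, 23, 16, 17, 18, 19, 20],
   [6, 7, 0, 1, 2, 3, 4, 5, 38, 39, 32, 33, 34, 35, 36, 37, 30, 31, 24, 25, 26, 27, 28, 29, 22, 23, 16, 17, 18, 19, 20, 21, 14, 15, 8, 9, 10, 11, 12, 13],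
   [7, 0, 1, 2, 3, 4, 5, 6, 23, 16, 17, 18, 19, 20, 21, 22, 39, 32, 33, 34, 35, 36, 37, 38, 15, 8, 9, 10, 11, 12, 13, 14, 31, 24, 25, 26, 27, 28, 29, 30],
   [8, 9, 10, 11, 12, 13, 14, 15, 16, 17, 18, 19, 20, 21, 22, 23, 24, 25, 26, 27, 28, 29, 30, 31, 32, 33, 34, 35, 36, 37, 38, 39, 0, 1, 2, 3, 4, 5, 6, 7],
   [9, 10, 11, 12, 13, 14, 15, 8, 33, 34, 35, 36, 37, 38, 39, 32, 17, 18, 19, 20, 21, 22, 23, 16, 1, 2, 3, 4, 5, 6, 7, 0, 25, 26, 27, 28, 29, 30, 31, 24],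
   [10, 11, 12, 13, 14, 15, 8, 9, 2, 3, 4, 5, 6, 7, 0, 1, 34, 35, 36, 37, 38, 39, 32, 33, 26, 27, 28, 29, 30, 31, 24, 25, 18, 19, 20, 21, 22, 23, 16, 17],
   [11, 12, 13, 14, 15, 8, 9, 10, 27, 28, 29, 30, 31, 24, 25, 26, 3, 4, 5, 6, 7, 0, 1, 2, 19, 20, 21, 22, 23, 16, 17, 18, 35, 36, 37, 38, 39, 32, 33, 34],
   [12, 13, 14, 15, 8, 9, 10, 11, 20, 21, 22, 23, 16, 17, 18, 19, 28, 29, 30, 31, 24, 25, 26, 27, 36, 37, 38, 39, 32, 33, 34, 35, 4, 5, 6, 7, 0, 1, 2, 3],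
   [13, 14, 15, 8, 9, 10, 11, 12, 37, 38, 39, 32, 33, 34, 35, 36, 21, 22, 23, 16, 17, 18, 19, 20, 5, 6, 7, 0, 1, 2, 3, 4, 29, 30, 31, 24, 25, 26, 27, 28],
   [14, 15, 8, 9, 10, 11, 12, 13, 6, 7, 0, 1, 2, 3, 4, 5, 38, 39, 32, 33, 34, 35, 36, 37, 30, 31, 24, 25, 26, 27, 28, 29, 22, 23, 16, 17, 18, 19, 20, 21],
   [15, 8, 9, 10, 11, 12, 13, 14, 31, 24, 25, 26, 27, 28, 29, 30, 7, 0, 1, 2, 3, 4, 5, 6, 23, 16, 17, 18, 19, 20, 21, 22, 39, 32, 33, 34, 35, 36, 37, 38],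
   [16, 17, 18, 19, 20, 21, 22, 23, 24, 25, 26, 27, 28, 29, 30, 31, 32, 33, 34, 35, 36, 37, 38, 39, 0, 1, 2, 3, 4, 5, 6, 7, 8, 9, 10, 11, 12, 13, 14, 15],
   [17, 18, 19, 20, 21, 22, 23, 16, 1, 2, 3, 4, 5, 6, 7, 0, 25, 26, 27, 28, 29, 30, 31, 24, 9, 10, 11, 12, 13, 14, 15, 8, 33, 34, 35, 36, 37, 38, 39, 32],
   [18, 19, 20, 21, 22, 23, 16, 17, 10, 11, 12, 13, 14, 15, 8, 9, 2, 3, 4, 5, 6, 7, 0, 1, 34, 35, 36, 37, 38, 39, 32, 33, 26, 27, 28, 29, 30, 31, 24, 25],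
   [19, 20, 21, 22, 23, 16, 17, 18, 35, 36, 37, 38, 39, 32, 33, 34, 11, 12, 13, 14, 15, 8, 9, 10, 27, 28, 29, 30, 31, 24, 25, 26, 3, 4, 5, 6, 7, 0, 1, 2],
   [20, 21, 22, 23, 16, 17, 18, 19, 28, 29, 30, 31, 24, 25, 26, 27, 36, 37, 38, 39, 32, 33, 34, 35, 4, 5, 6, 7, 0, 1, 2, 3, 12, 13, 14, 15, 8, 9, 10, 11],
   [21, 22, 23, 16, 17, 18, 19, 20, 5, 6, 7, 0, 1, 2, 3, 4, 29, 30, 31, 24, 25, 26, 27, 28, 13, 14, 15, 8, 9, 10, 11, 12, 37, 38, 39, 32, 33, 34, 35, 36],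
   [22, 23, 16, 17, 18, 19, 20, 21, 14, 15, 8, 9, 10, 11, 12, 13, 6, 7, 0, 1, 2, 3, 4, 5, 38, 39, 32, 33, 34, 35, 36, 37, 30, 31, 24, 25, 26, 27, 28, 29],
   [23, 16, 17, 18, 19, 20, 21, 22, 39, 32, 33, 34, 35, 36, 37, 38, 15, 8, 9, 10, 11, 12, 13, 14, 31, 24, 25, 26, 27, 28, 29, 30, 7, 0, 1, 2, 3, 4, 5, 6],
   [24, 25, 26, 27, 28, 29, 30, 31, 32, 33, 34, 35, 36, 37, 38, 39, 0, 1, 2, 3, 4, 5, 6, 7, 8, 9, 10, 11, 12, 13, 14, 15, 16, 17, 18, 19, 20, 21, 22, 23],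
   [25, 26, 27, 28, 29, 30, 31, 24, 9, 10, 11, 12, 13, 14, 15, 8, 33, 34, 35, 36, 37, 38, 39, 32, 17, 18, 19, 20, 21, 22, 23, 16, 1, 2, 3, 4, 5, 6, 7, 0],
   [26, 27, 28, 29, 30, 31, 24, 25, 18, 19, 20, 21, 22, 23, 16, 17, 10, 11, 12, 13, 14, 15, 8, 9, 2, 3, 4, 5, 6, 7, 0, 1, 34, 35, 36, 37, 38, 39, 32, 33],
   [27, 28, 29, 30, 31, 24, 25, 26, 3, 4, 5, 6, 7, 0, 1, 2, 19, 20, 21, 22, 23, 16, 17, 18, 35, 36, 37, 38, 39, 32, 33, 34, 11, 12, 13, 14, 15, 8, 9, 10],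
   [28, 29, 30, 31, 24, 25, 26, 27, 36, 37, 38, 39, 32, 33, 34, 35, 4, 5, 6, 7, 0, 1, 2, 3, 12, 13, 14, 15, 8, 9, 10, 11, 20, 21, 22, 23, 16, 17, 18, 19],
   [29, 30, 31, 24, 25, 26, 27, 28, 13, 14, 15, 8, 9, 10, 11, 12, 37, 38, 39, 32, 33, 34, 35, 36, 21, 22, 23, 16, 17, 18, 19, 20, 5, 6, 7, 0, 1, 2, 3, 4],
   [30, 31, 24, 25, 26, 27, 28, 29, 22, 23, 16, 17, 18, 19, 20, 21, 14, 15, 8, 9, 10, 11, 12, 13, 6, 7, 0, 1, 2, 3, 4, 5, 38, 39, 32, 33, 34, 35, 36, 37],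
   [31, 24, 25, 26, 27, 28, 29, 30, 7, 0, 1, 2, 3, 4, 5, 6, 23, 16, 17, 18, 19, 20, 21, 22, 39, 32, 33, 34, 35, 36, 37, 38, 15, 8, 9, 10, 11, 12, 13, 14],
   [32, 33, 34, 35, 36, 37, 38, 39, 0, 1, 2, 3, 4, 5, 6, 7, 8, 9, 10, 11, 12, 13, 14, 15, 16, 17, 18, 19, 20, 21, 22, 23, 24, 25, 26, 27, 28, 29, 30, 31],
   [33, 34, 35, 36, 37, 38, 39, 32, 17, 18, 19, 20, 21, 22, 23, 16, 1, 2, 3, 4, 5, 6, 7, 0, 25, 26, 27, 28, 29, 30, 31, 24, 9, 10, 11, 12, 13, 14, 15, 8],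
   [34, 35, 36, 37, 38, 39, 32, 33, 26, 27, 28, 29, 30, 31, 24, 25, 18, 19, 20, 21, 22, 23, 16, 17, 10, 11, 12, 13, 14, 15, 8, 9, 2, 3, 4, 5, 6, 7, 0, 1],
   [35, 36, 37, 38, 39, 32, 33, 34, 11, 12, 13, 14, 15, 8, 9, 10, 27, 28, 29, 30, 31, 24, 25, 26, 3, 4, 5, 6, 7, 0, 1, 2, 19, 20, 21, 22, 23, 16, 17, 18],
   [36, 37, 38, 39, 32, 33, 34, 35, 4, 5, 6, 7, 0, 1, 2, 3, 12, 13, 14, 15, 8, 9, 10, 11, 20, 21, 22, 23, 16, 17, 18, 19, 28, 29, 30, 31, 24, 25, 26, 27],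
   [37, 38, 39, 32, 33, 34, 35, 36, 21, 22, 23, 16, 17, 18, 19, 20, 5, 6, 7, 0, 1, 2, 3, 4, 29, 30, 31, 24, 25, 26, 27, 28, 13, 14, 15, 8, 9, 10, 11, 12],
   [38, 39, 32, 33, 34, 35, 36, 37, 30, 31, 24, 25, 26, 27, 28, 29, 22, 23, 16, 17, 18, 19, 20, 21, 14, 15, 8, 9, 10, 11, 12, 13, 6, 7, 0, 1, 2, 3, 4, 5],
   [39, 32, 33, 34, 35, 36, 37, 38, 15, 8, 9, 10, 11, 12, 13, 14, 31, 24, 25, 26, 27, 28, 29, 30, 7, 0, 1, 2, 3, 4, 5, 6, 23, 16, 17, 18, 19, 20, 21, 22]]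

/-- the table of inverses of `LC` -/
def IT : List ℕ := [0, 7, 6, 5, 4, 3, 2, 1, 32, 31, 14, 21, 36, 27, 10, 17, 24, 15, 22, 37, 28, 11, 18, 33, 16, 39, 30, 13, 20, 35, 26, 9, 8, 23, 38, 29, 12, 19, 34, 25]

/-- product of indices -/
def mti (i j : ℕ) : ℕ := (MT.getD i []).getD j 0

/-- inverse of an index -/
def iti (i : ℕ) : ℕ := IT.getD i 0

/-- the element with a given index -/
def eli (i : ℕ) : M43 := LC.getD i 1

/-- square of an index -/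
def sqi (i : ℕ) : ℕ := mti i i

set_option maxHeartbeats 0 in
theorem eli_mul : ∀ i < 40, ∀ j < 40, eli i * eli j = eli (mti i j) ∧ mti i j < 40 := by
  decide +kernel

set_option maxHeartbeats 0 in
theorem eli_inv : ∀ i < 40, eli i * eli (iti i) = 1 ∧ eli (iti i) * eli i = 1 ∧ iti i < 40 := by
  decide +kernel

theorem eli_zero : eli 0 = 1 := by decide +kernel

theorem eli_four : eli 4 = -1 := by decide +kernel

set_option maxHeartbeats 0 in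
theorem eli_cert : ∀ i < 40, i = 0 ∨ i = 4 ∨ sqi i = 4 ∨ sqi (sqi i) = 4 ∨
    mti (sqi (sqi i)) i = 4 ∨ (mti (sqi (sqi i)) i = 0 ∧
      eli (sqi (sqi i)) + eli (mti (sqi i) i) + eli (sqi i) + eli i + 1 = 0) := by
  decide +kernel

set_option maxHeartbeats 0 in
theorem LC_nodup : LC.Nodup := by decide +kernel

theorem LC_length : LC.length = 40 := by decide +kernel

theorem mem_LC_iff (x : M43) : x ∈ LC ↔ ∃ i < 40, x = eli i := by
  rw [List.mem_iff_getElem]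
  constructor
  · rintro ⟨i, hi, rfl⟩
    refine ⟨i, by rw [← LC_length]; exact hi, ?_⟩
    unfold eli
    rw [List.getD_eq_getElem _ _ hi]
  · rintro ⟨i, hi, rfl⟩
    have hi' : i < LC.length := by rw [LC_length]; exact hi
    refine ⟨i, hi', ?_⟩
    unfold eli
    rw [List.getD_eq_getElem _ _ hi']

theorem sqi_lt {i : ℕ} (hi : i < 40) : sqi i < 40 := (eli_mul i hi i hi).2

theorem eli_sq {i : ℕ} (hi : i < 40) : eli i ^ 2 = eli (sqi i) := by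
  rw [pow_two]
  exact (eli_mul i hi i hi).1

theorem eli_four_pow {i : ℕ} (hi : i < 40) : eli i ^ 4 = eli (sqi (sqi i)) := by
  have h : eli i ^ 4 = (eli i ^ 2) ^ 2 := by rw [← pow_mul]
  rw [h, eli_sq hi, eli_sq (sqi_lt hi)]

theorem eli_three_pow {i : ℕ} (hi : i < 40) : eli i ^ 3 = eli (mti (sqi i) i) := by
  rw [pow_succ, eli_sq hi]
  exact (eli_mul _ (sqi_lt hi) i hi).1

theorem eli_five_pow {i : ℕ} (hi : i < 40) : eli i ^ 5 = eli (mti (sqi (sqi i)) i) := by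
  rw [pow_succ, eli_four_pow hi]
  exact (eli_mul _ (sqi_lt (sqi_lt hi)) i hi).1

/-- the certificate for an element of the list -/
theorem LC_cert (x : M43) (hx : x ∈ LC) : x = 1 ∨ x = -1 ∨ x ^ 2 = -1 ∨ x ^ 4 = -1 ∨ x ^ 5 = -1 ∨
    (x ^ 5 = 1 ∧ x ^ 4 + x ^ 3 + x ^ 2 + x + 1 = 0) := by
  obtain ⟨i, hi, rfl⟩ := (mem_LC_iff x).1 hx
  rcases eli_cert i hi with h | h | h | h | h | ⟨h, h'⟩
  · left
    rw [h, eli_zero]
  · right; left
    rw [h, eli_four]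
  · right; right; left
    rw [eli_sq hi, h, eli_four]
  · right; right; right; left
    rw [eli_four_pow hi, h, eli_four]
  · right; right; right; right; left
    rw [eli_five_pow hi, h, eli_four]
  · right; right; right; right; right
    refine ⟨by rw [eli_five_pow hi, h, eli_zero], ?_⟩
    rw [eli_four_pow hi, eli_three_pow hi, eli_sq hi]
    exact h'

theorem LC_one : (1 : M43) ∈ LC := (mem_LC_iff 1).2 ⟨0, by norm_num, eli_zero.symm⟩

theorem LC_mul (x : M43) (hx : x ∈ LC) (y : M43) (hy : y ∈ LC) : x * y ∈ LC := by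
  obtain ⟨i, hi, rfl⟩ := (mem_LC_iff x).1 hx
  obtain ⟨j, hj, rfl⟩ := (mem_LC_iff y).1 hy
  exact (mem_LC_iff _).2 ⟨mti i j, (eli_mul i hi j hj).2, (eli_mul i hi j hj).1⟩

theorem LC_inv (x : M43) (hx : x ∈ LC) : ∃ y ∈ LC, x * y = 1 ∧ y * x = 1 := by
  obtain ⟨i, hi, rfl⟩ := (mem_LC_iff x).1 hx
  obtain ⟨h1, h2, h3⟩ := eli_inv i hi
  exact ⟨eli (iti i), (mem_LC_iff _).2 ⟨iti i, h3, rfl⟩, h1, h2⟩

/-- the group `Z5 : Z8` as a subgroup of the units of `M43` -/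
def CG : Subgroup M43ˣ where
  carrier := {u | (u : M43) ∈ LC}
  mul_mem' := fun {a b} ha hb => by
    show ((a * b : M43ˣ) : M43) ∈ LC
    rw [Units.val_mul]
    exact LC_mul _ ha _ hb
  one_mem' := LC_one
  inv_mem' := fun {u} hu => by
    obtain ⟨y, hy, h1, -⟩ := LC_inv _ hu
    have e : ((u⁻¹ : M43ˣ) : M43) = y := by
      calc ((u⁻¹ : M43ˣ) : M43) = ((u⁻¹ : M43ˣ) : M43) * ((u : M43) * y) := by rw [h1, mul_one]
        _ = y := by rw [← mul_assoc, Units.inv_mul, one_mul]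
    show ((u⁻¹ : M43ˣ) : M43) ∈ LC
    rw [e]
    exact hy

theorem mem_CG {u : M43ˣ} : u ∈ CG ↔ (u : M43) ∈ LC := Iff.rfl

/-- units from list elements -/
noncomputable def unitOf (x : M43) (hx : x ∈ LC) : M43ˣ :=
  ⟨x, (LC_inv x hx).choose, (LC_inv x hx).choose_spec.2.1, (LC_inv x hx).choose_spec.2.2⟩

theorem card_CG : Nat.card CG = 40 := by
  classical
  have e : CG ≃ {x : M43 // x ∈ LC.toFinset} :=
    { toFun := fun u => ⟨(u.1 : M43), List.mem_toFinset.2 u.2⟩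
      invFun := fun x => ⟨unitOf x.1 (List.mem_toFinset.1 x.2), List.mem_toFinset.1 x.2⟩
      left_inv := fun u => by
        apply Subtype.ext
        apply Units.ext
        rfl
      right_inv := fun x => rfl }
  rw [Nat.card_congr e, Nat.card_eq_fintype_card, Fintype.card_coe,
    List.toFinset_card_of_nodup LC_nodup, LC_length]

instance : Finite CG := Nat.finite_of_card_ne_zero (by rw [card_CG]; norm_num)

instance : Group.IsSolvable CG :=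
  Cfsg.Agent.Lib.H23.isSolvable_of_card_eq_prime_pow_mul_prime_pow 2 5 3 1
    Nat.prime_two Nat.prime_five (by rw [card_CG]; norm_num)

theorem pow_eq_one_iff_CG (u : CG) (k : ℕ) : u ^ k = 1 ↔ ((u : M43ˣ) : M43) ^ k = 1 := by
  constructor
  · intro h
    have := congrArg (fun v : CG => ((v : M43ˣ) : M43)) h
    simpa using this
  · intro h
    apply Subtype.ext
    apply Units.ext
    simpa using h

theorem m43_neg_one_sq : (-1 : M43) ^ 2 = 1 := _root_.neg_one_sq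

theorem CG_pow (u : CG) : u ^ 8 = 1 ∨ u ^ 10 = 1 := by
  rw [pow_eq_one_iff_CG, pow_eq_one_iff_CG]
  obtain ⟨x, hx⟩ : ∃ x : M43, x = ((u : M43ˣ) : M43) := ⟨_, rfl⟩
  rw [← hx]
  have hmem : x ∈ LC := by rw [hx]; exact u.2
  rcases LC_cert x hmem with h | h | h | h | h | ⟨h, -⟩
  · left; rw [h, one_pow]
  · left; rw [h, show 8 = 2 * 4 from rfl, pow_mul, m43_neg_one_sq, one_pow]
  · left; rw [show 8 = 2 * (2 * 2) from rfl, pow_mul, h, pow_mul, m43_neg_one_sq, one_pow]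
  · left; rw [show 8 = 4 * 2 from rfl, pow_mul, h, m43_neg_one_sq]
  · right; rw [show 10 = 5 * 2 from rfl, pow_mul, h, m43_neg_one_sq]
  · right; rw [show 10 = 5 * 2 from rfl, pow_mul, h, one_pow]

theorem CG_orderOf_mem (g : CG) : orderOf g ∈ ({1, 2, 4, 5, 8, 10} : Set ℕ) := by
  rcases CG_pow g with h | h
  · have h1 : orderOf g ∈ Nat.divisors 8 :=
      Nat.mem_divisors.2 ⟨orderOf_dvd_of_pow_eq_one h, by norm_num⟩
    have h2 : Nat.divisors 8 = {1, 2, 4, 8} := by decide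
    rw [h2] at h1
    simp only [Finset.mem_insert, Finset.mem_singleton] at h1
    rcases h1 with h1 | h1 | h1 | h1 <;> simp [h1]
  · have h1 : orderOf g ∈ Nat.divisors 10 :=
      Nat.mem_divisors.2 ⟨orderOf_dvd_of_pow_eq_one h, by norm_num⟩
    have h2 : Nat.divisors 10 = {1, 2, 5, 10} := by decide
    rw [h2] at h1
    simp only [Finset.mem_insert, Finset.mem_singleton] at h1
    rcases h1 with h1 | h1 | h1 | h1 <;> simp [h1]

theorem eli_mem {i : ℕ} (hi : i < 40) : eli i ∈ LC := (mem_LC_iff _).2 ⟨i, hi, rfl⟩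

theorem unitOf_mem (x : M43) (hx : x ∈ LC) : unitOf x hx ∈ CG := hx

theorem eli_one_mem : eli 1 ∈ LC := eli_mem (by norm_num)

theorem eli_twelve_mem : eli 12 ∈ LC := eli_mem (by norm_num)

/-- the element `B` of order eight -/
noncomputable def g8 : CG := ⟨unitOf (eli 1) eli_one_mem, unitOf_mem _ eli_one_mem⟩

/-- an element of order ten -/
noncomputable def g10 : CG := ⟨unitOf (eli 12) eli_twelve_mem, unitOf_mem _ eli_twelve_mem⟩

theorem one_ne_neg_one : (-1 : M43) ≠ 1 := by decide +kernel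

theorem orderOf_g8 : orderOf g8 = 8 := by
  apply orderOf_eq_prime_pow (p := 2) (n := 2)
  · rw [pow_eq_one_iff_CG]
    show ¬ eli 1 ^ 2 ^ 2 = 1
    have : eli 1 ^ 2 ^ 2 = -1 := by
      show eli 1 ^ 4 = -1
      rw [eli_four_pow (by norm_num)]
      decide +kernel
    rw [this]
    exact one_ne_neg_one
  · rw [pow_eq_one_iff_CG]
    show eli 1 ^ 2 ^ (2 + 1) = 1
    have : eli 1 ^ 4 = -1 := by
      rw [eli_four_pow (by norm_num)]
      decide +kernel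
    rw [show 2 ^ (2 + 1) = 4 * 2 from rfl, pow_mul, this, m43_neg_one_sq]

theorem orderOf_g10 : orderOf g10 = 10 := by
  have h5 : eli 12 ^ 5 = -1 := by
    rw [eli_five_pow (by norm_num)]
    decide +kernel
  have h2 : eli 12 ^ 2 ≠ 1 := by
    rw [eli_sq (by norm_num)]
    decide +kernel
  apply orderOf_eq_of_pow_and_pow_div_prime (by norm_num)
  · rw [pow_eq_one_iff_CG]
    show eli 12 ^ 10 = 1
    rw [show 10 = 5 * 2 from rfl, pow_mul, h5, m43_neg_one_sq]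
  · intro p hp hd
    have hle : p ≤ 10 := Nat.le_of_dvd (by norm_num) hd
    rw [Ne, pow_eq_one_iff_CG]
    show ¬ eli 12 ^ (10 / p) = 1
    interval_cases p
    · exact absurd hp (by norm_num)
    · exact absurd hp (by norm_num)
    · show ¬ eli 12 ^ 5 = 1
      rw [h5]
      exact one_ne_neg_one
    · exact absurd hd (by norm_num)
    · exact absurd hd (by norm_num)
    · show ¬ eli 12 ^ 2 = 1
      exact h2
    · exact absurd hd (by norm_num)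
    · exact absurd hd (by norm_num)
    · exact absurd hd (by norm_num)
    · exact absurd hd (by norm_num)
    · exact absurd hp (by norm_num)

theorem CG_spectrum : Set.range (orderOf : CG → ℕ) = {1, 2, 4, 5, 8, 10} := by
  apply Set.Subset.antisymm
  · rintro _ ⟨g, rfl⟩
    exact CG_orderOf_mem g
  · intro k hk
    simp only [Set.mem_insert_iff, Set.mem_singleton_iff] at hk
    rcases hk with rfl | rfl | rfl | rfl | rfl | rfl
    · exact ⟨1, orderOf_one⟩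
    · exact ⟨g8 ^ 4, by rw [orderOf_pow' g8 (by norm_num), orderOf_g8]; norm_num⟩
    · exact ⟨g8 ^ 2, by rw [orderOf_pow' g8 (by norm_num), orderOf_g8]; norm_num⟩
    · exact ⟨g10 ^ 2, by rw [orderOf_pow' g10 (by norm_num), orderOf_g10]; norm_num⟩
    · exact ⟨g8, orderOf_g8⟩
    · exact ⟨g10, orderOf_g10⟩

/-- the action of `CG` on the additive group of `M43` by left multiplication -/
def act : CG →* MulAut (Multiplicative M43) :=
  (MulAutMultiplicative M43).symm.toMonoidHom.comp (AddAut.mulLeft.comp CG.subtype)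

theorem act_apply (u : CG) (n : Multiplicative M43) :
    act u n = Multiplicative.ofAdd (((u : M43ˣ) : M43) * Multiplicative.toAdd n) := rfl

theorem m43_three (n : M43) : (3 : ℕ) • n = 0 := by
  have h : ((3 : ℕ) : M43) = 0 := by decide +kernel
  rw [nsmul_eq_mul, h, zero_mul]

theorem act_fpf : ∀ c : CG, c ≠ 1 → ∀ n : Multiplicative M43, act c n = n → n = 1 := by
  intro c hc n hn
  obtain ⟨x, hx⟩ : ∃ x : M43, x = ((c : M43ˣ) : M43) := ⟨_, rfl⟩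
  obtain ⟨m, hm⟩ : ∃ m : M43, m = Multiplicative.toAdd n := ⟨_, rfl⟩
  have hxm : x * m = m := by
    have := congrArg Multiplicative.toAdd hn
    rw [act_apply] at this
    rw [hx, hm]
    exact this
  have hx1 : x ≠ 1 := by
    intro h
    apply hc
    apply Subtype.ext
    apply Units.ext
    rw [← hx, h]
    rfl
  have hpow : ∀ k : ℕ, x ^ k * m = m := by
    intro k
    induction k with
    | zero => simp
    | succ k ih => rw [pow_succ, mul_assoc, hxm, ih]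
  have h2 : (2 : M43) * 2 = 1 := by decide +kernel
  have hneg : ∀ k : ℕ, x ^ k = -1 → m = 0 := by
    intro k hk
    have := hpow k
    rw [hk, neg_mul, one_mul] at this
    have h2m : (2 : M43) * m = 0 := by
      rw [two_mul]
      nth_rewrite 1 [← this]
      exact neg_add_cancel m
    calc m = (2 * 2 : M43) * m := by rw [h2, one_mul]
      _ = 2 * (2 * m) := by rw [mul_assoc]
      _ = 0 := by rw [h2m, mul_zero]
  have hmem : x ∈ LC := by rw [hx]; exact c.2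
  have hm0 : m = 0 := by
    rcases LC_cert x hmem with h | h | h | h | h | ⟨-, h⟩
    · exact absurd h hx1
    · exact hneg 1 (by rw [pow_one]; exact h)
    · exact hneg 2 h
    · exact hneg 4 h
    · exact hneg 5 h
    · have e1 : (x ^ 4 + x ^ 3 + x ^ 2 + x + 1) * m = 5 * m := by
        have e5 : (5 : M43) = 1 + 1 + 1 + 1 + 1 := by norm_num
        rw [add_mul, add_mul, add_mul, add_mul, hpow 4, hpow 3, hpow 2, hxm, one_mul, e5, add_mul,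
          add_mul, add_mul, add_mul, one_mul]
      rw [h, zero_mul] at e1
      have h5 : (5 : M43) = 2 := by decide +kernel
      rw [h5] at e1
      calc m = (2 * 2 : M43) * m := by rw [h2, one_mul]
        _ = 2 * (2 * m) := by rw [mul_assoc]
        _ = 0 := by rw [← e1, mul_zero]
  show n = Multiplicative.ofAdd 0
  rw [← hm0, hm]
  rfl

theorem m43_one_ne_zero : (1 : M43) ≠ 0 := by decide +kernel

theorem M43_spectrum : Set.range (orderOf : Multiplicative M43 → ℕ) = {1, 3} := by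
  apply Set.Subset.antisymm
  · rintro _ ⟨n, rfl⟩
    have h : n ^ 3 = 1 := by
      have := m43_three (Multiplicative.toAdd n)
      exact congrArg Multiplicative.ofAdd this
    have h1 : orderOf n ∣ 3 := orderOf_dvd_of_pow_eq_one h
    rcases (Nat.dvd_prime Nat.prime_three).1 h1 with h2 | h2 <;> simp [h2]
  · intro k hk
    simp only [Set.mem_insert_iff, Set.mem_singleton_iff] at hk
    rcases hk with rfl | rfl
    · exact ⟨1, orderOf_one⟩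
    · refine ⟨Multiplicative.ofAdd (1 : M43), ?_⟩
      have : Fact (Nat.Prime 3) := ⟨Nat.prime_three⟩
      apply orderOf_eq_prime
      · exact congrArg Multiplicative.ofAdd (m43_three 1)
      · intro h
        exact m43_one_ne_zero (congrArg Multiplicative.toAdd h)

/-- the solvable Frobenius group -/
abbrev HSol : Type := Multiplicative M43 ⋊[act] CG

theorem HSol_spectrum : Set.range (orderOf : HSol → ℕ) = {1, 2, 3, 4, 5, 8, 10} := by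
  rw [range_orderOf_sdp act act_fpf, M43_spectrum, CG_spectrum]
  ext k
  simp only [Set.mem_union, Set.mem_insert_iff, Set.mem_singleton_iff]
  omega

instance : Group.IsSolvable HSol := isSolvable_sdp' act

instance : Finite HSol := Finite.of_equiv _ (SemidirectProduct.equivProd).symm

instance : Nontrivial HSol := by
  refine ⟨⟨SemidirectProduct.inl (Multiplicative.ofAdd (1 : M43)), 1, ?_⟩⟩
  intro h
  have h1 := congrArg (fun g : HSol => g.left) h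
  exact m43_one_ne_zero (congrArg Multiplicative.toAdd h1)

theorem exists_solvable_spec_c : ∃ (G : Type) (_ : Group G) (_ : Finite G),
    Group.IsSolvable G ∧ Nontrivial G ∧
      Set.range (orderOf : G → ℕ) = {1, 2, 3, 4, 5, 8, 10} :=
  ⟨HSol, inferInstance, inferInstance, inferInstance, inferInstance, HSol_spectrum⟩

end Cfsg.Agent.Lib.H25.SolvSpec
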