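/-
S2545 (Steinberg character of `PSp_2n(q)`; architect helper8), piece E (helper25): the rank one relations
`s x(c) = b y(c⁻¹)` for the short and the long simple roots, and `x(0) = 1`.
-/
import Cfsg.Agent.Lib.H8.SpBNA
import Cfsg.Agent.Lib.H8.SpBNEnt
import Cfsg.Prelude.Def_ParabolicCharacters

set_option autoImplicit false
set_option linter.unusedSimpArgs false

namespace Cfsg.Agent.Lib.H25.SpBN

open Matrix Cfsg.Agent.Lib.H12.LS2 Cfsg.Agent.Lib.H5.LS2 Cfsg.Agent.Lib.H11.SpU Cfsg.Agent.Lib.H8.SpBN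

variable {F : Type*} [Field F] {m : ℕ}

theorem glE_zero (i j : Fin (m + 1)) (h : i ≠ j) : glE i j h (0 : F) = 1 := by
  apply Units.ext
  rw [glE_val, Matrix.single_zero, add_zero, Units.val_one]

theorem glE_add (i j : Fin (m + 1)) (h : i ≠ j) (c d : F) :
    glE i j h (c + d) = glE i j h c * glE i j h d := by
  apply Units.ext
  rw [Units.val_mul, glE_val, glE_val, glE_val, Matrix.add_mul, Matrix.mul_add, Matrix.mul_add,
    Matrix.one_mul, Matrix.mul_one, Matrix.one_mul, Matrix.single_mul_single_of_ne _ _ _ _ (Ne.symm h),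
    Matrix.single_add]
  abel

theorem lEl_mul (a b : GL (Fin (m + 1)) F) : (lEl a * lEl b : Sp (m + 1) F) = lEl (a * b) := by
  rw [← lHom_apply, ← lHom_apply, ← lHom_apply, map_mul]

theorem lEl_one : (lEl (1 : GL (Fin (m + 1)) F) : Sp (m + 1) F) = 1 := by
  rw [← lHom_apply, map_one]

theorem xShort_zero (j : Fin m) : (xShort j (0 : F) : Sp (m + 1) F) = 1 := by
  unfold xShort
  rw [glE_zero, lEl_one]

theorem xLong_zero : (xLong m (0 : F) : Sp (m + 1) F) = 1 := by
  unfold xLong
  have : symE (Fin.last m) (0 : F) = 0 := by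
    apply Subtype.ext
    rw [symE_val, Matrix.single_zero]
    rfl
  rw [this, tEl_zero]

theorem swapXY_upper (j : Fin m) (c : F) (hc : c ≠ 0) :
    glSwap j.castSucc j.succ * glE j.castSucc j.succ (Fin.castSucc_lt_succ).ne c *
      glE j.succ j.castSucc (Fin.castSucc_lt_succ).ne' (-c⁻¹) ∈ Cfsg.upperTriangularGL (m + 1) F := by
  show Matrix.BlockTriangular ((glSwap j.castSucc j.succ * glE j.castSucc j.succ (Fin.castSucc_lt_succ).ne c *
      glE j.succ j.castSucc (Fin.castSucc_lt_succ).ne' (-c⁻¹) : GL (Fin (m + 1)) F) :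
      Matrix (Fin (m + 1)) (Fin (m + 1)) F) id
  intro k l hkl
  simp only [id] at hkl
  have hne : j.castSucc ≠ j.succ := (Fin.castSucc_lt_succ).ne
  have hlt : j.castSucc < j.succ := Fin.castSucc_lt_succ
  rw [Units.val_mul, Units.val_mul, glSwap_val, glE_val, glE_val, Matrix.mul_assoc,
    PEquiv.toMatrix_toPEquiv_mul, Matrix.submatrix_apply, id]
  rw [Matrix.add_mul, Matrix.mul_add, Matrix.mul_add, Matrix.one_mul, Matrix.mul_one, Matrix.one_mul,
    Matrix.single_mul_single_same]
  simp only [Matrix.add_apply, Matrix.one_apply, Matrix.single_apply]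
  by_cases hk1 : k = j.castSucc
  · subst hk1
    rw [Equiv.swap_apply_left]
    have h1 : j.succ ≠ l := fun h => by rw [← h] at hkl; exact absurd hkl (not_lt.2 hlt.le)
    have h2 : j.castSucc ≠ l := hkl.ne'
    simp [h1, h2, hne]
  · by_cases hk2 : k = j.succ
    · subst hk2
      rw [Equiv.swap_apply_right]
      have h1 : j.succ ≠ l := hkl.ne'
      by_cases h2 : j.castSucc = l
      · subst h2
        simp [hne, hne.symm, hc]
      · simp [h1, h2, hne, hne.symm]
    · rw [Equiv.swap_apply_of_ne_of_ne hk1 hk2]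
      have h0 : k ≠ l := hkl.ne'
      simp [h0, Ne.symm hk1, Ne.symm hk2]

theorem rank_one_short (j : Fin m) (c : F) (hc : c ≠ 0) :
    ∃ b ∈ Bsp m F, ∃ d : F, sShort j * xShort j c = b * yShort j d := by
  refine ⟨sShort j * xShort j c * yShort j (-c⁻¹), ?_, c⁻¹, ?_⟩
  · unfold sShort xShort yShort
    rw [lEl_mul, lEl_mul]
    exact lEl_mem_Bsp (swapXY_upper j c hc)
  · rw [mul_assoc (sShort j * xShort j c)]
    have : yShort j (-c⁻¹) * yShort j c⁻¹ = (1 : Sp (m + 1) F) := by
      unfold yShort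
      rw [lEl_mul, ← glE_add, neg_add_cancel, glE_zero, lEl_one]
    rw [this, mul_one]

theorem symE_zero (i : Fin (m + 1)) : symE i (0 : F) = 0 := by
  apply Subtype.ext
  rw [symE_val, Matrix.single_zero]
  rfl

theorem rank_one_long (c : F) (hc : c ≠ 0) :
    ∃ b ∈ Bsp m F, ∃ d : F, sLong m F * xLong m c = b * yLong m d := by
  refine ⟨sLong m F * xLong m c * yLong m (-c⁻¹), ?_, c⁻¹, ?_⟩
  · rw [mem_Bsp_iff]
    unfold sLong xLong yLong
    rw [Submonoid.coe_mul, Submonoid.coe_mul, w1_val, tEl_val, tmEl_val, symE_val, symE_val,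
      fromBlocks_multiply, fromBlocks_multiply, isUp_fromBlocks_iff]
    simp only [Matrix.mul_one, Matrix.mul_zero, add_zero, zero_add, Matrix.sub_mul, Matrix.one_mul,
      Matrix.single_mul_single_same, Matrix.neg_mul, mul_one, one_mul, sub_self, Matrix.add_mul]
    have hdiag : ∀ (k l : Fin (m + 1)) (x : F), k ≠ l →
        Matrix.single (Fin.last m) (Fin.last m) x k l = 0 := by
      intro k l x hkl
      rw [Matrix.single_apply, if_neg]
      rintro ⟨h1, h2⟩
      exact hkl (h1.symm.trans h2)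
    refine ⟨?_, ?_, ?_⟩
    · intro k l hkl
      have hkl' : k ≠ l := (ne_of_lt hkl).symm
      simp only [Matrix.add_apply, Matrix.sub_apply, Matrix.one_apply_ne hkl', hdiag k l _ hkl']
      ring
    · ext k l
      simp only [Matrix.add_apply, Matrix.sub_apply, Matrix.neg_apply, Matrix.zero_apply,
        Matrix.single_apply]
      split_ifs
      · field_simp
        ring
      · ring
    · intro k l hkl
      have hkl' : l ≠ k := ne_of_lt hkl
      simp only [Matrix.transpose_apply, Matrix.add_apply, Matrix.sub_apply, Matrix.neg_apply,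
        Matrix.one_apply_ne hkl', hdiag l k _ hkl']
      ring
  · rw [mul_assoc (sLong m F * xLong m c)]
    have : yLong m (-c⁻¹) * yLong m c⁻¹ = (1 : Sp (m + 1) F) := by
      unfold yLong
      rw [← tmEl_add, ← symE_add, neg_add_cancel, symE_zero, tmEl_zero]
    rw [this, mul_one]

end Cfsg.Agent.Lib.H25.SpBN
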