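import Cfsg.Agent.Lib.H7.SpMinDefs
import Cfsg.Agent.Lib.H2.SpSimple

/-!
# S2142-B2 (helper25, for helper7's S2142): the Fano-plane argument `false_of_full`

A subgroup `H` of `Sp_{2m}(2)`, `m ≥ 3`, containing no transvection cannot contain, for every non-zero `p` and every `y ⊥ p`, one of
`s p y`, `s p y * t p`.
-/

set_option autoImplicit false
set_option linter.unusedSectionVars false
set_option linter.unusedVariables false
set_option linter.unusedSimpArgs false

namespace Cfsg.Agent.Lib.H25.SpMinB2

open Matrix Cfsg.Agent.Lib.H4 Cfsg.Agent.Lib.H2.Sp Cfsg.Agent.Lib.H7.SpMin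

variable {F : Type*} [Field F] [Fintype F] (m : ℕ)

set_option quotPrecheck false in
local notation "Sp" => ↥(Matrix.symplecticGroup (Fin m) F)

set_option quotPrecheck false in
local notation "MM" => Matrix (Fin m ⊕ Fin m) (Fin m ⊕ Fin m) F

set_option quotPrecheck false in
local notation "VV" => (Fin m ⊕ Fin m → F)

set_option quotPrecheck false in
local notation "B" => Cfsg.sympForm m F

theorem t_mulVec (v x : VV) : (t m v : MM) *ᵥ x = x + B x v • v := by
  unfold t
  rw [tv_mulVec, one_mul]

theorem ext_mulVec {g g' : Sp} (h : ∀ x : VV, (g : MM) *ᵥ x = (g' : MM) *ᵥ x) : g = g' := by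
  apply Subtype.ext
  rw [Matrix.ext_iff_mulVec]
  exact h

theorem mul_mulVec (g g' : Sp) (x : VV) : ((g * g' : Sp) : MM) *ᵥ x = (g : MM) *ᵥ ((g' : MM) *ᵥ x) := by
  rw [Submonoid.coe_mul, Matrix.mulVec_mulVec]

/-- the action of `s a y` for `a ⊥ y` -/
theorem s_mulVec' (hF : Fintype.card F = 2) (a y x : VV) (hay : B a y = 0) :
    (s m a y : MM) *ᵥ x = x + B x a • y + B x y • a := by
  have h2 := two_eq_zero hF
  have hya : B y a = 0 := by rw [sympForm_symm m hF, hay]
  unfold s
  rw [mul_mulVec, mul_mulVec, tv_mulVec, tv_mulVec, tv_mulVec]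
  simp only [one_mul, sympForm_add_left, sympForm_add_right, sympForm_smul_left, sympForm_smul_right, sympForm_self,
    hay, hya, mul_zero, add_zero, zero_add]
  funext i
  simp only [Pi.add_apply, Pi.smul_apply, smul_eq_mul]
  linear_combination (B x a * a i + B x y * y i) * h2

theorem t_mul_self (hF : Fintype.card F = 2) (v : VV) : t m v * t m v = 1 := by
  unfold t
  rw [tv_mul]
  have : (1 : F) + 1 = 0 := by
    have := two_eq_zero hF
    linear_combination this
  rw [this, tv_zero_right]

theorem s_symm (hF : Fintype.card F = 2) (p y : VV) (hpy : B p y = 0) : s m y p = s m p y := by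
  have hyp : B y p = 0 := by rw [sympForm_symm m hF, hpy]
  apply ext_mulVec
  intro x
  rw [s_mulVec' m hF y p x hyp, s_mulVec' m hF p y x hpy]
  abel

theorem s_add_left (hF : Fintype.card F = 2) (p y : VV) (hpy : B p y = 0) : s m (p + y) p = s m p y := by
  have h2 := two_eq_zero hF
  have hyp : B y p = 0 := by rw [sympForm_symm m hF, hpy]
  have h1 : B (p + y) p = 0 := by rw [sympForm_add_left, sympForm_self, hyp, add_zero]
  apply ext_mulVec
  intro x
  rw [s_mulVec' m hF (p + y) p x h1, s_mulVec' m hF p y x hpy]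
  simp only [sympForm_add_right]
  funext i
  simp only [Pi.add_apply, Pi.smul_apply, smul_eq_mul]
  linear_combination (B x p * p i) * h2

/-- `s p y * t p = t y * t (p + y)` -/
theorem s_mul_t (hF : Fintype.card F = 2) (p y : VV) (hpy : B p y = 0) : s m p y * t m p = t m y * t m (p + y) := by
  have h2 := two_eq_zero hF
  have hyp : B y p = 0 := by rw [sympForm_symm m hF, hpy]
  apply ext_mulVec
  intro x
  rw [mul_mulVec, mul_mulVec, s_mulVec' m hF p y _ hpy, t_mulVec, t_mulVec, t_mulVec]
  simp only [sympForm_add_left, sympForm_add_right, sympForm_smul_left, sympForm_smul_right, sympForm_self,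
    hpy, hyp, mul_zero, add_zero, zero_add]
  funext i
  simp only [Pi.add_apply, Pi.smul_apply, smul_eq_mul]
  linear_combination (-(B x y * y i)) * h2

theorem t_mul_s (hF : Fintype.card F = 2) (p y : VV) (hpy : B p y = 0) : t m p * s m p y = s m p y * t m p := by
  have hyp : B y p = 0 := by rw [sympForm_symm m hF, hpy]
  apply ext_mulVec
  intro x
  rw [mul_mulVec, mul_mulVec, s_mulVec' m hF p y _ hpy, s_mulVec' m hF p y _ hpy, t_mulVec, t_mulVec]
  simp only [sympForm_add_left, sympForm_add_right, sympForm_smul_left, sympForm_smul_right, sympForm_self,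
    hpy, hyp, mul_zero, add_zero, zero_add]
  funext i
  simp only [Pi.add_apply, Pi.smul_apply, smul_eq_mul]
  ring

theorem s_mul_s_perp (hF : Fintype.card F = 2) (a y y' : VV) (hay : B a y = 0) (hay' : B a y' = 0)
    (hyy : B y y' = 0) : s m a y * s m a y' = s m a (y + y') := by
  have hya : B y a = 0 := by rw [sympForm_symm m hF, hay]
  have hya' : B y' a = 0 := by rw [sympForm_symm m hF, hay']
  have hyy' : B y' y = 0 := by rw [sympForm_symm m hF, hyy]
  have h1 : B a (y + y') = 0 := by rw [sympForm_add_right, hay, hay', add_zero]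
  apply ext_mulVec
  intro x
  rw [mul_mulVec, s_mulVec' m hF a y _ hay, s_mulVec' m hF a y' _ hay', s_mulVec' m hF a (y + y') _ h1]
  simp only [sympForm_add_left, sympForm_add_right, sympForm_smul_left, sympForm_smul_right, sympForm_self,
    hay, hay', hya, hya', hyy, hyy', mul_zero, add_zero, zero_add]
  funext i
  simp only [Pi.add_apply, Pi.smul_apply, smul_eq_mul]
  ring

theorem s_mul_s_not_perp (hF : Fintype.card F = 2) (a y y' : VV) (hay : B a y = 0) (hay' : B a y' = 0)
    (hyy : B y y' ≠ 0) : s m a y * s m a y' = s m a (y + y') * t m a := by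
  have hya : B y a = 0 := by rw [sympForm_symm m hF, hay]
  have hya' : B y' a = 0 := by rw [sympForm_symm m hF, hay']
  have hyy1 : B y y' = 1 := eq_one_of_ne_zero hF hyy
  have hyy' : B y' y = 1 := by rw [sympForm_symm m hF, hyy1]
  have h1 : B a (y + y') = 0 := by rw [sympForm_add_right, hay, hay', add_zero]
  apply ext_mulVec
  intro x
  rw [mul_mulVec, mul_mulVec, s_mulVec' m hF a y _ hay, s_mulVec' m hF a y' _ hay', s_mulVec' m hF a (y + y') _ h1,
    t_mulVec]
  simp only [sympForm_add_left, sympForm_add_right, sympForm_smul_left, sympForm_smul_right, sympForm_self,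
    hay, hay', hya, hya', hyy1, hyy', mul_zero, add_zero, zero_add, mul_one]
  funext i
  simp only [Pi.add_apply, Pi.smul_apply, smul_eq_mul]
  ring


theorem add_add_cancel_two (hF : Fintype.card F = 2) (p y : VV) : p + y + p = y := by
  funext i
  simp only [Pi.add_apply]
  linear_combination (p i) * two_eq_zero hF

section Main

variable (hF : Fintype.card F = 2) (H : Subgroup (Matrix.symplecticGroup (Fin m) F))
  (hno : ∀ v : Fin m ⊕ Fin m → F, v ≠ 0 → t m v ∉ H)
  (hfull : ∀ p : Fin m ⊕ Fin m → F, p ≠ 0 → ∀ y : Fin m ⊕ Fin m → F, Cfsg.sympForm m F p y = 0 →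
    s m p y ∈ H ∨ s m p y * t m p ∈ H)

include hF hno hfull

/-- not both of `s p y`, `s p y * t p` lie in `H` -/
theorem excl (p y : VV) (hp : p ≠ 0) (h1 : s m p y ∈ H) (h2 : s m p y * t m p ∈ H) : False := by
  apply hno p hp
  have : t m p = (s m p y)⁻¹ * (s m p y * t m p) := by group
  rw [this]
  exact mul_mem (inv_mem h1) h2

theorem pair1 (p y : VV) (hp : p ≠ 0) (hpy : B p y = 0) (hL : s m p y ∉ H) : t m y * t m (p + y) ∈ H := by
  rw [← s_mul_t m hF p y hpy]
  exact (hfull p hp y hpy).resolve_left hL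

theorem pair2 (p y : VV) (hy : y ≠ 0) (hpy : B p y = 0) (hL : s m p y ∉ H) : t m p * t m (y + p) ∈ H := by
  have hyp : B y p = 0 := by rw [sympForm_symm m hF, hpy]
  apply pair1 m hF H hno hfull y p hy hyp
  rwa [s_symm m hF p y hpy]

theorem pair3 (p y : VV) (hy : p + y ≠ 0) (hpy : B p y = 0) (hL : s m p y ∉ H) : t m p * t m y ∈ H := by
  have hyp : B y p = 0 := by rw [sympForm_symm m hF, hpy]
  have h1 : B (p + y) p = 0 := by rw [sympForm_add_left, sympForm_self, hyp, add_zero]
  have := pair1 m hF H hno hfull (p + y) p hy h1 (by rwa [s_add_left m hF p y hpy])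
  rwa [add_add_cancel_two m hF] at this

/-- converse: a pair of transvections of a totally isotropic line in `H` makes the line of type 1 -/
theorem conv (p y : VV) (hy : p + y ≠ 0) (hpy : B p y = 0) (h : t m p * t m y ∈ H) : s m p y ∉ H := by
  intro hs
  have hyp : B y p = 0 := by rw [sympForm_symm m hF, hpy]
  have h1 : B (p + y) p = 0 := by rw [sympForm_add_left, sympForm_self, hyp, add_zero]
  apply excl m hF H hno hfull (p + y) p hy
  · rwa [s_add_left m hF p y hpy]
  · rw [s_mul_t m hF (p + y) p h1, add_add_cancel_two m hF]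
    exact h

theorem add_a (p y z : VV) (hpy : B p y = 0) (hpz : B p z = 0) (hyz : B y z = 0)
    (h1 : s m p y ∈ H) (h2 : s m p z ∈ H) : s m p (y + z) ∈ H := by
  rw [← s_mul_s_perp m hF p y z hpy hpz hyz]
  exact mul_mem h1 h2

theorem add_b (p y z : VV) (hp : p ≠ 0) (hpy : B p y = 0) (hpz : B p z = 0) (hyz : B y z = 0)
    (h1 : s m p y ∉ H) (h2 : s m p z ∉ H) : s m p (y + z) ∈ H := by
  have h1' := (hfull p hp y hpy).resolve_left h1
  have h2' := (hfull p hp z hpz).resolve_left h2
  have h3 : s m p (y + z) = s m p y * t m p * (s m p z * t m p) := by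
    rw [← s_mul_s_perp m hF p y z hpy hpz hyz]
    have e1 : s m p y * t m p * (s m p z * t m p) = s m p y * (t m p * s m p z) * t m p := by group
    rw [e1, t_mul_s m hF p z hpz]
    have e2 : s m p y * (s m p z * t m p) * t m p = s m p y * s m p z * (t m p * t m p) := by group
    rw [e2, t_mul_self m hF, mul_one]
  rw [h3]
  exact mul_mem h1' h2'

/-- the plane lemma -/
theorem plane_false (p q r : VV) (hpq : B p q = 0) (hpr : B p r = 0) (hqr : B q r = 0)
    (hp : p ≠ 0) (hr : r ≠ 0) (hpq0 : p + q ≠ 0) (hqr0 : q + r ≠ 0) (hpr0 : p + r ≠ 0)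
    (hpqr0 : p + (q + r) ≠ 0)
    (h1 : s m p q ∉ H) (h2 : s m q r ∉ H) : False := by
  have k1 : t m p * t m q ∈ H := pair3 m hF H hno hfull p q hpq0 hpq h1
  have k2 : t m q * t m r ∈ H := pair3 m hF H hno hfull q r hqr0 hqr h2
  have k3 : t m q * t m (q + r) ∈ H := by
    have := pair2 m hF H hno hfull q r hr hqr h2
    rwa [add_comm] at this
  have k4 : t m p * t m r ∈ H := by
    have e : t m p * t m r = (t m p * t m q) * (t m q * t m r) := by
      have e1 : (t m p * t m q) * (t m q * t m r) = t m p * (t m q * t m q) * t m r := by group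
      rw [e1, t_mul_self m hF, mul_one]
    rw [e]
    exact mul_mem k1 k2
  have k5 : s m p r ∉ H := conv m hF H hno hfull p r hpr0 hpr k4
  have k6 : s m p (q + r) ∈ H := add_b m hF H hno hfull p q r hp hpq hpr hqr h1 k5
  have k7 : t m p * t m (q + r) ∈ H := by
    have e : t m p * t m (q + r) = (t m p * t m q) * (t m q * t m (q + r)) := by
      have e1 : (t m p * t m q) * (t m q * t m (q + r)) = t m p * (t m q * t m q) * t m (q + r) := by group
      rw [e1, t_mul_self m hF, mul_one]
    rw [e]
    exact mul_mem k1 k3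
  apply hno (p + (q + r)) hpqr0
  have e : t m (p + (q + r)) = (t m p * t m (q + r))⁻¹ * s m p (q + r) := by
    unfold s t
    group
  rw [e]
  exact mul_mem (inv_mem k7) k6

/-- every line of a totally isotropic plane is of type 0 -/
theorem plane_type0 (p q r : VV) (hpq : B p q = 0) (hpr : B p r = 0) (hqr : B q r = 0)
    (hp : p ≠ 0) (hr : r ≠ 0) (hpq0 : p + q ≠ 0) (hqr0 : q + r ≠ 0) (hpr0 : p + r ≠ 0)
    (hpqr0 : p + (q + r) ≠ 0) : s m p q ∈ H := by
  by_contra h1
  have hqp : B q p = 0 := by rw [sympForm_symm m hF, hpq]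
  have h1' : s m q p ∉ H := by rwa [s_symm m hF p q hpq]
  have hrp : B r (p + r) = 0 := by rw [sympForm_add_right, sympForm_self, add_zero, sympForm_symm m hF, hpr]
  have hqpr : B q (p + r) = 0 := by rw [sympForm_add_right, hqp, hqr, add_zero]
  have hrpr : r + (p + r) = p := by
    rw [add_comm p r, ← add_assoc]
    funext i
    simp only [Pi.add_apply]
    linear_combination (r i) * two_eq_zero hF
  by_cases h2 : s m q r ∈ H
  · by_cases h3 : s m q (p + r) ∈ H
    · have := add_a m hF H hno hfull q r (p + r) hqr hqpr hrp h2 h3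
      rw [hrpr] at this
      exact h1' this
    · -- the plane `p, q, p + r`
      have hppr : B p (p + r) = 0 := by rw [sympForm_add_right, sympForm_self, hpr, add_zero]
      have e1 : p + (p + r) = r := by
        rw [← add_assoc]
        funext i
        simp only [Pi.add_apply]
        linear_combination (p i) * two_eq_zero hF
      have e2 : p + (q + (p + r)) = q + r := by
        funext i
        simp only [Pi.add_apply]
        linear_combination (p i) * two_eq_zero hF
      have e3 : q + (p + r) = p + (q + r) := by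
        funext i
        simp only [Pi.add_apply]
        ring
      exact plane_false m hF H hno hfull p q (p + r) hpq hppr hqpr hp hpr0 hpq0 (by rwa [e3])
        (by rwa [e1]) (by rwa [e2]) h1 h3
  · exact plane_false m hF H hno hfull p q r hpq hpr hqr hp hr hpq0 hqr0 hpr0 hpqr0 h1 h2

/-- coordinate version of the non-vanishing conditions -/
theorem plane_type0' (p q r : VV) (hpq : B p q = 0) (hpr : B p r = 0) (hqr : B q r = 0)
    (i j k : Fin m ⊕ Fin m) (hpi : p i = 1) (hpj : p j = 0) (hpk : p k = 0)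
    (hqi : q i = 0) (hqj : q j = 1) (hqk : q k = 0) (hri : r i = 0) (hrj : r j = 0) (hrk : r k = 1) :
    s m p q ∈ H := by
  have ne : ∀ (v : VV) (l : Fin m ⊕ Fin m), v l = 1 → v ≠ 0 := by
    intro v l hv h0
    rw [h0] at hv
    exact zero_ne_one hv
  apply plane_type0 m hF H hno hfull p q r hpq hpr hqr
  · exact ne p i hpi
  · exact ne r k hrk
  · exact ne (p + q) i (by simp [hpi, hqi])
  · exact ne (q + r) j (by simp [hqj, hrj])
  · exact ne (p + r) i (by simp [hpi, hri])
  · exact ne (p + (q + r)) i (by simp [hpi, hqi, hri])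

end Main

end Cfsg.Agent.Lib.H25.SpMinB2

namespace Cfsg.Agent.Lib.H25.SpMin

open Matrix Cfsg.Agent.Lib.H4 Cfsg.Agent.Lib.H2.Sp Cfsg.Agent.Lib.H7.SpMin Cfsg.Agent.Lib.H25.SpMinB2

variable {F : Type*} [Field F] [Fintype F] (m : ℕ)

set_option quotPrecheck false in
local notation "Sp" => ↥(Matrix.symplecticGroup (Fin m) F)

set_option quotPrecheck false in
local notation "MM" => Matrix (Fin m ⊕ Fin m) (Fin m ⊕ Fin m) F

set_option quotPrecheck false in
local notation "VV" => (Fin m ⊕ Fin m → F)

set_option quotPrecheck false in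
local notation "B" => Cfsg.sympForm m F

/-- **S2142-B2** (the Fano-plane argument). -/
theorem false_of_full (hF : Fintype.card F = 2) (hm : 3 ≤ m) (H : Subgroup Sp)
    (hno : ∀ v : VV, v ≠ 0 → t m v ∉ H)
    (hfull : ∀ p : VV, p ≠ 0 → ∀ y : VV, B p y = 0 → s m p y ∈ H ∨ s m p y * t m p ∈ H) : False := by
  classical
  set i0 : Fin m := ⟨0, by omega⟩ with hi0
  set i1 : Fin m := ⟨1, by omega⟩ with hi1
  set i2 : Fin m := ⟨2, by omega⟩ with hi2
  have h01 : i0 ≠ i1 := by simp [hi0, hi1, Fin.ext_iff]
  have h02 : i0 ≠ i2 := by simp [hi0, hi2, Fin.ext_iff]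
  have h12 : i1 ≠ i2 := by simp [hi1, hi2, Fin.ext_iff]
  set e1 : VV := Pi.single (Sum.inl i0) 1 with he1
  set e2 : VV := Pi.single (Sum.inl i1) 1 with he2
  set e3 : VV := Pi.single (Sum.inl i2) 1 with he3
  set f2 : VV := Pi.single (Sum.inr i1) 1 with hf2
  -- the values of the form
  have b12 : B e1 e2 = 0 := by rw [he2, sympForm_single_inl, he1]; simp
  have b13 : B e1 e3 = 0 := by rw [he3, sympForm_single_inl, he1]; simp
  have b23 : B e2 e3 = 0 := by rw [he3, sympForm_single_inl, he2]; simp
  have b1f : B e1 f2 = 0 := by rw [hf2, sympForm_single_inr, he1]; simp [h01]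
  have bf3 : B f2 e3 = 0 := by rw [he3, sympForm_single_inl, hf2]; simp [h12]
  have b2f : B e2 f2 = -1 := by rw [hf2, sympForm_single_inr, he2]; simp
  have b1s : B e1 (e2 + f2) = 0 := by rw [sympForm_add_right, b12, b1f, add_zero]
  have bs3 : B (e2 + f2) e3 = 0 := by rw [sympForm_add_left, b23, bf3, add_zero]
  have k1 : s m e1 e2 ∈ H :=
    plane_type0' m hF H hno hfull e1 e2 e3 b12 b13 b23 (Sum.inl i0) (Sum.inl i1) (Sum.inl i2)
      (by simp [he1]) (by simp [he1, h01.symm]) (by simp [he1, h02.symm])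
      (by simp [he2, h01]) (by simp [he2]) (by simp [he2, h12.symm])
      (by simp [he3, h02]) (by simp [he3, h12]) (by simp [he3])
  have k2 : s m e1 f2 ∈ H :=
    plane_type0' m hF H hno hfull e1 f2 e3 b1f b13 bf3 (Sum.inl i0) (Sum.inr i1) (Sum.inl i2)
      (by simp [he1]) (by simp [he1]) (by simp [he1, h02.symm])
      (by simp [hf2]) (by simp [hf2]) (by simp [hf2])
      (by simp [he3, h02]) (by simp [he3]) (by simp [he3])
  have k3 : s m e1 (e2 + f2) ∈ H :=
    plane_type0' m hF H hno hfull e1 (e2 + f2) e3 b1s b13 bs3 (Sum.inl i0) (Sum.inl i1) (Sum.inl i2)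
      (by simp [he1]) (by simp [he1, h01.symm]) (by simp [he1, h02.symm])
      (by simp [he2, hf2, h01]) (by simp [he2, hf2]) (by simp [he2, hf2, h12.symm])
      (by simp [he3, h02]) (by simp [he3, h12]) (by simp [he3])
  have he1ne : e1 ≠ 0 := by
    intro h0
    have := congrFun h0 (Sum.inl i0)
    simp [he1] at this
  apply hno e1 he1ne
  have hne : B e2 f2 ≠ 0 := by rw [b2f]; simp
  have key := s_mul_s_not_perp m hF e1 e2 f2 b12 b1f hne
  have e : t m e1 = (s m e1 (e2 + f2))⁻¹ * (s m e1 e2 * s m e1 f2) := by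
    rw [key]; group
  rw [e]
  exact mul_mem (inv_mem k3) (mul_mem k1 k2)

end Cfsg.Agent.Lib.H25.SpMin
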