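/-
Restriction of a saturated fusion system to a strongly closed subgroup `T` with `S = T C_S(T)`;
extension of isomorphisms over a strongly closed centralizing subgroup; function-level
introduction rule for the strong invariance condition.
-/
import Mathlib
import Cfsg.Prelude.Def_FusionSystem
import Cfsg.Agent.Lib.H25.Fusion
import Cfsg.Agent.Lib.H25.Saturation
import Cfsg.Agent.Lib.H25.SatEquiv
import Cfsg.Agent.Lib.H25.Normal
set_option autoImplicit false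

namespace Cfsg.Agent.Lib.H25

open Cfsg Cfsg.FusionSystem

variable {Ω : Type*} [Group Ω] {S : Subgroup Ω}

/-- If `T` is strongly closed in the saturated system `F` over `S` and `S = T C_S(T)`, then the
full subsystem of `F` over `T` is saturated. -/
theorem restrict_isSaturated [Finite S] {p : ℕ} [Fact p.Prime] {F : FusionSystem S}
    (hF : F.IsSaturated p) {T : Subgroup Ω} (hT : F.StronglyClosed T)
    (hdec : ∀ s ∈ S, ∃ a ∈ T, ∃ b ∈ S, (∀ t ∈ T, b * t = t * b) ∧ s = a * b)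
    (R : FusionSystem T) (hR : ∀ P : Subgroup Ω, P ≤ T → R.Hom P = F.Hom P) :
    R.IsSaturated p := by
  intro P hP
  obtain ⟨P', hconj, hfa, hrec⟩ := hF P (hP.trans hT.1)
  obtain ⟨f, hf⟩ := (isConj_iff F).1 hconj
  have hP'T : P' ≤ T := stronglyClosed_image_le hT hf hP
  refine ⟨P', ?_, ?_, ?_⟩
  · obtain ⟨φ, hφ, hr⟩ := hconj
    exact ⟨φ, by rw [hR P hP]; exact hφ, hr⟩
  · have hAut : R.autGroup P' = F.autGroup P' := by
      unfold FusionSystem.autGroup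
      rw [hR P' hP'T]
    have hInd : autInducedBy T P' = autInducedBy S P' := by
      ext α
      rw [mem_autInducedBy_iff, mem_autInducedBy_iff]
      constructor
      · rintro ⟨g, hg, hgv⟩
        exact ⟨g, hT.1 hg, hgv⟩
      · rintro ⟨g, hg, hgv⟩
        obtain ⟨a, ha, b, hb, hbc, rfl⟩ := hdec g hg
        refine ⟨a, ha, fun x => ?_⟩
        rw [hgv x]
        have hx : b * (x : Ω) = x * b := hbc x (hP'T x.2)
        calc a * b * (x : Ω) * (a * b)⁻¹ = a * (b * x) * b⁻¹ * a⁻¹ := by group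
          _ = a * (x * b) * b⁻¹ * a⁻¹ := by rw [hx]
          _ = a * x * a⁻¹ := by group
    refine ⟨hP'T, ?_⟩
    rw [hAut, hInd]
    exact hfa.2
  · refine ⟨hP'T, fun Q φ hφ hr => ?_⟩
    have hQT : Q ≤ T := hom_le R hφ
    have hφF : φ ∈ F.Hom Q := by rw [← hR Q hQT]; exact hφ
    obtain ⟨ψ, hψ, hψv⟩ := hrec.2 Q φ hφF hr
    have hle : extender T Q φ ≤ extender S Q φ := by
      intro g hg
      rw [mem_extender_iff] at hg ⊢
      obtain ⟨h1, h2, h, hh, h3⟩ := hg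
      exact ⟨hT.1 h1, h2, h, hT.1 hh, h3⟩
    have hNT : extender T Q φ ≤ T := fun g hg => ((mem_extender_iff T Q φ g).1 hg).1
    refine ⟨ψ.comp (Subgroup.inclusion hle), ?_, fun x hxQ hxN => ?_⟩
    · rw [hR _ hNT]
      exact restrict_mem F hψ hle
    · exact hψv x hxQ (hle hxN)

/-- Extension of an isomorphism `g : Q → Q'` of a saturated system over a strongly closed subgroup
`Z` centralizing both `Q` and `Q'`. -/
theorem exists_extension_over [Finite S] {p : ℕ} [Fact p.Prime] (hS : IsPGroup p S)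
    {F : FusionSystem S} (hF : F.IsSaturated p) {Z : Subgroup Ω} (hZ : F.StronglyClosed Z)
    {Q Q' : Subgroup Ω} {g : Ω → Ω} (hg : IsIso F Q Q' g)
    (hZQ : Z ≤ centralizerIn S Q) (hZQ' : Z ≤ centralizerIn S Q') :
    ∃ g' : Ω → Ω, IsIso F (Q ⊔ Z) (Q' ⊔ Z) g' ∧ (∀ x ∈ Q, g' x = g x) ∧ IsIso F Z Z g' := by
  have hQS : Q ≤ S := hg.le_left
  have hQ'S : Q' ≤ S := hg.le_right
  obtain ⟨Qs, hconj, hfc⟩ := exists_fullyCentralized_conj F hQ'S
  have hrec : F.IsReceptive Qs := isReceptive_of_fullyCentralized hS hF hfc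
  obtain ⟨θ, hθ⟩ := (isConj_iff F).1 hconj
  have key : ∀ {X : Subgroup Ω} {k : Ω → Ω}, IsIso F X Qs k → Z ≤ centralizerIn S X →
      ∃ k' : Ω → Ω, IsIso F (X ⊔ Z) (Qs ⊔ Z) k' ∧ (∀ x ∈ X, k' x = k x) := by
    intro X k hk hZX
    have hk' := hk
    obtain ⟨φ, hφ, hφk, hr⟩ := hk'
    have hle : X ⊔ Z ≤ extender S X φ :=
      sup_le (le_extender F hφ) (hZX.trans (centralizerIn_le_extender S X φ))
    obtain ⟨k', N', hi, hv⟩ := IsReceptive_extend hrec hk (X ⊔ Z)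
      (fun n hn => (mem_extender_iff' hφk n).1 (hle hn))
    have hiZ : IsIso F Z Z k' := stronglyClosed_isIso_self hZ hi le_sup_right
    have hiX : IsIso F X Qs k' := by
      refine hi.restrict' le_sup_left (fun x hx => ?_) (fun y hy => ?_)
      · rw [hv x hx (le_sup_left (a := X) hx)]
        exact hk.map_mem hx
      · obtain ⟨x, hx, rfl⟩ := hk.surjOn hy
        exact ⟨x, hx, hv x hx (le_sup_left (a := X) hx)⟩
    have hN' : N' = Qs ⊔ Z := hi.image_sup hiX hiZ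
    rw [hN'] at hi
    exact ⟨k', hi, fun x hx => hv x hx (le_sup_left (a := X) hx)⟩
  obtain ⟨f₁, hi₁, hv₁⟩ := key (hg.trans hθ) hZQ
  obtain ⟨f₂, hi₂, hv₂⟩ := key hθ hZQ'
  obtain ⟨f₂', hi₂', h21, h12⟩ := hi₂.symm
  have hi : IsIso F (Q ⊔ Z) (Q' ⊔ Z) (f₂' ∘ f₁) := hi₁.trans hi₂'
  refine ⟨f₂' ∘ f₁, hi, fun x hx => ?_, stronglyClosed_isIso_self hZ hi le_sup_right⟩
  show f₂' (f₁ x) = g x
  rw [hv₁ x hx]
  show f₂' (θ (g x)) = g x
  rw [← hv₂ (g x) (hg.map_mem hx)]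
  exact h21 _ (le_sup_left (a := Q') (hg.map_mem hx))

/-- Function-level introduction of the strong invariance condition. -/
theorem strongInvariance_intro {F : FusionSystem S} {T : Subgroup Ω} (E : FusionSystem T)
    (h : ∀ {P P₁ Q Q' : Subgroup Ω} {f g : Ω → Ω}, P ≤ Q → P₁ ≤ Q → Q ≤ T → IsIso E P P₁ f →
      IsIso F Q Q' g → ∃ (χ : Ω → Ω) (R R₁ : Subgroup Ω), IsIso E R R₁ χ ∧
        (∀ y, y ∈ R ↔ ∃ x ∈ P, g x = y) ∧ ∀ x ∈ P, χ (g x) = g (f x)) :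
    ∀ (P Q : Subgroup Ω) (hPQ : P ≤ Q) (_ : Q ≤ T) (φ : P →* Ω) (_ : φ ∈ E.Hom P)
      (hφQ : ∀ x : P, φ x ∈ Q) (ψ : Q →* Ω) (_ : ψ ∈ F.Hom Q),
      ∃ χ ∈ E.Hom ((P.subgroupOf Q).map ψ),
        ∀ (x : P) (hx : ψ (Subgroup.inclusion hPQ x) ∈ (P.subgroupOf Q).map ψ),
          χ ⟨ψ (Subgroup.inclusion hPQ x), hx⟩ = ψ ⟨φ x, hφQ x⟩ := by
  intro P Q hPQ hQT φ hφ hφQ ψ hψ
  have hP₁ : φ.range ≤ Q := by
    rintro _ ⟨x, rfl⟩
    exact hφQ x
  obtain ⟨χ, R, R₁, hχ, hR, hχv⟩ := h hPQ hP₁ hQT (isIso_of_mem E hφ) (isIso_of_mem F hψ)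
  have hRe : R = (P.subgroupOf Q).map ψ := by
    ext y
    rw [hR]
    constructor
    · rintro ⟨x, hx, rfl⟩
      refine ⟨⟨x, hPQ hx⟩, Subgroup.mem_subgroupOf.2 hx, ?_⟩
      rw [ext1_apply_mem ψ (hPQ hx)]
    · rintro ⟨x, hx, rfl⟩
      exact ⟨x, Subgroup.mem_subgroupOf.1 hx, ext1_apply ψ x⟩
  subst hRe
  obtain ⟨χ', hχ', hχ'v, -⟩ := hχ
  refine ⟨χ', hχ', fun x hx => ?_⟩
  rw [hχ'v]
  show χ (ψ (Subgroup.inclusion hPQ x)) = _
  have e : ψ (Subgroup.inclusion hPQ x) = ext1 ψ (x : Ω) := (ext1_apply_mem ψ (hPQ x.2)).symm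
  rw [e, hχv x x.2, ext1_apply φ x, ext1_apply_mem ψ (hφQ x)]

end Cfsg.Agent.Lib.H25
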