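import Mathlib
import Cfsg.Prelude.Def_GeometricClasses
import Cfsg.Prelude.Def_ClassicalGeometry

/-!
# The group `4 ∘ 2^{1+4}` inside `GL_4(F)`: elementwise data and counting (helper25)

`Sy R ι` packages the elementwise facts about an absolutely irreducible subgroup
`R = 4 ∘ 2^{1+4}` of `GL_4(F)`, `char F ≠ 2`, with `ι` a generator of its centre (a scalar matrix of
order four), that are used for S6001.
-/

set_option autoImplicit false
open scoped MatrixGroups

namespace Cfsg.Agent.Lib.H25.Su4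

variable {F : Type*} [Field F]

local notation "M4" => Matrix (Fin 4) (Fin 4) F
local notation "G4" => GL (Fin 4) F

/-- elementwise data of an absolutely irreducible `4 ∘ 2^{1+4}` in `GL_4(F)` -/
structure Sy (R : Subgroup G4) (ι : G4) : Prop where
  two_ne : (2 : F) ≠ 0
  iota_mem : ι ∈ R
  iota_sq : ι * ι = -1
  iota_comm : ∀ g : G4, ι * g = g * ι
  card : Nat.card R = 64
  sq : ∀ a ∈ R, a * a = 1 ∨ a * a = -1
  comm : ∀ a ∈ R, ∀ b ∈ R, a * b = b * a ∨ a * b = -(b * a)
  center : ∀ c ∈ R, (∀ a ∈ R, a * c = c * a) → c = 1 ∨ c = -1 ∨ c = ι ∨ c = -ι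
  scal : ∀ M : M4, (∀ a ∈ R, M * (a : M4) = (a : M4) * M) → ∃ c : F, M = c • (1 : M4)

theorem neg_ne_self (h2 : (2 : F) ≠ 0) (a : G4) : -a ≠ a := by
  intro h
  have h1 : (-(a : M4)) = (a : M4) := by
    have := congrArg (fun u : G4 => (u : M4)) h
    simpa using this
  have h3 : (2 : F) • (a : M4) = 0 := by
    rw [two_smul]
    nth_rewrite 1 [← h1]
    exact neg_add_cancel _
  have h4 : (a : M4) = 0 := by
    rcases smul_eq_zero.1 h3 with h | h
    · exact absurd h h2
    · exact h
  have h5 := a.isUnit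
  rw [h4] at h5
  exact not_isUnit_zero h5

theorem neg_inj' {a b : G4} (h : -a = -b) : a = b := by
  have := congrArg (fun u : G4 => -u) h
  simpa using this

/-- the set of central elements -/
def IsCen (ι g : G4) : Prop := g = 1 ∨ g = -1 ∨ g = ι ∨ g = -ι

namespace Sy

variable {R : Subgroup (GL (Fin 4) F)} {ι : GL (Fin 4) F}

theorem neg_one_ne_one (h : Sy R ι) : (-1 : G4) ≠ 1 := neg_ne_self h.two_ne 1

theorem neg_mem (h : Sy R ι) : (-1 : G4) ∈ R := by
  rw [← h.iota_sq]
  exact R.mul_mem h.iota_mem h.iota_mem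

theorem neg_mem' (h : Sy R ι) {a : G4} (ha : a ∈ R) : -a ∈ R := by
  have : -a = (-1 : G4) * a := by rw [neg_mul, one_mul]
  rw [this]
  exact R.mul_mem h.neg_mem ha

theorem neg_mem_iff (h : Sy R ι) {a : G4} : -a ∈ R ↔ a ∈ R := by
  constructor
  · intro ha
    have := h.neg_mem' ha
    rwa [neg_neg] at this
  · exact h.neg_mem'

theorem iota_ne_one (h : Sy R ι) : ι ≠ 1 := by
  intro h1
  have := h.iota_sq
  rw [h1, one_mul] at this
  exact h.neg_one_ne_one this.symm

theorem iota_ne_neg_one (h : Sy R ι) : ι ≠ -1 := by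
  intro h1
  have := h.iota_sq
  rw [h1, neg_mul_neg, one_mul] at this
  exact h.neg_one_ne_one this.symm

theorem iota_inv (h : Sy R ι) : ι⁻¹ = -ι := by
  apply inv_eq_of_mul_eq_one_right
  rw [mul_neg, h.iota_sq, neg_neg]

theorem iota_mul_mem (h : Sy R ι) {a : G4} (ha : a ∈ R) : ι * a ∈ R := R.mul_mem h.iota_mem ha

theorem isCen_comm (h : Sy R ι) {c : G4} (hc : IsCen ι c) (g : G4) : c * g = g * c := by
  rcases hc with rfl | rfl | rfl | rfl
  · rw [one_mul, mul_one]
  · rw [neg_mul, mul_neg, one_mul, mul_one]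
  · exact h.iota_comm g
  · rw [neg_mul, mul_neg, h.iota_comm g]

theorem isCen_mem (h : Sy R ι) {c : G4} (hc : IsCen ι c) : c ∈ R := by
  rcases hc with rfl | rfl | rfl | rfl
  · exact R.one_mem
  · exact h.neg_mem
  · exact h.iota_mem
  · exact h.neg_mem' h.iota_mem

theorem isCen_of_comm (h : Sy R ι) {c : G4} (hc : c ∈ R) (hcc : ∀ a ∈ R, a * c = c * a) :
    IsCen ι c := h.center c hc hcc

theorem isCen_mul (h : Sy R ι) {c d : G4} (hc : IsCen ι c) (hd : IsCen ι d) : IsCen ι (c * d) := by
  apply h.isCen_of_comm (R.mul_mem (h.isCen_mem hc) (h.isCen_mem hd))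
  intro a _
  rw [← mul_assoc, ← h.isCen_comm hc a, mul_assoc, ← h.isCen_comm hd a, mul_assoc]

theorem isCen_neg (h : Sy R ι) {c : G4} (hc : IsCen ι c) : IsCen ι (-c) := by
  have : -c = (-1 : G4) * c := by rw [neg_mul, one_mul]
  rw [this]
  exact h.isCen_mul (Or.inr (Or.inl rfl)) hc

theorem isCen_iota_mul_iff (h : Sy R ι) {a : G4} : IsCen ι (ι * a) ↔ IsCen ι a := by
  constructor
  · intro h1
    have h2 := h.isCen_mul (h.isCen_neg (show IsCen ι ι from Or.inr (Or.inr (Or.inl rfl)))) h1
    have e : -ι * (ι * a) = a := by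
      rw [← mul_assoc, neg_mul, h.iota_sq, neg_neg, one_mul]
    rwa [e] at h2
  · intro h1
    exact h.isCen_mul (Or.inr (Or.inr (Or.inl rfl))) h1

/-- a non-central element anticommutes with some element -/
theorem exists_anti (h : Sy R ι) {a : G4} (ha : a ∈ R) (hnc : ¬ IsCen ι a) :
    ∃ b ∈ R, b * a = -(a * b) := by
  by_contra hcon
  push Not at hcon
  have : ∀ b ∈ R, b * a = a * b := by
    intro b hb
    rcases h.comm b hb a ha with h3 | h3
    · exact h3
    · exact absurd h3 (hcon b hb)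
  exact hnc (h.isCen_of_comm ha this)

theorem inv_eq (h : Sy R ι) {a : G4} (ha : a ∈ R) : a⁻¹ = a ∨ a⁻¹ = -a := by
  rcases h.sq a ha with h1 | h1
  · left
    exact inv_eq_of_mul_eq_one_right h1
  · right
    apply inv_eq_of_mul_eq_one_right
    rw [mul_neg, h1, neg_neg]

/-- elements anticommuting with something have trace zero -/
theorem trace_eq_zero_of_anti (h : Sy R ι) {a b : G4} (hba : b * a = -(a * b)) :
    Matrix.trace (a : M4) = 0 := by
  have e1 : (a : M4) = -((b⁻¹ : G4) : M4) * ((a : M4) * (b : M4)) := by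
    have : a = -(b⁻¹ * (a * b)) := by
      have h3 : a * b = -(b * a) := by rw [hba, neg_neg]
      rw [h3, mul_neg, neg_neg, ← mul_assoc, inv_mul_cancel, one_mul]
    have := congrArg (fun u : G4 => (u : M4)) this
    simpa using this
  have e2 : Matrix.trace (a : M4) = - Matrix.trace (a : M4) := by
    nth_rewrite 1 [e1]
    rw [neg_mul, Matrix.trace_neg, Matrix.trace_mul_comm, Matrix.mul_assoc]
    congr 2
    have : (b : M4) * ((b⁻¹ : G4) : M4) = 1 := by
      rw [← Units.val_mul, mul_inv_cancel, Units.val_one]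
    rw [this, Matrix.mul_one]
  have e3 : (2 : F) * Matrix.trace (a : M4) = 0 := by
    rw [two_mul]
    nth_rewrite 1 [e2]
    exact neg_add_cancel _
  rcases mul_eq_zero.1 e3 with h3 | h3
  · exact absurd h3 h.two_ne
  · exact h3

/-- non-central elements have trace zero -/
theorem trace_eq_zero (h : Sy R ι) {a : G4} (ha : a ∈ R) (hnc : ¬ IsCen ι a) :
    Matrix.trace (a : M4) = 0 := by
  obtain ⟨b, _, hba⟩ := h.exists_anti ha hnc
  exact h.trace_eq_zero_of_anti hba

end Sy

variable [Fintype F]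

open Classical in
/-- the elements of `R` as a finset -/
noncomputable def Rf (R : Subgroup G4) : Finset G4 := Finset.univ.filter (· ∈ R)

open Classical in
theorem mem_Rf {R : Subgroup G4} {g : G4} : g ∈ Rf R ↔ g ∈ R := by
  simp [Rf]

open Classical in
theorem card_Rf_eq (R : Subgroup G4) : (Rf R).card = Nat.card R := by
  rw [Nat.card_eq_fintype_card, Fintype.card_subtype]
  rfl

namespace Sy

variable {R : Subgroup (GL (Fin 4) F)} {ι : GL (Fin 4) F}

theorem card_Rf (h : Sy R ι) : (Rf R).card = 64 := by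
  rw [card_Rf_eq, h.card]

open Classical in
/-- the four central elements as a finset -/
noncomputable def Zf (ι : G4) : Finset G4 := {1, -1, ι, -ι}

open Classical in
theorem mem_Zf {ι g : G4} : g ∈ Zf ι ↔ IsCen ι g := by
  unfold Zf IsCen
  simp only [Finset.mem_insert, Finset.mem_singleton]

open Classical in
theorem card_Zf (h : Sy R ι) : (Zf ι).card = 4 := by
  unfold Zf
  have n1 : (1 : G4) ≠ -1 := fun h3 => h.neg_one_ne_one h3.symm
  have n2 : ι ≠ -ι := fun h3 => neg_ne_self h.two_ne ι h3.symm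
  have n3 : (1 : G4) ≠ ι := fun h3 => h.iota_ne_one h3.symm
  have n4 : (1 : G4) ≠ -ι := by
    intro h3
    apply h.iota_ne_neg_one
    rw [h3, neg_neg]
  have n5 : (-1 : G4) ≠ ι := fun h3 => h.iota_ne_neg_one h3.symm
  have n6 : (-1 : G4) ≠ -ι := by
    intro h3
    exact h.iota_ne_one (neg_inj' h3).symm
  rw [Finset.card_insert_of_notMem, Finset.card_insert_of_notMem, Finset.card_insert_of_notMem,
    Finset.card_singleton]
  · simpa using n2
  · simp only [Finset.mem_insert, Finset.mem_singleton, not_or]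
    exact ⟨n5, n6⟩
  · simp only [Finset.mem_insert, Finset.mem_singleton, not_or]
    exact ⟨n1, n3, n4⟩

theorem Zf_subset (h : Sy R ι) : Zf ι ⊆ Rf R := by
  intro g hg
  rw [mem_Zf] at hg
  rw [mem_Rf]
  exact h.isCen_mem hg

open Classical in
/-- left multiplication by an anticommuting element swaps commuting and anticommuting elements -/
theorem card_comm_eq_card_anti (h : Sy R ι) {k : G4} (hk : k ∈ R) (hnc : ¬ IsCen ι k) :
    ((Rf R).filter (fun g => g * k = k * g)).card =
      ((Rf R).filter (fun g => g * k = -(k * g))).card := by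
  obtain ⟨b, hb, hbk⟩ := h.exists_anti hk hnc
  have hbk' : b⁻¹ * k = -(k * b⁻¹) := by
    have : k * b⁻¹ = -(b⁻¹ * k) := by
      calc k * b⁻¹ = b⁻¹ * (b * k) * b⁻¹ := by group
        _ = -(b⁻¹ * k) := by
          rw [hbk, mul_neg, neg_mul, ← mul_assoc, mul_assoc, mul_inv_cancel, mul_one]
    rw [this, neg_neg]
  apply Finset.card_nbij' (fun g => b * g) (fun g => b⁻¹ * g)
  · intro g hg
    rw [Finset.mem_coe, Finset.mem_filter, mem_Rf] at hg ⊢
    refine ⟨R.mul_mem hb hg.1, ?_⟩
    rw [mul_assoc, hg.2, ← mul_assoc, hbk, neg_mul, mul_assoc]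
  · intro g hg
    rw [Finset.mem_coe, Finset.mem_filter, mem_Rf] at hg ⊢
    refine ⟨R.mul_mem (R.inv_mem hb) hg.1, ?_⟩
    rw [mul_assoc, hg.2, mul_neg, ← mul_assoc, hbk', neg_mul, neg_neg, mul_assoc]
  · intro g _
    simp
  · intro g _
    simp

open Classical in
theorem filter_not_comm (h : Sy R ι) {k : G4} (hk : k ∈ R) :
    (Rf R).filter (fun g => ¬ g * k = k * g) = (Rf R).filter (fun g => g * k = -(k * g)) := by
  apply Finset.filter_congr
  intro g hg
  rw [mem_Rf] at hg
  constructor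
  · intro hne
    rcases h.comm g hg k hk with h3 | h3
    · exact absurd h3 hne
    · exact h3
  · intro h3 h4
    rw [h3] at h4
    exact neg_ne_self h.two_ne _ h4

open Classical in
theorem card_comm (h : Sy R ι) {k : G4} (hk : k ∈ R) (hnc : ¬ IsCen ι k) :
    ((Rf R).filter (fun g => g * k = k * g)).card = 32 := by
  have e1 := h.card_comm_eq_card_anti hk hnc
  have e3 := Finset.card_filter_add_card_filter_not (s := Rf R) (fun g => g * k = k * g)
  rw [h.filter_not_comm hk, h.card_Rf] at e3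
  omega

open Classical in
theorem card_anti (h : Sy R ι) {k : G4} (hk : k ∈ R) (hnc : ¬ IsCen ι k) :
    ((Rf R).filter (fun g => g * k = -(k * g))).card = 32 := by
  rw [← h.card_comm_eq_card_anti hk hnc, h.card_comm hk hnc]

open Classical in
/-- a non-central element exists -/
theorem exists_noncentral (h : Sy R ι) : ∃ k ∈ R, ¬ IsCen ι k := by
  have hlt : (Zf ι).card < (Rf R).card := by
    rw [h.card_Rf, h.card_Zf]
    norm_num
  obtain ⟨k, hk, hk'⟩ := Finset.exists_mem_notMem_of_card_lt_card hlt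
  rw [mem_Rf] at hk
  rw [mem_Zf] at hk'
  exact ⟨k, hk, hk'⟩

/-- making an element of `R` into an involution -/
theorem exists_invol_of (h : Sy R ι) {k : G4} (hk : k ∈ R) :
    ∃ a ∈ R, a * a = 1 ∧ (a = k ∨ a = ι * k) := by
  rcases h.sq k hk with hkk | hkk
  · exact ⟨k, hk, hkk, Or.inl rfl⟩
  · refine ⟨ι * k, h.iota_mul_mem hk, ?_, Or.inr rfl⟩
    calc ι * k * (ι * k) = ι * (k * ι) * k := by group
      _ = ι * ι * (k * k) := by rw [← h.iota_comm k]; group
      _ = 1 := by rw [h.iota_sq, hkk, neg_mul_neg, one_mul]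

/-- making an element of `R` into an element of square `-1` -/
theorem exists_sqneg_of (h : Sy R ι) {k : G4} (hk : k ∈ R) :
    ∃ a ∈ R, a * a = -1 ∧ (a = k ∨ a = ι * k) := by
  rcases h.sq k hk with hkk | hkk
  · refine ⟨ι * k, h.iota_mul_mem hk, ?_, Or.inr rfl⟩
    calc ι * k * (ι * k) = ι * (k * ι) * k := by group
      _ = ι * ι * (k * k) := by rw [← h.iota_comm k]; group
      _ = -1 := by rw [h.iota_sq, hkk, mul_one]
  · exact ⟨k, hk, hkk, Or.inl rfl⟩

/-- a non-central involution exists -/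
theorem exists_invol (h : Sy R ι) : ∃ a ∈ R, a * a = 1 ∧ ¬ IsCen ι a := by
  obtain ⟨k, hk, hnc⟩ := h.exists_noncentral
  obtain ⟨a, ha, haa, hak⟩ := h.exists_invol_of hk
  refine ⟨a, ha, haa, ?_⟩
  rcases hak with rfl | rfl
  · exact hnc
  · rwa [h.isCen_iota_mul_iff]

/-- a non-central element of square `-1` exists -/
theorem exists_sqneg (h : Sy R ι) : ∃ a ∈ R, a * a = (-1 : G4) ∧ ¬ IsCen ι a := by
  obtain ⟨k, hk, hnc⟩ := h.exists_noncentral
  obtain ⟨a, ha, haa, hak⟩ := h.exists_sqneg_of hk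
  refine ⟨a, ha, haa, ?_⟩
  rcases hak with rfl | rfl
  · exact hnc
  · rwa [h.isCen_iota_mul_iff]

open Classical in
/-- multiplication by `ι` exchanges the elements of square `1` and of square `-1` -/
theorem card_sq_one (h : Sy R ι) : ((Rf R).filter (fun g => g * g = 1)).card = 32 := by
  have e1 : ((Rf R).filter (fun g => g * g = 1)).card =
      ((Rf R).filter (fun g => ¬ g * g = 1)).card := by
    apply Finset.card_nbij' (fun g : G4 => ι * g) (fun g : G4 => -ι * g)
    · intro g hg
      rw [Finset.mem_coe, Finset.mem_filter, mem_Rf] at hg ⊢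
      refine ⟨h.iota_mul_mem hg.1, ?_⟩
      have : ι * g * (ι * g) = -1 := by
        calc ι * g * (ι * g) = ι * (g * ι) * g := by group
          _ = ι * ι * (g * g) := by rw [← h.iota_comm g]; group
          _ = -1 := by rw [h.iota_sq, hg.2, mul_one]
      rw [this]
      exact h.neg_one_ne_one
    · intro g hg
      rw [Finset.mem_coe, Finset.mem_filter, mem_Rf] at hg ⊢
      have hgg : g * g = -1 := by
        rcases h.sq g hg.1 with h3 | h3
        · exact absurd h3 hg.2
        · exact h3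
      refine ⟨R.mul_mem (h.neg_mem' h.iota_mem) hg.1, ?_⟩
      calc -ι * g * (-ι * g) = ι * (g * ι) * g := by
            have e : -ι * g = -(ι * g) := neg_mul _ _
            rw [e, neg_mul_neg]; group
        _ = ι * ι * (g * g) := by rw [← h.iota_comm g]; group
        _ = 1 := by rw [h.iota_sq, hgg, neg_mul_neg, one_mul]
    · intro g _
      show -ι * (ι * g) = g
      rw [← mul_assoc, neg_mul, h.iota_sq, neg_neg, one_mul]
    · intro g _
      show ι * (-ι * g) = g
      rw [← mul_assoc, mul_neg, h.iota_sq, neg_neg, one_mul]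
  have e3 := Finset.card_filter_add_card_filter_not (s := Rf R) (fun g => g * g = 1)
  rw [h.card_Rf] at e3
  omega

end Sy

open Classical in
/-- the non-central involutions of `R` -/
noncomputable def Sf (R : Subgroup G4) (ι : G4) : Finset G4 :=
  (Rf R).filter (fun g => g * g = 1 ∧ ¬ IsCen ι g)

open Classical in
theorem mem_Sf {R : Subgroup G4} {ι g : G4} :
    g ∈ Sf R ι ↔ g ∈ R ∧ g * g = 1 ∧ ¬ IsCen ι g := by
  rw [Sf, Finset.mem_filter, mem_Rf]

namespace Sy

variable {R : Subgroup (GL (Fin 4) F)} {ι : GL (Fin 4) F}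

open Classical in
theorem card_Sf (h : Sy R ι) : (Sf R ι).card = 30 := by
  have e : Sf R ι = ((Rf R).filter (fun g => g * g = 1)) \ {1, -1} := by
    ext g
    rw [mem_Sf, Finset.mem_sdiff, Finset.mem_filter, mem_Rf, Finset.mem_insert,
      Finset.mem_singleton, not_or]
    constructor
    · rintro ⟨h1, h2, h3⟩
      exact ⟨⟨h1, h2⟩, fun h4 => h3 (Or.inl h4), fun h4 => h3 (Or.inr (Or.inl h4))⟩
    · rintro ⟨⟨h1, h2⟩, h3, h4⟩
      refine ⟨h1, h2, ?_⟩
      rintro (h5 | h5 | h5 | h5)
      · exact h3 h5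
      · exact h4 h5
      · rw [h5, h.iota_sq] at h2
        exact h.neg_one_ne_one h2
      · rw [h5, neg_mul_neg, h.iota_sq] at h2
        exact h.neg_one_ne_one h2
  rw [e, Finset.card_sdiff_of_subset, h.card_sq_one, Finset.card_insert_of_notMem,
    Finset.card_singleton]
  · rw [Finset.mem_singleton]
    exact fun h3 => h.neg_one_ne_one h3.symm
  · intro g hg
    rw [Finset.mem_insert, Finset.mem_singleton] at hg
    rw [Finset.mem_filter, mem_Rf]
    rcases hg with rfl | rfl
    · exact ⟨R.one_mem, one_mul 1⟩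
    · exact ⟨h.neg_mem, by rw [neg_mul_neg, one_mul]⟩

end Sy

end Cfsg.Agent.Lib.H25.Su4
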