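import Mathlib
import Cfsg.Agent.Lib.H25.Su4A
import Cfsg.Agent.Lib.H25.Ex4C

/-!
# Elements normalizing `4 ∘ 2^{1+4}`: the trace formula and fixed point counts (helper25)
-/

set_option autoImplicit false
open scoped MatrixGroups

namespace Cfsg.Agent.Lib.H25.Su4

open Cfsg.Agent.Lib.H25.Ex4 (card_fixed_modEq iter_conj)

variable {F : Type*} [Field F] [Fintype F]

local notation "M4" => Matrix (Fin 4) (Fin 4) F
local notation "G4" => GL (Fin 4) F

namespace Sy

variable {R : Subgroup (GL (Fin 4) F)} {ι : GL (Fin 4) F}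

theorem four_ne (h : Sy R ι) : (4 : F) ≠ 0 := by
  have : (4 : F) = 2 * 2 := by norm_num
  rw [this]
  exact mul_ne_zero h.two_ne h.two_ne

/-- averaging over `R` projects onto the scalars -/
theorem avg (h : Sy R ι) (M : M4) :
    ∑ g ∈ Rf R, (g : M4) * M * ((g⁻¹ : G4) : M4) = (16 * Matrix.trace M) • (1 : M4) := by
  classical
  set E := ∑ g ∈ Rf R, (g : M4) * M * ((g⁻¹ : G4) : M4) with hE
  have hcomm : ∀ a ∈ R, E * (a : M4) = (a : M4) * E := by
    intro a ha
    have e1 : (a : M4) * E * ((a⁻¹ : G4) : M4) = E := by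
      rw [hE, Finset.mul_sum, Finset.sum_mul]
      apply Finset.sum_nbij' (fun g => a * g) (fun g => a⁻¹ * g)
      · intro g hg
        rw [mem_Rf] at hg ⊢
        exact R.mul_mem ha hg
      · intro g hg
        rw [mem_Rf] at hg ⊢
        exact R.mul_mem (R.inv_mem ha) hg
      · intro g _
        simp
      · intro g _
        simp
      · intro g _
        rw [mul_inv_rev, Units.val_mul, Units.val_mul]
        simp only [Matrix.mul_assoc]
    calc E * (a : M4)
        = (a : M4) * E * ((a⁻¹ : G4) : M4) * (a : M4) := by rw [e1]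
      _ = (a : M4) * E := by
          rw [Matrix.mul_assoc, ← Units.val_mul, inv_mul_cancel, Units.val_one, Matrix.mul_one]
  obtain ⟨c, hc⟩ := h.scal E hcomm
  have htr : Matrix.trace E = 64 * Matrix.trace M := by
    rw [hE, Matrix.trace_sum]
    have : ∀ g ∈ Rf R, Matrix.trace ((g : M4) * M * ((g⁻¹ : G4) : M4)) = Matrix.trace M := by
      intro g _
      rw [Matrix.trace_mul_comm, ← Matrix.mul_assoc, ← Units.val_mul, inv_mul_cancel,
        Units.val_one, Matrix.one_mul]
    rw [Finset.sum_congr rfl this, Finset.sum_const, h.card_Rf]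
    simp
  rw [hc, Matrix.trace_smul, Matrix.trace_one] at htr
  have hc16 : c = 16 * Matrix.trace M := by
    have e : (Fintype.card (Fin 4) : F) = 4 := by simp
    rw [e, smul_eq_mul] at htr
    apply mul_left_cancel₀ h.four_ne
    rw [← mul_assoc]
    norm_num
    linear_combination htr
  rw [hc, hc16]

theorem conj_mem (_h : Sy R ι) {x : G4} (hx : x ∈ Subgroup.normalizer (R : Set G4))
    {g : G4} (hg : g ∈ R) : x * g * x⁻¹ ∈ R :=
  (Subgroup.mem_normalizer_iff.1 hx g).1 hg

theorem conj_mem' (_h : Sy R ι) {x : G4} (hx : x ∈ Subgroup.normalizer (R : Set G4))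
    {g : G4} (hg : g ∈ R) : x⁻¹ * g * x ∈ R := by
  have := (Subgroup.mem_normalizer_iff.1 (Subgroup.inv_mem _ hx) g).1 hg
  rwa [inv_inv] at this

/-- the scalar value of a central element -/
theorem isCen_scalar (h : Sy R ι) {c : G4} (hc : IsCen ι c) : ∃ c₀ : F, (c : M4) = c₀ • (1 : M4) := by
  apply h.scal
  intro a _
  rw [← Units.val_mul, ← Units.val_mul, h.isCen_comm hc a]

open Classical in
/-- `16 tr(x) tr(x⁻¹)` as a sum of traces of commutators -/
theorem trace_sum (h : Sy R ι) (x : G4) :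
    16 * (Matrix.trace (x : M4) * Matrix.trace ((x⁻¹ : G4) : M4)) =
      ∑ g ∈ Rf R, Matrix.trace ((g * (x * g⁻¹ * x⁻¹) : G4) : M4) := by
  have h1 := h.avg (x : M4)
  have h2 := congrArg (fun M => Matrix.trace (M * ((x⁻¹ : G4) : M4))) h1
  rw [Finset.sum_mul, Matrix.trace_sum, Matrix.smul_mul, Matrix.one_mul, Matrix.trace_smul,
    smul_eq_mul] at h2
  rw [← mul_assoc, ← h2]
  apply Finset.sum_congr rfl
  intro g _
  simp only [Units.val_mul, Matrix.mul_assoc]

open Classical in
/-- `4 tr(x) tr(x⁻¹)` is `0` or `|C_R(x)|` -/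
theorem trace_cases' (h : Sy R ι) {x : G4} (hx : x ∈ Subgroup.normalizer (R : Set G4)) :
    4 * (Matrix.trace (x : M4) * Matrix.trace ((x⁻¹ : G4) : M4)) = 0 ∨
    4 * (Matrix.trace (x : M4) * Matrix.trace ((x⁻¹ : G4) : M4)) =
      (((Rf R).filter (fun g => g * x = x * g)).card : F) := by
  have hS := h.trace_sum x
  by_cases hex : ∃ b ∈ R, IsCen ι (b * (x * b⁻¹ * x⁻¹)) ∧ b * (x * b⁻¹ * x⁻¹) ≠ 1
  · left
    obtain ⟨b, hb, hbc, hb1⟩ := hex
    set c := b * (x * b⁻¹ * x⁻¹) with hc
    obtain ⟨c₀, hc₀⟩ := h.isCen_scalar hbc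
    have hc₀1 : c₀ ≠ 1 := by
      intro h1
      apply hb1
      apply Units.ext
      rw [hc₀, h1, one_smul, Units.val_one]
    have hre : ∑ g ∈ Rf R, Matrix.trace ((g * (x * g⁻¹ * x⁻¹) : G4) : M4) =
        ∑ g ∈ Rf R, c₀ * Matrix.trace ((g * (x * g⁻¹ * x⁻¹) : G4) : M4) := by
      symm
      apply Finset.sum_nbij' (fun g => g * b) (fun g => g * b⁻¹)
      · intro g hg
        rw [mem_Rf] at hg ⊢
        exact R.mul_mem hg hb
      · intro g hg
        rw [mem_Rf] at hg ⊢
        exact R.mul_mem hg (R.inv_mem hb)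
      · intro g _
        simp
      · intro g _
        simp
      · intro g _
        have e : g * b * (x * (g * b)⁻¹ * x⁻¹) = c * (g * (x * g⁻¹ * x⁻¹)) := by
          have e1 : g * b * (x * (g * b)⁻¹ * x⁻¹) = g * c * (x * g⁻¹ * x⁻¹) := by
            rw [hc]; group
          rw [e1, ← h.isCen_comm hbc g, mul_assoc]
        have e' : ((c * (g * (x * g⁻¹ * x⁻¹)) : G4) : M4) =
            c₀ • ((g * (x * g⁻¹ * x⁻¹) : G4) : M4) := by
          rw [Units.val_mul, hc₀, Matrix.smul_mul, Matrix.one_mul]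
        rw [e, e', Matrix.trace_smul, smul_eq_mul]
    rw [← Finset.mul_sum, ← hS] at hre
    have h3 : (1 - c₀) * (16 * (Matrix.trace (x : M4) * Matrix.trace ((x⁻¹ : G4) : M4))) = 0 := by
      linear_combination hre
    have h4 : (1 : F) - c₀ ≠ 0 := by
      intro h5
      apply hc₀1
      linear_combination -h5
    have h5 : 16 * (Matrix.trace (x : M4) * Matrix.trace ((x⁻¹ : G4) : M4)) = 0 := by
      rcases mul_eq_zero.1 h3 with h6 | h6
      · exact absurd h6 h4
      · exact h6
    apply mul_left_cancel₀ h.four_ne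
    linear_combination h5
  · right
    push Not at hex
    have h3 : ∀ g ∈ Rf R, Matrix.trace ((g * (x * g⁻¹ * x⁻¹) : G4) : M4) =
        if g * x = x * g then 4 else 0 := by
      intro g hg
      rw [mem_Rf] at hg
      have hk : g * (x * g⁻¹ * x⁻¹) ∈ R := R.mul_mem hg (h.conj_mem hx (R.inv_mem hg))
      have e2 : g * (x * g⁻¹ * x⁻¹) = 1 ↔ g * x = x * g := by
        constructor
        · intro h4
          have : g * x = g * (x * g⁻¹ * x⁻¹) * (x * g) := by group
          rw [this, h4, one_mul]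
        · intro h4
          calc g * (x * g⁻¹ * x⁻¹) = g * x * g⁻¹ * x⁻¹ := by group
            _ = 1 := by rw [h4]; group
      by_cases hgx : g * x = x * g
      · rw [if_pos hgx, e2.2 hgx, Units.val_one, Matrix.trace_one]
        simp
      · rw [if_neg hgx]
        apply h.trace_eq_zero hk
        intro hcen
        exact hgx (e2.1 (hex g hg hcen))
    rw [Finset.sum_congr rfl h3, ← Finset.sum_filter, Finset.sum_const, nsmul_eq_mul] at hS
    apply mul_left_cancel₀ h.four_ne
    linear_combination hS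

open Classical in
theorem card_cent_modEq (h : Sy R ι) {x : G4} (hx : x ∈ Subgroup.normalizer (R : Set G4))
    (r : ℕ) [Fact r.Prime] (hxr : ∀ g ∈ R, x ^ r * g = g * x ^ r) :
    ((Rf R).filter (fun g => g * x = x * g)).card ≡ 64 [MOD r] := by
  have h1 := card_fixed_modEq (Rf R) (fun g => x * g * x⁻¹) r
    (fun g hg => by
      rw [mem_Rf] at hg ⊢
      exact h.conj_mem hx hg)
    (fun g hg => by
      rw [mem_Rf] at hg
      rw [iter_conj, hxr g hg, mul_assoc, mul_inv_cancel, mul_one])
  rw [h.card_Rf] at h1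
  have e : (Rf R).filter (fun g => x * g * x⁻¹ = g) = (Rf R).filter (fun g => g * x = x * g) := by
    apply Finset.filter_congr
    intro g _
    rw [mul_inv_eq_iff_eq_mul]
    exact eq_comm
  rw [← e]
  exact h1

open Classical in
theorem filter_cent_eq (x : G4) :
    (Rf R).filter (fun g => g * x = x * g) = Rf (R ⊓ Subgroup.centralizer {x}) := by
  ext g
  rw [Finset.mem_filter, mem_Rf, mem_Rf, Subgroup.mem_inf, Subgroup.mem_centralizer_iff]
  constructor
  · rintro ⟨h1, h2⟩
    refine ⟨h1, ?_⟩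
    intro y hy
    rw [Set.mem_singleton_iff] at hy
    rw [hy, h2]
  · rintro ⟨h1, h2⟩
    exact ⟨h1, (h2 x rfl).symm⟩

open Classical in
theorem card_cent_dvd (h : Sy R ι) (x : G4) :
    ((Rf R).filter (fun g => g * x = x * g)).card ∣ 64 := by
  rw [filter_cent_eq, card_Rf_eq, ← h.card]
  exact Subgroup.card_dvd_of_le inf_le_left

open Classical in
theorem card_cent_ne (h : Sy R ι) {x : G4} (hnc : ∃ g ∈ R, g * x ≠ x * g) :
    ((Rf R).filter (fun g => g * x = x * g)).card ≠ 64 := by
  intro h1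
  obtain ⟨g, hg, hgx⟩ := hnc
  have h2 : (Rf R).filter (fun g => g * x = x * g) = Rf R := by
    apply Finset.eq_of_subset_of_card_le (Finset.filter_subset _ _)
    rw [h1, h.card_Rf]
  have h3 : g ∈ (Rf R).filter (fun g => g * x = x * g) := by
    rw [h2, mem_Rf]
    exact hg
  rw [Finset.mem_filter] at h3
  exact hgx h3.2

open Classical in
theorem four_le_card_cent (h : Sy R ι) (x : G4) :
    4 ≤ ((Rf R).filter (fun g => g * x = x * g)).card := by
  have hsub : Zf ι ⊆ (Rf R).filter (fun g => g * x = x * g) := by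
    intro g hg
    rw [mem_Zf] at hg
    rw [Finset.mem_filter, mem_Rf]
    exact ⟨h.isCen_mem hg, h.isCen_comm hg x⟩
  have := Finset.card_le_card hsub
  rwa [h.card_Zf] at this

open Classical in
/-- the case `r = 7`, `|C_R(x)| = 8` does not occur -/
theorem card_cent_ne_eight (h : Sy R ι) {x : G4} (hx : x ∈ Subgroup.normalizer (R : Set G4))
    (hxr : ∀ g ∈ R, x ^ 7 * g = g * x ^ 7) :
    ((Rf R).filter (fun g => g * x = x * g)).card ≠ 8 := by
  intro h8
  haveI : Fact (Nat.Prime 7) := ⟨by norm_num⟩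
  -- a non-central element of the centralizer
  have hlt : (Zf ι).card < ((Rf R).filter (fun g => g * x = x * g)).card := by
    rw [h8, h.card_Zf]
    norm_num
  obtain ⟨a, ha, ha'⟩ := Finset.exists_mem_notMem_of_card_lt_card hlt
  rw [Finset.mem_filter, mem_Rf] at ha
  rw [mem_Zf] at ha'
  obtain ⟨haR, hax⟩ := ha
  have hxa : x * a * x⁻¹ = a := by rw [← hax, mul_assoc, mul_inv_cancel, mul_one]
  have h1 := card_fixed_modEq ((Rf R).filter (fun g => g * a = a * g)) (fun g => x * g * x⁻¹) 7
    (fun g hg => by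
      rw [Finset.mem_filter, mem_Rf] at hg ⊢
      refine ⟨h.conj_mem hx hg.1, ?_⟩
      calc x * g * x⁻¹ * a = x * g * x⁻¹ * (x * a * x⁻¹) := by rw [hxa]
        _ = x * (g * a) * x⁻¹ := by group
        _ = x * (a * g) * x⁻¹ := by rw [hg.2]
        _ = (x * a * x⁻¹) * (x * g * x⁻¹) := by group
        _ = a * (x * g * x⁻¹) := by rw [hxa])
    (fun g hg => by
      rw [Finset.mem_filter, mem_Rf] at hg
      rw [iter_conj, hxr g hg.1, mul_assoc, mul_inv_cancel, mul_one])
  rw [h.card_comm haR ha', Finset.filter_filter] at h1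
  -- the fixed points form a subgroup of the centralizer
  have e : (Rf R).filter (fun g => g * a = a * g ∧ x * g * x⁻¹ = g) =
      Rf (R ⊓ Subgroup.centralizer {x} ⊓ Subgroup.centralizer {a}) := by
    ext g
    rw [Finset.mem_filter, mem_Rf, mem_Rf, Subgroup.mem_inf, Subgroup.mem_inf,
      Subgroup.mem_centralizer_iff, Subgroup.mem_centralizer_iff]
    constructor
    · rintro ⟨h1, h2, h3⟩
      refine ⟨⟨h1, ?_⟩, ?_⟩
      · intro y hy
        rw [Set.mem_singleton_iff] at hy
        rw [hy]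
        rw [mul_inv_eq_iff_eq_mul] at h3
        exact h3
      · intro y hy
        rw [Set.mem_singleton_iff] at hy
        rw [hy, h2]
    · rintro ⟨⟨h1, h2⟩, h3⟩
      refine ⟨h1, (h3 a rfl).symm, ?_⟩
      rw [mul_inv_eq_iff_eq_mul]
      exact h2 x rfl
  rw [e] at h1
  have hdvd : (Rf (R ⊓ Subgroup.centralizer {x} ⊓ Subgroup.centralizer {a})).card ∣ 8 := by
    rw [← h8, filter_cent_eq, card_Rf_eq, card_Rf_eq]
    exact Subgroup.card_dvd_of_le inf_le_left
  have hge : 5 ≤ (Rf (R ⊓ Subgroup.centralizer {x} ⊓ Subgroup.centralizer {a})).card := by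
    have hsub : insert a (Zf ι) ⊆ Rf (R ⊓ Subgroup.centralizer {x} ⊓ Subgroup.centralizer {a}) := by
      intro g hg
      rw [Finset.mem_insert, mem_Zf] at hg
      rw [mem_Rf, Subgroup.mem_inf, Subgroup.mem_inf, Subgroup.mem_centralizer_iff,
        Subgroup.mem_centralizer_iff]
      rcases hg with rfl | hg
      · refine ⟨⟨haR, ?_⟩, ?_⟩
        · intro y hy
          rw [Set.mem_singleton_iff] at hy
          rw [hy, hax]
        · intro y hy
          rw [Set.mem_singleton_iff] at hy
          rw [hy]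
      · refine ⟨⟨h.isCen_mem hg, ?_⟩, ?_⟩
        · intro y hy
          exact (h.isCen_comm hg y).symm
        · intro y hy
          exact (h.isCen_comm hg y).symm
    have := Finset.card_le_card hsub
    rw [Finset.card_insert_of_notMem (by rw [mem_Zf]; exact ha'), h.card_Zf] at this
    exact this
  obtain ⟨D, hD⟩ : ∃ D, D = (Rf (R ⊓ Subgroup.centralizer {x} ⊓ Subgroup.centralizer {a})).card :=
    ⟨_, rfl⟩
  rw [← hD] at h1 hdvd hge
  have hle : D ≤ 8 := Nat.le_of_dvd (by norm_num) hdvd
  unfold Nat.ModEq at h1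
  interval_cases D <;> omega

open Classical in
/-- the order of the centralizer in `R` of a non-centralizing element of order `r` modulo
the centralizer of `R` -/
theorem card_cent_cases (h : Sy R ι) {x : G4} (hx : x ∈ Subgroup.normalizer (R : Set G4))
    (r : ℕ) [Fact r.Prime] (hxr : ∀ g ∈ R, x ^ r * g = g * x ^ r)
    (hnc : ∃ g ∈ R, g * x ≠ x * g) :
    (r = 3 → ((Rf R).filter (fun g => g * x = x * g)).card = 4 ∨
      ((Rf R).filter (fun g => g * x = x * g)).card = 16) ∧
    (r = 5 → ((Rf R).filter (fun g => g * x = x * g)).card = 4) ∧ (7 ≤ r → False) := by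
  have hr : r.Prime := Fact.out
  have h1 := h.card_cent_modEq hx r hxr
  have h3 := h.four_le_card_cent x
  have h4 := h.card_cent_dvd x
  have h5 := h.card_cent_ne hnc
  have h6 : r = 7 → ((Rf R).filter (fun g => g * x = x * g)).card ≠ 8 := by
    intro h7
    subst h7
    exact h.card_cent_ne_eight hx hxr
  obtain ⟨C, hC⟩ : ∃ C, C = ((Rf R).filter (fun g => g * x = x * g)).card := ⟨_, rfl⟩
  rw [← hC] at h1 h3 h4 h5 h6 ⊢
  have hle : C ≤ 64 := Nat.le_of_dvd (by norm_num) h4
  unfold Nat.ModEq at h1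
  refine ⟨?_, ?_, ?_⟩
  · intro hr3
    subst hr3
    interval_cases C <;> omega
  · intro hr5
    subst hr5
    interval_cases C <;> omega
  · intro hr7
    have hdvd : r ∣ 64 - C := (Nat.modEq_iff_dvd' hle).1 (show C ≡ 64 [MOD r] from h1)
    have hcases : C = 4 ∨ C = 8 ∨ C = 16 ∨ C = 32 ∨ C = 64 := by
      interval_cases C <;> omega
    rcases hcases with rfl | rfl | rfl | rfl | rfl
    · have e : 64 - 4 = 4 * (3 * 5) := by norm_num
      rw [e] at hdvd
      rcases (Nat.Prime.dvd_mul hr).1 hdvd with h6 | h6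
      · have := Nat.le_of_dvd (by norm_num) h6
        omega
      · rcases (Nat.Prime.dvd_mul hr).1 h6 with h7 | h7
        · have := Nat.le_of_dvd (by norm_num) h7
          omega
        · have := Nat.le_of_dvd (by norm_num) h7
          omega
    · have e : 64 - 8 = 8 * 7 := by norm_num
      rw [e] at hdvd
      rcases (Nat.Prime.dvd_mul hr).1 hdvd with h7 | h7
      · have h8 : r ∣ 2 ^ 3 := by
          have : (8 : ℕ) = 2 ^ 3 := by norm_num
          rwa [this] at h7
        have := Nat.le_of_dvd (by norm_num) (hr.dvd_of_dvd_pow h8)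
        omega
      · have h8 := Nat.le_of_dvd (by norm_num) h7
        have h9 : r = 7 := by omega
        exact h6 h9 rfl
    · have e : 64 - 16 = 16 * 3 := by norm_num
      rw [e] at hdvd
      rcases (Nat.Prime.dvd_mul hr).1 hdvd with h7 | h7
      · have h8 : r ∣ 2 ^ 4 := by
          have : (16 : ℕ) = 2 ^ 4 := by norm_num
          rwa [this] at h7
        have := Nat.le_of_dvd (by norm_num) (hr.dvd_of_dvd_pow h8)
        omega
      · have := Nat.le_of_dvd (by norm_num) h7
        omega
    · have e : 64 - 32 = 2 ^ 5 := by norm_num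
      rw [e] at hdvd
      have := Nat.le_of_dvd (by norm_num) (hr.dvd_of_dvd_pow hdvd)
      omega
    · exact h5 rfl

end Sy

end Cfsg.Agent.Lib.H25.Su4
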