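import Mathlib
import Cfsg.Agent.Lib.H25.Su4B
import Cfsg.Agent.Lib.H25.Ex4E

/-!
# Transvections do not normalize `4 ∘ 2^{1+4}` (helper25)
-/

set_option autoImplicit false
open scoped MatrixGroups
open Matrix

namespace Cfsg.Agent.Lib.H25.Su4

open Cfsg.Agent.Lib.H25.Ex4 (tv_core)

variable {F : Type*} [Field F]

local notation "M4" => Matrix (Fin 4) (Fin 4) F
local notation "G4" => GL (Fin 4) F

/-- two linear functionals on a four-dimensional space have a common nonzero kernel vector -/
theorem exists_common_ker (φ ψ : Fin 4 → F) : ∃ w : Fin 4 → F, w ≠ 0 ∧ φ ⬝ᵥ w = 0 ∧ ψ ⬝ᵥ w = 0 := by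
  let L : (Fin 4 → F) →ₗ[F] (Fin 2 → F) := Matrix.mulVecLin (Matrix.of ![φ, ψ])
  have hlt : Module.finrank F (Fin 2 → F) < Module.finrank F (Fin 4 → F) := by
    rw [Module.finrank_fintype_fun_eq_card, Module.finrank_fintype_fun_eq_card]
    simp
  have hker := LinearMap.ker_ne_bot_of_finrank_lt (f := L) hlt
  obtain ⟨w, hw, hw0⟩ := Submodule.exists_mem_ne_zero_of_ne_bot hker
  rw [LinearMap.mem_ker] at hw
  refine ⟨w, hw0, ?_, ?_⟩
  · have := congrFun hw 0
    simpa [L, Matrix.mulVec] using this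
  · have := congrFun hw 1
    simpa [L, Matrix.mulVec] using this

variable [Fintype F] {R : Subgroup (GL (Fin 4) F)} {ι : GL (Fin 4) F}

/-- an element `1 + A` with `A` of rank one does not normalize `R` -/
theorem Sy.not_tv (h : Sy R ι) (T : G4) (a φ : Fin 4 → F)
    (hT : (T : M4) = 1 + vecMulVec a φ)
    (hTi : ((T⁻¹ : G4) : M4) = 1 - vecMulVec a φ)
    (hA : vecMulVec a φ ≠ 0) : T ∉ Subgroup.normalizer (R : Set (G4)) := by
  intro hmem
  set A := vecMulVec a φ with hAdef
  have hAA : A * A = 0 := by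
    have h1 : (T : M4) * ((T⁻¹ : G4) : M4) = 1 := by
      rw [← Units.val_mul, mul_inv_cancel, Units.val_one]
    rw [hT, hTi] at h1
    have h2 : (1 + A) * (1 - A) = 1 - A * A := by noncomm_ring
    rw [h2] at h1
    have h3 : A * A = 1 - (1 - A * A) := by noncomm_ring
    rw [h3, h1, sub_self]
  have key : ∀ k ∈ R, k⁻¹ * T * k = T := by
    intro k hk
    set u := T⁻¹ * (k⁻¹ * T * k) with hu
    have hu_mem : u ∈ R := by
      have h1 : T⁻¹ * k⁻¹ * T ∈ R := h.conj_mem' hmem (R.inv_mem hk)
      have h2 : u = T⁻¹ * k⁻¹ * T * k := by rw [hu]; group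
      rw [h2]
      exact R.mul_mem h1 hk
    set K := (k : M4) with hK
    set Ki := ((k⁻¹ : G4) : M4) with hKi
    have hKiK : Ki * K = 1 := by rw [hKi, hK, ← Units.val_mul, inv_mul_cancel, Units.val_one]
    set B := Ki * A * K with hB
    have hBv : B = vecMulVec (Ki *ᵥ a) (φ ᵥ* K) := by
      rw [hB, hAdef, mul_vecMulVec, vecMulVec_mul]
    have hT2 : ((k⁻¹ * T * k : G4) : M4) = 1 + B := by
      rw [Units.val_mul, Units.val_mul, hT, hB, Matrix.mul_add, Matrix.add_mul, Matrix.mul_one,
        hKiK]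
    have hT2i : ((k⁻¹ * T⁻¹ * k : G4) : M4) = 1 - B := by
      rw [Units.val_mul, Units.val_mul, hTi, hB, Matrix.mul_sub, Matrix.sub_mul, Matrix.mul_one,
        hKiK]
    have hU : (u : M4) = (1 - A) * (1 + B) := by
      rw [hu, Units.val_mul, hTi, hT2]
    rcases h.sq u hu_mem with huu | huu
    · -- `u * u = 1`
      have hTu : T * u = k⁻¹ * T * k := by rw [hu]; group
      have huT : u * T⁻¹ = k⁻¹ * T⁻¹ * k := by
        have h1 : u⁻¹ = u := inv_eq_of_mul_eq_one_right huu
        calc u * T⁻¹ = u⁻¹ * T⁻¹ := by rw [h1]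
          _ = (T * u)⁻¹ := by group
          _ = k⁻¹ * T⁻¹ * k := by rw [hTu]; group
      have m1 : (1 + A) * (u : M4) = 1 + B := by
        rw [← hT, ← Units.val_mul, hTu, hT2]
      have m2 : (u : M4) * (1 - A) = 1 - B := by
        rw [← hTi, ← Units.val_mul, huT, hT2i]
      have hstar : (2 : F) • (u : M4) + A * (u : M4) -
          (u : M4) * A = (2 : F) • (1 : M4) := by
        have h1 : (2 : F) • (u : M4) + A * (u : M4) -
            (u : M4) * A = (1 + A) * (u : M4) +
              (u : M4) * (1 - A) := by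
          rw [two_smul]
          noncomm_ring
        rw [h1, m1, m2, two_smul]
        abel
      have hUU : (u : M4) * (u : M4) = 1 := by
        rw [← Units.val_mul, huu, Units.val_one]
      have hU1 := tv_core h.two_ne a φ (u : M4) hA hAA hUU hstar
      have hu1 : u = 1 := Units.ext hU1
      rw [hu] at hu1
      calc k⁻¹ * T * k = T * (T⁻¹ * (k⁻¹ * T * k)) := by group
        _ = T := by rw [hu1, mul_one]
    · -- `u * u = -1`
      exfalso
      obtain ⟨w, hw0, hw1, hw2⟩ := exists_common_ker φ (φ ᵥ* K)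
      have hAw : A *ᵥ w = 0 := by
        rw [hAdef, vecMulVec_mulVec, hw1]
        simp
      have hBw : B *ᵥ w = 0 := by
        rw [hBv, vecMulVec_mulVec, hw2]
        simp
      have hUw : (u : M4) *ᵥ w = w := by
        rw [hU, ← Matrix.mulVec_mulVec, Matrix.add_mulVec, Matrix.one_mulVec, hBw, add_zero,
          Matrix.sub_mulVec, Matrix.one_mulVec, hAw, sub_zero]
      have hUU : (u : M4) * (u : M4) = -1 := by
        rw [← Units.val_mul, huu, Units.val_neg, Units.val_one]
      have h1 := congrArg (fun M : M4 => M *ᵥ w) hUU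
      simp only [← Matrix.mulVec_mulVec, hUw, Matrix.neg_mulVec, Matrix.one_mulVec] at h1
      have h2 : (2 : F) • w = 0 := by
        rw [two_smul]
        nth_rewrite 1 [h1]
        exact neg_add_cancel w
      rcases smul_eq_zero.1 h2 with h3 | h3
      · exact h.two_ne h3
      · exact hw0 h3
  obtain ⟨c, hc⟩ := h.scal (T : M4) (by
    intro k hk
    have h1 := key k hk
    have h2 : T * k = k * T := by
      calc T * k = k * (k⁻¹ * T * k) := by group
        _ = k * T := by rw [h1]
    have := congrArg (fun u : G4 => (u : M4)) h2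
    simpa using this)
  have hAc : A = (c - 1) • (1 : M4) := by
    rw [sub_smul, one_smul, ← hc, hT, add_sub_cancel_left]
  have h1 : ((c - 1) * (c - 1)) • (1 : M4) = 0 := by
    rw [← hAA, hAc, Matrix.smul_mul, Matrix.mul_smul, Matrix.one_mul, smul_smul]
  have h2 : (c - 1) * (c - 1) = 0 := by
    rcases smul_eq_zero.1 h1 with h3 | h3
    · exact h3
    · exact absurd h3 one_ne_zero
  have h3 : c - 1 = 0 := by
    rcases mul_eq_zero.1 h2 with h4 | h4 <;> exact h4
  apply hA
  rw [hAc, h3, zero_smul]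

end Cfsg.Agent.Lib.H25.Su4
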