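import Mathlib
import Cfsg.Agent.Lib.H25.Su4B
import Cfsg.Agent.Lib.H13.AutPSU4

/-!
# The elements `1 + u` normalizing `4 ∘ 2^{1+4}` and an element of order five (helper25)
-/

set_option autoImplicit false
open scoped MatrixGroups
open Matrix

namespace Cfsg.Agent.Lib.H25.Su4

open Cfsg.Agent.Lib.H13.AutPSU

variable {F : Type*} [Field F]

local notation "M4" => Matrix (Fin 4) (Fin 4) F
local notation "G4" => GL (Fin 4) F

/-- the element `1 + u` for `u` of square `-1` -/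
noncomputable def wGL (h2 : (2 : F) ≠ 0) (u : G4) (huu : u * u = -1) : G4 :=
  ⟨1 + (u : M4), (2 : F)⁻¹ • (1 - (u : M4)), by
    have e : (u : M4) * (u : M4) = -1 := by
      rw [← Units.val_mul, huu, Units.val_neg, Units.val_one]
    rw [Matrix.mul_smul]
    have : (1 + (u : M4)) * (1 - (u : M4)) = (2 : F) • 1 := by
      rw [two_smul]
      calc (1 + (u : M4)) * (1 - (u : M4))
          = 1 - (u : M4) * (u : M4) := by noncomm_ring
        _ = 1 + 1 := by rw [e, sub_neg_eq_add]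
    rw [this, smul_smul, inv_mul_cancel₀ h2, one_smul], by
    have e : (u : M4) * (u : M4) = -1 := by
      rw [← Units.val_mul, huu, Units.val_neg, Units.val_one]
    rw [Matrix.smul_mul]
    have : (1 - (u : M4)) * (1 + (u : M4)) = (2 : F) • 1 := by
      rw [two_smul]
      calc (1 - (u : M4)) * (1 + (u : M4))
          = 1 - (u : M4) * (u : M4) := by noncomm_ring
        _ = 1 + 1 := by rw [e, sub_neg_eq_add]
    rw [this, smul_smul, inv_mul_cancel₀ h2, one_smul]⟩

theorem wGL_val (h2 : (2 : F) ≠ 0) (u : G4) (huu : u * u = -1) :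
    ((wGL h2 u huu : G4) : M4) = 1 + (u : M4) := rfl

theorem wGL_inv_val (h2 : (2 : F) ≠ 0) (u : G4) (huu : u * u = -1) :
    (((wGL h2 u huu)⁻¹ : G4) : M4) = (2 : F)⁻¹ • (1 - (u : M4)) := rfl

/-- conjugation by `1 + u` fixes the elements commuting with `u` -/
theorem wGL_conj_comm (h2 : (2 : F) ≠ 0) (u : G4) (huu : u * u = -1) (g : G4)
    (hg : g * u = u * g) : wGL h2 u huu * g * (wGL h2 u huu)⁻¹ = g := by
  have e : wGL h2 u huu * g = g * wGL h2 u huu := by
    apply Units.ext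
    rw [Units.val_mul, Units.val_mul, wGL_val, Matrix.add_mul, Matrix.mul_add, Matrix.one_mul,
      Matrix.mul_one, ← Units.val_mul, ← Units.val_mul, hg]
  rw [e, mul_assoc, mul_inv_cancel, mul_one]

/-- conjugation by `1 + u` maps `g` anticommuting with `u` to `-(g u)` -/
theorem wGL_conj_anti (h2 : (2 : F) ≠ 0) (u : G4) (huu : u * u = -1) (g : G4)
    (hg : g * u = -(u * g)) : wGL h2 u huu * g * (wGL h2 u huu)⁻¹ = -(g * u) := by
  rw [mul_inv_eq_iff_eq_mul]
  apply Units.ext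
  have e : (u : M4) * (u : M4) = -1 := by
    rw [← Units.val_mul, huu, Units.val_neg, Units.val_one]
  have e2 : (u : M4) * (g : M4) = -((g : M4) * (u : M4)) := by
    have : u * g = -(g * u) := by rw [hg, neg_neg]
    have := congrArg (fun x : G4 => (x : M4)) this
    simpa using this
  rw [Units.val_mul, Units.val_mul, wGL_val, Units.val_neg, Units.val_mul, Matrix.add_mul,
    Matrix.one_mul, e2, Matrix.neg_mul, Matrix.mul_add, Matrix.mul_one, Matrix.mul_assoc, e]
  simp only [Matrix.mul_neg, Matrix.mul_one, neg_neg]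
  abel

/-- a non-zero scalar matrix as a unit -/
noncomputable def zGL (c : F) (hc : c ≠ 0) : G4 :=
  ⟨c • 1, c⁻¹ • 1, by
    rw [Matrix.smul_mul, Matrix.mul_smul, Matrix.one_mul, smul_smul, mul_inv_cancel₀ hc, one_smul],
    by
    rw [Matrix.smul_mul, Matrix.mul_smul, Matrix.one_mul, smul_smul, inv_mul_cancel₀ hc, one_smul]⟩

theorem zGL_val (c : F) (hc : c ≠ 0) : ((zGL c hc : G4) : M4) = c • 1 := rfl

theorem zGL_comm (c : F) (hc : c ≠ 0) (g : G4) : zGL c hc * g = g * zGL c hc := by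
  apply Units.ext
  rw [Units.val_mul, Units.val_mul, zGL_val, Matrix.smul_mul, Matrix.mul_smul, Matrix.one_mul,
    Matrix.mul_one]

theorem zGL_conj (c : F) (hc : c ≠ 0) (g : G4) : zGL c hc * g * (zGL c hc)⁻¹ = g := by
  rw [zGL_comm, mul_assoc, mul_inv_cancel, mul_one]

theorem zGL_mem_normalizer {R : Subgroup G4} (c : F) (hc : c ≠ 0) :
    zGL c hc ∈ Subgroup.normalizer (R : Set G4) := by
  rw [Subgroup.mem_normalizer_iff]
  intro g
  rw [zGL_conj]

theorem zGL_det (c : F) (hc : c ≠ 0) : ((zGL c hc : G4) : M4).det = c ^ 4 := by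
  rw [zGL_val, Matrix.det_smul, Matrix.det_one, mul_one, Fintype.card_fin]

/-- a scalar matrix in `GL` commutes with everything -/
theorem scalar_comm {x : G4} {c : F} (hx : (x : M4) = c • (1 : M4)) (k : G4) : x * k = k * x := by
  apply Units.ext
  rw [Units.val_mul, Units.val_mul, hx, Matrix.smul_mul, Matrix.mul_smul, Matrix.one_mul,
    Matrix.mul_one]

theorem scalar_mem_normalizer {R : Subgroup G4} {x : G4} {c : F}
    (hx : (x : M4) = c • (1 : M4)) : x ∈ Subgroup.normalizer (R : Set G4) := by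
  rw [Subgroup.mem_normalizer_iff]
  intro g
  rw [scalar_comm hx g, mul_assoc, mul_inv_cancel, mul_one]

variable {R : Subgroup (GL (Fin 4) F)} {ι : GL (Fin 4) F}

theorem Sy.wGL_mem_normalizer [Fintype F] (h : Sy R ι) (u : G4) (hu : u ∈ R)
    (huu : u * u = -1) : wGL h.two_ne u huu ∈ Subgroup.normalizer (R : Set G4) := by
  haveI : Finite (R : Set G4) := Set.toFinite _
  apply Subgroup.mem_normalizer_fintype
  intro g hg
  rcases h.comm g hg u hu with h1 | h1
  · rw [wGL_conj_comm h.two_ne u huu g h1]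
    exact hg
  · rw [wGL_conj_anti h.two_ne u huu g h1]
    exact h.neg_mem' (R.mul_mem hg hu)

section unitary

variable {q : ℕ}

theorem tau_two_inv (D : UF F q) : D.τ ((2 : F)⁻¹) = (2 : F)⁻¹ := by
  rw [map_inv₀, map_ofNat]

/-- unitarity of an element of `GL` in terms of `ct` -/
theorem ct_of_mem (D : UF F q) (g : G4) (hg : g ∈ Cfsg.GU 4 F q) : ct D (g : M4) * (g : M4) = 1 :=
  (mem_GU_iff_ct (D := D) g).1 hg

theorem ct_eq_inv (D : UF F q) (g : G4) (hg : g ∈ Cfsg.GU 4 F q) : ct D (g : M4) = ((g⁻¹ : G4) : M4) := by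
  have h1 := ct_of_mem D g hg
  calc ct D (g : M4) = ct D (g : M4) * ((g : M4) * ((g⁻¹ : G4) : M4)) := by
        rw [← Units.val_mul, mul_inv_cancel, Units.val_one, Matrix.mul_one]
    _ = ((g⁻¹ : G4) : M4) := by rw [← Matrix.mul_assoc, h1, Matrix.one_mul]

/-- `c (1 + u)` is unitary when `c c̄ = 1 / 2` and `u` is unitary of square `-1` -/
theorem wGL_mem_GU (D : UF F q) (h2 : (2 : F) ≠ 0) (u : G4) (huu : u * u = -1) (hu : u ∈ Cfsg.GU 4 F q)
    (c : F) (hc : c ≠ 0) (hcc : c * D.τ c = (2 : F)⁻¹) :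
    zGL c hc * wGL h2 u huu ∈ Cfsg.GU 4 F q := by
  rw [mem_GU_iff_ct (D := D), Units.val_mul, zGL_val, wGL_val, Matrix.smul_mul, Matrix.one_mul,
    ct_smul, ct_add, ct_one, ct_eq_inv D u hu, Matrix.smul_mul, Matrix.mul_smul, smul_smul]
  have hinv : u⁻¹ = -u := by
    apply inv_eq_of_mul_eq_one_right
    rw [mul_neg, huu, neg_neg]
  have e : (u : M4) * (u : M4) = -1 := by
    rw [← Units.val_mul, huu, Units.val_neg, Units.val_one]
  rw [hinv, Units.val_neg]
  have : (1 + -(u : M4)) * (1 + (u : M4)) = (2 : F) • 1 := by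
    rw [two_smul]
    calc (1 + -(u : M4)) * (1 + (u : M4)) = 1 - (u : M4) * (u : M4) := by noncomm_ring
      _ = 1 + 1 := by rw [e, sub_neg_eq_add]
  rw [this, smul_smul, mul_comm (D.τ c), hcc, inv_mul_cancel₀ h2, one_smul]

variable [Fintype F]

/-- conjugating an involution of `R` into an anticommuting one inside `N(R) ∩ GU` -/
theorem Sy.anti_conj (h : Sy R ι) (D : UF F q) (hRU : R ≤ Cfsg.GU 4 F q) {a b : G4} (ha : a ∈ Sf R ι)
    (hb : b ∈ Sf R ι) (hab : a * b = -(b * a)) :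
    ∃ t ∈ Subgroup.normalizer (R : Set G4) ⊓ Cfsg.GU 4 F q, t * a * t⁻¹ = b := by
  obtain ⟨haR, haa, hanc⟩ := mem_Sf.1 ha
  obtain ⟨hbR, hbb, hbnc⟩ := mem_Sf.1 hb
  have hba : b * a = -(a * b) := by rw [hab, neg_neg]
  have hu : a * b ∈ R := R.mul_mem haR hbR
  have huu : a * b * (a * b) = -1 := by
    calc a * b * (a * b) = a * (b * a) * b := by group
      _ = -(a * a * (b * b)) := by
        rw [hba, mul_neg, neg_mul]
        group
      _ = -1 := by rw [haa, hbb, one_mul]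
  have hau : a * (a * b) = -((a * b) * a) := by
    rw [mul_assoc a b a, hba, mul_neg, neg_neg]
  have e1 : wGL h.two_ne (a * b) huu * a * (wGL h.two_ne (a * b) huu)⁻¹ = -b := by
    rw [wGL_conj_anti h.two_ne (a * b) huu a hau, ← mul_assoc, haa, one_mul]
  obtain ⟨k, hk, hkb⟩ := h.exists_anti hbR hbnc
  obtain ⟨c, hcc⟩ := D.nm_surj ((2 : F)⁻¹) (tau_two_inv D) (inv_ne_zero h.two_ne)
  have hc : c ≠ 0 := by
    intro h0
    rw [h0, zero_mul] at hcc
    exact inv_ne_zero h.two_ne hcc.symm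
  refine ⟨k * (zGL c hc * wGL h.two_ne (a * b) huu), ⟨?_, ?_⟩, ?_⟩
  · exact Subgroup.mul_mem _ (Subgroup.le_normalizer hk)
      (Subgroup.mul_mem _ (zGL_mem_normalizer c hc) (h.wGL_mem_normalizer (a * b) hu huu))
  · exact Subgroup.mul_mem _ (hRU hk) (wGL_mem_GU D h.two_ne (a * b) huu (hRU hu) c hc hcc)
  · calc k * (zGL c hc * wGL h.two_ne (a * b) huu) * a *
          (k * (zGL c hc * wGL h.two_ne (a * b) huu))⁻¹
        = k * (zGL c hc * (wGL h.two_ne (a * b) huu * a * (wGL h.two_ne (a * b) huu)⁻¹) *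
            (zGL c hc)⁻¹) * k⁻¹ := by group
      _ = k * (-b) * k⁻¹ := by rw [e1, zGL_conj]
      _ = b := by
          rw [mul_neg, hkb, neg_neg, mul_assoc, mul_inv_cancel, mul_one]

open Classical in
/-- an involution of `R` anticommuting with two given non-central elements -/
theorem Sy.exists_anti_both (h : Sy R ι) {a b : G4} (ha : a ∈ R) (hanc : ¬ IsCen ι a)
    (hb : b ∈ R) (hbnc : ¬ IsCen ι b) :
    ∃ c ∈ Sf R ι, c * a = -(a * c) ∧ c * b = -(b * c) := by
  set A := (Rf R).filter (fun g => g * a = a * g) with hA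
  set B := (Rf R).filter (fun g => g * b = b * g) with hB
  have h1 := Finset.card_union_add_card_inter A B
  rw [hA, hB, h.card_comm ha hanc, h.card_comm hb hbnc, ← hA, ← hB] at h1
  have h2 : 4 ≤ (A ∩ B).card := by
    have hsub : Sy.Zf ι ⊆ A ∩ B := by
      intro g hg
      rw [Sy.mem_Zf] at hg
      rw [Finset.mem_inter, hA, hB, Finset.mem_filter, Finset.mem_filter, mem_Rf]
      exact ⟨⟨h.isCen_mem hg, h.isCen_comm hg a⟩, h.isCen_mem hg, h.isCen_comm hg b⟩
    have := Finset.card_le_card hsub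
    rwa [h.card_Zf] at this
  have hlt : (A ∪ B).card < (Rf R).card := by
    rw [h.card_Rf]
    omega
  obtain ⟨g, hg, hg'⟩ := Finset.exists_mem_notMem_of_card_lt_card hlt
  rw [mem_Rf] at hg
  rw [Finset.mem_union, not_or, hA, hB, Finset.mem_filter, Finset.mem_filter, mem_Rf, not_and,
    not_and] at hg'
  have hga : g * a = -(a * g) := by
    rcases h.comm g hg a ha with h3 | h3
    · exact absurd h3 (hg'.1 hg)
    · exact h3
  have hgb : g * b = -(b * g) := by
    rcases h.comm g hg b hb with h3 | h3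
    · exact absurd h3 (hg'.2 hg)
    · exact h3
  obtain ⟨c, hc, hcc, hcg⟩ := h.exists_invol_of hg
  have hca : c * a = -(a * c) := by
    rcases hcg with rfl | rfl
    · exact hga
    · rw [mul_assoc, hga, mul_neg, ← mul_assoc, h.iota_comm a, mul_assoc]
  have hcb : c * b = -(b * c) := by
    rcases hcg with rfl | rfl
    · exact hgb
    · rw [mul_assoc, hgb, mul_neg, ← mul_assoc, h.iota_comm b, mul_assoc]
  refine ⟨c, mem_Sf.2 ⟨hc, hcc, ?_⟩, hca, hcb⟩
  intro hcen
  have h3 := h.isCen_comm hcen a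
  rw [h3] at hca
  exact neg_ne_self h.two_ne _ hca.symm

/-- `N(R) ∩ GU` is transitive on the non-central involutions of `R` -/
theorem Sy.exists_conj (h : Sy R ι) (D : UF F q) (hRU : R ≤ Cfsg.GU 4 F q) {a b : G4} (ha : a ∈ Sf R ι)
    (hb : b ∈ Sf R ι) :
    ∃ t ∈ Subgroup.normalizer (R : Set G4) ⊓ Cfsg.GU 4 F q, t * a * t⁻¹ = b := by
  obtain ⟨haR, haa, hanc⟩ := mem_Sf.1 ha
  obtain ⟨hbR, hbb, hbnc⟩ := mem_Sf.1 hb
  obtain ⟨c, hc, hca, hcb⟩ := h.exists_anti_both haR hanc hbR hbnc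
  have hac : a * c = -(c * a) := by rw [hca, neg_neg]
  obtain ⟨t₁, ht₁, e₁⟩ := h.anti_conj D hRU ha hc hac
  obtain ⟨t₂, ht₂, e₂⟩ := h.anti_conj D hRU hc hb hcb
  refine ⟨t₂ * t₁, Subgroup.mul_mem _ ht₂ ht₁, ?_⟩
  calc t₂ * t₁ * a * (t₂ * t₁)⁻¹ = t₂ * (t₁ * a * t₁⁻¹) * t₂⁻¹ := by group
    _ = b := by rw [e₁, e₂]

theorem Sy.conj_mem_Sf (h : Sy R ι) {x : G4}
    (hx : x ∈ Subgroup.normalizer (R : Set G4)) {g : G4} (hg : g ∈ Sf R ι) :
    x * g * x⁻¹ ∈ Sf R ι := by
  rw [mem_Sf] at hg ⊢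
  obtain ⟨hg, hgg, hnc⟩ := hg
  refine ⟨h.conj_mem hx hg, ?_, ?_⟩
  · calc x * g * x⁻¹ * (x * g * x⁻¹) = x * (g * g) * x⁻¹ := by group
      _ = 1 := by rw [hgg]; group
  · intro hcen
    apply hnc
    have e : g = x⁻¹ * (x * g * x⁻¹) * x := by group
    rw [e, mul_assoc, h.isCen_comm hcen x, ← mul_assoc, inv_mul_cancel, one_mul]
    exact hcen

/-- `N(R) ∩ GU_4` contains an element of order five -/
theorem Sy.exists_order_five (h : Sy R ι) (D : UF F q) (hRU : R ≤ Cfsg.GU 4 F q) :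
    ∃ t ∈ Subgroup.normalizer (R : Set G4) ⊓ Cfsg.GU 4 F q, orderOf t = 5 := by
  classical
  obtain ⟨H, hH⟩ : ∃ H : Subgroup G4,
      H = Subgroup.normalizer (R : Set G4) ⊓ Cfsg.GU 4 F q := ⟨_, rfl⟩
  rw [← hH]
  have hHn : ∀ t : H, (t : G4) ∈ Subgroup.normalizer (R : Set G4) := by
    intro t
    have h1 : H ≤ Subgroup.normalizer (R : Set G4) := by
      rw [hH]
      exact inf_le_left
    exact h1 t.2
  letI : MulAction H {g // g ∈ Sf R ι} :=
    { smul := fun t g => ⟨(t : G4) * g.1 * (t : G4)⁻¹, h.conj_mem_Sf (hHn t) g.2⟩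
      one_smul := fun g => by
        apply Subtype.ext
        show ((1 : H) : G4) * g.1 * ((1 : H) : G4)⁻¹ = g.1
        rw [Subgroup.coe_one, one_mul, inv_one, mul_one]
      mul_smul := fun s t g => by
        apply Subtype.ext
        show ((s * t : H) : G4) * g.1 * ((s * t : H) : G4)⁻¹ =
          (s : G4) * ((t : G4) * g.1 * (t : G4)⁻¹) * (s : G4)⁻¹
        rw [Subgroup.coe_mul]
        group }
  haveI : MulAction.IsPretransitive H {g // g ∈ Sf R ι} := by
    constructor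
    intro a b
    obtain ⟨t, ht, e⟩ := h.exists_conj D hRU a.2 b.2
    rw [← hH] at ht
    exact ⟨⟨t, ht⟩, Subtype.ext e⟩
  have hX : Nat.card {g // g ∈ Sf R ι} = 30 := by
    rw [Nat.card_eq_fintype_card, Fintype.card_coe, h.card_Sf]
  obtain ⟨a, ha, haa, hanc⟩ := h.exists_invol
  have haS : a ∈ Sf R ι := mem_Sf.2 ⟨ha, haa, hanc⟩
  have hidx := MulAction.index_stabilizer_of_transitive H (⟨a, haS⟩ : {g // g ∈ Sf R ι})
  rw [hX] at hidx
  have hdvd : 30 ∣ Nat.card H := by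
    rw [← hidx]
    exact Subgroup.index_dvd_card _
  have h5 : 5 ∣ Nat.card H := Dvd.dvd.trans (by norm_num) hdvd
  haveI : Fact (Nat.Prime 5) := ⟨Nat.prime_five⟩
  obtain ⟨t, ht⟩ := exists_prime_orderOf_dvd_card' 5 h5
  refine ⟨t.1, t.2, ?_⟩
  rw [Subgroup.orderOf_coe]
  exact ht

end unitary

end Cfsg.Agent.Lib.H25.Su4
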