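import Mathlib
import Cfsg.Agent.Lib.H25.Su4D

/-!
# Elements of order three normalizing `4 ∘ 2^{1+4}` (helper25)

For a quaternion pair `a, b` in `R` the element `w = -(1 + a)(1 + b)/2` normalizes `R`, is unitary
and satisfies `w² + w + 1 = 0`; for two commuting quaternion pairs the product `v = w w'` has order
three, trace one and `v² + v + 1 ≠ 0`.
-/

set_option autoImplicit false
open scoped MatrixGroups
open Matrix

namespace Cfsg.Agent.Lib.H25.Su4

open Cfsg.Agent.Lib.H13.AutPSU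

/-- the square of `1 + A + B + AB` for a quaternion pair -/
theorem quat_T {S : Type*} [Ring S] (A B : S) (hA : A * A = -1) (hB : B * B = -1)
    (hBA : B * A = -(A * B)) :
    (1 + A + B + A * B) * (1 + A + B + A * B) + (1 + 1 + 1 + 1) =
      (1 + A + B + A * B) + (1 + A + B + A * B) := by
  have hA' : ∀ X : S, A * (A * X) = -X := by
    intro X; rw [← mul_assoc, hA, neg_mul, one_mul]
  have hBA' : ∀ X : S, B * (A * X) = -(A * (B * X)) := by
    intro X; rw [← mul_assoc, hBA, neg_mul, mul_assoc]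
  simp only [mul_add, add_mul, mul_one, one_mul, mul_assoc, hA, hB, hBA, hA', hBA', mul_neg,
    neg_neg]
  abel

/-- `W = -(1 + A + B + AB)/2` satisfies `W² = -1 - W` -/
theorem quat_W {F S : Type*} [Field F] [Ring S] [Algebra F S] (h2 : (2 : F) ≠ 0) (A B : S)
    (hA : A * A = -1) (hB : B * B = -1) (hBA : B * A = -(A * B)) :
    ((-(2 : F)⁻¹) • (1 + A + B + A * B)) * ((-(2 : F)⁻¹) • (1 + A + B + A * B)) =
      -1 - (-(2 : F)⁻¹) • (1 + A + B + A * B) := by
  have hT := quat_T A B hA hB hBA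
  set T := 1 + A + B + A * B with hTdef
  have hTT : T * T = T + T - (1 + 1 + 1 + 1) := by
    rw [← hT]; abel
  rw [smul_mul_smul_comm, hTT]
  have e : (1 : S) + 1 + 1 + 1 = (4 : F) • (1 : S) := by
    rw [show (4 : F) = 1 + 1 + 1 + 1 by norm_num, add_smul, add_smul, add_smul, one_smul]
  rw [e]
  match_scalars <;> field_simp <;> ring

variable {F : Type*} [Field F]

local notation "M4" => Matrix (Fin 4) (Fin 4) F
local notation "G4" => GL (Fin 4) F

theorem anti_mul_left {p g g' : G4} (h1 : p * g = -(g * p)) (h2 : p * g' = g' * p) :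
    p * (g * g') = -((g * g') * p) := by
  rw [← mul_assoc, h1, neg_mul, mul_assoc, h2, ← mul_assoc]

theorem anti_mul_right {p g g' : G4} (h1 : p * g = g * p) (h2 : p * g' = -(g' * p)) :
    p * (g * g') = -((g * g') * p) := by
  rw [← mul_assoc, h1, mul_assoc, h2, mul_neg, ← mul_assoc]

theorem comm_mul {p g g' : G4} (h1 : p * g = g * p) (h2 : p * g' = g' * p) :
    p * (g * g') = (g * g') * p := by
  rw [← mul_assoc, h1, mul_assoc, h2, ← mul_assoc]

theorem zGL_mul (c c' : F) (hc : c ≠ 0) (hc' : c' ≠ 0) :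
    zGL c hc * zGL c' hc' = zGL (c * c') (mul_ne_zero hc hc') := by
  apply Units.ext
  rw [Units.val_mul, zGL_val, zGL_val, zGL_val, Matrix.smul_mul, Matrix.one_mul, smul_smul]

/-- a quaternion pair in `R` -/
structure QP (R : Subgroup G4) (a b : G4) : Prop where
  ha : a ∈ R
  hb : b ∈ R
  haa : a * a = -1
  hbb : b * b = -1
  hba : b * a = -(a * b)

namespace QP

variable {R : Subgroup (GL (Fin 4) F)} {a b : GL (Fin 4) F}

theorem hab (hq : QP R a b) : a * b = -(b * a) := by rw [hq.hba, neg_neg]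

theorem ha_ab (hq : QP R a b) : a * (a * b) = -((a * b) * a) :=
  anti_mul_right rfl hq.hab

theorem mat_aa (hq : QP R a b) : (a : M4) * (a : M4) = -1 := by
  rw [← Units.val_mul, hq.haa, Units.val_neg, Units.val_one]

theorem mat_bb (hq : QP R a b) : (b : M4) * (b : M4) = -1 := by
  rw [← Units.val_mul, hq.hbb, Units.val_neg, Units.val_one]

theorem mat_ba (hq : QP R a b) : (b : M4) * (a : M4) = -((a : M4) * (b : M4)) := by
  rw [← Units.val_mul, hq.hba, Units.val_neg, Units.val_mul]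

end QP

theorem neg_two_inv_ne (h2 : (2 : F) ≠ 0) : (-(2 : F)⁻¹) ≠ 0 := neg_ne_zero.2 (inv_ne_zero h2)

/-- the element `-(1 + a)(1 + b)/2` -/
noncomputable def wq (h2 : (2 : F) ≠ 0) (a b : G4) (haa : a * a = -1) (hbb : b * b = -1) : G4 :=
  zGL (-(2 : F)⁻¹) (neg_two_inv_ne h2) * (wGL h2 a haa * wGL h2 b hbb)

theorem wq_val (h2 : (2 : F) ≠ 0) (a b : G4) (haa : a * a = -1) (hbb : b * b = -1) :
    ((wq h2 a b haa hbb : G4) : M4) =
      (-(2 : F)⁻¹) • (1 + (a : M4) + (b : M4) + (a : M4) * (b : M4)) := by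
  unfold wq
  rw [Units.val_mul, Units.val_mul, zGL_val, wGL_val, wGL_val, Matrix.smul_mul, Matrix.one_mul]
  congr 1
  simp only [Matrix.add_mul, Matrix.mul_add, Matrix.one_mul, Matrix.mul_one]
  abel

section

variable {R : Subgroup (GL (Fin 4) F)} {ι : GL (Fin 4) F} {a b : GL (Fin 4) F}

theorem wq_sq (h2 : (2 : F) ≠ 0) (hq : QP R a b) :
    ((wq h2 a b hq.haa hq.hbb : G4) : M4) * ((wq h2 a b hq.haa hq.hbb : G4) : M4) =
      -1 - ((wq h2 a b hq.haa hq.hbb : G4) : M4) := by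
  rw [wq_val]
  exact quat_W h2 _ _ hq.mat_aa hq.mat_bb hq.mat_ba

theorem wq_quad (h2 : (2 : F) ≠ 0) (hq : QP R a b) :
    ((wq h2 a b hq.haa hq.hbb : G4) : M4) * ((wq h2 a b hq.haa hq.hbb : G4) : M4) +
      ((wq h2 a b hq.haa hq.hbb : G4) : M4) + 1 = 0 := by
  rw [wq_sq h2 hq]
  abel

theorem wq_cube (h2 : (2 : F) ≠ 0) (hq : QP R a b) : (wq h2 a b hq.haa hq.hbb) ^ 3 = 1 := by
  apply Units.ext
  rw [pow_succ, pow_two, Units.val_mul, Units.val_mul, wq_sq h2 hq, Units.val_one, Matrix.sub_mul,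
    wq_sq h2 hq]
  simp only [Matrix.neg_mul, Matrix.one_mul]
  abel

theorem Sy.wq_mem_normalizer [Fintype F] (h : Sy R ι) (hq : QP R a b) :
    wq h.two_ne a b hq.haa hq.hbb ∈ Subgroup.normalizer (R : Set G4) := by
  unfold wq
  exact Subgroup.mul_mem _ (zGL_mem_normalizer _ _)
    (Subgroup.mul_mem _ (h.wGL_mem_normalizer a hq.ha hq.haa) (h.wGL_mem_normalizer b hq.hb hq.hbb))

theorem wq_mem_GU {q : ℕ} (D : UF F q) (h2 : (2 : F) ≠ 0) (hq : QP R a b)
    (hRU : R ≤ Cfsg.GU 4 F q) : wq h2 a b hq.haa hq.hbb ∈ Cfsg.GU 4 F q := by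
  obtain ⟨c, hcc⟩ := D.nm_surj ((2 : F)⁻¹) (tau_two_inv D) (inv_ne_zero h2)
  have hc : c ≠ 0 := by
    intro h0
    rw [h0, zero_mul] at hcc
    exact inv_ne_zero h2 hcc.symm
  have hτc : D.τ c ≠ 0 := by
    intro h0
    rw [h0, mul_zero] at hcc
    exact inv_ne_zero h2 hcc.symm
  set c' : F := -(2 * c)⁻¹ with hc'def
  have hc' : c' ≠ 0 := neg_ne_zero.2 (inv_ne_zero (mul_ne_zero h2 hc))
  have hcc' : c' * D.τ c' = (2 : F)⁻¹ := by
    rw [hc'def, map_neg, map_inv₀, map_mul, map_ofNat]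
    have h3 : c * D.τ c * 2 = 1 := by rw [hcc, inv_mul_cancel₀ h2]
    field_simp
    linear_combination -h3
  have e : wq h2 a b hq.haa hq.hbb =
      (zGL c hc * wGL h2 a hq.haa) * (zGL c' hc' * wGL h2 b hq.hbb) := by
    unfold wq
    have e1 : zGL c hc * wGL h2 a hq.haa * (zGL c' hc' * wGL h2 b hq.hbb) =
        (zGL c hc * zGL c' hc') * (wGL h2 a hq.haa * wGL h2 b hq.hbb) := by
      rw [mul_assoc, ← mul_assoc (wGL h2 a hq.haa), ← zGL_comm c' hc' (wGL h2 a hq.haa)]
      simp only [mul_assoc]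
    rw [e1, zGL_mul]
    congr 1
    apply Units.ext
    rw [zGL_val, zGL_val]
    congr 1
    rw [hc'def]
    field_simp
  rw [e]
  exact Subgroup.mul_mem _ (wGL_mem_GU D h2 a hq.haa (hRU hq.ha) c hc hcc)
    (wGL_mem_GU D h2 b hq.hbb (hRU hq.hb) c' hc' hcc')

theorem Sy.trace_wq [Fintype F] (h : Sy R ι) (hq : QP R a b) :
    Matrix.trace ((wq h.two_ne a b hq.haa hq.hbb : G4) : M4) = -2 := by
  have t1 : Matrix.trace (a : M4) = 0 := h.trace_eq_zero_of_anti hq.hba
  have t2 : Matrix.trace (b : M4) = 0 := h.trace_eq_zero_of_anti hq.hab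
  have t3 : Matrix.trace ((a : M4) * (b : M4)) = 0 := by
    rw [← Units.val_mul]
    exact h.trace_eq_zero_of_anti hq.ha_ab
  rw [wq_val, Matrix.trace_smul, Matrix.trace_add, Matrix.trace_add, Matrix.trace_add, t1, t2, t3,
    Matrix.trace_one]
  have e : (Fintype.card (Fin 4) : F) = 4 := by simp
  rw [e, smul_eq_mul]
  have := h.two_ne
  field_simp
  ring

end

/-- two commuting quaternion pairs -/
structure QQ (R : Subgroup G4) (a b a' b' : G4) : Prop where
  q : QP R a b
  q' : QP R a' b'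
  c11 : a' * a = a * a'
  c12 : a' * b = b * a'
  c21 : b' * a = a * b'
  c22 : b' * b = b * b'

section

variable {R : Subgroup (GL (Fin 4) F)} {ι : GL (Fin 4) F} {a b a' b' : GL (Fin 4) F}

theorem wq_comm (h2 : (2 : F) ≠ 0) (hQ : QQ R a b a' b') :
    wq h2 a b hQ.q.haa hQ.q.hbb * wq h2 a' b' hQ.q'.haa hQ.q'.hbb =
      wq h2 a' b' hQ.q'.haa hQ.q'.hbb * wq h2 a b hQ.q.haa hQ.q.hbb := by
  have m11 : (a' : M4) * (a : M4) = (a : M4) * (a' : M4) := by
    rw [← Units.val_mul, hQ.c11, Units.val_mul]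
  have m12 : (a' : M4) * (b : M4) = (b : M4) * (a' : M4) := by
    rw [← Units.val_mul, hQ.c12, Units.val_mul]
  have m21 : (b' : M4) * (a : M4) = (a : M4) * (b' : M4) := by
    rw [← Units.val_mul, hQ.c21, Units.val_mul]
  have m22 : (b' : M4) * (b : M4) = (b : M4) * (b' : M4) := by
    rw [← Units.val_mul, hQ.c22, Units.val_mul]
  have m11' : ∀ X : M4, (a' : M4) * ((a : M4) * X) = (a : M4) * ((a' : M4) * X) := by
    intro X; rw [← Matrix.mul_assoc, m11, Matrix.mul_assoc]
  have m12' : ∀ X : M4, (a' : M4) * ((b : M4) * X) = (b : M4) * ((a' : M4) * X) := by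
    intro X; rw [← Matrix.mul_assoc, m12, Matrix.mul_assoc]
  have m21' : ∀ X : M4, (b' : M4) * ((a : M4) * X) = (a : M4) * ((b' : M4) * X) := by
    intro X; rw [← Matrix.mul_assoc, m21, Matrix.mul_assoc]
  have m22' : ∀ X : M4, (b' : M4) * ((b : M4) * X) = (b : M4) * ((b' : M4) * X) := by
    intro X; rw [← Matrix.mul_assoc, m22, Matrix.mul_assoc]
  apply Units.ext
  rw [Units.val_mul, Units.val_mul, wq_val, wq_val, smul_mul_smul_comm, smul_mul_smul_comm]
  congr 1
  simp only [Matrix.mul_add, Matrix.add_mul, Matrix.mul_one, Matrix.one_mul, Matrix.mul_assoc,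
    m11, m12, m21, m22, m11', m12', m21']
  abel

/-- the trace of the product of the elements of order three of two commuting quaternion pairs -/
theorem Sy.trace_wq_mul [Fintype F] (h : Sy R ι) (hQ : QQ R a b a' b') :
    Matrix.trace (((wq h.two_ne a b hQ.q.haa hQ.q.hbb : G4) : M4) *
      ((wq h.two_ne a' b' hQ.q'.haa hQ.q'.hbb : G4) : M4)) = 1 := by
  have hq := hQ.q
  have hq' := hQ.q'
  -- commutation of the partners
  have ca_a' : a * a' = a' * a := hQ.c11.symm
  have ca_b' : a * b' = b' * a := hQ.c21.symm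
  have cb_a' : b * a' = a' * b := hQ.c12.symm
  have cb_b' : b * b' = b' * b := hQ.c22.symm
  have ca_ab' : a * (a' * b') = (a' * b') * a := comm_mul ca_a' ca_b'
  have cb_ab' : b * (a' * b') = (a' * b') * b := comm_mul cb_a' cb_b'
  -- the fifteen traces
  have t_a : Matrix.trace (a : M4) = 0 := h.trace_eq_zero_of_anti hq.hba
  have t_b : Matrix.trace (b : M4) = 0 := h.trace_eq_zero_of_anti hq.hab
  have t_ab : Matrix.trace ((a : M4) * (b : M4)) = 0 := by
    rw [← Units.val_mul]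
    exact h.trace_eq_zero_of_anti hq.ha_ab
  have t_a' : Matrix.trace (a' : M4) = 0 := h.trace_eq_zero_of_anti hq'.hba
  have t_b' : Matrix.trace (b' : M4) = 0 := h.trace_eq_zero_of_anti hq'.hab
  have t_ab' : Matrix.trace ((a' : M4) * (b' : M4)) = 0 := by
    rw [← Units.val_mul]
    exact h.trace_eq_zero_of_anti hq'.ha_ab
  have t1 : Matrix.trace ((a : M4) * (a' : M4)) = 0 := by
    rw [← Units.val_mul]
    exact h.trace_eq_zero_of_anti (anti_mul_left hq.hba cb_a')
  have t2 : Matrix.trace ((a : M4) * (b' : M4)) = 0 := by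
    rw [← Units.val_mul]
    exact h.trace_eq_zero_of_anti (anti_mul_left hq.hba cb_b')
  have t3 : Matrix.trace ((a : M4) * ((a' : M4) * (b' : M4))) = 0 := by
    rw [← Units.val_mul, ← Units.val_mul]
    exact h.trace_eq_zero_of_anti (anti_mul_left hq.hba cb_ab')
  have t4 : Matrix.trace ((b : M4) * (a' : M4)) = 0 := by
    rw [← Units.val_mul]
    exact h.trace_eq_zero_of_anti (anti_mul_left hq.hab ca_a')
  have t5 : Matrix.trace ((b : M4) * (b' : M4)) = 0 := by
    rw [← Units.val_mul]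
    exact h.trace_eq_zero_of_anti (anti_mul_left hq.hab ca_b')
  have t6 : Matrix.trace ((b : M4) * ((a' : M4) * (b' : M4))) = 0 := by
    rw [← Units.val_mul, ← Units.val_mul]
    exact h.trace_eq_zero_of_anti (anti_mul_left hq.hab ca_ab')
  have t7 : Matrix.trace ((a : M4) * ((b : M4) * (a' : M4))) = 0 := by
    rw [← Matrix.mul_assoc, ← Units.val_mul, ← Units.val_mul]
    exact h.trace_eq_zero_of_anti (anti_mul_left hq.ha_ab ca_a')
  have t8 : Matrix.trace ((a : M4) * ((b : M4) * (b' : M4))) = 0 := by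
    rw [← Matrix.mul_assoc, ← Units.val_mul, ← Units.val_mul]
    exact h.trace_eq_zero_of_anti (anti_mul_left hq.ha_ab ca_b')
  have t9 : Matrix.trace ((a : M4) * ((b : M4) * ((a' : M4) * (b' : M4)))) = 0 := by
    rw [← Matrix.mul_assoc, ← Units.val_mul, ← Units.val_mul, ← Units.val_mul]
    exact h.trace_eq_zero_of_anti (anti_mul_left hq.ha_ab ca_ab')
  rw [wq_val, wq_val, smul_mul_smul_comm, Matrix.trace_smul]
  simp only [Matrix.mul_add, Matrix.add_mul, Matrix.mul_one, Matrix.one_mul, Matrix.mul_assoc,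
    Matrix.trace_add, t_a, t_b, t_ab, t_a', t_b', t_ab', t1, t2, t3, t4, t5, t6, t7, t8, t9,
    Matrix.trace_one]
  have e : (Fintype.card (Fin 4) : F) = 4 := by simp
  rw [e, smul_eq_mul]
  have := h.two_ne
  field_simp
  ring

end

end Cfsg.Agent.Lib.H25.Su4
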