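import Mathlib
import Cfsg.Agent.Lib.H25.Su4E

/-!
# Existence of quaternion pairs in `4 ∘ 2^{1+4}`, the two classes of elements of order three and a
reflection in the normalizer (helper25)
-/

set_option autoImplicit false
open scoped MatrixGroups
open Matrix

namespace Cfsg.Agent.Lib.H25.Su4

open Cfsg.Agent.Lib.H13.AutPSU

/-- a product of three elements `1 + i u` is a multiple of a reflection -/
theorem refl_fact {F S : Type*} [Field F] [Ring S] [Algebra F S] (i₀ : F) (hi : i₀ * i₀ = -1)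
    (A B : S) (hA : A * A = 1) (hB : B * B = 1) (hBA : B * A = A * B) :
    (1 + i₀ • A) * (1 + i₀ • B) * (1 + i₀ • (A * B)) = (1 - i₀) • (1 - A - B - A * B) := by
  have hA' : ∀ X : S, A * (A * X) = X := by
    intro X; rw [← mul_assoc, hA, one_mul]
  have hBA' : ∀ X : S, B * (A * X) = A * (B * X) := by
    intro X; rw [← mul_assoc, hBA, mul_assoc]
  simp only [mul_add, add_mul, mul_one, one_mul, mul_assoc, smul_mul_assoc, mul_smul_comm,
    smul_smul, smul_add, hA, hB, hA', hBA']
  match_scalars <;> first | linear_combination i₀ * hi | linear_combination hi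

theorem refl_sq {F S : Type*} [Field F] [Ring S] [Algebra F S] (h2 : (2 : F) ≠ 0)
    (A B : S) (hA : A * A = 1) (hB : B * B = 1) (hBA : B * A = A * B) :
    ((2 : F)⁻¹ • (1 - A - B - A * B)) * ((2 : F)⁻¹ • (1 - A - B - A * B)) = 1 := by
  have hA' : ∀ X : S, A * (A * X) = X := by
    intro X; rw [← mul_assoc, hA, one_mul]
  have hBA' : ∀ X : S, B * (A * X) = A * (B * X) := by
    intro X; rw [← mul_assoc, hBA, mul_assoc]
  simp only [mul_sub, sub_mul, mul_one, one_mul, mul_assoc, smul_mul_assoc, mul_smul_comm,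
    smul_smul, smul_sub, hA, hB, hBA, hA', hBA']
  match_scalars <;> field_simp <;> ring

variable {F : Type*} [Field F]

local notation "M4" => Matrix (Fin 4) (Fin 4) F
local notation "G4" => GL (Fin 4) F

theorem mul_comm_of {x k u : G4} (h1 : x * u = u * x) (h2 : k * u = u * k) :
    (x * k) * u = u * (x * k) := by
  rw [mul_assoc, h2, ← mul_assoc, h1, mul_assoc]

theorem mul_comm_of_anti {x k u : G4} (h1 : x * u = -(u * x)) (h2 : k * u = -(u * k)) :
    (x * k) * u = u * (x * k) := by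
  rw [mul_assoc, h2, mul_neg, ← mul_assoc, h1, neg_mul, neg_neg, mul_assoc]

theorem mul_anti_of {x k u : G4} (h1 : x * u = -(u * x)) (h2 : k * u = u * k) :
    (x * k) * u = -(u * (x * k)) := by
  rw [mul_assoc, h2, ← mul_assoc, h1, neg_mul, mul_assoc]

section

variable [Fintype F] {R : Subgroup (GL (Fin 4) F)} {ι : GL (Fin 4) F}

theorem Sy.not_isCen_of_anti (h : Sy R ι) {a c : G4} (hac : a * c = -(c * a)) : ¬ IsCen ι a := by
  intro hcen
  have h3 := h.isCen_comm hcen c
  rw [h3] at hac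
  exact neg_ne_self h.two_ne _ hac.symm

open Classical in
/-- the common centralizer of two anticommuting elements of `R` has order sixteen -/
theorem Sy.card_comm_both (h : Sy R ι) {a c : G4} (ha : a ∈ R) (hc : c ∈ R)
    (hac : a * c = -(c * a)) :
    ((Rf R).filter (fun g => g * a = a * g ∧ g * c = c * g)).card = 16 := by
  have hanc : ¬ IsCen ι a := h.not_isCen_of_anti hac
  have e1 : ((Rf R).filter (fun g => g * a = a * g ∧ g * c = c * g)).card =
      ((Rf R).filter (fun g => g * a = a * g ∧ ¬ g * c = c * g)).card := by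
    apply Finset.card_nbij' (fun g => a * g) (fun g => a⁻¹ * g)
    · intro g hg
      rw [Finset.mem_coe, Finset.mem_filter, mem_Rf] at hg ⊢
      obtain ⟨hg, hga, hgc⟩ := hg
      refine ⟨R.mul_mem ha hg, ?_, ?_⟩
      · show a * g * a = a * (a * g)
        rw [mul_assoc, hga]
      · show ¬ a * g * c = c * (a * g)
        rw [mul_assoc, hgc, ← mul_assoc, hac, neg_mul, mul_assoc]
        exact fun h3 => neg_ne_self h.two_ne _ h3
    · intro g hg
      rw [Finset.mem_coe, Finset.mem_filter, mem_Rf] at hg ⊢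
      obtain ⟨hg, hga, hgc⟩ := hg
      have hgc' : g * c = -(c * g) := by
        rcases h.comm g hg c hc with h3 | h3
        · exact absurd h3 hgc
        · exact h3
      have hai : a⁻¹ * c = -(c * a⁻¹) := by
        have : c * a⁻¹ = -(a⁻¹ * c) := by
          calc c * a⁻¹ = a⁻¹ * (a * c) * a⁻¹ := by group
            _ = -(a⁻¹ * c) := by
              rw [hac, mul_neg, neg_mul, ← mul_assoc, mul_assoc, mul_inv_cancel, mul_one]
        rw [this, neg_neg]
      refine ⟨R.mul_mem (R.inv_mem ha) hg, ?_, ?_⟩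
      · calc a⁻¹ * g * a = a⁻¹ * (g * a) := by group
          _ = a⁻¹ * (a * g) := by rw [hga]
          _ = a * (a⁻¹ * g) := by group
      · show a⁻¹ * g * c = c * (a⁻¹ * g)
        rw [mul_assoc, hgc', mul_neg, ← mul_assoc, hai, neg_mul, neg_neg, mul_assoc]
    · intro g _
      simp
    · intro g _
      simp
  have e2 := Finset.card_filter_add_card_filter_not
    (s := (Rf R).filter (fun g => g * a = a * g)) (fun g => g * c = c * g)
  rw [Finset.filter_filter, Finset.filter_filter, h.card_comm ha hanc] at e2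
  omega

open Classical in
/-- a non-central element commuting with two given anticommuting elements -/
theorem Sy.exists_comm_both (h : Sy R ι) {a c : G4} (ha : a ∈ R) (hc : c ∈ R)
    (hac : a * c = -(c * a)) :
    ∃ g ∈ R, ¬ IsCen ι g ∧ g * a = a * g ∧ g * c = c * g := by
  have hlt : (Sy.Zf ι).card <
      ((Rf R).filter (fun g => g * a = a * g ∧ g * c = c * g)).card := by
    rw [h.card_comm_both ha hc hac, h.card_Zf]
    norm_num
  obtain ⟨g, hg, hg'⟩ := Finset.exists_mem_notMem_of_card_lt_card hlt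
  rw [Finset.mem_filter, mem_Rf] at hg
  rw [Sy.mem_Zf] at hg'
  exact ⟨g, hg.1, hg', hg.2.1, hg.2.2⟩

/-- a quaternion pair exists -/
theorem Sy.exists_qp (h : Sy R ι) : ∃ a b : G4, QP R a b := by
  obtain ⟨a, ha, haa, hanc⟩ := h.exists_sqneg
  obtain ⟨b₀, hb₀, hb₀a⟩ := h.exists_anti ha hanc
  obtain ⟨b, hb, hbb, hbb₀⟩ := h.exists_sqneg_of hb₀
  refine ⟨a, b, ha, hb, haa, hbb, ?_⟩
  rcases hbb₀ with rfl | rfl
  · exact hb₀a
  · rw [mul_assoc, hb₀a, mul_neg, ← mul_assoc, h.iota_comm a, mul_assoc]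

/-- adjusting an element of `R` to commute with a quaternion pair -/
theorem Sy.exists_adjust (h : Sy R ι) {a b : G4} (hq : QP R a b) {x : G4} (hx : x ∈ R) :
    ∃ k ∈ R, (x * k) * a = a * (x * k) ∧ (x * k) * b = b * (x * k) ∧
      ∀ g : G4, g * a = a * g → g * b = b * g → k * g = g * k := by
  have haa : a * a = a * a := rfl
  have hbb : b * b = b * b := rfl
  rcases h.comm x hx a hq.ha with h1 | h1 <;> rcases h.comm x hx b hq.hb with h2 | h2
  · refine ⟨1, R.one_mem, ?_, ?_, ?_⟩
    · rw [mul_one]; exact h1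
    · rw [mul_one]; exact h2
    · intro g _ _
      rw [one_mul, mul_one]
  · refine ⟨a, hq.ha, mul_comm_of h1 haa, mul_comm_of_anti h2 hq.hab, ?_⟩
    intro g hga _
    exact hga.symm
  · refine ⟨b, hq.hb, mul_comm_of_anti h1 hq.hba, mul_comm_of h2 hbb, ?_⟩
    intro g _ hgb
    exact hgb.symm
  · refine ⟨a * b, R.mul_mem hq.ha hq.hb, ?_, ?_, ?_⟩
    · apply mul_comm_of_anti h1
      rw [mul_assoc, hq.hba, mul_neg, ← mul_assoc]
    · apply mul_comm_of_anti h2
      rw [← mul_assoc b a b, hq.hba, neg_mul, neg_neg]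
    · intro g hga hgb
      rw [mul_assoc, ← hgb, ← mul_assoc, ← hga, mul_assoc]

/-- a second quaternion pair commuting with a given one -/
theorem Sy.exists_qq (h : Sy R ι) {a b : G4} (hq : QP R a b) : ∃ a' b' : G4, QQ R a b a' b' := by
  obtain ⟨g, hg, hgnc, hga, hgb⟩ := h.exists_comm_both hq.ha hq.hb hq.hab
  obtain ⟨x, hx, hxg⟩ := h.exists_anti hg hgnc
  obtain ⟨k, hk, hka, hkb, hkc⟩ := h.exists_adjust hq hx
  have hkg := hkc g hga hgb
  have hyg : (x * k) * g = -(g * (x * k)) := mul_anti_of hxg hkg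
  obtain ⟨a', ha', haa', ha'g⟩ := h.exists_sqneg_of hg
  obtain ⟨b', hb', hbb', hb'y⟩ := h.exists_sqneg_of (R.mul_mem hx hk)
  have ca : ∀ u : G4, g * u = u * g → a' * u = u * a' := by
    intro u hu
    rcases ha'g with rfl | rfl
    · exact hu
    · rw [mul_assoc, hu, ← mul_assoc, h.iota_comm u, mul_assoc]
  have cb : ∀ u : G4, (x * k) * u = u * (x * k) → b' * u = u * b' := by
    intro u hu
    rcases hb'y with rfl | rfl
    · exact hu
    · rw [mul_assoc, hu, ← mul_assoc, h.iota_comm u, mul_assoc]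
  have hb'a' : b' * a' = -(a' * b') := by
    have h1 : (x * k) * a' = -(a' * (x * k)) := by
      rcases ha'g with rfl | rfl
      · exact hyg
      · rw [← mul_assoc, ← h.iota_comm (x * k), mul_assoc, hyg, mul_neg, mul_assoc]
    rcases hb'y with rfl | rfl
    · exact h1
    · rw [mul_assoc, h1, mul_neg, ← mul_assoc, h.iota_comm a', mul_assoc]
  exact ⟨a', b', hq, ⟨ha', hb', haa', hbb', hb'a'⟩, ca a hga, ca b hgb, cb a hka, cb b hkb⟩

end

section order3

variable [Fintype F] {R : Subgroup (GL (Fin 4) F)} {ι : GL (Fin 4) F} {q : ℕ}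

/-- an element of order three of `N(R) ∩ GU` with `w² + w + 1 = 0` -/
theorem Sy.exists_ref3a (h : Sy R ι) (D : UF F q) (hRU : R ≤ Cfsg.GU 4 F q) :
    ∃ w ∈ Subgroup.normalizer (R : Set G4) ⊓ Cfsg.GU 4 F q,
      (w : M4) * (w : M4) + (w : M4) + 1 = 0 := by
  obtain ⟨a, b, hq⟩ := h.exists_qp
  exact ⟨wq h.two_ne a b hq.haa hq.hbb, ⟨h.wq_mem_normalizer hq, wq_mem_GU D h.two_ne hq hRU⟩,
    wq_quad h.two_ne hq⟩

/-- an element of order three of `N(R) ∩ GU` with `v² + v + 1 ≠ 0` -/
theorem Sy.exists_ref3b (h : Sy R ι) (D : UF F q) (hRU : R ≤ Cfsg.GU 4 F q) (h3 : (3 : F) ≠ 0) :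
    ∃ v ∈ Subgroup.normalizer (R : Set G4) ⊓ Cfsg.GU 4 F q, v ^ 3 = 1 ∧ v ≠ 1 ∧
      (v : M4) * (v : M4) + (v : M4) + 1 ≠ 0 := by
  obtain ⟨a, b, hq⟩ := h.exists_qp
  obtain ⟨a', b', hQ⟩ := h.exists_qq hq
  set w := wq h.two_ne a b hQ.q.haa hQ.q.hbb with hw
  set w' := wq h.two_ne a' b' hQ.q'.haa hQ.q'.hbb with hw'
  have hcomm : w * w' = w' * w := wq_comm h.two_ne hQ
  have hcommM : (w : M4) * (w' : M4) = (w' : M4) * (w : M4) := by
    rw [← Units.val_mul, hcomm, Units.val_mul]
  have htr : Matrix.trace ((w : M4) * (w' : M4)) = 1 := h.trace_wq_mul hQ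
  have htw : Matrix.trace (w : M4) = -2 := h.trace_wq hQ.q
  have htw' : Matrix.trace (w' : M4) = -2 := h.trace_wq hQ.q'
  have hsq : (w : M4) * (w : M4) = -1 - (w : M4) := wq_sq h.two_ne hQ.q
  have hsq' : (w' : M4) * (w' : M4) = -1 - (w' : M4) := wq_sq h.two_ne hQ.q'
  have e4 : (Fintype.card (Fin 4) : F) = 4 := by simp
  refine ⟨w * w', ⟨?_, ?_⟩, ?_, ?_, ?_⟩
  · exact Subgroup.mul_mem _ (h.wq_mem_normalizer hQ.q) (h.wq_mem_normalizer hQ.q')
  · exact Subgroup.mul_mem _ (wq_mem_GU D h.two_ne hQ.q hRU) (wq_mem_GU D h.two_ne hQ.q' hRU)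
  · rw [(Commute.mul_pow hcomm 3), wq_cube h.two_ne hQ.q, wq_cube h.two_ne hQ.q', one_mul]
  · intro h1
    have := congrArg (fun u : G4 => Matrix.trace (u : M4)) h1
    simp only [Units.val_mul, Units.val_one, Matrix.trace_one] at this
    rw [htr, e4] at this
    apply h3
    linear_combination -this
  · intro h1
    have hVV : ((w * w' : G4) : M4) * ((w * w' : G4) : M4) =
        1 + (w : M4) + (w' : M4) + (w : M4) * (w' : M4) := by
      rw [Units.val_mul]
      calc (w : M4) * (w' : M4) * ((w : M4) * (w' : M4))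
          = (w : M4) * ((w' : M4) * (w : M4)) * (w' : M4) := by
            simp only [Matrix.mul_assoc]
        _ = ((w : M4) * (w : M4)) * ((w' : M4) * (w' : M4)) := by
            rw [← hcommM]; simp only [Matrix.mul_assoc]
        _ = 1 + (w : M4) + (w' : M4) + (w : M4) * (w' : M4) := by
            rw [hsq, hsq']
            noncomm_ring
    have := congrArg Matrix.trace h1
    rw [hVV, Units.val_mul] at this
    simp only [Matrix.trace_add, Matrix.trace_one, Matrix.trace_zero, htr, htw, htw', e4] at this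
    have h6 : (2 : F) * 3 = 0 := by linear_combination this
    rcases mul_eq_zero.1 h6 with h7 | h7
    · exact h.two_ne h7
    · exact h3 h7

end order3

section reflection

variable [Fintype F] {R : Subgroup (GL (Fin 4) F)} {ι : GL (Fin 4) F} {q : ℕ}

/-- a reflection in `N(R) ∩ GU` -/
theorem Sy.exists_refl (h : Sy R ι) (D : UF F q) (hRU : R ≤ Cfsg.GU 4 F q) :
    ∃ s ∈ Subgroup.normalizer (R : Set G4) ⊓ Cfsg.GU 4 F q, s * s = 1 ∧
      Matrix.trace (s : M4) = 2 := by
  -- a Klein four-group of non-central involutions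
  obtain ⟨a, ha, haa, hanc⟩ := h.exists_invol
  obtain ⟨c₀, hc₀, hc₀a⟩ := h.exists_anti ha hanc
  have hac₀ : a * c₀ = -(c₀ * a) := by rw [hc₀a, neg_neg]
  obtain ⟨g, hg, hgnc, hga, hgc⟩ := h.exists_comm_both ha hc₀ hac₀
  obtain ⟨b, hb, hbb, hbg⟩ := h.exists_invol_of hg
  have hba : b * a = a * b := by
    rcases hbg with rfl | rfl
    · exact hga
    · rw [mul_assoc, hga, ← mul_assoc, h.iota_comm a, mul_assoc]
  have hbc : b * c₀ = c₀ * b := by
    rcases hbg with rfl | rfl
    · exact hgc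
    · rw [mul_assoc, hgc, ← mul_assoc, h.iota_comm c₀, mul_assoc]
  have hbnc : ¬ IsCen ι b := by
    rcases hbg with rfl | rfl
    · exact hgnc
    · rwa [h.isCen_iota_mul_iff]
  -- traces
  have ta : Matrix.trace (a : M4) = 0 := h.trace_eq_zero_of_anti hc₀a
  have tb : Matrix.trace (b : M4) = 0 := h.trace_eq_zero hb hbnc
  have tab : Matrix.trace ((a : M4) * (b : M4)) = 0 := by
    rw [← Units.val_mul]
    apply h.trace_eq_zero_of_anti (b := c₀)
    rw [← mul_assoc, hc₀a, neg_mul, mul_assoc, ← hbc, ← mul_assoc]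
  -- the scalar
  obtain ⟨i₀, hi₀⟩ := h.isCen_scalar (show IsCen ι ι from Or.inr (Or.inr (Or.inl rfl)))
  have hii : i₀ * i₀ = -1 := by
    have h1 := congrArg (fun u : G4 => (u : M4)) h.iota_sq
    simp only [Units.val_mul, Units.val_neg, Units.val_one] at h1
    rw [hi₀, Matrix.smul_mul, Matrix.mul_smul, Matrix.one_mul, smul_smul] at h1
    have h2 := congrFun (congrFun h1 0) 0
    simpa using h2
  have hi1 : (1 : F) - i₀ ≠ 0 := by
    intro h1
    have h2 : i₀ = 1 := by linear_combination -h1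
    rw [h2] at hii
    apply h.two_ne
    linear_combination hii
  -- the three elements of square `-1`
  have sqn : ∀ u : G4, u * u = 1 → (ι * u) * (ι * u) = -1 := by
    intro u hu
    calc ι * u * (ι * u) = ι * (u * ι) * u := by group
      _ = ι * ι * (u * u) := by rw [← h.iota_comm u]; group
      _ = -1 := by rw [h.iota_sq, hu, mul_one]
  have habab : (a * b) * (a * b) = 1 := by
    calc a * b * (a * b) = a * (b * a) * b := by group
      _ = a * a * (b * b) := by rw [hba]; group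
      _ = 1 := by rw [haa, hbb, one_mul]
  set t₀ := wGL h.two_ne (ι * a) (sqn a haa) * wGL h.two_ne (ι * b) (sqn b hbb) *
    wGL h.two_ne (ι * (a * b)) (sqn (a * b) habab) with ht₀
  have hA : (a : M4) * (a : M4) = 1 := by rw [← Units.val_mul, haa, Units.val_one]
  have hB : (b : M4) * (b : M4) = 1 := by rw [← Units.val_mul, hbb, Units.val_one]
  have hBA : (b : M4) * (a : M4) = (a : M4) * (b : M4) := by
    rw [← Units.val_mul, hba, Units.val_mul]
  have hι : ∀ u : G4, ((ι * u : G4) : M4) = i₀ • (u : M4) := by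
    intro u
    rw [Units.val_mul, hi₀, Matrix.smul_mul, Matrix.one_mul]
  have ht₀v : (t₀ : M4) = (1 - i₀) • (1 - (a : M4) - (b : M4) - (a : M4) * (b : M4)) := by
    rw [ht₀, Units.val_mul, Units.val_mul, wGL_val, wGL_val, wGL_val, hι, hι, hι, Units.val_mul]
    exact refl_fact i₀ hii _ _ hA hB hBA
  have hκ : ((2 : F) * (1 - i₀))⁻¹ ≠ 0 := inv_ne_zero (mul_ne_zero h.two_ne hi1)
  set s := zGL _ hκ * t₀ with hs
  have hsv : (s : M4) = (2 : F)⁻¹ • (1 - (a : M4) - (b : M4) - (a : M4) * (b : M4)) := by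
    rw [hs, Units.val_mul, zGL_val, Matrix.smul_mul, Matrix.one_mul, ht₀v, smul_smul]
    congr 1
    have := h.two_ne
    field_simp
  have hss : s * s = 1 := by
    apply Units.ext
    rw [Units.val_mul, hsv, Units.val_one]
    exact refl_sq h.two_ne _ _ hA hB hBA
  refine ⟨s, ⟨?_, ?_⟩, hss, ?_⟩
  · rw [hs]
    refine Subgroup.mul_mem _ (zGL_mem_normalizer _ _) ?_
    rw [ht₀]
    exact Subgroup.mul_mem _ (Subgroup.mul_mem _
      (h.wGL_mem_normalizer _ (h.iota_mul_mem ha) _) (h.wGL_mem_normalizer _ (h.iota_mul_mem hb) _))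
      (h.wGL_mem_normalizer _ (h.iota_mul_mem (R.mul_mem ha hb)) _)
  · show s ∈ Cfsg.GU 4 F q
    rw [mem_GU_iff_ct (D := D)]
    have hct : ∀ u : G4, u ∈ R → u * u = 1 → ct D (u : M4) = (u : M4) := by
      intro u hu huu
      rw [ct_eq_inv D u (hRU hu), inv_eq_of_mul_eq_one_right huu]
    have e : ct D (s : M4) = (s : M4) := by
      rw [hsv, ct_smul, tau_two_inv, ct_sub, ct_sub, ct_sub, ct_one, ct_mul, hct a ha haa,
        hct b hb hbb, hBA]
    rw [e, ← Units.val_mul, hss, Units.val_one]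
  · rw [hsv, Matrix.trace_smul, Matrix.trace_sub, Matrix.trace_sub, Matrix.trace_sub, ta, tb, tab,
      Matrix.trace_one]
    have e4 : (Fintype.card (Fin 4) : F) = 4 := by simp
    rw [e4, smul_eq_mul]
    have := h.two_ne
    field_simp
    ring

end reflection

end Cfsg.Agent.Lib.H25.Su4
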