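import Mathlib
import Cfsg.Agent.Lib.H13.AutPSU4
import Cfsg.Agent.Lib.H11.HermNorm4
import Cfsg.Agent.Lib.H11.InvCls5
import Cfsg.Agent.Lib.H28.GLBasic

/-!
# Unitary matrices: duality of kernels, quasi-reflections in centralizers, and conjugacy in the
special unitary group (helper25)
-/

set_option autoImplicit false
open scoped MatrixGroups
open Matrix Module

namespace Cfsg.Agent.Lib.H25.Su4

open Cfsg.Agent.Lib.H13.AutPSU

variable {F : Type*} [Field F] {n q : ℕ} (D : UF F q)

local notation "Mn" => Matrix (Fin n) (Fin n) F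

/-- conjugating the entries does not change the dimension of the kernel -/
theorem finrank_ker_map [Fintype F] (X : Mn) :
    finrank F (LinearMap.ker (Matrix.toLin' (X.map D.τ))) =
      finrank F (LinearMap.ker (Matrix.toLin' X)) := by
  classical
  have hmm : (X.map D.τ).map D.τ = X := by
    ext i j
    simp [D.hτ2]
  let e : LinearMap.ker (Matrix.toLin' X) ≃ LinearMap.ker (Matrix.toLin' (X.map D.τ)) :=
    { toFun := fun v => ⟨cj D v.1, by
        have := v.2
        rw [LinearMap.mem_ker, Matrix.toLin'_apply] at this ⊢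
        rw [← cj_mulVec, this]
        exact (cj_eq_zero D).2 rfl⟩
      invFun := fun v => ⟨cj D v.1, by
        have := v.2
        rw [LinearMap.mem_ker, Matrix.toLin'_apply] at this ⊢
        have h1 := cj_mulVec D (X.map D.τ) v.1
        rw [hmm, this] at h1
        rw [← h1]
        exact (cj_eq_zero D).2 rfl⟩
      left_inv := fun v => by
        apply Subtype.ext
        exact cj_cj D v.1
      right_inv := fun v => by
        apply Subtype.ext
        exact cj_cj D v.1 }
  have h1 := Fintype.card_congr e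
  have h2 := Module.card_eq_pow_finrank (K := F) (V := LinearMap.ker (Matrix.toLin' X))
  have h3 := Module.card_eq_pow_finrank (K := F)
    (V := LinearMap.ker (Matrix.toLin' (X.map D.τ)))
  rw [h2, h3] at h1
  exact (Nat.pow_right_injective (Fintype.one_lt_card (α := F)) h1).symm

/-- the conjugate transpose has a kernel of the same dimension -/
theorem finrank_ker_ct [Fintype F] (X : Mn) :
    finrank F (LinearMap.ker (Matrix.toLin' (ct D X))) =
      finrank F (LinearMap.ker (Matrix.toLin' X)) := by
  have h1 := Cfsg.Agent.Lib.H11.InvCls.finrank_ker_toLin' (ct D X)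
  have h2 := Cfsg.Agent.Lib.H11.InvCls.finrank_ker_toLin' (X.map D.τ)
  have h3 : (ct D X).rank = (X.map D.τ).rank := by
    unfold ct
    exact Matrix.rank_transpose _
  rw [← finrank_ker_map D X]
  omega

/-- multiplying by an invertible matrix does not change the dimension of the kernel -/
theorem finrank_ker_mul_left (U Ui X : Mn) (hU : Ui * U = 1) :
    finrank F (LinearMap.ker (Matrix.toLin' (U * X))) =
      finrank F (LinearMap.ker (Matrix.toLin' X)) := by
  have : LinearMap.ker (Matrix.toLin' (U * X)) = LinearMap.ker (Matrix.toLin' X) := by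
    ext v
    rw [LinearMap.mem_ker, LinearMap.mem_ker, Matrix.toLin'_apply, Matrix.toLin'_apply,
      ← Matrix.mulVec_mulVec]
    constructor
    · intro h
      have := congrArg (fun w => Ui *ᵥ w) h
      simp only [Matrix.mulVec_mulVec, Matrix.mulVec_zero] at this
      rw [← Matrix.mul_assoc, hU, Matrix.one_mul] at this
      exact this
    · intro h
      rw [h, Matrix.mulVec_zero]
  rw [this]

/-- a nonzero hermitian matrix has a nonzero value of its hermitian form -/
theorem exists_herm_ne_zero (M : Mn) (hM : ct D M = M) (hM0 : M ≠ 0) :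
    ∃ w : Fin n → F, H D (M *ᵥ w) w ≠ 0 := by
  by_contra hcon
  push Not at hcon
  apply hM0
  have hsw : ∀ u v, H D (M *ᵥ v) u = D.τ (H D (M *ᵥ u) v) := by
    intro u v
    rw [H_symm, H_mulVec_ct, hM, H_ct_mulVec, hM]
  have hB : ∀ u v, H D (M *ᵥ u) v + D.τ (H D (M *ᵥ u) v) = 0 := by
    intro u v
    have h1 := hcon (u + v)
    rw [Matrix.mulVec_add, H_add_left, H_add_right, H_add_right, hcon u, hcon v, hsw u v] at h1
    linear_combination h1
  obtain ⟨a, ha⟩ := D.hne
  have hzero : ∀ u v, H D (M *ᵥ u) v = 0 := by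
    intro u v
    have h1 := hB u v
    have h2 := hB (a • u) v
    rw [Matrix.mulVec_smul, H_smul_left, map_mul] at h2
    have h3 : (a - D.τ a) * H D (M *ᵥ u) v = 0 := by
      linear_combination h2 - D.τ a * h1
    rcases mul_eq_zero.1 h3 with h4 | h4
    · exact absurd (sub_eq_zero.1 h4).symm ha
    · exact h4
  apply Matrix.toLin'.injective
  apply LinearMap.ext
  intro u
  rw [Matrix.toLin'_apply, map_zero, LinearMap.zero_apply]
  exact H_nondeg_left D (hzero u)

/-- the quasi-reflection lemma: a unitary matrix acting as a scalar on the image of a nonzero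
hermitian idempotent has unitary centralizing elements of every determinant of norm one -/
theorem exists_cent_of_proj (y M : Mn) (l : F) (hM1 : ct D M = M) (hM2 : M * M = M) (hM0 : M ≠ 0)
    (hyM : y * M = l • M) (hMy : M * y = l • M) (d : F) (hd : d * D.τ d = 1) :
    ∃ c : Mn, ct D c * c = 1 ∧ c * y = y * c ∧ c.det = d := by
  obtain ⟨w, hw⟩ := exists_herm_ne_zero D M hM1 hM0
  set β := H D (M *ᵥ w) w with hβ
  have hβfix : D.τ β = β := by
    rw [hβ, H_symm, H_ct_mulVec, hM1]
  set E₀ := vecMulVec w (cj D w) with hE₀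
  set E := M * E₀ * M with hE
  have hE₀ct : ct D E₀ = E₀ := by
    ext i j
    rw [ct_apply, hE₀, vecMulVec_apply, vecMulVec_apply, map_mul]
    unfold cj
    rw [D.hτ2, mul_comm]
  have hEct : ct D E = E := by
    rw [hE, ct_mul, ct_mul, hM1, hE₀ct, Matrix.mul_assoc]
  have hEv : E = vecMulVec (M *ᵥ w) (cj D w ᵥ* M) := by
    rw [hE, hE₀, mul_vecMulVec, vecMulVec_mul]
  have hdot : (cj D w ᵥ* M) ⬝ᵥ (M *ᵥ w) = β := by
    rw [← Matrix.dotProduct_mulVec, Matrix.mulVec_mulVec, hM2, hβ]
    unfold H
    exact dotProduct_comm _ _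
  have hEE : E * E = β • E := by
    rw [hEv, vecMulVec_mul_vecMulVec, hdot, vecMulVec_smul]
  set κ := (d - 1) / β with hκ
  have hκτ : D.τ κ = (D.τ d - 1) / β := by
    rw [hκ, map_div₀, map_sub, map_one, hβfix]
  have hkey : κ + D.τ κ + κ * D.τ κ * β = 0 := by
    rw [hκτ, hκ]
    field_simp
    linear_combination hd
  refine ⟨1 + κ • E, ?_, ?_, ?_⟩
  · rw [ct_add, ct_one, ct_smul, hEct]
    have : (1 + D.τ κ • E) * (1 + κ • E) = 1 + (κ + D.τ κ + κ * D.τ κ * β) • E := by
      rw [Matrix.add_mul, Matrix.mul_add, Matrix.mul_add, Matrix.one_mul, Matrix.mul_one,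
        Matrix.one_mul, Matrix.smul_mul, Matrix.mul_smul, hEE, smul_smul, smul_smul, add_smul,
        add_smul]
      have e : D.τ κ * κ * β = κ * D.τ κ * β := by ring
      rw [e]
      abel
    rw [this, hkey, zero_smul, add_zero]
  · have h1 : E * y = l • E := by
      rw [hE, Matrix.mul_assoc, hMy, Matrix.mul_smul]
    have h2 : y * E = l • E := by
      rw [hE, ← Matrix.mul_assoc, ← Matrix.mul_assoc, hyM, Matrix.smul_mul, Matrix.smul_mul]
    rw [Matrix.add_mul, Matrix.mul_add, Matrix.one_mul, Matrix.mul_one, Matrix.smul_mul,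
      Matrix.mul_smul, h1, h2]
  · rw [hEv, ← vecMulVec_smul, Matrix.vecMulVec_eq (Fin 1),
      Matrix.det_one_add_replicateCol_mul_replicateRow, smul_dotProduct, hdot, smul_eq_mul, hκ]
    field_simp
    ring

theorem det_ct' (X : Mn) : (ct D X).det = D.τ X.det := by
  unfold ct
  rw [Matrix.det_transpose]
  exact (RingHom.map_det (D.τ : F →+* F) X).symm

theorem det_norm_of_unitary (u : Mn) (hu : ct D u * u = 1) : u.det * D.τ u.det = 1 := by
  have := congrArg Matrix.det hu
  rw [Matrix.det_mul, Matrix.det_one, det_ct'] at this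
  rw [mul_comm]
  exact this

section su

variable [Fintype F]

local notation "Gn" => GL (Fin n) F

/-- `GL`-conjugate unitary matrices are conjugate under the special unitary group when the
centralizer contains unitary elements of every determinant of norm one -/
theorem su_conj_of_gl (x y : Gn) (hx : x ∈ Cfsg.GU n F q) (hy : y ∈ Cfsg.GU n F q)
    (P Pi : Mn) (hP : P * Pi = 1) (hconj : P * (x : Mn) = (y : Mn) * P)
    (hcent : ∀ d : F, d * D.τ d = 1 → ∃ c : Mn, ct D c * c = 1 ∧ c * (y : Mn) = (y : Mn) * c ∧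
      c.det = d) :
    ∃ g ∈ Cfsg.GU n F q ⊓ Cfsg.Geo.specialLinear (Fin n) F, g⁻¹ * x * g = y := by
  have hP2 : Pi * P = 1 := mul_eq_one_comm.mp hP
  have hxu := (mem_GU_iff_ct (D := D) x).1 hx
  have hyu := (mem_GU_iff_ct (D := D) y).1 hy
  obtain ⟨u, hu, hux⟩ := Cfsg.Agent.Lib.H11.HermNorm.exists_unitary_conj D (x : Mn) (y : Mn) P Pi
    hxu hyu hP hP2 hconj
  have hu' : u * ct D u = 1 := mul_eq_one_comm.mp hu
  have hdu := det_norm_of_unitary D u hu
  obtain ⟨c, hc, hcy, hcd⟩ := hcent u.det hdu
  have hc' : c * ct D c = 1 := mul_eq_one_comm.mp hc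
  -- `g = u⁻¹ c`
  set g : Gn := ⟨ct D u * c, ct D c * u, by
      calc ct D u * c * (ct D c * u) = ct D u * (c * ct D c) * u := by
            simp only [Matrix.mul_assoc]
        _ = 1 := by rw [hc', Matrix.mul_one, hu], by
      calc ct D c * u * (ct D u * c) = ct D c * (u * ct D u) * c := by
            simp only [Matrix.mul_assoc]
        _ = 1 := by rw [hu', Matrix.mul_one, hc]⟩ with hg
  have hgv : (g : Mn) = ct D u * c := rfl
  have hgiv : ((g⁻¹ : Gn) : Mn) = ct D c * u := rfl
  refine ⟨g, ⟨?_, ?_⟩, ?_⟩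
  · show g ∈ Cfsg.GU n F q
    rw [mem_GU_iff_ct (D := D), hgv, ct_mul, ct_ct]
    calc ct D c * u * (ct D u * c) = ct D c * (u * ct D u) * c := by
          simp only [Matrix.mul_assoc]
      _ = 1 := by rw [hu', Matrix.mul_one, hc]
  · show g ∈ Cfsg.Geo.specialLinear (Fin n) F
    rw [Cfsg.Agent.Lib.H28.mem_specialLinear_iff, hgv, Matrix.det_mul, hcd]
    rw [det_ct', mul_comm]
    exact hdu
  · apply Units.ext
    rw [Units.val_mul, Units.val_mul, hgiv, hgv]
    calc ct D c * u * (x : Mn) * (ct D u * c)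
        = ct D c * (u * (x : Mn)) * ct D u * c := by simp only [Matrix.mul_assoc]
      _ = ct D c * ((y : Mn) * (u * ct D u)) * c := by rw [hux]; simp only [Matrix.mul_assoc]
      _ = ct D c * (c * (y : Mn)) := by rw [hu', Matrix.mul_one, Matrix.mul_assoc, hcy]
      _ = (y : Mn) := by rw [← Matrix.mul_assoc, hc, Matrix.one_mul]

end su

end Cfsg.Agent.Lib.H25.Su4
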