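import Mathlib
import Cfsg.Agent.Lib.H25.Su4G
import Cfsg.Agent.Lib.H11.HermNorm5
import Cfsg.Agent.Lib.H11.HermNorm1

/-!
# Model elements of `GU_4` attached to a hyperbolic frame, with determinant-surjective
centralizers (helper25)
-/

set_option autoImplicit false
open scoped MatrixGroups
open Matrix Module

namespace Cfsg.Agent.Lib.H25.Su4

open Cfsg.Agent.Lib.H13.AutPSU

variable {F : Type*} [Field F] {n q k r : ℕ} {D : UF F q}

theorem R_add' (b b' : Frame D n k r) (g g' g₂ g₂' : Matrix (Fin k) (Fin k) F)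
    (h h₂ : Matrix (Fin r) (Fin r) F) :
    R b b' (g + g₂) (g' + g₂') (h + h₂) = R b b' g g' h + R b b' g₂ g₂' h₂ := by
  unfold R
  simp only [Matrix.mul_add, Matrix.add_mul]
  abel

theorem R_zero' (b b' : Frame D n k r) : R b b' 0 0 0 = 0 := by
  unfold R
  simp

/-- the embedding of `GL_k` into `GL_n` attached to a frame -/
noncomputable def mdl (B : Frame D n k r) : GL (Fin k) F →* GL (Fin n) F where
  toFun g := RU B B (g : Matrix (Fin k) (Fin k) F) ((g⁻¹ : GL (Fin k) F) : Matrix (Fin k) (Fin k) F)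
    1 1 (by rw [← Units.val_mul, mul_inv_cancel, Units.val_one])
    (by rw [← Units.val_mul, inv_mul_cancel, Units.val_one]) (one_mul 1) (one_mul 1)
  map_one' := by
    apply Units.ext
    show R B B ((1 : GL (Fin k) F) : Matrix (Fin k) (Fin k) F)
      (ct D (((1 : GL (Fin k) F)⁻¹ : GL (Fin k) F) : Matrix (Fin k) (Fin k) F)) 1 = 1
    rw [inv_one, Units.val_one, ct_one, R_one]
  map_mul' := by
    intro g₁ g₂
    apply Units.ext
    show R B B ((g₁ * g₂ : GL (Fin k) F) : Matrix (Fin k) (Fin k) F)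
        (ct D (((g₁ * g₂)⁻¹ : GL (Fin k) F) : Matrix (Fin k) (Fin k) F)) 1 =
      R B B (g₁ : Matrix (Fin k) (Fin k) F)
        (ct D ((g₁⁻¹ : GL (Fin k) F) : Matrix (Fin k) (Fin k) F)) 1 *
      R B B (g₂ : Matrix (Fin k) (Fin k) F)
        (ct D ((g₂⁻¹ : GL (Fin k) F) : Matrix (Fin k) (Fin k) F)) 1
    rw [Cfsg.Agent.Lib.H13.AutPSU.R_mul, _root_.mul_inv_rev, Units.val_mul, Units.val_mul, ct_mul,
      one_mul]

theorem mdl_val (B : Frame D n k r) (g : GL (Fin k) F) :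
    ((mdl B g : GL (Fin n) F) : Matrix (Fin n) (Fin n) F) =
      R B B (g : Matrix (Fin k) (Fin k) F)
        (ct D ((g⁻¹ : GL (Fin k) F) : Matrix (Fin k) (Fin k) F)) 1 := rfl

theorem mdl_mem_GU (B : Frame D n k r) (g : GL (Fin k) F) : mdl B g ∈ Cfsg.GU n F q := by
  rw [mem_GU_iff_ct (D := D), mdl_val]
  apply R_unitary
  · rw [ct_ct, ← Units.val_mul, inv_mul_cancel, Units.val_one]
  · rw [ct_one, one_mul]

theorem mdl_det (B : Frame D n k r) (g : GL (Fin k) F) :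
    ((mdl B g : GL (Fin n) F) : Matrix (Fin n) (Fin n) F).det =
      (g : Matrix (Fin k) (Fin k) F).det *
        D.τ ((g⁻¹ : GL (Fin k) F) : Matrix (Fin k) (Fin k) F).det := by
  rw [mdl_val, det_R, Matrix.det_one, mul_one, det_ct']

theorem mdl_injective (B : Frame D n k r) : Function.Injective (mdl B) := by
  intro g₁ g₂ h12
  have h1 := congrArg (fun u : GL (Fin n) F => (u : Matrix (Fin n) (Fin n) F)) h12
  simp only [mdl_val] at h1
  exact Units.ext (R_injective B h1).1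

/-- Hilbert 90 for the involution of `D` -/
theorem exists_hilbert [Fintype F] (D : UF F q) (d : F) (hd : d * D.τ d = 1) :
    ∃ δ : F, δ ≠ 0 ∧ δ * D.τ (δ⁻¹) = d := by
  obtain ⟨a, ha⟩ := D.hne
  have hlam : IsUnit (a - D.τ a) := by
    rw [isUnit_iff_ne_zero]
    intro h0
    exact ha (sub_eq_zero.1 h0).symm
  obtain ⟨z, hz, hzd⟩ := Cfsg.Agent.Lib.H11.HermNorm.hilbert90 (D.τ : F →+* F) D.hτ2 a hlam d hd
  have hz0 : z ≠ 0 := hz.ne_zero
  have hτz0 : D.τ z ≠ 0 := by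
    intro h0
    apply hz0
    have := congrArg D.τ h0
    rwa [D.hτ2, map_zero] at this
  refine ⟨z, hz0, ?_⟩
  have hzd' : D.τ z * d = z := hzd
  rw [map_inv₀]
  field_simp
  linear_combination -hzd'

/-- a model element has a determinant-surjective unitary centralizer as soon as its centralizer in
`GL_k` has surjective determinant -/
theorem mdl_cent [Fintype F] (B : Frame D n k r) (g : GL (Fin k) F)
    (hγ : ∀ δ : F, δ ≠ 0 → ∃ γ : GL (Fin k) F, γ * g = g * γ ∧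
      (γ : Matrix (Fin k) (Fin k) F).det = δ) (d : F) (hd : d * D.τ d = 1) :
    ∃ c : Matrix (Fin n) (Fin n) F, ct D c * c = 1 ∧
      c * ((mdl B g : GL (Fin n) F) : Matrix (Fin n) (Fin n) F) =
        ((mdl B g : GL (Fin n) F) : Matrix (Fin n) (Fin n) F) * c ∧ c.det = d := by
  obtain ⟨δ, hδ0, hδ⟩ := exists_hilbert D d hd
  obtain ⟨γ, hγg, hγd⟩ := hγ δ hδ0
  refine ⟨((mdl B γ : GL (Fin n) F) : Matrix (Fin n) (Fin n) F), ?_, ?_, ?_⟩
  · exact (mem_GU_iff_ct (D := D) _).1 (mdl_mem_GU B γ)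
  · rw [← Units.val_mul, ← Units.val_mul, ← map_mul, ← map_mul, hγg]
  · rw [mdl_det, hγd]
    have : ((γ⁻¹ : GL (Fin k) F) : Matrix (Fin k) (Fin k) F).det = δ⁻¹ := by
      have h1 : (γ : Matrix (Fin k) (Fin k) F).det *
          ((γ⁻¹ : GL (Fin k) F) : Matrix (Fin k) (Fin k) F).det = 1 := by
        rw [← Matrix.det_mul, ← Units.val_mul, mul_inv_cancel, Units.val_one, Matrix.det_one]
      rw [hγd] at h1
      exact eq_inv_of_mul_eq_one_right h1
    rw [this]
    exact hδ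

/-- `2 × 2` matrices as units -/
noncomputable def gl2 (A Ai : Matrix (Fin 2) (Fin 2) F) (h : A * Ai = 1) : GL (Fin 2) F :=
  ⟨A, Ai, h, mul_eq_one_comm.mp h⟩

theorem gl2_val (A Ai : Matrix (Fin 2) (Fin 2) F) (h : A * Ai = 1) :
    ((gl2 A Ai h : GL (Fin 2) F) : Matrix (Fin 2) (Fin 2) F) = A := rfl

theorem gl2_inv_val (A Ai : Matrix (Fin 2) (Fin 2) F) (h : A * Ai = 1) :
    (((gl2 A Ai h)⁻¹ : GL (Fin 2) F) : Matrix (Fin 2) (Fin 2) F) = Ai := rfl

/-- the diagonal matrix `diag(δ, 1)` -/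
noncomputable def dg2 (δ : F) (hδ : δ ≠ 0) : GL (Fin 2) F :=
  gl2 !![δ, 0; 0, 1] !![δ⁻¹, 0; 0, 1] (by
    ext i j
    fin_cases i <;> fin_cases j <;> simp [Matrix.mul_apply, Fin.sum_univ_two, hδ])

theorem dg2_det (δ : F) (hδ : δ ≠ 0) :
    ((dg2 δ hδ : GL (Fin 2) F) : Matrix (Fin 2) (Fin 2) F).det = δ := by
  unfold dg2
  rw [gl2_val, Matrix.det_fin_two_of]
  ring

/-- the scalar matrix `ω • 1` -/
noncomputable def sc2 (ω : F) (hω : ω ≠ 0) : GL (Fin 2) F :=
  gl2 (ω • 1) (ω⁻¹ • 1) (by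
    rw [Matrix.smul_mul, Matrix.mul_smul, Matrix.one_mul, smul_smul, mul_inv_cancel₀ hω, one_smul])

theorem sc2_comm (ω : F) (hω : ω ≠ 0) (γ : GL (Fin 2) F) : γ * sc2 ω hω = sc2 ω hω * γ := by
  apply Units.ext
  rw [Units.val_mul, Units.val_mul]
  unfold sc2
  rw [gl2_val, Matrix.mul_smul, Matrix.smul_mul, Matrix.mul_one, Matrix.one_mul]

/-- the companion matrix of `X² - t X + 1` -/
noncomputable def cm2 (t : F) : GL (Fin 2) F :=
  gl2 !![0, -1; 1, t] !![t, 1; -1, 0] (by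
    ext i j
    fin_cases i <;> fin_cases j <;> simp [Matrix.mul_apply, Fin.sum_univ_two])

theorem cm2_val (t : F) : ((cm2 t : GL (Fin 2) F) : Matrix (Fin 2) (Fin 2) F) = !![0, -1; 1, t] :=
  rfl

theorem cm2_pow_five (t : F) (ht : t ^ 2 + t - 1 = 0) : cm2 t ^ 5 = 1 := by
  apply Units.ext
  rw [Units.val_pow_eq_pow_val, cm2_val, Units.val_one]
  simp only [pow_succ, pow_zero, one_mul]
  ext i j
  fin_cases i <;> fin_cases j <;> simp [Matrix.mul_apply, Fin.sum_univ_two]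
  · linear_combination (-(t - 1)) * ht
  · linear_combination (-(t ^ 2 - t - 1)) * ht
  · linear_combination (t ^ 2 - t - 1) * ht
  · linear_combination (t ^ 3 - t ^ 2 - 2 * t + 1) * ht

theorem cm2_ne_one (t : F) : cm2 t ≠ 1 := by
  intro h
  have := congrArg (fun u : GL (Fin 2) F => (u : Matrix (Fin 2) (Fin 2) F) 1 0) h
  simp [cm2_val] at this

/-- the centralizer of the companion matrix has surjective determinant -/
theorem cm2_cent [Fintype F] (t : F) (hΔ : t ^ 2 - 4 ≠ 0) (δ : F) (hδ : δ ≠ 0) :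
    ∃ γ : GL (Fin 2) F, γ * cm2 t = cm2 t * γ ∧ (γ : Matrix (Fin 2) (Fin 2) F).det = δ := by
  obtain ⟨α, β, hαβ⟩ := Cfsg.Agent.Lib.H11.HermNorm.field_represents t 1 (by
    rw [mul_one]; exact hΔ) δ
  unfold Cfsg.Agent.Lib.H11.HermNorm.Phi at hαβ
  have hdet : α * (α + t * β) + β * β = δ := by linear_combination hαβ
  have hdet' : (!![α, -β; β, α + t * β] : Matrix (Fin 2) (Fin 2) F).det = δ := by
    rw [Matrix.det_fin_two_of]
    linear_combination hdet
  refine ⟨Matrix.GeneralLinearGroup.mkOfDetNeZero !![α, -β; β, α + t * β]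
    (by rw [hdet']; exact hδ), ?_, hdet'⟩
  apply Units.ext
  rw [Units.val_mul, Units.val_mul, cm2_val]
  show !![α, -β; β, α + t * β] * !![0, -1; 1, t] = !![0, -1; 1, t] * !![α, -β; β, α + t * β]
  ext i j
  fin_cases i <;> fin_cases j <;> simp [Matrix.mul_apply, Fin.sum_univ_two] <;> ring

end Cfsg.Agent.Lib.H25.Su4
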