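import Mathlib
import Cfsg.Agent.Lib.H25.Su4G
import Cfsg.Agent.Lib.H13.SSClass

/-!
# `GL`-conjugacy of unitary `4 × 4` matrices of order three (helper25)
-/

set_option autoImplicit false
open scoped MatrixGroups
open Matrix Module Polynomial

namespace Cfsg.Agent.Lib.H25.Su4

open Cfsg.Agent.Lib.H13.AutPSU Cfsg.Agent.Lib.H13.SSClass

variable {F : Type*} [Field F]

local notation "M4" => Matrix (Fin 4) (Fin 4) F

theorem aeval_toLin' (x : M4) (p : F[X]) :
    aeval (Matrix.toLin' x) p = Matrix.toLin' (aeval x p) :=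
  aeval_algHom_apply (Matrix.toLinAlgEquiv' : M4 ≃ₐ[F] _).toAlgHom x p

theorem aeval_X_sub_C' (x : M4) (c : F) : aeval x (X - C c) = x - c • 1 := by
  rw [aeval_sub, aeval_X, aeval_C, Algebra.algebraMap_eq_smul_one]

theorem aeval_quad (x : M4) (t : F) : aeval x (X ^ 2 - C t * X + 1) = x * x - t • x + 1 := by
  rw [aeval_add, aeval_sub, aeval_mul, aeval_X_pow, aeval_X, aeval_C, aeval_one,
    Algebra.algebraMap_eq_smul_one, pow_two, Matrix.smul_mul, Matrix.one_mul]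

/-- the dimension of the kernel of a matrix -/
noncomputable def kd (X : M4) : ℕ := finrank F (LinearMap.ker (Matrix.toLin' X))

theorem kd_aeval (x : M4) (p : F[X]) :
    finrank F (LinearMap.ker (aeval (Matrix.toLin' x) p)) = kd (aeval x p) := by
  rw [aeval_toLin']
  rfl

theorem finrank_V4 : finrank F (Fin 4 → F) = 4 := by
  rw [Module.finrank_fintype_fun_eq_card, Fintype.card_fin]

theorem kd_eq_zero_iff (X : M4) : kd X = 0 ↔ ∀ v, X *ᵥ v = 0 → v = 0 := by
  unfold kd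
  rw [Submodule.finrank_eq_zero, LinearMap.ker_eq_bot']
  constructor
  · intro h v hv
    exact h v (by rw [Matrix.toLin'_apply]; exact hv)
  · intro h v hv
    rw [Matrix.toLin'_apply] at hv
    exact h v hv

theorem kd_eq_four_iff (X : M4) : kd X = 4 ↔ X = 0 := by
  unfold kd
  constructor
  · intro h
    have h1 : LinearMap.ker (Matrix.toLin' X) = ⊤ := by
      apply Submodule.eq_top_of_finrank_eq
      rw [h, finrank_V4]
    rw [LinearMap.ker_eq_top] at h1
    apply Matrix.toLin'.injective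
    rw [h1, map_zero]
  · intro h
    rw [h, map_zero, LinearMap.ker_zero, finrank_top, finrank_V4]

/-- semisimple matrices with the same kernel dimensions are conjugate -/
theorem conj_of_dims {J : Type*} [DecidableEq J] [Fintype J] (f : J → F[X])
    (hirr : ∀ j, Irreducible (f j)) (hcop : ∀ i j, i ≠ j → IsCoprime (f i) (f j)) (x y : M4)
    (hx : aeval x (∏ j, f j) = 0) (hy : aeval y (∏ j, f j) = 0)
    (h : ∀ j, kd (aeval x (f j)) = kd (aeval y (f j))) :
    ∃ P Pi : M4, P * Pi = 1 ∧ P * x = y * P := by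
  obtain ⟨g, hg⟩ := exists_equiv f hirr hcop (Matrix.toLin' x) (Matrix.toLin' y)
    (by rw [aeval_toLin', hx, map_zero]) (by rw [aeval_toLin', hy, map_zero])
    (fun j => by rw [kd_aeval, kd_aeval, h j])
  exact Cfsg.Agent.Lib.H11.InvCls.mat_of_conj x y g hg

/-- the sum of the kernel dimensions -/
theorem sum_dims {J : Type*} [DecidableEq J] [Fintype J] (f : J → F[X])
    (hcop : ∀ i j, i ≠ j → IsCoprime (f i) (f j)) (x : M4) (hx : aeval x (∏ j, f j) = 0) :
    ∑ j, kd (aeval x (f j)) = 4 := by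
  have h1 := isInternal f hcop (Matrix.toLin' x) (by rw [aeval_toLin', hx, map_zero])
  have h2 := finrank_eq_sum h1
  rw [finrank_V4] at h2
  calc ∑ j, kd (aeval x (f j))
      = ∑ j, finrank F (LinearMap.ker (aeval (Matrix.toLin' x) (f j))) :=
        Finset.sum_congr rfl (fun j _ => (kd_aeval x (f j)).symm)
    _ = 4 := h2.symm

section three

variable {q : ℕ} (D : UF F q) (ω : F)

/-- the three linear factors of `X³ - 1` -/
noncomputable def f3 (ω : F) : Fin 3 → F[X] := ![X - C 1, X - C ω, X - C (ω ^ 2)]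

theorem f3_prod (hω : ω ^ 2 + ω + 1 = 0) : ∏ j, f3 ω j = X ^ 3 - 1 := by
  have hC : (C ω : F[X]) ^ 2 + C ω + 1 = 0 := by
    rw [← C_pow, ← C_add, ← C_1, ← C_add, hω, C_0]
  rw [Fin.prod_univ_three]
  show (X - C (1 : F)) * (X - C ω) * (X - C (ω ^ 2)) = X ^ 3 - 1
  rw [C_1, C_pow]
  linear_combination (-X ^ 2 + C ω * X - (C ω - 1)) * hC

theorem f3_irr (j : Fin 3) : Irreducible (f3 ω j) := by
  fin_cases j <;> exact irreducible_X_sub_C _

theorem omega_facts (hω : ω ^ 2 + ω + 1 = 0) (h3 : (3 : F) ≠ 0) :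
    ω ^ 3 = 1 ∧ ω ≠ 0 ∧ 1 - ω ≠ 0 ∧ 1 - ω ^ 2 ≠ 0 ∧ ω - ω ^ 2 ≠ 0 := by
  have h1 : ω ^ 3 = 1 := by linear_combination (ω - 1) * hω
  have h0 : ω ≠ 0 := by
    intro h
    rw [h] at h1
    norm_num at h1
  have hp : (1 - ω) * (1 - ω ^ 2) = 3 := by linear_combination h1 - hω
  have ha : 1 - ω ≠ 0 := by
    intro h
    rw [h, zero_mul] at hp
    exact h3 hp.symm
  have hb : 1 - ω ^ 2 ≠ 0 := by
    intro h
    rw [h, mul_zero] at hp
    exact h3 hp.symm
  refine ⟨h1, h0, ha, hb, ?_⟩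
  have : ω - ω ^ 2 = ω * (1 - ω) := by ring
  rw [this]
  exact mul_ne_zero h0 ha

theorem f3_cop (hω : ω ^ 2 + ω + 1 = 0) (h3 : (3 : F) ≠ 0) (i j : Fin 3) (hij : i ≠ j) :
    IsCoprime (f3 ω i) (f3 ω j) := by
  obtain ⟨-, -, ha, hb, hc⟩ := omega_facts ω hω h3
  have key : ∀ a b : F, a - b ≠ 0 → IsCoprime (X - C a) (X - C b) := fun a b hab =>
    isCoprime_X_sub_C_of_isUnit_sub (isUnit_iff_ne_zero.2 hab)
  fin_cases i <;> fin_cases j
  · exact absurd rfl hij
  · exact key _ _ ha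
  · exact key _ _ hb
  · exact (key _ _ ha).symm
  · exact absurd rfl hij
  · exact key _ _ hc
  · exact (key _ _ hb).symm
  · exact (key _ _ hc).symm
  · exact absurd rfl hij

theorem aeval_f3 (x : M4) (hω : ω ^ 2 + ω + 1 = 0) (hx : x * x * x = 1) :
    aeval x (∏ j, f3 ω j) = 0 := by
  rw [f3_prod ω hω, aeval_sub, aeval_X_pow, aeval_one, pow_succ, pow_two, hx, sub_self]

/-- the inverse of a unitary matrix of order three -/
theorem ct_of_cube (x : M4) (hxu : ct D x * x = 1) (hx : x * x * x = 1) : ct D x = x * x := by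
  calc ct D x = ct D x * (x * x * x) := by rw [hx, Matrix.mul_one]
    _ = (ct D x * x) * (x * x) := by simp only [Matrix.mul_assoc]
    _ = x * x := by rw [hxu, Matrix.one_mul]

/-- the kernel dimensions of a unitary matrix of order three -/
theorem dims3 [Fintype F] (hω : ω ^ 2 + ω + 1 = 0) (h3 : (3 : F) ≠ 0) (hτ : D.τ ω = ω) (x : M4)
    (hxu : ct D x * x = 1) (hx : x * x * x = 1) :
    kd (x - (1 : F) • 1) + kd (x - ω • 1) + kd (x - (ω ^ 2) • 1) = 4 ∧
      kd (x - ω • 1) = kd (x - (ω ^ 2) • 1) := by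
  obtain ⟨hω3, hω0, -, -, -⟩ := omega_facts ω hω h3
  constructor
  · have h1 := sum_dims (f3 ω) (f3_cop ω hω h3) x (aeval_f3 ω x hω hx)
    rw [Fin.sum_univ_three] at h1
    have e0 : aeval x (f3 ω 0) = x - (1 : F) • 1 := aeval_X_sub_C' x 1
    have e1 : aeval x (f3 ω 1) = x - ω • 1 := aeval_X_sub_C' x ω
    have e2 : aeval x (f3 ω 2) = x - (ω ^ 2) • 1 := aeval_X_sub_C' x (ω ^ 2)
    rw [e0, e1, e2] at h1
    exact h1
  · have hct : ct D (x - ω • 1) = ((-ω) • (x * x)) * (x - (ω ^ 2) • 1) := by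
      rw [ct_sub, ct_smul, ct_one, hτ, ct_of_cube D x hxu hx, Matrix.mul_sub, Matrix.smul_mul,
        Matrix.mul_smul, Matrix.mul_one, hx, smul_smul]
      have : ω ^ 2 * -ω = -1 := by linear_combination -hω3
      rw [this, neg_smul, neg_smul, one_smul, sub_neg_eq_add, neg_add_eq_sub]
    have hU : ((-(ω ^ 2)) • x) * ((-ω) • (x * x)) = 1 := by
      rw [Matrix.smul_mul, Matrix.mul_smul, smul_smul, ← Matrix.mul_assoc, hx]
      have : -ω ^ 2 * -ω = 1 := by linear_combination hω3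
      rw [this, one_smul]
    unfold kd
    rw [← finrank_ker_ct D (x - ω • 1), hct, finrank_ker_mul_left _ _ _ hU]

/-- unitary matrices with `x² + x + 1 = 0` are conjugate -/
theorem conj3A [Fintype F] (hω : ω ^ 2 + ω + 1 = 0) (h3 : (3 : F) ≠ 0) (hτ : D.τ ω = ω)
    (x y : M4) (hxu : ct D x * x = 1) (hyu : ct D y * y = 1) (hx : x * x + x + 1 = 0)
    (hy : y * y + y + 1 = 0) : ∃ P Pi : M4, P * Pi = 1 ∧ P * x = y * P := by
  have cube : ∀ z : M4, z * z + z + 1 = 0 → z * z * z = 1 := by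
    intro z hz
    have : z * z * z - 1 = (z - 1) * (z * z + z + 1) := by noncomm_ring
    rw [hz, Matrix.mul_zero] at this
    exact sub_eq_zero.1 this
  have k1 : ∀ z : M4, z * z + z + 1 = 0 → kd (z - (1 : F) • 1) = 0 := by
    intro z hz
    rw [kd_eq_zero_iff]
    intro v hv
    rw [Matrix.sub_mulVec, Matrix.smul_mulVec, Matrix.one_mulVec, one_smul, sub_eq_zero] at hv
    have h1 := congrArg (fun M : M4 => M *ᵥ v) hz
    simp only [Matrix.add_mulVec, ← Matrix.mulVec_mulVec, hv, Matrix.one_mulVec,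
      Matrix.zero_mulVec] at h1
    have h2 : (3 : F) • v = 0 := by
      rw [← h1, show (3 : F) = 1 + 1 + 1 by norm_num, add_smul, add_smul, one_smul]
    rcases smul_eq_zero.1 h2 with h4 | h4
    · exact absurd h4 h3
    · exact h4
  have hx3 := cube x hx
  have hy3 := cube y hy
  obtain ⟨sx, ex⟩ := dims3 D ω hω h3 hτ x hxu hx3
  obtain ⟨sy, ey⟩ := dims3 D ω hω h3 hτ y hyu hy3
  rw [k1 x hx] at sx
  rw [k1 y hy] at sy
  apply conj_of_dims (f3 ω) (f3_irr ω) (f3_cop ω hω h3) x y (aeval_f3 ω x hω hx3)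
    (aeval_f3 ω y hω hy3)
  intro j
  have e0 : ∀ z : M4, aeval z (f3 ω 0) = z - (1 : F) • 1 := fun z => aeval_X_sub_C' z 1
  have e1 : ∀ z : M4, aeval z (f3 ω 1) = z - ω • 1 := fun z => aeval_X_sub_C' z ω
  have e2 : ∀ z : M4, aeval z (f3 ω 2) = z - (ω ^ 2) • 1 := fun z => aeval_X_sub_C' z (ω ^ 2)
  fin_cases j
  · show kd (aeval x (f3 ω 0)) = kd (aeval y (f3 ω 0))
    rw [e0, e0, k1 x hx, k1 y hy]
  · show kd (aeval x (f3 ω 1)) = kd (aeval y (f3 ω 1))
    rw [e1, e1]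
    omega
  · show kd (aeval x (f3 ω 2)) = kd (aeval y (f3 ω 2))
    rw [e2, e2]
    omega

/-- unitary matrices of order three with `x² + x + 1 ≠ 0` are conjugate -/
theorem conj3B [Fintype F] (hω : ω ^ 2 + ω + 1 = 0) (h3 : (3 : F) ≠ 0) (hτ : D.τ ω = ω)
    (x y : M4) (hxu : ct D x * x = 1) (hyu : ct D y * y = 1) (hx3 : x * x * x = 1)
    (hy3 : y * y * y = 1) (hx1 : x ≠ 1) (hy1 : y ≠ 1) (hx : x * x + x + 1 ≠ 0)
    (hy : y * y + y + 1 ≠ 0) : ∃ P Pi : M4, P * Pi = 1 ∧ P * x = y * P := by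
  have k1 : ∀ z : M4, ct D z * z = 1 → z * z * z = 1 → z ≠ 1 → z * z + z + 1 ≠ 0 →
      kd (z - (1 : F) • 1) = 2 ∧ kd (z - ω • 1) = 1 ∧ kd (z - (ω ^ 2) • 1) = 1 := by
    intro z hzu hz3 hz1 hz
    obtain ⟨sz, ez⟩ := dims3 D ω hω h3 hτ z hzu hz3
    have n4 : kd (z - (1 : F) • 1) ≠ 4 := by
      rw [Ne, kd_eq_four_iff, one_smul, sub_eq_zero]
      exact hz1
    have n0 : kd (z - (1 : F) • 1) ≠ 0 := by
      rw [Ne, kd_eq_zero_iff]
      intro hinj
      apply hz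
      apply Matrix.toLin'.injective
      apply LinearMap.ext
      intro v
      rw [map_zero, LinearMap.zero_apply, Matrix.toLin'_apply]
      apply hinj
      rw [Matrix.mulVec_mulVec]
      have : (z - (1 : F) • 1) * (z * z + z + 1) = z * z * z - 1 := by
        rw [one_smul]; noncomm_ring
      rw [this, hz3, sub_self, Matrix.zero_mulVec]
    omega
  obtain ⟨a0, a1, a2⟩ := k1 x hxu hx3 hx1 hx
  obtain ⟨b0, b1, b2⟩ := k1 y hyu hy3 hy1 hy
  apply conj_of_dims (f3 ω) (f3_irr ω) (f3_cop ω hω h3) x y (aeval_f3 ω x hω hx3)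
    (aeval_f3 ω y hω hy3)
  intro j
  have e0 : ∀ z : M4, aeval z (f3 ω 0) = z - (1 : F) • 1 := fun z => aeval_X_sub_C' z 1
  have e1 : ∀ z : M4, aeval z (f3 ω 1) = z - ω • 1 := fun z => aeval_X_sub_C' z ω
  have e2 : ∀ z : M4, aeval z (f3 ω 2) = z - (ω ^ 2) • 1 := fun z => aeval_X_sub_C' z (ω ^ 2)
  fin_cases j
  · show kd (aeval x (f3 ω 0)) = kd (aeval y (f3 ω 0))
    rw [e0, e0, a0, b0]
  · show kd (aeval x (f3 ω 1)) = kd (aeval y (f3 ω 1))
    rw [e1, e1, a1, b1]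
  · show kd (aeval x (f3 ω 2)) = kd (aeval y (f3 ω 2))
    rw [e2, e2, a2, b2]

end three

end Cfsg.Agent.Lib.H25.Su4
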