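import Mathlib
import Cfsg.Agent.Lib.H25.Su4I

/-!
# `GL`-conjugacy of unitary `4 × 4` matrices of order five (helper25)
-/

set_option autoImplicit false
open scoped MatrixGroups
open Matrix Module Polynomial

namespace Cfsg.Agent.Lib.H25.Su4

open Cfsg.Agent.Lib.H13.AutPSU Cfsg.Agent.Lib.H13.SSClass

variable {F : Type*} [Field F]

local notation "M4" => Matrix (Fin 4) (Fin 4) F

section five

variable {q : ℕ} (D : UF F q) (t : F)

/-- the quadratic factor -/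
noncomputable def qd (t : F) : F[X] := X ^ 2 - C t * X + 1

theorem qd_natDegree (t : F) : (qd t).natDegree = 2 := by
  unfold qd
  compute_degree!

theorem two_sub_ne (ht : t ^ 2 + t - 1 = 0) (h5 : (5 : F) ≠ 0) : 2 - t ≠ 0 := by
  intro h
  apply h5
  have : t = 2 := by linear_combination -h
  rw [this] at ht
  linear_combination ht

theorem quad_no_root (ht : t ^ 2 + t - 1 = 0) (h5 : (5 : F) ≠ 0)
    (hroot : ∀ z : F, z ^ 5 = 1 → z = 1) (z : F) (hz' : z ^ 2 - t * z + 1 = 0) : False := by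
  have h1 : z ^ 5 = 1 := by
    linear_combination ((z - 1) * (z ^ 2 + (1 + t) * z + 1)) * hz' + ((z - 1) * z ^ 2) * ht
  have h2 := hroot z h1
  rw [h2] at hz'
  apply two_sub_ne t ht h5
  linear_combination hz'

theorem qd_not_root (ht : t ^ 2 + t - 1 = 0) (h5 : (5 : F) ≠ 0)
    (hroot : ∀ z : F, z ^ 5 = 1 → z = 1) (z : F) : ¬ IsRoot (qd t) z := by
  intro hz
  have hz' : z ^ 2 - t * z + 1 = 0 := by
    have := hz
    unfold qd at this
    simpa using this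
  exact quad_no_root t ht h5 hroot z hz'

theorem qd_irr (ht : t ^ 2 + t - 1 = 0) (h5 : (5 : F) ≠ 0)
    (hroot : ∀ z : F, z ^ 5 = 1 → z = 1) : Irreducible (qd t) := by
  apply irreducible_of_degree_le_three_of_not_isRoot
  · rw [qd_natDegree]
    decide
  · exact qd_not_root t ht h5 hroot

theorem conj_root (ht : t ^ 2 + t - 1 = 0) : (-1 - t) ^ 2 + (-1 - t) - 1 = 0 := by
  linear_combination ht

/-- the three factors of `X⁵ - 1` -/
noncomputable def f5 (t : F) : Fin 3 → F[X] := ![X - C 1, qd t, qd (-1 - t)]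

theorem f5_prod (ht : t ^ 2 + t - 1 = 0) : ∏ j, f5 t j = X ^ 5 - 1 := by
  have hC : (C t : F[X]) ^ 2 + C t - 1 = 0 := by
    rw [← C_pow, ← C_add, ← C_1, ← C_sub, ht, C_0]
  rw [Fin.prod_univ_three]
  show (X - C (1 : F)) * qd t * qd (-1 - t) = X ^ 5 - 1
  unfold qd
  rw [C_sub, C_neg, C_1]
  linear_combination (-(X - 1) * X ^ 2) * hC

theorem f5_irr (ht : t ^ 2 + t - 1 = 0) (h5 : (5 : F) ≠ 0)
    (hroot : ∀ z : F, z ^ 5 = 1 → z = 1) (j : Fin 3) : Irreducible (f5 t j) := by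
  fin_cases j
  · exact irreducible_X_sub_C _
  · exact qd_irr t ht h5 hroot
  · exact qd_irr (-1 - t) (conj_root t ht) h5 hroot

theorem lin_qd_cop (ht : t ^ 2 + t - 1 = 0) (h5 : (5 : F) ≠ 0) :
    IsCoprime (X - C (1 : F)) (qd t) := by
  rw [(irreducible_X_sub_C (1 : F)).coprime_iff_not_dvd, dvd_iff_isRoot]
  intro h
  apply two_sub_ne t ht h5
  have := h
  unfold qd at this
  simp only [IsRoot.def, eval_add, eval_sub, eval_pow, eval_X, eval_mul, eval_C, eval_one] at this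
  linear_combination this

theorem qd_qd_cop (ht : t ^ 2 + t - 1 = 0) (h5 : (5 : F) ≠ 0) :
    IsCoprime (qd t) (qd (-1 - t)) := by
  have hc : (-1 - 2 * t : F) ≠ 0 := by
    intro h
    apply h5
    have : (-1 - 2 * t) ^ 2 = 5 := by linear_combination 4 * ht
    rw [← this, h]
    ring
  have hK : (C (-1 - 2 * t)⁻¹ : F[X]) * C (-1 - 2 * t) = 1 := by
    rw [← C_mul, inv_mul_cancel₀ hc, C_1]
  refine ⟨1 - (X - C t) * C (-1 - 2 * t)⁻¹, (X - C t) * C (-1 - 2 * t)⁻¹, ?_⟩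
  unfold qd
  have e1 : (C (-1 - 2 * t) : F[X]) = -1 - 2 * C t := by
    rw [C_sub, C_neg, C_1, C_mul]
    rfl
  rw [e1] at hK
  rw [C_sub, C_neg, C_1]
  linear_combination (-(X - C t) * X) * hK

theorem f5_cop (ht : t ^ 2 + t - 1 = 0) (h5 : (5 : F) ≠ 0) (i j : Fin 3) (hij : i ≠ j) :
    IsCoprime (f5 t i) (f5 t j) := by
  have ht' := conj_root t ht
  fin_cases i <;> fin_cases j
  · exact absurd rfl hij
  · exact lin_qd_cop t ht h5
  · exact lin_qd_cop (-1 - t) ht' h5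
  · exact (lin_qd_cop t ht h5).symm
  · exact absurd rfl hij
  · exact qd_qd_cop t ht h5
  · exact (lin_qd_cop (-1 - t) ht' h5).symm
  · exact (qd_qd_cop t ht h5).symm
  · exact absurd rfl hij

theorem aeval_f5 (x : M4) (ht : t ^ 2 + t - 1 = 0) (hx : x ^ 5 = 1) :
    aeval x (∏ j, f5 t j) = 0 := by
  rw [f5_prod t ht, aeval_sub, aeval_X_pow, aeval_one, hx, sub_self]

theorem aeval_qd (x : M4) (t : F) : aeval x (qd t) = x * x - t • x + 1 := aeval_quad x t

/-- the inverse of a unitary matrix of order five -/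
theorem ct_of_five (x : M4) (hxu : ct D x * x = 1) (hx : x ^ 5 = 1) :
    ct D x = x ^ 4 := by
  have h5 : x * x ^ 4 = 1 := by
    rw [← hx, ← pow_succ']
  calc ct D x = ct D x * (x * x ^ 4) := by rw [h5, Matrix.mul_one]
    _ = (ct D x * x) * x ^ 4 := by rw [Matrix.mul_assoc]
    _ = x ^ 4 := by rw [hxu, Matrix.one_mul]

theorem two_dvd_kd (ht : t ^ 2 + t - 1 = 0) (h5 : (5 : F) ≠ 0)
    (hroot : ∀ z : F, z ^ 5 = 1 → z = 1) (x : M4) : 2 ∣ kd (aeval x (qd t)) := by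
  have h1 := natDegree_dvd_finrank (qd t) (qd_irr t ht h5 hroot)
    ((Matrix.toLin' x).restrict (ker_aeval_invariant (Matrix.toLin' x) (qd t)))
    (aeval_restrict_eq_zero (Matrix.toLin' x) (qd t))
  rw [qd_natDegree, kd_aeval] at h1
  exact h1

/-- the kernel dimensions of a unitary matrix of order five -/
theorem dims5 [Fintype F] (ht : t ^ 2 + t - 1 = 0) (h5 : (5 : F) ≠ 0)
    (hroot : ∀ z : F, z ^ 5 = 1 → z = 1) (hτ : D.τ t = -1 - t) (x : M4)
    (hxu : ct D x * x = 1) (hx : x ^ 5 = 1) (hx1 : x ≠ 1) :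
    kd (aeval x (f5 t 0)) = 0 ∧ kd (aeval x (f5 t 1)) = 2 ∧ kd (aeval x (f5 t 2)) = 2 := by
  have h1 := sum_dims (f5 t) (f5_cop t ht h5) x (aeval_f5 t x ht hx)
  rw [Fin.sum_univ_three] at h1
  have e0 : aeval x (f5 t 0) = x - (1 : F) • 1 := aeval_X_sub_C' x 1
  have e1 : aeval x (f5 t 1) = aeval x (qd t) := rfl
  have e2 : aeval x (f5 t 2) = aeval x (qd (-1 - t)) := rfl
  have d1 := two_dvd_kd t ht h5 hroot x
  have n4 : kd (aeval x (f5 t 0)) ≠ 4 := by
    rw [e0, Ne, kd_eq_four_iff, one_smul, sub_eq_zero]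
    exact hx1
  have h12 : kd (aeval x (f5 t 1)) = kd (aeval x (f5 t 2)) := by
    rw [e1, e2, aeval_qd, aeval_qd]
    have hxi := ct_of_five D x hxu hx
    have p44 : x ^ 4 * x ^ 4 = x ^ 8 := (pow_add x 4 4).symm
    have p8 : x ^ 8 * (x * x) = 1 := by
      rw [← pow_two, ← pow_add, show 8 + 2 = 5 * 2 from rfl, pow_mul, hx, one_pow]
    have p9 : x ^ 8 * x = x ^ 4 := by
      rw [← pow_succ, show 8 + 1 = 5 + 4 from rfl, pow_add, hx, one_mul]
    have hct : ct D (x * x - t • x + 1) = x ^ 8 * (x * x - (-1 - t) • x + 1) := by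
      rw [ct_add, ct_sub, ct_mul, ct_smul, ct_one, hτ, hxi, p44, Matrix.mul_add, Matrix.mul_sub,
        Matrix.mul_smul, Matrix.mul_one, p8, p9]
      abel
    have hU : (x * x) * x ^ 8 = 1 := by
      rw [← pow_two, ← pow_add, show 2 + 8 = 5 * 2 from rfl, pow_mul, hx, one_pow]
    unfold kd
    rw [← finrank_ker_ct D (x * x - t • x + 1), hct, finrank_ker_mul_left _ _ _ hU]
  rw [e1] at h12 h1 ⊢
  obtain ⟨m, hm⟩ := d1
  omega

/-- unitary matrices of order five are conjugate -/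
theorem conj5 [Fintype F] (ht : t ^ 2 + t - 1 = 0) (h5 : (5 : F) ≠ 0)
    (hroot : ∀ z : F, z ^ 5 = 1 → z = 1) (hτ : D.τ t = -1 - t) (x y : M4)
    (hxu : ct D x * x = 1) (hyu : ct D y * y = 1) (hx : x ^ 5 = 1) (hy : y ^ 5 = 1)
    (hx1 : x ≠ 1) (hy1 : y ≠ 1) : ∃ P Pi : M4, P * Pi = 1 ∧ P * x = y * P := by
  obtain ⟨a0, a1, a2⟩ := dims5 D t ht h5 hroot hτ x hxu hx hx1
  obtain ⟨b0, b1, b2⟩ := dims5 D t ht h5 hroot hτ y hyu hy hy1
  apply conj_of_dims (f5 t) (f5_irr t ht h5 hroot) (f5_cop t ht h5) x y (aeval_f5 t x ht hx)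
    (aeval_f5 t y ht hy)
  intro j
  fin_cases j
  · show kd (aeval x (f5 t 0)) = kd (aeval y (f5 t 0))
    rw [a0, b0]
  · show kd (aeval x (f5 t 1)) = kd (aeval y (f5 t 1))
    rw [a1, b1]
  · show kd (aeval x (f5 t 2)) = kd (aeval y (f5 t 2))
    rw [a2, b2]

end five

end Cfsg.Agent.Lib.H25.Su4
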