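import Mathlib
import Cfsg.Agent.Lib.H25.Su4A
import Cfsg.Agent.Lib.H22.SympExtra3

/-!
# The elementwise data `Sy` from the hypotheses of S6001 (helper25)
-/

set_option autoImplicit false
open scoped MatrixGroups

namespace Cfsg.Agent.Lib.H25.Su4

variable {F : Type*} [Field F]

local notation "M4" => Matrix (Fin 4) (Fin 4) F
local notation "G4" => GL (Fin 4) F

/-- the hypotheses of S6001 give the elementwise data -/
theorem sy_of_hyp {p : ℕ} [Fact p.Prime] [CharP F p] (hodd : Odd p)
    (R : Subgroup (GL (Fin 4) F)) (hRs : Cfsg.Geo.IsSymplecticTypeGroup 2 R)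
    (hRi : Cfsg.Geo.ActsAbsolutelyIrreducibly (Cfsg.Geo.matrixSet R))
    (hR6 : Nat.card R = 2 ^ 6) (hRZ : Nat.card (Subgroup.center R) = 4) : ∃ ι : G4, Sy R ι := by
  have hp : p.Prime := Fact.out
  have h2 : (2 : F) ≠ 0 := by
    intro h
    have h1 : ((2 : ℕ) : F) = 0 := by exact_mod_cast h
    rw [CharP.cast_eq_zero_iff F p] at h1
    have := (Nat.prime_dvd_prime_iff_eq hp Nat.prime_two).1 h1
    rw [this] at hodd
    exact absurd hodd (by decide)
  have hcard : Nat.card R = 64 := by rw [hR6]; norm_num
  haveI : Finite R := Nat.finite_of_card_ne_zero (by rw [hcard]; norm_num)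
  have hscal : ∀ M : M4, (∀ a ∈ R, M * (a : M4) = (a : M4) * M) → ∃ c : F, M = c • (1 : M4) := by
    intro M hM
    apply hRi.2 M
    rintro s ⟨g, hg, rfl⟩
    exact hM g hg
  -- a generator of the centre
  haveI : IsCyclic (Subgroup.center R) :=
    hRs.cyclic_of_characteristic _ inferInstance inferInstance
  obtain ⟨c, hc⟩ := IsCyclic.exists_generator (α := Subgroup.center R)
  have hord : orderOf c = 4 := by
    rw [orderOf_eq_card_of_forall_mem_zpowers hc, hRZ]
  have hcc : ∀ a : R, a * (c : R) = (c : R) * a := fun a => Subgroup.mem_center_iff.1 c.2 a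
  obtain ⟨l, hl⟩ := hscal (((c : R) : G4) : M4) (by
    intro a ha
    have := hcc ⟨a, ha⟩
    have := congrArg (fun u : R => ((u : G4) : M4)) this
    simp only [Subgroup.coe_mul, Units.val_mul] at this
    exact this.symm)
  have hc4 : c ^ 4 = 1 := by
    have := pow_orderOf_eq_one c
    rwa [hord] at this
  have hc2 : c ^ 2 ≠ 1 := by
    intro h
    have := orderOf_dvd_of_pow_eq_one h
    rw [hord] at this
    exact absurd this (by decide)
  have hM4 : (l ^ 4) • (1 : M4) = 1 := by
    have := congrArg (fun u : Subgroup.center R => (((u : R) : G4) : M4)) hc4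
    simp only [Subgroup.coe_pow, Units.val_pow_eq_pow_val, Subgroup.coe_one, Units.val_one] at this
    rw [hl, smul_pow, one_pow] at this
    exact this
  have hl4 : l ^ 4 = 1 := by
    have := congrFun (congrFun hM4 0) 0
    simpa using this
  have hl2 : l ^ 2 ≠ 1 := by
    intro h
    apply hc2
    apply Subtype.ext
    apply Subtype.ext
    apply Units.ext
    simp only [Subgroup.coe_pow, Units.val_pow_eq_pow_val, Subgroup.coe_one, Units.val_one]
    rw [hl, smul_pow, one_pow, h, one_smul]
  have hll : l * l = -1 := by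
    have : (l ^ 2 - 1) * (l ^ 2 + 1) = 0 := by linear_combination hl4
    rcases mul_eq_zero.1 this with h4 | h4
    · exact absurd (sub_eq_zero.1 h4) hl2
    · linear_combination h4
  set ι : G4 := ((c : R) : G4) with hι
  have hιv : (ι : M4) = l • (1 : M4) := hl
  have hιR : ι ∈ R := (c : R).2
  have hιι : ι * ι = -1 := by
    apply Units.ext
    rw [Units.val_mul, hιv, Matrix.smul_mul, Matrix.mul_smul, Matrix.one_mul, smul_smul, hll,
      neg_smul, one_smul, Units.val_neg, Units.val_one]
  have hιc : ∀ g : G4, ι * g = g * ι := by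
    intro g
    apply Units.ext
    rw [Units.val_mul, Units.val_mul, hιv, Matrix.smul_mul, Matrix.mul_smul, Matrix.one_mul,
      Matrix.mul_one]
  have hneg : (-1 : G4) ∈ R := by
    rw [← hιι]
    exact R.mul_mem hιR hιR
  set z' : R := ⟨-1, hneg⟩ with hz'
  have hz1 : z' ≠ 1 := by
    intro h
    have := congrArg (fun u : R => (u : G4)) h
    exact neg_ne_self h2 1 this
  have hzz : z' * z' = 1 := by
    apply Subtype.ext
    show (-1 : G4) * (-1) = 1
    rw [neg_mul_neg, one_mul]
  have hzc : ∀ a : R, a * z' = z' * a := by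
    intro x
    apply Subtype.ext
    show (x : G4) * (-1) = (-1) * (x : G4)
    rw [mul_neg, neg_mul, mul_one, one_mul]
  have h4 : ∀ q : R, q ^ 4 = 1 := by
    intro q
    have h5 : Monoid.exponent R = 4 := by
      rw [hRs.exponent_eq]
      rfl
    have := Monoid.pow_exponent_eq_one q
    rwa [h5] at this
  obtain ⟨d1, d2, d3⟩ := Cfsg.Agent.Lib.H22.LargeExtra.symp_data hRs.pGroup
    hRs.cyclic_of_characteristic h4 z' hz1 hzz hzc
  refine ⟨ι, h2, hιR, hιι, hιc, hcard, ?_, ?_, ?_, hscal⟩
  · intro a ha
    rcases d2 ⟨a, ha⟩ with h5 | h5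
    · left
      exact congrArg (fun u : R => (u : G4)) h5
    · right
      exact congrArg (fun u : R => (u : G4)) h5
  · intro a ha b hb
    rcases d1 ⟨a, ha⟩ ⟨b, hb⟩ with h5 | h5
    · left
      have h6 := congrArg (fun u : R => (u : G4)) h5
      simp only [Subgroup.coe_mul, Subgroup.coe_inv, Subgroup.coe_one] at h6
      calc a * b = a * b * a⁻¹ * b⁻¹ * (b * a) := by group
        _ = b * a := by rw [h6, one_mul]
    · right
      have h6 := congrArg (fun u : R => (u : G4)) h5
      simp only [Subgroup.coe_mul, Subgroup.coe_inv] at h6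
      calc a * b = a * b * a⁻¹ * b⁻¹ * (b * a) := by group
        _ = -(b * a) := by
          rw [h6]
          show (-1 : G4) * (b * a) = -(b * a)
          rw [neg_mul, one_mul]
  · intro c' hc' hcc'
    rcases d3 ⟨c', hc'⟩ (fun a => Subtype.ext (hcc' a a.2)) with h5 | h5 | h5
    · left
      exact congrArg (fun u : R => (u : G4)) h5
    · right; left
      exact congrArg (fun u : R => (u : G4)) h5
    · right; right
      have h6 : c' * c' = -1 := congrArg (fun u : R => (u : G4)) h5
      obtain ⟨l', hl'⟩ := hscal (c' : M4) (by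
        intro a ha
        have := congrArg (fun u : G4 => (u : M4)) (hcc' a ha)
        simp only [Units.val_mul] at this
        exact this.symm)
      have h7 : (l' * l') • (1 : M4) = -1 := by
        have := congrArg (fun u : G4 => (u : M4)) h6
        simp only [Units.val_mul, Units.val_neg, Units.val_one] at this
        rw [hl', Matrix.smul_mul, Matrix.mul_smul, Matrix.one_mul, smul_smul] at this
        exact this
      have h8 : l' * l' = -1 := by
        have := congrFun (congrFun h7 0) 0
        simpa using this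
      have h9 : (l' - l) * (l' + l) = 0 := by linear_combination h8 - hll
      rcases mul_eq_zero.1 h9 with h10 | h10
      · left
        apply Units.ext
        rw [hl', hιv, sub_eq_zero.1 h10]
      · right
        apply Units.ext
        rw [hl', Units.val_neg, hιv, eq_neg_of_add_eq_zero_left h10, neg_smul]

end Cfsg.Agent.Lib.H25.Su4
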