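import Mathlib
import Cfsg.Agent.Lib.H25.Su4D

/-!
# Numerical constraints for elements with a conjugate in the normalizer of `4 ∘ 2^{1+4}` (helper25)
-/

set_option autoImplicit false
open scoped MatrixGroups
open Matrix

namespace Cfsg.Agent.Lib.H25.Su4

variable {F : Type*} [Field F]

local notation "M4" => Matrix (Fin 4) (Fin 4) F
local notation "G4" => GL (Fin 4) F

theorem trace_conj (g x : G4) :
    Matrix.trace ((g⁻¹ * x * g : G4) : M4) = Matrix.trace (x : M4) := by
  rw [Units.val_mul, Units.val_mul, Matrix.trace_mul_comm, ← Matrix.mul_assoc, ← Units.val_mul,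
    mul_inv_cancel, Units.val_one, Matrix.one_mul]

variable [Fintype F] {R : Subgroup (GL (Fin 4) F)} {ι : GL (Fin 4) F}

/-- the numerical constraints on an element of order `r` modulo scalars having a conjugate
in the normalizer of `R` -/
theorem Sy.derange_core (h : Sy R ι) {x : G4} (r : ℕ) [Fact r.Prime]
    (hxr : ∃ c : F, ((x ^ r : G4) : M4) = c • (1 : M4))
    (hns : ∀ c : F, (x : M4) ≠ c • (1 : M4)) (g : G4)
    (hmem : g⁻¹ * x * g ∈ Subgroup.normalizer (R : Set G4)) :
    (r = 3 → 4 * (Matrix.trace (x : M4) * Matrix.trace ((x⁻¹ : G4) : M4)) = 0 ∨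
      4 * (Matrix.trace (x : M4) * Matrix.trace ((x⁻¹ : G4) : M4)) = 4 ∨
      4 * (Matrix.trace (x : M4) * Matrix.trace ((x⁻¹ : G4) : M4)) = 16) ∧
    (r = 5 → 4 * (Matrix.trace (x : M4) * Matrix.trace ((x⁻¹ : G4) : M4)) = 0 ∨
      4 * (Matrix.trace (x : M4) * Matrix.trace ((x⁻¹ : G4) : M4)) = 4) ∧
    (7 ≤ r → False) := by
  classical
  obtain ⟨c, hc⟩ := hxr
  have hpow : (g⁻¹ * x * g) ^ r = x ^ r := by
    have e : (g⁻¹ * x * g) ^ r = g⁻¹ * x ^ r * g := by
      have := conj_pow (a := g⁻¹) (b := x) (i := r)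
      rwa [inv_inv] at this
    rw [e, mul_assoc, scalar_comm hc g, ← mul_assoc, inv_mul_cancel, one_mul]
  have hxr' : ∀ k ∈ R, (g⁻¹ * x * g) ^ r * k = k * (g⁻¹ * x * g) ^ r := by
    intro k _
    rw [hpow]
    exact scalar_comm hc k
  have hnc : ∃ k ∈ R, k * (g⁻¹ * x * g) ≠ (g⁻¹ * x * g) * k := by
    by_contra hcon
    push Not at hcon
    obtain ⟨c', hc'⟩ := h.scal ((g⁻¹ * x * g : G4) : M4) (by
      intro a ha
      have := hcon a ha
      have := congrArg (fun u : G4 => (u : M4)) this
      simp only [Units.val_mul] at this ⊢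
      exact this.symm)
    apply hns c'
    have e : x = g * (g⁻¹ * x * g) * g⁻¹ := by group
    rw [e, Units.val_mul, Units.val_mul, hc', Matrix.mul_smul, Matrix.smul_mul, Matrix.mul_one,
      ← Units.val_mul, mul_inv_cancel, Units.val_one]
  have hcases := h.card_cent_cases hmem r hxr' hnc
  have htr := h.trace_cases' hmem
  have einv : (g⁻¹ * x * g)⁻¹ = g⁻¹ * x⁻¹ * g := by group
  rw [einv, trace_conj, trace_conj] at htr
  refine ⟨?_, ?_, hcases.2.2⟩
  · intro hr
    rcases hcases.1 hr with h4 | h4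
    · rw [h4] at htr
      rcases htr with h1 | h1
      · left; exact h1
      · right; left; rw [h1]; norm_num
    · rw [h4] at htr
      rcases htr with h1 | h1
      · left; exact h1
      · right; right; rw [h1]; norm_num
  · intro hr
    rw [hcases.2.1 hr] at htr
    rcases htr with h1 | h1
    · left; exact h1
    · right; rw [h1]; norm_num

end Cfsg.Agent.Lib.H25.Su4
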