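import Mathlib
import Cfsg.Agent.Lib.H25.Su4C
import Cfsg.Agent.Lib.H25.Su4H
import Cfsg.Agent.Lib.H25.Su4L

/-!
# Derangements of prime order in `SU_4(p)` on the cosets of `N(4 ∘ 2^{1+4})` (helper25)
-/

set_option autoImplicit false
open scoped MatrixGroups
open Matrix

namespace Cfsg.Agent.Lib.H25.Su4

open Cfsg.Agent.Lib.H13.AutPSU

variable {F : Type*} [Field F]

local notation "M4" => Matrix (Fin 4) (Fin 4) F
local notation "G4" => GL (Fin 4) F

section tv

theorem vecMulVec_sq (a φ : Fin 4 → F) (h : φ ⬝ᵥ a = 0) :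
    vecMulVec a φ * vecMulVec a φ = 0 := by
  rw [vecMulVec_mul_vecMulVec, h, zero_smul]
  ext i j
  simp [vecMulVec_apply]

/-- the unipotent element `1 + a φ` -/
noncomputable def tvGL (a φ : Fin 4 → F) (h : φ ⬝ᵥ a = 0) : G4 :=
  ⟨1 + vecMulVec a φ, 1 - vecMulVec a φ, by
    have : (1 + vecMulVec a φ) * (1 - vecMulVec a φ) = 1 - vecMulVec a φ * vecMulVec a φ := by
      noncomm_ring
    rw [this, vecMulVec_sq a φ h, sub_zero], by
    have : (1 - vecMulVec a φ) * (1 + vecMulVec a φ) = 1 - vecMulVec a φ * vecMulVec a φ := by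
      noncomm_ring
    rw [this, vecMulVec_sq a φ h, sub_zero]⟩

theorem tvGL_val (a φ : Fin 4 → F) (h : φ ⬝ᵥ a = 0) :
    ((tvGL a φ h : G4) : M4) = 1 + vecMulVec a φ := rfl

theorem tvGL_inv_val (a φ : Fin 4 → F) (h : φ ⬝ᵥ a = 0) :
    (((tvGL a φ h)⁻¹ : G4) : M4) = 1 - vecMulVec a φ := rfl

theorem tvGL_det (a φ : Fin 4 → F) (h : φ ⬝ᵥ a = 0) : ((tvGL a φ h : G4) : M4).det = 1 := by
  rw [tvGL_val, Matrix.vecMulVec_eq Unit, det_one_add_replicateCol_mul_replicateRow, h, add_zero]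

theorem tvGL_pow (a φ : Fin 4 → F) (h : φ ⬝ᵥ a = 0) (p : ℕ) [Fact p.Prime] [CharP F p] :
    (tvGL a φ h) ^ p = 1 := by
  apply Units.ext
  rw [Units.val_pow_eq_pow_val, tvGL_val, Units.val_one]
  have hp : p.Prime := Fact.out
  rw [add_pow_char_of_commute p (Commute.one_left _), one_pow]
  obtain ⟨m, hm⟩ : ∃ m, p = m + 2 := ⟨p - 2, by have := hp.two_le; omega⟩
  rw [hm, pow_add, pow_two, vecMulVec_sq a φ h, mul_zero, add_zero]

theorem tvGL_not_scalar (a φ : Fin 4 → F) (h : φ ⬝ᵥ a = 0) (hA : vecMulVec a φ ≠ 0) (z : F) :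
    ((tvGL a φ h : G4) : M4) ≠ z • (1 : M4) := by
  intro h1
  rw [tvGL_val] at h1
  have h2 : vecMulVec a φ = (z - 1) • (1 : M4) := by
    rw [sub_smul, one_smul, ← h1]
    abel
  have h3 := vecMulVec_sq a φ h
  rw [h2, Matrix.smul_mul, Matrix.mul_smul, Matrix.one_mul, smul_smul] at h3
  have h4 := congrFun (congrFun h3 0) 0
  simp only [Matrix.smul_apply, Matrix.one_apply_eq, smul_eq_mul, mul_one, Matrix.zero_apply,
    mul_self_eq_zero] at h4
  apply hA
  rw [h2, h4, zero_smul]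

variable {q : ℕ} (D : UF F q)

theorem ct_vecMulVec (a φ : Fin 4 → F) : ct D (vecMulVec a φ) = vecMulVec (cj D φ) (cj D a) := by
  ext i j
  rw [ct_apply, vecMulVec_apply, vecMulVec_apply, map_mul, mul_comm]
  rfl

/-- a unitary transvection lies in `GU` -/
theorem tvGL_mem_GU (v : Fin 4 → F) (c : F) (hc : D.τ c = -c)
    (h : cj D v ⬝ᵥ (c • v) = 0) : tvGL (c • v) (cj D v) h ∈ Cfsg.GU 4 F q := by
  rw [mem_GU_iff_ct (D := D), tvGL_val, ct_add, ct_one, ct_vecMulVec]
  have e : vecMulVec (cj D (cj D v)) (cj D (c • v)) = -vecMulVec (c • v) (cj D v) := by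
    ext i j
    simp only [vecMulVec_apply, cj, Pi.smul_apply, smul_eq_mul, map_mul, hc, D.hτ2,
      Matrix.neg_apply]
    ring
  rw [e]
  have : (1 + -vecMulVec (c • v) (cj D v)) * (1 + vecMulVec (c • v) (cj D v)) =
      1 - vecMulVec (c • v) (cj D v) * vecMulVec (c • v) (cj D v) := by noncomm_ring
  rw [this, vecMulVec_sq _ _ h, sub_zero]

theorem dot_of_isotropic (v : Fin 4 → F) (c : F) (hv : H D v v = 0) :
    cj D v ⬝ᵥ (c • v) = 0 := by
  rw [dotProduct_smul, dotProduct_comm]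
  have : v ⬝ᵥ cj D v = 0 := hv
  rw [this, smul_zero]

variable [Fintype F] {R : Subgroup (GL (Fin 4) F)} {ι : GL (Fin 4) F}

/-- no conjugate of a transvection normalizes `R` -/
theorem Sy.derange_tv (h : Sy R ι) (a φ : Fin 4 → F) (haφ : φ ⬝ᵥ a = 0) (ha : a ≠ 0) (hφ : φ ≠ 0)
    (g : G4) : g⁻¹ * tvGL a φ haφ * g ∉ Subgroup.normalizer (R : Set G4) := by
  set G := (g : M4) with hG
  set Gi := ((g⁻¹ : G4) : M4) with hGi
  have hGiG : Gi * G = 1 := by rw [hGi, hG, ← Units.val_mul, inv_mul_cancel, Units.val_one]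
  have hGGi : G * Gi = 1 := by rw [hGi, hG, ← Units.val_mul, mul_inv_cancel, Units.val_one]
  apply h.not_tv (g⁻¹ * tvGL a φ haφ * g) (Gi *ᵥ a) (φ ᵥ* G)
  · rw [Units.val_mul, Units.val_mul, tvGL_val, Matrix.mul_add, Matrix.add_mul, Matrix.mul_one,
      hGiG, mul_vecMulVec, vecMulVec_mul]
  · have e : (g⁻¹ * tvGL a φ haφ * g)⁻¹ = g⁻¹ * (tvGL a φ haφ)⁻¹ * g := by group
    rw [e, Units.val_mul, Units.val_mul, tvGL_inv_val, Matrix.mul_sub, Matrix.sub_mul,
      Matrix.mul_one, hGiG, mul_vecMulVec, vecMulVec_mul]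
  · rw [Ne, vecMulVec_eq_zero, not_or]
    constructor
    · intro h0
      apply ha
      have : a = G *ᵥ (Gi *ᵥ a) := by rw [Matrix.mulVec_mulVec, hGGi, Matrix.one_mulVec]
      rw [this, h0, Matrix.mulVec_zero]
    · intro h0
      apply hφ
      have : φ = (φ ᵥ* G) ᵥ* Gi := by rw [Matrix.vecMul_vecMul, hGGi, Matrix.vecMul_one]
      rw [this, h0, Matrix.zero_vecMul]

/-- there is a derangement of order `p` -/
theorem Sy.exists_derange_p (h : Sy R ι) (D : UF F q) (p : ℕ) [Fact p.Prime] [CharP F p] :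
    ∃ x : G4, x ∈ Cfsg.GU 4 F q ⊓ Cfsg.Geo.specialLinear (Fin 4) F ∧ x ^ p = 1 ∧
      (∀ z : F, (x : M4) ≠ z • (1 : M4)) ∧
      ∀ g : G4, g⁻¹ * x * g ∉ Subgroup.normalizer (R : Set G4) := by
  obtain ⟨a₀, ha₀⟩ := D.hne
  set c := a₀ - D.τ a₀ with hc
  have hc0 : c ≠ 0 := fun h0 => ha₀ (sub_eq_zero.1 h0).symm
  have hcτ : D.τ c = -c := by rw [hc, map_sub, D.hτ2]; ring
  obtain ⟨ν, hν⟩ := D.nm_surj (-1) (by rw [map_neg, map_one]) (by norm_num)
  set v : Fin 4 → F := ![1, ν, 0, 0] with hv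
  have hvv : H D v v = 0 := by
    show v ⬝ᵥ cj D v = 0
    simp only [dotProduct, Fin.sum_univ_four, cj, hv, Matrix.cons_val_zero, Matrix.cons_val_one,
      Matrix.cons_val]
    simp only [map_one, map_zero, mul_zero, add_zero, mul_one]
    rw [hν]
    ring
  have hv0 : v ≠ 0 := by
    intro h0
    have := congrFun h0 0
    simp [hv] at this
  have hdot := dot_of_isotropic D v c hvv
  have hcv : c • v ≠ 0 := smul_ne_zero hc0 hv0
  have hcj : cj D v ≠ 0 := by
    intro h0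
    have := congrFun h0 0
    simp [hv, cj] at this
  refine ⟨tvGL (c • v) (cj D v) hdot, ⟨tvGL_mem_GU D v c hcτ hdot, ?_⟩, tvGL_pow _ _ hdot p,
    ?_, ?_⟩
  · show tvGL (c • v) (cj D v) hdot ∈ Cfsg.Geo.specialLinear (Fin 4) F
    rw [Cfsg.Agent.Lib.H28.mem_specialLinear_iff, tvGL_det]
  · apply tvGL_not_scalar
    rw [Ne, vecMulVec_eq_zero, not_or]
    exact ⟨hcv, hcj⟩
  · exact h.derange_tv _ _ hdot hcv hcj

end tv

section diag

/-- a diagonal matrix as a unit -/
noncomputable def dgGL (d d' : Fin 4 → F) (h : ∀ i, d i * d' i = 1) : G4 :=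
  ⟨Matrix.diagonal d, Matrix.diagonal d', by
    rw [Matrix.diagonal_mul_diagonal]
    have : (fun i => d i * d' i) = fun _ => 1 := funext h
    rw [this]
    exact Matrix.diagonal_one, by
    rw [Matrix.diagonal_mul_diagonal]
    have : (fun i => d' i * d i) = fun _ => 1 := funext (fun i => by rw [mul_comm]; exact h i)
    rw [this]
    exact Matrix.diagonal_one⟩

theorem dgGL_val (d d' : Fin 4 → F) (h : ∀ i, d i * d' i = 1) :
    ((dgGL d d' h : G4) : M4) = Matrix.diagonal d := rfl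

theorem dgGL_inv_val (d d' : Fin 4 → F) (h : ∀ i, d i * d' i = 1) :
    (((dgGL d d' h)⁻¹ : G4) : M4) = Matrix.diagonal d' := rfl

variable {q : ℕ} (D : UF F q)

theorem ct_diagonal (d : Fin 4 → F) :
    ct D (Matrix.diagonal d) = Matrix.diagonal (fun i => D.τ (d i)) := by
  ext i j
  rw [ct_apply]
  by_cases hij : i = j
  · subst hij
    rw [Matrix.diagonal_apply_eq, Matrix.diagonal_apply_eq]
  · rw [Matrix.diagonal_apply_ne _ hij, Matrix.diagonal_apply_ne _ (Ne.symm hij), map_zero]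

theorem dgGL_mem_GU (d d' : Fin 4 → F) (h : ∀ i, d i * d' i = 1) (hu : ∀ i, D.τ (d i) * d i = 1) :
    dgGL d d' h ∈ Cfsg.GU 4 F q := by
  rw [mem_GU_iff_ct (D := D), dgGL_val, ct_diagonal, Matrix.diagonal_mul_diagonal]
  have : (fun i => D.τ (d i) * d i) = fun _ => 1 := funext hu
  rw [this]
  exact Matrix.diagonal_one

variable [Fintype F] {R : Subgroup (GL (Fin 4) F)} {ι : GL (Fin 4) F}

/-- there is a derangement of order three when `ω̄ = ω²` -/
theorem Sy.exists_derange_three (h : Sy R ι) (D : UF F q) (ω : F) (hω : ω ^ 2 + ω + 1 = 0)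
    (hτ : D.τ ω = ω ^ 2) (h3 : (3 : F) ≠ 0) (h7 : (7 : F) ≠ 0) :
    ∃ x : G4, x ∈ Cfsg.GU 4 F q ⊓ Cfsg.Geo.specialLinear (Fin 4) F ∧ x ^ 3 = 1 ∧
      (∀ z : F, (x : M4) ≠ z • (1 : M4)) ∧
      ∀ g : G4, g⁻¹ * x * g ∉ Subgroup.normalizer (R : Set G4) := by
  have hω3 : ω ^ 3 = 1 := by linear_combination (ω - 1) * hω
  have hdd : ∀ i, (![1, ω, ω, ω] : Fin 4 → F) i * (![1, ω ^ 2, ω ^ 2, ω ^ 2] : Fin 4 → F) i = 1 := by
    intro i
    fin_cases i
    · simp
    · simp only [Fin.mk_one, Matrix.cons_val_one, Matrix.cons_val_zero]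
      linear_combination hω3
    · simp only [Fin.reduceFinMk, Matrix.cons_val]
      linear_combination hω3
    · simp only [Fin.reduceFinMk, Matrix.cons_val]
      linear_combination hω3
  set x : G4 := dgGL ![1, ω, ω, ω] ![1, ω ^ 2, ω ^ 2, ω ^ 2] hdd with hx
  have hx3 : x ^ 3 = 1 := by
    apply Units.ext
    rw [Units.val_pow_eq_pow_val, hx, dgGL_val, Matrix.diagonal_pow, Units.val_one]
    have : ((![1, ω, ω, ω] : Fin 4 → F) ^ 3) = fun _ => 1 := by
      funext i
      fin_cases i <;> simp [hω3]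
    rw [this]
    exact Matrix.diagonal_one
  have hns : ∀ z : F, (x : M4) ≠ z • (1 : M4) := by
    intro z hz
    rw [hx, dgGL_val] at hz
    have h0 := congrFun (congrFun hz 0) 0
    have h1 := congrFun (congrFun hz 1) 1
    simp only [Matrix.diagonal_apply_eq, Matrix.smul_apply, Matrix.one_apply_eq, smul_eq_mul,
      mul_one, Matrix.cons_val_zero, Matrix.cons_val_one] at h0 h1
    have h10 : ω = 1 := by rw [h1, ← h0]
    rw [h10] at hω
    apply h3
    linear_combination hω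
  refine ⟨x, ⟨?_, ?_⟩, hx3, hns, ?_⟩
  · apply dgGL_mem_GU D
    intro i
    fin_cases i
    · simp
    · simp only [Fin.mk_one, Matrix.cons_val_one, Matrix.cons_val_zero]
      rw [hτ]
      linear_combination hω3
    · simp only [Fin.reduceFinMk, Matrix.cons_val]
      rw [hτ]
      linear_combination hω3
    · simp only [Fin.reduceFinMk, Matrix.cons_val]
      rw [hτ]
      linear_combination hω3
  · show x ∈ Cfsg.Geo.specialLinear (Fin 4) F
    rw [Cfsg.Agent.Lib.H28.mem_specialLinear_iff, hx, dgGL_val, Matrix.det_diagonal,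
      Fin.prod_univ_four]
    simp only [Matrix.cons_val_zero, Matrix.cons_val_one, Matrix.cons_val]
    linear_combination hω3
  · intro g hmem
    haveI : Fact (Nat.Prime 3) := ⟨Nat.prime_three⟩
    have hc := (h.derange_core 3 ⟨1, by rw [hx3, Units.val_one, one_smul]⟩ hns g hmem).1 rfl
    have t1 : Matrix.trace (x : M4) = 1 + 3 * ω := by
      rw [hx, dgGL_val, Matrix.trace_diagonal, Fin.sum_univ_four]
      simp only [Matrix.cons_val_zero, Matrix.cons_val_one, Matrix.cons_val]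
      ring
    have t2 : Matrix.trace ((x⁻¹ : G4) : M4) = 1 + 3 * ω ^ 2 := by
      rw [hx, dgGL_inv_val, Matrix.trace_diagonal, Fin.sum_univ_four]
      simp only [Matrix.cons_val_zero, Matrix.cons_val_one, Matrix.cons_val]
      ring
    rw [t1, t2] at hc
    have e : (4 : F) * ((1 + 3 * ω) * (1 + 3 * ω ^ 2)) = 28 := by
      linear_combination 12 * hω + 36 * hω3
    rw [e] at hc
    have h2 := h.two_ne
    rcases hc with h1 | h1 | h1
    · have : (2 : F) * 2 * 7 = 0 := by linear_combination h1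
      rcases mul_eq_zero.1 this with h4 | h4
      · rcases mul_eq_zero.1 h4 with h5 | h5 <;> exact h2 h5
      · exact h7 h4
    · have : (2 : F) * 2 * 2 * 3 = 0 := by linear_combination h1
      rcases mul_eq_zero.1 this with h4 | h4
      · rcases mul_eq_zero.1 h4 with h5 | h5
        · rcases mul_eq_zero.1 h5 with h6 | h6 <;> exact h2 h6
        · exact h2 h5
      · exact h3 h4
    · have : (2 : F) * 2 * 3 = 0 := by linear_combination h1
      rcases mul_eq_zero.1 this with h4 | h4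
      · rcases mul_eq_zero.1 h4 with h5 | h5 <;> exact h2 h5
      · exact h3 h4

end diag

section five

variable {q : ℕ} {D : UF F q}

theorem trace_ct {k : ℕ} (M : Matrix (Fin k) (Fin k) F) :
    Matrix.trace (ct D M) = D.τ (Matrix.trace M) := by
  unfold Matrix.trace
  rw [map_sum]
  rfl

theorem trace_R {n k r : ℕ} (b : Frame D n k r) (g g' : Matrix (Fin k) (Fin k) F)
    (h : Matrix (Fin r) (Fin r) F) :
    Matrix.trace (R b b g g' h) = Matrix.trace g + Matrix.trace g' + Matrix.trace h := by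
  unfold R
  rw [Matrix.trace_add, Matrix.trace_add, Matrix.trace_mul_comm, ← Matrix.mul_assoc, b.ctBf_Be,
    Matrix.one_mul, Matrix.trace_mul_comm (b.Bf * g'), ← Matrix.mul_assoc, b.ctBe_Bf,
    Matrix.one_mul, Matrix.trace_mul_comm (b.Bw * h), ← Matrix.mul_assoc, b.ctBw_Bw,
    Matrix.one_mul]

theorem mdl_scalar {n k r : ℕ} (B : Frame D n k r) (g : GL (Fin k) F) (z : F)
    (h : ((mdl B g : GL (Fin n) F) : Matrix (Fin n) (Fin n) F) = z • 1) :
    (g : Matrix (Fin k) (Fin k) F) = z • 1 := by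
  have h1 := ctBf_R_Be B (g : Matrix (Fin k) (Fin k) F)
    (ct D ((g⁻¹ : GL (Fin k) F) : Matrix (Fin k) (Fin k) F)) 1
  rw [← mdl_val, h, Matrix.mul_smul, Matrix.mul_one, Matrix.smul_mul, B.ctBf_Be] at h1
  exact h1.symm

theorem trace_mdl (B : Frame D 4 2 0) (g : GL (Fin 2) F) :
    Matrix.trace ((mdl B g : G4) : M4) = Matrix.trace (g : Matrix (Fin 2) (Fin 2) F) +
      D.τ (Matrix.trace ((g⁻¹ : GL (Fin 2) F) : Matrix (Fin 2) (Fin 2) F)) := by
  rw [mdl_val, trace_R, trace_ct]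
  have : Matrix.trace (1 : Matrix (Fin 0) (Fin 0) F) = 0 := by
    rw [Matrix.trace_one, Fintype.card_fin, Nat.cast_zero]
  rw [this, add_zero]

variable [Fintype F] {R : Subgroup (GL (Fin 4) F)} {ι : GL (Fin 4) F}

/-- there is a derangement of order five when `X² + X - 1` has a root fixed by the involution -/
theorem Sy.exists_derange_five (h : Sy R ι) (B : Frame D 4 2 0) (t : F) (ht : t ^ 2 + t - 1 = 0)
    (hτ : D.τ t = t) (h5 : (5 : F) ≠ 0) :
    ∃ x : G4, x ∈ Cfsg.GU 4 F q ⊓ Cfsg.Geo.specialLinear (Fin 4) F ∧ x ^ 5 = 1 ∧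
      (∀ z : F, (x : M4) ≠ z • (1 : M4)) ∧
      ∀ g : G4, g⁻¹ * x * g ∉ Subgroup.normalizer (R : Set G4) := by
  set x : G4 := mdl B (cm2 t) with hx
  have hx5 : x ^ 5 = 1 := by rw [hx, ← map_pow, cm2_pow_five t ht, map_one]
  have hns : ∀ z : F, (x : M4) ≠ z • (1 : M4) := by
    intro z hz
    have h1 := mdl_scalar B (cm2 t) z hz
    have h2 := congrFun (congrFun h1 1) 0
    rw [cm2_val] at h2
    simp at h2
  have hdet : ((cm2 t : GL (Fin 2) F) : Matrix (Fin 2) (Fin 2) F).det = 1 := by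
    rw [cm2_val, Matrix.det_fin_two_of]
    ring
  have hdeti : (((cm2 t)⁻¹ : GL (Fin 2) F) : Matrix (Fin 2) (Fin 2) F).det = 1 := by
    show (!![t, 1; -1, 0] : Matrix (Fin 2) (Fin 2) F).det = 1
    rw [Matrix.det_fin_two_of]
    ring
  have tr1 : Matrix.trace ((cm2 t : GL (Fin 2) F) : Matrix (Fin 2) (Fin 2) F) = t := by
    rw [cm2_val, Matrix.trace_fin_two_of]
    ring
  have tr2 : Matrix.trace (((cm2 t)⁻¹ : GL (Fin 2) F) : Matrix (Fin 2) (Fin 2) F) = t := by
    show Matrix.trace (!![t, 1; -1, 0] : Matrix (Fin 2) (Fin 2) F) = t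
    rw [Matrix.trace_fin_two_of]
    ring
  refine ⟨x, ⟨mdl_mem_GU B _, ?_⟩, hx5, hns, ?_⟩
  · show x ∈ Cfsg.Geo.specialLinear (Fin 4) F
    rw [Cfsg.Agent.Lib.H28.mem_specialLinear_iff, hx, mdl_det, hdet, hdeti, map_one, mul_one]
  · intro g hmem
    haveI : Fact (Nat.Prime 5) := ⟨Nat.prime_five⟩
    have hc := (h.derange_core 5 ⟨1, by rw [hx5, Units.val_one, one_smul]⟩ hns g hmem).2.1 rfl
    have t1 : Matrix.trace (x : M4) = 2 * t := by
      rw [hx, trace_mdl, tr1, tr2, hτ]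
      ring
    have t2 : Matrix.trace ((x⁻¹ : G4) : M4) = 2 * t := by
      rw [hx, ← map_inv, trace_mdl, inv_inv, tr1, tr2, hτ]
      ring
    rw [t1, t2] at hc
    have h2 := h.two_ne
    rcases hc with h1 | h1
    · have e : (2 : F) * 2 * 2 * 2 * (t * t) = 0 := by linear_combination h1
      have ht0 : t = 0 := by
        rcases mul_eq_zero.1 e with h4 | h4
        · exfalso
          rcases mul_eq_zero.1 h4 with h5' | h5'
          · rcases mul_eq_zero.1 h5' with h6 | h6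
            · rcases mul_eq_zero.1 h6 with h7 | h7 <;> exact h2 h7
            · exact h2 h6
          · exact h2 h5'
        · exact mul_self_eq_zero.1 h4
      rw [ht0] at ht
      norm_num at ht
    · have e : (2 : F) * 2 * (4 * t ^ 2 - 1) = 0 := by linear_combination h1
      have e' : 4 * t ^ 2 - 1 = 0 := by
        rcases mul_eq_zero.1 e with h4 | h4
        · exfalso
          rcases mul_eq_zero.1 h4 with h5' | h5' <;> exact h2 h5'
        · exact h4
      apply h5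
      linear_combination (4 * t + 7) * e' - (16 * t + 12) * ht

end five

end Cfsg.Agent.Lib.H25.Su4
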