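import Mathlib
import Cfsg.Agent.Lib.H25.Su4J
import Cfsg.Agent.Lib.H25.Ex4M

/-!
# Arithmetic in the field with `p²` elements for S6001 (helper25)
-/

set_option autoImplicit false

namespace Cfsg.Agent.Lib.H25.Su4

open Cfsg.Agent.Lib.H13.AutPSU

variable {F : Type*} [Field F] [Fintype F] {p : ℕ} [Fact p.Prime] [CharP F p] (D : UF F p)

theorem two_ne_zero_of (hp2 : p ≠ 2) : (2 : F) ≠ 0 := by
  have hp : p.Prime := Fact.out
  intro h
  have h1 : ((2 : ℕ) : F) = 0 := by exact_mod_cast h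
  rw [CharP.cast_eq_zero_iff F p] at h1
  exact hp2 ((Nat.prime_dvd_prime_iff_eq hp Nat.prime_two).1 h1)

theorem prime_cast_ne_zero {n : ℕ} (hn : n.Prime) (hne : n ≠ p) : ((n : ℕ) : F) ≠ 0 := by
  have hp : p.Prime := Fact.out
  intro h
  rw [CharP.cast_eq_zero_iff F p] at h
  exact hne ((Nat.prime_dvd_prime_iff_eq hp hn).1 h).symm

/-- elements of the prime field are squares in the field with `p²` elements -/
theorem exists_sqrt_of_fixed (hF : Fintype.card F = p ^ 2) (hp2 : p ≠ 2) (a : F)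
    (ha : D.τ a = a) : ∃ b : F, b * b = a := by
  by_cases ha0 : a = 0
  · exact ⟨0, by rw [ha0, mul_zero]⟩
  have hp : p.Prime := Fact.out
  have hodd : p % 2 = 1 := hp.eq_two_or_odd.resolve_left hp2
  have h1 : a ^ (p - 1) = 1 := by
    have h2 : a ^ p = a := by rw [← D.hτ]; exact ha
    have : a ^ (p - 1) * a = 1 * a := by
      rw [← pow_succ, Nat.sub_add_cancel hp.one_lt.le, h2, one_mul]
    exact mul_right_cancel₀ ha0 this
  have hsq : IsSquare a := by
    rw [FiniteField.isSquare_iff (by rw [ringChar.eq F p]; exact hp2) ha0, hF]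
    have e : p ^ 2 / 2 = (p - 1) * ((p + 1) / 2) := by
      obtain ⟨k, hk⟩ : ∃ k, p = 2 * k + 1 := ⟨p / 2, by omega⟩
      rw [hk]
      have e1 : (2 * k + 1) ^ 2 = 2 * (2 * k * (k + 1)) + 1 := by ring
      have e2 : 2 * k + 1 - 1 = 2 * k := by omega
      have e3 : (2 * k + 1 + 1) / 2 = k + 1 := by omega
      rw [e1, e2, e3]
      omega
    rw [e, pow_mul, h1, one_pow]
  obtain ⟨b, hb⟩ := hsq
  exact ⟨b, hb.symm⟩

theorem tau_natCast (n : ℕ) : D.τ (n : F) = n := map_natCast D.τ n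

include D in
/-- a primitive cube root of unity -/
theorem exists_omega (hF : Fintype.card F = p ^ 2) (hp2 : p ≠ 2) :
    ∃ ω : F, ω ^ 2 + ω + 1 = 0 := by
  have h2 := two_ne_zero_of (F := F) hp2
  obtain ⟨s, hs⟩ := exists_sqrt_of_fixed D hF hp2 (-3) (by
    rw [map_neg, map_ofNat])
  refine ⟨(-1 + s) / 2, ?_⟩
  field_simp
  linear_combination hs

theorem tau_omega (ω : F) (hω : ω ^ 2 + ω + 1 = 0) : D.τ ω = ω ^ (p % 3) := by
  have h3 : ω ^ 3 = 1 := by linear_combination (ω - 1) * hω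
  rw [D.hτ]
  conv_lhs => rw [← Nat.div_add_mod p 3]
  rw [pow_add, pow_mul, h3, one_pow, one_mul]

/-- fifth roots of unity are trivial when `5 ∤ p² - 1` -/
theorem root_five (hF : Fintype.card F = p ^ 2) (h5 : ¬ 5 ∣ p ^ 2 - 1) (z : F) (hz : z ^ 5 = 1) :
    z = 1 := by
  have hz0 : z ≠ 0 := by
    intro h0
    rw [h0] at hz
    norm_num at hz
  have h1 : z ^ (p ^ 2 - 1) = 1 := by
    rw [← hF]
    exact FiniteField.pow_card_sub_one_eq_one z hz0
  have h2 : Nat.gcd 5 (p ^ 2 - 1) = 1 := (Nat.Prime.coprime_iff_not_dvd Nat.prime_five).2 h5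
  have h3 := pow_gcd_eq_one.2 ⟨hz, h1⟩
  rwa [h2, pow_one] at h3

/-- a root of `X² + X - 1` moved by the involution, when `p` has order four modulo five -/
theorem exists_golden (hF : Fintype.card F = p ^ 2) (hp2 : p ≠ 2)
    (h4 : orderOf (p : ZMod 5) = 4) :
    (5 : F) ≠ 0 ∧ (∀ z : F, z ^ 5 = 1 → z = 1) ∧
      ∃ t : F, t ^ 2 + t - 1 = 0 ∧ D.τ t = -1 - t := by
  have hp : p.Prime := Fact.out
  obtain ⟨h5p, hmin⟩ := Ex4.hmin_of_order hp h4
  have h5 : (5 : F) ≠ 0 := by
    have := prime_cast_ne_zero (F := F) (p := p) Nat.prime_five (by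
      intro h
      apply h5p
      rw [← h])
    exact_mod_cast this
  have h2 := two_ne_zero_of (F := F) hp2
  have hroot : ∀ z : F, z ^ 5 = 1 → z = 1 := root_five hF (hmin 2 (by norm_num) (by norm_num))
  refine ⟨h5, hroot, ?_⟩
  obtain ⟨s, hs⟩ := exists_sqrt_of_fixed D hF hp2 5 (by rw [map_ofNat])
  set t : F := (s - 1) / 2 with ht
  have htt : t ^ 2 + t - 1 = 0 := by
    rw [ht]
    field_simp
    linear_combination hs
  refine ⟨t, htt, ?_⟩
  have h1 : (D.τ t) ^ 2 + D.τ t - 1 = 0 := by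
    have := congrArg D.τ htt
    rwa [map_sub, map_add, map_pow, map_one, map_zero] at this
  have h3 : (D.τ t - t) * (D.τ t + t + 1) = 0 := by linear_combination h1 - htt
  rcases mul_eq_zero.1 h3 with h6 | h6
  · exfalso
    have hfix : D.τ t = t := sub_eq_zero.1 h6
    obtain ⟨d, hd⟩ := exists_sqrt_of_fixed D hF hp2 (t ^ 2 - 4) (by
      rw [map_sub, map_pow, hfix, map_ofNat])
    apply quad_no_root t htt h5 hroot ((t + d) / 2)
    field_simp
    linear_combination hd
  · linear_combination h6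

end Cfsg.Agent.Lib.H25.Su4
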