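import Mathlib
import Cfsg.Agent.Lib.H25.Su4F
import Cfsg.Agent.Lib.H25.Su4H
import Cfsg.Agent.Lib.H25.Su4J

/-!
# Elements of order three and five of `SU_4(p)` fixing a coset of `N(4 ∘ 2^{1+4})` (helper25)
-/

set_option autoImplicit false
open scoped MatrixGroups
open Matrix

namespace Cfsg.Agent.Lib.H25.Su4

open Cfsg.Agent.Lib.H13.AutPSU

variable {F : Type*} [Field F] {q : ℕ}

local notation "M4" => Matrix (Fin 4) (Fin 4) F
local notation "G4" => GL (Fin 4) F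

theorem zGL_mem_GU (D : UF F q) (c : F) (hc : c ≠ 0) (hcc : c * D.τ c = 1) :
    zGL c hc ∈ Cfsg.GU 4 F q := by
  rw [mem_GU_iff_ct (D := D), zGL_val, ct_smul, ct_one, Matrix.smul_mul, Matrix.mul_smul,
    Matrix.one_mul, smul_smul, mul_comm, hcc, one_smul]

/-- the scalar `x ^ r` of an element of `SU_4` -/
theorem scalar_facts (D : UF F q) (x : G4) (hxU : x ∈ Cfsg.GU 4 F q)
    (hxS : x ∈ Cfsg.Geo.specialLinear (Fin 4) F) (r : ℕ) (z : F)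
    (hz : ((x ^ r : G4) : M4) = z • (1 : M4)) : z ≠ 0 ∧ z * D.τ z = 1 ∧ z ^ 4 = 1 := by
  have hdet : (x : M4).det = 1 := (Cfsg.Agent.Lib.H28.mem_specialLinear_iff x).1 hxS
  have h4 : z ^ 4 = 1 := by
    have := congrArg Matrix.det hz
    rw [Units.val_pow_eq_pow_val, Matrix.det_pow, hdet, one_pow, Matrix.det_smul, Matrix.det_one,
      mul_one, Fintype.card_fin] at this
    exact this.symm
  have hz0 : z ≠ 0 := by
    intro h0
    rw [h0] at h4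
    norm_num at h4
  refine ⟨hz0, ?_, h4⟩
  have hU : x ^ r ∈ Cfsg.GU 4 F q := Subgroup.pow_mem _ hxU r
  have h1 := ct_of_mem D _ hU
  rw [hz, ct_smul, ct_one, Matrix.smul_mul, Matrix.mul_smul, Matrix.one_mul, smul_smul] at h1
  have h2 := congrFun (congrFun h1 0) 0
  simp only [Matrix.smul_apply, Matrix.one_apply_eq, smul_eq_mul, mul_one] at h2
  rw [mul_comm]
  exact h2

/-- multiplying by a scalar to get an element of order `r` -/
theorem normalized (D : UF F q) (x : G4) (hxU : x ∈ Cfsg.GU 4 F q) (r : ℕ) (c z : F) (hc : c ≠ 0)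
    (hcc : c * D.τ c = 1) (hz : ((x ^ r : G4) : M4) = z • (1 : M4)) (hcz : c ^ r * z = 1)
    (hns : ∀ a : F, (x : M4) ≠ a • (1 : M4)) :
    zGL c hc * x ∈ Cfsg.GU 4 F q ∧ (zGL c hc * x) ^ r = 1 ∧ zGL c hc * x ≠ 1 := by
  refine ⟨Subgroup.mul_mem _ (zGL_mem_GU D c hc hcc) hxU, ?_, ?_⟩
  · have hcomm : Commute (zGL c hc) x := zGL_comm c hc x
    rw [hcomm.mul_pow]
    apply Units.ext
    rw [Units.val_mul, hz, Units.val_pow_eq_pow_val, zGL_val, smul_pow, one_pow, Matrix.smul_mul,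
      Matrix.mul_smul, Matrix.one_mul, smul_smul, hcz, one_smul, Units.val_one]
  · intro h1
    apply hns c⁻¹
    have h2 : x = (zGL c hc)⁻¹ := by
      rw [eq_inv_iff_mul_eq_one, ← zGL_comm]
      exact h1
    rw [h2]
    rfl

theorem lift_conj {R : Subgroup (GL (Fin 4) F)} (x : G4) (c : F) (hc : c ≠ 0) (g : G4)
    (hmem : g⁻¹ * (zGL c hc * x) * g ∈ Subgroup.normalizer (R : Set G4)) :
    g⁻¹ * x * g ∈ Subgroup.normalizer (R : Set G4) := by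
  have e : g⁻¹ * x * g = (zGL c hc)⁻¹ * (g⁻¹ * (zGL c hc * x) * g) := by
    have e1 : g⁻¹ * (zGL c hc * x) * g = zGL c hc * (g⁻¹ * x * g) := by
      rw [← mul_assoc g⁻¹, ← zGL_comm c hc g⁻¹]
      group
    rw [e1, ← mul_assoc, inv_mul_cancel, one_mul]
  rw [e]
  exact Subgroup.mul_mem _ (Subgroup.inv_mem _ (zGL_mem_normalizer c hc)) hmem

theorem conj_compose {S : Subgroup G4} {x w y g₁ g₂ : G4} (h1 : g₁ ∈ S) (h2 : g₂ ∈ S)
    (e1 : g₁⁻¹ * x * g₁ = y) (e2 : g₂⁻¹ * w * g₂ = y) : ∃ g ∈ S, g⁻¹ * x * g = w := by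
  refine ⟨g₁ * g₂⁻¹, S.mul_mem h1 (S.inv_mem h2), ?_⟩
  have hw : w = g₂ * y * g₂⁻¹ := by
    rw [← e2]
    group
  rw [hw, ← e1]
  group

theorem val_cube (x : G4) : ((x ^ 3 : G4) : M4) = (x : M4) * (x : M4) * (x : M4) := by
  rw [Units.val_pow_eq_pow_val, pow_succ, pow_two]

section model

variable {D : UF F q}

/-- the model element of type A satisfies `y² + y + 1 = 0` -/
theorem model3_quad (B : Frame D 4 2 0) (ω : F) (hω0 : ω ≠ 0) (hω : ω ^ 2 + ω + 1 = 0)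
    (hτ : D.τ ω = ω) :
    ((mdl B (sc2 ω hω0) : G4) : M4) * ((mdl B (sc2 ω hω0) : G4) : M4) +
      ((mdl B (sc2 ω hω0) : G4) : M4) + 1 = 0 := by
  have hω3 : ω ^ 3 = 1 := by linear_combination (ω - 1) * hω
  have hinv : ω⁻¹ = ω ^ 2 := by
    apply inv_eq_of_mul_eq_one_right
    linear_combination hω3
  have e1 : ((sc2 ω hω0 : GL (Fin 2) F) : Matrix (Fin 2) (Fin 2) F) = ω • 1 := rfl
  have e2 : (((sc2 ω hω0)⁻¹ : GL (Fin 2) F) : Matrix (Fin 2) (Fin 2) F) = ω⁻¹ • 1 := rfl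
  rw [mdl_val, e1, e2, ct_smul, ct_one, map_inv₀, hτ, hinv,
    Cfsg.Agent.Lib.H13.AutPSU.R_mul, ← R_add']
  rw [← R_one B, ← R_add']
  have a1 : (ω • (1 : Matrix (Fin 2) (Fin 2) F)) * (ω • 1) + ω • 1 + 1 = 0 := by
    rw [Matrix.smul_mul, Matrix.mul_smul, Matrix.one_mul, smul_smul]
    have : (ω * ω) • (1 : Matrix (Fin 2) (Fin 2) F) + ω • 1 + 1 = (ω ^ 2 + ω + 1) • 1 := by
      rw [add_smul, add_smul, one_smul, pow_two]
    rw [this, hω, zero_smul]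
  have a2 : ((ω ^ 2) • (1 : Matrix (Fin 2) (Fin 2) F)) * ((ω ^ 2) • 1) + (ω ^ 2) • 1 + 1 = 0 := by
    rw [Matrix.smul_mul, Matrix.mul_smul, Matrix.one_mul, smul_smul]
    have : (ω ^ 2 * ω ^ 2) • (1 : Matrix (Fin 2) (Fin 2) F) + (ω ^ 2) • 1 + 1 =
        (ω ^ 2 * ω ^ 2 + ω ^ 2 + 1) • 1 := by
      rw [add_smul, add_smul, one_smul]
    have e : ω ^ 2 * ω ^ 2 + ω ^ 2 + 1 = 0 := by linear_combination (ω ^ 2 - ω + 1) * hω
    rw [this, e, zero_smul]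
  have a3 : (1 : Matrix (Fin 0) (Fin 0) F) * 1 + 1 + 1 = 0 := Subsingleton.elim _ _
  rw [a1, a2, a3, R_zero']

end model

variable [Fintype F] {R : Subgroup (GL (Fin 4) F)} {ι : GL (Fin 4) F}

/-- every element of order three (modulo scalars) of `SU_4` fixes a coset when `ω̄ = ω` -/
theorem Sy.three_suff (h : Sy R ι) (D : UF F q) (hRU : R ≤ Cfsg.GU 4 F q) (B : Frame D 4 2 0)
    (ω : F) (hω : ω ^ 2 + ω + 1 = 0) (hτ : D.τ ω = ω) (h3 : (3 : F) ≠ 0)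
    (x : G4) (hx : x ∈ Cfsg.GU 4 F q ⊓ Cfsg.Geo.specialLinear (Fin 4) F)
    (hxr : ∃ z : F, ((x ^ 3 : G4) : M4) = z • (1 : M4))
    (hns : ∀ z : F, (x : M4) ≠ z • (1 : M4)) :
    ∃ g ∈ Cfsg.GU 4 F q ⊓ Cfsg.Geo.specialLinear (Fin 4) F,
      g⁻¹ * x * g ∈ Subgroup.normalizer (R : Set G4) := by
  obtain ⟨z, hz⟩ := hxr
  obtain ⟨hz0, hzz, hz4⟩ := scalar_facts D x hx.1 hx.2 3 z hz
  obtain ⟨hx'U, hx'3, hx'1⟩ := normalized D x hx.1 3 z z hz0 hzz hz (by linear_combination hz4) hns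
  suffices hs : ∃ g ∈ Cfsg.GU 4 F q ⊓ Cfsg.Geo.specialLinear (Fin 4) F,
      g⁻¹ * (zGL z hz0 * x) * g ∈ Subgroup.normalizer (R : Set G4) by
    obtain ⟨g, hg, hmem⟩ := hs
    exact ⟨g, hg, lift_conj x z hz0 g hmem⟩
  obtain ⟨x', hx'⟩ : ∃ x' : G4, x' = zGL z hz0 * x := ⟨_, rfl⟩
  rw [← hx'] at hx'U hx'3 hx'1 ⊢
  obtain ⟨-, hω0, -, -, -⟩ := omega_facts ω hω h3
  have hXu := ct_of_mem D x' hx'U
  have hX3 : (x' : M4) * (x' : M4) * (x' : M4) = 1 := by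
    rw [← val_cube, hx'3, Units.val_one]
  have hX1 : (x' : M4) ≠ 1 := by
    intro h1
    apply hx'1
    apply Units.ext
    rw [h1, Units.val_one]
  by_cases hA : (x' : M4) * (x' : M4) + (x' : M4) + 1 = 0
  · -- type A
    obtain ⟨w, ⟨hwN, hwU⟩, hw⟩ := h.exists_ref3a D hRU
    have hy₀U := mdl_mem_GU B (sc2 ω hω0)
    have hy₀ := model3_quad B ω hω0 hω hτ
    have hcent := fun d hd => mdl_cent B (sc2 ω hω0)
      (fun δ hδ => ⟨dg2 δ hδ, sc2_comm ω hω0 _, dg2_det δ hδ⟩) d hd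
    obtain ⟨P, Pi, hP, hPx⟩ := conj3A D ω hω h3 hτ (x' : M4) _ hXu (ct_of_mem D _ hy₀U) hA hy₀
    obtain ⟨g₁, hg₁, e₁⟩ := su_conj_of_gl D x' _ hx'U hy₀U P Pi hP hPx hcent
    obtain ⟨P', Pi', hP', hPw⟩ := conj3A D ω hω h3 hτ (w : M4) _ (ct_of_mem D w hwU)
      (ct_of_mem D _ hy₀U) hw hy₀
    obtain ⟨g₂, hg₂, e₂⟩ := su_conj_of_gl D w _ hwU hy₀U P' Pi' hP' hPw hcent
    obtain ⟨g, hg, e⟩ := conj_compose hg₁ hg₂ e₁ e₂
    exact ⟨g, hg, by rw [e]; exact hwN⟩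
  · -- type B
    obtain ⟨v, ⟨hvN, hvU⟩, hv3, hv1, hv⟩ := h.exists_ref3b D hRU h3
    have hVu := ct_of_mem D v hvU
    have hV3 : (v : M4) * (v : M4) * (v : M4) = 1 := by
      rw [← val_cube, hv3, Units.val_one]
    have hV1 : (v : M4) ≠ 1 := by
      intro h1
      apply hv1
      apply Units.ext
      rw [h1, Units.val_one]
    obtain ⟨P, Pi, hP, hPx⟩ := conj3B D ω hω h3 hτ (x' : M4) (v : M4) hXu hVu hX3 hV3 hX1 hV1 hA hv
    obtain ⟨V, hV⟩ : ∃ V : M4, V = (v : M4) := ⟨_, rfl⟩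
    rw [← hV] at hVu hV3 hV1 hv
    set S : M4 := V * V + V + 1 with hS
    have hVS : V * S = S := by
      rw [hS, Matrix.mul_add, Matrix.mul_add, Matrix.mul_one, ← Matrix.mul_assoc, hV3]
      abel
    have hSV : S * V = S := by
      rw [hS, Matrix.add_mul, Matrix.add_mul, Matrix.one_mul, hV3]
      abel
    have hSS : S * S = (3 : F) • S := by
      have : S * S = V * (V * S) + V * S + S := by
        nth_rewrite 1 [hS]
        rw [Matrix.add_mul, Matrix.add_mul, Matrix.one_mul, Matrix.mul_assoc]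
      rw [this, hVS, hVS]
      rw [show (3 : F) = 1 + 1 + 1 by norm_num, add_smul, add_smul, one_smul]
    have hctV : ct D V = V * V := ct_of_cube D V hVu hV3
    have hctS : ct D S = S := by
      rw [hS, ct_add, ct_add, ct_mul, ct_one, hctV]
      have : V * V * (V * V) = V := by
        calc V * V * (V * V) = V * (V * V * V) := by simp only [Matrix.mul_assoc]
          _ = V := by rw [hV3, Matrix.mul_one]
      rw [this]
      abel
    have hcent : ∀ d : F, d * D.τ d = 1 → ∃ c : M4, ct D c * c = 1 ∧ c * V = V * c ∧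
        c.det = d := by
      intro d hd
      apply exists_cent_of_proj D V ((3 : F)⁻¹ • S) 1 _ _ _ _ _ d hd
      · rw [ct_smul, hctS, map_inv₀, map_ofNat]
      · rw [Matrix.smul_mul, Matrix.mul_smul, hSS, smul_smul, smul_smul]
        congr 1
        field_simp
      · intro h0
        rcases smul_eq_zero.1 h0 with h4 | h4
        · exact h3 (inv_eq_zero.1 h4)
        · exact hv h4
      · rw [Matrix.mul_smul, hVS, one_smul]
      · rw [Matrix.smul_mul, hSV, one_smul]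
    rw [hV] at hcent
    obtain ⟨g, hg, e⟩ := su_conj_of_gl D x' v hx'U hvU P Pi hP hPx hcent
    exact ⟨g, hg, by rw [e]; exact hvN⟩

/-- every element of order five (modulo scalars) of `SU_4` fixes a coset when the roots of
`X² + X - 1` are swapped by the involution -/
theorem Sy.five_suff (h : Sy R ι) (D : UF F q) (hRU : R ≤ Cfsg.GU 4 F q) (B : Frame D 4 2 0)
    (t : F) (ht : t ^ 2 + t - 1 = 0) (h5 : (5 : F) ≠ 0) (hroot : ∀ z : F, z ^ 5 = 1 → z = 1)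
    (hτ : D.τ t = -1 - t)
    (x : G4) (hx : x ∈ Cfsg.GU 4 F q ⊓ Cfsg.Geo.specialLinear (Fin 4) F)
    (hxr : ∃ z : F, ((x ^ 5 : G4) : M4) = z • (1 : M4))
    (hns : ∀ z : F, (x : M4) ≠ z • (1 : M4)) :
    ∃ g ∈ Cfsg.GU 4 F q ⊓ Cfsg.Geo.specialLinear (Fin 4) F,
      g⁻¹ * x * g ∈ Subgroup.normalizer (R : Set G4) := by
  obtain ⟨z, hz⟩ := hxr
  obtain ⟨hz0, hzz, hz4⟩ := scalar_facts D x hx.1 hx.2 5 z hz
  have hc0 : z ^ 3 ≠ 0 := pow_ne_zero 3 hz0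
  have hcc : z ^ 3 * D.τ (z ^ 3) = 1 := by
    rw [map_pow, ← mul_pow, hzz, one_pow]
  have hcz : (z ^ 3) ^ 5 * z = 1 := by
    have : (z ^ 3) ^ 5 * z = (z ^ 4) ^ 4 := by ring
    rw [this, hz4, one_pow]
  obtain ⟨hx'U, hx'5, hx'1⟩ := normalized D x hx.1 5 (z ^ 3) z hc0 hcc hz hcz hns
  suffices hs : ∃ g ∈ Cfsg.GU 4 F q ⊓ Cfsg.Geo.specialLinear (Fin 4) F,
      g⁻¹ * (zGL (z ^ 3) hc0 * x) * g ∈ Subgroup.normalizer (R : Set G4) by
    obtain ⟨g, hg, hmem⟩ := hs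
    exact ⟨g, hg, lift_conj x (z ^ 3) hc0 g hmem⟩
  obtain ⟨x', hx'⟩ : ∃ x' : G4, x' = zGL (z ^ 3) hc0 * x := ⟨_, rfl⟩
  rw [← hx'] at hx'U hx'5 hx'1 ⊢
  have val_one_iff : ∀ u : G4, (u : M4) = 1 → u = 1 := by
    intro u hu
    apply Units.ext
    rw [hu, Units.val_one]
  have val_pow5 : ∀ u : G4, u ^ 5 = 1 → (u : M4) ^ 5 = 1 := by
    intro u hu
    rw [← Units.val_pow_eq_pow_val, hu, Units.val_one]
  obtain ⟨w, ⟨hwN, hwU⟩, hwo⟩ := h.exists_order_five D hRU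
  have hw5 : w ^ 5 = 1 := by rw [← hwo]; exact pow_orderOf_eq_one w
  have hw1 : w ≠ 1 := by
    intro h1
    rw [h1, orderOf_one] at hwo
    norm_num at hwo
  have hΔ : t ^ 2 - 4 ≠ 0 := by
    intro h0
    apply h5
    linear_combination (t - 2) * h0 - (t - 3) * ht
  have hy₀U := mdl_mem_GU B (cm2 t)
  have hy₀5 : (mdl B (cm2 t)) ^ 5 = 1 := by rw [← map_pow, cm2_pow_five t ht, map_one]
  have hy₀1 : mdl B (cm2 t) ≠ 1 := by
    intro h1
    rw [← map_one (mdl B)] at h1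
    exact cm2_ne_one t (mdl_injective B h1)
  have hcent := fun d hd => mdl_cent B (cm2 t) (cm2_cent t hΔ) d hd
  obtain ⟨P, Pi, hP, hPx⟩ := conj5 D t ht h5 hroot hτ (x' : M4) _ (ct_of_mem D x' hx'U)
    (ct_of_mem D _ hy₀U) (val_pow5 _ hx'5) (val_pow5 _ hy₀5) (fun h1 => hx'1 (val_one_iff _ h1))
    (fun h1 => hy₀1 (val_one_iff _ h1))
  obtain ⟨g₁, hg₁, e₁⟩ := su_conj_of_gl D x' _ hx'U hy₀U P Pi hP hPx hcent
  obtain ⟨P', Pi', hP', hPw⟩ := conj5 D t ht h5 hroot hτ (w : M4) _ (ct_of_mem D w hwU)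
    (ct_of_mem D _ hy₀U) (val_pow5 _ hw5) (val_pow5 _ hy₀5) (fun h1 => hw1 (val_one_iff _ h1))
    (fun h1 => hy₀1 (val_one_iff _ h1))
  obtain ⟨g₂, hg₂, e₂⟩ := su_conj_of_gl D w _ hwU hy₀U P' Pi' hP' hPw hcent
  obtain ⟨g, hg, e⟩ := conj_compose hg₁ hg₂ e₁ e₂
  exact ⟨g, hg, by rw [e]; exact hwN⟩

end Cfsg.Agent.Lib.H25.Su4
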