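import Mathlib
import Cfsg.Agent.Lib.H25.Su4I
import Cfsg.Agent.Lib.H11.SuDec10
import Cfsg.Agent.Lib.H13.InvolConjLin

/-!
# Involutions in `GL_4`: determinant, trace and conjugacy by the dimension of the `-1`-eigenspace
(helper25)
-/

set_option autoImplicit false
open scoped MatrixGroups
open Matrix Module

namespace Cfsg.Agent.Lib.H25.Su4

open Cfsg.Agent.Lib.H11.SuDec (Sg Sg_mul_Sg finrank_ker_Sg invol_of_sq det_of_invol toLin'_add_id)

variable {F : Type*} [Field F]

local notation "M4" => Matrix (Fin 4) (Fin 4) F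

theorem kd_add_one (u : M4) :
    kd (u + 1) = finrank F (LinearMap.ker (Matrix.toLin' u + LinearMap.id)) := by
  unfold kd
  rw [toLin'_add_id]

theorem kd_le_four (X : M4) : kd X ≤ 4 := by
  unfold kd
  have := Submodule.finrank_le (LinearMap.ker (Matrix.toLin' X))
  rwa [finrank_V4] at this

theorem trace_Sg (b a : ℕ) : Matrix.trace (Sg F b a) = -(b : F) + a := by
  unfold Matrix.trace Sg
  rw [Fintype.sum_sum_type]
  simp [Matrix.diag]

theorem trace_submatrix_equiv' {m : Type*} [Fintype m] (e : Fin 4 ≃ m) (M : Matrix m m F) :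
    Matrix.trace (M.submatrix e e) = Matrix.trace M := by
  unfold Matrix.trace
  exact Equiv.sum_comp e (fun j => M j j)

/-- involutions with `-1`-eigenspaces of the same dimension are conjugate -/
theorem invol_conj (h2 : (2 : F) ≠ 0) (u v : M4) (hu : u * u = 1) (hv : v * v = 1)
    (h : kd (u + 1) = kd (v + 1)) : ∃ P Pi : M4, P * Pi = 1 ∧ P * u = v * P := by
  rw [kd_add_one, kd_add_one] at h
  obtain ⟨g, hg⟩ := Cfsg.Agent.Lib.H13.InvolConjLin.conj_of_finrank h2 _ _ (invol_of_sq u hu)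
    (invol_of_sq v hv) h
  exact Cfsg.Agent.Lib.H11.InvCls.mat_of_conj u v g hg

/-- the determinant and the trace of an involution -/
theorem invol_data (h2 : (2 : F) ≠ 0) (u : M4) (hu : u * u = 1) :
    u.det = (-1) ^ kd (u + 1) ∧ Matrix.trace u = 4 - 2 * (kd (u + 1) : F) := by
  constructor
  · rw [kd_add_one]
    exact det_of_invol h2 u hu
  · set b' := kd (u + 1) with hb'
    have hb4 : b' ≤ 4 := kd_le_four _
    set a' := 4 - b' with ha'
    let e : Fin 4 ≃ Fin b' ⊕ Fin a' :=
      (finCongr (by omega)).trans (finSumFinEquiv (m := b') (n := a')).symm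
    have hDD : (Sg F b' a').submatrix e e * (Sg F b' a').submatrix e e = 1 := by
      rw [Matrix.submatrix_mul_equiv, Sg_mul_Sg, Matrix.submatrix_one_equiv]
    have hk : kd ((Sg F b' a').submatrix e e + 1) = b' := by
      rw [kd_add_one]
      exact finrank_ker_Sg h2 b' a' e
    obtain ⟨P, Pi, hP, hconj⟩ := invol_conj h2 u _ hu hDD (hb'.symm.trans hk.symm)
    have hP2 : Pi * P = 1 := mul_eq_one_comm.mp hP
    have e1 : u = Pi * ((Sg F b' a').submatrix e e * P) := by
      rw [← hconj, ← Matrix.mul_assoc, hP2, Matrix.one_mul]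
    rw [e1, Matrix.trace_mul_comm, Matrix.mul_assoc, hP, Matrix.mul_one, trace_submatrix_equiv',
      trace_Sg, ha', Nat.cast_sub hb4]
    push_cast
    ring

theorem kd_eq_two_of_trace (h2 : (2 : F) ≠ 0) (u : M4) (hu : u * u = 1)
    (ht : Matrix.trace u = 0) : kd (u + 1) = 2 := by
  have h1 := (invol_data h2 u hu).2
  have hb4 := kd_le_four (u + 1)
  rw [ht] at h1
  obtain ⟨b, hb⟩ : ∃ b, b = kd (u + 1) := ⟨_, rfl⟩
  rw [← hb] at h1 hb4 ⊢
  have h4 : (2 : F) * 2 ≠ 0 := mul_ne_zero h2 h2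
  interval_cases b
  · exfalso; apply h4; push_cast at h1; linear_combination -h1
  · exfalso; apply h2; push_cast at h1; linear_combination -h1
  · rfl
  · exfalso; apply h2; push_cast at h1; linear_combination h1
  · exfalso; apply h4; push_cast at h1; linear_combination h1

theorem kd_eq_one_of_trace (h2 : (2 : F) ≠ 0) (h3 : (3 : F) ≠ 0) (u : M4) (hu : u * u = 1)
    (ht : Matrix.trace u = 2) : kd (u + 1) = 1 := by
  have h1 := (invol_data h2 u hu).2
  have hb4 := kd_le_four (u + 1)
  rw [ht] at h1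
  obtain ⟨b, hb⟩ : ∃ b, b = kd (u + 1) := ⟨_, rfl⟩
  rw [← hb] at h1 hb4 ⊢
  have h4 : (2 : F) * 2 ≠ 0 := mul_ne_zero h2 h2
  have h6 : (2 : F) * 3 ≠ 0 := mul_ne_zero h2 h3
  interval_cases b
  · exfalso; apply h2; push_cast at h1; linear_combination -h1
  · rfl
  · exfalso; apply h2; push_cast at h1; linear_combination h1
  · exfalso; apply h4; push_cast at h1; linear_combination h1
  · exfalso; apply h6; push_cast at h1; linear_combination h1

theorem kd_eq_three_of_trace (h2 : (2 : F) ≠ 0) (h3 : (3 : F) ≠ 0) (u : M4) (hu : u * u = 1)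
    (ht : Matrix.trace u = -2) : kd (u + 1) = 3 := by
  have h1 := (invol_data h2 u hu).2
  have hb4 := kd_le_four (u + 1)
  rw [ht] at h1
  obtain ⟨b, hb⟩ : ∃ b, b = kd (u + 1) := ⟨_, rfl⟩
  rw [← hb] at h1 hb4 ⊢
  have h4 : (2 : F) * 2 ≠ 0 := mul_ne_zero h2 h2
  have h6 : (2 : F) * 3 ≠ 0 := mul_ne_zero h2 h3
  interval_cases b
  · exfalso; apply h6; push_cast at h1; linear_combination -h1
  · exfalso; apply h4; push_cast at h1; linear_combination -h1
  · exfalso; apply h2; push_cast at h1; linear_combination -h1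
  · rfl
  · exfalso; apply h2; push_cast at h1; linear_combination h1

/-- an involution without `-1`-eigenvectors is trivial -/
theorem invol_eq_one_of_kd (u : M4) (hu : u * u = 1) (h : kd (u + 1) = 0) : u = 1 := by
  rw [kd_eq_zero_iff] at h
  apply Matrix.toLin'.injective
  apply LinearMap.ext
  intro v
  rw [Matrix.toLin'_apply, Matrix.toLin'_one, LinearMap.id_apply]
  have h1 : (u + 1) *ᵥ (u *ᵥ v - v) = 0 := by
    rw [Matrix.mulVec_sub, Matrix.add_mulVec, Matrix.add_mulVec, Matrix.one_mulVec,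
      Matrix.one_mulVec, Matrix.mulVec_mulVec, hu, Matrix.one_mulVec]
    abel
  exact sub_eq_zero.1 (h _ h1)

theorem invol_eq_neg_one_of_kd (u : M4) (h : kd (u + 1) = 4) : u = -1 := by
  rw [kd_eq_four_iff] at h
  exact eq_neg_of_add_eq_zero_left h

end Cfsg.Agent.Lib.H25.Su4
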