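import Mathlib
import Cfsg.Agent.Lib.H25.Su4O
import Cfsg.Agent.Lib.H25.Su4P
import Cfsg.Agent.Lib.H25.Su4N
import Cfsg.Agent.Lib.H25.Su4M

/-!
# Elements of order two (modulo scalars) of `SU_4(p)`, `p ≡ 3 (mod 4)`, fix a coset of
`N(4 ∘ 2^{1+4})` (helper25)
-/

set_option autoImplicit false
open scoped MatrixGroups
open Matrix

namespace Cfsg.Agent.Lib.H25.Su4

open Cfsg.Agent.Lib.H13.AutPSU

variable {F : Type*} [Field F] {q : ℕ}

local notation "M4" => Matrix (Fin 4) (Fin 4) F
local notation "G4" => GL (Fin 4) F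

/-- the final step: `x = λ y` with `y` an involution conjugate in `GL` to a unitary involution
`ρ` normalizing `R` -/
theorem finish_two [Fintype F] {R : Subgroup (GL (Fin 4) F)} (D : UF F q) (h2 : (2 : F) ≠ 0)
    (x : G4) (hxU : x ∈ Cfsg.GU 4 F q) (lam : F) (hlam0 : lam ≠ 0) (hnorm : lam * D.τ lam = 1)
    (y : M4) (hxy : (x : M4) = lam • y) (hyy : y * y = 1)
    (ρ : G4) (hρN : ρ ∈ Subgroup.normalizer (R : Set G4)) (hρU : ρ ∈ Cfsg.GU 4 F q)
    (hρρ : ρ * ρ = 1) (hρ1 : (ρ : M4) ≠ -1) (hk : kd (y + 1) = kd ((ρ : M4) + 1)) :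
    ∃ g ∈ Cfsg.GU 4 F q ⊓ Cfsg.Geo.specialLinear (Fin 4) F,
      g⁻¹ * x * g ∈ Subgroup.normalizer (R : Set G4) := by
  obtain ⟨A, hA⟩ : ∃ A : M4, A = (ρ : M4) := ⟨_, rfl⟩
  have hAA : A * A = 1 := by
    rw [hA, ← Units.val_mul, hρρ, Units.val_one]
  have hAu : ct D A * A = 1 := by rw [hA]; exact ct_of_mem D ρ hρU
  have hctA : ct D A = A := by
    calc ct D A = ct D A * (A * A) := by rw [hAA, Matrix.mul_one]
      _ = (ct D A * A) * A := by rw [Matrix.mul_assoc]
      _ = A := by rw [hAu, Matrix.one_mul]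
  rw [← hA] at hk hρ1
  obtain ⟨P, Pi, hP, hPy⟩ := invol_conj h2 y A hyy hAA hk
  have hzU := zGL_mem_GU D lam hlam0 hnorm
  have hrefU : zGL lam hlam0 * ρ ∈ Cfsg.GU 4 F q := Subgroup.mul_mem _ hzU hρU
  have hrefN : zGL lam hlam0 * ρ ∈ Subgroup.normalizer (R : Set G4) :=
    Subgroup.mul_mem _ (zGL_mem_normalizer lam hlam0) hρN
  have hrefv : ((zGL lam hlam0 * ρ : G4) : M4) = lam • A := by
    rw [Units.val_mul, zGL_val, Matrix.smul_mul, Matrix.one_mul, hA]
  have hconj : P * (x : M4) = ((zGL lam hlam0 * ρ : G4) : M4) * P := by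
    rw [hrefv, hxy, Matrix.mul_smul, hPy, Matrix.smul_mul]
  set S : M4 := 1 + A with hS
  have hAS : A * S = S := by
    rw [hS, Matrix.mul_add, Matrix.mul_one, hAA, add_comm]
  have hSA : S * A = S := by
    rw [hS, Matrix.add_mul, Matrix.one_mul, hAA, add_comm]
  have hSS : S * S = (2 : F) • S := by
    have : S * S = S + A * S := by
      nth_rewrite 1 [hS]
      rw [Matrix.add_mul, Matrix.one_mul]
    rw [this, hAS, two_smul]
  have hctS : ct D S = S := by rw [hS, ct_add, ct_one, hctA]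
  have hS0 : S ≠ 0 := by
    intro h0
    apply hρ1
    rw [hS] at h0
    exact eq_neg_of_add_eq_zero_right h0
  have hcent : ∀ d : F, d * D.τ d = 1 → ∃ c : M4, ct D c * c = 1 ∧
      c * ((zGL lam hlam0 * ρ : G4) : M4) = ((zGL lam hlam0 * ρ : G4) : M4) * c ∧ c.det = d := by
    intro d hd
    rw [hrefv]
    apply exists_cent_of_proj D (lam • A) ((2 : F)⁻¹ • S) lam _ _ _ _ _ d hd
    · rw [ct_smul, hctS, map_inv₀, map_ofNat]
    · rw [Matrix.smul_mul, Matrix.mul_smul, hSS, smul_smul, smul_smul]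
      congr 1
      field_simp
    · intro h0
      rcases smul_eq_zero.1 h0 with h4 | h4
      · exact h2 (inv_eq_zero.1 h4)
      · exact hS0 h4
    · rw [Matrix.smul_mul, Matrix.mul_smul, hAS]
    · rw [Matrix.smul_mul, Matrix.mul_smul, hSA]
      exact smul_comm _ _ _
  obtain ⟨g, hg, e⟩ := su_conj_of_gl D x _ hxU hrefU P Pi hP hconj hcent
  exact ⟨g, hg, by rw [e]; exact hrefN⟩

variable [Fintype F] {p : ℕ} [Fact p.Prime] [CharP F p]
  {R : Subgroup (GL (Fin 4) F)} {ι : GL (Fin 4) F}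

/-- every element of order two (modulo scalars) of `SU_4(p)` fixes a coset when
`p ≡ 3 (mod 4)` -/
theorem Sy.two_suff (h : Sy R ι) (D : UF F p) (hF : Fintype.card F = p ^ 2) (hp4 : p % 4 = 3)
    (hRU : R ≤ Cfsg.GU 4 F p)
    (x : G4) (hx : x ∈ Cfsg.GU 4 F p ⊓ Cfsg.Geo.specialLinear (Fin 4) F)
    (hxr : ∃ z : F, ((x ^ 2 : G4) : M4) = z • (1 : M4))
    (hns : ∀ z : F, (x : M4) ≠ z • (1 : M4)) :
    ∃ g ∈ Cfsg.GU 4 F p ⊓ Cfsg.Geo.specialLinear (Fin 4) F,
      g⁻¹ * x * g ∈ Subgroup.normalizer (R : Set G4) := by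
  classical
  have hp : p.Prime := Fact.out
  have h2 := h.two_ne
  obtain ⟨z, hz⟩ := hxr
  obtain ⟨hz0, hzz, hz4⟩ := scalar_facts D x hx.1 hx.2 2 z hz
  have hx2 : (x : M4) * (x : M4) = z • 1 := by
    rw [← hz, pow_two, Units.val_mul]
  have hxu := ct_of_mem D x hx.1
  have hdet : (x : M4).det = 1 := (Cfsg.Agent.Lib.H28.mem_specialLinear_iff x).1 hx.2
  -- `z` is a square
  have hzq : z ^ (p + 1) = 1 := by
    rw [pow_succ', ← D.hτ]
    exact hzz
  have hchar : ringChar F ≠ 2 := by
    rw [ringChar.eq F p]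
    intro h'
    rw [h'] at hp4
    omega
  have hsq : IsSquare z := by
    rw [FiniteField.isSquare_iff hchar hz0, hF]
    obtain ⟨t, ht⟩ : ∃ t, p = 2 * t + 1 := ⟨p / 2, by omega⟩
    have : p ^ 2 / 2 = (p + 1) * t := by
      rw [ht]
      have : (2 * t + 1) ^ 2 = 2 * ((2 * t + 1 + 1) * t) + 1 := by ring
      rw [this]
      omega
    rw [this, pow_mul, hzq, one_pow]
  obtain ⟨lam, hlam⟩ := hsq
  have hlam0 : lam ≠ 0 := by
    intro h0
    rw [h0, mul_zero] at hlam
    exact hz0 hlam
  have hnorm2 : (lam * D.τ lam) * (lam * D.τ lam) = 1 := by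
    have : (lam * D.τ lam) * (lam * D.τ lam) = (lam * lam) * D.τ (lam * lam) := by
      rw [map_mul]; ring
    rw [this, ← hlam, hzz]
  have hlamq : lam * D.τ lam = lam ^ (p + 1) := by
    rw [pow_succ', D.hτ]
  obtain ⟨m, hm⟩ : ∃ m, p + 1 = 4 * m := ⟨(p + 1) / 4, by omega⟩
  -- the involution
  obtain ⟨y, hy⟩ : ∃ y : M4, y = lam⁻¹ • (x : M4) := ⟨_, rfl⟩
  have hxy : (x : M4) = lam • y := by
    rw [hy, smul_smul, mul_inv_cancel₀ hlam0, one_smul]
  have hyy : y * y = 1 := by
    rw [hy, Matrix.smul_mul, Matrix.mul_smul, hx2, smul_smul, smul_smul, hlam]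
    have : lam⁻¹ * lam⁻¹ * (lam * lam) = 1 := by field_simp
    rw [this, one_smul]
  obtain ⟨hdy, hty⟩ := invol_data h2 y hyy
  have hdet' : lam ^ 4 * (-1) ^ kd (y + 1) = 1 := by
    rw [← hdy, ← hdet, hxy, Matrix.det_smul, Fintype.card_fin]
  have hb4 := kd_le_four (y + 1)
  rcases mul_self_eq_one_iff.1 hnorm2 with hsplit | hnonsplit
  · -- the split case
    obtain ⟨b, hb⟩ : ∃ b, b = kd (y + 1) := ⟨_, rfl⟩
    rw [← hb] at hdet' hb4
    have hodd : Odd b → (3 : F) ≠ 0 := by
      intro hbo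
      rw [hbo.neg_one_pow] at hdet'
      have h4 : lam ^ 4 = -1 := by linear_combination -hdet'
      have hp3 : p ≠ 3 := by
        intro h3
        have hm1 : m = 1 := by omega
        rw [hlamq, hm, pow_mul, h4, hm1, pow_one] at hsplit
        apply h2
        linear_combination -hsplit
      have := prime_cast_ne_zero (F := F) (p := p) Nat.prime_three (fun h' => hp3 h'.symm)
      exact_mod_cast this
    interval_cases b
    · exfalso
      have := invol_eq_one_of_kd y hyy hb.symm
      apply hns lam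
      rw [hxy, this]
    · -- a reflection
      have h3 := hodd (by decide)
      obtain ⟨s, ⟨hsN, hsU⟩, hss, hst⟩ := h.exists_refl D hRU
      have hssM : (s : M4) * (s : M4) = 1 := by rw [← Units.val_mul, hss, Units.val_one]
      have hk := kd_eq_one_of_trace h2 h3 (s : M4) hssM hst
      apply finish_two D h2 x hx.1 lam hlam0 hsplit y hxy hyy s hsN hsU hss _ (hb.symm.trans hk.symm)
      intro h1
      rw [h1, Matrix.trace_neg, Matrix.trace_one, Fintype.card_fin] at hst
      apply mul_ne_zero h2 h3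
      push_cast at hst
      linear_combination -hst
    · -- a noncentral involution of `R`
      obtain ⟨a, ha, haa, hanc⟩ := h.exists_invol
      have haaM : (a : M4) * (a : M4) = 1 := by rw [← Units.val_mul, haa, Units.val_one]
      have hk := kd_eq_two_of_trace h2 (a : M4) haaM (h.trace_eq_zero ha hanc)
      apply finish_two D h2 x hx.1 lam hlam0 hsplit y hxy hyy a
        (Subgroup.le_normalizer ha) (hRU ha) haa _ (hb.symm.trans hk.symm)
      intro h1
      apply hanc
      right; left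
      apply Units.ext
      rw [h1, Units.val_neg, Units.val_one]
    · -- the negative of a reflection
      have h3 := hodd (by decide)
      obtain ⟨s, ⟨hsN, hsU⟩, hss, hst⟩ := h.exists_refl D hRU
      have hnegN : (-1 : G4) ∈ Subgroup.normalizer (R : Set G4) :=
        Subgroup.le_normalizer h.neg_mem
      have hnegU : (-1 : G4) ∈ Cfsg.GU 4 F p := hRU h.neg_mem
      have hns' : (-1 : G4) * s = -s := by rw [neg_mul, one_mul]
      have hss' : (-s) * (-s) = 1 := by rw [neg_mul_neg, hss]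
      have hssM : ((-s : G4) : M4) * ((-s : G4) : M4) = 1 := by
        rw [← Units.val_mul, hss', Units.val_one]
      have hst' : Matrix.trace ((-s : G4) : M4) = -2 := by
        rw [Units.val_neg, Matrix.trace_neg, hst]
      have hk := kd_eq_three_of_trace h2 h3 _ hssM hst'
      apply finish_two D h2 x hx.1 lam hlam0 hsplit y hxy hyy (-s)
        (by rw [← hns']; exact Subgroup.mul_mem _ hnegN hsN)
        (by rw [← hns']; exact Subgroup.mul_mem _ hnegU hsU) hss' _ (hb.symm.trans hk.symm)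
      intro h1
      rw [Units.val_neg, neg_inj] at h1
      rw [h1, Matrix.trace_one, Fintype.card_fin] at hst
      apply h2
      push_cast at hst
      linear_combination hst
    · exfalso
      have := invol_eq_neg_one_of_kd y hb.symm
      apply hns (-lam)
      rw [hxy, this, neg_smul, smul_neg]
  · -- the nonsplit case does not occur
    exfalso
    have hyu : ct D y * y = -1 := by
      rw [hy, ct_smul, Matrix.smul_mul, Matrix.mul_smul, hxu, smul_smul, map_inv₀]
      have : (D.τ lam)⁻¹ * lam⁻¹ = -1 := by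
        rw [← mul_inv, mul_comm, hnonsplit]
        norm_num
      rw [this, neg_smul, one_smul]
    have hcty : ct D y = -y := by
      calc ct D y = ct D y * (y * y) := by rw [hyy, Matrix.mul_one]
        _ = (ct D y * y) * y := by rw [Matrix.mul_assoc]
        _ = -y := by rw [hyu, Matrix.neg_mul, Matrix.one_mul]
    have htr : D.τ (Matrix.trace y) = -Matrix.trace y := by
      rw [← trace_ct, hcty, Matrix.trace_neg]
    rw [hty] at htr
    have hfix : D.τ (4 - 2 * (kd (y + 1) : F)) = 4 - 2 * (kd (y + 1) : F) := by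
      rw [map_sub, map_mul, map_ofNat, map_ofNat, map_natCast]
    rw [hfix] at htr
    have ht0 : Matrix.trace y = 0 := by
      rw [hty]
      have : (2 : F) * (4 - 2 * (kd (y + 1) : F)) = 0 := by linear_combination htr
      rcases mul_eq_zero.1 this with h4 | h4
      · exact absurd h4 h2
      · exact h4
    have hk := kd_eq_two_of_trace h2 y hyy ht0
    rw [hk] at hdet'
    have h4 : lam ^ 4 = 1 := by linear_combination hdet'
    have : lam ^ (p + 1) = 1 := by rw [hm, pow_mul, h4, one_pow]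
    rw [hlamq, this] at hnonsplit
    apply h2
    linear_combination hnonsplit

end Cfsg.Agent.Lib.H25.Su4
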