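import Mathlib
import Cfsg.Agent.Lib.H25.Su4K
import Cfsg.Agent.Lib.H25.Su4M
import Cfsg.Agent.Lib.H25.Su4N
import Cfsg.Agent.Lib.H25.Su4O
import Cfsg.Agent.Lib.H25.Su4Q
import Cfsg.Agent.Lib.H25.Ex4N

/-!
# S6001: prime order elements of `PSU_4(p)`, `p ≡ 3 (mod 4)`, and the normalizer of `4 ∘ 2^{1+4}`
(helper25)
-/

set_option autoImplicit false
open scoped MatrixGroups
open Matrix

namespace Cfsg.Agent.Lib.H25.Su4

open Cfsg.Agent.Lib.H13.AutPSU

theorem main {F : Type*} [Field F] [Fintype F] {p : ℕ} [Fact p.Prime] [CharP F p]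
    (hF : Fintype.card F = p ^ 2) (hp4 : p % 4 = 3)
    (R : Subgroup (GL (Fin 4) F)) (hRs : Cfsg.Geo.IsSymplecticTypeGroup 2 R)
    (hRi : Cfsg.Geo.ActsAbsolutelyIrreducibly (Cfsg.Geo.matrixSet R))
    (hRU : R ≤ Cfsg.GU 4 F p) (hR6 : Nat.card R = 2 ^ 6)
    (hRZ : Nat.card (Subgroup.center R) = 4) (r : ℕ) [Fact r.Prime]
    (hΩ : r ∣ (Cfsg.Geo.subgroupNormalizer R).relIndex
      (Cfsg.GU 4 F p ⊓ Cfsg.Geo.specialLinear (Fin 4) F)) :
    (∀ x ∈ Cfsg.GU 4 F p ⊓ Cfsg.Geo.specialLinear (Fin 4) F,
      (∃ z : F, ((x ^ r : GL (Fin 4) F) : Matrix (Fin 4) (Fin 4) F) =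
        z • (1 : Matrix (Fin 4) (Fin 4) F)) →
      (∀ z : F, (x : Matrix (Fin 4) (Fin 4) F) ≠ z • (1 : Matrix (Fin 4) (Fin 4) F)) →
      ∃ g ∈ Cfsg.GU 4 F p ⊓ Cfsg.Geo.specialLinear (Fin 4) F,
        g⁻¹ * x * g ∈ Cfsg.Geo.subgroupNormalizer R) ↔
      (r = 2 ∨ (r = 3 ∧ p % 3 = 1) ∨ (r = 5 ∧ orderOf (p : ZMod 5) = 4)) := by
  have hp : p.Prime := Fact.out
  have hr : r.Prime := Fact.out
  have hodd : Odd p := by
    rw [Nat.odd_iff]
    omega
  have hp2 : p ≠ 2 := by
    intro h2
    rw [h2] at hp4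
    omega
  obtain ⟨D, -⟩ : ∃ D : UF F p, D = UF.ofCard (p := p) (f := 1) (pow_one p).symm hF := ⟨_, rfl⟩
  obtain ⟨ι, h⟩ := sy_of_hyp hodd R hRs hRi hR6 hRZ
  obtain ⟨k, r', B, hr'⟩ := exists_frame D 4
  have hdim := B.dim_eq
  have hk : k = 2 := by omega
  have hr0 : r' = 0 := by omega
  subst hk hr0
  unfold Cfsg.Geo.subgroupNormalizer at hΩ ⊢
  constructor
  · intro hall
    by_contra hcon
    rw [not_or, not_or, not_and, not_and] at hcon
    obtain ⟨hr2, hr3, hr5⟩ := hcon
    by_cases hrp : r = p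
    · subst hrp
      obtain ⟨x, hx, hxp, hns, hder⟩ := h.exists_derange_p D r
      obtain ⟨g, _, hmem⟩ := hall x hx ⟨1, by rw [hxp, Units.val_one, one_smul]⟩ hns
      exact hder g hmem
    · by_cases hr3' : r = 3
      · have hp3 : p ≠ 3 := by
          intro h3
          apply hrp
          rw [hr3', h3]
        have hmod : p % 3 = 2 := by
          have h1 := hr3 hr3'
          have h0 : p % 3 ≠ 0 := by
            intro h0
            exact hp3 ((Nat.prime_dvd_prime_iff_eq Nat.prime_three hp).1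
              (Nat.dvd_of_mod_eq_zero h0)).symm
          omega
        have h3F : (3 : F) ≠ 0 := by
          have := prime_cast_ne_zero (F := F) (p := p) Nat.prime_three (fun h' => hp3 h'.symm)
          exact_mod_cast this
        have h7F : (7 : F) ≠ 0 := by
          have := prime_cast_ne_zero (F := F) (p := p) (by norm_num : Nat.Prime 7) (by
            intro h'
            rw [← h'] at hmod
            omega)
          exact_mod_cast this
        obtain ⟨ω, hω⟩ := exists_omega D hF hp2
        have hτ := tau_omega D ω hω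
        rw [hmod] at hτ
        obtain ⟨x, hx, hx3, hns, hder⟩ := h.exists_derange_three D ω hω hτ h3F h7F
        obtain ⟨g, _, hmem⟩ := hall x hx
          ⟨1, by rw [hr3', hx3, Units.val_one, one_smul]⟩ hns
        exact hder g hmem
      · by_cases hr5' : r = 5
        · have hp5 : p ≠ 5 := by
            intro h6
            apply hrp
            rw [hr5', h6]
          have h5F : (5 : F) ≠ 0 := by
            have := prime_cast_ne_zero (F := F) (p := p) Nat.prime_five (fun h' => hp5 h'.symm)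
            exact_mod_cast this
          obtain ⟨t₀, ht₀⟩ := Ex4.exists_tau (F := ZMod p) (p := p) hp2
            (Ex4.mod_of_order_ne hp hp5 (hr5 hr5'))
          set t : F := ZMod.castHom (dvd_refl p) F t₀ with ht
          have htt : t ^ 2 + t - 1 = 0 := by
            have := congrArg (ZMod.castHom (dvd_refl p) F) ht₀
            rwa [map_sub, map_add, map_pow, map_one, map_zero] at this
          have hτ : D.τ t = t := by
            rw [D.hτ, ht, ← map_pow, ZMod.pow_card]
          obtain ⟨x, hx, hx5, hns, hder⟩ := h.exists_derange_five B t htt hτ h5F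
          obtain ⟨g, _, hmem⟩ := hall x hx
            ⟨1, by rw [hr5', hx5, Units.val_one, one_smul]⟩ hns
          exact hder g hmem
        · have hr7 := Ex4.prime_ge_seven hr hr2 hr3' hr5'
          have hdvd : r ∣ Nat.card (Cfsg.GU 4 F p ⊓ Cfsg.Geo.specialLinear (Fin 4) F :
              Subgroup (GL (Fin 4) F)) := dvd_trans hΩ (Subgroup.relIndex_dvd_card _ _)
          obtain ⟨x₀, hx₀⟩ := exists_prime_orderOf_dvd_card' r hdvd
          have hxo : orderOf (x₀ : GL (Fin 4) F) = r := by
            rw [Subgroup.orderOf_coe]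
            exact hx₀
          have hxr : ∃ z : F, (((x₀ : GL (Fin 4) F) ^ r : GL (Fin 4) F) :
              Matrix (Fin 4) (Fin 4) F) = z • (1 : Matrix (Fin 4) (Fin 4) F) := by
            refine ⟨1, ?_⟩
            rw [← hxo, pow_orderOf_eq_one, Units.val_one, one_smul]
          have hns : ∀ z : F, ((x₀ : GL (Fin 4) F) : Matrix (Fin 4) (Fin 4) F) ≠
              z • (1 : Matrix (Fin 4) (Fin 4) F) := by
            intro z hz
            obtain ⟨-, -, hz4⟩ := scalar_facts D (x₀ : GL (Fin 4) F) x₀.2.1 x₀.2.2 1 z (by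
              rw [pow_one]; exact hz)
            have h4 : (x₀ : GL (Fin 4) F) ^ 4 = 1 := by
              apply Units.ext
              rw [Units.val_pow_eq_pow_val, hz, smul_pow, one_pow, hz4, one_smul, Units.val_one]
            have := orderOf_dvd_of_pow_eq_one h4
            rw [hxo] at this
            have := Nat.le_of_dvd (by norm_num) this
            omega
          obtain ⟨g, _, hmem⟩ := hall x₀ x₀.2 hxr hns
          exact (h.derange_core r hxr hns g hmem).2.2 hr7
  · rintro (rfl | ⟨rfl, h3⟩ | ⟨rfl, h4⟩)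
    · intro x hx hxr hns
      exact h.two_suff D hF hp4 hRU x hx hxr hns
    · intro x hx hxr hns
      have hp3 : p ≠ 3 := by
        intro h'
        rw [h'] at h3
        omega
      have h3F : (3 : F) ≠ 0 := by
        have := prime_cast_ne_zero (F := F) (p := p) Nat.prime_three (fun h' => hp3 h'.symm)
        exact_mod_cast this
      obtain ⟨ω, hω⟩ := exists_omega D hF hp2
      have hτ := tau_omega D ω hω
      rw [h3, pow_one] at hτ
      exact h.three_suff D hRU B ω hω hτ h3F x hx hxr hns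
    · intro x hx hxr hns
      obtain ⟨h5F, hroot, t, ht, hτ⟩ := exists_golden D hF hp2 h4
      exact h.five_suff D hRU B t ht h5F hroot hτ x hx hxr hns

end Cfsg.Agent.Lib.H25.Su4
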