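import Mathlib
import Cfsg.Agent.Lib.H8.SUN4
import Cfsg.Agent.Lib.H8.SU3W

set_option autoImplicit false

/-!
# Common tools for the exceptional local cases `q = 3, 11` of `Local3` (helper25, for helper8's S2282)
-/

namespace Cfsg.Agent.Lib.H25.Sun3

open Matrix Cfsg.Agent.Lib.H8.SU3Gen

variable {F : Type*} [Field F] [Fintype F]

/-- a field with `p ^ 2` elements has characteristic `p` -/
theorem char_of_card_sq {p : ℕ} (hp : p.Prime) (hF : Fintype.card F = p ^ 2) : (p : F) = 0 := by
  classical
  obtain ⟨p', hp'⟩ := CharP.exists F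
  obtain ⟨n, hpp, hcard⟩ := FiniteField.card F p'
  have hpe : p' = p := by
    rw [hF] at hcard
    have hdvd : p' ∣ p ^ 2 := by
      rw [hcard]; exact dvd_pow_self p' n.ne_zero
    exact (Nat.prime_dvd_prime_iff_eq hpp hp).mp (hpp.dvd_of_dvd_pow hdvd)
  subst hpe
  exact CharP.cast_eq_zero F p'

/-- a square root of `-1` -/
theorem exists_sq_neg_one (hF : Fintype.card F % 4 ≠ 3) : ∃ i : F, i ^ 2 = -1 := by
  obtain ⟨i, hi⟩ := FiniteField.isSquare_neg_one_iff.mpr hF
  exact ⟨i, by rw [hi]; ring⟩

/-- in a field with `p ^ 2` elements, an element with `y ^ p ≠ y` generates -/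
theorem closure_eq_top_sq {p : ℕ} (hp : p.Prime) (hF : Fintype.card F = p ^ 2) {y : F}
    (hy : y ^ p ≠ y) : Subfield.closure {y} = ⊤ := by
  classical
  apply closure_eq_top_of_card
  intro K hyK
  have hcard : Fintype.card F = Fintype.card K ^ Module.finrank K F := Module.card_eq_pow_finrank
  have hk2 : 2 ≤ Fintype.card K := Fintype.one_lt_card
  have hpow := pow_card_subfield K hyK
  rw [Nat.card_eq_fintype_card] at hpow ⊢
  set k := Fintype.card K with hk
  set m := Module.finrank K F with hm
  have hm0 : m ≠ 0 := by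
    intro h0
    rw [h0, pow_zero, hF] at hcard
    have := hp.two_le
    nlinarith
  have hdvd : k ∣ p ^ 2 := by
    rw [← hF, hcard]
    exact dvd_pow_self k hm0
  obtain ⟨j, hj2, hkj⟩ := (Nat.dvd_prime_pow hp).mp hdvd
  interval_cases j
  · rw [pow_zero] at hkj
    omega
  · rw [pow_one] at hkj
    rw [hkj] at hpow
    exact absurd hpow hy
  · rw [hF]
    exact hkj

end Cfsg.Agent.Lib.H25.Sun3
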