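import Mathlib
import Cfsg.Agent.Lib.H25.Sun3Common

set_option autoImplicit false

/-!
# The exceptional local case `q = 11` of `Local3` (helper25, for helper8's S2282)

Certificates generated by a script (explicit matrix words over `𝔽_11(i)`, `i² = -1`).
-/

namespace Cfsg.Agent.Lib.H25.Sun3

open Matrix Cfsg.Agent.Lib.H8.SU3Gen

section words

variable {F : Type*} [Field F]

theorem w11_X1 (σ : F →+* F) (i : F) (hi : i ^ 2 = -1) (h11 : (11 : F) = 0) (hσi : σ i = -i) :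
    uM σ 1 (5 + 2*i) * uM σ (-(2 * 1)) (2 ^ 2 * σ (5 + 2*i)) =
      !![1, 10, 5 + 5*i; 0, 1, 1; 0, 0, 1] := by
  rw [uM_mul]
  unfold uM
  simp only [map_add, map_mul, map_neg, map_one, map_ofNat, map_pow, hσi]
  exact mat3_ext
    rfl
    (by linear_combination ((-1)) * h11)
    (by linear_combination (2 + (-1)*i) * h11)
    rfl
    rfl
    (by ring)
    rfl
    rfl
    rfl

theorem w11_K2 (σ : F →+* F) (i : F) (hi : i ^ 2 = -1) (h11 : (11 : F) = 0) (hσi : σ i = -i) :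
    uM σ 1 (5 + 2*i) * vM σ (-((7) * 1)) ((7) * σ (7) * σ (5 + 2*i)) =
      !![7, 3 + 3*i, 5 + 2*i; 1 + 10*i, 5, 10; 3 + i, 7, 1] := by
  unfold uM vM
  simp only [map_add, map_mul, map_neg, map_one, map_ofNat, map_pow, hσi]
  rw [Matrix.mul_fin_three]
  exact mat3_ext
    (by linear_combination ((-196)) * hi + (128) * h11)
    (by linear_combination (3 + i) * h11)
    (by ring)
    (by linear_combination ((-23) + 8*i) * h11)
    (by linear_combination ((-1)) * h11)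
    (by linear_combination ((-1)) * h11)
    (by linear_combination (22 + (-9)*i) * h11)
    (by ring)
    (by ring)

theorem w11_step1 (i : F) (hi : i ^ 2 = -1) (h11 : (11 : F) = 0) :
    (!![7, 3 + 3*i, 5 + 2*i; 1 + 10*i, 5, 10; 3 + i, 7, 1] : Matrix (Fin 3) (Fin 3) F) * !![1, 10, 5 + 5*i; 0, 1, 1; 0, 0, 1] =
      !![7, 7 + 3*i, 10 + 7*i; 1 + 10*i, 4 + i, 3; 3 + i, 4 + 10*i, 7 + 9*i] := by
  rw [Matrix.mul_fin_three]
  exact mat3_ext
    (by ring)
    (by linear_combination (6) * h11)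
    (by linear_combination (3 + 3*i) * h11)
    (by ring)
    (by linear_combination (1 + 9*i) * h11)
    (by linear_combination (50) * hi + ((-3) + 5*i) * h11)
    (by ring)
    (by linear_combination (3) * h11)
    (by linear_combination (5) * hi + (1 + i) * h11)

theorem w11_step2 (i : F) (hi : i ^ 2 = -1) (h11 : (11 : F) = 0) :
    (!![7, 7 + 3*i, 10 + 7*i; 1 + 10*i, 4 + i, 3; 3 + i, 4 + 10*i, 7 + 9*i] : Matrix (Fin 3) (Fin 3) F) * !![1, 10, 5 + 5*i; 0, 1, 1; 0, 0, 1] =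
      !![7, 3*i, 8 + i; 1 + 10*i, 3 + 2*i, 6 + i; 3 + i, 1 + 9*i, 10 + 6*i] := by
  rw [Matrix.mul_fin_three]
  exact mat3_ext
    (by ring)
    (by linear_combination (7) * h11)
    (by linear_combination (4 + 4*i) * h11)
    (by ring)
    (by linear_combination (1 + 9*i) * h11)
    (by linear_combination (50) * hi + ((-4) + 5*i) * h11)
    (by ring)
    (by linear_combination (3 + i) * h11)
    (by linear_combination (5) * hi + (1 + 3*i) * h11)

theorem w11_step3 (i : F) (hi : i ^ 2 = -1) (h11 : (11 : F) = 0) :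
    (!![7, 3*i, 8 + i; 1 + 10*i, 3 + 2*i, 6 + i; 3 + i, 1 + 9*i, 10 + 6*i] : Matrix (Fin 3) (Fin 3) F) * !![1, 10, 5 + 5*i; 0, 1, 1; 0, 0, 1] =
      !![7, 4 + 3*i, 10 + 6*i; 1 + 10*i, 2 + 3*i, 8 + 3*i; 3 + i, 9 + 8*i, 10 + 2*i] := by
  rw [Matrix.mul_fin_three]
  exact mat3_ext
    (by ring)
    (by linear_combination (6) * h11)
    (by linear_combination (3 + 3*i) * h11)
    (by ring)
    (by linear_combination (1 + 9*i) * h11)
    (by linear_combination (50) * hi + ((-4) + 5*i) * h11)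
    (by ring)
    (by linear_combination (2 + i) * h11)
    (by linear_combination (5) * hi + (1 + 3*i) * h11)

theorem w11_step4 (i : F) (hi : i ^ 2 = -1) (h11 : (11 : F) = 0) :
    (!![7, 4 + 3*i, 10 + 6*i; 1 + 10*i, 2 + 3*i, 8 + 3*i; 3 + i, 9 + 8*i, 10 + 2*i] : Matrix (Fin 3) (Fin 3) F) * !![7, 3 + 3*i, 5 + 2*i; 1 + 10*i, 5, 10; 3 + i, 7, 1] =
      !![3 + 5*i, 1 + i, 8 + 6*i; 0, 6 + 3*i, 2 + 8*i; 0, 0, 3 + 5*i] := by
  rw [Matrix.mul_fin_three]
  exact mat3_ext
    (by linear_combination (36) * hi + (4 + 6*i) * h11)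
    (by linear_combination (10 + 7*i) * h11)
    (by linear_combination (7 + 4*i) * h11)
    (by linear_combination (33) * hi + (10*i) * h11)
    (by linear_combination (30) * hi + (3 + 6*i) * h11)
    (by linear_combination (20) * hi + (1 + 7*i) * h11)
    (by linear_combination (82) * hi + ((-2) + 11*i) * h11)
    (by linear_combination (3) * hi + (11 + 6*i) * h11)
    (by linear_combination (2) * hi + (10 + 8*i) * h11)

theorem w11_word (i : F) (hi : i ^ 2 = -1) (h11 : (11 : F) = 0) :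
    (!![7, 3 + 3*i, 5 + 2*i; 1 + 10*i, 5, 10; 3 + i, 7, 1] : Matrix (Fin 3) (Fin 3) F) * !![1, 10, 5 + 5*i; 0, 1, 1; 0, 0, 1] * !![1, 10, 5 + 5*i; 0, 1, 1; 0, 0, 1] * !![1, 10, 5 + 5*i; 0, 1, 1; 0, 0, 1] * !![7, 3 + 3*i, 5 + 2*i; 1 + 10*i, 5, 10; 3 + i, 7, 1] =
      !![3 + 5*i, 1 + i, 8 + 6*i; 0, 6 + 3*i, 2 + 8*i; 0, 0, 3 + 5*i] := by
  rw [w11_step1 i hi h11, w11_step2 i hi h11, w11_step3 i hi h11, w11_step4 i hi h11]

end words

section main

variable {F : Type*} [Field F] [Fintype F]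

/-- the local generation statement for `q = 11` -/
theorem local3_q11 (hF : Fintype.card F = 11 ^ 2) (σ : F →+* F) (hσq : ∀ x, σ x = x ^ 11)
    (hσ : ∀ x, σ (σ x) = x) : Local3 σ := by
  have h11 : (11 : F) = 0 := by
    have := char_of_card_sq (F := F) (by norm_num : Nat.Prime 11) hF
    exact_mod_cast this
  obtain ⟨i, hi⟩ := exists_sq_neg_one (F := F) (by rw [hF]; norm_num)
  have hσi : σ i = -i := by
    rw [hσq]
    linear_combination (i + (-1)*i^3 + i^5 + (-1)*i^7 + i^9) * hi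
  have h1ne : (1 : F) ≠ 0 := one_ne_zero
  refine ⟨1, 5 + 2*i, 2, 7, one_ne_zero, ?_, ?_, ?_, ?_, Or.inl ?_, ?_⟩
  · simp only [map_add, map_mul, map_ofNat, map_one, hσi]
    linear_combination (1) * h11
  · exact map_ofNat σ 2
  · intro h
    apply h1ne
    linear_combination (6) * h + (-1) * h11
  · intro h
    apply h1ne
    linear_combination (63) * h + (0) * hi + (-40) * h11
  · exact map_ofNat σ 7
  · intro K x₁ k₂ hx₁ hk₂ hx₁K hk₂K
    have hx₁' : mat x₁ = uM σ (1 + -(2 * 1))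
        ((5 + 2*i) + 2 ^ 2 * σ (5 + 2*i) - 1 * σ (-(2 * 1))) := by
      rw [hx₁, uM_mul]
    have ha' : (1 + -(2 * 1) : F) ≠ 0 := by
      intro h
      apply h1ne
      linear_combination (10) * h + (1) * h11
    have hsm : mat (k₂ * x₁ * x₁ * x₁ * k₂) =
        !![3 + 5*i, 1 + i, 8 + 6*i; 0, 6 + 3*i, 2 + 8*i; 0, 0, 3 + 5*i] := by
      simp only [mat_mul]
      rw [hx₁, hk₂, w11_X1 σ i hi h11 hσi, w11_K2 σ i hi h11 hσi]
      exact w11_word i hi h11
    refine SUJ_eq_top_of_data σ hσ hσq hF (by norm_num) K hx₁K hk₂K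
      (K.mul_mem (K.mul_mem (K.mul_mem (K.mul_mem hk₂K hx₁K) hx₁K) hx₁K) hk₂K) hx₁' ha' ?_ ?_ ?_ ?_ ?_
    · rw [hk₂, w11_K2 σ i hi h11 hσi]
      show (3 + i : F) ≠ 0
      intro h
      apply h1ne
      linear_combination (30 + (-10)*i) * h + (10) * hi + (-9) * h11
    · rw [hsm]; rfl
    · rw [hsm]; rfl
    · rw [hsm]; rfl
    · rw [hsm]
      have hν : (!![3 + 5*i, 1 + i, 8 + 6*i; 0, 6 + 3*i, 2 + 8*i; 0, 0, 3 + 5*i] : Matrix (Fin 3) (Fin 3) F) 0 0 *
          σ ((!![3 + 5*i, 1 + i, 8 + 6*i; 0, 6 + 3*i, 2 + 8*i; 0, 0, 3 + 5*i] : Matrix (Fin 3) (Fin 3) F) 1 1) = 10*i := by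
        show (3 + 5*i) * σ (6 + 3*i) = 10*i
        simp only [map_add, map_mul, map_ofNat, map_one, hσi]
        linear_combination ((-15)) * hi + (3 + i) * h11
      rw [hν]
      apply closure_eq_top_sq (by norm_num : Nat.Prime 11) hF
      intro h
      have hy : σ (10*i) = 10*i := by
        rw [hσq]
        exact h
      simp only [map_add, map_mul, map_ofNat, map_one, hσi] at hy
      apply h1ne
      linear_combination (5*i) * hy + (100) * hi + (-9) * h11

end main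

end Cfsg.Agent.Lib.H25.Sun3
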