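import Mathlib
import Cfsg.Agent.Lib.H25.Sun3Common

set_option autoImplicit false

/-!
# The exceptional local case `q = 3` of `Local3` (helper25, for helper8's S2282)

Certificates generated by a script (explicit matrix words over `𝔽_3(i)`, `i² = -1`).
-/

namespace Cfsg.Agent.Lib.H25.Sun3

open Matrix Cfsg.Agent.Lib.H8.SU3Gen

section words

variable {F : Type*} [Field F]

theorem w3_X1 (σ : F →+* F) (i : F) (hi : i ^ 2 = -1) (h3 : (3 : F) = 0) (hσi : σ i = -i) :
    uM σ 1 (1 + i) * uM σ (-(2 * 1)) (2 ^ 2 * σ (1 + i)) =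
      !![1, 2, 1; 0, 1, 1; 0, 0, 1] := by
  rw [uM_mul]
  unfold uM
  simp only [map_add, map_mul, map_neg, map_one, map_ofNat, map_pow, hσi]
  exact mat3_ext
    rfl
    (by linear_combination ((-1)) * h3)
    (by linear_combination (2 + (-1)*i) * h3)
    rfl
    rfl
    (by ring)
    rfl
    rfl
    rfl

theorem w3_K2 (σ : F →+* F) (i : F) (hi : i ^ 2 = -1) (h3 : (3 : F) = 0) (hσi : σ i = -i) :
    uM σ 1 (1 + i) * vM σ (-((i) * 1)) ((i) * σ (i) * σ (1 + i)) =
      !![i, i, 1 + i; 2 + 2*i, 1 + 2*i, 2; 1 + 2*i, i, 1] := by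
  unfold uM vM
  simp only [map_add, map_mul, map_neg, map_one, map_ofNat, map_pow, hσi]
  rw [Matrix.mul_fin_three]
  exact mat3_ext
    (by linear_combination ((-2) + i^2) * hi + (1) * h3)
    (by linear_combination (1) * hi)
    (by ring)
    (by linear_combination (1 + (-1)*i) * hi + ((-1)) * h3)
    (by linear_combination ((-1)*i) * h3)
    (by linear_combination ((-1)) * h3)
    (by linear_combination ((-1) + i) * hi + ((-1)*i) * h3)
    (by ring)
    (by ring)

theorem w3_step1 (i : F) (hi : i ^ 2 = -1) (h3 : (3 : F) = 0) :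
    (!![i, i, 1 + i; 2 + 2*i, 1 + 2*i, 2; 1 + 2*i, i, 1] : Matrix (Fin 3) (Fin 3) F) * !![1, 2, 1; 0, 1, 1; 0, 0, 1] =
      !![i, 0, 1; 2 + 2*i, 2, 2 + i; 1 + 2*i, 2 + 2*i, 2] := by
  rw [Matrix.mul_fin_three]
  exact mat3_ext
    (by ring)
    (by linear_combination (i) * h3)
    (by linear_combination (i) * h3)
    (by ring)
    (by linear_combination (1 + 2*i) * h3)
    (by linear_combination (1 + i) * h3)
    (by ring)
    (by linear_combination (i) * h3)
    (by linear_combination (i) * h3)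

theorem w3_step2 (i : F) (hi : i ^ 2 = -1) (h3 : (3 : F) = 0) :
    (!![i, 0, 1; 2 + 2*i, 2, 2 + i; 1 + 2*i, 2 + 2*i, 2] : Matrix (Fin 3) (Fin 3) F) * !![i, i, 1 + i; 2 + 2*i, 1 + 2*i, 2; 1 + 2*i, i, 1] =
      !![2*i, 2 + i, i; 2 + 2*i, 2 + 2*i, 2*i; i, 2, 2 + i] := by
  rw [Matrix.mul_fin_three]
  exact mat3_ext
    (by linear_combination (1) * hi)
    (by linear_combination (1) * hi + ((-1)) * h3)
    (by linear_combination (1) * hi)
    (by linear_combination (4) * hi + (3*i) * h3)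
    (by linear_combination (3) * hi + ((-1) + 2*i) * h3)
    (by linear_combination (2) * hi + (2 + i) * h3)
    (by linear_combination (6) * hi + (4*i) * h3)
    (by linear_combination (6) * hi + ((-2) + 3*i) * h3)
    (by linear_combination (2) * hi + (1 + 2*i) * h3)

theorem w3_step3 (i : F) (hi : i ^ 2 = -1) (h3 : (3 : F) = 0) :
    (!![2*i, 2 + i, i; 2 + 2*i, 2 + 2*i, 2*i; i, 2, 2 + i] : Matrix (Fin 3) (Fin 3) F) * !![i, i, 1 + i; 2 + 2*i, 1 + 2*i, 2; 1 + 2*i, i, 1] =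
      !![1 + i, 2*i, 2 + 2*i; 0, 2*i, 1 + i; 0, 0, 2 + 2*i] := by
  rw [Matrix.mul_fin_three]
  exact mat3_ext
    (by linear_combination (6) * hi + ((-1) + 2*i) * h3)
    (by linear_combination (5) * hi + ((-1) + i) * h3)
    (by linear_combination (2) * hi + (i) * h3)
    (by linear_combination (10) * hi + ((-2) + 4*i) * h3)
    (by linear_combination (8) * hi + ((-2) + 2*i) * h3)
    (by linear_combination (2) * hi + (1 + 3*i) * h3)
    (by linear_combination (3) * hi + (1 + 3*i) * h3)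
    (by linear_combination (2) * hi + (2*i) * h3)
    (by linear_combination (1) * hi + (1) * h3)

theorem w3_word (i : F) (hi : i ^ 2 = -1) (h3 : (3 : F) = 0) :
    (!![i, i, 1 + i; 2 + 2*i, 1 + 2*i, 2; 1 + 2*i, i, 1] : Matrix (Fin 3) (Fin 3) F) * !![1, 2, 1; 0, 1, 1; 0, 0, 1] * !![i, i, 1 + i; 2 + 2*i, 1 + 2*i, 2; 1 + 2*i, i, 1] * !![i, i, 1 + i; 2 + 2*i, 1 + 2*i, 2; 1 + 2*i, i, 1] =
      !![1 + i, 2*i, 2 + 2*i; 0, 2*i, 1 + i; 0, 0, 2 + 2*i] := by
  rw [w3_step1 i hi h3, w3_step2 i hi h3, w3_step3 i hi h3]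

end words

section main

variable {F : Type*} [Field F] [Fintype F]

/-- the local generation statement for `q = 3` -/
theorem local3_q3 (hF : Fintype.card F = 3 ^ 2) (σ : F →+* F) (hσq : ∀ x, σ x = x ^ 3)
    (hσ : ∀ x, σ (σ x) = x) : Local3 σ := by
  have h3 : (3 : F) = 0 := by
    have := char_of_card_sq (F := F) Nat.prime_three hF
    exact_mod_cast this
  obtain ⟨i, hi⟩ := exists_sq_neg_one (F := F) (by rw [hF]; norm_num)
  have hσi : σ i = -i := by
    rw [hσq]
    linear_combination (i) * hi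
  have h1ne : (1 : F) ≠ 0 := one_ne_zero
  refine ⟨1, 1 + i, 2, i, one_ne_zero, ?_, ?_, ?_, ?_, Or.inr ?_, ?_⟩
  · simp only [map_add, map_mul, map_ofNat, map_one, hσi]
    linear_combination (1) * h3
  · exact map_ofNat σ 2
  · intro h
    apply h1ne
    linear_combination (2) * h + (-1) * h3
  · intro h
    apply h1ne
    linear_combination ((-1)*i) * h + (1) * hi + (0) * h3
  · rw [Nat.card_eq_fintype_card, hF]
    norm_num
  · intro K x₁ k₂ hx₁ hk₂ hx₁K hk₂K
    have hx₁' : mat x₁ = uM σ (1 + -(2 * 1))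
        ((1 + i) + 2 ^ 2 * σ (1 + i) - 1 * σ (-(2 * 1))) := by
      rw [hx₁, uM_mul]
    have ha' : (1 + -(2 * 1) : F) ≠ 0 := by
      intro h
      apply h1ne
      linear_combination (2) * h + (1) * h3
    have hsm : mat (k₂ * x₁ * k₂ * k₂) =
        !![1 + i, 2*i, 2 + 2*i; 0, 2*i, 1 + i; 0, 0, 2 + 2*i] := by
      simp only [mat_mul]
      rw [hx₁, hk₂, w3_X1 σ i hi h3 hσi, w3_K2 σ i hi h3 hσi]
      exact w3_word i hi h3
    refine SUJ_eq_top_of_data σ hσ hσq hF (by norm_num) K hx₁K hk₂K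
      (K.mul_mem (K.mul_mem (K.mul_mem hk₂K hx₁K) hk₂K) hk₂K) hx₁' ha' ?_ ?_ ?_ ?_ ?_
    · rw [hk₂, w3_K2 σ i hi h3 hσi]
      show (1 + 2*i : F) ≠ 0
      intro h
      apply h1ne
      linear_combination (2 + (-4)*i) * h + (8) * hi + (-3) * h3
    · rw [hsm]; rfl
    · rw [hsm]; rfl
    · rw [hsm]; rfl
    · rw [hsm]
      have hν : (!![1 + i, 2*i, 2 + 2*i; 0, 2*i, 1 + i; 0, 0, 2 + 2*i] : Matrix (Fin 3) (Fin 3) F) 0 0 *
          σ ((!![1 + i, 2*i, 2 + 2*i; 0, 2*i, 1 + i; 0, 0, 2 + 2*i] : Matrix (Fin 3) (Fin 3) F) 1 1) = 2 + i := by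
        show (1 + i) * σ (2*i) = 2 + i
        simp only [map_add, map_mul, map_ofNat, map_one, hσi]
        linear_combination ((-2)) * hi + ((-1)*i) * h3
      rw [hν]
      apply closure_eq_top_sq Nat.prime_three hF
      intro h
      have hy : σ (2 + i) = 2 + i := by
        rw [hσq]
        exact h
      simp only [map_add, map_mul, map_ofNat, map_one, hσi] at hy
      apply h1ne
      linear_combination (2*i) * hy + (4) * hi + (-1) * h3

end main

end Cfsg.Agent.Lib.H25.Sun3
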