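import Mathlib
import Cfsg.Agent.Lib.H7.Coprime
import Cfsg.Agent.Lib.H7.CoprimeGen
import Cfsg.Agent.Lib.H9.SymplecticType
import Cfsg.Agent.Lib.H25.SympBN

set_option autoImplicit false
set_option linter.style.haveILetI false
set_option linter.unusedVariables false

/-!
# S1874 piece Y2 (helper25 twin, for helper7's farm-out): `false_of_central_mod`
-/

namespace Cfsg.Agent.Lib.H25.SympBY2

open Cfsg.Agent.Lib.H25.SympBN (eq_one_of_inv_self)

universe u
variable {G : Type u} [Group G]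

/-- the commutator `u h u⁻¹ h⁻¹` -/
def cm (u h : G) : G := u * h * u⁻¹ * h⁻¹

theorem cm_inv_left (u v : G) : cm u⁻¹ v = u⁻¹ * (cm u v)⁻¹ * u := by unfold cm; group
theorem cm_inv_right (u v : G) : cm u v⁻¹ = v⁻¹ * (cm u v)⁻¹ * v := by unfold cm; group
theorem cm_mul_left (u u' h : G) : cm (u * u') h = u * cm u' h * u⁻¹ * cm u h := by unfold cm; group
theorem cm_conj (w u v : G) : w * cm u v * w⁻¹ = cm (w * u * w⁻¹) (w * v * w⁻¹) := by unfold cm; group
theorem cm_eq_one_iff (u v : G) : cm u v = 1 ↔ u * v = v * u := by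
  unfold cm
  constructor
  · intro h
    have := congrArg (· * v * u) h
    simpa [mul_assoc] using this
  · intro h
    calc u * v * u⁻¹ * v⁻¹ = v * u * u⁻¹ * v⁻¹ := by rw [h]
      _ = 1 := by group

/-- the core sub-lemma CASE2, stated symmetrically: `xa` plays `x₁`, `xb` plays `x₂`, `w` plays `w₁`. -/
theorem case2 (p : ℕ) [Fact p.Prime] (hp2 : p ≠ 2) (A H : Subgroup G) (xa xb w : G)
    (hAp : ∀ a ∈ A, a ^ p = 1)
    (hAcen : ∀ a ∈ A, ∀ h ∈ H, a * h = h * a)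
    (hxaH : xa ∈ H) (hxbH : xb ∈ H) (hxa : xa ^ p = 1) (hxaA : xa ∉ A)
    (hwA : ∀ a ∈ A, w * a = a * w)
    (hwa : w * xa * w⁻¹ = xa⁻¹) (hwb : w * xb * w⁻¹ = xb)
    (hR : ∀ x ∈ H, ∀ y ∈ H, x ^ p = 1 → y ^ p = 1 → x * y = y * x → x ∉ A → ∃ a ∈ A, ∃ k : ℕ, y = a * x ^ k)
    (y : G) (hyH : y ∈ H) (hyp : y ^ p = 1)
    (hyc : ∀ h ∈ H, cm y h ∈ A) (hya : y * xa = xa * y) (hyb : y * xb ≠ xb * y) : False := by
  obtain ⟨a, ha, k, hk⟩ := hR xa hxaH y hyH hxa hyp hya.symm hxaA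
  set u : G := xa ^ k with hu
  have huH : u ∈ H := pow_mem hxaH k
  have hcA : cm y xb ∈ A := hyc xb hxbH
  have hc_eq : cm y xb = cm u xb := by
    have h1 : a * (u * xb * u⁻¹) = (u * xb * u⁻¹) * a :=
      hAcen a ha _ (mul_mem (mul_mem huH hxbH) (inv_mem huH))
    unfold cm
    rw [hk]
    calc a * u * xb * (a * u)⁻¹ * xb⁻¹ = a * (u * xb * u⁻¹) * a⁻¹ * xb⁻¹ := by group
      _ = (u * xb * u⁻¹) * a * a⁻¹ * xb⁻¹ := by rw [h1]
      _ = u * xb * u⁻¹ * xb⁻¹ := by group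
  set c : G := cm y xb with hc
  have hc1 : c ≠ 1 := by
    intro h
    exact hyb ((cm_eq_one_iff y xb).mp h)
  have hwc : w * c * w⁻¹ = c := by
    rw [hwA c hcA, mul_inv_cancel_right]
  have hwu : w * u * w⁻¹ = u⁻¹ := by
    rw [hu, ← conj_pow, hwa, inv_pow]
  have hwc2 : w * c * w⁻¹ = c⁻¹ := by
    rw [hc_eq, cm_conj, hwu, hwb, cm_inv_left, ← hc_eq]
    have hci : c⁻¹ ∈ A := inv_mem hcA
    have := hAcen c⁻¹ hci u huH
    calc u⁻¹ * c⁻¹ * u = u⁻¹ * (c⁻¹ * u) := by group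
      _ = u⁻¹ * (u * c⁻¹) := by rw [this]
      _ = c⁻¹ := by group
  have hcc : c = c⁻¹ := hwc.symm.trans hwc2
  exact hc1 (eq_one_of_inv_self hp2 (hAp c hcA) hcc)

theorem false_of_central_mod [Finite G] (p : ℕ) [Fact p.Prime] (A : Subgroup G) (x₁ x₂ w₁ w₂ : G)
    (hp2 : p ≠ 2)
    (hAc : ∀ a ∈ A, ∀ b ∈ A, a * b = b * a) (hAp : ∀ a ∈ A, a ^ p = 1)
    (hAx₁ : ∀ a ∈ A, a * x₁ = x₁ * a) (hAx₂ : ∀ a ∈ A, a * x₂ = x₂ * a)
    (hx₁ : x₁ ^ p = 1) (hx₂ : x₂ ^ p = 1) (hx₁1 : x₁ ≠ 1) (hx₂1 : x₂ ≠ 1)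
    (hw₁ : w₁ ^ 2 = 1) (hw₂ : w₂ ^ 2 = 1)
    (hw₁A : ∀ a ∈ A, w₁ * a = a * w₁) (hw₂A : ∀ a ∈ A, w₂ * a = a * w₂)
    (h11 : w₁ * x₁ * w₁⁻¹ = x₁⁻¹) (h12 : w₁ * x₂ * w₁⁻¹ = x₂)
    (h21 : w₂ * x₁ * w₂⁻¹ = x₁) (h22 : w₂ * x₂ * w₂⁻¹ = x₂⁻¹)
    (hnc : x₁ * x₂ ≠ x₂ * x₁)
    (hR : ∀ x ∈ A ⊔ Subgroup.closure {x₁, x₂}, ∀ y ∈ A ⊔ Subgroup.closure {x₁, x₂},
      x ^ p = 1 → y ^ p = 1 → x * y = y * x → x ∉ A → ∃ a ∈ A, ∃ k : ℕ, y = a * x ^ k)
    (y : G) (hyH : y ∈ A ⊔ Subgroup.closure {x₁, x₂}) (hyp : y ^ p = 1) (hyA : y ∉ A)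
    (hyc : ∀ h ∈ A ⊔ Subgroup.closure {x₁, x₂}, y * h * y⁻¹ * h⁻¹ ∈ A) : False := by
  classical
  have hpp : p.Prime := Fact.out
  set H : Subgroup G := A ⊔ Subgroup.closure {x₁, x₂} with hH
  have hAH : A ≤ H := le_sup_left
  have hx₁H : x₁ ∈ H :=
    (le_sup_right : Subgroup.closure {x₁, x₂} ≤ H) (Subgroup.subset_closure (by simp))
  have hx₂H : x₂ ∈ H :=
    (le_sup_right : Subgroup.closure {x₁, x₂} ≤ H) (Subgroup.subset_closure (by simp))
  -- `A` is central in `H`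
  have hAcen : ∀ a ∈ A, ∀ h ∈ H, a * h = h * a := by
    intro a ha h hh
    have hle : H ≤ Subgroup.centralizer ({a} : Set G) := by
      apply sup_le
      · intro b hb
        rw [Subgroup.mem_centralizer_iff]
        intro c hc
        rw [Set.mem_singleton_iff] at hc
        rw [hc]; exact hAc a ha b hb
      · rw [Subgroup.closure_le]
        intro b hb
        simp only [Set.mem_insert_iff, Set.mem_singleton_iff] at hb
        rw [SetLike.mem_coe, Subgroup.mem_centralizer_iff]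
        intro c hc
        rw [Set.mem_singleton_iff] at hc
        rw [hc]
        rcases hb with rfl | rfl
        · exact hAx₁ a ha
        · exact hAx₂ a ha
    have := (Subgroup.mem_centralizer_iff.mp (hle hh)) a (Set.mem_singleton a)
    exact this
  have hx₁A : x₁ ∉ A := fun hmem => hnc (hAcen x₁ hmem x₂ hx₂H)
  have hx₂A : x₂ ∉ A := fun hmem => hnc (hAcen x₂ hmem x₁ hx₁H).symm
  -- `w₁` normalizes `H`
  have hw₁H : ∀ h ∈ H, w₁ * h * w₁⁻¹ ∈ H := by
    intro h hh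
    have hle : H ≤ H.comap (MulAut.conj w₁).toMonoidHom := by
      apply sup_le
      · intro b hb
        rw [Subgroup.mem_comap]
        show w₁ * b * w₁⁻¹ ∈ H
        rw [hw₁A b hb, mul_inv_cancel_right]
        exact hAH hb
      · rw [Subgroup.closure_le]
        intro b hb
        simp only [Set.mem_insert_iff, Set.mem_singleton_iff] at hb
        rw [SetLike.mem_coe, Subgroup.mem_comap]
        show w₁ * b * w₁⁻¹ ∈ H
        rcases hb with rfl | rfl
        · rw [h11]; exact inv_mem hx₁H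
        · rw [h12]; exact hx₂H
    exact hle hh
  have hw₁inv : w₁⁻¹ = w₁ := by
    rw [inv_eq_iff_mul_eq_one, ← pow_two]; exact hw₁
  -- the cm-form of the hypothesis
  have hycm : ∀ h ∈ H, cm y h ∈ A := hyc
  have hRH : ∀ x ∈ H, ∀ y ∈ H, x ^ p = 1 → y ^ p = 1 → x * y = y * x → x ∉ A →
      ∃ a ∈ A, ∃ k : ℕ, y = a * x ^ k := hR
  -- the two CASE2 instances
  have case2a := case2 p hp2 A H x₁ x₂ w₁ hAp hAcen hx₁H hx₂H hx₁ hx₁A hw₁A h11 h12 hRH
  have case2b := case2 p hp2 A H x₂ x₁ w₂ hAp hAcen hx₂H hx₁H hx₂ hx₂A hw₂A h22 h21 hRH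
  by_cases hc1 : y * x₁ = x₁ * y
  · by_cases hc2 : y * x₂ = x₂ * y
    · -- commutes with both
      obtain ⟨a, ha, k, hk⟩ := hRH x₁ hx₁H y hyH hx₁ hyp hc1.symm hx₁A
      set u : G := x₁ ^ k with hu
      have hu1 : u ≠ 1 := by
        intro h1
        apply hyA
        rw [hk, h1, mul_one]; exact ha
      have hux₂ : u * x₂ = x₂ * u := by
        have hua : u = a⁻¹ * y := by rw [hk]; group
        have hai : a⁻¹ ∈ A := inv_mem ha
        rw [hua]
        calc a⁻¹ * y * x₂ = a⁻¹ * (y * x₂) := by group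
          _ = a⁻¹ * (x₂ * y) := by rw [hc2]
          _ = (a⁻¹ * x₂) * y := by group
          _ = (x₂ * a⁻¹) * y := by rw [hAx₂ a⁻¹ hai]
          _ = x₂ * (a⁻¹ * y) := by group
      -- `x₁` is a power of `u`
      have hord : orderOf x₁ = p := by
        rcases (Nat.dvd_prime hpp).mp (orderOf_dvd_of_pow_eq_one hx₁) with h | h
        · exact absurd (orderOf_eq_one_iff.mp h) hx₁1
        · exact h
      have hpk : ¬ p ∣ k := by
        intro hd
        apply hu1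
        rw [hu, ← hord] at *
        exact orderOf_dvd_iff_pow_eq_one.mp hd
      have hcop : Nat.Coprime k p := (Nat.Coprime.symm ((Nat.Prime.coprime_iff_not_dvd hpp).2 hpk))
      obtain ⟨m, -, hm⟩ := Nat.exists_mul_mod_eq_one_of_coprime hcop hpp.one_lt
      have hx₁u : x₁ = u ^ m := by
        rw [hu, ← pow_mul, ← pow_mod_orderOf, hord, hm, pow_one]
      apply hnc
      rw [hx₁u]
      exact ((Commute.pow_left (show Commute u x₂ from hux₂) m)).eq
    · exact case2a y hyH hyp hycm hc1 hc2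
  · by_cases hc2 : y * x₂ = x₂ * y
    · exact case2b y hyH hyp hycm hc2 hc1
    · -- commutes with neither
      set y' : G := w₁ * y * w₁⁻¹ with hy'
      have hy'H : y' ∈ H := hw₁H y hyH
      have hy'p : y' ^ p = 1 := by rw [hy', conj_pow, hyp]; group
      -- `cm y' h = cm y (w₁ h w₁⁻¹)` for `h ∈ H`
      have hy'cm : ∀ h ∈ H, cm y' h = cm y (w₁ * h * w₁⁻¹) := by
        intro h hh
        have h1 : cm y (w₁ * h * w₁⁻¹) ∈ A := hycm _ (hw₁H h hh)
        have h2 : w₁ * cm y (w₁ * h * w₁⁻¹) * w₁⁻¹ = cm y' h := by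
          rw [cm_conj]
          congr 1
          rw [hw₁inv]
          have : w₁ * w₁ = 1 := by rw [← pow_two]; exact hw₁
          calc w₁ * (w₁ * h * w₁) * w₁ = (w₁ * w₁) * h * (w₁ * w₁) := by group
            _ = h := by rw [this]; group
        rw [← h2, hw₁A _ h1, mul_inv_cancel_right]
      have hy'A : ∀ h ∈ H, cm y' h ∈ A := by
        intro h hh
        rw [hy'cm h hh]
        exact hycm _ (hw₁H h hh)
      set z : G := y * y' with hz
      have hzH : z ∈ H := mul_mem hyH hy'H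
      -- `cm z h = cm y' h * cm y h`
      have hzcm : ∀ h ∈ H, cm z h = cm y' h * cm y h := by
        intro h hh
        rw [hz, cm_mul_left]
        have h1 := hAcen (cm y' h) (hy'A h hh) y hyH
        calc y * cm y' h * y⁻¹ * cm y h = (y * cm y' h) * y⁻¹ * cm y h := by group
          _ = (cm y' h * y) * y⁻¹ * cm y h := by rw [h1]
          _ = cm y' h * cm y h := by group
      have hzA : ∀ h ∈ H, cm z h ∈ A := by
        intro h hh
        rw [hzcm h hh]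
        exact mul_mem (hy'A h hh) (hycm h hh)
      -- `z ^ p = 1`
      have hzp : z ^ p = 1 := by
        have hcA : cm y' y ∈ A := hy'A y hyH
        have hcu : Commute (y' * y * y'⁻¹ * y⁻¹) y := hAcen _ hcA y hyH
        have hcv : Commute (y' * y * y'⁻¹ * y⁻¹) y' := hAcen _ hcA y' hy'H
        have := Cfsg.Agent.Lib.H9.mul_pow_of_comm hcu hcv p
        rw [hz, this, hyp, hy'p, one_mul, one_mul]
        have hodd : 2 ∣ p - 1 := by
          have := hpp.eq_one_or_self_of_dvd 2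
          rcases hpp.eq_two_or_odd with h | h
          · exact absurd h hp2
          · omega
        rw [Nat.mul_div_assoc p hodd, pow_mul]
        have : (y' * y * y'⁻¹ * y⁻¹) ^ p = 1 := hAp _ hcA
        rw [this, one_pow]
      -- `z` commutes with `x₁`
      have hzx₁ : z * x₁ = x₁ * z := by
        rw [← cm_eq_one_iff, hzcm x₁ hx₁H, hy'cm x₁ hx₁H, h11, cm_inv_right]
        have hcA : cm y x₁ ∈ A := hycm x₁ hx₁H
        have hci : (cm y x₁)⁻¹ ∈ A := inv_mem hcA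
        have := hAcen _ hci x₁ hx₁H
        calc x₁⁻¹ * (cm y x₁)⁻¹ * x₁ * cm y x₁ = x₁⁻¹ * ((cm y x₁)⁻¹ * x₁) * cm y x₁ := by group
          _ = x₁⁻¹ * (x₁ * (cm y x₁)⁻¹) * cm y x₁ := by rw [this]
          _ = 1 := by group
      -- `z` does not commute with `x₂`
      have hzx₂ : z * x₂ ≠ x₂ * z := by
        rw [Ne, ← cm_eq_one_iff, hzcm x₂ hx₂H, hy'cm x₂ hx₂H, h12]
        intro h
        set c : G := cm y x₂ with hc
        have hcA : c ∈ A := hycm x₂ hx₂H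
        have hcc : c = c⁻¹ := by
          rw [eq_inv_iff_mul_eq_one]; exact h
        have hc1' : c = 1 := eq_one_of_inv_self hp2 (hAp c hcA) hcc
        exact hc2 ((cm_eq_one_iff y x₂).mp hc1')
      exact case2a z hzH hzp hzA hzx₁ hzx₂

end Cfsg.Agent.Lib.H25.SympBY2
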