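import Mathlib
import Cfsg.Agent.Lib.H7.T27Defs
import Cfsg.Agent.Lib.L0.CharExceptional

/-!
# S3701 piece STAR (helper25): the star of norm-2 differences `I(r 0) - I(r k)`
-/

set_option autoImplicit false

namespace Cfsg.Agent.Lib.H25.T27

open Cfsg Cfsg.Agent.Lib.H7.K4 Cfsg.Agent.Lib.H3.H108 Cfsg.Agent.Lib.H7.T27
open Cfsg.Agent.Lib.L0 Cfsg.Agent.Lib.H8
open scoped ComplexConjugate

/-- the five regular orbits are distinct and regular -/
theorem nn_r (j k : Fin 5) : nn (r j) (r k) = if j = k then 1 else 0 := by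
  revert j k; decide

section lat
variable {G : Type*} [Group G] [Fintype G] [Fintype (IrrCharacter G)]

theorem star (I : V → G → ℂ) (hchar : ∀ a, IsCharacter G (I a))
    (hgram : ∀ a a' b b' : V, classInner (I a - I a') (I b - I b') =
      (((nn a b : ℤ) - nn a b' - nn a' b + nn a' b' : ℤ) : ℂ))
    (hdeg : ∀ a a' : V, I a 1 = I a' 1) :
    ∃ (ε : ℤ) (Ξ : Fin 5 → IrrCharacter G), (ε = 1 ∨ ε = -1) ∧ Function.Injective Ξ ∧
      ∀ j k : Fin 5, I (r j) - I (r k) = (ε : ℂ) • ((Ξ j : G → ℂ) - (Ξ k : G → ℂ)) := by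
  classical
  -- the four differences
  have hgen : ∀ i : Fin 4, IsGeneralizedCharacter G (I (r 0) - I (r i.succ)) := fun i =>
    isGeneralizedCharacter_sub (isGeneralizedCharacter_of_isCharacter (hchar _))
      (isGeneralizedCharacter_of_isCharacter (hchar _))
  have hnorm : ∀ i : Fin 4, classInner (I (r 0) - I (r i.succ)) (I (r 0) - I (r i.succ)) = 2 := by
    intro i
    rw [hgram, nn_r, nn_r, nn_r, nn_r]
    have h1 : (0 : Fin 5) ≠ i.succ := (Fin.succ_ne_zero i).symm
    simp [h1, h1.symm]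
  have hvan : ∀ i : Fin 4, (I (r 0) - I (r i.succ)) 1 = 0 := by
    intro i
    rw [Pi.sub_apply, hdeg (r 0) (r i.succ), sub_self]
  have hex : ∀ i : Fin 4, ∃ a b : IrrCharacter G, a ≠ b ∧
      I (r 0) - I (r i.succ) = (a : G → ℂ) - (b : G → ℂ) := fun i =>
    genChar_norm_two_vanish (hgen i) (hnorm i) (hvan i)
  choose a b hab heq using hex
  have hg : ∀ i j : Fin 4, True → True → i ≠ j →
      kd (a i) (a j) - kd (a i) (b j) - kd (b i) (a j) + kd (b i) (b j) = 1 := by
    intro i j _ _ hij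
    have h1 := hgram (r 0) (r i.succ) (r 0) (r j.succ)
    rw [heq i, heq j, classInner_irr_sub_irr, nn_r, nn_r, nn_r, nn_r] at h1
    have h0i : (0 : Fin 5) ≠ i.succ := (Fin.succ_ne_zero i).symm
    have h0j : (0 : Fin 5) ≠ j.succ := (Fin.succ_ne_zero j).symm
    have hij' : i.succ ≠ j.succ := fun h => hij (Fin.succ_injective _ h)
    simp only [if_neg h0j, if_neg h0i.symm, if_neg hij'] at h1
    have h2 : ((kd (a i) (a j) - kd (a i) (b j) - kd (b i) (a j) + kd (b i) (b j) : ℤ) : ℂ)
        = ((1 : ℤ) : ℂ) := by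
      rw [h1]; push_cast; simp
    exact_mod_cast h2
  -- general consequence of the two formulas
  have hfin : ∀ (ε : ℤ) (Ξ : Fin 5 → IrrCharacter G),
      (∀ i : Fin 4, I (r 0) - I (r i.succ) =
        (ε : ℂ) • ((Ξ 0 : G → ℂ) - (Ξ i.succ : G → ℂ))) →
      ∀ j k : Fin 5, I (r j) - I (r k) = (ε : ℂ) • ((Ξ j : G → ℂ) - (Ξ k : G → ℂ)) := by
    intro ε Ξ h0
    have h0' : ∀ k : Fin 5, I (r 0) - I (r k) =
        (ε : ℂ) • ((Ξ 0 : G → ℂ) - (Ξ k : G → ℂ)) := by
      intro k
      refine Fin.cases ?_ (fun i => h0 i) k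
      simp
    intro j k
    have e1 : I (r j) - I (r k) = (I (r 0) - I (r k)) - (I (r 0) - I (r j)) := by abel
    rw [e1, h0' k, h0' j, ← smul_sub]
    congr 1
    abel
  rcases common_part (fun _ : Fin 4 => True) a b (fun i _ => hab i) hg 0 trivial with hA | hB
  · -- all `a j` agree: `ε = 1`, `Ξ = (a, b₁, .., b₄)`
    refine ⟨1, Fin.cons (a 0) b, Or.inl rfl, ?_, ?_⟩
    · rw [Fin.cons_injective_iff]
      refine ⟨?_, ?_⟩
      · rintro ⟨i, hi⟩
        exact hab i (by rw [hA i trivial, hi])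
      · intro i j hij
        by_contra hne
        have h1 := hg i j trivial trivial hne
        rw [hA i trivial, hA j trivial, hij] at h1
        have h2 : kd (a 0) (b j) = 0 := kd_of_ne (by rw [← hA j trivial]; exact hab j)
        have h3 : kd (b j) (a 0) = 0 := kd_of_ne (by rw [← hA j trivial]; exact (hab j).symm)
        rw [h2, h3] at h1
        simp [kd] at h1
    · apply hfin
      intro i
      simp only [Fin.cons_zero, Fin.cons_succ, Int.cast_one, one_smul]
      rw [heq i, hA i trivial]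
  · -- all `b j` agree: `ε = -1`, `Ξ = (b, a₁, .., a₄)`
    refine ⟨-1, Fin.cons (b 0) a, Or.inr rfl, ?_, ?_⟩
    · rw [Fin.cons_injective_iff]
      refine ⟨?_, ?_⟩
      · rintro ⟨i, hi⟩
        exact hab i (by rw [hB i trivial, hi])
      · intro i j hij
        by_contra hne
        have h1 := hg i j trivial trivial hne
        rw [hB i trivial, hB j trivial, hij] at h1
        have h2 : kd (a j) (b 0) = 0 := kd_of_ne (by rw [← hB j trivial]; exact hab j)
        have h3 : kd (b 0) (a j) = 0 := kd_of_ne (by rw [← hB j trivial]; exact (hab j).symm)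
        rw [h2, h3] at h1
        simp [kd] at h1
    · apply hfin
      intro i
      simp only [Fin.cons_zero, Fin.cons_succ, Int.cast_neg, Int.cast_one, neg_smul, one_smul,
        neg_sub]
      rw [heq i, hB i trivial]

end lat

end Cfsg.Agent.Lib.H25.T27
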