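import Mathlib
import Cfsg.Agent.Lib.H7.T27Defs
import Cfsg.Agent.Lib.L0.CharExceptional
import Cfsg.Agent.Lib.H25.T27STAR

/-!
# S3701 piece NORM (helper25): the multiplicities of `Ξ₀, Ξ₁` in `I b - I (r 0)`, `b ∈ {0, e₂, e₃}`
-/

set_option autoImplicit false

namespace Cfsg.Agent.Lib.H25.T27

open Cfsg Cfsg.Agent.Lib.H7.K4 Cfsg.Agent.Lib.H3.H108 Cfsg.Agent.Lib.H7.T27
open Cfsg.Agent.Lib.L0 Cfsg.Agent.Lib.H8
open scoped ComplexConjugate

theorem nn_b_r (b : V) (hb : b = 0 ∨ b = e2 ∨ b = e3) (k : Fin 5) :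
    nn b (r k) = 0 ∧ nn (r k) b = 0 := by
  rcases hb with rfl | rfl | rfl <;> revert k <;> decide

theorem nn_zero_zero : nn 0 0 = 4 := by decide
theorem nn_e2_e2 : nn e2 e2 = 2 := by decide
theorem nn_e3_e3 : nn e3 e3 = 2 := by decide

theorem r_ne_zero (k : Fin 5) : r k ≠ 0 := by revert k; decide

theorem succ_ne_self5 (j : Fin 5) : j + 1 ≠ j := by revert j; decide

section lat
variable {G : Type*} [Group G] [Fintype G] [Fintype (IrrCharacter G)]

theorem norm_arg (I : V → G → ℂ) (hchar : ∀ a, IsCharacter G (I a))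
    (hgram : ∀ a a' b b' : V, classInner (I a - I a') (I b - I b') =
      (((nn a b : ℤ) - nn a b' - nn a' b + nn a' b' : ℤ) : ℂ))
    (hone : ∀ a : V, classInner (I a) (1 : G → ℂ) = if a = 0 then 1 else 0)
    (hdeg : ∀ a a' : V, I a 1 = I a' 1)
    (ε : ℤ) (Ξ : Fin 5 → IrrCharacter G) (hε : ε = 1 ∨ ε = -1) (hΞ : Function.Injective Ξ)
    (hstar : ∀ j k : Fin 5, I (r j) - I (r k) = (ε : ℂ) • ((Ξ j : G → ℂ) - (Ξ k : G → ℂ)))
    (b : V) (hb : b = 0 ∨ b = e2 ∨ b = e3) :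
    classInner (I b - I (r 0)) (Ξ 0 : G → ℂ) = ((-ε : ℤ) : ℂ) ∧
      classInner (I b - I (r 0)) (Ξ 1 : G → ℂ) = 0 := by
  classical
  have hvgen : IsGeneralizedCharacter G (I b - I (r 0)) :=
    isGeneralizedCharacter_sub (isGeneralizedCharacter_of_isCharacter (hchar _))
      (isGeneralizedCharacter_of_isCharacter (hchar _))
  have hcex : ∀ ξ : IrrCharacter G, ∃ c : ℤ, classInner (I b - I (r 0)) (ξ : G → ℂ) = c :=
    fun ξ => genChar_classInner_irr_int hvgen ξ.2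
  choose c hc using hcex
  have hεsq : ε * ε = 1 := by rcases hε with rfl | rfl <;> norm_num
  -- the relation `x k = x 0 + ε`
  have hrel : ∀ k : Fin 5, k ≠ 0 → c (Ξ k) = c (Ξ 0) + ε := by
    intro k hk
    have h1 := hgram b (r 0) (r 0) (r k)
    rw [hstar 0 k, classInner_smul_right, classInner_sub_right, hc, hc, nn_r, nn_r,
      (nn_b_r b hb 0).1, (nn_b_r b hb k).1, if_pos rfl, if_neg (Ne.symm hk)] at h1
    have h2 : ((ε * (c (Ξ 0) - c (Ξ k)) : ℤ) : ℂ) = ((-1 : ℤ) : ℂ) := by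
      push_cast
      rw [map_intCast] at h1
      rw [h1]; push_cast; ring
    have h3 : ε * (c (Ξ 0) - c (Ξ k)) = -1 := by exact_mod_cast h2
    have h4 : c (Ξ 0) - c (Ξ k) = -ε := by
      calc c (Ξ 0) - c (Ξ k) = (ε * ε) * (c (Ξ 0) - c (Ξ k)) := by rw [hεsq, one_mul]
        _ = ε * (ε * (c (Ξ 0) - c (Ξ k))) := by ring
        _ = -ε := by rw [h3]; ring
    linarith
  -- the norm
  have hnorm : classInner (I b - I (r 0)) (I b - I (r 0)) = (((nn b b : ℤ) + 1 : ℤ) : ℂ) := by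
    rw [hgram, nn_r, (nn_b_r b hb 0).1, (nn_b_r b hb 0).2, if_pos rfl]
    push_cast; ring
  have hsum := genChar_norm hvgen c hc
  have hN : ∑ ξ : IrrCharacter G, c ξ ^ 2 = (nn b b : ℤ) + 1 := by
    rw [hnorm] at hsum
    exact_mod_cast hsum.symm
  -- Bessel
  have hbess : ∑ k : Fin 5, c (Ξ k) ^ 2 ≤ ∑ ξ : IrrCharacter G, c ξ ^ 2 := by
    rw [← Finset.sum_image (f := fun ξ => c ξ ^ 2) (s := Finset.univ) (g := Ξ)
      (fun _ _ _ _ h => hΞ h)]
    exact Finset.sum_le_sum_of_subset_of_nonneg (Finset.subset_univ _)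
      (fun _ _ _ => sq_nonneg _)
  have hfive : ∑ k : Fin 5, c (Ξ k) ^ 2 = c (Ξ 0) ^ 2 + 4 * (c (Ξ 0) + ε) ^ 2 := by
    rw [Fin.sum_univ_five, hrel 1 (by decide), hrel 2 (by decide), hrel 3 (by decide),
      hrel 4 (by decide)]
    ring
  rw [hfive, hN] at hbess
  suffices hx : c (Ξ 0) = -ε by
    constructor
    · rw [hc, hx]
    · rw [hc, hrel 1 (by decide), hx]; simp
  -- `y = x + ε` is `0`, or (`b = 0` only) `x = 0`
  have hy : c (Ξ 0) + ε = 0 ∨ (b = 0 ∧ c (Ξ 0) = 0) := by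
    by_cases h0 : c (Ξ 0) + ε = 0
    · exact Or.inl h0
    · right
      have hpos : 0 < (c (Ξ 0) + ε) ^ 2 := lt_of_le_of_ne (sq_nonneg _) (Ne.symm (pow_ne_zero 2 h0))
      have hx2 : 0 ≤ c (Ξ 0) ^ 2 := sq_nonneg _
      rcases hb with rfl | rfl | rfl
      · refine ⟨rfl, ?_⟩
        rw [nn_zero_zero] at hbess
        have hy1 : (c (Ξ 0) + ε) ^ 2 ≤ 1 := by
          by_contra hgt
          push Not at hgt
          have : 2 ≤ (c (Ξ 0) + ε) ^ 2 := hgt
          push_cast at hbess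
          linarith
        have hx1 : c (Ξ 0) ^ 2 ≤ 1 := by
          push_cast at hbess
          nlinarith
        have hxa : -1 ≤ c (Ξ 0) ∧ c (Ξ 0) ≤ 1 := by
          constructor <;> nlinarith
        have hya : -1 ≤ c (Ξ 0) + ε ∧ c (Ξ 0) + ε ≤ 1 := by
          constructor <;> nlinarith
        rcases hε with rfl | rfl <;> omega
      · exfalso
        rw [nn_e2_e2] at hbess
        push_cast at hbess
        linarith
      · exfalso
        rw [nn_e3_e3] at hbess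
        push_cast at hbess
        linarith
  rcases hy with hy | ⟨rfl, hx0⟩
  · linarith
  exfalso
  -- the trivial character
  have hct : c ⟨1, isIrrCharacter_one⟩ = 1 := by
    have h1 := hc ⟨1, isIrrCharacter_one⟩
    rw [classInner_sub_left, hone, hone, if_pos rfl, if_neg (r_ne_zero 0)] at h1
    have h2 : ((c ⟨1, isIrrCharacter_one⟩ : ℤ) : ℂ) = ((1 : ℤ) : ℂ) := by
      rw [← h1]; push_cast; ring
    exact_mod_cast h2
  have htriv : ∀ j : Fin 5, Ξ j ≠ ⟨1, isIrrCharacter_one⟩ := by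
    intro j hj
    have e1 : (Ξ j : G → ℂ) = 1 := congrArg Subtype.val hj
    have hk : j + 1 ≠ j := succ_ne_self5 j
    have h1 : classInner (I (r j) - I (r (j + 1))) (1 : G → ℂ) =
        classInner ((ε : ℂ) • ((Ξ j : G → ℂ) - (Ξ (j + 1) : G → ℂ))) (1 : G → ℂ) := by
      rw [hstar j (j + 1)]
    rw [classInner_sub_left, hone, hone, if_neg (r_ne_zero _), if_neg (r_ne_zero _),
      classInner_smul_left, classInner_sub_left, e1, irr_classInner_self isIrrCharacter_one,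
      irr_classInner_ne (Ξ (j + 1)).2 isIrrCharacter_one
        (fun h => hk (hΞ (Subtype.ext (h.trans e1.symm))))] at h1
    have h2 : ((ε : ℤ) : ℂ) = ((0 : ℤ) : ℂ) := by
      push_cast; linear_combination -h1
    have h3 : ε = 0 := by exact_mod_cast h2
    rcases hε with h | h <;> omega
  have hmem : (⟨1, isIrrCharacter_one⟩ : IrrCharacter G) ∉ Finset.univ.image Ξ := by
    intro h
    obtain ⟨j, -, hj⟩ := Finset.mem_image.mp h
    exact htriv j hj
  have hSsum : ∑ ξ ∈ insert (⟨1, isIrrCharacter_one⟩ : IrrCharacter G) (Finset.univ.image Ξ),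
      c ξ ^ 2 = 5 := by
    rw [Finset.sum_insert hmem, Finset.sum_image (fun _ _ _ _ h => hΞ h), hfive, hct, hx0]
    rcases hε with rfl | rfl <;> norm_num
  rw [nn_zero_zero] at hN
  have hcompl : ∑ ξ ∈ Finset.univ \ insert (⟨1, isIrrCharacter_one⟩ : IrrCharacter G)
      (Finset.univ.image Ξ), c ξ ^ 2 = 0 := by
    have := Finset.sum_sdiff (f := fun ξ => c ξ ^ 2) (Finset.subset_univ
      (insert (⟨1, isIrrCharacter_one⟩ : IrrCharacter G) (Finset.univ.image Ξ)))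
    rw [hSsum, hN] at this
    push_cast at this
    linarith
  have hz : ∀ ξ : IrrCharacter G,
      ξ ∉ insert (⟨1, isIrrCharacter_one⟩ : IrrCharacter G) (Finset.univ.image Ξ) → c ξ = 0 := by
    intro ξ hξ
    have := (Finset.sum_eq_zero_iff_of_nonneg (fun i _ => sq_nonneg (c i))).mp hcompl ξ
      (Finset.mem_sdiff.mpr ⟨Finset.mem_univ _, hξ⟩)
    exact pow_eq_zero_iff (two_ne_zero) |>.mp this
  have hexp := genChar_expansion hvgen c hc
  have hat1 := congrFun hexp 1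
  rw [Pi.sub_apply, hdeg 0 (r 0), sub_self, Finset.sum_apply] at hat1
  rw [← Finset.sum_subset (Finset.subset_univ
      (insert (⟨1, isIrrCharacter_one⟩ : IrrCharacter G) (Finset.univ.image Ξ)))
      (fun ξ _ hξ => by rw [hz ξ hξ]; simp),
    Finset.sum_insert hmem, Finset.sum_image (fun _ _ _ _ h => hΞ h), Fin.sum_univ_five,
    hrel 1 (by decide), hrel 2 (by decide), hrel 3 (by decide), hrel 4 (by decide), hx0, hct] at hat1
  obtain ⟨n1, hn1, e1⟩ := Cfsg.Agent.Lib.H24.irr_one_eq (Ξ 1)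
  obtain ⟨n2, hn2, e2'⟩ := Cfsg.Agent.Lib.H24.irr_one_eq (Ξ 2)
  obtain ⟨n3, hn3, e3'⟩ := Cfsg.Agent.Lib.H24.irr_one_eq (Ξ 3)
  obtain ⟨n4, hn4, e4⟩ := Cfsg.Agent.Lib.H24.irr_one_eq (Ξ 4)
  simp only [Pi.smul_apply, smul_eq_mul, e1, e2', e3', e4, Pi.one_apply] at hat1
  have h5 : ((1 + ε * (n1 + n2 + n3 + n4) : ℤ) : ℂ) = ((0 : ℤ) : ℂ) := by
    push_cast
    rw [hat1]
    push_cast
    ring
  have h6 : 1 + ε * (n1 + n2 + n3 + n4) = 0 := by exact_mod_cast h5
  rcases hε with rfl | rfl <;> omega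

end lat

end Cfsg.Agent.Lib.H25.T27
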