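import Mathlib
import Cfsg.Agent.Lib.H24.TV4NT

set_option autoImplicit false
set_option linter.style.haveILetI false

/-!
# S4004 piece AVG (helper25 twin, for helper20's TV3 farm-out)

All element orders in `{1, r, r'}`, `V ≠ 1` normal abelian of exponent `r`, `y` of order `r'`, `c` of order `r`
normalizing `⟨y⟩`: contradiction.  Proof: the landed norm trick (`Lib/H24/TV4NT.normtrick`, helper24) applied to
`Q = ⟨y⟩ ≤ H = ⟨y⟩⟨c⟩`.
-/

namespace Cfsg.Agent.Lib.H25.TV3

universe u

section aux

variable {G : Type u} [Group G]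

/-- If `a` normalizes `Q` and `q ∈ Q` then `(q a)^n ∈ Q a^n`. -/
theorem avg_pow_mul_mem (Q : Subgroup G) {a q : G} (ha : a ∈ Subgroup.normalizer (Q : Set G)) (hq : q ∈ Q) (n : ℕ) :
    (q * a) ^ n * (a ^ n)⁻¹ ∈ Q := by
  induction n with
  | zero => simp
  | succ n ih =>
    have han : a ^ n ∈ Subgroup.normalizer (Q : Set G) := pow_mem ha n
    have h1 : a ^ n * q * (a ^ n)⁻¹ ∈ Q := (Subgroup.mem_normalizer_iff.mp han q).mp hq
    have : (q * a) ^ (n + 1) * (a ^ (n + 1))⁻¹
        = ((q * a) ^ n * (a ^ n)⁻¹) * (a ^ n * q * (a ^ n)⁻¹) := by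
      rw [pow_succ, pow_succ]
      group
    rw [this]
    exact mul_mem ih h1

/-- An element of order prime to `r` is a power of its `r`-th power. -/
theorem avg_mem_zpowers_pow {r : ℕ} {h : G} (hcop : Nat.Coprime (orderOf h) r) :
    h ∈ Subgroup.zpowers (h ^ r) := by
  rcases Nat.lt_or_ge 1 (orderOf h) with h1 | h1
  · obtain ⟨m, -, hm⟩ := Nat.exists_mul_mod_eq_one_of_coprime hcop.symm h1
    have : (h ^ r) ^ m = h := by
      rw [← pow_mul, ← pow_mod_orderOf, hm, pow_one]
    exact Subgroup.mem_zpowers_iff.mpr ⟨(m : ℤ), by rw [zpow_natCast]; exact this⟩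
  · interval_cases hh : orderOf h
    · rw [Nat.coprime_zero_left] at hcop
      subst hcop
      rw [pow_one]
      exact Subgroup.mem_zpowers h
    · rw [orderOf_eq_one_iff.mp hh]
      exact one_mem _

end aux

theorem avg {G : Type u} [Group G] [Finite G] {r r' : ℕ} (hr : r.Prime) (hr' : r'.Prime) (hne : r ≠ r')
    (hord : ∀ g : G, orderOf g = 1 ∨ orderOf g = r ∨ orderOf g = r')
    (V : Subgroup G) [V.Normal] (hVc : ∀ a ∈ V, ∀ b ∈ V, a * b = b * a) (hVr : ∀ a ∈ V, a ^ r = 1)
    (hV1 : V ≠ ⊥) (y c : G) (hy : orderOf y = r') (hc : orderOf c = r)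
    (hn : c * y * c⁻¹ ∈ Subgroup.zpowers y) : False := by
  classical
  have hcop : Nat.Coprime r r' := (Nat.coprime_primes hr hr').2 hne
  set Q : Subgroup G := Subgroup.zpowers y with hQ
  set C : Subgroup G := Subgroup.zpowers c with hC
  -- `c` normalizes `Q`
  have hconj : ∀ n : ℕ, ∀ k ∈ Q, c ^ n * k * (c ^ n)⁻¹ ∈ Q := by
    intro n
    induction n with
    | zero => intro k hk; simpa using hk
    | succ n ih =>
      intro k hk
      have h1 := ih k hk
      obtain ⟨j, hj⟩ := Subgroup.mem_zpowers_iff.mp h1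
      have : c ^ (n + 1) * k * (c ^ (n + 1))⁻¹ = (c * y * c⁻¹) ^ j := by
        rw [conj_zpow, hj, pow_succ']
        group
      rw [this]
      exact zpow_mem hn j
  have hCQ : C ≤ Subgroup.normalizer (Q : Set G) := by
    rw [Subgroup.le_normalizer_iff]
    intro h hh k hk
    have hh' : h ∈ Submonoid.powers c := mem_powers_iff_mem_zpowers.mpr hh
    obtain ⟨n, rfl⟩ := hh'
    exact hconj n k hk
  set H : Subgroup G := Q ⊔ C with hH
  have hQH : Q ≤ H := le_sup_left
  have hcH : c ∈ H := (le_sup_right : C ≤ H) (Subgroup.mem_zpowers c)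
  have hVH : H ≤ Subgroup.normalizer (V : Set G) := by
    rw [Subgroup.normalizer_eq_top]; exact le_top
  have hcardQ : Nat.card Q = r' := by rw [hQ, Nat.card_zpowers, hy]
  -- fixed points of `Q` on `V`
  have hfpf : ∀ v ∈ V, (∀ t ∈ Q, t * v * t⁻¹ = v) → v = 1 := by
    intro v hv hfix
    by_contra hv1
    have hvo : orderOf v = r := by
      have := orderOf_dvd_of_pow_eq_one (hVr v hv)
      rcases (Nat.dvd_prime hr).mp this with h | h
      · exact absurd (orderOf_eq_one_iff.mp h) hv1
      · exact h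
    have hcm : Commute v y := by
      have := hfix y (Subgroup.mem_zpowers y)
      show v * y = y * v
      calc v * y = (y * v * y⁻¹) * y := by rw [this]
        _ = y * v := by group
    have ho : orderOf (v * y) = r * r' := by
      rw [hcm.orderOf_mul_eq_mul_orderOf_of_coprime (by rw [hvo, hy]; exact hcop), hvo, hy]
    have hr2 := hr.two_le
    have hr2' := hr'.two_le
    rcases hord (v * y) with h | h | h
    · rw [ho] at h; nlinarith
    · rw [ho] at h; nlinarith
    · rw [ho] at h; nlinarith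
  -- elements of `H` outside `Q` have order `r`
  have hordH : ∀ h ∈ H, h ∉ Q → orderOf h = r := by
    intro h hh hhQ
    have hmem : h ∈ ((Q ⊔ C : Subgroup G) : Set G) := hh
    rw [Subgroup.coe_mul_of_right_le_normalizer_left Q C hCQ] at hmem
    obtain ⟨q, hq, a, ha, rfl⟩ := hmem
    change q * a ∉ Q at hhQ
    show orderOf (q * a) = r
    have haN : a ∈ Subgroup.normalizer (Q : Set G) := hCQ ha
    have har : a ^ r = 1 := by
      obtain ⟨j, rfl⟩ := Subgroup.mem_zpowers_iff.mp ha
      rw [← zpow_natCast, ← zpow_mul, mul_comm, zpow_mul, zpow_natCast, ← hc, pow_orderOf_eq_one, one_zpow]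
    have hpr : (q * a) ^ r ∈ Q := by
      have := avg_pow_mul_mem Q haN hq r
      rwa [har, inv_one, mul_one] at this
    rcases hord (q * a) with h1 | h1 | h1
    · exact absurd (by rw [orderOf_eq_one_iff.mp h1]; exact one_mem Q) hhQ
    · exact h1
    · exfalso
      apply hhQ
      have hco : Nat.Coprime (orderOf (q * a)) r := by rw [h1]; exact hcop.symm
      have := avg_mem_zpowers_pow hco
      exact (Subgroup.zpowers_le.mpr hpr) this
  have hord' : ∀ h ∈ H, h ∉ Q → ∀ v ∈ V, (v * h) ^ r = 1 := by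
    intro h hh hhQ v hv
    have hho := hordH h hh hhQ
    have hhr : h ^ r = 1 := by rw [← hho]; exact pow_orderOf_eq_one h
    have hmemV : (v * h) ^ r ∈ V := by
      have hN : h ∈ Subgroup.normalizer (V : Set G) := hVH hh
      have := avg_pow_mul_mem V hN hv r
      rwa [hhr, inv_one, mul_one] at this
    rcases hord (v * h) with h1 | h1 | h1
    · rw [orderOf_eq_one_iff.mp h1, one_pow]
    · rw [← h1]; exact pow_orderOf_eq_one _
    · exfalso
      have h2 : ((v * h) ^ r) ^ r = 1 := hVr _ hmemV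
      rw [← pow_mul] at h2
      have h3 : r' ∣ r * r := by rw [← h1]; exact orderOf_dvd_of_pow_eq_one h2
      have h4 : r' ∣ r := (Nat.Prime.dvd_mul hr').mp h3 |>.elim id id
      exact hne ((Nat.prime_dvd_prime_iff_eq hr' hr).mp h4).symm
  -- coprimality
  have hcopc : (Nat.card H - Nat.card Q).Coprime r := by
    have hrH : r ∣ Nat.card H := by
      rw [← hc]; exact Subgroup.orderOf_dvd_natCard H hcH
    have hle : Nat.card Q ≤ Nat.card H := Subgroup.card_le_of_le hQH
    apply Nat.Coprime.symm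
    rw [Nat.Prime.coprime_iff_not_dvd hr]
    intro hd
    have : r ∣ Nat.card Q := by
      have := (Nat.dvd_sub_iff_right hle hrH).mp hd
      exact this
    rw [hcardQ] at this
    exact hne ((Nat.prime_dvd_prime_iff_eq hr hr').mp this)
  exact hV1 (Cfsg.Agent.Lib.H24.TV4.normtrick hr V H Q hVH hQH hVc hVr hfpf hord' hcopc)

end Cfsg.Agent.Lib.H25.TV3
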