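import Cfsg.Agent.Lib.H25.TpBase

/-!
# S5637: Lemma A and Lemma A* (pieces T3, T4) (helper25)
-/

set_option autoImplicit false
set_option linter.unusedSectionVars false
set_option linter.unusedVariables false

namespace Cfsg.Agent.Lib.H25.Tp

open Matrix Kronecker Module
open Cfsg.Geo
open Cfsg.Agent.Lib.H29.Tensor (pt kron_pt pt_add_left pt_add_right pt_smul_left pt_smul_right)
open Cfsg.Agent.Lib.H11.SubspMax (gl_mul_mulVec gl_inv_mulVec gl_mulVec_inv)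

variable {F : Type*} [Field F] {a b : ℕ}

/-- the commutator of two "square zero" unipotent elements `1 + N`, `1 + N'` with `N N' = 0` -/
theorem comm_val {ι : Type} [Fintype ι] [DecidableEq ι] (r r' : GL ι F) (N N' : Matrix ι ι F)
    (hr : r.val = 1 + N) (hri : r⁻¹.val = 1 - N) (hr' : r'.val = 1 + N') (hri' : r'⁻¹.val = 1 - N')
    (h1 : N * N' = 0) (h2 : N * N = 0) (h3 : N' * N' = 0) :
    (r * r' * r⁻¹ * r'⁻¹).val = 1 - N' * N := by
  rw [Units.val_mul, Units.val_mul, Units.val_mul, hr, hri, hr', hri']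
  have e1 : (1 + N) * (1 + N') = 1 + N + N' := by
    have : (1 + N) * (1 + N') = 1 + N + N' + N * N' := by noncomm_ring
    rw [this, h1, add_zero]
  have e2 : (1 + N + N') * (1 - N) = 1 + N' - N' * N := by
    have : (1 + N + N') * (1 - N) = 1 + N' - N' * N - N * N := by noncomm_ring
    rw [this, h2, sub_zero]
  have e3 : (1 + N' - N' * N) * (1 - N') = 1 - N' * N := by
    have : (1 + N' - N' * N) * (1 - N') = 1 - N' * N - N' * N' + N' * (N * N') := by noncomm_ring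
    rw [this, h3, h1, Matrix.mul_zero, sub_zero, add_zero]
  rw [e1, e2, e3]

theorem NN_sq (z φ : Fin b → F) (h : φ ⬝ᵥ z = 0) : NN (a := a) z φ * NN z φ = 0 := by
  rw [NN_mul_NN, h, zero_smul]

/-- the conjugate `y (1 + N) y⁻¹` -/
theorem conj_val (y r₀ : GL (Fin a × Fin b) F) (N₀ : Matrix (Fin a × Fin b) (Fin a × Fin b) F)
    (h : r₀.val = 1 + N₀) : (y * r₀ * y⁻¹).val = 1 + y.val * N₀ * y⁻¹.val := by
  rw [Units.val_mul, Units.val_mul, h, Matrix.mul_add, Matrix.add_mul, Matrix.mul_one,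
    ← Units.val_mul, mul_inv_cancel, Units.val_one]

theorem conj_inv_val (y r₀ : GL (Fin a × Fin b) F) (N₀ : Matrix (Fin a × Fin b) (Fin a × Fin b) F)
    (h : r₀⁻¹.val = 1 - N₀) : (y * r₀ * y⁻¹)⁻¹.val = 1 - y.val * N₀ * y⁻¹.val := by
  have : (y * r₀ * y⁻¹)⁻¹ = y * r₀⁻¹ * y⁻¹ := by group
  rw [this, Units.val_mul, Units.val_mul, h, Matrix.mul_sub, Matrix.sub_mul, Matrix.mul_one,
    ← Units.val_mul, mul_inv_cancel, Units.val_one]

theorem conj_sq (y : GL (Fin a × Fin b) F) (N₀ : Matrix (Fin a × Fin b) (Fin a × Fin b) F)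
    (h : N₀ * N₀ = 0) : (y.val * N₀ * y⁻¹.val) * (y.val * N₀ * y⁻¹.val) = 0 := by
  have : (y.val * N₀ * y⁻¹.val) * (y.val * N₀ * y⁻¹.val) =
      y.val * (N₀ * ((y⁻¹.val * y.val) * N₀)) * y⁻¹.val := by
    simp only [Matrix.mul_assoc]
  rw [this, ← Units.val_mul, inv_mul_cancel, Units.val_one, Matrix.one_mul, h, Matrix.mul_zero,
    Matrix.zero_mul]

theorem conj_mulVec (y : GL (Fin a × Fin b) F) (N₀ : Matrix (Fin a × Fin b) (Fin a × Fin b) F)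
    (m : Fin a × Fin b → F) :
    (y.val * N₀ * y⁻¹.val) *ᵥ m = y.val *ᵥ (N₀ *ᵥ (y⁻¹.val *ᵥ m)) := by
  rw [Matrix.mulVec_mulVec, Matrix.mulVec_mulVec, Matrix.mul_assoc]

/-- a matrix killing every vector is zero -/
theorem eq_zero_of_mulVec {ι : Type} [Fintype ι] [DecidableEq ι] (M : Matrix ι ι F)
    (h : ∀ m, M *ᵥ m = 0) : M = 0 := by
  apply Matrix.mulVec_injective
  funext m
  rw [h m, Matrix.zero_mulVec]

/-- two independent vectors in `ker φ` (b ≥ 3) -/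
theorem exists_two_indep (hb : 3 ≤ b) (φ : Fin b → F) :
    ∃ (v₁ v₂ χ : Fin b → F), φ ⬝ᵥ v₁ = 0 ∧ φ ⬝ᵥ v₂ = 0 ∧ v₂ ≠ 0 ∧ v₁ ⬝ᵥ χ = 1 ∧ v₂ ⬝ᵥ χ = 0 := by
  obtain ⟨v₁, hv₁0, hv₁⟩ := exists_dot_eq_zero (by omega : 2 ≤ b) φ
  obtain ⟨χ, hχ⟩ := exists_dot_eq_one hv₁0
  obtain ⟨v₂, hv₂0, h1, h2⟩ := exists_dot_eq_zero₂ hb φ χ
  refine ⟨v₁, v₂, χ, ?_, ?_, hv₂0, ?_, h2⟩
  · rw [dotProduct_comm]; exact hv₁
  · rw [dotProduct_comm]; exact h1
  · rw [dotProduct_comm]; exact hχ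

/-- two `B`-lines `Lv v₁ = Lv v₂` force proportionality -/
theorem false_of_Lv_eq (ha : 1 ≤ a) {v₁ v₂ χ : Fin b → F} (h1 : v₁ ⬝ᵥ χ = 1) (h2 : v₂ ⬝ᵥ χ = 0)
    (h : Lv (a := a) (F := F) v₁ = Lv v₂) : False := by
  let u₀ : Fin a → F := Pi.single ⟨0, by omega⟩ 1
  have hu₀ : u₀ ≠ 0 := by
    intro h0
    have := congrFun h0 ⟨0, by omega⟩
    simp [u₀] at this
  have hm : pt u₀ v₁ ∈ Lv v₂ := by rw [← h]; exact pt_mem_Lv u₀ v₁
  obtain ⟨u', hu'⟩ := mem_Lv.mp hm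
  obtain ⟨c, hc⟩ := right_prop_of_pt_eq hu₀ hu'.symm
  rw [hc, smul_dotProduct, h2, smul_zero] at h1
  exact zero_ne_one h1

/-- **T3 (Lemma A).** -/
theorem bline_of_le_W (ha : 2 ≤ a) (hb : 3 ≤ b) (X : Subgroup (GL (Fin a × Fin b) F)) (hX : H0 a b F ≤ X)
    (hnts : NTs X) (y : GL (Fin a × Fin b) F) (hy : y ∈ X)
    (z' : Fin b → F) (hz' : z' ≠ 0) (φ : Fin b → F) (hφ : φ ≠ 0)
    (h : ∀ u : Fin a → F, con (y.val *ᵥ pt u z') φ = 0) :
    ∃ w : Fin b → F, w ≠ 0 ∧ ∀ u : Fin a → F, y.val *ᵥ pt u z' ∈ Lv w := by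
  by_contra hcon
  have key : ∀ v φ' : Fin b → F, φ ⬝ᵥ v = 0 → φ' ⬝ᵥ z' = 0 →
      ∀ m, NN (a := a) z' φ' *ᵥ (y⁻¹.val *ᵥ (NN v φ *ᵥ m)) = 0 := by
    intro v φ' hv hφ'
    set N : Matrix (Fin a × Fin b) (Fin a × Fin b) F := NN v φ with hN
    set N' : Matrix (Fin a × Fin b) (Fin a × Fin b) F := y.val * NN z' φ' * y⁻¹.val with hN'
    have hNN' : N * N' = 0 := by
      apply eq_zero_of_mulVec
      intro m
      rw [← Matrix.mulVec_mulVec, hN', conj_mulVec, NN_mulVec z' φ', hN, NN_mulVec, h, pt_zero_left]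
    set g : GL (Fin a × Fin b) F :=
      rr v φ hv * (y * rr z' φ' hφ' * y⁻¹) * (rr v φ hv)⁻¹ * (y * rr z' φ' hφ' * y⁻¹)⁻¹ with hg
    have hgX : g ∈ X := by
      have h1 : rr (a := a) v φ hv ∈ X := hX (rr_mem_H0 v φ hv)
      have h2 : y * rr z' φ' hφ' * y⁻¹ ∈ X :=
        X.mul_mem (X.mul_mem hy (hX (rr_mem_H0 z' φ' hφ'))) (X.inv_mem hy)
      exact X.mul_mem (X.mul_mem (X.mul_mem h1 h2) (X.inv_mem h1)) (X.inv_mem h2)
    have hgval : g.val = 1 - N' * N :=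
      comm_val _ _ N N' (rr_val v φ hv) (rr_inv_val v φ hv)
        (conj_val y _ _ (rr_val z' φ' hφ')) (conj_inv_val y _ _ (rr_inv_val z' φ' hφ'))
        hNN' (NN_sq v φ hv) (conj_sq y _ (NN_sq z' φ' hφ'))
    have hg1 : g.val - 1 = - (N' * N) := by rw [hgval]; abel
    have hact : ∀ m, (g.val - 1) *ᵥ m = - (y.val *ᵥ (NN z' φ' *ᵥ (y⁻¹.val *ᵥ (N *ᵥ m)))) := by
      intro m
      rw [hg1, Matrix.neg_mulVec, ← Matrix.mulVec_mulVec, hN', conj_mulVec]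
    obtain ⟨w, hw⟩ := hnts g hgX φ hφ (by
      intro m
      rw [hact, con_neg, NN_mulVec z' φ', h, neg_zero]) (by
      intro m hm
      rw [hact, hN, NN_mulVec v φ, hm, pt_zero_left, Matrix.mulVec_zero, Matrix.mulVec_zero,
        Matrix.mulVec_zero, neg_zero])
    by_cases hw0 : w = 0
    · intro m
      have h1 := hact m
      rw [hw, hw0] at h1
      have h2 : NN (a := a) (0 : Fin b → F) φ *ᵥ m = 0 := by rw [NN_mulVec, pt_zero_right]
      rw [h2] at h1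
      have h3 : y.val *ᵥ (NN z' φ' *ᵥ (y⁻¹.val *ᵥ (N *ᵥ m))) = 0 := by
        have := congrArg Neg.neg h1
        rw [neg_neg, neg_zero] at this
        exact this.symm
      have h4 := congrArg (fun x => y⁻¹.val *ᵥ x) h3
      simp only [gl_inv_mulVec, Matrix.mulVec_zero] at h4
      exact h4
    · exfalso
      apply hcon
      refine ⟨w, hw0, ?_⟩
      have hle : Lv (a := a) w ≤ mapS y (Lv z') := by
        intro m' hm'
        obtain ⟨u, rfl⟩ := mem_Lv.mp hm'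
        obtain ⟨m₀, hm₀⟩ := pt_eq_NN_mulVec hφ w u
        rw [← hm₀, ← hw, hact, NN_mulVec z' φ', ← Matrix.mulVec_neg, ← pt_neg_left]
        exact mulVec_mem_mapS (pt_mem_Lv _ _)
      have heq : Lv (a := a) w = mapS y (Lv z') :=
        eq_of_le_of_finrank_eq hle (by rw [finrank_mapS, finrank_Lv hw0, finrank_Lv hz'])
      intro u
      rw [heq]
      exact mulVec_mem_mapS (pt_mem_Lv _ _)
  have h2 : ∀ v : Fin b → F, φ ⬝ᵥ v = 0 → ∀ u : Fin a → F, y⁻¹.val *ᵥ pt u v ∈ Lv z' := by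
    intro v hv u
    apply mem_Lv_of_forall_con hz'
    intro φ' hφ'
    obtain ⟨m, hm⟩ := exists_con_eq hφ u
    have := key v φ' hv hφ' m
    rw [NN_mulVec v φ, hm, NN_mulVec] at this
    exact pt_eq_zero hz' this
  obtain ⟨v₁, v₂, χ, hv₁, hv₂, hv₂0, hχ1, hχ2⟩ := exists_two_indep hb φ
  have hv₁0 : v₁ ≠ 0 := by
    intro h0; rw [h0, zero_dotProduct] at hχ1; exact zero_ne_one hχ1
  have e1 : mapS y⁻¹ (Lv (a := a) v₁) = Lv z' := by
    apply eq_of_le_of_finrank_eq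
    · intro m hm
      obtain ⟨s, hs, rfl⟩ := mem_mapS.mp hm
      obtain ⟨u, rfl⟩ := mem_Lv.mp hs
      exact h2 v₁ hv₁ u
    · rw [finrank_mapS, finrank_Lv hv₁0, finrank_Lv hz']
  have e2 : mapS y⁻¹ (Lv (a := a) v₂) = Lv z' := by
    apply eq_of_le_of_finrank_eq
    · intro m hm
      obtain ⟨s, hs, rfl⟩ := mem_mapS.mp hm
      obtain ⟨u, rfl⟩ := mem_Lv.mp hs
      exact h2 v₂ hv₂ u
    · rw [finrank_mapS, finrank_Lv hv₂0, finrank_Lv hz']
  have e3 : Lv (a := a) v₁ = Lv v₂ := by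
    have := congrArg (mapS y) (e1.trans e2.symm)
    rw [← inv_inv y] at this
    simpa only [inv_inv, mapS_mapS_inv] using this
  exact false_of_Lv_eq (by omega) hχ1 hχ2 e3

/-- **T4 (Lemma A*).** -/
theorem bhyp_of_L_le (ha : 2 ≤ a) (hb : 3 ≤ b) (X : Subgroup (GL (Fin a × Fin b) F)) (hX : H0 a b F ≤ X)
    (hnt : NT X) (y : GL (Fin a × Fin b) F) (hy : y ∈ X)
    (φ' : Fin b → F) (hφ' : φ' ≠ 0) (z : Fin b → F) (hz : z ≠ 0)
    (h : ∀ u : Fin a → F, con (y⁻¹.val *ᵥ pt u z) φ' = 0) :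
    ∃ ψ : Fin b → F, ψ ≠ 0 ∧ ∀ m : Fin a × Fin b → F, con m φ' = 0 → con (y.val *ᵥ m) ψ = 0 := by
  by_contra hcon
  have key : ∀ v' φ : Fin b → F, φ' ⬝ᵥ v' = 0 → φ ⬝ᵥ z = 0 →
      ∀ m, NN (a := a) z φ *ᵥ (y.val *ᵥ (NN v' φ' *ᵥ m)) = 0 := by
    intro v' φ hv' hφ
    set N : Matrix (Fin a × Fin b) (Fin a × Fin b) F := NN z φ with hN
    set N' : Matrix (Fin a × Fin b) (Fin a × Fin b) F := y.val * NN v' φ' * y⁻¹.val with hN'
    have hN'N : N' * N = 0 := by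
      apply eq_zero_of_mulVec
      intro m
      rw [← Matrix.mulVec_mulVec, hN', conj_mulVec, hN, NN_mulVec z φ, NN_mulVec v' φ', h,
        pt_zero_left, Matrix.mulVec_zero]
    set g : GL (Fin a × Fin b) F :=
      (y * rr v' φ' hv' * y⁻¹) * rr z φ hφ * (y * rr v' φ' hv' * y⁻¹)⁻¹ * (rr z φ hφ)⁻¹ with hg
    have hgX : g ∈ X := by
      have h1 : rr (a := a) z φ hφ ∈ X := hX (rr_mem_H0 z φ hφ)
      have h2 : y * rr v' φ' hv' * y⁻¹ ∈ X :=
        X.mul_mem (X.mul_mem hy (hX (rr_mem_H0 v' φ' hv'))) (X.inv_mem hy)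
      exact X.mul_mem (X.mul_mem (X.mul_mem h2 h1) (X.inv_mem h2)) (X.inv_mem h1)
    have hgval : g.val = 1 - N * N' :=
      comm_val _ _ N' N (conj_val y _ _ (rr_val v' φ' hv')) (conj_inv_val y _ _ (rr_inv_val v' φ' hv'))
        (rr_val z φ hφ) (rr_inv_val z φ hφ)
        hN'N (conj_sq y _ (NN_sq v' φ' hv')) (NN_sq z φ hφ)
    have hg1 : g.val - 1 = - (N * N') := by rw [hgval]; abel
    have hact : ∀ m, (g.val - 1) *ᵥ m = - (N *ᵥ (y.val *ᵥ (NN v' φ' *ᵥ (y⁻¹.val *ᵥ m)))) := by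
      intro m
      rw [hg1, Matrix.neg_mulVec, ← Matrix.mulVec_mulVec, hN', conj_mulVec]
    obtain ⟨ψ, hψ⟩ := hnt g hgX z hz (by
      intro m
      rw [hact, hN, NN_mulVec z φ, ← pt_neg_left]
      exact pt_mem_Lv _ _) (by
      intro u
      rw [hact, NN_mulVec v' φ', h, pt_zero_left, Matrix.mulVec_zero, Matrix.mulVec_zero, neg_zero])
    by_cases hψ0 : ψ = 0
    · intro m
      have h1 := hact (y.val *ᵥ m)
      rw [hψ, hψ0, gl_inv_mulVec] at h1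
      have h2 : NN (a := a) z (0 : Fin b → F) *ᵥ (y.val *ᵥ m) = 0 := by
        rw [NN_mulVec, con_zero_right, pt_zero_left]
      rw [h2] at h1
      have := congrArg Neg.neg h1
      rw [neg_neg, neg_zero] at this
      exact this.symm
    · exfalso
      apply hcon
      refine ⟨ψ, hψ0, ?_⟩
      intro m hm
      have h1 := hact (y.val *ᵥ m)
      rw [hψ, gl_inv_mulVec, NN_mulVec v' φ', hm, pt_zero_left, Matrix.mulVec_zero,
        Matrix.mulVec_zero, neg_zero, NN_mulVec z ψ] at h1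
      exact pt_eq_zero hz h1
  have h2 : ∀ v' : Fin b → F, φ' ⬝ᵥ v' = 0 → ∀ u : Fin a → F, y.val *ᵥ pt u v' ∈ Lv z := by
    intro v' hv' u
    apply mem_Lv_of_forall_con hz
    intro φ hφ
    obtain ⟨m, hm⟩ := exists_con_eq hφ' u
    have := key v' φ hv' hφ m
    rw [NN_mulVec v' φ', hm, NN_mulVec] at this
    exact pt_eq_zero hz this
  obtain ⟨v₁, v₂, χ, hv₁, hv₂, hv₂0, hχ1, hχ2⟩ := exists_two_indep hb φ'
  have hv₁0 : v₁ ≠ 0 := by
    intro h0; rw [h0, zero_dotProduct] at hχ1; exact zero_ne_one hχ1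
  have e1 : mapS y (Lv (a := a) v₁) = Lv z := by
    apply eq_of_le_of_finrank_eq
    · intro m hm
      obtain ⟨s, hs, rfl⟩ := mem_mapS.mp hm
      obtain ⟨u, rfl⟩ := mem_Lv.mp hs
      exact h2 v₁ hv₁ u
    · rw [finrank_mapS, finrank_Lv hv₁0, finrank_Lv hz]
  have e2 : mapS y (Lv (a := a) v₂) = Lv z := by
    apply eq_of_le_of_finrank_eq
    · intro m hm
      obtain ⟨s, hs, rfl⟩ := mem_mapS.mp hm
      obtain ⟨u, rfl⟩ := mem_Lv.mp hs
      exact h2 v₂ hv₂ u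
    · rw [finrank_mapS, finrank_Lv hv₂0, finrank_Lv hz]
  have e3 : Lv (a := a) v₁ = Lv v₂ := by
    have := congrArg (mapS y⁻¹) (e1.trans e2.symm)
    simpa only [mapS_inv_mapS] using this
  exact false_of_Lv_eq (by omega) hχ1 hχ2 e3

end Cfsg.Agent.Lib.H25.Tp
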