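import Cfsg.Agent.Lib.H25.TpDefs
import Cfsg.Agent.Lib.H11.SubspMax1

/-!
# S5637: basic linear algebra of `B`-lines (helper25)
-/

set_option autoImplicit false
set_option linter.unusedSectionVars false
set_option linter.unusedVariables false

namespace Cfsg.Agent.Lib.H25.Tp

open Matrix Kronecker Module
open Cfsg.Geo
open Cfsg.Agent.Lib.H29.Tensor (pt kron_pt pt_add_left pt_add_right pt_smul_left pt_smul_right)
open Cfsg.Agent.Lib.H11.SubspMax (gl_mul_mulVec gl_inv_mulVec gl_mulVec_inv)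

variable {F : Type*} [Field F] {a b : ℕ}

theorem ptL_apply (z : Fin b → F) (u : Fin a → F) : ptL z u = pt u z := rfl

theorem conL_apply (φ : Fin b → F) (m : Fin a × Fin b → F) : conL φ m = con m φ := rfl

theorem ptL_injective {z : Fin b → F} (hz : z ≠ 0) : Function.Injective (ptL (a := a) (F := F) z) := by
  rw [← LinearMap.ker_eq_bot, LinearMap.ker_eq_bot']
  intro u hu
  exact pt_eq_zero hz hu

theorem finrank_Lv {z : Fin b → F} (hz : z ≠ 0) : finrank F (Lv (a := a) z) = a := by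
  unfold Lv
  rw [LinearMap.finrank_range_of_inj (ptL_injective hz), Module.finrank_fintype_fun_eq_card,
    Fintype.card_fin]

theorem pt_injective_left {z : Fin b → F} (hz : z ≠ 0) {u u' : Fin a → F} (h : pt u z = pt u' z) :
    u = u' := ptL_injective hz h

/-- the linear automorphism attached to an element of `GL` -/
noncomputable def yE (y : GL (Fin a × Fin b) F) : (Fin a × Fin b → F) ≃ₗ[F] (Fin a × Fin b → F) where
  toFun m := y.val *ᵥ m
  map_add' m m' := Matrix.mulVec_add _ m m'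
  map_smul' c m := Matrix.mulVec_smul _ c m
  invFun m := y⁻¹.val *ᵥ m
  left_inv m := gl_inv_mulVec y m
  right_inv m := gl_mulVec_inv y m

theorem yE_apply (y : GL (Fin a × Fin b) F) (m : Fin a × Fin b → F) : yE y m = y.val *ᵥ m := rfl

/-- image of a subspace under an element of `GL` -/
noncomputable def mapS (y : GL (Fin a × Fin b) F) (S : Submodule F (Fin a × Fin b → F)) :
    Submodule F (Fin a × Fin b → F) := S.map (yE y).toLinearMap

theorem mem_mapS {y : GL (Fin a × Fin b) F} {S : Submodule F (Fin a × Fin b → F)}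
    {m : Fin a × Fin b → F} : m ∈ mapS y S ↔ ∃ s ∈ S, y.val *ᵥ s = m := by
  unfold mapS
  rw [Submodule.mem_map]
  rfl

theorem mulVec_mem_mapS {y : GL (Fin a × Fin b) F} {S : Submodule F (Fin a × Fin b → F)}
    {s : Fin a × Fin b → F} (hs : s ∈ S) : y.val *ᵥ s ∈ mapS y S := mem_mapS.mpr ⟨s, hs, rfl⟩

theorem mem_mapS_iff_inv {y : GL (Fin a × Fin b) F} {S : Submodule F (Fin a × Fin b → F)}
    {m : Fin a × Fin b → F} : m ∈ mapS y S ↔ y⁻¹.val *ᵥ m ∈ S := by
  rw [mem_mapS]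
  constructor
  · rintro ⟨s, hs, rfl⟩
    rw [gl_inv_mulVec]; exact hs
  · intro h
    exact ⟨_, h, gl_mulVec_inv y m⟩

theorem finrank_mapS (y : GL (Fin a × Fin b) F) (S : Submodule F (Fin a × Fin b → F)) :
    finrank F (mapS y S) = finrank F S := by
  unfold mapS
  exact LinearEquiv.finrank_map_eq (yE y) S

theorem mapS_mul (y y' : GL (Fin a × Fin b) F) (S : Submodule F (Fin a × Fin b → F)) :
    mapS (y * y') S = mapS y (mapS y' S) := by
  ext m
  simp only [mem_mapS]
  constructor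
  · rintro ⟨s, hs, rfl⟩
    exact ⟨_, ⟨s, hs, rfl⟩, (gl_mul_mulVec y y' s).symm⟩
  · rintro ⟨_, ⟨s, hs, rfl⟩, rfl⟩
    exact ⟨s, hs, gl_mul_mulVec y y' s⟩

theorem mapS_one (S : Submodule F (Fin a × Fin b → F)) : mapS (1 : GL (Fin a × Fin b) F) S = S := by
  ext m
  simp [mem_mapS]

theorem mapS_inv_mapS (y : GL (Fin a × Fin b) F) (S : Submodule F (Fin a × Fin b → F)) :
    mapS y⁻¹ (mapS y S) = S := by
  rw [← mapS_mul, inv_mul_cancel, mapS_one]

theorem mapS_mapS_inv (y : GL (Fin a × Fin b) F) (S : Submodule F (Fin a × Fin b → F)) :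
    mapS y (mapS y⁻¹ S) = S := by
  rw [← mapS_mul, mul_inv_cancel, mapS_one]

theorem mapS_mono (y : GL (Fin a × Fin b) F) {S T : Submodule F (Fin a × Fin b → F)} (h : S ≤ T) :
    mapS y S ≤ mapS y T := Submodule.map_mono h

theorem mapS_inf (y : GL (Fin a × Fin b) F) (S T : Submodule F (Fin a × Fin b → F)) :
    mapS y (S ⊓ T) = mapS y S ⊓ mapS y T := by
  unfold mapS
  exact Submodule.map_inf _ (yE y).injective

/-- a subspace of the same finite dimension containing another one is equal to it -/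
theorem eq_of_le_of_finrank_eq {S T : Submodule F (Fin a × Fin b → F)} (h : S ≤ T)
    (hd : finrank F S = finrank F T) : S = T :=
  Submodule.eq_of_le_of_finrank_eq h hd

/-- `⋂_{φ ⟂ z} Wv φ = Lv z` -/
theorem mem_Lv_of_forall_con {z : Fin b → F} (hz : z ≠ 0) {m : Fin a × Fin b → F}
    (h : ∀ φ : Fin b → F, φ ⬝ᵥ z = 0 → con m φ = 0) : m ∈ Lv z := by
  obtain ⟨j₀, hj₀⟩ : ∃ j, z j ≠ 0 := by
    by_contra hcon; push Not at hcon; exact hz (funext hcon)
  rw [mem_Lv]
  refine ⟨fun i => m (i, j₀) / z j₀, ?_⟩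
  funext ⟨i, j⟩
  have h1 := congrFun (h (Pi.single j 1 - (z j / z j₀) • Pi.single j₀ 1) (by
    simp [dotProduct, sub_mul, Finset.sum_sub_distrib, Pi.single_apply, Finset.mul_sum]
    field_simp; ring)) i
  simp only [con, Pi.sub_apply, Pi.smul_apply, Pi.single_apply, smul_eq_mul, mul_sub,
    Finset.sum_sub_distrib, Pi.zero_apply] at h1
  simp only [mul_ite, mul_one, mul_zero, Finset.sum_ite_eq', Finset.mem_univ, if_true] at h1
  simp only [pt]
  have h2 : m (i, j) = m (i, j₀) * (z j / z j₀) := by linear_combination h1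
  rw [h2]
  field_simp

theorem con_eq_zero_of_mem_Lv {z φ : Fin b → F} (h : φ ⬝ᵥ z = 0) {m : Fin a × Fin b → F}
    (hm : m ∈ Lv z) : con m φ = 0 := by
  obtain ⟨u, rfl⟩ := mem_Lv.mp hm
  rw [con_pt, dotProduct_comm, h, zero_smul]

/-- a non-zero functional vanishing on two given vectors (`b ≥ 3`) -/
theorem exists_dot_eq_zero₂ (hb : 3 ≤ b) (x y : Fin b → F) :
    ∃ φ : Fin b → F, φ ≠ 0 ∧ φ ⬝ᵥ x = 0 ∧ φ ⬝ᵥ y = 0 := by
  let f : (Fin b → F) →ₗ[F] (Fin 2 → F) :=
    { toFun := fun φ => ![φ ⬝ᵥ x, φ ⬝ᵥ y]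
      map_add' := fun φ φ' => by
        ext i; fin_cases i <;> simp [add_dotProduct]
      map_smul' := fun c φ => by
        ext i; fin_cases i <;> simp [smul_dotProduct] }
  have hlt : finrank F (Fin 2 → F) < finrank F (Fin b → F) := by
    rw [Module.finrank_fintype_fun_eq_card, Module.finrank_fintype_fun_eq_card, Fintype.card_fin,
      Fintype.card_fin]; omega
  have hker := LinearMap.ker_ne_bot_of_finrank_lt (f := f) hlt
  obtain ⟨φ, hφ, hφ0⟩ := (Submodule.ne_bot_iff _).mp hker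
  refine ⟨φ, hφ0, ?_, ?_⟩
  · have := congrFun (LinearMap.mem_ker.mp hφ) 0
    simpa [f] using this
  · have := congrFun (LinearMap.mem_ker.mp hφ) 1
    simpa [f] using this

/-- a non-zero functional vanishing on a given vector (`b ≥ 2`) -/
theorem exists_dot_eq_zero (hb : 2 ≤ b) (x : Fin b → F) :
    ∃ φ : Fin b → F, φ ≠ 0 ∧ φ ⬝ᵥ x = 0 := by
  let f : (Fin b → F) →ₗ[F] (Fin 1 → F) :=
    { toFun := fun φ => ![φ ⬝ᵥ x]
      map_add' := fun φ φ' => by
        ext i; fin_cases i; simp [add_dotProduct]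
      map_smul' := fun c φ => by
        ext i; fin_cases i; simp [smul_dotProduct] }
  have hlt : finrank F (Fin 1 → F) < finrank F (Fin b → F) := by
    rw [Module.finrank_fintype_fun_eq_card, Module.finrank_fintype_fun_eq_card, Fintype.card_fin,
      Fintype.card_fin]; omega
  have hker := LinearMap.ker_ne_bot_of_finrank_lt (f := f) hlt
  obtain ⟨φ, hφ, hφ0⟩ := (Submodule.ne_bot_iff _).mp hker
  refine ⟨φ, hφ0, ?_⟩
  have := congrFun (LinearMap.mem_ker.mp hφ) 0
  simpa [f] using this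

/-- a vector with prescribed non-zero pairing: `φ ≠ 0 ⇒ ∃ ζ, ζ ⬝ᵥ φ = 1` -/
theorem exists_dot_eq_one {φ : Fin b → F} (hφ : φ ≠ 0) : ∃ ζ : Fin b → F, ζ ⬝ᵥ φ = 1 := by
  obtain ⟨j, hj⟩ : ∃ j, φ j ≠ 0 := by
    by_contra hcon; push Not at hcon; exact hφ (funext hcon)
  refine ⟨Pi.single j (φ j)⁻¹, ?_⟩
  simp [dotProduct, Pi.single_apply, inv_mul_cancel₀ hj]

/-- if two pure tensors with non-zero left factor agree then the right factors are proportional -/
theorem right_prop_of_pt_eq {u u' : Fin a → F} {z z' : Fin b → F} (hu : u ≠ 0)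
    (h : pt u z = pt u' z') : ∃ c : F, z = c • z' := by
  obtain ⟨i, hi⟩ : ∃ i, u i ≠ 0 := by
    by_contra hcon; push Not at hcon; exact hu (funext hcon)
  refine ⟨u' i / u i, ?_⟩
  funext j
  have := congrFun h (i, j)
  simp only [pt] at this
  simp only [Pi.smul_apply, smul_eq_mul]
  field_simp
  linear_combination this

theorem Lv_smul {c : F} (hc : c ≠ 0) (z : Fin b → F) : Lv (a := a) (c • z) = Lv z := by
  ext m
  simp only [mem_Lv]
  constructor
  · rintro ⟨u, rfl⟩
    exact ⟨c • u, by rw [pt_smul_left, pt_smul_right]⟩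
  · rintro ⟨u, rfl⟩
    refine ⟨c⁻¹ • u, ?_⟩
    rw [pt_smul_left, pt_smul_right, smul_smul, inv_mul_cancel₀ hc, one_smul]

/-- the image of `NN w φ` is the whole `B`-line `Lv w` when `φ ≠ 0` -/
theorem pt_eq_NN_mulVec {φ : Fin b → F} (hφ : φ ≠ 0) (w : Fin b → F) (u : Fin a → F) :
    ∃ m : Fin a × Fin b → F, NN w φ *ᵥ m = pt u w := by
  obtain ⟨ζ, hζ⟩ := exists_dot_eq_one hφ
  refine ⟨pt u ζ, ?_⟩
  rw [NN_mulVec, con_pt, hζ, one_smul]

/-- for every `u` there is `m` with `con m φ = u` -/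
theorem exists_con_eq {φ : Fin b → F} (hφ : φ ≠ 0) (u : Fin a → F) :
    ∃ m : Fin a × Fin b → F, con m φ = u := by
  obtain ⟨ζ, hζ⟩ := exists_dot_eq_one hφ
  exact ⟨pt u ζ, by rw [con_pt, hζ, one_smul]⟩

end Cfsg.Agent.Lib.H25.Tp
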