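import Cfsg.Agent.Lib.H25.TpA
import Cfsg.Agent.Lib.H11.TensR1

/-!
# S5637: the core (Lemmas B, D, C): no transvection ⇒ `X ≤ kroneckerSubgroup` (helper25)
-/

set_option autoImplicit false
set_option linter.unusedSectionVars false
set_option linter.unusedVariables false

namespace Cfsg.Agent.Lib.H25.Tp

open Matrix Kronecker Module
open Cfsg.Geo
open Cfsg.Agent.Lib.H29.Tensor (pt kron_pt pt_add_left pt_add_right pt_smul_left pt_smul_right)
open Cfsg.Agent.Lib.H11.SubspMax (gl_mul_mulVec gl_inv_mulVec gl_mulVec_inv)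

variable {F : Type*} [Field F] {a b : ℕ}

/-- `y` maps the `B`-line `A ⊗ z` into a `B`-line -/
def IsBL (y : GL (Fin a × Fin b) F) (z : Fin b → F) : Prop :=
  ∃ w : Fin b → F, ∀ u : Fin a → F, y.val *ᵥ pt u z ∈ Lv w

/-- the "fundamental theorem" hypothesis (piece T5) -/
def FT (a b : ℕ) (F : Type*) [Field F] : Prop :=
  ∀ y : GL (Fin a × Fin b) F,
    (∀ z : Fin b → F, z ≠ 0 → ∃ w : Fin b → F, ∀ u : Fin a → F, y.val *ᵥ pt u z ∈ Lv w) →
    y ∈ kroneckerSubgroup a b F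

theorem exists_ne_zero_vec (ha : 1 ≤ a) : ∃ u₀ : Fin a → F, u₀ ≠ 0 := by
  refine ⟨Pi.single ⟨0, by omega⟩ 1, ?_⟩
  intro h0
  have := congrFun h0 ⟨0, by omega⟩
  simp at this

theorem pt_ne_zero {u : Fin a → F} {z : Fin b → F} (hu : u ≠ 0) (hz : z ≠ 0) : pt u z ≠ 0 :=
  fun h => hu (pt_eq_zero hz h)

theorem mulVec_ne_zero (y : GL (Fin a × Fin b) F) {m : Fin a × Fin b → F} (hm : m ≠ 0) :
    y.val *ᵥ m ≠ 0 := by
  intro h
  apply hm
  have := congrArg (fun x => y⁻¹.val *ᵥ x) h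
  simpa only [gl_inv_mulVec, Matrix.mulVec_zero] using this

theorem Lv_zero : Lv (a := a) (0 : Fin b → F) = ⊥ := by
  ext m
  rw [mem_Lv, Submodule.mem_bot]
  constructor
  · rintro ⟨u, rfl⟩; exact pt_zero_right u
  · rintro rfl; exact ⟨0, pt_zero_left 0⟩

/-- if `y` maps `A ⊗ z₀` into `A ⊗ w₀` then `w₀ ≠ 0` and the image is all of `A ⊗ w₀` -/
theorem mapS_eq_of_isBL (ha : 1 ≤ a) (y : GL (Fin a × Fin b) F) {z₀ w₀ : Fin b → F} (hz₀ : z₀ ≠ 0)
    (h0 : ∀ u : Fin a → F, y.val *ᵥ pt u z₀ ∈ Lv w₀) : w₀ ≠ 0 ∧ mapS y (Lv (a := a) z₀) = Lv w₀ := by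
  have hw₀ : w₀ ≠ 0 := by
    intro hw
    obtain ⟨u₀, hu₀⟩ := exists_ne_zero_vec (F := F) ha
    have := h0 u₀
    rw [hw, Lv_zero, Submodule.mem_bot] at this
    exact mulVec_ne_zero y (pt_ne_zero hu₀ hz₀) this
  refine ⟨hw₀, ?_⟩
  apply eq_of_le_of_finrank_eq
  · intro m hm
    obtain ⟨s, hs, rfl⟩ := mem_mapS.mp hm
    obtain ⟨u, rfl⟩ := mem_Lv.mp hs
    exact h0 u
  · rw [finrank_mapS, finrank_Lv hz₀, finrank_Lv hw₀]

/-- **Lemma B.** -/
theorem blines_of_one (ha : 2 ≤ a) (hb : 3 ≤ b) (X : Subgroup (GL (Fin a × Fin b) F))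
    (hX : H0 a b F ≤ X) (hnt : NT X) (hnts : NTs X) (y : GL (Fin a × Fin b) F) (hy : y ∈ X)
    (z₀ w₀ : Fin b → F) (hz₀ : z₀ ≠ 0) (h0 : ∀ u : Fin a → F, y.val *ᵥ pt u z₀ ∈ Lv w₀) :
    ∀ z' : Fin b → F, z' ≠ 0 → ∃ w : Fin b → F, ∀ u : Fin a → F, y.val *ᵥ pt u z' ∈ Lv w := by
  obtain ⟨hw₀, heq⟩ := mapS_eq_of_isBL (by omega) y hz₀ h0
  intro z' hz'
  obtain ⟨φ', hφ'0, h1, h2⟩ := exists_dot_eq_zero₂ hb z₀ z'
  have hinv : ∀ u : Fin a → F, y⁻¹.val *ᵥ pt u w₀ ∈ Lv z₀ := by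
    intro u
    rw [← mem_mapS_iff_inv, heq]
    exact pt_mem_Lv u w₀
  obtain ⟨ψ, hψ0, hψ⟩ := bhyp_of_L_le ha hb X hX hnt y hy φ' hφ'0 w₀ hw₀
    (fun u => con_eq_zero_of_mem_Lv h1 (hinv u))
  obtain ⟨w, _, hw⟩ := bline_of_le_W ha hb X hX hnts y hy z' hz' ψ hψ0 (fun u => by
    apply hψ
    rw [con_pt, dotProduct_comm, h2, zero_smul])
  exact ⟨w, hw⟩

theorem rank_NN_le (w φ : Fin b → F) : (NN (a := a) w φ).rank ≤ a := by
  by_cases hw : w = 0
  · have : NN (a := a) w φ = 0 := by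
      apply eq_zero_of_mulVec
      intro m
      rw [NN_mulVec, hw, pt_zero_right]
    rw [this, Matrix.rank_zero]
    omega
  · have hle : LinearMap.range (NN (a := a) w φ).mulVecLin ≤ Lv w := by
      rintro _ ⟨m, rfl⟩
      rw [Matrix.mulVecLin_apply, NN_mulVec]
      exact pt_mem_Lv _ _
    calc (NN (a := a) w φ).rank = finrank F (LinearMap.range (NN (a := a) w φ).mulVecLin) := rfl
      _ ≤ finrank F (Lv (a := a) w) := Submodule.finrank_mono hle
      _ = a := finrank_Lv hw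

/-- **Lemma D.** -/
theorem le_W_of_stable (ha : 2 ≤ a) (hb : 3 ≤ b) (hab : a < b) (X : Subgroup (GL (Fin a × Fin b) F))
    (hX : H0 a b F ≤ X) (hnt : NT X) (hnts : NTs X) (hFT : FT a b F)
    (y : GL (Fin a × Fin b) F) (hy : y ∈ X) (z' : Fin b → F) (hz' : z' ≠ 0)
    (w φ : Fin b → F) (hw : w ≠ 0) (hφw : φ ⬝ᵥ w = 0)
    (hst : ∀ u : Fin a → F, (rr (a := a) w φ hφw).val *ᵥ (y.val *ᵥ pt u z') ∈ mapS y (Lv z')) :
    ∀ u : Fin a → F, con (y.val *ᵥ pt u z') φ = 0 := by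
  set y' : GL (Fin a × Fin b) F := y⁻¹ with hy'
  set rt : GL (Fin a × Fin b) F := y' * rr w φ hφw * y'⁻¹ with hrt
  have hrtX : rt ∈ X :=
    X.mul_mem (X.mul_mem (X.inv_mem hy) (hX (rr_mem_H0 w φ hφw))) (X.inv_mem (X.inv_mem hy))
  have hrtval : rt.val = 1 + y'.val * NN w φ * y'⁻¹.val := conj_val y' _ _ (rr_val w φ hφw)
  have hy'inv : y'⁻¹ = y := by rw [hy', inv_inv]
  have hrtact : ∀ m, rt.val *ᵥ m = y⁻¹.val *ᵥ ((rr (a := a) w φ hφw).val *ᵥ (y.val *ᵥ m)) := by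
    intro m
    rw [hrt, gl_mul_mulVec, gl_mul_mulVec, hy'inv]
  have hstab : ∀ u : Fin a → F, rt.val *ᵥ pt u z' ∈ Lv z' := by
    intro u
    rw [hrtact, ← mem_mapS_iff_inv]
    exact hst u
  have hall := blines_of_one ha hb X hX hnt hnts rt hrtX z' z' hz' hstab
  obtain ⟨g₁, g₂, hg⟩ := hFT rt hall
  have hrank : ((g₁ : Matrix (Fin a) (Fin a) F) ⊗ₖ (g₂ : Matrix (Fin b) (Fin b) F) -
      (1 : F) • (1 : Matrix (Fin a × Fin b) (Fin a × Fin b) F)).rank < b := by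
    rw [← hg, one_smul, hrtval, add_sub_cancel_left]
    calc (y'.val * NN w φ * y'⁻¹.val).rank ≤ (y'.val * NN w φ).rank := Matrix.rank_mul_le_left _ _
      _ ≤ (NN (a := a) w φ).rank := Matrix.rank_mul_le_right _ _
      _ ≤ a := rank_NN_le w φ
      _ < b := hab
  obtain ⟨α, hα⟩ := Cfsg.Agent.Lib.H11.TensR.left_scalar_of_rank _ _ (1 : F) one_ne_zero hrank
  -- the action on `A ⊗ z'`
  have hact : ∀ u : Fin a → F, rt.val *ᵥ pt u z' = pt u (α • ((g₂ : Matrix (Fin b) (Fin b) F) *ᵥ z')) := by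
    intro u
    rw [hg, kron_pt, hα, Matrix.smul_mulVec, Matrix.one_mulVec, pt_smul_left, pt_smul_right]
  obtain ⟨u₀, hu₀⟩ := exists_ne_zero_vec (F := F) (a := a) (by omega)
  obtain ⟨u', hu'⟩ := mem_Lv.mp (hstab u₀)
  rw [hact] at hu'
  obtain ⟨c, hc⟩ := right_prop_of_pt_eq hu₀ hu'.symm
  have hact2 : ∀ u : Fin a → F, rt.val *ᵥ pt u z' = c • pt u z' := by
    intro u
    rw [hact, hc, pt_smul_right]
  -- unipotency gives `c = 1`
  have hsq : (rt.val - 1) * (rt.val - 1) = 0 := by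
    rw [hrtval, add_sub_cancel_left]
    exact conj_sq y' _ (NN_sq w φ hφw)
  have hc1 : c = 1 := by
    have h1 : (rt.val - 1) *ᵥ pt u₀ z' = (c - 1) • pt u₀ z' := by
      rw [Matrix.sub_mulVec, Matrix.one_mulVec, hact2, sub_smul, one_smul]
    have h2 : ((rt.val - 1) * (rt.val - 1)) *ᵥ pt u₀ z' = ((c - 1) * (c - 1)) • pt u₀ z' := by
      rw [← Matrix.mulVec_mulVec, h1, Matrix.mulVec_smul, h1, smul_smul]
    rw [hsq, Matrix.zero_mulVec] at h2
    have h3 : (c - 1) * (c - 1) = 0 := by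
      by_contra hne
      have := (smul_eq_zero.mp h2.symm).resolve_left hne
      exact pt_ne_zero hu₀ hz' this
    have : c - 1 = 0 := by
      rcases mul_eq_zero.mp h3 with h | h <;> exact h
    linear_combination this
  intro u
  have h1 := hact2 u
  rw [hc1, one_smul, hrtact] at h1
  have h2 := congrArg (fun x => y.val *ᵥ x) h1
  simp only [gl_mulVec_inv] at h2
  rw [rr_mulVec] at h2
  have h3 : pt (con (y.val *ᵥ pt u z') φ) w = 0 := by
    have := congrArg (fun x => x - y.val *ᵥ pt u z') h2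
    simpa using this
  exact pt_eq_zero hw h3

/-- existence of the root element enlarging the intersection (the heart of Lemma C) -/
theorem exists_root_enlarging (ha : 2 ≤ a) (hb : 3 ≤ b) (hab : a < b)
    (y : GL (Fin a × Fin b) F) (v z' : Fin b → F) (hv : v ≠ 0) (hz' : z' ≠ 0)
    (hnb : ¬ ∃ w : Fin b → F, ∀ u : Fin a → F, y.val *ᵥ pt u z' ∈ Lv w) :
    ∃ (w φ : Fin b → F) (hφw : φ ⬝ᵥ w = 0), w ≠ 0 ∧ φ ≠ 0 ∧
      finrank F ↥(Lv (a := a) v ⊓ mapS y (Lv z')) <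
        finrank F ↥(mapS (rr (a := a) w φ hφw) (mapS y (Lv z')) ⊓ mapS y (Lv z')) := by
  classical
  set L' : Submodule F (Fin a × Fin b → F) := mapS y (Lv z') with hL'
  set D : Submodule F (Fin a × Fin b → F) := Lv v ⊓ L' with hD
  have hfL' : finrank F L' = a := by rw [hL', finrank_mapS, finrank_Lv hz']
  by_cases hd : D = ⊥
  · -- the intersection is trivial
    obtain ⟨u₀, hu₀⟩ := exists_ne_zero_vec (F := F) (a := a) (by omega)
    set M₀ : Fin a × Fin b → F := y.val *ᵥ pt u₀ z' with hM₀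
    have hM₀0 : M₀ ≠ 0 := mulVec_ne_zero y (pt_ne_zero hu₀ hz')
    have hM₀L : M₀ ∈ L' := mulVec_mem_mapS (pt_mem_Lv _ _)
    -- φ ≠ 0 with con M₀ φ = 0
    let f : (Fin b → F) →ₗ[F] (Fin a → F) :=
      { toFun := fun φ => con M₀ φ
        map_add' := fun φ φ' => con_add_right M₀ φ φ'
        map_smul' := fun c φ => con_smul_right c M₀ φ }
    have hlt : finrank F (Fin a → F) < finrank F (Fin b → F) := by
      rw [Module.finrank_fintype_fun_eq_card, Module.finrank_fintype_fun_eq_card, Fintype.card_fin,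
        Fintype.card_fin]; exact hab
    obtain ⟨φ, hφ, hφ0⟩ := (Submodule.ne_bot_iff _).mp (LinearMap.ker_ne_bot_of_finrank_lt (f := f) hlt)
    have hφM : con M₀ φ = 0 := LinearMap.mem_ker.mp hφ
    obtain ⟨w, hw0, hw⟩ := exists_dot_eq_zero (by omega : 2 ≤ b) φ
    have hφw : φ ⬝ᵥ w = 0 := by rw [dotProduct_comm]; exact hw
    refine ⟨w, φ, hφw, hw0, hφ0, ?_⟩
    rw [hd, finrank_bot]
    have hfix : (rr (a := a) w φ hφw).val *ᵥ M₀ = M₀ := by
      rw [rr_mulVec, hφM, pt_zero_left, add_zero]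
    have hmem : M₀ ∈ mapS (rr (a := a) w φ hφw) L' ⊓ L' :=
      ⟨mem_mapS.mpr ⟨M₀, hM₀L, hfix⟩, hM₀L⟩
    have hne : mapS (rr (a := a) w φ hφw) L' ⊓ L' ≠ ⊥ :=
      (Submodule.ne_bot_iff _).mpr ⟨M₀, hmem, hM₀0⟩
    exact Nat.lt_of_lt_of_le Nat.zero_lt_one (Submodule.one_le_finrank_iff.mpr hne)
  · -- the intersection `D` is non-trivial
    set AD : Submodule F (Fin a → F) := L'.comap (ptL v) with hAD
    have hDmap : D = AD.map (ptL v) := by
      rw [hAD, Submodule.map_comap_eq, hD]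
      rfl
    have hfAD : finrank F AD = finrank F D := by
      rw [hDmap]
      exact (Submodule.equivMapOfInjective (ptL v) (ptL_injective hv) AD).finrank_eq
    have hDL : D ≤ L' := inf_le_right
    have hDlt : D < L' := by
      refine lt_of_le_of_ne hDL ?_
      intro heq
      -- then Lv v = L'
      apply hnb
      have hle : L' ≤ Lv v := by rw [← heq]; exact inf_le_left
      have hLv : L' = Lv v := eq_of_le_of_finrank_eq hle (by rw [hfL', finrank_Lv hv])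
      exact ⟨v, fun u => by rw [← hLv]; exact mulVec_mem_mapS (pt_mem_Lv _ _)⟩
    have hfD : finrank F D < a := by
      have := Submodule.finrank_lt_finrank_of_lt hDlt
      rwa [hfL'] at this
    have hfD1 : 1 ≤ finrank F D := Submodule.one_le_finrank_iff.mpr hd
    obtain ⟨M₀, hM₀L, hM₀D⟩ := SetLike.exists_of_lt hDlt
    -- φ ≠ 0 with φ·v = 0 and con M₀ φ ∈ AD
    let f : (Fin b → F) →ₗ[F] ((Fin a → F) ⧸ AD) × F :=
      { toFun := fun φ => (AD.mkQ (con M₀ φ), φ ⬝ᵥ v)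
        map_add' := fun φ φ' => by
          rw [con_add_right, map_add, add_dotProduct]; rfl
        map_smul' := fun c φ => by
          rw [con_smul_right, map_smul, smul_dotProduct]; rfl }
    have hlt : finrank F (((Fin a → F) ⧸ AD) × F) < finrank F (Fin b → F) := by
      have h1 := Submodule.finrank_quotient_add_finrank AD
      rw [Module.finrank_fintype_fun_eq_card, Fintype.card_fin] at h1
      rw [Module.finrank_prod, Module.finrank_self, Module.finrank_fintype_fun_eq_card,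
        Fintype.card_fin]
      omega
    obtain ⟨φ, hφ, hφ0⟩ := (Submodule.ne_bot_iff _).mp (LinearMap.ker_ne_bot_of_finrank_lt (f := f) hlt)
    have hφk : (AD.mkQ (con M₀ φ), φ ⬝ᵥ v) = 0 := LinearMap.mem_ker.mp hφ
    have hφAD : con M₀ φ ∈ AD := by
      have := congrArg Prod.fst hφk
      simpa using this
    have hφv : φ ⬝ᵥ v = 0 := congrArg Prod.snd hφk
    refine ⟨v, φ, hφv, hv, hφ0, ?_⟩
    set h : GL (Fin a × Fin b) F := rr (a := a) v φ hφv with hh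
    have hptL : pt (con M₀ φ) v ∈ L' := hφAD
    have hfixD : ∀ x ∈ D, h.val *ᵥ x = x := by
      intro x hx
      obtain ⟨u, rfl⟩ := mem_Lv.mp hx.1
      rw [hh, rr_mulVec, con_pt, dotProduct_comm, hφv, zero_smul, pt_zero_left, add_zero]
    have hhM₀ : h.val *ᵥ M₀ ∈ L' := by
      rw [hh, rr_mulVec]
      exact L'.add_mem hM₀L hptL
    have hle : D ≤ mapS h L' ⊓ L' := by
      intro x hx
      exact ⟨mem_mapS.mpr ⟨x, hDL hx, hfixD x hx⟩, hDL hx⟩
    have hmem : h.val *ᵥ M₀ ∈ mapS h L' ⊓ L' := ⟨mulVec_mem_mapS hM₀L, hhM₀⟩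
    have hnot : h.val *ᵥ M₀ ∉ D := by
      intro hcon
      apply hM₀D
      refine ⟨?_, hM₀L⟩
      have h1 : h.val *ᵥ M₀ ∈ Lv v := hcon.1
      rw [hh, rr_mulVec] at h1
      have h2 := (Lv (a := a) v).sub_mem h1 (pt_mem_Lv (con M₀ φ) v)
      rwa [add_sub_cancel_right] at h2
    have hlt2 : D < mapS h L' ⊓ L' :=
      lt_of_le_of_ne hle (fun heq => hnot (by rw [heq]; exact hmem))
    exact Submodule.finrank_lt_finrank_of_lt hlt2

/-- **Lemma C = the core theorem**: an overgroup of `H0` with the two module-lemma properties consists of Kronecker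
products. -/
theorem le_kron_of_nt (ha : 2 ≤ a) (hb : 3 ≤ b) (hab : a < b) (X : Subgroup (GL (Fin a × Fin b) F))
    (hX : H0 a b F ≤ X) (hnt : NT X) (hnts : NTs X) (hFT : FT a b F) :
    X ≤ kroneckerSubgroup a b F := by
  classical
  by_contra hnot
  obtain ⟨y₀, hy₀X, hy₀⟩ := SetLike.not_le_iff_exists.mp hnot
  -- a B-line mapped to a non-B-line
  have hex : ∃ z₀ : Fin b → F, z₀ ≠ 0 ∧
      ¬ ∃ w : Fin b → F, ∀ u : Fin a → F, y₀.val *ᵥ pt u z₀ ∈ Lv w := by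
    by_contra hcon
    push Not at hcon
    exact hy₀ (hFT y₀ hcon)
  obtain ⟨z₀, hz₀, hz₀nb⟩ := hex
  let P : ℕ → Prop := fun k => ∃ y ∈ X, ∃ v z' : Fin b → F, v ≠ 0 ∧ z' ≠ 0 ∧
    (¬ ∃ w : Fin b → F, ∀ u : Fin a → F, y.val *ᵥ pt u z' ∈ Lv w) ∧
    k ≤ finrank F ↥(Lv (a := a) v ⊓ mapS y (Lv z'))
  have hP0 : P 0 := ⟨y₀, hy₀X, z₀, z₀, hz₀, hz₀, hz₀nb, Nat.zero_le _⟩
  have hPle : ∀ k, P k → k ≤ a := by
    rintro k ⟨y, _, v, z', hv, _, _, hk⟩
    calc k ≤ finrank F ↥(Lv (a := a) v ⊓ mapS y (Lv z')) := hk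
      _ ≤ finrank F (Lv (a := a) v) := Submodule.finrank_mono inf_le_left
      _ = a := finrank_Lv hv
  obtain ⟨y, hyX, v, z', hv, hz', hnb, hk⟩ := Nat.findGreatest_spec (P := P) (Nat.zero_le a) hP0
  set d := finrank F ↥(Lv (a := a) v ⊓ mapS y (Lv z')) with hd
  have hnoP : ¬ P (d + 1) := by
    intro hP
    have h1 := hPle _ hP
    exact Nat.findGreatest_is_greatest (P := P) (n := a) (k := d + 1) (by omega) h1 hP
  obtain ⟨w, φ, hφw, hw0, hφ0, hlt⟩ := exists_root_enlarging ha hb hab y v z' hv hz' hnb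
  set L' : Submodule F (Fin a × Fin b → F) := mapS y (Lv z') with hL'
  set h : GL (Fin a × Fin b) F := rr (a := a) w φ hφw with hh
  have hhX : h ∈ X := hX (rr_mem_H0 w φ hφw)
  -- the translated pair
  set y2 : GL (Fin a × Fin b) F := y⁻¹ * h⁻¹ * y with hy2
  have hy2X : y2 ∈ X := X.mul_mem (X.mul_mem (X.inv_mem hyX) (X.inv_mem hhX)) hyX
  have hprod : h * y * y2 = y := by rw [hy2]; group
  have e1 : mapS (h * y) (mapS y2 (Lv (a := a) z')) = L' := by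
    rw [← mapS_mul, hprod]
  have e2 : mapS (h * y) (Lv (a := a) z') = mapS h L' := by rw [mapS_mul]
  have hfin : finrank F ↥(Lv (a := a) z' ⊓ mapS y2 (Lv z')) = finrank F ↥(mapS h L' ⊓ L') := by
    rw [← finrank_mapS (h * y), mapS_inf, e1, e2]
  -- by maximality `y2` maps `A ⊗ z'` into a B-line
  have hbl : ∃ w2 : Fin b → F, ∀ u : Fin a → F, y2.val *ᵥ pt u z' ∈ Lv w2 := by
    by_contra hcon
    exact hnoP ⟨y2, hy2X, z', z', hz', hz', hcon, by rw [hfin]; omega⟩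
  obtain ⟨w2, hw2⟩ := hbl
  obtain ⟨hw20, hmap2⟩ := mapS_eq_of_isBL (by omega) y2 hz' hw2
  -- the two B-lines `Lv z'` and `Lv w2` meet non-trivially, so they are equal
  have hne : Lv (a := a) z' ⊓ Lv w2 ≠ ⊥ := by
    rw [← hmap2]
    apply Submodule.one_le_finrank_iff.mp
    rw [hfin]; omega
  obtain ⟨x, hx, hx0⟩ := (Submodule.ne_bot_iff _).mp hne
  obtain ⟨u1, hu1⟩ := mem_Lv.mp hx.1
  obtain ⟨u2, hu2⟩ := mem_Lv.mp hx.2
  have hu10 : u1 ≠ 0 := by
    intro h0; apply hx0; rw [← hu1, h0, pt_zero_left]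
  obtain ⟨c, hc⟩ := right_prop_of_pt_eq hu10 (hu1.trans hu2.symm)
  have hc0 : c ≠ 0 := by
    intro h0; rw [h0, zero_smul] at hc; exact hz' hc
  have hLeq : mapS y2 (Lv (a := a) z') = Lv z' := by
    rw [hmap2, hc, Lv_smul hc0]
  have hstab : mapS h L' = L' := by
    rw [← e2, ← e1, hLeq]
  -- Lemma D
  have hcon0 := le_W_of_stable ha hb hab X hX hnt hnts hFT y hyX z' hz' w φ hw0 hφw (fun u => by
    have : h.val *ᵥ (y.val *ᵥ pt u z') ∈ mapS h L' := mulVec_mem_mapS (mulVec_mem_mapS (pt_mem_Lv _ _))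
    rwa [hstab] at this)
  -- Lemma A
  obtain ⟨w3, _, hw3⟩ := bline_of_le_W ha hb X hX hnts y hyX z' hz' φ hφ0 hcon0
  exact hnb ⟨w3, hw3⟩

end Cfsg.Agent.Lib.H25.Tp
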