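import Cfsg.Agent.Lib.H25.TpCore
import Cfsg.Agent.Lib.H20.TpT1a
import Cfsg.Agent.Lib.H2.TpT1b
import Cfsg.Agent.Lib.H24.TpT2
import Cfsg.Agent.Lib.H11.TpT5
import Cfsg.Agent.Lib.H27.TpT6a
import Cfsg.Agent.Lib.H19.TpT6b1
import Cfsg.Agent.Lib.H29.TpT6b2
import Cfsg.Agent.Lib.H11.TpT6c
import Cfsg.Agent.Lib.H20.TpT7

/-!
# S5637: assembly (helper25)
-/

set_option autoImplicit false
set_option linter.unusedSectionVars false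
set_option linter.unusedVariables false

namespace Cfsg.Agent.Lib.H25.Tp

open Matrix Kronecker Module
open Cfsg.Geo
open Cfsg.Agent.Lib.H29.Tensor (pt kron_pt)

variable {F : Type*} [Field F] {a b : ℕ}

/-- **T1** = T1a + T1b -/
theorem nt_of_noTv [Fintype F] (ha : 2 ≤ a) (hb : 3 ≤ b) (hq : ¬ (a = 2 ∧ Fintype.card F = 2))
    (X : Subgroup (GL (Fin a × Fin b) F)) (hX : H0 a b F ≤ X) (hno : NoTv X) : NT X := by
  intro g hg z hz h1 h2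
  by_contra h3
  obtain ⟨P, χ, k, hkX, hχ0, hχz, hP, hkv⟩ :=
    Cfsg.Agent.Lib.H20.Tp.exists_nonscalar_of_not_root hb X hX g hg z hz h1 h2 h3
  obtain ⟨t, ht, htv⟩ :=
    Cfsg.Agent.Lib.H2.Tp.tv_of_nonscalar ha hb hq X hX z χ hz hχ0 hχz P hP k hkX hkv
  exact hno t ht htv

/-- the T6b1 statement (piece of helper19) as a hypothesis -/
def T6b1 (a b : ℕ) (F : Type*) [Field F] : Prop :=
  ∀ (X : Subgroup (GL (Fin a × Fin b) F)), H0 a b F ≤ X →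
    ∀ (u₁ ψ₁ : Fin a → F) (z₁ φ₁ : Fin b → F) (k₁ : GL (Fin a × Fin b) F),
    u₁ ≠ 0 → ψ₁ ≠ 0 → z₁ ≠ 0 → φ₁ ≠ 0 → φ₁ ⬝ᵥ z₁ = 0 → k₁ ∈ X →
    k₁.val = 1 + vecMulVec (pt u₁ z₁) (pt ψ₁ φ₁) →
    ∀ (u ψ : Fin a → F) (z φ : Fin b → F), ψ ⬝ᵥ u = 0 → φ ⬝ᵥ z = 0 →
    ∃ k : GL (Fin a × Fin b) F, k ∈ X ∧ k.val = 1 + vecMulVec (pt u z) (pt ψ φ)

/-- **T6** = T6a + T6b1 + T6b2 + T6c -/
theorem sl_le_of_tv (h61 : T6b1 a b F) (ha : 2 ≤ a) (hb : 3 ≤ b) (hab : a < b)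
    (X : Subgroup (GL (Fin a × Fin b) F)) (hX : H0 a b F ≤ X)
    (t : GL (Fin a × Fin b) F) (ht : t ∈ X) (htv : IsTv t) :
    specialLinear (Fin a × Fin b) F ≤ X := by
  obtain ⟨u₁, ψ₁, z₁, φ₁, k₁, hu, hψ, hz, hφ, hφz, hk, hkv⟩ :=
    Cfsg.Agent.Lib.H27.Tp.exists_pure_tv ha hb hab X hX t ht htv
  apply Cfsg.Agent.Lib.H11.Tp.sl_le_of_all_pure ha hb X
  intro u ψ z φ h0
  exact Cfsg.Agent.Lib.H29.Tp.all_pure_of_incident ha hb X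
    (fun u ψ z φ h1 h2 => h61 X hX u₁ ψ₁ z₁ φ₁ k₁ hu hψ hz hφ hφz hk hkv u ψ z φ h1 h2) u ψ z φ h0

/-- **the dichotomy** -/
theorem dichotomy [Fintype F] (h61 : T6b1 a b F) (ha : 2 ≤ a) (hb : 3 ≤ b) (hab : a < b)
    (hq : ¬ (a = 2 ∧ Fintype.card F = 2))
    (X : Subgroup (GL (Fin a × Fin b) F)) (hX : H0 a b F ≤ X) :
    X ≤ kroneckerSubgroup a b F ∨ specialLinear (Fin a × Fin b) F ≤ X := by
  by_cases hno : NoTv X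
  · left
    exact le_kron_of_nt ha hb hab X hX (nt_of_noTv ha hb hq X hX hno)
      (Cfsg.Agent.Lib.H24.Tp.nts_of_nt (fun X' hX' hno' => nt_of_noTv ha hb hq X' hX' hno') X hX hno)
      (fun y hy => Cfsg.Agent.Lib.H11.Tp.mem_kron_of_blines ha hb y hy)
  · right
    unfold NoTv at hno
    push Not at hno
    obtain ⟨t, ht, htv⟩ := hno
    exact sl_le_of_tv h61 ha hb hab X hX t ht htv

/-- T6b1 (helper19) -/
theorem t6b1 [Fintype F] (ha : 2 ≤ a) (hb : 3 ≤ b) (hq : ¬ (a = 2 ∧ Fintype.card F = 2)) : T6b1 a b F :=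
  fun X hX u₁ ψ₁ z₁ φ₁ k₁ hu hψ hz hφ hφz hk hkv u ψ z φ h1 h2 =>
    Cfsg.Agent.Lib.H19.Tp.all_incident_tv ha hb hq X hX u₁ ψ₁ z₁ φ₁ k₁ hu hψ hz hφ hφz hk hkv u ψ z φ h1 h2

/-- **S5637** for an arbitrary tensor decomposition -/
theorem maximal_of [Fintype F] (n : ℕ) (n₁ n₂ : ℕ) (h1 : 2 ≤ n₁)
    (h12 : n₁ < n₂) (hex : ¬ (n₁ = 2 ∧ Fintype.card F = 2)) (e : Fin n ≃ Fin n₁ × Fin n₂)
    (P : GL (Fin n) F) :
    IsMaximalIn (specialLinear (Fin n) F)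
      (tensorProductSubgroup n₁ n₂ e P ⊓ specialLinear (Fin n) F) := by
  have hb : 3 ≤ n₂ := by omega
  exact Cfsg.Agent.Lib.H20.Tp.maximal_of_dichotomy h1 (by omega) e P
    (fun X hX _ => dichotomy (t6b1 h1 hb hex) h1 hb h12 hex X hX)

end Cfsg.Agent.Lib.H25.Tp
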