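import Mathlib
import Cfsg.Prelude.Def_FusionComponents
import Cfsg.Agent.Lib.H25.Fusion
import Cfsg.Agent.Lib.H25.SysOfPred

set_option autoImplicit false

/-!
Transport of fusion systems along an isomorphism `S₁ ≃ S₂` between subgroups of two (possibly
different) ambient groups (helper25).  The isomorphism is carried by a pair of total functions
`g : Ω₁ → Ω₂`, `g' : Ω₂ → Ω₁` that are mutually inverse and multiplicative on `S₁`, `S₂`; subgroups
of `S₁` are transported by `img`, function-level maps by `conj`.  `IsTr e E E'` says that the system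
`E'` (over `T' = e.img T`) is the transport of `E` (over `T ≤ S₁`); `push` constructs it.
-/

namespace Cfsg.Agent.Lib.H25.Tr

open Cfsg Cfsg.FusionSystem Cfsg.Agent.Lib.H25

universe u v

variable {Ω₁ : Type u} {Ω₂ : Type v} [Group Ω₁] [Group Ω₂]

/-- A partial isomorphism between the subgroups `S₁` and `S₂`, at function level. -/
structure PIso (S₁ : Subgroup Ω₁) (S₂ : Subgroup Ω₂) where
  g : Ω₁ → Ω₂
  g' : Ω₂ → Ω₁
  mem : ∀ {x : Ω₁}, x ∈ S₁ → g x ∈ S₂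
  mem' : ∀ {y : Ω₂}, y ∈ S₂ → g' y ∈ S₁
  mul : ∀ {x y : Ω₁}, x ∈ S₁ → y ∈ S₁ → g (x * y) = g x * g y
  mul' : ∀ {x y : Ω₂}, x ∈ S₂ → y ∈ S₂ → g' (x * y) = g' x * g' y
  linv : ∀ {x : Ω₁}, x ∈ S₁ → g' (g x) = x
  rinv : ∀ {y : Ω₂}, y ∈ S₂ → g (g' y) = y

namespace PIso

variable {S₁ : Subgroup Ω₁} {S₂ : Subgroup Ω₂} (e : PIso S₁ S₂)

/-- The inverse partial isomorphism. -/
def symm : PIso S₂ S₁ where
  g := e.g'
  g' := e.g
  mem := e.mem'
  mem' := e.mem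
  mul := e.mul'
  mul' := e.mul
  linv := e.rinv
  rinv := e.linv

@[simp] theorem symm_g : e.symm.g = e.g' := rfl
@[simp] theorem symm_g' : e.symm.g' = e.g := rfl
theorem symm_symm : e.symm.symm = e := rfl

theorem one : e.g 1 = 1 := by
  have h := e.mul S₁.one_mem S₁.one_mem
  rw [mul_one] at h
  exact (mul_eq_left.1 h.symm)

theorem one' : e.g' 1 = 1 := e.symm.one

theorem inv {x : Ω₁} (hx : x ∈ S₁) : e.g x⁻¹ = (e.g x)⁻¹ := by
  have h := e.mul hx (S₁.inv_mem hx)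
  rw [mul_inv_cancel, e.one] at h
  exact (eq_inv_of_mul_eq_one_right h.symm)

theorem inv' {y : Ω₂} (hy : y ∈ S₂) : e.g' y⁻¹ = (e.g' y)⁻¹ := e.symm.inv hy

theorem injOn {x y : Ω₁} (hx : x ∈ S₁) (hy : y ∈ S₁) (h : e.g x = e.g y) : x = y := by
  rw [← e.linv hx, ← e.linv hy, h]

/-- The image of a subgroup (of its part in `S₁`). -/
def img (P : Subgroup Ω₁) : Subgroup Ω₂ where
  carrier := {y | y ∈ S₂ ∧ e.g' y ∈ P}
  one_mem' := ⟨S₂.one_mem, by rw [e.one']; exact P.one_mem⟩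
  mul_mem' := by
    rintro a b ⟨ha, ha'⟩ ⟨hb, hb'⟩
    exact ⟨S₂.mul_mem ha hb, by rw [e.mul' ha hb]; exact P.mul_mem ha' hb'⟩
  inv_mem' := by
    rintro a ⟨ha, ha'⟩
    exact ⟨S₂.inv_mem ha, by rw [e.inv' ha]; exact P.inv_mem ha'⟩

theorem mem_img (P : Subgroup Ω₁) (y : Ω₂) : y ∈ e.img P ↔ y ∈ S₂ ∧ e.g' y ∈ P := Iff.rfl

theorem mem_symm_img (P' : Subgroup Ω₂) (x : Ω₁) : x ∈ e.symm.img P' ↔ x ∈ S₁ ∧ e.g x ∈ P' :=
  Iff.rfl

theorem map_mem_of_mem_symm_img {P' : Subgroup Ω₂} {x : Ω₁} (hx : x ∈ e.symm.img P') :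
    e.g x ∈ P' := hx.2

theorem img_le (P : Subgroup Ω₁) : e.img P ≤ S₂ := fun _ hy => hy.1

theorem map_mem_img {P : Subgroup Ω₁} {x : Ω₁} (hx : x ∈ P) (hxS : x ∈ S₁) : e.g x ∈ e.img P :=
  ⟨e.mem hxS, by rw [e.linv hxS]; exact hx⟩

theorem exists_of_mem_img {P : Subgroup Ω₁} {y : Ω₂} (hy : y ∈ e.img P) :
    ∃ x ∈ P, x ∈ S₁ ∧ e.g x = y :=
  ⟨e.g' y, hy.2, e.mem' hy.1, e.rinv hy.1⟩

theorem inv_mem_of_mem_img {P : Subgroup Ω₁} {y : Ω₂} (hy : y ∈ e.img P) : e.g' y ∈ P := hy.2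

theorem img_mono {P Q : Subgroup Ω₁} (h : P ≤ Q) : e.img P ≤ e.img Q :=
  fun _ hy => ⟨hy.1, h hy.2⟩

theorem img_img {P : Subgroup Ω₁} (hP : P ≤ S₁) : e.symm.img (e.img P) = P := by
  ext x
  constructor
  · rintro ⟨hx, -, hx'⟩
    have : e.g' (e.g x) = x := e.linv hx
    rw [← this]
    exact hx'
  · intro hx
    exact ⟨hP hx, e.map_mem_img hx (hP hx)⟩

theorem img_img' {P' : Subgroup Ω₂} (hP' : P' ≤ S₂) : e.img (e.symm.img P') = P' :=
  e.symm.img_img hP'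

theorem img_top : e.img S₁ = S₂ := by
  ext y
  exact ⟨fun h => h.1, fun h => ⟨h, e.mem' h⟩⟩

theorem img_le_iff {P : Subgroup Ω₁} (hP : P ≤ S₁) (P' : Subgroup Ω₂) :
    e.img P ≤ P' ↔ P ≤ e.symm.img P' := by
  constructor
  · intro h x hx
    exact ⟨hP hx, h (e.map_mem_img hx (hP hx))⟩
  · intro h y hy
    have := (h hy.2).2
    rw [symm_g', e.rinv hy.1] at this
    exact this

theorem img_sup {P Q : Subgroup Ω₁} (hP : P ≤ S₁) (hQ : Q ≤ S₁) :
    e.img (P ⊔ Q) = e.img P ⊔ e.img Q := by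
  apply le_antisymm
  · rw [e.img_le_iff (sup_le hP hQ)]
    apply sup_le
    · rw [← e.img_le_iff hP]; exact le_sup_left
    · rw [← e.img_le_iff hQ]; exact le_sup_right
  · exact sup_le (e.img_mono le_sup_left) (e.img_mono le_sup_right)

theorem img_bot : e.img ⊥ = ⊥ := by
  ext y
  constructor
  · rintro ⟨hy, hy'⟩
    have h1 : e.g' y = 1 := hy'
    have := e.rinv hy
    rw [h1, e.one] at this
    exact this.symm
  · intro hy
    have : y = 1 := hy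
    rw [this]
    exact Subgroup.one_mem _

theorem img_eq_bot_iff {P : Subgroup Ω₁} (hP : P ≤ S₁) : e.img P = ⊥ ↔ P = ⊥ := by
  constructor
  · intro h
    rw [← e.img_img hP, h, e.symm.img_bot]
  · intro h
    rw [h, e.img_bot]

theorem img_injective {P Q : Subgroup Ω₁} (hP : P ≤ S₁) (hQ : Q ≤ S₁) (h : e.img P = e.img Q) :
    P = Q := by
  rw [← e.img_img hP, ← e.img_img hQ, h]

/-- The transport of a function-level map. -/
def conj (f : Ω₁ → Ω₁) : Ω₂ → Ω₂ := fun y => e.g (f (e.g' y))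

theorem conj_apply (f : Ω₁ → Ω₁) (y : Ω₂) : e.conj f y = e.g (f (e.g' y)) := rfl

theorem conj_map (f : Ω₁ → Ω₁) {x : Ω₁} (hx : x ∈ S₁) : e.conj f (e.g x) = e.g (f x) := by
  rw [conj_apply, e.linv hx]

/-- Round trip. -/
theorem conj_conj (f : Ω₁ → Ω₁) {x : Ω₁} (hx : x ∈ S₁) (hfx : f x ∈ S₁) :
    e.symm.conj (e.conj f) x = f x := by
  show e.g' (e.g (f (e.g' (e.g x)))) = f x
  rw [e.linv hx, e.linv hfx]

theorem card_img {P : Subgroup Ω₁} (hP : P ≤ S₁) : Nat.card (e.img P) = Nat.card P := by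
  apply Nat.card_congr
  refine ⟨fun y => ⟨e.g' y, y.2.2⟩, fun x => ⟨e.g x, e.map_mem_img x.2 (hP x.2)⟩, ?_, ?_⟩
  · intro y
    exact Subtype.ext (e.rinv y.2.1)
  · intro x
    exact Subtype.ext (e.linv (hP x.2))

end PIso

/-! ### The universal fusion system over a subgroup -/

section Univ

variable {Ω : Type u} [Group Ω]

/-- All injective homomorphisms between subgroups of `S`. -/
def univSys (S : Subgroup Ω) : FusionSystem S where
  Hom P := {φ | P ≤ S ∧ (∀ x, φ x ∈ S) ∧ Function.Injective φ}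
  le_of_mem h := ⟨h.1, h.2.1⟩
  injective_of_mem h := h.2.2
  conj_mem := by
    intro P g hP hg
    refine ⟨hP, fun x => S.mul_mem (S.mul_mem hg (hP x.2)) (S.inv_mem hg), ?_⟩
    intro a b hab
    have h : g * (a : Ω) * g⁻¹ = g * (b : Ω) * g⁻¹ := hab
    exact Subtype.ext (mul_left_cancel (mul_right_cancel h))
  comp_mem := by
    intro P Q φ ψ hφ hψ h
    refine ⟨hφ.1, fun x => hψ.2.1 _, ?_⟩
    intro a b hab
    have h1 : ψ (φ.codRestrict Q h a) = ψ (φ.codRestrict Q h b) := hab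
    have h2 := hψ.2.2 h1
    have h3 : φ a = φ b := congrArg Subtype.val h2
    exact hφ.2.2 h3
  inv_mem := by
    intro P φ hφ
    refine ⟨P.subtype.comp (MonoidHom.ofInjective hφ.2.2).symm.toMonoidHom, ⟨?_, ?_, ?_⟩, ?_⟩
    · rintro _ ⟨x, rfl⟩
      exact hφ.2.1 x
    · intro y
      exact hφ.1 ((MonoidHom.ofInjective hφ.2.2).symm y).2
    · intro a b hab
      have h1 : (((MonoidHom.ofInjective hφ.2.2).symm a : P) : Ω) =
          (((MonoidHom.ofInjective hφ.2.2).symm b : P) : Ω) := hab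
      exact (MonoidHom.ofInjective hφ.2.2).symm.injective (Subtype.ext h1)
    · intro x
      have : (⟨φ x, ⟨x, rfl⟩⟩ : φ.range) = MonoidHom.ofInjective hφ.2.2 x := rfl
      show (((MonoidHom.ofInjective hφ.2.2).symm ⟨φ x, ⟨x, rfl⟩⟩ : P) : Ω) = x
      rw [this, MulEquiv.symm_apply_apply]

theorem isIso_univSys_iff {S P Q : Subgroup Ω} {f : Ω → Ω} :
    IsIso (univSys S) P Q f ↔ P ≤ S ∧ Q ≤ S ∧ (∀ x ∈ P, ∀ y ∈ P, f (x * y) = f x * f y) ∧
      (∀ x ∈ P, ∀ y ∈ P, f x = f y → x = y) ∧ (∀ x ∈ P, f x ∈ Q) ∧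
      ∀ y ∈ Q, ∃ x ∈ P, f x = y := by
  constructor
  · intro h
    exact ⟨h.le_left, h.le_right, fun x hx y hy => h.map_mul hx hy,
      fun x hx y hy hxy => h.injOn hx hy hxy, fun x hx => h.map_mem hx, fun y hy => h.surjOn hy⟩
  · rintro ⟨hP, hQ, hmul, hinj, hmem, hsurj⟩
    have h1 : f 1 = 1 := by
      have := hmul 1 P.one_mem 1 P.one_mem
      rw [mul_one] at this
      exact mul_eq_left.1 this.symm
    refine ⟨⟨⟨fun x => f x, h1⟩, fun a b => hmul a a.2 b b.2⟩, ⟨hP, fun x => hQ (hmem x x.2), ?_⟩,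
      fun x => rfl, ?_⟩
    · intro a b hab
      exact Subtype.ext (hinj a a.2 b b.2 hab)
    · ext y
      constructor
      · rintro ⟨x, rfl⟩
        exact hmem x x.2
      · intro hy
        obtain ⟨x, hx, rfl⟩ := hsurj y hy
        exact ⟨⟨x, hx⟩, rfl⟩

end Univ

/-! ### The transported system -/

section Push

variable {S₁ : Subgroup Ω₁} {S₂ : Subgroup Ω₂} (e : PIso S₁ S₂) {T : Subgroup Ω₁}

/-- Changing the target of a function-level isomorphism. -/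
theorem isIso_of_maps {F : FusionSystem T} {P Q R : Subgroup Ω₁} {f : Ω₁ → Ω₁}
    (h : IsIso F P R f) (h1 : ∀ x ∈ P, f x ∈ Q) (h2 : ∀ y ∈ Q, ∃ x ∈ P, f x = y) :
    IsIso F P Q f := h.restrict' le_rfl h1 h2

/-- If `f'` maps `A'` onto `B'`, then the pulled-back map, once known to be a map of the system,
has target the pull-back of `B'`. -/
theorem isIso_conj_of_maps {E : FusionSystem T} {A' B' : Subgroup Ω₂} {R : Subgroup Ω₁}
    {f' : Ω₂ → Ω₂} (h : IsIso E (e.symm.img A') R (e.symm.conj f')) (hA' : A' ≤ S₂) (hB' : B' ≤ S₂)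
    (hmaps : ∀ y ∈ A', f' y ∈ B') (hsurj : ∀ z ∈ B', ∃ y ∈ A', f' y = z) :
    IsIso E (e.symm.img A') (e.symm.img B') (e.symm.conj f') := by
  refine isIso_of_maps h (fun x hx => ?_) (fun y hy => ?_)
  · have hx' : e.g x ∈ A' := hx.2
    have h1 := hmaps _ hx'
    refine ⟨e.mem' (hB' h1), ?_⟩
    show e.g (e.g' (f' (e.g x))) ∈ B'
    rw [e.rinv (hB' h1)]
    exact h1
  · have hy' : e.g y ∈ B' := hy.2
    obtain ⟨x', hx', hx'y⟩ := hsurj _ hy'
    refine ⟨e.g' x', ⟨e.mem' (hA' hx'), ?_⟩, ?_⟩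
    · show e.g (e.g' x') ∈ A'
      rw [e.rinv (hA' hx')]
      exact hx'
    · show e.g' (f' (e.g (e.g' x'))) = y
      rw [e.rinv (hA' hx'), hx'y, e.linv hy.1]

variable (E : FusionSystem T) (T' : Subgroup Ω₂)

/-- The function-level maps of the transported system. -/
def PushPred : Subgroup Ω₂ → Subgroup Ω₂ → (Ω₂ → Ω₂) → Prop :=
  fun P' Q' f' => P' ≤ T' ∧ Q' ≤ T' ∧ (∀ y ∈ P', f' y ∈ Q') ∧
    IsIso E (e.symm.img P') (e.symm.img Q') (e.symm.conj f')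

variable {e E T'}

theorem pushPred_apply (hT' : T' ≤ S₂) {P' Q' : Subgroup Ω₂} {f' : Ω₂ → Ω₂}
    (h : PushPred e E T' P' Q' f') {y : Ω₂} (hy : y ∈ P') :
    f' y = e.g (e.symm.conj f' (e.g' y)) := by
  obtain ⟨hP', hQ', hm, -⟩ := h
  show f' y = e.g (e.g' (f' (e.g (e.g' y))))
  rw [e.rinv (hT' (hP' hy)), e.rinv (hT' (hQ' (hm y hy)))]

theorem pushPred_isoPred (hT : T ≤ S₁) (hT' : T' = e.img T) :
    IsoPred (univSys T') (PushPred e E T') := by
  have hT'S : T' ≤ S₂ := by rw [hT']; exact e.img_le T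
  have himgT : ∀ {A' : Subgroup Ω₂}, A' ≤ T' → e.symm.img A' ≤ T := by
    intro A' hA'
    have := e.symm.img_mono hA'
    rwa [hT', e.img_img hT] at this
  refine ⟨?_, ?_, ?_, ?_, ?_, ?_⟩
  · -- sub
    intro P' Q' f' h
    have happ := fun {y} (hy : y ∈ P') => pushPred_apply hT'S h hy
    obtain ⟨hP', hQ', hm, hiso⟩ := h
    have hmemP : ∀ {y}, y ∈ P' → e.g' y ∈ e.symm.img P' := fun {y} hy =>
      e.symm.map_mem_img hy (hT'S (hP' hy))
    have hkS : ∀ {y}, y ∈ P' → e.symm.conj f' (e.g' y) ∈ S₁ := fun {y} hy =>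
      hT (himgT hQ' (hiso.map_mem (hmemP hy)))
    rw [isIso_univSys_iff]
    refine ⟨hP', hQ', fun x hx y hy => ?_, fun x hx y hy hxy => ?_, hm, fun y hy => ?_⟩
    · rw [happ (P'.mul_mem hx hy), happ hx, happ hy, e.mul' (hT'S (hP' hx)) (hT'S (hP' hy)),
        hiso.map_mul (hmemP hx) (hmemP hy), e.mul (hkS hx) (hkS hy)]
    · rw [happ hx, happ hy] at hxy
      have h1 := e.injOn (hkS hx) (hkS hy) hxy
      have h2 := hiso.injOn (hmemP hx) (hmemP hy) h1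
      exact e.symm.injOn (hT'S (hP' hx)) (hT'S (hP' hy)) h2
    · have hy' : e.g' y ∈ e.symm.img Q' := e.symm.map_mem_img hy (hT'S (hQ' hy))
      obtain ⟨x₀, hx₀, hx₀y⟩ := hiso.surjOn hy'
      have hx₀' : e.g x₀ ∈ P' := hx₀.2
      refine ⟨e.g x₀, hx₀', ?_⟩
      rw [happ hx₀', e.linv hx₀.1, hx₀y, e.rinv (hT'S (hQ' hy))]
  · -- congr
    rintro P' Q' f' k' ⟨hP', hQ', hm, hiso⟩ hfk
    refine ⟨hP', hQ', fun y hy => by rw [← hfk y hy]; exact hm y hy, hiso.congr fun x hx => ?_⟩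
    show e.g' (f' (e.g x)) = e.g' (k' (e.g x))
    rw [hfk _ (e.map_mem_of_mem_symm_img hx)]
  · -- conj
    intro P' hP' s hs
    have hsS : s ∈ S₂ := hT'S hs
    refine ⟨P'.map (MulAut.conj s).toMonoidHom, hP', ?_, fun y hy => ⟨y, hy, rfl⟩, ?_⟩
    · rintro _ ⟨x, hx, rfl⟩
      exact T'.mul_mem (T'.mul_mem hs (hP' hx)) (T'.inv_mem hs)
    · have hgs : e.g' s ∈ T := by
        have : s ∈ e.img T := by rw [← hT']; exact hs
        exact this.2
      have h1 := IsIso.conj (F := E) (himgT hP') hgs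
      have h2 : IsIso E (e.symm.img P')
          (Subgroup.map (MulEquiv.toMonoidHom (MulAut.conj (e.g' s))) (e.symm.img P'))
          (e.symm.conj fun x => s * x * s⁻¹) := by
        refine h1.congr fun x hx => ?_
        show e.g' s * x * (e.g' s)⁻¹ = e.g' (s * e.g x * s⁻¹)
        have hgx : e.g x ∈ S₂ := e.mem hx.1
        rw [e.mul' (S₂.mul_mem hsS hgx) (S₂.inv_mem hsS), e.mul' hsS hgx, e.inv' hsS, e.linv hx.1]
      refine isIso_conj_of_maps e h2 (hP'.trans hT'S) ?_ (fun y hy => ⟨y, hy, rfl⟩) ?_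
      · rintro _ ⟨x, hx, rfl⟩
        exact S₂.mul_mem (S₂.mul_mem hsS (hT'S (hP' hx))) (S₂.inv_mem hsS)
      · rintro _ ⟨x, hx, rfl⟩
        exact ⟨x, hx, rfl⟩
  · -- restrict
    rintro P' Q' P₁' Q₁' f' ⟨hP', hQ', hm, hiso⟩ hle h2
    rw [isIso_univSys_iff] at h2
    obtain ⟨hP₁', hQ₁', -, -, hm₁, hs₁⟩ := h2
    refine ⟨hP₁', hQ₁', hm₁, ?_⟩
    obtain ⟨R, -, hR, -⟩ := hiso.restrict (e.symm.img_mono hle)
    exact isIso_conj_of_maps e hR (hP₁'.trans hT'S) (hQ₁'.trans hT'S) hm₁ hs₁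
  · -- trans
    rintro P' Q' R' f' k' ⟨hP', hQ', hm, hiso⟩ ⟨-, hR', hm₂, hiso₂⟩
    refine ⟨hP', hR', fun y hy => hm₂ _ (hm y hy), (hiso.trans hiso₂).congr fun x hx => ?_⟩
    show e.g' (k' (e.g (e.g' (f' (e.g x))))) = e.g' (k' (f' (e.g x)))
    rw [e.rinv (hT'S (hQ' (hm _ (e.map_mem_of_mem_symm_img hx))))]
  · -- symm
    rintro P' Q' f' k' ⟨hP', hQ', hm, hiso⟩ h2 hkf
    rw [isIso_univSys_iff] at h2
    obtain ⟨-, -, -, -, hm₂, -⟩ := h2
    obtain ⟨m, hmiso, -, hfm⟩ := hiso.symm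
    refine ⟨hQ', hP', hm₂, hmiso.congr fun y hy => ?_⟩
    have hmy : m y ∈ e.symm.img P' := hmiso.map_mem hy
    have hgm : e.g (m y) ∈ P' := e.map_mem_of_mem_symm_img hmy
    have h3 : e.g' (f' (e.g (m y))) = y := hfm y hy
    have h4 : f' (e.g (m y)) = e.g y := by
      have h5 := e.rinv (hT'S (hQ' (hm _ hgm)))
      rw [h3] at h5
      exact h5.symm
    show m y = e.g' (k' (e.g y))
    rw [← h4, hkf _ hgm, e.linv hmy.1]

/-- The transport of the system `E` over `T ≤ S₁`, as a system over `T' = e.img T`. -/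
def push (e : PIso S₁ S₂) (E : FusionSystem T) (T' : Subgroup Ω₂) (hT : T ≤ S₁)
    (hT' : T' = e.img T) : FusionSystem T' :=
  sysOfPred (pushPred_isoPred (e := e) (E := E) hT hT')

theorem isIso_push_iff (hT : T ≤ S₁) (hT' : T' = e.img T) {P' Q' : Subgroup Ω₂} {f' : Ω₂ → Ω₂} :
    IsIso (push e E T' hT hT') P' Q' f' ↔ PushPred e E T' P' Q' f' :=
  isIso_sysOfPred_iff _

end Push

/-! ### The transport relation -/

section IsTr

variable {S₁ : Subgroup Ω₁} {S₂ : Subgroup Ω₂}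

/-- `E'` is the transport of `E` along `e`. -/
structure IsTr (e : PIso S₁ S₂) {T : Subgroup Ω₁} {T' : Subgroup Ω₂} (E : FusionSystem T)
    (E' : FusionSystem T') : Prop where
  le : T ≤ S₁
  eq : T' = e.img T
  fwd : ∀ {P Q : Subgroup Ω₁} {f : Ω₁ → Ω₁}, IsIso E P Q f →
    IsIso E' (e.img P) (e.img Q) (e.conj f)
  bwd : ∀ {P' Q' : Subgroup Ω₂} {f' : Ω₂ → Ω₂}, IsIso E' P' Q' f' →
    IsIso E (e.symm.img P') (e.symm.img Q') (e.symm.conj f')

variable {e : PIso S₁ S₂} {T : Subgroup Ω₁} {T' : Subgroup Ω₂} {E : FusionSystem T}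
  {E' : FusionSystem T'}

theorem IsTr.le' (h : IsTr e E E') : T' ≤ S₂ := by
  rw [h.eq]; exact e.img_le T

theorem IsTr.eq' (h : IsTr e E E') : T = e.symm.img T' := by
  rw [h.eq, e.img_img h.le]

theorem IsTr.symm (h : IsTr e E E') : IsTr e.symm E' E :=
  ⟨h.le', h.eq', h.bwd, h.fwd⟩

theorem push_isTr (hT : T ≤ S₁) (hT' : T' = e.img T) : IsTr e E (push e E T' hT hT') := by
  have hT'S : T' ≤ S₂ := by rw [hT']; exact e.img_le T
  refine ⟨hT, hT', ?_, fun h => ((isIso_push_iff hT hT').1 h).2.2.2⟩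
  intro P Q f h
  have hP : P ≤ T := h.le_left
  have hQ : Q ≤ T := h.le_right
  rw [isIso_push_iff]
  refine ⟨by rw [hT']; exact e.img_mono hP, by rw [hT']; exact e.img_mono hQ, fun y hy => ?_, ?_⟩
  · have h1 : f (e.g' y) ∈ Q := h.map_mem hy.2
    exact e.map_mem_img h1 (hT (hQ h1))
  · rw [e.img_img (hP.trans hT), e.img_img (hQ.trans hT)]
    refine h.congr fun x hx => ?_
    exact (e.conj_conj f (hT (hP hx)) (hT (hQ (h.map_mem hx)))).symm

/-- Round trip for maps of the transported system. -/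
theorem IsTr.isIso_iff (h : IsTr e E E') {P' Q' : Subgroup Ω₂} {f' : Ω₂ → Ω₂} :
    IsIso E' P' Q' f' ↔ P' ≤ S₂ ∧ Q' ≤ S₂ ∧ (∀ y ∈ P', f' y ∈ Q') ∧
      IsIso E (e.symm.img P') (e.symm.img Q') (e.symm.conj f') := by
  constructor
  · intro h'
    exact ⟨h'.le_left.trans h.le', h'.le_right.trans h.le', fun y hy => h'.map_mem hy, h.bwd h'⟩
  · rintro ⟨hP', hQ', hm, hiso⟩
    have := h.fwd hiso
    rw [e.img_img' hP', e.img_img' hQ'] at this
    refine this.congr fun y hy => ?_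
    exact e.symm.conj_conj f' (hP' hy) (hQ' (hm y hy))

end IsTr

end Cfsg.Agent.Lib.H25.Tr
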