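import Mathlib
import Cfsg.Prelude.Def_FusionComponents
import Cfsg.Agent.Lib.H25.Fusion

set_option autoImplicit false

/-!
Function-level forms of the conditions in the definitions of invariant and normal subsystems
(helper25).
-/

namespace Cfsg.Agent.Lib.H25.Tr

open Cfsg Cfsg.FusionSystem Cfsg.Agent.Lib.H25

universe u

variable {Ω : Type u} [Group Ω] {S T : Subgroup Ω}

theorem isIso_of_subsystem {E : FusionSystem T} {F : FusionSystem S} (h : E.IsSubsystemOf F)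
    {P Q : Subgroup Ω} {f : Ω → Ω} (hf : IsIso E P Q f) : IsIso F P Q f := by
  obtain ⟨φ, hφ, hφf, hr⟩ := hf
  exact ⟨φ, h P hφ, hφf, hr⟩

theorem isSubsystemOf_of_isIso {E : FusionSystem T} {F : FusionSystem S}
    (h : ∀ {P Q : Subgroup Ω} {f : Ω → Ω}, IsIso E P Q f → IsIso F P Q f) : E.IsSubsystemOf F := by
  intro P φ hφ
  exact mem_hom_of_isIso F (h (isIso_of_mem E hφ)) (fun x => (ext1_apply φ x).symm)

/-- The function attached to an automorphism of `T`. -/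
noncomputable def autFun (α : MulAut T) : Ω → Ω := ext1 (T.subtype.comp α.toMonoidHom)

theorem autFun_apply (α : MulAut T) {x : Ω} (hx : x ∈ T) : autFun α x = ((α ⟨x, hx⟩ : T) : Ω) :=
  ext1_apply_mem _ hx

theorem isIso_autFun (F : FusionSystem S) (hTS : T ≤ S) {α : MulAut T} (hα : α ∈ F.autGroup T) :
    IsIso F T T (autFun α) := isIso_of_mem_autGroup F hTS hα

/-- The subgroup `α(P)` of the definition of invariance is the function-level image. -/
theorem isIso_autFun_restrict {F : FusionSystem S} (hTS : T ≤ S) {α : MulAut T}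
    (hα : α ∈ F.autGroup T) {P : Subgroup Ω} (hPT : P ≤ T) :
    IsIso F P ((P.subgroupOf T).map (T.subtype.comp α.toMonoidHom)) (autFun α) := by
  have h := isIso_autFun F hTS hα
  refine h.restrict' hPT (fun x hx => ?_) (fun y hy => ?_)
  · rw [autFun_apply α (hPT hx)]
    exact ⟨⟨x, hPT hx⟩, Subgroup.mem_subgroupOf.2 hx, rfl⟩
  · obtain ⟨x, hx, rfl⟩ := hy
    refine ⟨x, Subgroup.mem_subgroupOf.1 hx, ?_⟩
    rw [autFun_apply α x.2]
    rfl

/-- Function-level form of the invariance condition. -/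
def InvCond (E : FusionSystem T) (F : FusionSystem S) : Prop :=
  ∀ {P P₂ Q : Subgroup Ω} {f a : Ω → Ω}, IsIso E P Q f → IsIso F T T a → IsIso F P P₂ a →
    ∃ (c : Ω → Ω) (R : Subgroup Ω), IsIso E P₂ R c ∧ ∀ x ∈ P, c (a x) = a (f x)

/-- Function-level form of the Frattini condition. -/
def FratCond (E : FusionSystem T) (F : FusionSystem S) : Prop :=
  ∀ {P Q : Subgroup Ω} {f : Ω → Ω}, P ≤ T → IsIso F P Q f →
    ∃ (a f₀ : Ω → Ω) (Q₀ : Subgroup Ω), IsIso F T T a ∧ IsIso E P Q₀ f₀ ∧ ∀ x ∈ P, f x = a (f₀ x)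

theorem isInvariantIn_iff (E : FusionSystem T) (F : FusionSystem S) :
    E.IsInvariantIn F ↔
      E.IsSubsystemOf F ∧ F.StronglyClosed T ∧ InvCond E F ∧ FratCond E F := by
  constructor
  · rintro ⟨hsub, hsc, hinv, hfrat⟩
    have hTS : T ≤ S := hsc.1
    refine ⟨hsub, hsc, ?_, ?_⟩
    · intro P P₂ Q f a hf ha hPa
      have hPT : P ≤ T := hf.le_left
      obtain ⟨φ, hφ, hφf, -⟩ := hf
      obtain ⟨α, hα, hαa⟩ := exists_mem_autGroup_of_isIso F ha
      obtain ⟨χ, hχ, hχv⟩ := hinv P hPT φ hφ α hα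
      have hsubeq : (P.subgroupOf T).map (T.subtype.comp α.toMonoidHom) = P₂ := by
        ext y
        constructor
        · rintro ⟨x, hx, rfl⟩
          have hx' : (x : Ω) ∈ P := Subgroup.mem_subgroupOf.1 hx
          have : ((α x : T) : Ω) = a x := hαa x
          show ((α x : T) : Ω) ∈ P₂
          rw [this]
          exact hPa.map_mem hx'
        · intro hy
          obtain ⟨x, hx, rfl⟩ := hPa.surjOn hy
          refine ⟨⟨x, hPT hx⟩, Subgroup.mem_subgroupOf.2 hx, ?_⟩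
          exact hαa ⟨x, hPT hx⟩
      have hχiso := isIso_of_mem E hχ
      subst hsubeq
      refine ⟨ext1 χ, χ.range, hχiso, fun x hx => ?_⟩
      have hφT : φ ⟨x, hx⟩ ∈ T := (E.le_of_mem hφ).2 ⟨x, hx⟩
      have hmem : ((α ⟨x, hPT hx⟩ : T) : Ω) ∈
          (P.subgroupOf T).map (T.subtype.comp α.toMonoidHom) :=
        ⟨⟨x, hPT hx⟩, Subgroup.mem_subgroupOf.2 hx, rfl⟩
      have h1 := hχv ⟨x, hx⟩ hφT hmem
      have e1 : a x = ((α ⟨x, hPT hx⟩ : T) : Ω) := (hαa ⟨x, hPT hx⟩).symm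
      rw [e1, ext1_apply_mem χ hmem, h1, ← hφf ⟨x, hx⟩]
      exact hαa ⟨φ ⟨x, hx⟩, hφT⟩
    · intro P Q f hPT hf
      obtain ⟨φ, hφ, hφf, -⟩ := hf
      obtain ⟨α, hα, φ₀, hφ₀, hv⟩ := hfrat P hPT φ hφ
      refine ⟨autFun α, ext1 φ₀, φ₀.range, isIso_autFun F hTS hα, isIso_of_mem E hφ₀,
        fun x hx => ?_⟩
      have hφ₀T : φ₀ ⟨x, hx⟩ ∈ T := (E.le_of_mem hφ₀).2 ⟨x, hx⟩
      rw [← hφf ⟨x, hx⟩, hv ⟨x, hx⟩ hφ₀T, ext1_apply_mem φ₀ hx, autFun_apply α hφ₀T]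
  · rintro ⟨hsub, hsc, hinv, hfrat⟩
    have hTS : T ≤ S := hsc.1
    refine ⟨hsub, hsc, ?_, ?_⟩
    · intro P hPT φ hφ α hα
      have ha := isIso_autFun F hTS hα
      have hPa := isIso_autFun_restrict hTS hα hPT
      obtain ⟨c, R, hc, hcv⟩ := hinv (isIso_of_mem E hφ) ha hPa
      obtain ⟨χ, hχ, hχc, -⟩ := hc
      refine ⟨χ, hχ, fun x hφx hαx => ?_⟩
      rw [hχc]
      have e1 : ((α ⟨x, hPT x.2⟩ : T) : Ω) = autFun α x := (autFun_apply α (hPT x.2)).symm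
      show c ((α ⟨x, hPT x.2⟩ : T) : Ω) = _
      rw [e1, hcv x x.2, ext1_apply φ x, autFun_apply α hφx]
    · intro P hPT φ hφ
      obtain ⟨a, f₀, Q₀, ha, hf₀, hv⟩ := hfrat hPT (isIso_of_mem F hφ)
      obtain ⟨α, hα, hαa⟩ := exists_mem_autGroup_of_isIso F ha
      obtain ⟨φ₀, hφ₀, hφ₀f, -⟩ := hf₀
      refine ⟨α, hα, φ₀, hφ₀, fun x hx => ?_⟩
      have := hv x x.2
      rw [ext1_apply φ x] at this
      rw [this, ← hφ₀f x]
      exact (hαa ⟨φ₀ x, hx⟩).symm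

/-- Function-level form of the extension condition. -/
def ExtCond (E : FusionSystem T) (F : FusionSystem S) : Prop :=
  ∀ {f : Ω → Ω}, IsIso E T T f →
    ∃ b : Ω → Ω, IsIso F (T ⊔ centralizerIn S T) (T ⊔ centralizerIn S T) b ∧
      (∀ x ∈ T, b x = f x) ∧
      ∀ c ∈ centralizerIn S T, c⁻¹ * b c ∈ T ⊓ Subgroup.centralizer (T : Set Ω)

theorem isNormalIn_iff (E : FusionSystem T) (F : FusionSystem S) (p : ℕ) (hTS : T ≤ S) :
    E.IsNormalIn F p ↔
      E.IsSaturated p ∧ F.IsSaturated p ∧ E.IsInvariantIn F ∧ ExtCond E F := by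
  have hsupS : T ⊔ centralizerIn S T ≤ S := sup_le hTS inf_le_left
  constructor
  · rintro ⟨⟨hEs, hFs, hinv⟩, hext⟩
    refine ⟨hEs, hFs, hinv, ?_⟩
    intro f hf
    obtain ⟨α, hα, hαf⟩ := exists_mem_autGroup_of_isIso E hf
    obtain ⟨β, hβ, hβα, hβc⟩ := hext α hα
    refine ⟨autFun β, isIso_autFun F hsupS hβ, fun x hx => ?_, fun c hc => ?_⟩
    · have hx' : x ∈ T ⊔ centralizerIn S T := (le_sup_left : T ≤ _) hx
      rw [autFun_apply β hx', ← hαf ⟨x, hx⟩]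
      exact hβα ⟨x, hx⟩
    · have hc' : c ∈ T ⊔ centralizerIn S T := (le_sup_right : centralizerIn S T ≤ _) hc
      rw [autFun_apply β hc']
      exact hβc ⟨c, hc'⟩ hc
  · rintro ⟨hEs, hFs, hinv, hext⟩
    refine ⟨⟨hEs, hFs, hinv⟩, ?_⟩
    intro α hα
    obtain ⟨b, hb, hbf, hbc⟩ := hext (isIso_autFun E le_rfl hα)
    obtain ⟨β, hβ, hβb⟩ := exists_mem_autGroup_of_isIso F hb
    refine ⟨β, hβ, fun x => ?_, fun c hc => ?_⟩
    · rw [hβb]
      show b (x : Ω) = _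
      rw [hbf _ x.2, autFun_apply α x.2]
    · rw [hβb]
      exact hbc _ hc

end Cfsg.Agent.Lib.H25.Tr
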