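import Mathlib
import Cfsg.Prelude.Def_FusionComponents
import Cfsg.Agent.Lib.H25.TrBasic
import Cfsg.Agent.Lib.H25.TrCond
import Cfsg.Agent.Lib.H25.Normal
import Cfsg.Agent.Lib.H25.MorphismSat

set_option autoImplicit false

/-!
Transport of the basic predicates on fusion systems along a partial isomorphism (helper25):
subsystems, strongly closed subgroups, saturation, invariant and normal subsystems, simplicity.
-/

namespace Cfsg.Agent.Lib.H25.Tr

open Cfsg Cfsg.FusionSystem Cfsg.Agent.Lib.H25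

universe u v

variable {Ω₁ : Type u} {Ω₂ : Type v} [Group Ω₁] [Group Ω₂]
  {S₁ : Subgroup Ω₁} {S₂ : Subgroup Ω₂} {e : PIso S₁ S₂}

/-! ### Centralizers -/

theorem PIso.img_centralizerIn (e : PIso S₁ S₂) {S T : Subgroup Ω₁} (hT : T ≤ S₁) :
    e.img (centralizerIn S T) = centralizerIn (e.img S) (e.img T) := by
  ext y
  constructor
  · rintro ⟨hy, hyS, hyC⟩
    refine ⟨⟨hy, hyS⟩, ?_⟩
    show y ∈ Subgroup.centralizer (e.img T : Set Ω₂)
    rw [Subgroup.mem_centralizer_iff]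
    intro t' ht'
    have ht'' : t' ∈ e.img T := ht'
    have h1 := (Subgroup.mem_centralizer_iff.1 hyC) (e.g' t') ht''.2
    have h2 : e.g' (t' * y) = e.g' (y * t') := by rw [e.mul' ht''.1 hy, e.mul' hy ht''.1, h1]
    exact e.symm.injOn (S₂.mul_mem ht''.1 hy) (S₂.mul_mem hy ht''.1) h2
  · rintro ⟨⟨hy, hyS⟩, hyC⟩
    refine ⟨hy, hyS, ?_⟩
    show e.g' y ∈ Subgroup.centralizer (T : Set Ω₁)
    rw [Subgroup.mem_centralizer_iff]
    intro t ht
    have ht' : e.g t ∈ e.img T := e.map_mem_img ht (hT ht)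
    have h1 := (Subgroup.mem_centralizer_iff.1 hyC) (e.g t) ht'
    have h2 := congrArg e.g' h1
    rw [e.mul' ht'.1 hy, e.mul' hy ht'.1, e.linv (hT ht)] at h2
    exact h2

theorem PIso.map_mem_center (e : PIso S₁ S₂) {T : Subgroup Ω₁} (hT : T ≤ S₁) {z : Ω₁}
    (hz : z ∈ T ⊓ Subgroup.centralizer (T : Set Ω₁)) :
    e.g z ∈ e.img T ⊓ Subgroup.centralizer (e.img T : Set Ω₂) := by
  refine ⟨e.map_mem_img hz.1 (hT hz.1), ?_⟩
  show e.g z ∈ Subgroup.centralizer (e.img T : Set Ω₂)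
  rw [Subgroup.mem_centralizer_iff]
  intro t' ht'
  have ht'' : t' ∈ e.img T := ht'
  have h1 := (Subgroup.mem_centralizer_iff.1 hz.2) (e.g' t') ht''.2
  have h2 := congrArg e.g h1
  rw [e.mul (hT ht''.2) (hT hz.1), e.mul (hT hz.1) (hT ht''.2), e.rinv ht''.1] at h2
  exact h2

section Preds

variable {T S : Subgroup Ω₁} {T' S' : Subgroup Ω₂} {E : FusionSystem T} {E' : FusionSystem T'}
  {F : FusionSystem S} {F' : FusionSystem S'}

/-! ### Subsystems and strongly closed subgroups -/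

theorem IsTr.isSubsystemOf (hE : IsTr e E E') (hF : IsTr e F F') (h : E.IsSubsystemOf F) :
    E'.IsSubsystemOf F' := by
  apply isSubsystemOf_of_isIso
  intro P' Q' f' hf'
  obtain ⟨hP', hQ', hm, hiso⟩ := hE.isIso_iff.1 hf'
  exact hF.isIso_iff.2 ⟨hP', hQ', hm, isIso_of_subsystem h hiso⟩

theorem IsTr.stronglyClosed (hF : IsTr e F F') {R : Subgroup Ω₁} (h : F.StronglyClosed R) :
    F'.StronglyClosed (e.img R) := by
  have hRS₁ : R ≤ S₁ := h.1.trans hF.le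
  refine ⟨by rw [hF.eq]; exact e.img_mono h.1, fun R' hR' φ' hφ' x => ?_⟩
  have hi := hF.bwd (isIso_of_mem F' hφ')
  have hle : e.symm.img R' ≤ R := by
    have := e.symm.img_mono hR'
    rwa [e.img_img hRS₁] at this
  have hxS : (x : Ω₂) ∈ S₂ := e.img_le R (hR' x.2)
  have hx : e.g' x ∈ e.symm.img R' := e.symm.map_mem_img x.2 hxS
  have h1 := stronglyClosed_map_mem h hi hle hx
  have h2 : e.symm.conj (ext1 φ') (e.g' x) = e.g' (φ' x) := by
    show e.g' (ext1 φ' (e.g (e.g' x))) = _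
    rw [e.rinv hxS, ext1_apply]
  rw [h2] at h1
  exact ⟨hF.le' ((F'.le_of_mem hφ').2 x), h1⟩

/-! ### Saturation -/

/-- The homomorphism `T → Ω₂` given by a partial isomorphism. -/
def PIso.homOn (e : PIso S₁ S₂) {T : Subgroup Ω₁} (hT : T ≤ S₁) : T →* Ω₂ where
  toFun x := e.g x
  map_one' := e.one
  map_mul' a b := e.mul (hT a.2) (hT b.2)

theorem PIso.homOn_apply (e : PIso S₁ S₂) {T : Subgroup Ω₁} (hT : T ≤ S₁) (x : T) :
    e.homOn hT x = e.g x := rfl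

theorem PIso.imageAlong_homOn (e : PIso S₁ S₂) {T : Subgroup Ω₁} (hT : T ≤ S₁) {P : Subgroup Ω₁}
    (hP : P ≤ T) : imageAlong (e.homOn hT) P = e.img P := by
  ext y
  rw [mem_imageAlong_iff]
  constructor
  · rintro ⟨x, hxT, hxP, rfl⟩
    exact e.map_mem_img hxP (hT hxT)
  · intro hy
    exact ⟨e.g' y, hP hy.2, hy.2, e.rinv hy.1⟩

theorem PIso.preimageAlong_homOn (e : PIso S₁ S₂) {T : Subgroup Ω₁} (hT : T ≤ S₁)
    {P' : Subgroup Ω₂} (hP' : P' ≤ e.img T) : preimageAlong (e.homOn hT) P' = e.symm.img P' := by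
  ext x
  rw [mem_preimageAlong_iff]
  constructor
  · rintro ⟨hxT, hx⟩
    exact ⟨hT hxT, hx⟩
  · rintro ⟨hxS, hx⟩
    have hx' : e.g x ∈ P' := hx
    have h1 := (hP' hx').2
    rw [e.linv hxS] at h1
    exact ⟨h1, hx'⟩

theorem IsTr.isSurjectiveMorphism (h : IsTr e E E') (hT : T ≤ S₁) :
    E.IsSurjectiveMorphism E' (e.homOn hT) := by
  refine ⟨⟨fun s => ?_, fun P φ hφ => ?_⟩, ?_, fun P' hP' φ' hφ' => ?_⟩
  · rw [h.eq]
    exact e.map_mem_img s.2 (hT s.2)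
  · have hPT : P ≤ T := (E.le_of_mem hφ).1
    have hφT : ∀ x : P, φ x ∈ T := (E.le_of_mem hφ).2
    rw [e.imageAlong_homOn hT hPT]
    obtain ⟨φ', hφ', hφ'v, -⟩ := h.fwd (isIso_of_mem E hφ)
    refine ⟨φ', hφ', hPT, hφT, fun x => e.map_mem_img x.2 (hT (hPT x.2)), fun x => ?_⟩
    rw [hφ'v]
    show e.g (ext1 φ (e.g' (e.g (x : Ω₁)))) = e.g (φ x)
    rw [e.linv (hT (hPT x.2)), ext1_apply]
  · ext y
    rw [h.eq]
    constructor
    · rintro ⟨x, rfl⟩
      exact e.map_mem_img x.2 (hT x.2)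
    · intro hy
      exact ⟨⟨e.g' y, hy.2⟩, e.rinv hy.1⟩
  · have hP'' : P' ≤ e.img T := by rw [← h.eq]; exact hP'
    have hφ'T : ∀ y : P', φ' y ∈ T' := (E'.le_of_mem hφ').2
    rw [e.preimageAlong_homOn hT hP'']
    obtain ⟨φ, hφ, hφv, -⟩ := h.bwd (isIso_of_mem E' hφ')
    have hle : e.symm.img P' ≤ T := by
      have := e.symm.img_mono hP''
      rwa [e.img_img hT] at this
    refine ⟨φ, hφ, hle, (E.le_of_mem hφ).2, fun x => e.map_mem_of_mem_symm_img x.2, fun x => ?_⟩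
    show φ' ⟨e.g x, _⟩ = e.g (φ x)
    rw [hφv]
    show _ = e.g (e.g' (ext1 φ' (e.g (x : Ω₁))))
    rw [ext1_apply_mem φ' (e.map_mem_of_mem_symm_img x.2), e.rinv (h.le' (hφ'T _))]

theorem IsTr.isSaturated [Finite S₁] {p : ℕ} [Fact p.Prime] (hp : IsPGroup p S₁) (h : IsTr e E E')
    (hsat : E.IsSaturated p) : E'.IsSaturated p := by
  have : Finite T := finite_of_le S₁ h.le
  exact isSaturated_of_surjectiveMorphism (hp.to_le h.le) hsat (h.isSurjectiveMorphism h.le)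

/-! ### Invariant and normal subsystems -/

theorem IsTr.invCond (hE : IsTr e E E') (hF : IsTr e F F') (h : InvCond E F) : InvCond E' F' := by
  intro P' P₂' Q' f' a' hf' ha' hPa'
  have hT'S : T' ≤ S₂ := hE.le'
  have hP'T : P' ≤ T' := hf'.le_left
  have hQ'T : Q' ≤ T' := hf'.le_right
  have hP₂' : P₂' ≤ S₂ := hPa'.le_right.trans hF.le'
  have h1 := hE.bwd hf'
  have h2 := hF.bwd ha'
  rw [← hE.eq'] at h2
  have h3 := hF.bwd hPa'
  obtain ⟨c, R, hc, hcv⟩ := h h1 h2 h3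
  have h4 := hE.fwd hc
  rw [e.img_img' hP₂'] at h4
  refine ⟨e.conj c, e.img R, h4, fun y hy => ?_⟩
  have hyS : y ∈ S₂ := hT'S (hP'T hy)
  have hx : e.g' y ∈ e.symm.img P' := e.symm.map_mem_img hy hyS
  have h5 := hcv _ hx
  have hfy : f' y ∈ S₂ := hT'S (hQ'T (hf'.map_mem hy))
  have hafy : a' (f' y) ∈ S₂ := hT'S (ha'.map_mem (hQ'T (hf'.map_mem hy)))
  have e1 : e.symm.conj a' (e.g' y) = e.g' (a' y) := by
    show e.g' (a' (e.g (e.g' y))) = _
    rw [e.rinv hyS]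
  have e2 : e.symm.conj a' (e.symm.conj f' (e.g' y)) = e.g' (a' (f' y)) := by
    show e.g' (a' (e.g (e.g' (f' (e.g (e.g' y)))))) = _
    rw [e.rinv hyS, e.rinv hfy]
  rw [e1, e2] at h5
  show e.g (c (e.g' (a' y))) = a' (f' y)
  rw [h5, e.rinv hafy]

theorem IsTr.fratCond (hE : IsTr e E E') (hF : IsTr e F F') (h : FratCond E F) :
    FratCond E' F' := by
  intro P' Q' f' hP'T hf'
  have hT'S : T' ≤ S₂ := hE.le'
  have hTS₁ : T ≤ S₁ := hE.le
  have h1 := hF.bwd hf'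
  have hle : e.symm.img P' ≤ T := by
    have := e.symm.img_mono hP'T
    rwa [← hE.eq'] at this
  obtain ⟨a, f₀, Q₀, ha, hf₀, hv⟩ := h hle h1
  have h2 := hF.fwd ha
  rw [← hE.eq] at h2
  have h3 := hE.fwd hf₀
  rw [e.img_img' (hP'T.trans hT'S)] at h3
  refine ⟨e.conj a, e.conj f₀, e.img Q₀, h2, h3, fun y hy => ?_⟩
  have hyS : y ∈ S₂ := hT'S (hP'T hy)
  have hx : e.g' y ∈ e.symm.img P' := e.symm.map_mem_img hy hyS
  have h4 := hv _ hx
  have hf₀S : f₀ (e.g' y) ∈ S₁ := hTS₁ (hf₀.le_right (hf₀.map_mem hx))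
  have hfy : f' y ∈ S₂ := hf'.le_right.trans hF.le' (hf'.map_mem hy)
  show f' y = e.g (a (e.g' (e.g (f₀ (e.g' y)))))
  rw [e.linv hf₀S, ← h4]
  show f' y = e.g (e.g' (f' (e.g (e.g' y))))
  rw [e.rinv hyS, e.rinv hfy]

theorem IsTr.extCond (hE : IsTr e E E') (hF : IsTr e F F') (hTS : T ≤ S) (h : ExtCond E F) :
    ExtCond E' F' := by
  intro f' hf'
  have hT'S : T' ≤ S₂ := hE.le'
  have hTS₁ : T ≤ S₁ := hE.le
  have hSS₁ : S ≤ S₁ := hF.le
  have hCS₁ : centralizerIn S T ≤ S₁ := inf_le_left.trans hSS₁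
  have h1 := hE.bwd hf'
  rw [← hE.eq'] at h1
  obtain ⟨b, hb, hbf, hbc⟩ := h h1
  have hC : e.img (centralizerIn S T) = centralizerIn S' T' := by
    rw [e.img_centralizerIn hTS₁, ← hE.eq, ← hF.eq]
  have hsup : e.img (T ⊔ centralizerIn S T) = T' ⊔ centralizerIn S' T' := by
    rw [e.img_sup hTS₁ hCS₁, hC, ← hE.eq]
  have h2 := hF.fwd hb
  rw [hsup] at h2
  refine ⟨e.conj b, h2, fun y hy => ?_, fun c' hc' => ?_⟩
  · have hyS : y ∈ S₂ := hT'S hy
    have hx : e.g' y ∈ T := by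
      have : y ∈ e.img T := by rw [← hE.eq]; exact hy
      exact this.2
    show e.g (b (e.g' y)) = f' y
    rw [hbf _ hx]
    show e.g (e.g' (f' (e.g (e.g' y)))) = f' y
    rw [e.rinv hyS, e.rinv (hT'S (hf'.map_mem hy))]
  · have hc'' : c' ∈ e.img (centralizerIn S T) := by rw [hC]; exact hc'
    have hc'S : c' ∈ S₂ := hc''.1
    have hc : e.g' c' ∈ centralizerIn S T := hc''.2
    have hcS₁ : e.g' c' ∈ S₁ := hCS₁ hc
    have hz := hbc _ hc
    have hbcS₁ : b (e.g' c') ∈ S₁ :=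
      hSS₁ (hb.le_right (hb.map_mem ((le_sup_right : centralizerIn S T ≤ _) hc)))
    have h3 := e.map_mem_center hTS₁ hz
    rw [e.mul (S₁.inv_mem hcS₁) hbcS₁, e.inv hcS₁, e.rinv hc'S, ← hE.eq] at h3
    exact h3

theorem IsTr.isInvariantIn (hE : IsTr e E E') (hF : IsTr e F F') (h : E.IsInvariantIn F) :
    E'.IsInvariantIn F' := by
  rw [isInvariantIn_iff] at h ⊢
  obtain ⟨h1, h2, h3, h4⟩ := h
  refine ⟨hE.isSubsystemOf hF h1, ?_, hE.invCond hF h3, hE.fratCond hF h4⟩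
  have := hF.stronglyClosed h2
  rwa [← hE.eq] at this

theorem IsTr.isNormalIn [Finite S₁] {p : ℕ} [Fact p.Prime] (hp : IsPGroup p S₁) (hE : IsTr e E E')
    (hF : IsTr e F F') (h : E.IsNormalIn F p) : E'.IsNormalIn F' p := by
  have hTS : T ≤ S := h.1.2.2.2.1.1
  have hT'S' : T' ≤ S' := by
    rw [hE.eq, hF.eq]
    exact e.img_mono hTS
  rw [isNormalIn_iff E F p hTS] at h
  rw [isNormalIn_iff E' F' p hT'S']
  obtain ⟨h1, h2, h3, h4⟩ := h
  exact ⟨hE.isSaturated hp h1, hF.isSaturated hp h2, hE.isInvariantIn hF h3,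
    hE.extCond hF hTS h4⟩

end Preds

end Cfsg.Agent.Lib.H25.Tr
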