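import Mathlib
import Cfsg.Prelude.Def_FusionComponents
import Cfsg.Agent.Lib.H25.TrPred

set_option autoImplicit false

/-!
Transport of simplicity and subnormality along a partial isomorphism (helper25).
-/

namespace Cfsg.Agent.Lib.H25.Tr

open Cfsg Cfsg.FusionSystem Cfsg.Agent.Lib.H25

universe u v

variable {Ω₁ : Type u} {Ω₂ : Type v} [Group Ω₁] [Group Ω₂]
  {S₁ : Subgroup Ω₁} {S₂ : Subgroup Ω₂} {e : PIso S₁ S₂}

/-- Two fusion systems over the same subgroup with the same maps are equal. -/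
theorem fusionSystem_ext {Ω : Type u} [Group Ω] {S : Subgroup Ω} {E F : FusionSystem S}
    (h : ∀ P : Subgroup Ω, E.Hom P = F.Hom P) : E = F := by
  obtain ⟨H, _, _, _, _, _⟩ := E
  obtain ⟨H', _, _, _, _, _⟩ := F
  have : H = H' := funext h
  subst this
  rfl

theorem hom_eq_of_isIso_iff {Ω : Type u} [Group Ω] {S T : Subgroup Ω} {E : FusionSystem T}
    {F : FusionSystem S}
    (h : ∀ {P Q : Subgroup Ω} {f : Ω → Ω}, IsIso E P Q f ↔ IsIso F P Q f) (P : Subgroup Ω) :
    E.Hom P = F.Hom P := by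
  ext φ
  constructor
  · intro hφ
    exact mem_hom_of_isIso F (h.1 (isIso_of_mem E hφ)) (fun x => (ext1_apply φ x).symm)
  · intro hφ
    exact mem_hom_of_isIso E (h.2 (isIso_of_mem F hφ)) (fun x => (ext1_apply φ x).symm)

/-- The transport of a system is unique. -/
theorem IsTr.unique {T : Subgroup Ω₁} {T' : Subgroup Ω₂} {E : FusionSystem T}
    {E' E'' : FusionSystem T'} (h : IsTr e E E') (h' : IsTr e E E'') : E' = E'' := by
  apply fusionSystem_ext
  apply hom_eq_of_isIso_iff
  intro P' Q' f'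
  rw [h.isIso_iff, h'.isIso_iff]

section Preds

variable {S : Subgroup Ω₁} {S' : Subgroup Ω₂} {F : FusionSystem S} {F' : FusionSystem S'}

theorem IsTr.isSimple [Finite S₁] {p : ℕ} [Fact p.Prime] (hp : IsPGroup p S₁) (hF : IsTr e F F')
    (h : F.IsSimple p) : F'.IsSimple p := by
  obtain ⟨hsat, hne, hall⟩ := h
  have hfin₂ : Finite S₂ := by
    have : Finite (e.img S₁) := by
      apply Nat.finite_of_card_ne_zero
      rw [e.card_img le_rfl]
      exact Nat.card_pos.ne'
    rwa [e.img_top] at this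
  have hp₂ : IsPGroup p S₂ := by
    have h1 : Nat.card S₂ = Nat.card S₁ := by
      rw [← e.img_top, e.card_img le_rfl]
    obtain ⟨n, hn⟩ := IsPGroup.iff_card.1 hp
    exact IsPGroup.of_card (h1.trans hn)
  refine ⟨hF.isSaturated hp hsat, ?_, fun T' E' hE' => ?_⟩
  · intro h0
    apply hne
    rw [hF.eq] at h0
    exact (e.img_eq_bot_iff hF.le).1 h0
  · have hT'S' : T' ≤ S' := hE'.1.2.2.2.1.1
    have hT'S₂ : T' ≤ S₂ := hT'S'.trans hF.le'
    have hE : IsTr e.symm E' (push e.symm E' (e.symm.img T') hT'S₂ rfl) := push_isTr hT'S₂ rfl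
    have hEn := hE.isNormalIn hp₂ hF.symm hE'
    rcases hall _ _ hEn with h1 | ⟨h1, h2⟩
    · left
      exact (e.symm.img_eq_bot_iff hT'S₂).1 h1
    · right
      have hTS : T' = S' := by
        rw [hF.eq, ← h1, e.img_img' hT'S₂]
      refine ⟨hTS, fun P' => ?_⟩
      apply Set.Subset.antisymm (hE'.1.2.2.1 P')
      have hsub : F.IsSubsystemOf (push e.symm E' (e.symm.img T') hT'S₂ rfl) := by
        intro P φ hφ
        rw [h2 P]
        exact hφ
      exact (hF.isSubsystemOf hE.symm hsub) P'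

/-- Transport of subnormality. -/
theorem IsTr.isSubnormalIn [Finite S₁] {p : ℕ} {T : Subgroup Ω₁} {C : FusionSystem T}
    (h : C.IsSubnormalIn F p) :
    Fact p.Prime → IsPGroup p S₁ → ∀ {T' S' : Subgroup Ω₂} {C' : FusionSystem T'}
      {F' : FusionSystem S'}, IsTr e C C' → IsTr e F F' → C'.IsSubnormalIn F' p := by
  induction h with
  | refl F p =>
    intro _ _ T' S' C' F' hC hF
    have hTS : T' = S' := by rw [hC.eq, hF.eq]
    subst hTS
    have : C' = F' := hC.unique hF
    subst this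
    exact IsSubnormalIn.refl _ _
  | @step U S C D F p hCD hDF ih =>
    intro hpp hp T' S' C' F' hC hF
    have hUS : U ≤ S := hDF.1.2.2.2.1.1
    have hUS₁ : U ≤ S₁ := hUS.trans hF.le
    have hD : IsTr e D (push e D (e.img U) hUS₁ rfl) := push_isTr hUS₁ rfl
    have h1 := ih hpp hp hC hD
    have h2 := hD.isNormalIn hp hF hDF
    exact IsSubnormalIn.step h1 h2

end Preds

end Cfsg.Agent.Lib.H25.Tr
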