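import Mathlib
import Cfsg.Prelude.Def_FusionComponents
import Cfsg.Agent.Lib.H25.TrSimple
import Cfsg.Agent.Lib.H25.Hyperfocal
import Cfsg.Agent.S5144

set_option autoImplicit false

/-!
Transport of the hyperfocal subgroup and of the centre of a fusion system along a partial
isomorphism (helper25).
-/

namespace Cfsg.Agent.Lib.H25.Tr

open Cfsg Cfsg.FusionSystem Cfsg.Agent.Lib.H25

universe u v

variable {Ω₁ : Type u} {Ω₂ : Type v} [Group Ω₁] [Group Ω₂]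
  {S₁ : Subgroup Ω₁} {S₂ : Subgroup Ω₂} {e : PIso S₁ S₂}

theorem PIso.finite_right (e : PIso S₁ S₂) [Finite S₁] : Finite S₂ := by
  have : Finite (e.img S₁) := by
    apply Nat.finite_of_card_ne_zero
    rw [e.card_img le_rfl]
    exact Nat.card_pos.ne'
  rwa [e.img_top] at this

theorem PIso.isPGroup_right (e : PIso S₁ S₂) {p : ℕ} [Fact p.Prime] [Finite S₁]
    (hp : IsPGroup p S₁) : IsPGroup p S₂ := by
  have h1 : Nat.card S₂ = Nat.card S₁ := by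
    rw [← e.img_top, e.card_img le_rfl]
  obtain ⟨n, hn⟩ := IsPGroup.iff_card.1 hp
  exact IsPGroup.of_card (h1.trans hn)

/-- The group isomorphism `P ≃* P'`, `P' = e.img P`, given by a partial isomorphism. -/
def PIso.equivOn (e : PIso S₁ S₂) {P : Subgroup Ω₁} (hP : P ≤ S₁) {P' : Subgroup Ω₂}
    (hP' : P' = e.img P) : P ≃* P' where
  toFun x := ⟨e.g x, by rw [hP']; exact e.map_mem_img x.2 (hP x.2)⟩
  invFun y := ⟨e.g' y, (hP'.le y.2).2⟩
  left_inv x := Subtype.ext (e.linv (hP x.2))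
  right_inv y := Subtype.ext (e.rinv (hP'.le y.2).1)
  map_mul' a b := Subtype.ext (e.mul (hP a.2) (hP b.2))

theorem PIso.equivOn_apply (e : PIso S₁ S₂) {P : Subgroup Ω₁} (hP : P ≤ S₁) {P' : Subgroup Ω₂}
    (hP' : P' = e.img P) (x : P) : ((e.equivOn hP hP' x : P') : Ω₂) = e.g x := rfl

theorem PIso.equivOn_symm_apply (e : PIso S₁ S₂) {P : Subgroup Ω₁} (hP : P ≤ S₁)
    {P' : Subgroup Ω₂} (hP' : P' = e.img P) (y : P') :
    (((e.equivOn hP hP').symm y : P) : Ω₁) = e.g' y := rfl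

section Preds

variable {U : Subgroup Ω₁} {U' : Subgroup Ω₂} {C : FusionSystem U} {C' : FusionSystem U'}

/-! ### The hyperfocal subgroup -/

theorem IsTr.congr_mem_autGroup (h : IsTr e C C') {P : Subgroup Ω₁} (hP : P ≤ U) {a : MulAut P}
    (ha : a ∈ C.autGroup P) :
    MulAut.congr (e.equivOn (hP.trans h.le) rfl) a ∈ C'.autGroup (e.img P) := by
  have hP' : e.img P ≤ U' := by rw [h.eq]; exact e.img_mono hP
  rw [mem_autGroup_iff C' hP']
  have hi := h.fwd (isIso_of_mem_autGroup C hP ha)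
  refine mem_hom_of_isIso C' hi (fun y => ?_)
  show e.g ((a ⟨e.g' y, _⟩ : P) : Ω₁) = e.g (ext1 (P.subtype.comp a.toMonoidHom) (e.g' y))
  rw [ext1_apply_mem _ y.2.2]
  rfl

theorem IsTr.img_hyperfocal_le (h : IsTr e C C') (p : ℕ) :
    e.img (C.hyperfocalSubgroup p) ≤ C'.hyperfocalSubgroup p := by
  have hU := h.le
  rw [e.img_le_iff ((hyperfocal_le C p).trans hU)]
  refine (Subgroup.closure_le _).2 ?_
  rintro _ ⟨P, α, x, hP, hα, rfl⟩
  have hPS₁ : P ≤ S₁ := hP.trans hU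
  have hP' : e.img P ≤ U' := by rw [h.eq]; exact e.img_mono hP
  have hxS : (x : Ω₁) ∈ S₁ := hPS₁ x.2
  have hαxS : (((α : MulAut P) x : P) : Ω₁) ∈ S₁ := hPS₁ ((α : MulAut P) x).2
  refine ⟨S₁.mul_mem (S₁.inv_mem hxS) hαxS, ?_⟩
  show e.g ((x : Ω₁)⁻¹ * (((α : MulAut P) x : P) : Ω₁)) ∈ C'.hyperfocalSubgroup p
  rw [e.mul (S₁.inv_mem hxS) hαxS, e.inv hxS]
  obtain ⟨ε, hε⟩ : ∃ ε : P ≃* e.img P, ε = e.equivOn hPS₁ rfl := ⟨_, rfl⟩
  let τ : C.autGroup P →* C'.autGroup (e.img P) :=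
    ((MulAut.congr ε).toMonoidHom.comp (C.autGroup P).subtype).codRestrict (C'.autGroup (e.img P))
      (fun a => by
        show MulAut.congr ε (a : MulAut P) ∈ C'.autGroup (e.img P)
        rw [hε]
        exact h.congr_mem_autGroup hP a.2)
  have hα' : τ α ∈ pResidual p (C'.autGroup (e.img P)) :=
    map_pResidual_le_hom (p := p) τ ⟨α, hα, rfl⟩
  have hmem := mem_hyperfocal_gen C' p hP' (τ α) hα' (ε x)
  have e1 : ((ε x : e.img P) : Ω₂) = e.g x := by rw [hε]; rfl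
  have e2 : ((((τ α : C'.autGroup (e.img P)) : MulAut (e.img P)) (ε x) : e.img P) : Ω₂) =
      e.g (((α : MulAut P) x : P) : Ω₁) := by
    show ((ε ((α : MulAut P) (ε.symm (ε x))) : e.img P) : Ω₂) = _
    rw [ε.symm_apply_apply, hε]
    rfl
  rw [e1, e2] at hmem
  exact hmem

theorem IsTr.hyperfocal_eq_top (h : IsTr e C C') {p : ℕ} (hC : C.hyperfocalSubgroup p = U) :
    C'.hyperfocalSubgroup p = U' := by
  apply le_antisymm (hyperfocal_le C' p)
  have := h.img_hyperfocal_le p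
  rwa [hC, ← h.eq] at this

/-! ### Central subgroups and the centre -/

theorem isCentral_exists_ext {Ω : Type u} [Group Ω] {S : Subgroup Ω} {F : FusionSystem S}
    {Z : Subgroup Ω} (hZ : F.IsCentral Z) {P Q : Subgroup Ω} {f : Ω → Ω} (hf : IsIso F P Q f) :
    ∃ (k : Ω → Ω) (R : Subgroup Ω), IsIso F (P ⊔ Z) R k ∧ (∀ x ∈ P, k x = f x) ∧
      ∀ z ∈ Z, k z = z := by
  obtain ⟨φ, hφ, hφf, -⟩ := hf
  obtain ⟨ψ, hψ, hψφ, hψZ⟩ := hZ.2 P φ hφ
  refine ⟨ext1 ψ, ψ.range, isIso_of_mem F hψ, fun x hx => ?_, fun z hz => ?_⟩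
  · rw [ext1_apply_mem ψ ((le_sup_left : P ≤ P ⊔ Z) hx), ← hφf ⟨x, hx⟩, ← hψφ ⟨x, hx⟩]
    rfl
  · rw [ext1_apply_mem ψ ((le_sup_right : Z ≤ P ⊔ Z) hz)]
    exact hψZ ⟨z, hz⟩

theorem isCentral_of_ext {Ω : Type u} [Group Ω] {S : Subgroup Ω} {F : FusionSystem S}
    {Z : Subgroup Ω} (hZS : Z ≤ S)
    (h : ∀ (P : Subgroup Ω) (φ : P →* Ω), φ ∈ F.Hom P →
      ∃ (k : Ω → Ω) (R : Subgroup Ω), IsIso F (P ⊔ Z) R k ∧ (∀ x : P, k x = φ x) ∧
        ∀ z ∈ Z, k z = z) : F.IsCentral Z := by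
  refine ⟨hZS, fun P φ hφ => ?_⟩
  obtain ⟨k, R, hk, hkφ, hkZ⟩ := h P φ hφ
  obtain ⟨ψ, hψ, hψk, -⟩ := hk
  refine ⟨ψ, hψ, fun x => ?_, fun z => ?_⟩
  · rw [hψk]; exact hkφ x
  · rw [hψk]; exact hkZ z z.2

theorem isCentral_stronglyClosed {Ω : Type u} [Group Ω] {S : Subgroup Ω} {F : FusionSystem S}
    {Z : Subgroup Ω} (hZ : F.IsCentral Z) : F.StronglyClosed Z := by
  refine ⟨hZ.1, fun R hR φ hφ x => ?_⟩
  obtain ⟨k, R', hk, hkφ, hkZ⟩ := isCentral_exists_ext hZ (isIso_of_mem F hφ)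
  have h1 := hkφ x x.2
  rw [ext1_apply φ x, hkZ x (hR x.2)] at h1
  rw [← h1]
  exact hR x.2

theorem IsTr.isCentral (h : IsTr e C C') {Z : Subgroup Ω₁} (hZ : C.IsCentral Z) :
    C'.IsCentral (e.img Z) := by
  have hU := h.le
  have hZU : Z ≤ U := hZ.1
  refine isCentral_of_ext (by rw [h.eq]; exact e.img_mono hZU) (fun P' φ' hφ' => ?_)
  have hP'U' : P' ≤ U' := (C'.le_of_mem hφ').1
  have hP'S : P' ≤ S₂ := hP'U'.trans h.le'
  have hφ'S : ∀ y : P', φ' y ∈ S₂ := fun y => h.le' ((C'.le_of_mem hφ').2 y)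
  have h1 := h.bwd (isIso_of_mem C' hφ')
  obtain ⟨k, R, hk, hkf, hkZ⟩ := isCentral_exists_ext hZ h1
  have h2 := h.fwd hk
  rw [e.img_sup (e.symm.img_le P') (hZU.trans hU), e.img_img' hP'S] at h2
  refine ⟨e.conj k, e.img R, h2, fun y => ?_, fun z hz => ?_⟩
  · have hyS : (y : Ω₂) ∈ S₂ := hP'S y.2
    have hx : e.g' y ∈ e.symm.img P' := e.symm.map_mem_img y.2 hyS
    show e.g (k (e.g' y)) = φ' y
    rw [hkf _ hx]
    show e.g (e.g' (ext1 φ' (e.g (e.g' y)))) = φ' y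
    rw [e.rinv hyS, ext1_apply, e.rinv (hφ'S y)]
  · show e.g (k (e.g' z)) = z
    rw [hkZ _ hz.2, e.rinv hz.1]

theorem center_le {Ω : Type u} [Group Ω] {S : Subgroup Ω} (F : FusionSystem S) : F.center ≤ S :=
  sSup_le fun _ hQ => hQ.1

theorem IsTr.img_center [Finite S₁] (h : IsTr e C C') : e.img C.center = C'.center := by
  have hfin₂ : Finite S₂ := e.finite_right
  have : Finite U := finite_of_le S₁ h.le
  have : Finite U' := finite_of_le S₂ h.le'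
  have h1 : e.img C.center ≤ C'.center :=
    le_sSup (h.isCentral (Cfsg.Agent.S5144.result C))
  have h2 : e.symm.img C'.center ≤ C.center :=
    le_sSup (h.symm.isCentral (Cfsg.Agent.S5144.result C'))
  apply le_antisymm h1
  have h3 := e.img_mono h2
  rwa [e.img_img' ((center_le C').trans h.le')] at h3

end Preds

end Cfsg.Agent.Lib.H25.Tr
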