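import Mathlib
import Cfsg.Prelude.Def_FusionComponents
import Cfsg.Agent.Lib.H25.TrQuasi
import Cfsg.Agent.Lib.H25.Morphism
import Cfsg.Agent.S5134
import Cfsg.Agent.S5131
import Cfsg.Agent.Lib.H25.FactorSystem

set_option autoImplicit false

/-!
Transport of factor systems, quasisimple systems and components along a partial isomorphism
(helper25).
-/

namespace Cfsg.Agent.Lib.H25.Tr

open Cfsg Cfsg.FusionSystem Cfsg.Agent.Lib.H25

universe u v u' v'

variable {Ω₁ : Type u} {Ω₂ : Type v} [Group Ω₁] [Group Ω₂]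
  {S₁ : Subgroup Ω₁} {S₂ : Subgroup Ω₂} {e : PIso S₁ S₂}

/-- The partial isomorphism between the top subgroups given by a group isomorphism. -/
def PIso.ofTop {A : Type u} {B : Type v} [Group A] [Group B] (ū : A ≃* B) :
    PIso (⊤ : Subgroup A) (⊤ : Subgroup B) where
  g := ū
  g' := ū.symm
  mem _ := Subgroup.mem_top _
  mem' _ := Subgroup.mem_top _
  mul _ _ := map_mul ū _ _
  mul' _ _ := map_mul ū.symm _ _
  linv _ := ū.symm_apply_apply _
  rinv _ := ū.apply_symm_apply _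

section Factor

variable {Ω₁' : Type u'} {Ω₂' : Type v'} [Group Ω₁'] [Group Ω₂']
  {S₁' : Subgroup Ω₁'} {S₂' : Subgroup Ω₂'} {ē : PIso S₁' S₂'}
  {U : Subgroup Ω₁} {U' : Subgroup Ω₂} {C : FusionSystem U} {C' : FusionSystem U'}
  {E₂ : FusionSystem S₁'} {E₂' : FusionSystem S₂'} {q : U →* Ω₁'} {q' : U' →* Ω₂'}

/-- Maps of a factor system are carried to maps of the factor system of the transported system. -/
theorem factor_fwd [Finite U] (hC : IsTr e C C') (hsm : C.IsSurjectiveMorphism E₂ q)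
    (hK : C.StronglyClosed (kerSub q)) (hmor' : C'.IsMorphism E₂' q')
    (compat : ∀ x ∈ U, al q' (e.g x) = ē.g (al q x))
    {P₂ Q₂ : Subgroup Ω₁'} {f₂ : Ω₁' → Ω₁'} (h : IsIso E₂ P₂ Q₂ f₂) :
    IsIso E₂' (ē.img P₂) (ē.img Q₂) (ē.conj f₂) := by
  have hUS₁ : U ≤ S₁ := hC.le
  have hrange := hsm.2.1
  obtain ⟨f, hf, hff₂⟩ := lift_iso hsm hK h
  have h1 := hC.fwd hf
  obtain ⟨f₂', hf₂', hv⟩ := push_iso hmor' h1
  have key : ∀ {A₂ : Subgroup Ω₁'}, A₂ ≤ S₁' →
      imageAlong q' (e.img (preimageAlong q A₂)) = ē.img A₂ := by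
    intro A₂ hA₂
    ext w
    rw [mem_image_iff]
    constructor
    · rintro ⟨y, hy, -, rfl⟩
      obtain ⟨hxU, hxA⟩ := (mem_pre_iff q A₂ _).1 hy.2
      have e1 : al q' y = ē.g (al q (e.g' y)) := by
        rw [← compat _ hxU, e.rinv hy.1]
      rw [e1]
      exact ē.map_mem_img hxA (hA₂ hxA)
    · intro hw
      obtain ⟨x, hxU, hx⟩ := exists_al_eq hrange (hA₂ hw.2)
      have hxpre : x ∈ preimageAlong q A₂ := (mem_pre_iff q A₂ x).2 ⟨hxU, by rw [hx]; exact hw.2⟩
      refine ⟨e.g x, e.map_mem_img hxpre (hUS₁ hxU), ?_, ?_⟩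
      · rw [hC.eq]
        exact e.map_mem_img hxU (hUS₁ hxU)
      · rw [compat x hxU, hx, ē.rinv hw.1]
  rw [key h.le_left, key h.le_right] at hf₂'
  refine hf₂'.congr fun w hw => ?_
  obtain ⟨x, hxU, hx⟩ := exists_al_eq hrange (h.le_left hw.2)
  have hxpre : x ∈ preimageAlong q P₂ := (mem_pre_iff q P₂ x).2 ⟨hxU, by rw [hx]; exact hw.2⟩
  have hy : e.g x ∈ e.img (preimageAlong q P₂) := e.map_mem_img hxpre (hUS₁ hxU)
  have hw' : w = al q' (e.g x) := by rw [compat x hxU, hx, ē.rinv hw.1]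
  have hfxU : f x ∈ U := hf.le_right (hf.map_mem hxpre)
  rw [hw', hv _ hy, e.conj_map f (hUS₁ hxU), compat _ hfxU, ← hff₂ x hxpre, compat x hxU]
  show ē.g (f₂ (al q x)) = ē.g (f₂ (ē.g' (ē.g (al q x))))
  rw [ē.linv (al_mem_S' hrange hxU)]

end Factor

section Quasi

variable {U : Subgroup Ω₁} {U' : Subgroup Ω₂} {C : FusionSystem U} {C' : FusionSystem U'}

/-- Transport of quasisimplicity. -/
theorem IsTr.quasisimple [Finite S₁] {p : ℕ} [Fact p.Prime] (hp : IsPGroup p S₁) (hC : IsTr e C C')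
    (h : C.Quasisimple p) : C'.Quasisimple p := by
  obtain ⟨hsat, hhyp, hfacs⟩ := h
  have hfin₂ : Finite S₂ := e.finite_right
  have hp₂ : IsPGroup p S₂ := e.isPGroup_right hp
  have hUS₁ := hC.le
  have hU'S₂ := hC.le'
  have hfinU : Finite U := finite_of_le S₁ hUS₁
  have hfinU' : Finite U' := finite_of_le S₂ hU'S₂
  have hpU : IsPGroup p U := hp.to_le hUS₁
  have hpU' : IsPGroup p U' := hp₂.to_le hU'S₂
  have hsat' : C'.IsSaturated p := hC.isSaturated hp hsat
  refine ⟨hsat', hC.hyperfocal_eq_top hhyp, fun E₂' hfac' => ?_⟩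
  -- centres
  have hZ : e.img C.center = C'.center := hC.img_center
  have hZc : C.IsCentral C.center := Cfsg.Agent.S5144.result C
  have hZc' : C'.IsCentral C'.center := Cfsg.Agent.S5144.result C'
  have hZsc := isCentral_stronglyClosed hZc
  have hZsc' := isCentral_stronglyClosed hZc'
  -- the isomorphism of the quotients
  obtain ⟨ε, hε⟩ : ∃ ε : U ≃* U', ε = e.equivOn hUS₁ hC.eq := ⟨_, rfl⟩
  have hεv : ∀ x : U, ((ε x : U') : Ω₂) = e.g x := fun x => by rw [hε]; rfl
  have hεs : ∀ y : U', ((ε.symm y : U) : Ω₁) = e.g' y := fun y => by rw [hε]; rfl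
  have hmap : ((C.center).subgroupOf U).map ε.toMonoidHom = (C'.center).subgroupOf U' := by
    ext y
    constructor
    · rintro ⟨x, hx, rfl⟩
      have hx' : (x : Ω₁) ∈ C.center := Subgroup.mem_subgroupOf.1 hx
      rw [Subgroup.mem_subgroupOf]
      show ((ε x : U') : Ω₂) ∈ C'.center
      rw [hεv, ← hZ]
      exact e.map_mem_img hx' (hUS₁ x.2)
    · intro hy
      rw [Subgroup.mem_subgroupOf, ← hZ] at hy
      refine ⟨ε.symm y, ?_, ε.apply_symm_apply y⟩
      rw [SetLike.mem_coe, Subgroup.mem_subgroupOf, hεs]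
      exact hy.2
  obtain ⟨ū, hū⟩ : ∃ ū : U ⧸ (C.center).subgroupOf U ≃* U' ⧸ (C'.center).subgroupOf U',
      ū = QuotientGroup.congr _ _ ε hmap := ⟨_, rfl⟩
  have hūmk : ∀ x : U, ū (QuotientGroup.mk x) = QuotientGroup.mk (ε x) := by
    intro x
    rw [hū]
    rfl
  obtain ⟨q, hq⟩ : ∃ q : U →* U ⧸ (C.center).subgroupOf U,
      q = QuotientGroup.mk' ((C.center).subgroupOf U) := ⟨_, rfl⟩
  obtain ⟨q', hq'⟩ : ∃ q' : U' →* U' ⧸ (C'.center).subgroupOf U',
      q' = QuotientGroup.mk' ((C'.center).subgroupOf U') := ⟨_, rfl⟩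
  rw [← hq'] at hfac'
  have hker : ∀ s : U, q s = 1 ↔ (s : Ω₁) ∈ C.center := fun s => by
    rw [hq, QuotientGroup.mk'_apply, QuotientGroup.eq_one_iff, Subgroup.mem_subgroupOf]
  have hsurj : Function.Surjective q := by
    rw [hq]; exact QuotientGroup.mk'_surjective _
  have hfac := factorSystem_isFactorSystem C hZsc q hsurj hker
  have hsimple : (factorSystem C hZsc q hsurj hker).IsSimple p := by
    apply hfacs
    rw [← hq]
    exact hfac
  have hsm := Cfsg.Agent.S5134.result p hpU C hsat C.center hZsc q _ hfac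
  have hsm' := Cfsg.Agent.S5134.result p hpU' C' hsat' C'.center hZsc' q' E₂' hfac'
  have hK : C.StronglyClosed (kerSub q) := by
    rw [kerSub_eq]
    exact Cfsg.Agent.S5131.result p hpU C _ q hsm.1
  have hK' : C'.StronglyClosed (kerSub q') := by
    rw [kerSub_eq]
    exact Cfsg.Agent.S5131.result p hpU' C' _ q' hsm'.1
  have compat : ∀ x ∈ U, al q' (e.g x) = ū (al q x) := by
    intro x hx
    have hgx : e.g x ∈ U' := by rw [hC.eq]; exact e.map_mem_img hx (hUS₁ hx)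
    rw [al_apply q hx, al_apply q' hgx, hq, hq']
    show (QuotientGroup.mk _ : U' ⧸ (C'.center).subgroupOf U') = ū (QuotientGroup.mk _)
    rw [hūmk]
    congr 1
    exact Subtype.ext (hεv ⟨x, hx⟩).symm
  have compat' : ∀ y ∈ U', al q (e.g' y) = ū.symm (al q' y) := by
    intro y hy
    have hy' : y ∈ e.img U := by rw [← hC.eq]; exact hy
    have := compat (e.g' y) hy'.2
    rw [e.rinv hy'.1] at this
    rw [this, ū.symm_apply_apply]
  have hTr : IsTr (PIso.ofTop ū) (factorSystem C hZsc q hsurj hker) E₂' :=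
    ⟨le_rfl, (PIso.ofTop ū).img_top.symm,
      fun h => factor_fwd (ē := PIso.ofTop ū) hC hsm hK hsm'.1 compat h,
      fun h => factor_fwd (ē := (PIso.ofTop ū).symm) hC.symm hsm' hK' hsm.1 compat' h⟩
  have hpQ : IsPGroup p ↥(⊤ : Subgroup (U ⧸ (C.center).subgroupOf U)) :=
    (hpU.to_quotient _).to_subgroup _
  exact hTr.isSimple hpQ hsimple

/-- Transport of components. -/
theorem IsTr.isComponentIn [Finite S₁] {p : ℕ} [hpp : Fact p.Prime] (hp : IsPGroup p S₁)
    {S : Subgroup Ω₁} {S' : Subgroup Ω₂} {F : FusionSystem S} {F' : FusionSystem S'}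
    (hC : IsTr e C C') (hF : IsTr e F F') (h : C.IsComponentIn F p) : C'.IsComponentIn F' p :=
  ⟨IsTr.isSubnormalIn h.1 hpp hp hC hF, hC.quasisimple hp h.2⟩

end Quasi

end Cfsg.Agent.Lib.H25.Tr
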