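import Mathlib
import Cfsg.Prelude.Def_FusionComponents
import Cfsg.Agent.Lib.H25.TrBasic
import Cfsg.Agent.Lib.H25.Morphism

set_option autoImplicit false

/-!
The partial isomorphism attached to a group isomorphism `S₁ ≃* S₂`, and the transport relation
obtained from a pair of mutually inverse morphisms of fusion systems (helper25).
-/

namespace Cfsg.Agent.Lib.H25.Tr

open Cfsg Cfsg.FusionSystem Cfsg.Agent.Lib.H25

universe u v

variable {Ω₁ : Type u} {Ω₂ : Type v} [Group Ω₁] [Group Ω₂]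
  {S₁ : Subgroup Ω₁} {S₂ : Subgroup Ω₂}

/-- The partial isomorphism given by a group isomorphism `S₁ ≃* S₂`. -/
noncomputable def PIso.ofMulEquiv (γ : S₁ ≃* S₂) : PIso S₁ S₂ where
  g := al (S₂.subtype.comp γ.toMonoidHom)
  g' := al (S₁.subtype.comp γ.symm.toMonoidHom)
  mem := by
    intro x hx
    rw [al_apply _ hx]
    exact (γ ⟨x, hx⟩).2
  mem' := by
    intro y hy
    rw [al_apply _ hy]
    exact (γ.symm ⟨y, hy⟩).2
  mul hx hy := al_mul _ hx hy
  mul' hx hy := al_mul _ hx hy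
  linv := by
    intro x hx
    rw [al_apply _ hx]
    show al (S₁.subtype.comp γ.symm.toMonoidHom) ((γ ⟨x, hx⟩ : S₂) : Ω₂) = x
    rw [al_apply _ (γ ⟨x, hx⟩).2]
    show ((γ.symm ⟨((γ ⟨x, hx⟩ : S₂) : Ω₂), _⟩ : S₁) : Ω₁) = x
    rw [Subtype.coe_eta, γ.symm_apply_apply]
  rinv := by
    intro y hy
    rw [al_apply _ hy]
    show al (S₂.subtype.comp γ.toMonoidHom) ((γ.symm ⟨y, hy⟩ : S₁) : Ω₁) = y
    rw [al_apply _ (γ.symm ⟨y, hy⟩).2]
    show ((γ ⟨((γ.symm ⟨y, hy⟩ : S₁) : Ω₁), _⟩ : S₂) : Ω₂) = y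
    rw [Subtype.coe_eta, γ.apply_symm_apply]

theorem PIso.ofMulEquiv_g (γ : S₁ ≃* S₂) :
    (PIso.ofMulEquiv γ).g = al (S₂.subtype.comp γ.toMonoidHom) := rfl

theorem PIso.ofMulEquiv_g' (γ : S₁ ≃* S₂) :
    (PIso.ofMulEquiv γ).g' = al (S₁.subtype.comp γ.symm.toMonoidHom) := rfl

/-- `imageAlong` along a homomorphism agreeing with a partial isomorphism is `img`. -/
theorem PIso.imageAlong_eq (e : PIso S₁ S₂) {θ : S₁ →* Ω₂} (hθ : ∀ x ∈ S₁, al θ x = e.g x)
    (P : Subgroup Ω₁) : imageAlong θ P = e.img P := by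
  ext y
  rw [mem_image_iff]
  constructor
  · rintro ⟨x, hxP, hxS, rfl⟩
    rw [hθ x hxS]
    exact e.map_mem_img hxP hxS
  · intro hy
    refine ⟨e.g' y, hy.2, e.mem' hy.1, ?_⟩
    rw [hθ _ (e.mem' hy.1), e.rinv hy.1]

section

variable {S : Subgroup Ω₁} {S' : Subgroup Ω₂} {F : FusionSystem S} {F' : FusionSystem S'}

/-- A morphism of fusion systems that agrees with a partial isomorphism carries maps to their
transports. -/
theorem isIso_conj_of_isMorphism (e : PIso S S₂) {θ : S →* Ω₂} (hθ : ∀ x ∈ S, al θ x = e.g x)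
    (hmor : F.IsMorphism F' θ) {P Q : Subgroup Ω₁} {f : Ω₁ → Ω₁} (h : IsIso F P Q f) :
    IsIso F' (e.img P) (e.img Q) (e.conj f) := by
  obtain ⟨f', hf', hv⟩ := push_iso hmor h
  rw [e.imageAlong_eq hθ, e.imageAlong_eq hθ] at hf'
  refine hf'.congr fun y hy => ?_
  have hx : e.g' y ∈ P := hy.2
  have hxS : e.g' y ∈ S := e.mem' hy.1
  have h1 := hv _ hx
  rw [hθ _ hxS, e.rinv hy.1, hθ _ (h.le_right (h.map_mem hx))] at h1
  exact h1

end

/-- An automorphism of `S` which, together with its inverse, is a morphism `F → F`, transports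
`F` to itself. -/
theorem isTr_of_isMorphism {Ω : Type u} [Group Ω] {S : Subgroup Ω} {F : FusionSystem S}
    (α : S ≃* S) (hα : F.IsMorphism F (S.subtype.comp α.toMonoidHom))
    (hα' : F.IsMorphism F (S.subtype.comp α.symm.toMonoidHom)) :
    IsTr (PIso.ofMulEquiv α) F F :=
  ⟨le_rfl, (PIso.ofMulEquiv α).img_top.symm,
    fun h => isIso_conj_of_isMorphism (PIso.ofMulEquiv α) (fun _ _ => rfl) hα h,
    fun h => isIso_conj_of_isMorphism (PIso.ofMulEquiv α).symm (fun _ _ => rfl) hα' h⟩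

end Cfsg.Agent.Lib.H25.Tr
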