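import Mathlib
import Cfsg.Prelude.Def_FusionComponents
import Cfsg.Agent.Lib.H25.TrSimple
import Cfsg.Agent.Lib.H25.TrEquiv
import Cfsg.Agent.Lib.H25.MorphismIso
import Cfsg.Agent.S5134

set_option autoImplicit false

/-!
More on the transport relation (helper25): restriction and composition of partial isomorphisms,
the partial isomorphism attached to a map of a fusion system, isomorphic copies given as factor
systems modulo the trivial subgroup, and the action of `Aut_F(U)` on an invariant subsystem over `U`.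
-/

namespace Cfsg.Agent.Lib.H25.Tr

open Cfsg Cfsg.FusionSystem Cfsg.Agent.Lib.H25

universe u v w

variable {Ω₁ : Type u} {Ω₂ : Type v} {Ω₃ : Type w} [Group Ω₁] [Group Ω₂] [Group Ω₃]
  {S₁ : Subgroup Ω₁} {S₂ : Subgroup Ω₂} {S₃ : Subgroup Ω₃}

/-! ### Restriction -/

/-- Restriction of a partial isomorphism to a subgroup and its image. -/
def PIso.restrict (e : PIso S₁ S₂) {P : Subgroup Ω₁} (hP : P ≤ S₁) {P' : Subgroup Ω₂}
    (hP' : P' = e.img P) : PIso P P' where
  g := e.g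
  g' := e.g'
  mem hx := hP'.ge (e.map_mem_img hx (hP hx))
  mem' hy := (hP'.le hy).2
  mul hx hy := e.mul (hP hx) (hP hy)
  mul' hx hy := e.mul' (hP'.le hx).1 (hP'.le hy).1
  linv hx := e.linv (hP hx)
  rinv hy := e.rinv (hP'.le hy).1

theorem PIso.restrict_img (e : PIso S₁ S₂) {P : Subgroup Ω₁} (hP : P ≤ S₁) {P' : Subgroup Ω₂}
    (hP' : P' = e.img P) {A : Subgroup Ω₁} (hA : A ≤ P) : (e.restrict hP hP').img A = e.img A := by
  ext y
  constructor
  · rintro ⟨hy, hy'⟩
    exact ⟨(hP'.le hy).1, hy'⟩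
  · rintro ⟨hy, hy'⟩
    exact ⟨hP'.ge ⟨hy, hA hy'⟩, hy'⟩

theorem PIso.restrict_symm_img (e : PIso S₁ S₂) {P : Subgroup Ω₁} (hP : P ≤ S₁)
    {P' : Subgroup Ω₂} (hP' : P' = e.img P) {A' : Subgroup Ω₂} (hA' : A' ≤ P') :
    (e.restrict hP hP').symm.img A' = e.symm.img A' := by
  ext x
  constructor
  · rintro ⟨hx, hx'⟩
    exact ⟨hP hx, hx'⟩
  · rintro ⟨hx, hx'⟩
    have hx'' : e.g x ∈ A' := hx'
    have h1 := (hP'.le (hA' hx'')).2
    rw [e.linv hx] at h1
    exact ⟨h1, hx'⟩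

theorem IsTr.restrict {e : PIso S₁ S₂} {T : Subgroup Ω₁} {T' : Subgroup Ω₂} {E : FusionSystem T}
    {E' : FusionSystem T'} (h : IsTr e E E') {P : Subgroup Ω₁} (hTP : T ≤ P) (hP : P ≤ S₁)
    {P' : Subgroup Ω₂} (hP' : P' = e.img P) : IsTr (e.restrict hP hP') E E' := by
  have hT'P' : T' ≤ P' := by rw [h.eq, hP']; exact e.img_mono hTP
  refine ⟨hTP, ?_, ?_, ?_⟩
  · rw [e.restrict_img hP hP' hTP]; exact h.eq
  · intro A B f hf
    rw [e.restrict_img hP hP' (hf.le_left.trans hTP), e.restrict_img hP hP' (hf.le_right.trans hTP)]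
    exact h.fwd hf
  · intro A' B' f' hf'
    rw [e.restrict_symm_img hP hP' (hf'.le_left.trans hT'P'),
      e.restrict_symm_img hP hP' (hf'.le_right.trans hT'P')]
    exact h.bwd hf'

/-! ### Composition -/

/-- Composition of partial isomorphisms. -/
def PIso.trans (e₁ : PIso S₁ S₂) (e₂ : PIso S₂ S₃) : PIso S₁ S₃ where
  g := fun x => e₂.g (e₁.g x)
  g' := fun z => e₁.g' (e₂.g' z)
  mem hx := e₂.mem (e₁.mem hx)
  mem' hz := e₁.mem' (e₂.mem' hz)
  mul hx hy := by rw [e₁.mul hx hy, e₂.mul (e₁.mem hx) (e₁.mem hy)]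
  mul' hx hy := by rw [e₂.mul' hx hy, e₁.mul' (e₂.mem' hx) (e₂.mem' hy)]
  linv hx := by rw [e₂.linv (e₁.mem hx), e₁.linv hx]
  rinv hz := by rw [e₁.rinv (e₂.mem' hz), e₂.rinv hz]

theorem PIso.trans_img (e₁ : PIso S₁ S₂) (e₂ : PIso S₂ S₃) (A : Subgroup Ω₁) :
    (e₁.trans e₂).img A = e₂.img (e₁.img A) := by
  ext z
  constructor
  · rintro ⟨hz, hz'⟩
    exact ⟨hz, e₂.mem' hz, hz'⟩
  · rintro ⟨hz, -, hz'⟩
    exact ⟨hz, hz'⟩

theorem PIso.trans_symm_img (e₁ : PIso S₁ S₂) (e₂ : PIso S₂ S₃) (A : Subgroup Ω₃) :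
    (e₁.trans e₂).symm.img A = e₁.symm.img (e₂.symm.img A) :=
  PIso.trans_img e₂.symm e₁.symm A

theorem IsTr.trans {e₁ : PIso S₁ S₂} {e₂ : PIso S₂ S₃} {T₁ : Subgroup Ω₁} {T₂ : Subgroup Ω₂}
    {T₃ : Subgroup Ω₃} {E₁ : FusionSystem T₁} {E₂ : FusionSystem T₂} {E₃ : FusionSystem T₃}
    (h₁ : IsTr e₁ E₁ E₂) (h₂ : IsTr e₂ E₂ E₃) : IsTr (e₁.trans e₂) E₁ E₃ := by
  refine ⟨h₁.le, ?_, ?_, ?_⟩
  · rw [PIso.trans_img, ← h₁.eq]; exact h₂.eq
  · intro A B f hf
    rw [PIso.trans_img, PIso.trans_img]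
    exact h₂.fwd (h₁.fwd hf)
  · intro A B f hf
    rw [PIso.trans_symm_img, PIso.trans_symm_img]
    exact h₁.bwd (h₂.bwd hf)

/-! ### Dependence on the values on `S₁` only -/

theorem IsTr.congr {e : PIso S₁ S₂} {T : Subgroup Ω₁} {T' : Subgroup Ω₂} {E : FusionSystem T}
    {E' : FusionSystem T'} (h : IsTr e E E') (e₂ : PIso S₁ S₂)
    (hg : ∀ x ∈ S₁, e₂.g x = e.g x) : IsTr e₂ E E' := by
  have hg' : ∀ y ∈ S₂, e₂.g' y = e.g' y := by
    intro y hy
    have h1 := hg _ (e.mem' hy)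
    rw [e.rinv hy] at h1
    have h2 := e₂.linv (e.mem' hy)
    rw [h1] at h2
    exact h2
  have himg : ∀ A : Subgroup Ω₁, e₂.img A = e.img A := by
    intro A
    ext y
    constructor
    · rintro ⟨hy, hy'⟩
      exact ⟨hy, by rw [← hg' y hy]; exact hy'⟩
    · rintro ⟨hy, hy'⟩
      exact ⟨hy, by rw [hg' y hy]; exact hy'⟩
  have himg' : ∀ A' : Subgroup Ω₂, e₂.symm.img A' = e.symm.img A' := by
    intro A'
    ext x
    constructor
    · rintro ⟨hx, hx'⟩
      have hx'' : e₂.g x ∈ A' := hx'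
      exact ⟨hx, by show e.g x ∈ A'; rw [← hg x hx]; exact hx''⟩
    · rintro ⟨hx, hx'⟩
      have hx'' : e.g x ∈ A' := hx'
      exact ⟨hx, by show e₂.g x ∈ A'; rw [hg x hx]; exact hx''⟩
  refine ⟨h.le, by rw [himg]; exact h.eq, ?_, ?_⟩
  · intro A B f hf
    rw [himg, himg]
    refine (h.fwd hf).congr fun y hy => ?_
    have hfy : f (e.g' y) ∈ S₁ := h.le (hf.le_right (hf.map_mem hy.2))
    show e.g (f (e.g' y)) = e₂.g (f (e₂.g' y))
    rw [hg' y hy.1, hg _ hfy]
  · intro A' B' f' hf'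
    rw [himg', himg']
    refine (h.bwd hf').congr fun x hx => ?_
    have hfx : f' (e.g x) ∈ S₂ := h.le' (hf'.le_right (hf'.map_mem hx.2))
    show e.g' (f' (e.g x)) = e₂.g' (f' (e₂.g x))
    rw [hg x hx.1, hg' _ hfx]

/-! ### Partial isomorphisms from maps of a system -/

section Single

variable {Ω : Type u} [Group Ω] {S : Subgroup Ω}

/-- The partial isomorphism `P → Q` attached to a function-level isomorphism of a system. -/
noncomputable def PIso.ofIsIso {F : FusionSystem S} {P Q : Subgroup Ω} {f : Ω → Ω}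
    (h : IsIso F P Q f) : PIso P Q where
  g := f
  g' := Classical.choose h.symm
  mem hx := h.map_mem hx
  mem' hy := (Classical.choose_spec h.symm).1.map_mem hy
  mul hx hy := h.map_mul hx hy
  mul' hx hy := (Classical.choose_spec h.symm).1.map_mul hx hy
  linv hx := (Classical.choose_spec h.symm).2.1 _ hx
  rinv hy := (Classical.choose_spec h.symm).2.2 _ hy

theorem PIso.ofIsIso_g {F : FusionSystem S} {P Q : Subgroup Ω} {f : Ω → Ω}
    (h : IsIso F P Q f) : (PIso.ofIsIso h).g = f := rfl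

theorem PIso.ofIsIso_isIso' {F : FusionSystem S} {P Q : Subgroup Ω} {f : Ω → Ω}
    (h : IsIso F P Q f) : IsIso F Q P (PIso.ofIsIso h).g' :=
  (Classical.choose_spec h.symm).1

/-- If `e.g` is an isomorphism of the system `P → Q`, so is `e.g'` in the other direction. -/
theorem PIso.isIso_g' {F : FusionSystem S} {P Q : Subgroup Ω} (e : PIso P Q)
    (h : IsIso F P Q e.g) : IsIso F Q P e.g' := by
  obtain ⟨k, hk, hkg, -⟩ := h.symm
  refine hk.congr fun y hy => ?_
  have h1 := hkg _ (e.mem' hy)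
  rw [e.rinv hy] at h1
  exact h1

/-- An automorphism of `S` in `F` transports `F` to itself. -/
theorem isTr_self_of_aut {F : FusionSystem S} (e : PIso S S) (hg : IsIso F S S e.g) :
    IsTr e F F := by
  have hg' : IsIso F S S e.g' := e.isIso_g' hg
  have key : ∀ (e : PIso S S), IsIso F S S e.g → IsIso F S S e.g' →
      ∀ {P Q : Subgroup Ω} {f : Ω → Ω}, IsIso F P Q f →
        IsIso F (e.img P) (e.img Q) (e.conj f) := by
    intro e hg hg' P Q f hf
    have hPS := hf.le_left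
    have hQS := hf.le_right
    have h1 : IsIso F (e.img P) P e.g' :=
      hg'.restrict' (e.img_le P) (fun y hy => hy.2)
        (fun x hx => ⟨e.g x, e.map_mem_img hx (hPS hx), e.linv (hPS hx)⟩)
    have h3 : IsIso F Q (e.img Q) e.g :=
      hg.restrict' hQS (fun x hx => e.map_mem_img hx (hQS hx))
        (fun y hy => ⟨e.g' y, hy.2, e.rinv hy.1⟩)
    exact (h1.trans hf).trans h3
  exact ⟨le_rfl, e.img_top.symm, fun h => key e hg hg' h, fun h => key e.symm hg' hg h⟩

variable {U : Subgroup Ω} {D : FusionSystem U} {F : FusionSystem S}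

/-- An automorphism of `U` in `F` transports a subsystem over `U` satisfying the invariance
condition to itself. -/
theorem isTr_of_aut (hinv : InvCond D F) (e : PIso U U) (hg : IsIso F U U e.g) : IsTr e D D := by
  have hg' : IsIso F U U e.g' := e.isIso_g' hg
  have key : ∀ (e : PIso U U), IsIso F U U e.g →
      ∀ {P Q : Subgroup Ω} {f : Ω → Ω}, IsIso D P Q f →
        IsIso D (e.img P) (e.img Q) (e.conj f) := by
    intro e hg P Q f hf
    have hPU := hf.le_left
    have hQU := hf.le_right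
    have hPa : IsIso F P (e.img P) e.g :=
      hg.restrict' hPU (fun x hx => e.map_mem_img hx (hPU hx))
        (fun y hy => ⟨e.g' y, hy.2, e.rinv hy.1⟩)
    obtain ⟨c, R, hc, hcv⟩ := hinv hf hg hPa
    have hc' : IsIso D (e.img P) R (e.conj f) := by
      refine hc.congr fun y hy => ?_
      have := hcv _ hy.2
      rw [e.rinv hy.1] at this
      exact this
    refine isIso_of_maps hc' (fun y hy => ?_) (fun z hz => ?_)
    · have h1 : f (e.g' y) ∈ Q := hf.map_mem hy.2
      exact e.map_mem_img h1 (hQU h1)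
    · obtain ⟨x, hx, hxz⟩ := hf.surjOn hz.2
      refine ⟨e.g x, e.map_mem_img hx (hPU hx), ?_⟩
      show e.g (f (e.g' (e.g x))) = z
      rw [e.linv (hPU hx), hxz, e.rinv hz.1]
  exact ⟨le_rfl, e.img_top.symm, fun h => key e hg h, fun h => key e.symm hg' h⟩

theorem IsSubnormalIn.le {p : ℕ} {T : Subgroup Ω} {C : FusionSystem T}
    (h : C.IsSubnormalIn F p) : T ≤ S := by
  induction h with
  | refl F p => exact le_rfl
  | @step U S C D F p _ hDF ih => exact ih.trans hDF.1.2.2.2.1.1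

end Single

/-! ### Isomorphic copies as factor systems modulo the trivial subgroup -/

section Copy

variable {Ω : Type u} [Group Ω] {T : Subgroup Ω} {Ω' : Type v} [Group Ω']

theorem bot_stronglyClosed (C : FusionSystem T) : C.StronglyClosed ⊥ := by
  refine ⟨bot_le, fun R hR φ hφ x => ?_⟩
  have hx : (x : Ω) = 1 := Subgroup.mem_bot.1 (hR x.2)
  have : x = 1 := Subtype.ext hx
  rw [this, map_one]
  exact Subgroup.one_mem _

/-- A factor system modulo the trivial subgroup, read through an injective homomorphism `γ`, is the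
transport of the system along the isomorphism onto the image of `γ`. -/
theorem isTr_of_isFactorSystem_bot [Finite T] {p : ℕ} [Fact p.Prime] (hpT : IsPGroup p T)
    {C : FusionSystem T} (hC : C.IsSaturated p) (γ : T →* Ω') (hinj : Function.Injective γ)
    {E : FusionSystem γ.range} (hfac : C.IsFactorSystem ⊥ γ E) :
    IsTr (PIso.ofMulEquiv (MonoidHom.ofInjective hinj)) C E := by
  obtain ⟨e, he⟩ : ∃ e : PIso T γ.range, e = PIso.ofMulEquiv (MonoidHom.ofInjective hinj) :=
    ⟨_, rfl⟩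
  rw [← he]
  have hθ : ∀ x ∈ T, al γ x = e.g x := by
    intro x hx
    rw [he, PIso.ofMulEquiv_g, al_apply γ hx, al_apply _ hx]
    rfl
  have hsm := Cfsg.Agent.S5134.result p hpT C hC ⊥ (bot_stronglyClosed C) γ E hfac
  have hK : C.StronglyClosed (kerSub γ) := by
    rw [kerSub_eq_bot_of_injective hinj]
    exact bot_stronglyClosed C
  refine ⟨le_rfl, e.img_top.symm, fun h => isIso_conj_of_isMorphism e hθ hsm.1 h, ?_⟩
  intro P' Q' f' hf'
  obtain ⟨f, hf, hv⟩ := lift_iso hsm hK hf'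
  have hpre : ∀ A' : Subgroup Ω', preimageAlong γ A' = e.symm.img A' := by
    intro A'
    ext x
    rw [mem_pre_iff]
    constructor
    · rintro ⟨hx, hx'⟩
      exact ⟨hx, by show e.g x ∈ A'; rw [← hθ x hx]; exact hx'⟩
    · rintro ⟨hx, hx'⟩
      have hx'' : e.g x ∈ A' := hx'
      exact ⟨hx, by rw [hθ x hx]; exact hx''⟩
  rw [hpre, hpre] at hf
  refine hf.congr fun x hx => ?_
  have hx' : x ∈ preimageAlong γ P' := by rw [hpre]; exact hx
  have h1 := hv x hx'
  have hfx : f x ∈ T := hf.le_right (hf.map_mem hx)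
  show f x = e.g' (f' (e.g x))
  rw [← hθ x hx.1, h1, hθ _ hfx, e.linv hfx]

end Copy

end Cfsg.Agent.Lib.H25.Tr
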