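import Mathlib
import Cfsg.Prelude.Def_FusionComponents
import Cfsg.Agent.Lib.H25.TrMore
import Cfsg.Agent.Lib.H25.TrFactor
import Cfsg.Agent.Lib.H25.Alperin

set_option autoImplicit false

/-!
Conjugates of subnormal subsystems and of components under maps of the ambient system are again
subnormal subsystems, respectively components (helper25).
-/

namespace Cfsg.Agent.Lib.H25.Tr

open Cfsg Cfsg.FusionSystem Cfsg.Agent.Lib.H25

universe u

variable {Ω : Type u} [Group Ω]

/-- The transport of a subnormal subsystem `C` of `F` along a map of `F` defined on the underlying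
group of `C` is subnormal in `F`. -/
theorem conj_isSubnormalIn {p : ℕ} {T S : Subgroup Ω} {C : FusionSystem T} {F : FusionSystem S}
    (h : C.IsSubnormalIn F p) :
    Fact p.Prime → Finite S → IsPGroup p S → ∀ {T₂ : Subgroup Ω} (e : PIso T T₂)
      (E : FusionSystem T₂), IsIso F T T₂ e.g → IsTr e C E → E.IsSubnormalIn F p := by
  induction h with
  | refl F p =>
    intro _ hfin _ T₂ e E hg hE
    have hT₂ : T₂ = _ :=
      Subgroup.eq_of_le_of_card_ge hg.le_right (le_of_eq (Cfsg.Agent.Lib.H25.IsIso.card_eq hg))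
    subst hT₂
    have : E = F := hE.unique (isTr_self_of_aut e hg)
    subst this
    exact IsSubnormalIn.refl _ _
  | @step U S C D F p hCD hDF ih =>
    intro hpp hfin hp T₂ e E hg hE
    have hTU : T ≤ U := IsSubnormalIn.le hCD
    have hUS : U ≤ S := hDF.1.2.2.2.1.1
    have hfinU : Finite U := finite_of_le S hUS
    have hpU : IsPGroup p U := hp.to_le hUS
    have hinvD := (isInvariantIn_iff D F).1 hDF.1.2.2
    obtain ⟨a, f₀, Q₀, ha, hf₀, hv⟩ := hinvD.2.2.2 hTU hg
    -- first move by the map of `D`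
    obtain ⟨e₀, he₀⟩ : ∃ e₀ : PIso T Q₀, e₀ = PIso.ofIsIso hf₀ := ⟨_, rfl⟩
    have he₀g : e₀.g = f₀ := by rw [he₀]; rfl
    have hC₁ : IsTr e₀ C (push e₀ C Q₀ le_rfl e₀.img_top.symm) := push_isTr le_rfl e₀.img_top.symm
    have hf₀' : IsIso D T Q₀ e₀.g := by rw [he₀g]; exact hf₀
    have hsn₁ := ih hpp hfinU hpU e₀ _ hf₀' hC₁
    -- then by the automorphism of `U`
    obtain ⟨ea, hea⟩ : ∃ ea : PIso U U, ea = PIso.ofIsIso ha := ⟨_, rfl⟩
    have heag : ea.g = a := by rw [hea]; rfl
    have ha' : IsIso F U U ea.g := by rw [heag]; exact ha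
    have hDD : IsTr ea D D := isTr_of_aut hinvD.2.2.1 ea ha'
    have hQ₀U : Q₀ ≤ U := hf₀.le_right
    have hT₂ : T₂ = ea.img Q₀ := by
      ext y
      constructor
      · intro hy
        obtain ⟨x, hx, rfl⟩ := hg.surjOn hy
        rw [hv x hx, ← heag]
        exact ea.map_mem_img (hf₀.map_mem hx) (hQ₀U (hf₀.map_mem hx))
      · intro hy
        obtain ⟨x, hx, hxy⟩ := hf₀.surjOn hy.2
        have h1 := hg.map_mem hx
        rw [hv x hx, hxy, ← heag, ea.rinv hy.1] at h1
        exact h1
    have hC₂ : IsTr ea (push e₀ C Q₀ le_rfl e₀.img_top.symm)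
        (push ea (push e₀ C Q₀ le_rfl e₀.img_top.symm) T₂ hQ₀U hT₂) := push_isTr hQ₀U hT₂
    have hsn₂ := IsTr.isSubnormalIn hsn₁ hpp hpU hC₂ hDD
    have hsn₃ := IsSubnormalIn.step hsn₂ hDF
    -- identification
    have hC₂r := hC₂.restrict le_rfl hQ₀U hT₂
    have htr := hC₁.trans hC₂r
    have hcongr : IsTr e C (push ea (push e₀ C Q₀ le_rfl e₀.img_top.symm) T₂ hQ₀U hT₂) := by
      refine htr.congr e fun x hx => ?_
      show e.g x = ea.g (e₀.g x)
      rw [heag, he₀g]
      exact hv x hx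
    have : E = _ := hE.unique hcongr
    rw [this]
    exact hsn₃

/-- The image of a component of `F` under a map of `F` is a component of `F`. -/
theorem conj_isComponentIn {p : ℕ} [hpp : Fact p.Prime] {T S : Subgroup Ω} [hfin : Finite S]
    (hp : IsPGroup p S) {C : FusionSystem T} {F : FusionSystem S} (h : C.IsComponentIn F p)
    {T₂ : Subgroup Ω} (e : PIso T T₂) (E : FusionSystem T₂) (hg : IsIso F T T₂ e.g)
    (hE : IsTr e C E) : E.IsComponentIn F p := by
  have hTS : T ≤ S := hg.le_left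
  have hfinT : Finite T := finite_of_le S hTS
  exact ⟨conj_isSubnormalIn h.1 hpp hfin hp e E hg hE, hE.quasisimple (hp.to_le hTS) h.2⟩

end Cfsg.Agent.Lib.H25.Tr
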