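import Cfsg.Agent.Lib.H16.U62M.Sigs
import Cfsg.Prelude.Def_KGroupFacts

set_option autoImplicit false
set_option maxRecDepth 100000

/-!
# S2091, piece (L): the presented group `⟨a, b, c | PE exact, ZL central⟩` is a finite stem extension of a
group with the `U6(2)` data, with kernel `3 × 2 × 2` (helper25)

Clone of `Lib/H25/G24LB(+Pres).lean` (presented group, two-stage counting) and of the last part of helper6's
`Lib/H6/U43M/Main.lean` (rank 2 kernel, separated by two models).
-/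

namespace Cfsg.Agent.Lib.H25.U62

open FreeGroup
open Cfsg.Agent.Lib.H16.U62M
open Cfsg.Agent.Lib.H12.J3M (gl2 wv2 gl3 wv3 map_wv3 map_wv2 wv3_eq_wv2)

/-- the word in the free group -/
def wF3 (w : List ℕ) : FreeGroup (Fin 3) := wv3 (of 0) (of 1) (of 2) w

/-- the relators: the exact words and the commutators of the central words with the generators -/
def rels3 : Set (FreeGroup (Fin 3)) :=
  {r | (∃ w ∈ PE, r = wF3 w) ∨
    (∃ w ∈ ZL, ∃ i : Fin 3, r = wF3 w * of i * (wF3 w)⁻¹ * (of i)⁻¹)}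

/-- the presented group -/
abbrev P3 : Type := PresentedGroup rels3

/-- the generators of `P3` -/
def qa : P3 := PresentedGroup.of 0
/-- the generators of `P3` -/
def qb : P3 := PresentedGroup.of 1
/-- the generators of `P3` -/
def qc : P3 := PresentedGroup.of 2

theorem mk_wF3 (w : List ℕ) : PresentedGroup.mk rels3 (wF3 w) = wv3 qa qb qc w := by
  unfold wF3
  rw [map_wv3]
  rfl

theorem lift_wF3 {K : Type*} [Group K] (f : Fin 3 → K) (w : List ℕ) :
    FreeGroup.lift f (wF3 w) = wv3 (f 0) (f 1) (f 2) w := by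
  unfold wF3
  rw [map_wv3]
  simp only [FreeGroup.lift_apply_of]

theorem P3_exact : ∀ w ∈ PE, wv3 qa qb qc w = 1 := by
  intro w hw
  rw [← mk_wF3]
  exact (PresentedGroup.one_of_mem (Or.inl ⟨w, hw, rfl⟩))

theorem P3_comm : ∀ w ∈ ZL, ∀ i : Fin 3,
    wv3 qa qb qc w * (PresentedGroup.of i : P3) = PresentedGroup.of i * wv3 qa qb qc w := by
  intro w hw i
  rw [← mk_wF3]
  have : PresentedGroup.mk rels3 (wF3 w * of i * (wF3 w)⁻¹ * (of i)⁻¹) = 1 :=
    PresentedGroup.one_of_mem (Or.inr ⟨w, hw, i, rfl⟩)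
  rw [_root_.map_mul, _root_.map_mul, _root_.map_mul, _root_.map_inv, _root_.map_inv] at this
  have h2 : PresentedGroup.mk rels3 (wF3 w) * PresentedGroup.mk rels3 (of i) =
      PresentedGroup.mk rels3 (of i) * PresentedGroup.mk rels3 (wF3 w) := by
    rw [mul_inv_eq_one, mul_inv_eq_iff_eq_mul] at this
    exact this
  exact h2

theorem P3_gen : Subgroup.closure {qa, qb, qc} = (⊤ : Subgroup P3) := by
  have h := PresentedGroup.closure_range_of rels3
  rw [eq_top_iff, ← h, Subgroup.closure_le]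
  rintro _ ⟨i, rfl⟩
  apply Subgroup.subset_closure
  fin_cases i
  · left; rfl
  · right; left; rfl
  · right; right; rfl

/-- the central words are central in `P3` -/
theorem P3_central : ∀ w ∈ ZL, wv3 qa qb qc w ∈ Subgroup.center P3 := by
  intro w hw
  have hcen : Subgroup.centralizer {wv3 qa qb qc w} = ⊤ := by
    rw [eq_top_iff, ← P3_gen, Subgroup.closure_le]
    intro g hg
    have key : ∀ i : Fin 3, (PresentedGroup.of i : P3) ∈ Subgroup.centralizer {wv3 qa qb qc w} := by
      intro i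
      rw [Subgroup.mem_centralizer_iff]
      intro h hh
      rw [Set.mem_singleton_iff] at hh
      subst hh
      exact P3_comm w hw i
    simp only [Set.mem_insert_iff, Set.mem_singleton_iff] at hg
    rcases hg with rfl | rfl | rfl
    · exact key 0
    · exact key 1
    · exact key 2
  rw [Subgroup.mem_center_iff]
  intro g
  have hg : g ∈ Subgroup.centralizer {wv3 qa qb qc w} := by rw [hcen]; trivial
  rw [Subgroup.mem_centralizer_iff] at hg
  exact (hg _ rfl).symm

/-- a homomorphism from `P3` -/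
def homP3 {K : Type*} [Group K] (x y z : K) (hex : ∀ w ∈ PE, wv3 x y z w = 1)
    (hcen : ∀ w ∈ ZL, ∀ i : Fin 3, wv3 x y z w * ![x, y, z] i = ![x, y, z] i * wv3 x y z w) :
    P3 →* K :=
  PresentedGroup.toGroup (f := ![x, y, z]) (by
    intro r hr
    rcases hr with ⟨w, hw, rfl⟩ | ⟨w, hw, i, rfl⟩
    · rw [lift_wF3]
      exact hex w hw
    · rw [_root_.map_mul, _root_.map_mul, _root_.map_mul, _root_.map_inv, _root_.map_inv, lift_wF3,
        mul_inv_eq_one, mul_inv_eq_iff_eq_mul, FreeGroup.lift_apply_of]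
      exact hcen w hw i)

section

variable {K : Type*} [Group K] (x y z : K) (hex : ∀ w ∈ PE, wv3 x y z w = 1)
    (hcen : ∀ w ∈ ZL, ∀ i : Fin 3, wv3 x y z w * ![x, y, z] i = ![x, y, z] i * wv3 x y z w)

theorem homP3_qa : homP3 x y z hex hcen qa = x := by
  unfold homP3 qa
  rw [PresentedGroup.toGroup.of]
  rfl

theorem homP3_qb : homP3 x y z hex hcen qb = y := by
  unfold homP3 qb
  rw [PresentedGroup.toGroup.of]
  rfl

theorem homP3_qc : homP3 x y z hex hcen qc = z := by
  unfold homP3 qc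
  rw [PresentedGroup.toGroup.of]
  rfl

theorem homP3_wv (w : List ℕ) : homP3 x y z hex hcen (wv3 qa qb qc w) = wv3 x y z w := by
  rw [map_wv3, homP3_qa, homP3_qb, homP3_qc]

end

/-- the form of the commutation hypothesis used by `homP3`, from the form of the models -/
theorem comm_fin3 {K : Type*} [Group K] (x y z : K)
    (h : ∀ w ∈ ZL, Commute (wv3 x y z w) x ∧ Commute (wv3 x y z w) y ∧ Commute (wv3 x y z w) z) :
    ∀ w ∈ ZL, ∀ i : Fin 3, wv3 x y z w * ![x, y, z] i = ![x, y, z] i * wv3 x y z w := by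
  intro w hw i
  obtain ⟨h0, h1, h2⟩ := h w hw
  fin_cases i
  · exact h0.eq
  · exact h1.eq
  · exact h2.eq

theorem PE_of_exact2 : ∀ w ∈ C2.exactL, w ∈ PE := fun _ hw => List.mem_append_left _ hw

theorem PE_of_s1 : ∀ w ∈ s1L, subW w ∈ PE := fun _ hw =>
  List.mem_append_right _ (List.mem_append_left _ (List.mem_map_of_mem hw))

theorem PE_of_xL : ∀ w ∈ xL, w ∈ PE := fun _ hw =>
  List.mem_append_right _ (List.mem_append_right _ (List.mem_append_left _ hw))

theorem PE_of_p6 : ∀ w ∈ C2.symL, w ++ (w ++ (w ++ (w ++ (w ++ w)))) ∈ PE := fun w hw =>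
  List.mem_append_right _ (List.mem_append_right _ (List.mem_append_right _
    (List.mem_map.mpr ⟨w, hw, rfl⟩)))

theorem wv3_six {K : Type*} [Group K] (x y z : K) (w : List ℕ) :
    wv3 x y z (w ++ (w ++ (w ++ (w ++ (w ++ w))))) = (wv3 x y z w) ^ 6 := by
  rw [wv3_append, wv3_append, wv3_append, wv3_append, wv3_append]
  simp only [pow_succ, pow_zero, one_mul, mul_assoc]


open Subgroup
open scoped commutatorElement
open Cfsg.Agent.Lib.H24.U62Hom (T322 exists_hom_T322 sep_T322)

/-- the exact relators make the three generators products of commutators -/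
theorem mem_commutator_of_PE {K : Type*} [Group K] (x y z : K) (hex : ∀ w ∈ PE, wv3 x y z w = 1) :
    x ∈ commutator K ∧ y ∈ commutator K ∧ z ∈ commutator K := by
  have hc : ∀ p q : K, ⁅p, q⁆ ∈ commutator K := fun p q =>
    Subgroup.commutator_mem_commutator (Subgroup.mem_top p) (Subgroup.mem_top q)
  have hs1 : ∀ w ∈ s1L, wv3 x (wv3 x y z tW) y w = 1 := by
    intro w hw
    rw [← wv3_subW]
    exact hex _ (PE_of_s1 w hw)
  have hx11 : x ^ 11 = 1 := by
    have h := hs1 (List.replicate 11 0) (by decide)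
    rwa [wv3_replicate0] at h
  have hy11 : y ^ 11 = 1 := by
    have h := hs1 (List.replicate 11 4) (by decide)
    rwa [wv3_replicate4] at h
  have hconj := (conjW_iff x (wv3 x y z tW) y).mp (hs1 [2, 0, 3, 1, 1, 1] (by decide))
  have hxb := (xbW_iff x y z).1 (hex xbW (PE_of_xL _ (by simp [xL])))
  have hxc := (xcW_iff x y z).1 (hex xcW (PE_of_xL _ (by simp [xL])))
  have hx : x ∈ commutator K := by
    have e : ⁅wv3 x y z tW, x⁆ = x ^ 2 := by
      rw [commutatorElement_def, hconj]; group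
    have h2 : x ^ 2 ∈ commutator K := by rw [← e]; exact hc _ _
    have e2 : x = (x ^ 2) ^ 6 * (x ^ 11)⁻¹ := by group
    rw [e2, hx11, inv_one, mul_one]
    exact pow_mem h2 6
  have hn : (commutator K).Normal := inferInstance
  have hy : y ∈ commutator K := by
    have h := hn.conj_mem x hx (wv3 x y z hW)⁻¹
    rw [inv_inv, hxb] at h
    have e2 : y = (y ^ 4) ^ 3 * (y ^ 11)⁻¹ := by group
    rw [e2, hy11, inv_one, mul_one]
    exact pow_mem h 3
  refine ⟨hx, hy, ?_⟩
  have h := hn.conj_mem x hx (wv3 x y z uW)⁻¹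
  rw [inv_inv, hxc] at h
  exact h

/-- **(L)**: the presented group `⟨a, b, c | PE exact, ZL central⟩` is a finite stem extension of `G` with
kernel `3 × 2 × 2`, given the bound of the second certificate of stage 1 and the two models. -/
theorem exists_cover {G : Type} [Group G] {am bm cm : G} (B : Base am bm cm)
    (hP2 : P2Bound) (h1 : Model1) (h2 : Model2) : CoverExists G := by
  obtain ⟨M1, _, x1, y1, z1, hE1, hZ1, hX1, hW1⟩ := h1
  obtain ⟨M2, _, x2, y2, z2, hE2, hZ2, hX2, hW2'⟩ := h2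
  -- the relators hold in `G`
  have hexG : ∀ w ∈ PE, wv3 am bm cm w = 1 := by
    intro w hw
    rcases List.mem_append.mp hw with h | h
    · exact B.rel2 w (List.mem_append_left _ h)
    rcases List.mem_append.mp h with h | h
    · obtain ⟨v, hv, rfl⟩ := List.mem_map.mp h
      rw [wv3_subW]
      exact B.rel1 v hv
    rcases List.mem_append.mp h with h | h
    · exact B.relx w h
    · obtain ⟨v, hv, rfl⟩ := List.mem_map.mp h
      rw [wv3_six, B.rel2 v (List.mem_append_right _ (List.mem_append_left _ hv)), one_pow]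
  have hcenG : ∀ w ∈ ZL, ∀ i : Fin 3,
      wv3 am bm cm w * ![am, bm, cm] i = ![am, bm, cm] i * wv3 am bm cm w := by
    intro w hw i
    rw [B.rel2 w (List.mem_append_right _ hw), one_mul, mul_one]
  let σ : P3 →* G := homP3 am bm cm hexG hcenG
  let μ1 : P3 →* M1 := homP3 x1 y1 z1 hE1 (comm_fin3 x1 y1 z1 hZ1)
  let μ2 : P3 →* M2 := homP3 x2 y2 z2 hE2 (comm_fin3 x2 y2 z2 hZ2)
  have hσa : σ qa = am := homP3_qa _ _ _ _ _
  have hσb : σ qb = bm := homP3_qb _ _ _ _ _
  have hσc : σ qc = cm := homP3_qc _ _ _ _ _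
  have hσw : ∀ w, σ (wv3 qa qb qc w) = wv3 am bm cm w := homP3_wv _ _ _ _ _
  have hμ1w : ∀ w, μ1 (wv3 qa qb qc w) = wv3 x1 y1 z1 w := homP3_wv _ _ _ _ _
  have hμ2w : ∀ w, μ2 (wv3 qa qb qc w) = wv3 x2 y2 z2 w := homP3_wv _ _ _ _ _
  have hs : Function.Surjective σ := by
    rw [← MonoidHom.range_eq_top, eq_top_iff, ← B.gen, closure_le]
    intro g hg
    simp only [Set.mem_insert_iff, Set.mem_singleton_iff] at hg
    rcases hg with h | h | h
    · exact ⟨qa, hσa.trans h.symm⟩
    · exact ⟨qb, hσb.trans h.symm⟩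
    · exact ⟨qc, hσc.trans h.symm⟩
  -- stage 1 inside `K0 = ⟨qa, qt, qb⟩`
  have hs1P : ∀ w ∈ s1L, wv3 qa (wv3 qa qb qc tW) qb w = 1 := by
    intro w hw
    rw [← wv3_subW]
    exact P3_exact _ (PE_of_s1 w hw)
  obtain ⟨qt, hqt⟩ : ∃ qt : P3, qt = wv3 qa qb qc tW := ⟨_, rfl⟩
  rw [← hqt] at hs1P
  have hσt : σ qt = wv3 am bm cm tW := by rw [hqt]; exact hσw tW
  obtain ⟨K0, hK0⟩ : ∃ K0 : Subgroup P3, K0 = closure {qa, qt, qb} := ⟨_, rfl⟩
  have haK : qa ∈ K0 := by rw [hK0]; exact subset_closure (by simp)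
  have htK : qt ∈ K0 := by rw [hK0]; exact subset_closure (by simp)
  have hbK : qb ∈ K0 := by rw [hK0]; exact subset_closure (by simp)
  let ga1 : ↥K0 := ⟨qa, haK⟩
  let gt1 : ↥K0 := ⟨qt, htK⟩
  let gb1 : ↥K0 := ⟨qb, hbK⟩
  have hcoe : ∀ w, ((wv3 ga1 gt1 gb1 w : ↥K0) : P3) = wv3 qa qt qb w := fun w =>
    map_wv3 K0.subtype ga1 gt1 gb1 w
  have hval1 : ∀ w ∈ s1L, wv3 ga1 gt1 gb1 w = 1 := by
    intro w hw
    apply Subtype.ext
    rw [hcoe]
    exact hs1P w hw
  have S1 : SettingP2 ga1 gt1 gb1 :=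
    { exact := fun w hw => hval1 w (p2_sub w hw)
      gen := by
        subst hK0
        have h := Subgroup.closure_closure_coe_preimage (k := ({qa, qt, qb} : Set P3))
        convert h using 2
        ext g
        simp only [Set.mem_insert_iff, Set.mem_singleton_iff, Set.mem_preimage]
        constructor
        · rintro (rfl | rfl | rfl)
          · left; rfl
          · right; left; rfl
          · right; right; rfl
        · rintro (h | h | h)
          · left; exact Subtype.ext h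
          · right; left; exact Subtype.ext h
          · right; right; exact Subtype.ext h }
  obtain ⟨hfinQ1, hq1⟩ := hP2 ↥K0 ga1 gt1 gb1 S1
  have hga11 : ga1 ^ 11 = 1 := by
    have h := hval1 (List.replicate 11 0) (by decide)
    rwa [wv3_replicate0] at h
  have hgt5 : gt1 ^ 5 = 1 := by
    have h := hval1 (List.replicate 5 2) (by decide)
    rwa [wv3_replicate2] at h
  have hconj1 : gt1 * ga1 * gt1⁻¹ = ga1 ^ 3 :=
    (conjW_iff ga1 gt1 gb1).mp (hval1 [2, 0, 3, 1, 1, 1] (by decide))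
  obtain ⟨hfinH1, hH1⟩ := card_closure_le_55 hga11 hgt5 hconj1
  have hfinK0 : Finite ↥K0 :=
    Finite.of_equiv _
      (Subgroup.groupEquivQuotientProdSubgroup (s := closure ({ga1, gt1} : Set ↥K0))).symm
  have hcardK0 : Nat.card ↥K0 ≤ 13685760 := by
    have h1 := Subgroup.card_eq_card_quotient_mul_card_subgroup (closure ({ga1, gt1} : Set ↥K0))
    calc Nat.card ↥K0 = _ := h1
      _ ≤ 248832 * 55 := Nat.mul_le_mul hq1 hH1
      _ = 13685760 := by norm_num
  -- `σ` is injective on `K0`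
  have hinj0 : ∀ g ∈ K0, σ g = 1 → g = 1 := by
    subst hK0
    exact B.inj_of_card_le σ qa qt qb hσa hσt hσb hcardK0
  have hle : closure ({qa, qb} : Set P3) ≤ K0 := by
    rw [hK0]
    apply Subgroup.closure_mono
    intro g hg
    simp only [Set.mem_insert_iff, Set.mem_singleton_iff] at hg ⊢
    rcases hg with rfl | rfl
    · left; rfl
    · right; right; rfl
  -- stage 2
  have h6 : ∀ w ∈ C2.symL, (wv3 qa qb qc w) ^ 6 = 1 := by
    intro w hw
    rw [← wv3_six]
    exact P3_exact _ (PE_of_p6 w hw)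
  have S2 : SettingC2 qa qb qc (σ.ker ⊓ center P3) :=
    { central := inf_le_right
      disj := fun g hg hgA => hinj0 g (hle hg) (MonoidHom.mem_ker.mp hgA.1)
      exact := fun w hw => P3_exact w (PE_of_exact2 w hw)
      rel := by
        intro w hw
        refine ⟨MonoidHom.mem_ker.mpr ?_, P3_central w hw⟩
        rw [hσw]
        exact B.rel2 w (List.mem_append_right _ hw)
      gen := P3_gen
      tors := by
        intro w hw
        rw [show 23887872 = 6 * 3981312 from rfl, pow_mul, h6 w hw, one_pow] }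
  obtain ⟨X, hX_def⟩ : ∃ X : P3, X = (wv3 qa qb qc x0W)⁻¹ * (wv3 qa qb qc x8W)⁻¹ := ⟨_, rfl⟩
  obtain ⟨W, hW_def⟩ : ∃ W : P3, W = (wv3 qa qb qc w10W)⁻¹ := ⟨_, rfl⟩
  obtain ⟨Z, hZ_def⟩ : ∃ Z : Subgroup P3, Z = closure {X, W} := ⟨_, rfl⟩
  obtain ⟨K1, hK1⟩ : ∃ K1 : Subgroup P3, K1 = closure {qa, qb} := ⟨_, rfl⟩
  have hmain : X ∈ σ.ker ⊓ center P3 ∧ W ∈ σ.ker ⊓ center P3 ∧ X ^ 6 = 1 ∧ W ^ 2 = 1 ∧
      ∃ f : Fin 672 × ↥Z → P3 ⧸ K1, Function.Surjective f := by
    rw [hZ_def, hK1, hX_def, hW_def]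
    exact mono_mainC2 S2
  obtain ⟨hXA, hWA, hX6, hW2, f, hf⟩ := hmain
  rw [← hK1] at hle
  have hcomm : Commute X W := ((mem_center_iff.1 hXA.2) W).symm
  obtain ⟨φZ, hφZs, -⟩ := exists_hom_T322 X W hcomm hX6 hW2 Z hZ_def
  have hfinZ : Finite ↥Z := Finite.of_surjective φZ hφZs
  have hZle : Z ≤ σ.ker := by
    rw [hZ_def, closure_le]
    intro g hg
    simp only [Set.mem_insert_iff, Set.mem_singleton_iff] at hg
    rcases hg with rfl | rfl
    · exact hXA.1
    · exact hWA.1
  -- counting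
  have hfinQ2 : Finite (P3 ⧸ K1) := Finite.of_surjective f hf
  have hq2 : Nat.card (P3 ⧸ K1) ≤ 672 * Nat.card ↥Z := by
    have := Nat.card_le_card_of_surjective f hf
    rwa [Nat.card_prod, Nat.card_fin] at this
  have hfinK1 : Finite ↥K1 :=
    Finite.of_injective (Subgroup.inclusion hle) (Subgroup.inclusion_injective hle)
  have hcardK1 : Nat.card ↥K1 ≤ 13685760 := le_trans (Subgroup.card_le_of_le hle) hcardK0
  have hfinP : Finite P3 :=
    Finite.of_equiv _ (Subgroup.groupEquivQuotientProdSubgroup (s := K1)).symm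
  have e1 : Nat.card P3 = Nat.card (P3 ⧸ K1) * Nat.card ↥K1 :=
    Subgroup.card_eq_card_quotient_mul_card_subgroup _
  have e2 : Nat.card P3 = Nat.card σ.ker * Nat.card G := by
    rw [← Subgroup.card_mul_index σ.ker, Subgroup.index_ker, MonoidHom.range_eq_top.2 hs,
      Subgroup.card_top]
  have e3 : Nat.card σ.ker * 9196830720 ≤ Nat.card ↥Z * 9196830720 := by
    calc Nat.card σ.ker * 9196830720 = Nat.card P3 := by rw [e2, B.card]
      _ = _ := e1
      _ ≤ (672 * Nat.card ↥Z) * 13685760 := Nat.mul_le_mul hq2 hcardK1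
      _ = Nat.card ↥Z * 9196830720 := by ring
  have e4 : Nat.card σ.ker ≤ Nat.card ↥Z := Nat.le_of_mul_le_mul_right e3 (by norm_num)
  have hker : σ.ker = Z := (Subgroup.eq_of_le_of_card_ge hZle e4).symm
  have hkc : σ.ker ≤ center P3 := by
    rw [hker, hZ_def, closure_le]
    intro g hg
    simp only [Set.mem_insert_iff, Set.mem_singleton_iff] at hg
    rcases hg with rfl | rfl
    · exact hXA.2
    · exact hWA.2
  have hperf : commutator P3 = ⊤ := by
    obtain ⟨c1, c2, c3⟩ := mem_commutator_of_PE qa qb qc P3_exact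
    rw [eq_top_iff, ← P3_gen, closure_le]
    intro g hg
    simp only [Set.mem_insert_iff, Set.mem_singleton_iff] at hg
    rcases hg with rfl | rfl | rfl
    · exact c1
    · exact c2
    · exact c3
  refine ⟨P3, inferInstance, hfinP, σ, ⟨hs, hkc, by rw [hperf]; exact le_top⟩, ?_⟩
  obtain ⟨φ, hφs, hform⟩ := exists_hom_T322 X W hcomm hX6 hW2 σ.ker (by rw [hker, hZ_def])
  -- the two models separate the kernel
  have hμ1X : μ1 X = (wv3 x1 y1 z1 x0W)⁻¹ * (wv3 x1 y1 z1 x8W)⁻¹ := by
    rw [hX_def, _root_.map_mul, _root_.map_inv, _root_.map_inv, hμ1w, hμ1w]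
  have hμ1W : μ1 W = 1 := by rw [hW_def, _root_.map_inv, hμ1w, hW1, inv_one]
  have hμ2X : μ2 X = 1 := by
    rw [hX_def, _root_.map_mul, _root_.map_inv, _root_.map_inv, hμ2w, hμ2w]; exact hX2
  have hμ2W : μ2 W ≠ 1 := by
    rw [hW_def, _root_.map_inv, hμ2w]
    intro h
    exact hW2' (inv_eq_one.mp h)
  have key : ∀ n m : ℕ, m < 2 → X ^ n * W ^ m = 1 →
      ((n : ℕ) : ZMod 6) = 0 ∧ ((m : ℕ) : ZMod 2) = 0 := by
    intro n m hm2 h1
    have a1 : (μ1 X) ^ n = 1 := by
      have := congrArg μ1 h1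
      rwa [_root_.map_mul, _root_.map_pow, _root_.map_pow, hμ1W, one_pow, mul_one, _root_.map_one] at this
    have a2 : (μ2 W) ^ m = 1 := by
      have := congrArg μ2 h1
      rwa [_root_.map_mul, _root_.map_pow, _root_.map_pow, hμ2X, one_pow, one_mul, _root_.map_one] at this
    have a6 : (μ1 X) ^ 6 = 1 := by rw [← _root_.map_pow, hX6, _root_.map_one]
    have a3 : (μ1 X) ^ (n % 6) = 1 := by rw [← pow_eq_pow_mod n a6]; exact a1
    rw [hμ1X] at a3
    have hn0 : n % 6 = 0 := hX1 (n % 6) (Nat.mod_lt _ (by norm_num)) a3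
    have hm0 : m = 0 := by
      by_contra hne
      have hm1 : m = 1 := by omega
      rw [hm1, pow_one] at a2
      exact hμ2W a2
    refine ⟨(ZMod.natCast_eq_zero_iff n 6).2 (Nat.dvd_of_mod_eq_zero hn0), ?_⟩
    rw [hm0, Nat.cast_zero]
  have hinjφ : Function.Injective φ := by
    rw [injective_iff_map_eq_one]
    intro t ht
    have h1 : ((φ t : ↥σ.ker) : P3) = 1 := by rw [ht]; rfl
    rw [hform t] at h1
    exact sep_T322 (Multiplicative.toAdd t) (key _ _ (ZMod.val_lt _) h1)
  exact ⟨(MulEquiv.ofBijective φ ⟨hinjφ, hφs⟩).symm⟩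

end Cfsg.Agent.Lib.H25.U62
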