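import Cfsg.Agent.Lib.H15.UP2Base

/-!
# UP3-E4 (helper25), part b: a frame for a decomposition into two totally isotropic planes

`V = D 0 ⊕ D 1` with `D 0`, `D 1` totally isotropic of dimension 2 for the hermitian form: there are
`e₁, e₂ ∈ D 0` and `f₁, f₂ ∈ D 1` with `f(f_j, e_i) = δ_ij`.
-/

set_option autoImplicit false
set_option linter.unusedSectionVars false
set_option linter.unusedVariables false

namespace Cfsg.Agent.Lib.H25.UP3

open Cfsg Cfsg.Geo Cfsg.Agent.Lib.H15.UP2 Cfsg.Agent.Lib.H15.SUGen Cfsg.Agent.Lib.H2.Herm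
open scoped MatrixGroups Matrix

variable {F : Type*} [Field F] [Fintype F] {q : ℕ}

/-- `y ↦ f(y, e)` on a subspace, as a linear map -/
def hermLin (q : ℕ) (W : Submodule F (Fin 4 → F)) (e : Fin 4 → F) : W →ₗ[F] F where
  toFun y := hermForm 4 F q (y : Fin 4 → F) e
  map_add' y z := hf_add_left (q := q) (y : Fin 4 → F) (z : Fin 4 → F) e
  map_smul' a y := hf_smul_left (q := q) a (y : Fin 4 → F) e

theorem hermLin_apply (W : Submodule F (Fin 4 → F)) (e : Fin 4 → F) (y : W) :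
    hermLin q W e y = hermForm 4 F q (y : Fin 4 → F) e := rfl

theorem exists_frame (hF : Fintype.card F = q ^ 2) (D : Fin 2 → Submodule F (Fin 4 → F))
    (hD : IsMDecomposition 2 D) (hts : ∀ i, IsTotallySingularFor (hermForm 4 F q) (D i)) :
    ∃ e₁ e₂ f₁ f₂ : Fin 4 → F, e₁ ∈ D 0 ∧ e₂ ∈ D 0 ∧ f₁ ∈ D 1 ∧ f₂ ∈ D 1 ∧
      hermForm 4 F q f₁ e₁ = 1 ∧ hermForm 4 F q f₁ e₂ = 0 ∧
      hermForm 4 F q f₂ e₁ = 0 ∧ hermForm 4 F q f₂ e₂ = 1 := by
  classical
  have hfin0 : Module.finrank F (D 0) = 2 := hD.finrank_eq 0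
  have hfin1 : Module.finrank F (D 1) = 2 := hD.finrank_eq 1
  let b := Module.finBasisOfFinrankEq F (D 0) hfin0
  obtain ⟨e₁, he₁⟩ : ∃ e₁ : Fin 4 → F, e₁ = ((b 0 : D 0) : Fin 4 → F) := ⟨_, rfl⟩
  obtain ⟨e₂, he₂⟩ : ∃ e₂ : Fin 4 → F, e₂ = ((b 1 : D 0) : Fin 4 → F) := ⟨_, rfl⟩
  have he₁D : e₁ ∈ D 0 := by rw [he₁]; exact (b 0).2
  have he₂D : e₂ ∈ D 0 := by rw [he₂]; exact (b 1).2
  let Φ : D 1 →ₗ[F] (Fin 2 → F) := LinearMap.pi ![hermLin q (D 1) e₁, hermLin q (D 1) e₂]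
  have hΦ0 : ∀ y : D 1, Φ y 0 = hermForm 4 F q (y : Fin 4 → F) e₁ := fun y => rfl
  have hΦ1 : ∀ y : D 1, Φ y 1 = hermForm 4 F q (y : Fin 4 → F) e₂ := fun y => rfl
  have htop : D 0 ⊔ D 1 = ⊤ := by
    rw [← hD.iSup_eq_top]
    apply le_antisymm
    · exact sup_le (le_iSup D 0) (le_iSup D 1)
    · apply iSup_le
      intro i
      fin_cases i
      · exact le_sup_left
      · exact le_sup_right
  have hinj : Function.Injective Φ := by
    rw [← LinearMap.ker_eq_bot, LinearMap.ker_eq_bot']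
    intro y hy
    have h1 : hermForm 4 F q (y : Fin 4 → F) e₁ = 0 := by rw [← hΦ0, hy]; rfl
    have h2 : hermForm 4 F q (y : Fin 4 → F) e₂ = 0 := by rw [← hΦ1, hy]; rfl
    have h3 : ∀ x ∈ D 0, hermForm 4 F q (y : Fin 4 → F) x = 0 := by
      intro x hx
      have h4 := b.sum_repr ⟨x, hx⟩
      rw [Fin.sum_univ_two] at h4
      have h5 : x = (b.repr ⟨x, hx⟩ 0) • e₁ + (b.repr ⟨x, hx⟩ 1) • e₂ := by
        have := congrArg (fun z : D 0 => (z : Fin 4 → F)) h4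
        simp only [Submodule.coe_add, Submodule.coe_smul] at this
        rw [he₁, he₂]
        exact this.symm
      rw [h5]
      show hf q _ _ = 0
      rw [hf_add_right hF, hf_smul_right, hf_smul_right]
      show _ * hermForm 4 F q _ _ + _ * hermForm 4 F q _ _ = 0
      rw [h1, h2]
      simp
    have h4 : ∀ v : Fin 4 → F, hermForm 4 F q (y : Fin 4 → F) v = 0 := by
      intro v
      have hv : v ∈ D 0 ⊔ D 1 := by rw [htop]; exact Submodule.mem_top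
      obtain ⟨x, hx, z, hz, rfl⟩ := Submodule.mem_sup.1 hv
      show hf q _ _ = 0
      rw [hf_add_right hF]
      show hermForm 4 F q _ _ + hermForm 4 F q _ _ = 0
      rw [h3 x hx, hts 1 _ y.2 _ hz, add_zero]
    by_contra hne
    have hne' : (y : Fin 4 → F) ≠ 0 := fun h => hne (Subtype.ext h)
    obtain ⟨z, hz⟩ := herm_nondeg hF hne'
    apply hz
    have := hf_conj hF (y : Fin 4 → F) z
    show hf q z _ = 0
    rw [← this]
    show (hermForm 4 F q _ _) ^ q = 0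
    rw [h4 z]
    exact fr_zero hF
  have hsurj : Function.Surjective Φ :=
    (LinearMap.injective_iff_surjective_of_finrank_eq_finrank
      (by rw [hfin1]; simp)).1 hinj
  obtain ⟨f₁, hf₁⟩ := hsurj ![1, 0]
  obtain ⟨f₂, hf₂⟩ := hsurj ![0, 1]
  refine ⟨e₁, e₂, f₁, f₂, he₁D, he₂D, f₁.2, f₂.2, ?_, ?_, ?_, ?_⟩
  · rw [← hΦ0, hf₁]; rfl
  · rw [← hΦ1, hf₁]; rfl
  · rw [← hΦ0, hf₂]; rfl
  · rw [← hΦ1, hf₂]; rfl

end Cfsg.Agent.Lib.H25.UP3
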