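import Cfsg.Agent.Lib.H25.UP3E4a
import Cfsg.Agent.Lib.H25.UP3E4b
import Cfsg.Agent.Lib.H25.AschUT5f
import Cfsg.Agent.Lib.H22.AschUM422a

/-!
# UP3-E4 (helper25): `q ≤ 3`, the stabiliser in `SU_4(q)` of a decomposition into two totally isotropic planes
lies in a class-5c subfield group `Sp_4(q) Z`.

Exact signature of `tools/blueprints/UP3_sigs.lean` (helper15's architecture).

Proof.  Take `e₁, e₂ ∈ D 0`, `f₁, f₂ ∈ D 1` with Gram matrix `H4`; `X` the matrix with these columns,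
`T := X K4 Xᵀ` (alternating, `T σ(T) = 1`): `v ↦ T σ(v)` is a semilinear involution, whose fixed points are
`P F₀⁴` (descent).  For `g` in the stabiliser, `h = X⁻¹ g X` is block diagonal or anti-diagonal, and
`h K4 hᵀ = μ K4` with `μ² = 1` (part a), hence `g T gᵀ = μ T`, `σ(P⁻¹ g P) = μ P⁻¹ g P`.
-/

set_option autoImplicit false
set_option linter.unusedSectionVars false
set_option linter.unusedVariables false

namespace Cfsg.Agent.Lib.H25.UP3

open Cfsg Cfsg.Geo Cfsg.Agent.Lib.H25.Asch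
open scoped MatrixGroups Matrix

variable {F : Type*} [Field F] [Fintype F] {q : ℕ}

theorem gram_of_frame (σ : F →+* F) (hσ : ∀ x, σ x = x ^ q) (x : Fin 4 → Fin 4 → F)
    (G : Matrix (Fin 4) (Fin 4) F) (hG : ∀ i j, hermForm 4 F q (x i) (x j) = G i j) :
    (Matrix.of fun i j => x j i)ᵀ * (Matrix.of fun i j => x j i).map σ = G := by
  ext i j
  rw [← hG i j]
  simp [Matrix.mul_apply, hermForm, hσ]

theorem Z_entry (σ : F →+* F) (hσ : ∀ x, σ x = x ^ q) (x : Fin 4 → Fin 4 → F)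
    (g : Matrix (Fin 4) (Fin 4) F) (k j : Fin 4) :
    (((Matrix.of fun i j => x j i).map σ)ᵀ * (g * (Matrix.of fun i j => x j i))) k j =
      hermForm 4 F q (g *ᵥ x j) (x k) := by
  simp only [Matrix.mul_apply, Matrix.transpose_apply, Matrix.map_apply, Matrix.of_apply, hermForm,
    Matrix.mulVec, dotProduct, hσ]
  apply Finset.sum_congr rfl
  intro l _
  rw [mul_comm]

theorem h_entry (σ : F →+* F) (hσ : ∀ x, σ x = x ^ q) (x : Fin 4 → Fin 4 → F)
    (g : Matrix (Fin 4) (Fin 4) F) (i j : Fin 4) :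
    (H4 * ((Matrix.of fun i j => x j i).map σ)ᵀ * g * (Matrix.of fun i j => x j i) :
      Matrix (Fin 4) (Fin 4) F) i j =
      hermForm 4 F q (g *ᵥ x j) (x ((![2, 3, 0, 1] : Fin 4 → Fin 4) i)) := by
  rw [Matrix.mul_assoc, Matrix.mul_assoc, Matrix.mul_apply, Fin.sum_univ_four]
  simp only [Z_entry σ hσ]
  fin_cases i <;> simp [H4]

theorem map_map_self (σ : F →+* F) (hσ2 : ∀ x, σ (σ x) = x) (M : Matrix (Fin 4) (Fin 4) F) :
    (M.map σ).map σ = M := by
  ext i j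
  exact hσ2 (M i j)

theorem map_neg' (σ : F →+* F) (M : Matrix (Fin 4) (Fin 4) F) : (-M).map σ = -(M.map σ) := by
  ext i j
  simp

/-- `x² = 1` for the non-zero elements of `F_q`, `q ≤ 3` -/
theorem sq_eq_one_of_fixed (hF : Fintype.card F = q ^ 2) (hq : q ≤ 3) (x : F) (hx : x ^ q = x)
    (hx0 : x ≠ 0) : x * x = 1 := by
  have h1 : 1 < Fintype.card F := Fintype.one_lt_card
  have hq2 : 2 ≤ q := by
    by_contra h
    have : q ≤ 1 := by omega
    have : q ^ 2 ≤ 1 := by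
      calc q ^ 2 ≤ 1 ^ 2 := Nat.pow_le_pow_left this 2
        _ = 1 := by norm_num
    omega
  have hq' : q = 2 ∨ q = 3 := by omega
  rcases hq' with rfl | rfl
  · have h2 : x * (x - 1) = 0 := by linear_combination hx
    rcases mul_eq_zero.1 h2 with h | h
    · exact absurd h hx0
    · have : x = 1 := by linear_combination h
      rw [this, one_mul]
  · have h2 : x * (x * x - 1) = 0 := by linear_combination hx
    rcases mul_eq_zero.1 h2 with h | h
    · exact absurd h hx0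
    · linear_combination h

/-- **UP3-E4**. -/
theorem c2b_q_le_three_n4 (hF : Fintype.card F = q ^ 2) (hq : q ≤ 3) (D : Fin 2 → Submodule F (Fin 4 → F))
    (hD : IsMDecomposition 2 D) (hts : ∀ i, IsTotallySingularFor (hermForm 4 F q) (D i)) :
    ∃ (F₀ : Subfield F) (P : GL (Fin 4) F) (ζ : F), Fintype.card F = Nat.card F₀ ^ 2 ∧ ζ ≠ 0 ∧ ζ + ζ ^ q = 0 ∧
      IsFormRationalStructure (hermForm 4 F q) F₀ ζ P ∧
      (∀ u : Fin 4 → F, (∀ i, u i ∈ F₀) →
        hermForm 4 F q ((P : Matrix (Fin 4) (Fin 4) F) *ᵥ u) ((P : Matrix (Fin 4) (Fin 4) F) *ᵥ u) = 0) ∧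
      decompositionStabilizer D ⊓ (GU 4 F q ⊓ specialLinear (Fin 4) F) ≤ subfieldSubgroup F₀ P := by
  classical
  obtain ⟨σ, hσ, hσ2⟩ := Cfsg.Agent.Lib.H4.exists_frob hF
  obtain ⟨F₀, hF₀, hcard⟩ := exists_fixed_subfield hF
  obtain ⟨ζ, hζ0, hζ⟩ := Cfsg.Agent.Lib.H15.UP2.exists_tr0 hF
  obtain ⟨ω, hω⟩ := exists_pow_ne hF
  have hqq : ∀ x : F, σ x = x → x ≠ 0 → x * x = 1 := fun x hx hx0 =>
    sq_eq_one_of_fixed hF hq x (by rw [← hσ]; exact hx) hx0
  have hσζ : σ ζ = -ζ := by rw [hσ]; linear_combination hζ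
  -- the frame
  obtain ⟨e₁, e₂, f₁, f₂, he₁, he₂, hf₁, hf₂, h11, h12, h21, h22⟩ := exists_frame hF D hD hts
  have hconj : ∀ u v : Fin 4 → F, hermForm 4 F q u v = (hermForm 4 F q v u) ^ q := fun u v =>
    (Cfsg.Agent.Lib.H15.SUGen.hf_conj hF v u).symm
  obtain ⟨x, hx⟩ : ∃ x : Fin 4 → Fin 4 → F, x = ![e₁, e₂, f₁, f₂] := ⟨_, rfl⟩
  have hx0 : x 0 = e₁ := by rw [hx]; rfl
  have hx1 : x 1 = e₂ := by rw [hx]; rfl
  have hx2 : x 2 = f₁ := by rw [hx]; rfl
  have hx3 : x 3 = f₂ := by rw [hx]; rfl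
  have hG : ∀ i j, hermForm 4 F q (x i) (x j) = (H4 : Matrix (Fin 4) (Fin 4) F) i j := by
    have z1 : (0 : F) ^ q = 0 := Cfsg.Agent.Lib.H15.SUGen.fr_zero hF
    intro i j
    fin_cases i <;> fin_cases j
    · show hermForm 4 F q (x 0) (x 0) = _
      rw [hx0, hts 0 _ he₁ _ he₁]; simp [H4]
    · show hermForm 4 F q (x 0) (x 1) = _
      rw [hx0, hx1, hts 0 _ he₁ _ he₂]; simp [H4]
    · show hermForm 4 F q (x 0) (x 2) = _
      rw [hx0, hx2, hconj, h11]; simp [H4]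
    · show hermForm 4 F q (x 0) (x 3) = _
      rw [hx0, hx3, hconj, h21, z1]; simp [H4]
    · show hermForm 4 F q (x 1) (x 0) = _
      rw [hx0, hx1, hts 0 _ he₂ _ he₁]; simp [H4]
    · show hermForm 4 F q (x 1) (x 1) = _
      rw [hx1, hts 0 _ he₂ _ he₂]; simp [H4]
    · show hermForm 4 F q (x 1) (x 2) = _
      rw [hx1, hx2, hconj, h12, z1]; simp [H4]
    · show hermForm 4 F q (x 1) (x 3) = _
      rw [hx1, hx3, hconj, h22]; simp [H4]
    · show hermForm 4 F q (x 2) (x 0) = _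
      rw [hx2, hx0, h11]; simp [H4]
    · show hermForm 4 F q (x 2) (x 1) = _
      rw [hx2, hx1, h12]; simp [H4]
    · show hermForm 4 F q (x 2) (x 2) = _
      rw [hx2, hts 1 _ hf₁ _ hf₁]; simp [H4]
    · show hermForm 4 F q (x 2) (x 3) = _
      rw [hx2, hx3, hts 1 _ hf₁ _ hf₂]; simp [H4]
    · show hermForm 4 F q (x 3) (x 0) = _
      rw [hx3, hx0, h21]; simp [H4]
    · show hermForm 4 F q (x 3) (x 1) = _
      rw [hx3, hx1, h22]; simp [H4]
    · show hermForm 4 F q (x 3) (x 2) = _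
      rw [hx3, hx2, hts 1 _ hf₂ _ hf₁]; simp [H4]
    · show hermForm 4 F q (x 3) (x 3) = _
      rw [hx3, hts 1 _ hf₂ _ hf₂]; simp [H4]
  obtain ⟨X, hXdef⟩ : ∃ X : Matrix (Fin 4) (Fin 4) F, X = Matrix.of fun i j => x j i := ⟨_, rfl⟩
  have hX : Xᵀ * X.map σ = H4 := by rw [hXdef]; exact gram_of_frame σ hσ x H4 hG
  obtain ⟨Y, hYdef⟩ : ∃ Y : Matrix (Fin 4) (Fin 4) F, Y = H4 * (X.map σ)ᵀ := ⟨_, rfl⟩
  have hX' : (X.map σ)ᵀ * X = H4 := by
    have := congrArg Matrix.transpose hX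
    rwa [Matrix.transpose_mul, Matrix.transpose_transpose, H4_transpose] at this
  have hYX : Y * X = 1 := by rw [hYdef, Matrix.mul_assoc, hX', H4_mul_H4]
  have hXY : X * Y = 1 := mul_eq_one_comm.1 hYX
  -- the alternating matrix `T`
  obtain ⟨T, hTdef⟩ : ∃ T : Matrix (Fin 4) (Fin 4) F, T = X * K4 * Xᵀ := ⟨_, rfl⟩
  have hTmap : T.map σ = X.map σ * K4 * (X.map σ)ᵀ := by
    rw [hTdef, Matrix.map_mul, Matrix.map_mul, K4_map, Matrix.transpose_map]
  have hT1 : T * T.map σ = 1 := by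
    rw [hTmap, hTdef]
    calc X * K4 * Xᵀ * (X.map σ * K4 * (X.map σ)ᵀ)
        = X * (K4 * (Xᵀ * X.map σ) * K4) * (X.map σ)ᵀ := by simp only [Matrix.mul_assoc]
      _ = X * (H4 * (X.map σ)ᵀ) := by rw [hX, K4_H4_K4, Matrix.mul_assoc]
      _ = 1 := by rw [← hYdef, hXY]
  have hT2 : Tᵀ = -T := by
    rw [hTdef, Matrix.transpose_mul, Matrix.transpose_mul, Matrix.transpose_transpose, K4_transpose]
    simp only [Matrix.mul_assoc, Matrix.neg_mul, Matrix.mul_neg]
  -- descent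
  obtain ⟨P, hP⟩ := exists_GL_of_semilinear_involution σ hσ2 ⟨ω, by rw [hσ]; exact hω⟩ T hT1
  obtain ⟨Pm, hPm⟩ : ∃ Pm : Matrix (Fin 4) (Fin 4) F, Pm = (P : Matrix (Fin 4) (Fin 4) F) := ⟨_, rfl⟩
  rw [← hPm] at hP
  have hP' : Pm.map σ = T.map σ * Pm := by
    have := congrArg (fun M : Matrix (Fin 4) (Fin 4) F => M.map σ) hP
    simp only [Matrix.map_mul, map_map_self σ hσ2] at this
    exact this.symm
  -- the Gram matrix in the coordinates of `P`
  have hGr : gramP σ Pm = Pmᵀ * T.map σ * Pm := by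
    unfold gramP
    rw [hP', Matrix.mul_assoc]
  have hGrσ : (gramP σ Pm).map σ = -gramP σ Pm := by
    have h1 : (gramP σ Pm).map σ = (Pm.map σ)ᵀ * Pm := by
      unfold gramP
      rw [Matrix.map_mul, map_map_self σ hσ2, Matrix.transpose_map]
    rw [h1, hGr, hP', Matrix.transpose_mul, ← Matrix.transpose_map, hT2, map_neg']
    simp only [Matrix.mul_assoc, Matrix.neg_mul, Matrix.mul_neg]
  have hrat : ∀ i j, (ζ • gramP σ Pm) i j ∈ F₀ := by
    intro i j
    rw [hF₀, Matrix.smul_apply, smul_eq_mul, ← hσ, map_mul, hσζ]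
    have := congrFun (congrFun hGrσ i) j
    rw [Matrix.map_apply, Matrix.neg_apply] at this
    rw [this]; ring
  have hiso : ∀ u : Fin 4 → F, (∀ i, u i ∈ F₀) → hermForm 4 F q (Pm *ᵥ u) (Pm *ᵥ u) = 0 := by
    intro u hu
    have hu' : (fun i => σ (u i)) = u := by
      funext i
      rw [hσ]; exact (hF₀ _).1 (hu i)
    rw [hermForm_mulVec σ hσ, hu', hGr, hTmap]
    obtain ⟨R, hR⟩ : ∃ R : Matrix (Fin 4) (Fin 4) F, R = (X.map σ)ᵀ * Pm := ⟨_, rfl⟩
    have h1 : Pmᵀ * (X.map σ * K4 * (X.map σ)ᵀ) * Pm = Rᵀ * (K4 * R) := by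
      rw [hR, Matrix.transpose_mul, Matrix.transpose_transpose]
      simp only [Matrix.mul_assoc]
    rw [h1, ← Matrix.mulVec_mulVec, Matrix.dotProduct_mulVec, Matrix.vecMul_transpose,
      ← Matrix.mulVec_mulVec]
    exact K4_alt _
  refine ⟨F₀, P, ζ, hcard, hζ0, hζ, ?_, ?_, ?_⟩
  · exact isFormRationalStructure_of_gram σ hσ F₀ P ζ (by rw [← hPm]; exact hrat)
  · rw [← hPm]; exact hiso
  · -- the group
    intro g hg
    obtain ⟨⟨π, hπ⟩, hgU, hgS⟩ := hg
    obtain ⟨gm, hgm⟩ : ∃ gm : Matrix (Fin 4) (Fin 4) F, gm = (g : Matrix (Fin 4) (Fin 4) F) := ⟨_, rfl⟩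
    have hdetg : gm.det = 1 := by
      rw [hgm]; exact (Cfsg.Agent.Lib.H28.mem_specialLinear_iff g).1 hgS
    have hgU' : gmᵀ * gm.map σ = 1 := by rw [hgm]; exact GU_matrix_eq σ hσ hgU
    have hmem : ∀ (i : Fin 2) (v : Fin 4 → F), v ∈ D i → gm *ᵥ v ∈ D (π i) := by
      intro i v hv
      have h1 : Matrix.toLin' gm v ∈ (D i).map (Matrix.toLin' gm) := Submodule.mem_map_of_mem hv
      rw [hgm, hπ i] at h1
      rw [hgm]
      rwa [Matrix.toLin'_apply] at h1
    obtain ⟨h, hhdef⟩ : ∃ h : Matrix (Fin 4) (Fin 4) F, h = Y * gm * X := ⟨_, rfl⟩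
    have hXh : X * h = gm * X := by
      rw [hhdef, ← Matrix.mul_assoc, ← Matrix.mul_assoc, hXY, Matrix.one_mul]
    have hhU : hᵀ * H4 * h.map σ = H4 := by
      calc hᵀ * H4 * h.map σ = (X * h)ᵀ * (X * h).map σ := by
            rw [Matrix.transpose_mul, Matrix.map_mul, ← hX]
            simp only [Matrix.mul_assoc]
        _ = Xᵀ * (gmᵀ * gm.map σ) * X.map σ := by
            rw [hXh, Matrix.transpose_mul, Matrix.map_mul]
            simp only [Matrix.mul_assoc]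
        _ = H4 := by rw [hgU', Matrix.mul_one, hX]
    have hhdet : h.det = 1 := by
      rw [hhdef, Matrix.det_mul, Matrix.det_mul, hdetg, mul_one, ← Matrix.det_mul, hYX, Matrix.det_one]
    have hent : ∀ i j, h i j = hermForm 4 F q (gm *ᵥ x j) (x ((![2, 3, 0, 1] : Fin 4 → Fin 4) i)) := by
      intro i j
      rw [hhdef, hYdef, hXdef]
      exact h_entry σ hσ x gm i j
    have hclaim : ∃ μ : F, μ * μ = 1 ∧ h * K4 * hᵀ = μ • K4 := by
      have hπ0 : π 0 = 0 ∨ π 0 = 1 := by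
        rcases Fin.exists_fin_two.1 (⟨π 0, rfl⟩ : ∃ i : Fin 2, π 0 = i) with h | h
        · exact Or.inl h
        · exact Or.inr h
      rcases hπ0 with hπ0 | hπ0
      · have hπ1 : π 1 = 1 := by
          rcases Fin.exists_fin_two.1 (⟨π 1, rfl⟩ : ∃ i : Fin 2, π 1 = i) with h | h
          · exfalso
            have : π 1 = π 0 := by rw [hπ0]; exact h
            exact absurd (π.injective this) (by decide)
          · exact h
        have m0 : gm *ᵥ e₁ ∈ D 0 := by have := hmem 0 e₁ he₁; rwa [hπ0] at this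
        have m1 : gm *ᵥ e₂ ∈ D 0 := by have := hmem 0 e₂ he₂; rwa [hπ0] at this
        have m2 : gm *ᵥ f₁ ∈ D 1 := by have := hmem 1 f₁ hf₁; rwa [hπ1] at this
        have m3 : gm *ᵥ f₂ ∈ D 1 := by have := hmem 1 f₂ hf₂; rwa [hπ1] at this
        apply claim_diag σ hqq h hhU hhdet
        · rw [hent]; show hermForm 4 F q (gm *ᵥ x 0) (x 0) = 0
          rw [hx0]; exact hts 0 _ m0 _ he₁
        · rw [hent]; show hermForm 4 F q (gm *ᵥ x 1) (x 0) = 0
          rw [hx0, hx1]; exact hts 0 _ m1 _ he₁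
        · rw [hent]; show hermForm 4 F q (gm *ᵥ x 0) (x 1) = 0
          rw [hx0, hx1]; exact hts 0 _ m0 _ he₂
        · rw [hent]; show hermForm 4 F q (gm *ᵥ x 1) (x 1) = 0
          rw [hx1]; exact hts 0 _ m1 _ he₂
        · rw [hent]; show hermForm 4 F q (gm *ᵥ x 2) (x 2) = 0
          rw [hx2]; exact hts 1 _ m2 _ hf₁
        · rw [hent]; show hermForm 4 F q (gm *ᵥ x 3) (x 2) = 0
          rw [hx2, hx3]; exact hts 1 _ m3 _ hf₁
        · rw [hent]; show hermForm 4 F q (gm *ᵥ x 2) (x 3) = 0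
          rw [hx2, hx3]; exact hts 1 _ m2 _ hf₂
        · rw [hent]; show hermForm 4 F q (gm *ᵥ x 3) (x 3) = 0
          rw [hx3]; exact hts 1 _ m3 _ hf₂
      · have hπ1 : π 1 = 0 := by
          rcases Fin.exists_fin_two.1 (⟨π 1, rfl⟩ : ∃ i : Fin 2, π 1 = i) with h | h
          · exact h
          · exfalso
            have : π 1 = π 0 := by rw [hπ0]; exact h
            exact absurd (π.injective this) (by decide)
        have m0 : gm *ᵥ e₁ ∈ D 1 := by have := hmem 0 e₁ he₁; rwa [hπ0] at this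
        have m1 : gm *ᵥ e₂ ∈ D 1 := by have := hmem 0 e₂ he₂; rwa [hπ0] at this
        have m2 : gm *ᵥ f₁ ∈ D 0 := by have := hmem 1 f₁ hf₁; rwa [hπ1] at this
        have m3 : gm *ᵥ f₂ ∈ D 0 := by have := hmem 1 f₂ hf₂; rwa [hπ1] at this
        apply claim_anti σ hqq h hhU hhdet
        · rw [hent]; show hermForm 4 F q (gm *ᵥ x 0) (x 2) = 0
          rw [hx0, hx2]; exact hts 1 _ m0 _ hf₁
        · rw [hent]; show hermForm 4 F q (gm *ᵥ x 1) (x 2) = 0
          rw [hx1, hx2]; exact hts 1 _ m1 _ hf₁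
        · rw [hent]; show hermForm 4 F q (gm *ᵥ x 0) (x 3) = 0
          rw [hx0, hx3]; exact hts 1 _ m0 _ hf₂
        · rw [hent]; show hermForm 4 F q (gm *ᵥ x 1) (x 3) = 0
          rw [hx1, hx3]; exact hts 1 _ m1 _ hf₂
        · rw [hent]; show hermForm 4 F q (gm *ᵥ x 2) (x 0) = 0
          rw [hx2, hx0]; exact hts 0 _ m2 _ he₁
        · rw [hent]; show hermForm 4 F q (gm *ᵥ x 3) (x 0) = 0
          rw [hx3, hx0]; exact hts 0 _ m3 _ he₁
        · rw [hent]; show hermForm 4 F q (gm *ᵥ x 2) (x 1) = 0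
          rw [hx2, hx1]; exact hts 0 _ m2 _ he₂
        · rw [hent]; show hermForm 4 F q (gm *ᵥ x 3) (x 1) = 0
          rw [hx3, hx1]; exact hts 0 _ m3 _ he₂
    obtain ⟨μ, hμ, hμK⟩ := hclaim
    -- `g T gᵀ = μ T`
    have hgT : gm * T * gmᵀ = μ • T := by
      calc gm * T * gmᵀ = (gm * X) * K4 * (gm * X)ᵀ := by
            rw [hTdef, Matrix.transpose_mul]
            simp only [Matrix.mul_assoc]
        _ = X * (h * K4 * hᵀ) * Xᵀ := by
            rw [← hXh, Matrix.transpose_mul]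
            simp only [Matrix.mul_assoc]
        _ = μ • T := by
            rw [hμK, hTdef, Matrix.mul_smul, Matrix.smul_mul, Matrix.mul_assoc]
    have hgT' : gm * T = μ • (T * gm.map σ) := by
      calc gm * T = gm * T * (gmᵀ * gm.map σ) := by rw [hgU', Matrix.mul_one]
        _ = (gm * T * gmᵀ) * gm.map σ := by simp only [Matrix.mul_assoc]
        _ = μ • (T * gm.map σ) := by rw [hgT, Matrix.smul_mul]
    -- the conjugate `M = P⁻¹ g P`
    obtain ⟨M, hMdef⟩ : ∃ M : Matrix (Fin 4) (Fin 4) F,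
        M = ((P⁻¹ * g * P⁻¹⁻¹ : GL (Fin 4) F) : Matrix (Fin 4) (Fin 4) F) := ⟨_, rfl⟩
    have hPM : Pm * M = gm * Pm := by
      rw [hMdef, hPm, hgm, inv_inv, ← Units.val_mul, ← Units.val_mul]
      congr 1
      group
    have hMσ : M = μ • M.map σ := by
      have h1 : Pm * M = Pm * (μ • M.map σ) := by
        calc Pm * M = gm * Pm := hPM
          _ = gm * (T * Pm.map σ) := by rw [hP]
          _ = (gm * T) * Pm.map σ := by rw [Matrix.mul_assoc]
          _ = μ • (T * (gm * Pm).map σ) := by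
              rw [hgT', Matrix.map_mul, Matrix.smul_mul, Matrix.mul_assoc]
          _ = μ • (T * (Pm * M).map σ) := by rw [hPM]
          _ = μ • ((T * Pm.map σ) * M.map σ) := by rw [Matrix.map_mul, Matrix.mul_assoc]
          _ = Pm * (μ • M.map σ) := by rw [hP, Matrix.mul_smul]
      have hPinv : ((P⁻¹ : GL (Fin 4) F) : Matrix (Fin 4) (Fin 4) F) * Pm = 1 := by
        rw [hPm, ← Units.val_mul, inv_mul_cancel, Units.val_one]
      have := congrArg (fun Z => ((P⁻¹ : GL (Fin 4) F) : Matrix (Fin 4) (Fin 4) F) * Z) h1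
      simp only [← Matrix.mul_assoc, hPinv, Matrix.one_mul] at this
      exact this
    have hMσ' : ∀ i j, σ (M i j) = μ * M i j := by
      intro i j
      have h1 := congrFun (congrFun hMσ i) j
      rw [Matrix.smul_apply, Matrix.map_apply, smul_eq_mul] at h1
      linear_combination (-μ) * h1 - σ (M i j) * hμ
    -- the scalar `k`
    obtain ⟨k, hk0, hk⟩ : ∃ k : F, k ≠ 0 ∧ σ k = μ * k := by
      have h1 : (μ - 1) * (μ + 1) = 0 := by linear_combination hμ
      rcases mul_eq_zero.1 h1 with h | h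
      · refine ⟨1, one_ne_zero, ?_⟩
        have : μ = 1 := by linear_combination h
        rw [this, map_one, one_mul]
      · refine ⟨ζ, hζ0, ?_⟩
        have : μ = -1 := by linear_combination h
        rw [this, hσζ]; ring
    have := Cfsg.Agent.Lib.H22.Asch.mem_subfieldSubgroup_of_smul F₀ P⁻¹ g k hk0 (by
      intro i j
      rw [← hMdef, hF₀, ← hσ, map_mul, hk, hMσ' i j]
      linear_combination (k * M i j) * hμ)
    rwa [inv_inv] at this

end Cfsg.Agent.Lib.H25.UP3
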