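import Mathlib

/-!
# UP3-E4 (helper25), part a: explicit `4 × 4` matrix algebra

`H4` is the Gram matrix of a hermitian form in a basis `e₁, e₂, f₁, f₂` made of two dual totally isotropic
pairs; `K4 = diag(K, -K)`, `K = [[0,-1],[1,0]]`.  A matrix `h` preserving `H4` (`hᵀ H4 σ(h) = H4`), of determinant
one, block diagonal or block anti-diagonal, satisfies `h K4 hᵀ = μ K4`, `μ² = 1`, provided `x² = 1` for all non-zero
`σ`-fixed `x`.
-/

set_option autoImplicit false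

namespace Cfsg.Agent.Lib.H25.UP3

open scoped Matrix

variable {F : Type*} [Field F]

/-- the Gram matrix of two dual totally isotropic pairs -/
def H4 : Matrix (Fin 4) (Fin 4) F := !![0, 0, 1, 0; 0, 0, 0, 1; 1, 0, 0, 0; 0, 1, 0, 0]

/-- `diag(K, -K)` -/
def K4 : Matrix (Fin 4) (Fin 4) F := !![0, -1, 0, 0; 1, 0, 0, 0; 0, 0, 0, 1; 0, 0, -1, 0]

theorem H4_mul_H4 : (H4 : Matrix (Fin 4) (Fin 4) F) * H4 = 1 := by
  ext i j
  fin_cases i <;> fin_cases j <;> simp [H4, Matrix.mul_apply, Fin.sum_univ_four]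

theorem H4_transpose : (H4 : Matrix (Fin 4) (Fin 4) F)ᵀ = H4 := by
  ext i j
  fin_cases i <;> fin_cases j <;> simp [H4]

theorem K4_transpose : (K4 : Matrix (Fin 4) (Fin 4) F)ᵀ = -K4 := by
  ext i j
  fin_cases i <;> fin_cases j <;> simp [K4]

theorem H4_map (σ : F →+* F) : (H4 : Matrix (Fin 4) (Fin 4) F).map σ = H4 := by
  ext i j
  fin_cases i <;> fin_cases j <;> simp [H4]

theorem K4_map (σ : F →+* F) : (K4 : Matrix (Fin 4) (Fin 4) F).map σ = K4 := by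
  ext i j
  fin_cases i <;> fin_cases j <;> simp [K4]

theorem K4_H4_K4 : (K4 : Matrix (Fin 4) (Fin 4) F) * H4 * K4 = H4 := by
  ext i j
  fin_cases i <;> fin_cases j <;> simp [H4, K4, Matrix.mul_apply, Fin.sum_univ_four]

/-- `wᵀ K4 w = 0` -/
theorem K4_alt (w : Fin 4 → F) : w ⬝ᵥ (K4 *ᵥ w) = 0 := by
  simp [K4, dotProduct, Matrix.mulVec, Fin.sum_univ_four]
  ring

theorem det_blockdiag (a b c d e f g k : F) :
    (Matrix.of ![![a, b, 0, 0], ![c, d, 0, 0], ![0, 0, e, f], ![0, 0, g, k]] :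
      Matrix (Fin 4) (Fin 4) F).det = (a * d - b * c) * (e * k - f * g) := by
  rw [Matrix.det_succ_row_zero, Fin.sum_univ_four]
  simp [Matrix.det_fin_three, Fin.succAbove, Matrix.submatrix]
  ring

theorem det_blockanti (a b c d e f g k : F) :
    (Matrix.of ![![0, 0, a, b], ![0, 0, c, d], ![e, f, 0, 0], ![g, k, 0, 0]] :
      Matrix (Fin 4) (Fin 4) F).det = (a * d - b * c) * (e * k - f * g) := by
  rw [Matrix.det_succ_row_zero, Fin.sum_univ_four]
  simp [Matrix.det_fin_three, Fin.succAbove, Matrix.submatrix]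
  ring

/-- the scalar computation behind both cases -/
theorem scalar_key (σ : F →+* F) (hq : ∀ x : F, σ x = x → x ≠ 0 → x * x = 1)
    (a b c d e f g k : F)
    (h1 : a * σ e + c * σ g = 1) (h2 : a * σ f + c * σ k = 0)
    (h3 : b * σ e + d * σ g = 0) (h4 : b * σ f + d * σ k = 1)
    (hdet : (a * d - b * c) * (e * k - f * g) = 1) :
    a * d - b * c = e * k - f * g ∧ (a * d - b * c) * (a * d - b * c) = 1 := by
  obtain ⟨α, hα⟩ : ∃ α, α = a * d - b * c := ⟨_, rfl⟩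
  obtain ⟨γ, hγ⟩ : ∃ γ, γ = e * k - f * g := ⟨_, rfl⟩
  rw [← hα, ← hγ] at hdet ⊢
  have h5 : α * σ γ = 1 := by
    rw [hα, hγ, map_sub, map_mul, map_mul]
    linear_combination (b * σ f + d * σ k) * h1 + h4 - (b * σ e + d * σ g) * h2
  have hα0 : α ≠ 0 := by
    intro h0
    rw [h0, zero_mul] at hdet
    exact zero_ne_one hdet
  have hγ0 : γ ≠ 0 := by
    intro h0
    rw [h0, mul_zero] at hdet
    exact zero_ne_one hdet
  have h6 : σ γ = γ := mul_left_cancel₀ hα0 (h5.trans hdet.symm)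
  have h7 : γ * γ = 1 := hq γ h6 hγ0
  have h8 : α = γ := by
    calc α = α * (γ * γ) := by rw [h7, mul_one]
      _ = (α * γ) * γ := by ring
      _ = γ := by rw [hdet, one_mul]
  exact ⟨h8, by rw [h8]; exact h7⟩

/-- block diagonal case -/
theorem claim_diag (σ : F →+* F) (hq : ∀ x : F, σ x = x → x ≠ 0 → x * x = 1)
    (h : Matrix (Fin 4) (Fin 4) F) (hU : hᵀ * H4 * h.map σ = H4) (hdet : h.det = 1)
    (h20 : h 2 0 = 0) (h21 : h 2 1 = 0) (h30 : h 3 0 = 0) (h31 : h 3 1 = 0)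
    (h02 : h 0 2 = 0) (h03 : h 0 3 = 0) (h12 : h 1 2 = 0) (h13 : h 1 3 = 0) :
    ∃ μ : F, μ * μ = 1 ∧ h * K4 * hᵀ = μ • K4 := by
  have e1 := congrFun (congrFun hU 0) 2
  have e2 := congrFun (congrFun hU 0) 3
  have e3 := congrFun (congrFun hU 1) 2
  have e4 := congrFun (congrFun hU 1) 3
  simp [Matrix.mul_apply, Fin.sum_univ_four, H4, h20, h21, h30, h31, h02, h03, h12, h13] at e1 e2 e3 e4
  have hh : h = Matrix.of ![![h 0 0, h 0 1, 0, 0], ![h 1 0, h 1 1, 0, 0], ![0, 0, h 2 2, h 2 3],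
      ![0, 0, h 3 2, h 3 3]] := by
    ext i j
    fin_cases i <;> fin_cases j <;> simp [h20, h21, h30, h31, h02, h03, h12, h13]
  have hd : (h 0 0 * h 1 1 - h 0 1 * h 1 0) * (h 2 2 * h 3 3 - h 2 3 * h 3 2) = 1 := by
    rw [← det_blockdiag, ← hh, hdet]
  obtain ⟨k1, k2⟩ := scalar_key σ hq _ _ _ _ _ _ _ _ e1 e2 e3 e4 hd
  refine ⟨h 0 0 * h 1 1 - h 0 1 * h 1 0, k2, ?_⟩
  ext i j
  fin_cases i <;> fin_cases j <;>
    simp [Matrix.mul_apply, Fin.sum_univ_four, K4, h20, h21, h30, h31, h02, h03, h12, h13] <;>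
    first | ring1 | linear_combination k1 | linear_combination -k1

/-- block anti-diagonal case -/
theorem claim_anti (σ : F →+* F) (hq : ∀ x : F, σ x = x → x ≠ 0 → x * x = 1)
    (h : Matrix (Fin 4) (Fin 4) F) (hU : hᵀ * H4 * h.map σ = H4) (hdet : h.det = 1)
    (h00 : h 0 0 = 0) (h01 : h 0 1 = 0) (h10 : h 1 0 = 0) (h11 : h 1 1 = 0)
    (h22 : h 2 2 = 0) (h23 : h 2 3 = 0) (h32 : h 3 2 = 0) (h33 : h 3 3 = 0) :
    ∃ μ : F, μ * μ = 1 ∧ h * K4 * hᵀ = μ • K4 := by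
  have e1 := congrFun (congrFun hU 0) 2
  have e2 := congrFun (congrFun hU 0) 3
  have e3 := congrFun (congrFun hU 1) 2
  have e4 := congrFun (congrFun hU 1) 3
  simp [Matrix.mul_apply, Fin.sum_univ_four, H4, h00, h01, h10, h11, h22, h23, h32, h33] at e1 e2 e3 e4
  have hh : h = Matrix.of ![![0, 0, h 0 2, h 0 3], ![0, 0, h 1 2, h 1 3], ![h 2 0, h 2 1, 0, 0],
      ![h 3 0, h 3 1, 0, 0]] := by
    ext i j
    fin_cases i <;> fin_cases j <;> simp [h00, h01, h10, h11, h22, h23, h32, h33]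
  have hd : (h 2 0 * h 3 1 - h 2 1 * h 3 0) * (h 0 2 * h 1 3 - h 0 3 * h 1 2) = 1 := by
    rw [mul_comm, ← det_blockanti, ← hh, hdet]
  obtain ⟨k1, k2⟩ := scalar_key σ hq _ _ _ _ _ _ _ _ e1 e2 e3 e4 hd
  refine ⟨-(h 2 0 * h 3 1 - h 2 1 * h 3 0), by linear_combination k2, ?_⟩
  ext i j
  fin_cases i <;> fin_cases j <;>
    simp [Matrix.mul_apply, Fin.sum_univ_four, K4, h00, h01, h10, h11, h22, h23, h32, h33] <;>
    first | ring1 | linear_combination k1 | linear_combination -k1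

end Cfsg.Agent.Lib.H25.UP3
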