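import Mathlib

set_option autoImplicit false

/-!
# Elements of symmetric groups lying in several Sylow `2`-subgroups (helper25)
-/

namespace Cfsg.Agent.Lib.H25.US

open Equiv

section General

variable {G : Type*} [Group G]

/-- an element lying in two `2`-subgroups whose join contains an element of order three lies
in at least two Sylow `2`-subgroups -/
theorem not_unique_sylow_of_order_three {x : G} (H₁ H₂ : Subgroup G) (h₁ : IsPGroup 2 H₁)
    (h₂ : IsPGroup 2 H₂) (hx₁ : x ∈ H₁) (hx₂ : x ∈ H₂) {t : G} (ht : t ∈ H₁ ⊔ H₂)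
    (ht3 : orderOf t = 3) : ¬ ∃! P : Sylow 2 G, x ∈ P := by
  rintro ⟨P, -, huniq⟩
  obtain ⟨Q₁, hQ₁⟩ := h₁.exists_le_sylow
  obtain ⟨Q₂, hQ₂⟩ := h₂.exists_le_sylow
  have e1 := huniq Q₁ (hQ₁ hx₁)
  have e2 := huniq Q₂ (hQ₂ hx₂)
  have hle : H₁ ⊔ H₂ ≤ P := sup_le (e1 ▸ hQ₁) (e2 ▸ hQ₂)
  have htP := hle ht
  obtain ⟨k, hk⟩ := P.isPGroup' ⟨t, htP⟩
  have hk' : t ^ 2 ^ k = 1 := by
    have := congrArg Subtype.val hk
    simpa using this
  have hdvd : 3 ∣ 2 ^ k := by
    rw [← ht3]
    exact orderOf_dvd_of_pow_eq_one hk'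
  have := (Nat.Prime.dvd_of_dvd_pow Nat.prime_three hdvd)
  omega

theorem isPGroup_zpowers {x : G} {k : ℕ} (hx : orderOf x = 2 ^ k) :
    IsPGroup 2 (Subgroup.zpowers x) := by
  apply IsPGroup.of_card (n := k)
  rw [Nat.card_zpowers, hx]

theorem isPGroup_sup_of_commute {x z : G} (hx : IsPGroup 2 (Subgroup.zpowers x))
    (hz : IsPGroup 2 (Subgroup.zpowers z)) (hc : Commute x z) :
    IsPGroup 2 (Subgroup.zpowers x ⊔ Subgroup.zpowers z : Subgroup G) := by
  apply IsPGroup.to_sup_of_normal_right' hx hz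
  refine le_trans ?_ (Subgroup.centralizer_le_normalizer (Subgroup.zpowers z : Set G))
  rw [Subgroup.zpowers_le, Subgroup.mem_centralizer_iff]
  rintro h ⟨j, rfl⟩
  exact (hc.zpow_right j).symm.eq

end General

section Fixed

variable {Z : Type*} [Fintype Z] [DecidableEq Z]

/-- three fixed points: two Sylow subgroups -/
theorem not_unique_of_three_fixed {x : Perm Z} {k : ℕ} (hx : orderOf x = 2 ^ k) {a b c : Z}
    (hab : a ≠ b) (hac : a ≠ c) (hbc : b ≠ c) (ha : x a = a) (hb : x b = b) (hc : x c = c) :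
    ¬ ∃! P : Sylow 2 (Perm Z), x ∈ P := by
  have hcomm : ∀ u v : Z, x u = u → x v = v → Commute x (swap u v) := by
    intro u v hu hv
    have : x * swap u v * x⁻¹ = swap u v := by
      rw [← swap_apply_apply, hu, hv]
    show x * swap u v = swap u v * x
    calc x * swap u v = (x * swap u v * x⁻¹) * x := by group
      _ = swap u v * x := by rw [this]
  have hsw : ∀ u v : Z, u ≠ v → IsPGroup 2 (Subgroup.zpowers (swap u v)) := by
    intro u v huv
    apply isPGroup_zpowers (k := 1)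
    rw [pow_one]
    exact Perm.IsSwap.orderOf ⟨u, v, huv, rfl⟩
  have hxp := isPGroup_zpowers hx
  apply not_unique_sylow_of_order_three
    (Subgroup.zpowers x ⊔ Subgroup.zpowers (swap a b))
    (Subgroup.zpowers x ⊔ Subgroup.zpowers (swap a c))
    (isPGroup_sup_of_commute hxp (hsw a b hab) (hcomm a b ha hb))
    (isPGroup_sup_of_commute hxp (hsw a c hac) (hcomm a c ha hc))
    (Subgroup.mem_sup_left (Subgroup.mem_zpowers x))
    (Subgroup.mem_sup_left (Subgroup.mem_zpowers x))
    (t := swap a b * swap a c)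
  · apply Subgroup.mul_mem
    · exact Subgroup.mem_sup_left (Subgroup.mem_sup_right (Subgroup.mem_zpowers _))
    · exact Subgroup.mem_sup_right (Subgroup.mem_sup_right (Subgroup.mem_zpowers _))
  · exact (Perm.isThreeCycle_swap_mul_swap_same hab hac hbc).orderOf

end Fixed

end Cfsg.Agent.Lib.H25.US
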