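import Mathlib
import Cfsg.Agent.Lib.H25.USylA

set_option autoImplicit false

/-!
# Two cycles of the same length: two Sylow `2`-subgroups (helper25)
-/

namespace Cfsg.Agent.Lib.H25.US

open Equiv

variable {Z : Type*}

/-- the permutations moving each point inside its `τ`-pair -/
def pairGroup (τ : Z → Z) (hτ : ∀ w, τ (τ w) = w) : Subgroup (Perm Z) where
  carrier := {h | ∀ w, h w = w ∨ h w = τ w}
  one_mem' := fun _ => Or.inl rfl
  mul_mem' := by
    intro a b ha hb w
    rw [Perm.mul_apply]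
    rcases hb w with h | h
    · rw [h]; exact ha w
    · rw [h]
      rcases ha (τ w) with h' | h'
      · exact Or.inr h'
      · left; rw [h', hτ]
  inv_mem' := by
    intro a ha w
    have e : a (a⁻¹ w) = w := by rw [← Perm.mul_apply, mul_inv_cancel, Perm.one_apply]
    rcases ha (a⁻¹ w) with h | h
    · left
      rw [e] at h
      exact h.symm
    · right
      rw [e] at h
      have := congrArg τ h
      rw [hτ] at this
      exact this.symm

theorem mem_pairGroup {τ : Z → Z} {hτ : ∀ w, τ (τ w) = w} {h : Perm Z} :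
    h ∈ pairGroup τ hτ ↔ ∀ w, h w = w ∨ h w = τ w := Iff.rfl

theorem pairGroup_sq {τ : Z → Z} {hτ : ∀ w, τ (τ w) = w} {h : Perm Z}
    (hh : h ∈ pairGroup τ hτ) : h * h = 1 := by
  ext w
  rw [Perm.mul_apply, Perm.one_apply]
  rcases hh w with h1 | h1
  · rw [h1, h1]
  · rw [h1]
    rcases hh (τ w) with h2 | h2
    · have : h (τ w) = h w := by rw [h2, h1]
      have h3 := h.injective this
      rw [h2, h3]
    · rw [h2, hτ]

theorem isPGroup_pairGroup (τ : Z → Z) (hτ : ∀ w, τ (τ w) = w) :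
    IsPGroup 2 (pairGroup τ hτ) := by
  intro g
  refine ⟨1, ?_⟩
  apply Subtype.ext
  rw [pow_one, pow_two]
  exact pairGroup_sq g.2

theorem conj_mem_pairGroup {τ : Z → Z} {hτ : ∀ w, τ (τ w) = w} {y : Perm Z}
    (hy : ∀ w, τ (y w) = y (τ w)) {h : Perm Z} (hh : h ∈ pairGroup τ hτ) :
    y * h * y⁻¹ ∈ pairGroup τ hτ := by
  intro w
  have e : y (y⁻¹ w) = w := by rw [← Perm.mul_apply, mul_inv_cancel, Perm.one_apply]
  rw [Perm.mul_apply, Perm.mul_apply]
  rcases hh (y⁻¹ w) with h1 | h1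
  · left; rw [h1, e]
  · right; rw [h1, ← hy, e]

theorem mem_normalizer_pairGroup {τ : Z → Z} {hτ : ∀ w, τ (τ w) = w} {y : Perm Z}
    (hy : ∀ w, τ (y w) = y (τ w)) :
    y ∈ Subgroup.normalizer ((pairGroup τ hτ : Subgroup (Perm Z)) : Set (Perm Z)) := by
  have hy' : ∀ w, τ (y⁻¹ w) = y⁻¹ (τ w) := by
    intro w
    have e : y (y⁻¹ w) = w := by rw [← Perm.mul_apply, mul_inv_cancel, Perm.one_apply]
    apply y.injective
    rw [← hy, e, ← Perm.mul_apply, mul_inv_cancel, Perm.one_apply]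
  rw [Subgroup.mem_normalizer_iff]
  intro h
  constructor
  · exact conj_mem_pairGroup hy
  · intro hh
    have := conj_mem_pairGroup (hτ := hτ) hy' hh
    have e : y⁻¹ * (y * h * y⁻¹) * y⁻¹⁻¹ = h := by group
    rwa [e] at this

theorem swap_mem_pairGroup [DecidableEq Z] {τ : Z → Z} {hτ : ∀ w, τ (τ w) = w} (u : Z) :
    swap u (τ u) ∈ pairGroup τ hτ := by
  intro w
  by_cases h1 : w = u
  · right; rw [h1, swap_apply_left]
  · by_cases h2 : w = τ u
    · right; rw [h2, swap_apply_right, hτ]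
    · left; exact swap_apply_of_ne_of_ne h1 h2

variable [Fintype Z] [DecidableEq Z]

/-- two cycles of the same length: two Sylow subgroups -/
theorem not_unique_of_two_cycles {x : Perm Z} {k : ℕ} (hx : orderOf x = 2 ^ k) {c c' : Perm Z}
    (hc : c ∈ x.cycleFactorsFinset) (hc' : c' ∈ x.cycleFactorsFinset) (hne : c ≠ c')
    (hcard : c.support.card = c'.support.card) : ¬ ∃! P : Sylow 2 (Perm Z), x ∈ P := by
  obtain ⟨hcyc, hcx⟩ := Perm.mem_cycleFactorsFinset_iff.1 hc
  obtain ⟨hcyc', hcx'⟩ := Perm.mem_cycleFactorsFinset_iff.1 hc'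
  have hdisj : Perm.Disjoint c c' := Perm.cycleFactorsFinset_pairwise_disjoint x hc hc' hne
  obtain ⟨g, hg⟩ := isConj_iff.1 (hcyc.isConj hcyc' hcard)
  -- `g` intertwines
  have hgc : ∀ w, c' (g w) = g (c w) := by
    intro w
    rw [← hg]
    simp
  have hgc' : ∀ w, g⁻¹ (c' w) = c (g⁻¹ w) := by
    intro w
    apply g.injective
    rw [← hgc]
    simp
  have hsupp : ∀ w, c' (g w) = g w ↔ c w = w := by
    intro w
    rw [hgc]
    exact g.injective.eq_iff
  have hsupp' : ∀ w, c (g⁻¹ w) = g⁻¹ w ↔ c' w = w := by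
    intro w
    rw [← hsupp]
    simp
  -- commutation with `x`
  have hcomm : Commute c x := Perm.self_mem_cycle_factors_commute hc
  have hcomm' : Commute c' x := Perm.self_mem_cycle_factors_commute hc'
  have hinv : ∀ w, c (x w) = x w ↔ c w = w := by
    intro w
    have : c (x w) = x (c w) := by
      rw [← Perm.mul_apply, hcomm.eq, Perm.mul_apply]
    rw [this]
    exact x.injective.eq_iff
  have hinv' : ∀ w, c' (x w) = x w ↔ c' w = w := by
    intro w
    have : c' (x w) = x (c' w) := by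
      rw [← Perm.mul_apply, hcomm'.eq, Perm.mul_apply]
    rw [this]
    exact x.injective.eq_iff
  have hxc : ∀ w, c w ≠ w → x w = c w := fun w hw => (hcx w (Perm.mem_support.2 hw)).symm
  have hxc' : ∀ w, c' w ≠ w → x w = c' w := fun w hw => (hcx' w (Perm.mem_support.2 hw)).symm
  -- the involution
  set τ : Z → Z := fun w => if c w ≠ w then g w else if c' w ≠ w then g⁻¹ w else w with hτdef
  have τ1 : ∀ w, c w ≠ w → τ w = g w := fun w hw => by simp only [hτdef, if_pos hw]
  have τ2 : ∀ w, c w = w → c' w ≠ w → τ w = g⁻¹ w := fun w hw hw' => by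
    simp only [hτdef, if_neg (not_not.2 hw), if_pos hw']
  have τ3 : ∀ w, c w = w → c' w = w → τ w = w := fun w hw hw' => by
    simp only [hτdef, if_neg (not_not.2 hw), if_neg (not_not.2 hw')]
  have hτ : ∀ w, τ (τ w) = w := by
    intro w
    by_cases h1 : c w = w
    · by_cases h2 : c' w = w
      · rw [τ3 w h1 h2, τ3 w h1 h2]
      · rw [τ2 w h1 h2, τ1 _ (fun h => h2 ((hsupp' w).1 h))]
        simp
    · have h3 : c' (g w) ≠ g w := fun h => h1 ((hsupp w).1 h)
      have h4 : c (g w) = g w := (hdisj (g w)).resolve_right h3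
      rw [τ1 w h1, τ2 _ h4 h3]
      simp
  have hτx : ∀ w, τ (x w) = x (τ w) := by
    intro w
    by_cases h1 : c w = w
    · by_cases h2 : c' w = w
      · rw [τ3 w h1 h2, τ3 _ ((hinv w).2 h1) ((hinv' w).2 h2)]
      · have h3 : c (g⁻¹ w) ≠ g⁻¹ w := fun h => h2 ((hsupp' w).1 h)
        rw [τ2 w h1 h2, τ2 _ ((hinv w).2 h1) (fun h => h2 ((hinv' w).1 h)), hxc' w h2,
          hxc _ h3, hgc']
    · have h3 : c' (g w) ≠ g w := fun h => h1 ((hsupp w).1 h)
      rw [τ1 w h1, τ1 _ (fun h => h1 ((hinv w).1 h)), hxc w h1, hxc' _ h3, hgc]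
  -- the point `u₀`
  obtain ⟨u₀, hu₀, -⟩ := id hcyc
  have hτu : τ u₀ = g u₀ := τ1 u₀ hu₀
  have h3 : c' (g u₀) ≠ g u₀ := fun h => hu₀ ((hsupp u₀).1 h)
  have h4 : c (g u₀) = g u₀ := (hdisj (g u₀)).resolve_right h3
  -- the two `2`-groups
  have hxp := isPGroup_zpowers hx
  have hcp : IsPGroup 2 (Subgroup.zpowers c) := by
    have hmem : c.support.card ∈ x.cycleType := by
      rw [Perm.cycleType_def]
      exact Multiset.mem_map.2 ⟨c, hc, rfl⟩
    have hdvd := Perm.dvd_of_mem_cycleType hmem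
    rw [hx, ← hcyc.orderOf] at hdvd
    obtain ⟨j, -, hj⟩ := (Nat.dvd_prime_pow Nat.prime_two).1 hdvd
    exact isPGroup_zpowers hj
  have hH₁ : IsPGroup 2 (Subgroup.zpowers x ⊔ Subgroup.zpowers c : Subgroup (Perm Z)) :=
    isPGroup_sup_of_commute hxp hcp hcomm.symm
  have hH₂ : IsPGroup 2 (Subgroup.zpowers x ⊔ pairGroup τ hτ : Subgroup (Perm Z)) := by
    apply IsPGroup.to_sup_of_normal_right' hxp (isPGroup_pairGroup τ hτ)
    rw [Subgroup.zpowers_le]
    exact mem_normalizer_pairGroup hτx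
  set z : Perm Z := swap u₀ (τ u₀) with hz
  have hzE : z ∈ pairGroup τ hτ := swap_mem_pairGroup u₀
  apply not_unique_sylow_of_order_three _ _ hH₁ hH₂
    (Subgroup.mem_sup_left (Subgroup.mem_zpowers x))
    (Subgroup.mem_sup_left (Subgroup.mem_zpowers x)) (t := c⁻¹ * z * c * z)
  · have hc1 : c ∈ (Subgroup.zpowers x ⊔ Subgroup.zpowers c) ⊔
        (Subgroup.zpowers x ⊔ pairGroup τ hτ) :=
      Subgroup.mem_sup_left (Subgroup.mem_sup_right (Subgroup.mem_zpowers c))
    have hz1 : z ∈ (Subgroup.zpowers x ⊔ Subgroup.zpowers c) ⊔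
        (Subgroup.zpowers x ⊔ pairGroup τ hτ) :=
      Subgroup.mem_sup_right (Subgroup.mem_sup_right hzE)
    exact Subgroup.mul_mem _ (Subgroup.mul_mem _ (Subgroup.mul_mem _
      (Subgroup.inv_mem _ hc1) hz1) hc1) hz1
  · have e1 : c⁻¹ * z * c = swap (c⁻¹ u₀) (c⁻¹ (τ u₀)) := by
      rw [hz, swap_apply_apply]
      group
    have e2 : c⁻¹ (τ u₀) = τ u₀ := by
      rw [hτu, Perm.inv_eq_iff_eq, h4]
    rw [e1, e2, hz, swap_comm (c⁻¹ u₀), swap_comm u₀]
    apply Perm.IsThreeCycle.orderOf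
    apply Perm.isThreeCycle_swap_mul_swap_same
    · rw [hτu]
      intro h
      have : c (g u₀) = u₀ := by rw [h]; simp
      rw [h4] at this
      rw [this] at h3 h4
      exact hu₀ h4
    · rw [hτu]
      intro h
      rw [h] at h4
      exact hu₀ h4
    · intro h
      apply hu₀
      have := congrArg c h
      simpa using this.symm

end Cfsg.Agent.Lib.H25.US
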