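import Mathlib

set_option autoImplicit false

/-!
# Permutations with distinct orbit sizes: antipodal points (helper25)
-/

namespace Cfsg.Agent.Lib.H25.US

open Equiv

variable {Z : Type*}

/-- two points have the same period -/
def SP (x : Perm Z) (a b : Z) : Prop := ∀ n : ℕ, (x ^ n) a = a ↔ (x ^ n) b = b

/-- distinct orbit sizes (except for fixed points) and at most two fixed points -/
def Good (x : Perm Z) : Prop :=
  (∀ a b : Z, SP x a b → x.SameCycle a b ∨ (x a = a ∧ x b = b)) ∧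
  (∀ a b c : Z, x a = a → x b = b → x c = c → a = b ∨ a = c ∨ b = c)

/-- antipodal points of a cycle of even length -/
def Anti (x : Perm Z) (w w' : Z) : Prop := w' ≠ w ∧ ∃ j : ℕ, (x ^ j) w = w' ∧ (x ^ j) w' = w

theorem conj_pow_apply (g x : Perm Z) (n : ℕ) (a : Z) :
    ((g * x * g⁻¹) ^ n) a = g ((x ^ n) (g⁻¹ a)) := by
  rw [conj_pow]
  rfl

theorem sp_conj {g x : Perm Z} {a b : Z} (h : SP (g * x * g⁻¹) a b) : SP x (g⁻¹ a) (g⁻¹ b) := by
  intro n
  have h1 := h n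
  rw [conj_pow_apply, conj_pow_apply] at h1
  have e : ∀ c : Z, g ((x ^ n) (g⁻¹ c)) = c ↔ (x ^ n) (g⁻¹ c) = g⁻¹ c := by
    intro c
    rw [← Perm.eq_inv_iff_eq, eq_comm]
  rwa [e, e] at h1

theorem Good.conj {x : Perm Z} (hx : Good x) (g : Perm Z) : Good (g * x * g⁻¹) := by
  have e : ∀ c : Z, (g * x * g⁻¹) c = c ↔ x (g⁻¹ c) = g⁻¹ c := by
    intro c
    show g (x (g⁻¹ c)) = c ↔ _
    rw [← Perm.eq_inv_iff_eq, eq_comm]
  constructor
  · intro a b hab
    rcases hx.1 _ _ (sp_conj hab) with h | h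
    · left
      rw [Perm.sameCycle_conj]
      exact h
    · right
      rw [e, e]
      exact h
  · intro a b c ha hb hc
    rw [e] at ha hb hc
    rcases hx.2 _ _ _ ha hb hc with h | h | h
    · exact Or.inl (g⁻¹.injective h)
    · exact Or.inr (Or.inl (g⁻¹.injective h))
    · exact Or.inr (Or.inr (g⁻¹.injective h))

theorem Anti.conj {x : Perm Z} {w w' : Z} (h : Anti x w w') (g : Perm Z) :
    Anti (g * x * g⁻¹) (g w) (g w') := by
  obtain ⟨hne, j, h1, h2⟩ := h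
  refine ⟨fun h => hne (g.injective h), j, ?_, ?_⟩
  · rw [conj_pow_apply, ← Perm.mul_apply g⁻¹, inv_mul_cancel, Perm.one_apply, h1]
  · rw [conj_pow_apply, ← Perm.mul_apply g⁻¹, inv_mul_cancel, Perm.one_apply, h2]

theorem Anti.not_fixed {x : Perm Z} {w w' : Z} (h : Anti x w w') : x w ≠ w := by
  obtain ⟨hne, j, h1, -⟩ := h
  intro hfix
  apply hne
  rw [← h1]
  have : ∀ n : ℕ, (x ^ n) w = w := by
    intro n
    induction n with
    | zero => rfl
    | succ n ih => rw [pow_succ, Perm.mul_apply, hfix, ih]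
  exact this j

theorem pow_apply_eq_self_iff (x : Perm Z) (w : Z) (n : ℕ) :
    (x ^ n) w = w ↔ Function.minimalPeriod x w ∣ n := by
  rw [← Function.isPeriodicPt_iff_minimalPeriod_dvd]
  rfl

theorem dvd_sub_of_half {L j k : ℕ} (h1 : L ∣ 2 * j) (h2 : ¬ L ∣ j) (h3 : L ∣ 2 * k)
    (h4 : ¬ L ∣ k) (hjk : j ≤ k) : L ∣ k - j := by
  obtain ⟨a, ha⟩ := h1
  obtain ⟨b, hb⟩ := h3
  rcases Nat.even_or_odd' a with ⟨a', rfl | rfl⟩
  · exfalso
    apply h2
    refine ⟨a', ?_⟩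
    have : 2 * j = 2 * (L * a') := by rw [ha]; ring
    omega
  rcases Nat.even_or_odd' b with ⟨b', rfl | rfl⟩
  · exfalso
    apply h4
    refine ⟨b', ?_⟩
    have : 2 * k = 2 * (L * b') := by rw [hb]; ring
    omega
  have e1 : 2 * j = 2 * (L * a') + L := by rw [ha]; ring
  have e2 : 2 * k = 2 * (L * b') + L := by rw [hb]; ring
  have e3 : k - j = L * b' - L * a' := by omega
  rw [e3]
  exact Nat.dvd_sub (Dvd.intro _ rfl) (Dvd.intro _ rfl)

/-- the antipode is unique -/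
theorem Anti.unique {x : Perm Z} {w w₁ w₂ : Z} (h₁ : Anti x w w₁) (h₂ : Anti x w w₂) :
    w₁ = w₂ := by
  obtain ⟨hne₁, j, hj1, hj2⟩ := h₁
  obtain ⟨hne₂, k, hk1, hk2⟩ := h₂
  set L := Function.minimalPeriod x w with hL
  have d1 : L ∣ 2 * j := by
    rw [← pow_apply_eq_self_iff, two_mul, pow_add, Perm.mul_apply, hj1, hj2]
  have d2 : ¬ L ∣ j := by
    rw [← pow_apply_eq_self_iff, hj1]
    exact hne₁
  have d3 : L ∣ 2 * k := by
    rw [← pow_apply_eq_self_iff, two_mul, pow_add, Perm.mul_apply, hk1, hk2]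
  have d4 : ¬ L ∣ k := by
    rw [← pow_apply_eq_self_iff, hk1]
    exact hne₂
  have key : ∀ {j k : ℕ}, L ∣ 2 * j → ¬ L ∣ j → L ∣ 2 * k → ¬ L ∣ k → j ≤ k →
      (x ^ j) w = (x ^ k) w := by
    intro j k d1 d2 d3 d4 hjk
    have := dvd_sub_of_half d1 d2 d3 d4 hjk
    rw [← pow_apply_eq_self_iff] at this
    have e : k = j + (k - j) := by omega
    rw [e, pow_add, Perm.mul_apply, this]
  rw [← hj1, ← hk1]
  rcases le_total j k with h | h
  · exact key d1 d2 d3 d4 h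
  · exact (key d3 d4 d1 d2 h).symm

end Cfsg.Agent.Lib.H25.US
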