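import Mathlib
import Cfsg.Agent.Lib.H25.USylC
import Cfsg.Agent.Lib.H25.MaxM

set_option autoImplicit false

/-!
# Good permutations in the wreath model (helper25)
-/

namespace Cfsg.Agent.Lib.H25.US

open Equiv Cfsg.Agent.Lib.H25.Alt Cfsg.Agent.Lib.H25.Mx

variable {Y R : Type*}

/-- powers of an element of the wreath product -/
theorem pow_bs_tp_apply (f : Y → ZMod 2) (σ : Perm Y) (n : ℕ) (y : Y) :
    ∃ F : ZMod 2, ∀ i : ZMod 2,
      ((bs f * tp σ : Perm (X 2 Y R)) ^ n) (Sum.inl (y, i)) = Sum.inl ((σ ^ n) y, i + F) := by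
  induction n with
  | zero => exact ⟨0, fun i => by simp⟩
  | succ n ih =>
    obtain ⟨F, hF⟩ := ih
    refine ⟨F + f (σ ((σ ^ n) y)), fun i => ?_⟩
    rw [pow_succ', Perm.mul_apply, hF, bs_tp_apply_inl, pow_succ', Perm.mul_apply, add_assoc]

theorem pow_bs_tp_apply_inr (f : Y → ZMod 2) (σ : Perm Y) (n : ℕ) (r : R) :
    ((bs f * tp σ : Perm (X 2 Y R)) ^ n) (Sum.inr r) = Sum.inr r := by
  induction n with
  | zero => rfl
  | succ n ih => rw [pow_succ', Perm.mul_apply, ih, bs_tp_apply_inr]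

theorem inl_ne_succ (y : Y) (i : ZMod 2) : (Sum.inl (y, i + 1) : X 2 Y R) ≠ Sum.inl (y, i) := by
  intro h
  simp only [Sum.inl.injEq, Prod.mk.injEq, true_and] at h
  revert h
  revert i
  decide

/-- the two points of a block have the same period -/
theorem sp_block (f : Y → ZMod 2) (σ : Perm Y) (y : Y) (i j : ZMod 2) :
    SP (bs f * tp σ : Perm (X 2 Y R)) (Sum.inl (y, i)) (Sum.inl (y, j)) := by
  intro n
  obtain ⟨F, hF⟩ := pow_bs_tp_apply (R := R) f σ n y
  rw [hF, hF]
  simp only [Sum.inl.injEq, Prod.mk.injEq]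
  constructor
  · rintro ⟨h1, h2⟩
    refine ⟨h1, ?_⟩
    have : F = 0 := by
      have := add_left_cancel (a := i) (b := F) (c := 0) (by rw [h2, add_zero])
      exact this
    rw [this, add_zero]
  · rintro ⟨h1, h2⟩
    refine ⟨h1, ?_⟩
    have : F = 0 := by
      have := add_left_cancel (a := j) (b := F) (c := 0) (by rw [h2, add_zero])
      exact this
    rw [this, add_zero]

variable [Finite Y] [Finite R]

/-- each block is pointwise fixed or consists of antipodal points -/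
theorem fixed_or_anti {f : Y → ZMod 2} {σ : Perm Y}
    (hx : Good (bs f * tp σ : Perm (X 2 Y R))) (y : Y) (i : ZMod 2) :
    ((bs f * tp σ : Perm (X 2 Y R)) (Sum.inl (y, i)) = Sum.inl (y, i) ∧
      (bs f * tp σ : Perm (X 2 Y R)) (Sum.inl (y, i + 1)) = Sum.inl (y, i + 1)) ∨
    Anti (bs f * tp σ : Perm (X 2 Y R)) (Sum.inl (y, i)) (Sum.inl (y, i + 1)) := by
  rcases hx.1 _ _ (sp_block (R := R) f σ y i (i + 1)) with h | h
  · right
    obtain ⟨n, hn⟩ := h.exists_nat_pow_eq
    refine ⟨inl_ne_succ y i, n, hn, ?_⟩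
    obtain ⟨F, hF⟩ := pow_bs_tp_apply (R := R) f σ n y
    rw [hF] at hn ⊢
    simp only [Sum.inl.injEq, Prod.mk.injEq] at hn
    obtain ⟨h1, h2⟩ := hn
    have hF1 : F = 1 := add_left_cancel h2
    rw [h1, hF1, add_assoc]
    congr 2
    have : (1 : ZMod 2) + 1 = 0 := by decide
    rw [this, add_zero]
  · left
    exact h

end Cfsg.Agent.Lib.H25.US
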