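import Mathlib
import Cfsg.Agent.Lib.H25.USylD

set_option autoImplicit false

/-!
# Conjugating elements preserve the blocks (helper25)
-/

namespace Cfsg.Agent.Lib.H25.US

open Equiv Cfsg.Agent.Lib.H25.Alt Cfsg.Agent.Lib.H25.Mx

variable {Y R : Type*} [Finite Y] [Finite R]

/-- if a good element of the full block stabilizer is conjugated into the block stabilizer,
the conjugating element lies in the block stabilizer -/
theorem mem_wr_top_of_conj [Subsingleton R] {f' f : Y → ZMod 2} {σ' σ : Perm Y}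
    {g : Perm (X 2 Y R)} (hx' : Good (bs f' * tp σ' : Perm (X 2 Y R)))
    (hconj : g * (bs f' * tp σ') * g⁻¹ = bs f * tp σ) :
    g ∈ wr 2 R (⊤ : Subgroup (Perm Y)) := by
  classical
  have hx : Good (bs f * tp σ : Perm (X 2 Y R)) := hconj ▸ hx'.conj g
  set x' : Perm (X 2 Y R) := bs f' * tp σ' with hx'def
  set x : Perm (X 2 Y R) := bs f * tp σ with hxdef
  have hfix : ∀ w, x' w = w → x (g w) = g w := by
    intro w hw
    rw [← hconj, Perm.mul_apply, Perm.mul_apply, ← Perm.mul_apply g⁻¹, inv_mul_cancel,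
      Perm.one_apply, hw]
  have hxr : ∀ r : R, x (Sum.inr r) = Sum.inr r := fun r => bs_tp_apply_inr f σ r
  have both : ∀ (y₁ : Y) (i₁ : ZMod 2), x (Sum.inl (y₁, i₁)) = Sum.inl (y₁, i₁) →
      x (Sum.inl (y₁, i₁ + 1)) = Sum.inl (y₁, i₁ + 1) := by
    intro y₁ i₁ h
    rcases fixed_or_anti hx y₁ i₁ with h' | h'
    · exact h'.2
    · exact absurd h h'.not_fixed
  have three : ∀ (y₁ : Y) (i₁ : ZMod 2) (r : R), x (Sum.inl (y₁, i₁)) = Sum.inl (y₁, i₁) →
      False := by
    intro y₁ i₁ r h
    rcases hx.2 _ _ _ h (both y₁ i₁ h) (hxr r) with h' | h' | h'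
    · exact inl_ne_succ y₁ i₁ h'.symm
    · simp at h'
    · simp at h'
  -- fixed points of `R`
  have h1 : ∀ r : R, ∃ r' : R, g (Sum.inr r) = Sum.inr r' := by
    intro r
    have hr := hfix (Sum.inr r) (bs_tp_apply_inr f' σ' r)
    rcases hg : g (Sum.inr r) with ⟨y₁, i₁⟩ | r'
    · rw [hg] at hr
      exact (three y₁ i₁ r hr).elim
    · exact ⟨r', rfl⟩
  -- blocks
  have h2 : ∀ y : Y, ∃ (y₁ : Y) (i₁ : ZMod 2), g (Sum.inl (y, 0)) = Sum.inl (y₁, i₁) ∧
      g (Sum.inl (y, 1)) = Sum.inl (y₁, i₁ + 1) := by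
    intro y
    have hne : g (Sum.inl (y, 1)) ≠ g (Sum.inl (y, 0)) := by
      intro h
      have := g.injective h
      simp only [Sum.inl.injEq, Prod.mk.injEq, true_and] at this
      exact zero_ne_one (α := ZMod 2) this.symm
    rcases fixed_or_anti hx' y 0 with ⟨h0, h1'⟩ | hanti
    · rw [zero_add] at h1'
      have hf0 := hfix _ h0
      have hf1 := hfix _ h1'
      rcases hg0 : g (Sum.inl (y, 0)) with ⟨y₁, i₁⟩ | r'
      · refine ⟨y₁, i₁, rfl, ?_⟩
        rw [hg0] at hf0 hne
        rcases hx.2 _ _ _ hf0 (both y₁ i₁ hf0) hf1 with h' | h' | h'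
        · exact absurd h'.symm (inl_ne_succ y₁ i₁)
        · exact absurd h'.symm hne
        · exact h'.symm
      · exfalso
        rw [hg0] at hne
        rcases hg1 : g (Sum.inl (y, 1)) with ⟨y₂, i₂⟩ | r''
        · rw [hg1] at hf1
          exact three y₂ i₂ r' hf1
        · rw [hg1] at hne
          exact hne (congrArg Sum.inr (Subsingleton.elim r'' r'))
    · have hanti' := hanti.conj g
      rw [hconj, zero_add] at hanti'
      rcases hg0 : g (Sum.inl (y, 0)) with ⟨y₁, i₁⟩ | r'
      · refine ⟨y₁, i₁, rfl, ?_⟩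
        rw [hg0] at hanti'
        rcases fixed_or_anti hx y₁ i₁ with h' | h'
        · exact absurd h'.1 hanti'.not_fixed
        · exact hanti'.unique h'
      · rw [hg0] at hanti'
        exact absurd (hxr r') hanti'.not_fixed
  choose γ ι hγ0 hγ1 using h2
  have hγinj : Function.Injective γ := by
    intro y y' hyy'
    by_contra hne
    -- three points in one block
    have e0 := hγ0 y
    have e1 := hγ1 y
    have e0' := hγ0 y'
    rw [← hyy'] at e0'
    have hcases : ι y' = ι y ∨ ι y' = ι y + 1 := by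
      by_cases h : ι y' = ι y
      · exact Or.inl h
      · exact Or.inr (zmod2_eq_add_one (Ne.symm h))
    rcases hcases with h | h
    · rw [h, ← e0] at e0'
      have := g.injective e0'
      simp only [Sum.inl.injEq, Prod.mk.injEq, and_true] at this
      exact hne this.symm
    · rw [h, ← e1] at e0'
      have := g.injective e0'
      simp only [Sum.inl.injEq, Prod.mk.injEq] at this
      exact hne this.1.symm
  have hγbij : Function.Bijective γ := Finite.injective_iff_bijective.1 hγinj
  set γp : Perm Y := Equiv.ofBijective γ hγbij with hγp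
  refine ⟨fun y₁ => ι (γp.symm y₁), γp, Subgroup.mem_top _, ?_⟩
  ext w
  rcases w with ⟨y, i⟩ | r
  · rw [bs_tp_apply_inl]
    have hγy : γp y = γ y := rfl
    rw [symm_apply_apply, hγy]
    rcases zmod2_cases i with rfl | rfl
    · rw [hγ0, zero_add]
    · rw [hγ1, add_comm]
  · rw [bs_tp_apply_inr]
    obtain ⟨r', hr'⟩ := h1 r
    rw [hr', Subsingleton.elim r' r]

end Cfsg.Agent.Lib.H25.US
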