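import Mathlib
import Cfsg.Agent.Lib.H25.USylE

set_option autoImplicit false

/-!
# Products in the wreath model and the projection of a good permutation (helper25)
-/

namespace Cfsg.Agent.Lib.H25.US

open Equiv Cfsg.Agent.Lib.H25.Alt Cfsg.Agent.Lib.H25.Mx

variable {p : ℕ} {Y R : Type*}

theorem bs_tp_mul (f g : Y → ZMod p) (σ τ : Perm Y) :
    (bs f * tp σ : Perm (X p Y R)) * (bs g * tp τ) = bs (f + g ∘ σ.symm) * tp (σ * τ) := by
  rw [bs_add, tp_mul, mul_assoc, ← mul_assoc (tp σ), tp_bs]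
  simp only [mul_assoc]

theorem bs_tp_inv (f : Y → ZMod p) (σ : Perm Y) :
    (bs f * tp σ : Perm (X p Y R))⁻¹ = bs (-(f ∘ σ)) * tp σ⁻¹ := by
  rw [mul_inv_rev, ← tp_inv, ← bs_neg, tp_bs]
  rfl

theorem conj_bs_tp (a f : Y → ZMod p) (γ σ : Perm Y) :
    ∃ F : Y → ZMod p, (bs a * tp γ : Perm (X p Y R)) * (bs f * tp σ) * (bs a * tp γ)⁻¹ =
      bs F * tp (γ * σ * γ⁻¹) := by
  rw [bs_tp_inv, bs_tp_mul, bs_tp_mul]
  exact ⟨_, rfl⟩

theorem conj_mem_wr {S' : Subgroup (Perm Y)} (a : Y → ZMod p) {γ : Perm Y}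
    (hγ : ∀ s ∈ S', γ * s * γ⁻¹ ∈ S') {h : Perm (X p Y R)} (hh : h ∈ wr p R S') :
    (bs a * tp γ) * h * (bs a * tp γ)⁻¹ ∈ wr p R S' := by
  obtain ⟨f, s, hs, rfl⟩ := hh
  obtain ⟨F, hF⟩ := conj_bs_tp (R := R) a f γ s
  rw [hF]
  exact ⟨F, _, hγ s hs, rfl⟩

theorem mem_normalizer_wr {S' : Subgroup (Perm Y)} (a : Y → ZMod p) {γ : Perm Y}
    (hγ : γ ∈ Subgroup.normalizer (S' : Set (Perm Y))) :
    (bs a * tp γ : Perm (X p Y R)) ∈
      Subgroup.normalizer ((wr p R S' : Subgroup (Perm (X p Y R))) : Set (Perm (X p Y R))) := by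
  rw [Subgroup.mem_normalizer_iff] at hγ
  rw [Subgroup.mem_normalizer_iff]
  intro h
  constructor
  · exact conj_mem_wr a (fun s hs => (hγ s).1 hs)
  · intro hh
    have hγ' : ∀ s ∈ S', γ⁻¹ * s * γ⁻¹⁻¹ ∈ S' := by
      intro s hs
      rw [hγ]
      have : γ * (γ⁻¹ * s * γ⁻¹⁻¹) * γ⁻¹ = s := by group
      rwa [this]
    have h1 := conj_mem_wr (R := R) (-(a ∘ γ)) hγ' hh
    rw [← bs_tp_inv] at h1
    have e : (bs a * tp γ : Perm (X p Y R))⁻¹ * ((bs a * tp γ) * h * (bs a * tp γ)⁻¹) *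
        (bs a * tp γ)⁻¹⁻¹ = h := by group
    rwa [e] at h1

section Proj

variable [Finite Y] [Finite R]

/-- for a block of antipodal points, the period doubles -/
theorem pow_apply_eq_self_iff_of_anti {f : Y → ZMod 2} {σ : Perm Y} {y : Y}
    (hanti : Anti (bs f * tp σ : Perm (X 2 Y R)) (Sum.inl (y, 0)) (Sum.inl (y, 1))) (n : ℕ) :
    ((bs f * tp σ : Perm (X 2 Y R)) ^ n) (Sum.inl (y, 0)) = Sum.inl (y, 0) ↔
      2 * Function.minimalPeriod σ y ∣ n := by
  set x : Perm (X 2 Y R) := bs f * tp σ with hx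
  set q := Function.minimalPeriod σ y with hq
  have hσq : (σ ^ q) y = y := (pow_apply_eq_self_iff σ y q).2 dvd_rfl
  obtain ⟨F, hF⟩ := pow_bs_tp_apply (R := R) f σ q y
  rw [← hx, hσq] at hF
  -- powers of `x ^ q`
  have hpow : ∀ (t : ℕ) (i : ZMod 2), ((x ^ q) ^ t) (Sum.inl (y, i)) =
      Sum.inl (y, i + (t : ZMod 2) * F) := by
    intro t
    induction t with
    | zero => intro i; simp
    | succ t ih =>
      intro i
      rw [pow_succ, Perm.mul_apply, hF, ih]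
      congr 2
      push_cast
      ring
  have hF1 : F = 1 := by
    by_contra hF0
    have hF0' : F = 0 := by
      rcases zmod2_cases F with h | h
      · exact h
      · exact absurd h hF0
    obtain ⟨hne, j, hj, -⟩ := hanti
    obtain ⟨F', hF'⟩ := pow_bs_tp_apply (R := R) f σ j y
    rw [← hx] at hF'
    have h1 := hF' 0
    rw [hj] at h1
    simp only [Sum.inl.injEq, Prod.mk.injEq] at h1
    obtain ⟨t, ht⟩ := (pow_apply_eq_self_iff σ y j).1 h1.1.symm
    have h2 := hpow t 0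
    rw [← pow_mul, ← ht, hj, hF0', mul_zero, add_zero] at h2
    exact hne h2
  constructor
  · intro h
    obtain ⟨F', hF'⟩ := pow_bs_tp_apply (R := R) f σ n y
    rw [← hx] at hF'
    have h1 := hF' 0
    rw [h] at h1
    simp only [Sum.inl.injEq, Prod.mk.injEq] at h1
    obtain ⟨t, ht⟩ := (pow_apply_eq_self_iff σ y n).1 h1.1.symm
    have h2 := hpow t 0
    rw [← pow_mul, ← ht, h, hF1, mul_one, zero_add] at h2
    simp only [Sum.inl.injEq, Prod.mk.injEq, true_and] at h2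
    have h3 : 2 ∣ t := (ZMod.natCast_eq_zero_iff t 2).1 h2.symm
    obtain ⟨s, rfl⟩ := h3
    rw [ht]
    exact ⟨s, by ring⟩
  · rintro ⟨s, hs⟩
    have h2 := hpow (2 * s) 0
    have e : n = q * (2 * s) := by rw [hs]; ring
    rw [← pow_mul, ← e, hF1, mul_one, zero_add] at h2
    rw [h2]
    congr 2
    push_cast
    have : (2 : ZMod 2) = 0 := by decide
    rw [this, zero_mul]

end Proj

end Cfsg.Agent.Lib.H25.US
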