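import Mathlib
import Cfsg.Agent.Lib.H25.USylF

set_option autoImplicit false

/-!
# The projection of a good permutation is good (helper25)
-/

namespace Cfsg.Agent.Lib.H25.US

open Equiv Cfsg.Agent.Lib.H25.Alt Cfsg.Agent.Lib.H25.Mx

variable {Y R : Type*} [Finite Y] [Finite R]

theorem block_cases {f : Y → ZMod 2} {σ : Perm Y}
    (hx : Good (bs f * tp σ : Perm (X 2 Y R))) (y : Y) :
    ((bs f * tp σ : Perm (X 2 Y R)) (Sum.inl (y, 0)) = Sum.inl (y, 0) ∧
      (bs f * tp σ : Perm (X 2 Y R)) (Sum.inl (y, 1)) = Sum.inl (y, 1)) ∨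
    Anti (bs f * tp σ : Perm (X 2 Y R)) (Sum.inl (y, 0)) (Sum.inl (y, 1)) := by
  have := fixed_or_anti hx y 0
  rwa [zero_add] at this

theorem proj_fixed {f : Y → ZMod 2} {σ : Perm Y} {y : Y} {i : ZMod 2}
    (h : (bs f * tp σ : Perm (X 2 Y R)) (Sum.inl (y, i)) = Sum.inl (y, i)) : σ y = y := by
  rw [bs_tp_apply_inl] at h
  simp only [Sum.inl.injEq, Prod.mk.injEq] at h
  exact h.1

theorem sameCycle_proj {f : Y → ZMod 2} {σ : Perm Y} {y y' : Y} {i i' : ZMod 2}
    (h : (bs f * tp σ : Perm (X 2 Y R)).SameCycle (Sum.inl (y, i)) (Sum.inl (y', i'))) :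
    σ.SameCycle y y' := by
  obtain ⟨n, hn⟩ := h.exists_nat_pow_eq
  obtain ⟨F, hF⟩ := pow_bs_tp_apply (R := R) f σ n y
  rw [hF] at hn
  simp only [Sum.inl.injEq, Prod.mk.injEq] at hn
  exact ⟨n, by rw [zpow_natCast]; exact hn.1⟩

theorem sp_of_anti {f : Y → ZMod 2} {σ : Perm Y} {y y' : Y}
    (h : Anti (bs f * tp σ : Perm (X 2 Y R)) (Sum.inl (y, 0)) (Sum.inl (y, 1)))
    (h' : Anti (bs f * tp σ : Perm (X 2 Y R)) (Sum.inl (y', 0)) (Sum.inl (y', 1)))
    (hq : Function.minimalPeriod σ y = Function.minimalPeriod σ y') :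
    SP (bs f * tp σ : Perm (X 2 Y R)) (Sum.inl (y, 0)) (Sum.inl (y', 0)) := by
  intro n
  rw [pow_apply_eq_self_iff_of_anti h, pow_apply_eq_self_iff_of_anti h', hq]

/-- the projection of a good permutation is good -/
theorem Good.proj {f : Y → ZMod 2} {σ : Perm Y} (hx : Good (bs f * tp σ : Perm (X 2 Y R))) :
    Good σ := by
  constructor
  · intro y y' hsp
    have hq : Function.minimalPeriod σ y = Function.minimalPeriod σ y' := by
      rw [Function.minimalPeriod_eq_minimalPeriod_iff]
      intro n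
      exact hsp n
    have h1 : σ y = y ↔ σ y' = y' := by
      have := hsp 1
      rwa [pow_one] at this
    rcases block_cases hx y with hy | hy
    · right
      have := proj_fixed hy.1
      exact ⟨this, h1.1 this⟩
    · rcases block_cases hx y' with hy' | hy'
      · right
        have := proj_fixed hy'.1
        exact ⟨h1.2 this, this⟩
      · rcases hx.1 _ _ (sp_of_anti hy hy' hq) with h | h
        · left
          exact sameCycle_proj h
        · right
          exact ⟨proj_fixed h.1, proj_fixed h.2⟩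
  · intro a b c ha hb hc
    by_contra hcon
    push Not at hcon
    obtain ⟨hab, hac, hbc⟩ := hcon
    -- two pointwise fixed blocks
    have two_fixed : ∀ y₁ y₂ : Y, y₁ ≠ y₂ →
        ((bs f * tp σ : Perm (X 2 Y R)) (Sum.inl (y₁, 0)) = Sum.inl (y₁, 0) ∧
          (bs f * tp σ : Perm (X 2 Y R)) (Sum.inl (y₁, 1)) = Sum.inl (y₁, 1)) →
        ((bs f * tp σ : Perm (X 2 Y R)) (Sum.inl (y₂, 0)) = Sum.inl (y₂, 0) ∧
          (bs f * tp σ : Perm (X 2 Y R)) (Sum.inl (y₂, 1)) = Sum.inl (y₂, 1)) → False := by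
      intro y₁ y₂ hne h₁ h₂
      rcases hx.2 _ _ _ h₁.1 h₁.2 h₂.1 with h | h | h
      · simp only [Sum.inl.injEq, Prod.mk.injEq, true_and] at h
        exact zero_ne_one (α := ZMod 2) h
      · simp only [Sum.inl.injEq, Prod.mk.injEq, and_true] at h
        exact hne h
      · simp only [Sum.inl.injEq, Prod.mk.injEq] at h
        exact hne h.1
    -- two antipodal blocks over fixed points
    have two_anti : ∀ y₁ y₂ : Y, y₁ ≠ y₂ → σ y₁ = y₁ → σ y₂ = y₂ →
        Anti (bs f * tp σ : Perm (X 2 Y R)) (Sum.inl (y₁, 0)) (Sum.inl (y₁, 1)) →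
        Anti (bs f * tp σ : Perm (X 2 Y R)) (Sum.inl (y₂, 0)) (Sum.inl (y₂, 1)) → False := by
      intro y₁ y₂ hne hf₁ hf₂ h₁ h₂
      have hq : Function.minimalPeriod σ y₁ = Function.minimalPeriod σ y₂ := by
        rw [Function.minimalPeriod_eq_one_iff_isFixedPt.2 hf₁,
          Function.minimalPeriod_eq_one_iff_isFixedPt.2 hf₂]
      rcases hx.1 _ _ (sp_of_anti h₁ h₂ hq) with h | h
      · obtain ⟨n, hn⟩ := (sameCycle_proj h).exists_nat_pow_eq
        have : ∀ n : ℕ, (σ ^ n) y₁ = y₁ := by
          intro n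
          induction n with
          | zero => rfl
          | succ n ih => rw [pow_succ, Perm.mul_apply, hf₁, ih]
        rw [this n] at hn
        exact hne hn
      · exact h₁.not_fixed h.1
    rcases block_cases hx a with ka | ka
    · rcases block_cases hx b with kb | kb
      · exact two_fixed a b hab ka kb
      · rcases block_cases hx c with kc | kc
        · exact two_fixed a c hac ka kc
        · exact two_anti b c hbc hb hc kb kc
    · rcases block_cases hx b with kb | kb
      · rcases block_cases hx c with kc | kc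
        · exact two_fixed b c hbc kb kc
        · exact two_anti a c hac ha hc ka kc
      · exact two_anti a b hab ha hb ka kb

end Cfsg.Agent.Lib.H25.US
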