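import Mathlib
import Cfsg.Agent.Lib.H25.USylG

set_option autoImplicit false

/-!
# Good permutations lie in a unique Sylow `2`-subgroup (helper25)
-/

namespace Cfsg.Agent.Lib.H25.US

open Equiv Cfsg.Agent.Lib.H25.Alt Cfsg.Agent.Lib.H25.Mx

open scoped Pointwise

theorem mem_sylow_smul_iff {G : Type*} [Group G] {p : ℕ} {g x : G} {P : Sylow p G} :
    x ∈ g • P ↔ ∃ s ∈ P, g * s * g⁻¹ = x := by
  show x ∈ ((g • P : Sylow p G) : Subgroup G) ↔ _
  rw [Sylow.coe_subgroup_smul, Subgroup.mem_smul_pointwise_iff_exists]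
  rfl

section Model

variable {Y R : Type*} [Fintype Y] [DecidableEq Y] [Fintype R] [DecidableEq R]

/-- uniqueness in the model, given uniqueness for the blocks -/
theorem unique_model [Subsingleton R] (hR : Fintype.card R < 2)
    (IH : ∀ σ : Perm Y, Good σ → ∀ P Q : Sylow 2 (Perm Y), σ ∈ P → σ ∈ Q → P = Q)
    (x : Perm (X 2 Y R)) (hx : Good x) (P Q : Sylow 2 (Perm (X 2 Y R))) (hP : x ∈ P)
    (hQ : x ∈ Q) : P = Q := by
  have : Fact (Nat.Prime 2) := ⟨Nat.prime_two⟩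
  obtain ⟨S'⟩ : Nonempty (Sylow 2 (Perm Y)) := inferInstance
  set P₀ : Sylow 2 (Perm (X 2 Y R)) :=
    Sylow.ofCard (wr 2 R (S' : Subgroup (Perm Y))) (card_wr_sylow (p := 2) hR S') with hP₀
  obtain ⟨g₁, rfl⟩ := MulAction.exists_smul_eq (Perm (X 2 Y R)) P₀ P
  obtain ⟨g₂, rfl⟩ := MulAction.exists_smul_eq (Perm (X 2 Y R)) P₀ Q
  obtain ⟨s₁, hs₁, e₁⟩ := mem_sylow_smul_iff.1 hP
  obtain ⟨s₂, hs₂, e₂⟩ := mem_sylow_smul_iff.1 hQ
  obtain ⟨f₁, σ₁, hσ₁, rfl⟩ : ∃ f₁ : Y → ZMod 2, ∃ σ₁ ∈ (S' : Subgroup (Perm Y)),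
    s₁ = bs f₁ * tp σ₁ := hs₁
  obtain ⟨f₂, σ₂, hσ₂, rfl⟩ : ∃ f₂ : Y → ZMod 2, ∃ σ₂ ∈ (S' : Subgroup (Perm Y)),
    s₂ = bs f₂ * tp σ₂ := hs₂
  set g : Perm (X 2 Y R) := g₁⁻¹ * g₂ with hg
  have hconj : g * (bs f₂ * tp σ₂) * g⁻¹ = bs f₁ * tp σ₁ := by
    have : g₂ * (bs f₂ * tp σ₂) * g₂⁻¹ = g₁ * (bs f₁ * tp σ₁) * g₁⁻¹ := by rw [e₁, e₂]
    rw [hg]
    calc g₁⁻¹ * g₂ * (bs f₂ * tp σ₂) * (g₁⁻¹ * g₂)⁻¹
        = g₁⁻¹ * (g₂ * (bs f₂ * tp σ₂) * g₂⁻¹) * g₁ := by group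
      _ = bs f₁ * tp σ₁ := by rw [this]; group
  have hgood₂ : Good (bs f₂ * tp σ₂ : Perm (X 2 Y R)) := by
    have := hx.conj g₂⁻¹
    rw [← e₂] at this
    have e : g₂⁻¹ * (g₂ * (bs f₂ * tp σ₂) * g₂⁻¹) * g₂⁻¹⁻¹ = bs f₂ * tp σ₂ := by group
    rwa [e] at this
  have hgood₁ : Good (bs f₁ * tp σ₁ : Perm (X 2 Y R)) := hconj ▸ hgood₂.conj g
  obtain ⟨a, γ, -, hgeq⟩ := mem_wr_top_of_conj hgood₂ hconj
  obtain ⟨F, hF⟩ := conj_bs_tp (R := R) a f₂ γ σ₂
  rw [← hgeq, hconj] at hF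
  have : NeZero 2 := ⟨two_ne_zero⟩
  have hσ : σ₁ = γ * σ₂ * γ⁻¹ := (bs_tp_injective hF).2
  have hgoodσ : Good σ₁ := hgood₁.proj
  have hmem : σ₁ ∈ γ • S' := mem_sylow_smul_iff.2 ⟨σ₂, hσ₂, hσ.symm⟩
  have hS' : S' = γ • S' := IH σ₁ hgoodσ S' (γ • S') hσ₁ hmem
  have hγ : γ ∈ Subgroup.normalizer ((S' : Subgroup (Perm Y)) : Set (Perm Y)) :=
    Sylow.smul_eq_iff_mem_normalizer.1 hS'.symm
  have hgn : g ∈ Subgroup.normalizer ((P₀ : Subgroup (Perm (X 2 Y R))) : Set (Perm (X 2 Y R))) := by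
    rw [hgeq]
    exact mem_normalizer_wr a hγ
  have := Sylow.smul_eq_iff_mem_normalizer.2 hgn
  rw [hg, mul_smul] at this
  have h2 : g₁ • (g₁⁻¹ • g₂ • P₀) = g₂ • P₀ := by
    rw [smul_smul, mul_inv_cancel, one_smul]
  rw [this] at h2
  exact h2

end Model

section Transport

variable {Z Z' : Type*}

theorem permCongrHom_pow_apply (e : Z ≃ Z') (x : Perm Z) (n : ℕ) (a : Z') :
    ((e.permCongrHom x) ^ n) a = e ((x ^ n) (e.symm a)) := by
  rw [← map_pow]
  rfl

theorem Good.permCongr {x : Perm Z} (hx : Good x) (e : Z ≃ Z') : Good (e.permCongrHom x) := by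
  have efix : ∀ c : Z', (e.permCongrHom x) c = c ↔ x (e.symm c) = e.symm c := by
    intro c
    show e (x (e.symm c)) = c ↔ _
    rw [← Equiv.eq_symm_apply]
  constructor
  · intro a b hab
    have hsp : SP x (e.symm a) (e.symm b) := by
      intro n
      have h1 := hab n
      rw [permCongrHom_pow_apply, permCongrHom_pow_apply] at h1
      have e' : ∀ c : Z', e ((x ^ n) (e.symm c)) = c ↔ (x ^ n) (e.symm c) = e.symm c := by
        intro c
        rw [← Equiv.eq_symm_apply]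
      rwa [e', e'] at h1
    rcases hx.1 _ _ hsp with h | h
    · left
      obtain ⟨i, hi⟩ := h
      refine ⟨i, ?_⟩
      have : ((e.permCongrHom x) ^ i) a = e ((x ^ i) (e.symm a)) := by
        rw [← map_zpow]
        rfl
      rw [this, hi, apply_symm_apply]
    · right
      rw [efix, efix]
      exact h
  · intro a b c ha hb hc
    rw [efix] at ha hb hc
    rcases hx.2 _ _ _ ha hb hc with h | h | h
    · exact Or.inl (e.symm.injective h)
    · exact Or.inr (Or.inl (e.symm.injective h))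
    · exact Or.inr (Or.inr (e.symm.injective h))

/-- transport of uniqueness along a group isomorphism -/
theorem unique_of_equiv {G G' : Type*} [Group G] [Group G'] [Finite G] {p : ℕ} [Fact p.Prime]
    (φ : G ≃* G') (x : G)
    (h : ∀ P' Q' : Sylow p G', φ x ∈ P' → φ x ∈ Q' → P' = Q') (P Q : Sylow p G) (hP : x ∈ P)
    (hQ : x ∈ Q) : P = Q := by
  have : Finite G' := Finite.of_equiv G φ.toEquiv
  have hcard : ∀ P : Sylow p G, Nat.card ((P : Subgroup G).map φ.toMonoidHom) =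
      p ^ (Nat.card G').factorization p := by
    intro P
    rw [Subgroup.card_map_of_injective φ.injective, P.card_eq_multiplicity,
      Nat.card_congr φ.toEquiv]
  have key := h (Sylow.ofCard _ (hcard P)) (Sylow.ofCard _ (hcard Q))
    (Subgroup.mem_map_of_mem _ hP) (Subgroup.mem_map_of_mem _ hQ)
  have key' : (P : Subgroup G).map φ.toMonoidHom = (Q : Subgroup G).map φ.toMonoidHom :=
    congrArg (fun S : Sylow p G' => (S : Subgroup G')) key
  exact Sylow.ext (Subgroup.map_injective φ.injective key')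

end Transport

/-- a good permutation lies in at most one Sylow `2`-subgroup -/
theorem unique_fin : ∀ (N : ℕ) (x : Perm (Fin N)), Good x →
    ∀ P Q : Sylow 2 (Perm (Fin N)), x ∈ P → x ∈ Q → P = Q := by
  intro N
  induction N using Nat.strong_induction_on with
  | _ N ih =>
    intro x hx P Q hP hQ
    have : Fact (Nat.Prime 2) := ⟨Nat.prime_two⟩
    by_cases hN : N ≤ 1
    · have : Subsingleton (Fin N) := Fin.subsingleton_iff_le_one.2 hN
      have h1 : ∀ g : Perm (Fin N), g = 1 := by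
        intro g
        ext i
        exact congrArg Fin.val (Subsingleton.elim (g i) i)
      apply Sylow.ext
      ext g
      rw [h1 g]
      exact ⟨fun _ => Subgroup.one_mem _, fun _ => Subgroup.one_mem _⟩
    · have hcard : Fintype.card (Fin N) = Fintype.card (X 2 (Fin (N / 2)) (Fin (N % 2))) := by
        rw [card_X, Fintype.card_fin, Fintype.card_fin, Fintype.card_fin]
        exact (Nat.div_add_mod N 2).symm
      have e : Fin N ≃ X 2 (Fin (N / 2)) (Fin (N % 2)) := Fintype.equivOfCardEq hcard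
      have hR : Fintype.card (Fin (N % 2)) < 2 := by
        rw [Fintype.card_fin]
        exact Nat.mod_lt _ (by norm_num)
      have : Subsingleton (Fin (N % 2)) := Fin.subsingleton_iff_le_one.2 (by omega)
      apply unique_of_equiv e.permCongrHom x _ P Q hP hQ
      intro P' Q' hP' hQ'
      exact unique_model hR (ih (N / 2) (by omega)) _ (hx.permCongr e) P' Q' hP' hQ'

end Cfsg.Agent.Lib.H25.US
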