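import Mathlib
import Cfsg.Agent.Lib.H25.USylH
import Cfsg.Agent.Lib.H25.USylB

set_option autoImplicit false

/-!
# Cycle types and good permutations (helper25)
-/

namespace Cfsg.Agent.Lib.H25.US

open Equiv

variable {Z : Type*} [Fintype Z] [DecidableEq Z]

theorem good_of_cycleType (x : Perm Z) (h1 : Fintype.card Z ≤ x.support.card + 2)
    (h2 : x.cycleType.Nodup) : Good x := by
  rw [Perm.cycleType_def, Multiset.nodup_map_iff_inj_on x.cycleFactorsFinset.nodup] at h2
  constructor
  · intro a b hsp
    by_cases ha : x a = a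
    · right
      have := hsp 1
      rw [pow_one] at this
      exact ⟨ha, this.1 ha⟩
    · have hb : x b ≠ b := by
        intro hb
        have := hsp 1
        rw [pow_one] at this
        exact ha (this.2 hb)
      left
      have hca := Perm.cycleOf_mem_cycleFactorsFinset_iff.2 (Perm.mem_support.2 ha)
      have hcb := Perm.cycleOf_mem_cycleFactorsFinset_iff.2 (Perm.mem_support.2 hb)
      have hcyca := Perm.isCycle_cycleOf x ha
      have hcycb := Perm.isCycle_cycleOf x hb
      have hord : orderOf (x.cycleOf a) = orderOf (x.cycleOf b) := by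
        rw [orderOf_eq_orderOf_iff]
        intro n
        have ea : x.cycleOf a a ≠ a := by rw [Perm.cycleOf_apply_self]; exact ha
        have eb : x.cycleOf b b ≠ b := by rw [Perm.cycleOf_apply_self]; exact hb
        rw [hcyca.pow_eq_one_iff' ea, hcycb.pow_eq_one_iff' eb, Perm.cycleOf_pow_apply_self,
          Perm.cycleOf_pow_apply_self]
        exact hsp n
      have heq : x.cycleOf a = x.cycleOf b := by
        apply h2 _ hca _ hcb
        show (x.cycleOf a).support.card = (x.cycleOf b).support.card
        rw [← hcyca.orderOf, ← hcycb.orderOf, hord]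
      have hmem : a ∈ (x.cycleOf b).support := by
        rw [← heq, Perm.mem_support, Perm.cycleOf_apply_self]
        exact ha
      exact ((Perm.mem_support_cycleOf_iff.1 hmem).1).symm
  · intro a b c ha hb hc
    by_contra hcon
    push Not at hcon
    obtain ⟨hab, hac, hbc⟩ := hcon
    have hsub : ({a, b, c} : Finset Z) ⊆ x.supportᶜ := by
      intro w hw
      simp only [Finset.mem_insert, Finset.mem_singleton] at hw
      rw [Finset.mem_compl, Perm.notMem_support]
      rcases hw with rfl | rfl | rfl <;> assumption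
    have h3 : ({a, b, c} : Finset Z).card = 3 := by
      rw [Finset.card_insert_of_notMem, Finset.card_pair hbc]
      simp only [Finset.mem_insert, Finset.mem_singleton, not_or]
      exact ⟨hab, hac⟩
    have := Finset.card_le_card hsub
    rw [h3, Finset.card_compl] at this
    have := x.support.card_le_univ
    omega

theorem exists_three_fixed (x : Perm Z) (h1 : ¬ Fintype.card Z ≤ x.support.card + 2) :
    ∃ a b c : Z, a ≠ b ∧ a ≠ c ∧ b ≠ c ∧ x a = a ∧ x b = b ∧ x c = c := by
  have h : 2 < x.supportᶜ.card := by
    rw [Finset.card_compl]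
    omega
  obtain ⟨a, b, c, ha, hb, hc, hab, hac, hbc⟩ := Finset.two_lt_card_iff.1 h
  rw [Finset.mem_compl, Perm.notMem_support] at ha hb hc
  exact ⟨a, b, c, hab, hac, hbc, ha, hb, hc⟩

theorem exists_two_cycles (x : Perm Z) (h2 : ¬ x.cycleType.Nodup) :
    ∃ c c' : Perm Z, c ∈ x.cycleFactorsFinset ∧ c' ∈ x.cycleFactorsFinset ∧ c ≠ c' ∧
      c.support.card = c'.support.card := by
  rw [Perm.cycleType_def, Multiset.nodup_map_iff_inj_on x.cycleFactorsFinset.nodup] at h2
  push Not at h2
  obtain ⟨c, hc, c', hc', heq, hne⟩ := h2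
  exact ⟨c, c', hc, hc', hne, heq⟩

/-- the criterion for a `2`-element of a symmetric group to lie in a unique Sylow
`2`-subgroup -/
theorem unique_sylow_iff (n : ℕ) (x : Perm (Fin n)) {k : ℕ} (hx : orderOf x = 2 ^ k) :
    (∃! P : Sylow 2 (Perm (Fin n)), x ∈ P) ↔
      (n ≤ x.support.card + 2 ∧ x.cycleType.Nodup) := by
  constructor
  · intro huniq
    by_contra hcon
    rw [not_and_or] at hcon
    rcases hcon with h | h
    · have h' : ¬ Fintype.card (Fin n) ≤ x.support.card + 2 := by
        rw [Fintype.card_fin]; exact h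
      obtain ⟨a, b, c, hab, hac, hbc, ha, hb, hc⟩ := exists_three_fixed x h'
      exact not_unique_of_three_fixed hx hab hac hbc ha hb hc huniq
    · obtain ⟨c, c', hc, hc', hne, hcard⟩ := exists_two_cycles x h
      exact not_unique_of_two_cycles hx hc hc' hne hcard huniq
  · rintro ⟨h1, h2⟩
    have hgood : Good x := good_of_cycleType x (by rw [Fintype.card_fin]; exact h1) h2
    obtain ⟨P, hP⟩ := (isPGroup_zpowers hx).exists_le_sylow
    refine ⟨P, hP (Subgroup.mem_zpowers x), fun Q hQ => ?_⟩
    exact unique_fin n x hgood Q P hQ (hP (Subgroup.mem_zpowers x))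

end Cfsg.Agent.Lib.H25.US
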