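import Mathlib
import Cfsg.Prelude.Def_FusionSystem
import Cfsg.Agent.Lib.H25.Fusion
import Cfsg.Agent.Lib.H25.Normal
import Cfsg.Agent.Lib.H26.PAut

set_option autoImplicit false

/-!
Weakly embedded subgroups of one order (helper25), part A: the hypotheses `H1c`, `Ac`, and the
existence of an invariant normal subgroup of the prescribed order in the source of an automorphism.
-/

namespace Cfsg.Agent.Lib.H25.WEmb

open Cfsg Cfsg.FusionSystem Cfsg.Agent.Lib.H25 Cfsg.Agent.Lib.H26.Nil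

variable {Ω : Type*} [Group Ω] {S : Subgroup Ω}

/-- every subgroup of `S` of order `c` is weakly embedded in `F` -/
def H1c (F : FusionSystem S) (c : ℕ) : Prop :=
  ∀ Q : Subgroup Ω, Q ≤ S → Nat.card Q = c →
    ∃ P : Subgroup Ω, F.StronglyClosed P ∧ F.StronglyClosed (Q ⊔ P) ∧ F.StronglyClosed (Q ⊓ P)

/-- the automorphisms in `F` of the subgroups of order at least `c` are `p`-automorphisms -/
def Ac (p : ℕ) (F : FusionSystem S) (c : ℕ) : Prop :=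
  ∀ (R : Subgroup Ω) (f : Ω → Ω), c ≤ Nat.card R → IsIso F R R f → IsPAut p R f

/-- product decomposition in a join when one factor normalizes the other -/
theorem exists_mul_of_mem_sup {H K : Subgroup Ω} (hn : ∀ h ∈ H, ∀ k ∈ K, h * k * h⁻¹ ∈ K) {z : Ω}
    (hz : z ∈ H ⊔ K) : ∃ h ∈ H, ∃ k ∈ K, z = h * k := by
  let HK : Subgroup Ω :=
    { carrier := {z | ∃ h ∈ H, ∃ k ∈ K, z = h * k}
      one_mem' := ⟨1, H.one_mem, 1, K.one_mem, by rw [mul_one]⟩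
      mul_mem' := by
        rintro _ _ ⟨h1, hh1, k1, hk1, rfl⟩ ⟨h2, hh2, k2, hk2, rfl⟩
        refine ⟨h1 * h2, H.mul_mem hh1 hh2, h2⁻¹ * k1 * h2 * k2, K.mul_mem ?_ hk2, by group⟩
        have := hn h2⁻¹ (H.inv_mem hh2) k1 hk1
        rwa [inv_inv] at this
      inv_mem' := by
        rintro _ ⟨h, hh, k, hk, rfl⟩
        exact ⟨h⁻¹, H.inv_mem hh, h * k⁻¹ * h⁻¹, hn h hh k⁻¹ (K.inv_mem hk), by group⟩ }
  have hle : H ⊔ K ≤ HK := by
    apply sup_le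
    · intro h hh
      exact ⟨h, hh, 1, K.one_mem, by rw [mul_one]⟩
    · intro k hk
      exact ⟨1, H.one_mem, k, hk, by rw [one_mul]⟩
  exact hle hz

/-- intermediate subgroups of prescribed order in finite `p`-groups -/
theorem exists_between {p : ℕ} [Fact p.Prime] {A B : Subgroup Ω} [Finite B] (hB : IsPGroup p B)
    (hAB : A ≤ B) {d : ℕ} (hAc : Nat.card A ≤ p ^ d) (hcB : p ^ d ≤ Nat.card B) :
    ∃ Q : Subgroup Ω, A ≤ Q ∧ Q ≤ B ∧ Nat.card Q = p ^ d := by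
  have hp : p.Prime := Fact.out
  obtain ⟨b, hb⟩ := hB.exists_card_eq
  have hA : IsPGroup p A := hB.to_le hAB
  haveI : Finite A := Finite.of_injective (Subgroup.inclusion hAB) (Subgroup.inclusion_injective hAB)
  obtain ⟨a, ha⟩ := hA.exists_card_eq
  have had : a ≤ d := by
    rw [ha] at hAc
    exact (Nat.pow_le_pow_iff_right hp.one_lt).1 hAc
  have hdb : d ≤ b := by
    rw [hb] at hcB
    exact (Nat.pow_le_pow_iff_right hp.one_lt).1 hcB
  have hA' : Nat.card (A.subgroupOf B) = p ^ a := by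
    rw [← ha]
    exact Nat.card_congr (Subgroup.subgroupOfEquivOfLe hAB).toEquiv
  have hdvd : p ^ d ∣ Nat.card B := by
    rw [hb]
    exact pow_dvd_pow p hdb
  obtain ⟨K, hK, hAK⟩ := Sylow.exists_subgroup_card_pow_prime_le p hdvd (A.subgroupOf B) hA' had
  refine ⟨K.map B.subtype, ?_, ?_, ?_⟩
  · intro x hx
    exact ⟨⟨x, hAB hx⟩, hAK (Subgroup.mem_subgroupOf.mpr hx), rfl⟩
  · rintro x ⟨y, -, rfl⟩
    exact y.2
  · rw [Subgroup.card_map_of_injective B.subtype_injective, hK]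

section inv

variable {F : FusionSystem S} {R : Subgroup Ω} {f : Ω → Ω}

/-- `X` is a subgroup of `R`, normal in `R` and invariant under `f` -/
def Inv (R : Subgroup Ω) (f : Ω → Ω) (X : Subgroup Ω) : Prop :=
  X ≤ R ∧ (∀ r ∈ R, ∀ x ∈ X, r * x * r⁻¹ ∈ X) ∧ ∀ x ∈ X, f x ∈ X

theorem inv_bot (hf : IsIso F R R f) : Inv R f ⊥ := by
  refine ⟨bot_le, fun r _ x hx => ?_, fun x hx => ?_⟩
  · rw [Subgroup.mem_bot] at hx ⊢
    rw [hx]; group
  · rw [Subgroup.mem_bot] at hx ⊢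
    rw [hx]; exact hf.map_one

theorem inv_self (hf : IsIso F R R f) : Inv R f R :=
  ⟨le_rfl, fun r hr x hx => R.mul_mem (R.mul_mem hr hx) (R.inv_mem hr), fun _ hx => hf.map_mem hx⟩

theorem inv_inf {X Y : Subgroup Ω} (hX : Inv R f X) (hY : Inv R f Y) : Inv R f (X ⊓ Y) :=
  ⟨inf_le_left.trans hX.1, fun r hr x hx => ⟨hX.2.1 r hr x hx.1, hY.2.1 r hr x hx.2⟩,
    fun x hx => ⟨hX.2.2 x hx.1, hY.2.2 x hx.2⟩⟩

theorem inv_sup (hf : IsIso F R R f) {X Y : Subgroup Ω} (hX : Inv R f X) (hY : Inv R f Y) :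
    Inv R f (X ⊔ Y) := by
  refine ⟨sup_le hX.1 hY.1, fun r hr z hz => ?_, fun z hz => ?_⟩
  · have h1 : (X ⊔ Y).map (MulAut.conj r).toMonoidHom ≤ X ⊔ Y := by
      rw [Subgroup.map_sup]
      apply sup_le_sup
      · rintro _ ⟨x, hx, rfl⟩
        exact hX.2.1 r hr x hx
      · rintro _ ⟨y, hy, rfl⟩
        exact hY.2.1 r hr y hy
    exact h1 ⟨z, hz, rfl⟩
  · have h1 : X ⊔ Y ≤ hf.pre (X ⊔ Y) := by
      apply sup_le
      · intro x hx
        exact ⟨hX.1 hx, Subgroup.mem_sup_left (hX.2.2 x hx)⟩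
      · intro y hy
        exact ⟨hY.1 hy, Subgroup.mem_sup_right (hY.2.2 y hy)⟩
    exact (h1 hz).2

theorem inv_of_stronglyClosed (hf : IsIso F R R f) {P : Subgroup Ω} (hP : F.StronglyClosed P) :
    Inv R f (P ⊓ R) := by
  have hRS : R ≤ S := hf.le_left
  refine ⟨inf_le_right, fun r hr x hx => ⟨stronglyClosed_conj_mem hP (hRS hr) hx.1,
    R.mul_mem (R.mul_mem hr hx.2) (R.inv_mem hr)⟩, fun x hx => ⟨?_, hf.map_mem hx.2⟩⟩
  obtain ⟨Q', -, hiso, -⟩ := hf.restrict (inf_le_right : P ⊓ R ≤ R)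
  exact stronglyClosed_map_mem hP hiso inf_le_left hx

/-- a bounded non-empty family has a member of largest measure -/
theorem exists_max_measure {α : Type*} (P : α → Prop) (μ : α → ℕ) (b : ℕ) (hne : ∃ x, P x)
    (hb : ∀ x, P x → μ x ≤ b) : ∃ x, P x ∧ ∀ y, P y → μ y ≤ μ x := by
  let s : Set ℕ := {n | ∃ x, P x ∧ μ x = n}
  have hs : s.Nonempty := by
    obtain ⟨x, hx⟩ := hne
    exact ⟨μ x, x, hx, rfl⟩
  have hbd : BddAbove s := ⟨b, by rintro n ⟨x, hx, rfl⟩; exact hb x hx⟩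
  obtain ⟨x, hx, hxe⟩ := Nat.sSup_mem hs hbd
  exact ⟨x, hx, fun y hy => by rw [hxe]; exact le_csSup hbd ⟨y, hy, rfl⟩⟩

/-- a non-empty family has a member of smallest measure -/
theorem exists_min_measure {α : Type*} (P : α → Prop) (μ : α → ℕ) (hne : ∃ x, P x) :
    ∃ x, P x ∧ ∀ y, P y → μ x ≤ μ y := by
  let s : Set ℕ := {n | ∃ x, P x ∧ μ x = n}
  have hs : s.Nonempty := by
    obtain ⟨x, hx⟩ := hne
    exact ⟨μ x, x, hx, rfl⟩
  obtain ⟨x, hx, hxe⟩ := Nat.sInf_mem hs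
  exact ⟨x, hx, fun y hy => by rw [hxe]; exact Nat.sInf_le ⟨y, hy, rfl⟩⟩

theorem finite_of_le [Finite S] {X : Subgroup Ω} (hX : X ≤ S) : Finite X :=
  Finite.of_injective (Subgroup.inclusion hX) (Subgroup.inclusion_injective hX)

/-- **Invariant subgroups of the prescribed order.**  If every subgroup of order `p ^ d` is weakly
embedded, then the source `R` (of order at least `p ^ d`) of an automorphism `f` in `F` has a normal
`f`-invariant subgroup of order `p ^ d`. -/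
theorem exists_invariant_card {p : ℕ} [Fact p.Prime] [Finite S] (hS : IsPGroup p S)
    {F : FusionSystem S} {d : ℕ} (h1 : H1c F (p ^ d)) {R : Subgroup Ω} {f : Ω → Ω}
    (hf : IsIso F R R f) (hc : p ^ d ≤ Nat.card R) :
    ∃ H : Subgroup Ω, Inv R f H ∧ Nat.card H = p ^ d := by
  have hp : p.Prime := Fact.out
  have hRS : R ≤ S := hf.le_left
  haveI : Finite R := finite_of_le hRS
  have hfin : ∀ X : Subgroup Ω, X ≤ R → Finite X := fun X hX => finite_of_le (hX.trans hRS)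
  -- `A`: an invariant subgroup of largest order at most `p ^ d`
  obtain ⟨A, ⟨hAinv, hAc⟩, hAmax⟩ := exists_max_measure
    (fun X : Subgroup Ω => Inv R f X ∧ Nat.card X ≤ p ^ d) (fun X => Nat.card X) (p ^ d)
    ⟨⊥, inv_bot hf, by rw [Subgroup.card_bot]; exact Nat.one_le_pow _ _ hp.pos⟩ (fun X hX => hX.2)
  -- `B`: an invariant subgroup above `A` of smallest order at least `p ^ d`
  obtain ⟨B, ⟨hBinv, hAB, hBc⟩, hBmin⟩ := exists_min_measure
    (fun X : Subgroup Ω => Inv R f X ∧ A ≤ X ∧ p ^ d ≤ Nat.card X) (fun X => Nat.card X)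
    ⟨R, inv_self hf, hAinv.1, hc⟩
  by_cases hA : Nat.card A = p ^ d
  · exact ⟨A, hAinv, hA⟩
  by_cases hB : Nat.card B = p ^ d
  · exact ⟨B, hBinv, hB⟩
  exfalso
  have hA' : Nat.card A < p ^ d := lt_of_le_of_ne hAc hA
  have hB' : p ^ d < Nat.card B := lt_of_le_of_ne hBc (Ne.symm hB)
  haveI : Finite B := hfin B hBinv.1
  have hBp : IsPGroup p B := hS.to_le (hBinv.1.trans hRS)
  obtain ⟨Q, hAQ, hQB, hQc⟩ := exists_between hBp hAB hAc hBc
  have hQR : Q ≤ R := hQB.trans hBinv.1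
  haveI : Finite Q := hfin Q hQR
  obtain ⟨P, hP, hQP, hQP'⟩ := h1 Q (hQR.trans hRS) hQc
  -- `Q ⊓ P ≤ A`
  have hX1 : Q ⊓ P ≤ A := by
    have hinv : Inv R f (A ⊔ ((Q ⊓ P) ⊓ R)) := inv_sup hf hAinv (inv_of_stronglyClosed hf hQP')
    have hle : A ⊔ ((Q ⊓ P) ⊓ R) ≤ Q := sup_le hAQ (inf_le_left.trans inf_le_left)
    have hcard : Nat.card ↥(A ⊔ ((Q ⊓ P) ⊓ R)) ≤ p ^ d := by
      rw [← hQc]
      exact Subgroup.card_le_of_le hle
    have h2 := hAmax _ ⟨hinv, hcard⟩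
    haveI : Finite ↥(A ⊔ ((Q ⊓ P) ⊓ R)) := hfin _ hinv.1
    have h3 : A = A ⊔ ((Q ⊓ P) ⊓ R) := Subgroup.eq_of_le_of_card_ge le_sup_left h2
    intro x hx
    rw [h3]
    exact Subgroup.mem_sup_right ⟨hx, hQR hx.1⟩
  -- `B ≤ Q ⊔ P`
  have hX2 : B ≤ Q ⊔ P := by
    have hinv : Inv R f (B ⊓ ((Q ⊔ P) ⊓ R)) := inv_inf hBinv (inv_of_stronglyClosed hf hQP)
    have hle : Q ≤ B ⊓ ((Q ⊔ P) ⊓ R) := le_inf hQB (le_inf le_sup_left hQR)
    haveI : Finite ↥(B ⊓ ((Q ⊔ P) ⊓ R)) := hfin _ hinv.1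
    have hcard : p ^ d ≤ Nat.card ↥(B ⊓ ((Q ⊔ P) ⊓ R)) := by
      rw [← hQc]
      exact Subgroup.card_le_of_le hle
    have h2 := hBmin _ ⟨hinv, hAQ.trans hle, hcard⟩
    have h3 : B ⊓ ((Q ⊔ P) ⊓ R) = B := Subgroup.eq_of_le_of_card_ge inf_le_left h2
    intro x hx
    rw [← h3] at hx
    exact hx.2.1
  -- the third invariant subgroup
  have hinvBP : Inv R f (B ⊓ (P ⊓ R)) := inv_inf hBinv (inv_of_stronglyClosed hf hP)
  have hinv3 : Inv R f (A ⊔ (B ⊓ (P ⊓ R))) := inv_sup hf hAinv hinvBP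
  have hle3 : A ⊔ (B ⊓ (P ⊓ R)) ≤ B := sup_le hAB inf_le_left
  haveI : Finite ↥(A ⊔ (B ⊓ (P ⊓ R))) := hfin _ hinv3.1
  rcases le_total (Nat.card ↥(A ⊔ (B ⊓ (P ⊓ R)))) (p ^ d) with h3 | h3
  · -- it equals `A`, and then `B ≤ Q`
    have h4 := hAmax _ ⟨hinv3, h3⟩
    have h5 : A = A ⊔ (B ⊓ (P ⊓ R)) := Subgroup.eq_of_le_of_card_ge le_sup_left h4
    have hBPA : ∀ y, y ∈ B → y ∈ P → y ∈ A := by
      intro y hyB hyP
      rw [h5]
      exact Subgroup.mem_sup_right ⟨hyB, hyP, hBinv.1 hyB⟩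
    have hBQ : B ≤ Q := by
      intro b hb
      have hn : ∀ h ∈ Q, ∀ k ∈ P, h * k * h⁻¹ ∈ P := fun h hh k hk =>
        stronglyClosed_conj_mem hP (hRS (hQR hh)) hk
      obtain ⟨q, hq, y, hy, rfl⟩ := exists_mul_of_mem_sup hn (hX2 hb)
      have hyB : y ∈ B := by
        have := B.mul_mem (B.inv_mem (hQB hq)) hb
        rwa [inv_mul_cancel_left] at this
      exact Q.mul_mem hq (hAQ (hBPA y hyB hy))
    have := Subgroup.card_le_of_le hBQ
    omega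
  · -- it equals `B`, and then `Q ≤ A`
    have h4 := hBmin _ ⟨hinv3, le_sup_left, h3⟩
    have h5 : A ⊔ (B ⊓ (P ⊓ R)) = B := Subgroup.eq_of_le_of_card_ge hle3 h4
    have hQA : Q ≤ A := by
      intro q hq
      have hqB : q ∈ A ⊔ (B ⊓ (P ⊓ R)) := by
        rw [h5]
        exact hQB hq
      have hn : ∀ h ∈ A, ∀ k ∈ B ⊓ (P ⊓ R), h * k * h⁻¹ ∈ B ⊓ (P ⊓ R) := fun h hh k hk =>
        hinvBP.2.1 h (hAinv.1 hh) k hk
      obtain ⟨a, ha, y, hy, rfl⟩ := exists_mul_of_mem_sup hn hqB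
      have hyQ : y ∈ Q := by
        have := Q.mul_mem (Q.inv_mem (hAQ ha)) hq
        rwa [inv_mul_cancel_left] at this
      exact A.mul_mem ha (hX1 ⟨hyQ, hy.2.1⟩)
    haveI : Finite A := hfin A hAinv.1
    have := Subgroup.card_le_of_le hQA
    omega

end inv

end Cfsg.Agent.Lib.H25.WEmb
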