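import Mathlib
import Cfsg.Prelude.Def_FusionSystem
import Cfsg.Agent.Lib.H25.WEmbA
import Cfsg.Agent.Lib.H25.Alperin
import Cfsg.Agent.Lib.H26.NilTransport
import Cfsg.Agent.Lib.H26.EssentialOmit
import Cfsg.Agent.S5096

set_option autoImplicit false

/-!
Weakly embedded subgroups of one order (helper25), part B: if every subgroup of order `p ^ d` is
weakly embedded and the normalizer systems of the fully normalized subgroups of that order are inner,
then every automorphism in `F` of a subgroup of order at least `p ^ d` is a `p`-automorphism.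
-/

namespace Cfsg.Agent.Lib.H25.WEmb

open Cfsg Cfsg.FusionSystem Cfsg.Agent.Lib.H25 Cfsg.Agent.Lib.H26.Nil

variable {Ω : Type*} [Group Ω] {S : Subgroup Ω}

theorem ac_of_h1_h2 [Finite S] {p : ℕ} [Fact p.Prime] (hS : IsPGroup p S) {F : FusionSystem S}
    (hF : F.IsSaturated p) {d : ℕ} (h1 : H1c F (p ^ d))
    (h2 : ∀ H : Subgroup Ω, F.IsFullyNormalized H → Nat.card H = p ^ d →
      ∀ N : FusionSystem (normalizerIn S H), F.IsNormalizerSystem H N →
      ∀ P : Subgroup Ω, N.Hom P = (innerFusionSystem (normalizerIn S H)).Hom P) :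
    Ac p F (p ^ d) := by
  intro R f hc hf
  by_contra hnp
  have hRS : R ≤ S := hf.le_left
  obtain ⟨H, hHinv, hHc⟩ := exists_invariant_card hS h1 hf hc
  have hHS : H ≤ S := hHinv.1.trans hRS
  have hRN : R ≤ normalizerIn S H := by
    intro r hr
    refine ⟨hRS hr, Cfsg.Agent.Lib.H26.mem_normalizer_of_conj_mem (hHinv.2.1 r hr) ?_⟩
    intro y hy
    have := hHinv.2.1 r⁻¹ (R.inv_mem hr) y hy
    rwa [inv_inv] at this
  have hnt : NT p F H := ⟨R, f, hHinv.1, hRN, hf, hHinv.2.2, hnp⟩
  obtain ⟨U', X, χ, hfn, hχ, hχU⟩ := exists_fn_map hS hF hHS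
  have hnt' : NT p F U' := hnt.transport hχ hχU
  have hU'S : U' ≤ S := hfn.1
  have hcard : Nat.card U' = p ^ d := by rw [← hχU.card_eq, hHc]
  have hNsys : F.IsNormalizerSystem U' (Cfsg.Agent.S5096.normSys F U' hU'S) := fun _ => rfl
  have hN := h2 U' hfn hcard _ hNsys
  have hNp : IsPGroup p ↥(normalizerIn S U') := hS.to_le inf_le_left
  have hallN : AllP p (Cfsg.Agent.S5096.normSys F U' hU'S) := allP_of_eq_inner hNp hN
  exact not_allP_of_NT hU'S hNsys hnt' hallN

end Cfsg.Agent.Lib.H25.WEmb
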