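import Mathlib
import Cfsg.Prelude.Def_FusionSystem
import Cfsg.Prelude.Def_FusionComponents
import Cfsg.Agent.Lib.H25.WEmbA
import Cfsg.Agent.Lib.H25.Morphism
import Cfsg.Agent.Lib.H25.MorphismSat
import Cfsg.Agent.Lib.H25.MorphismClosed
import Cfsg.Agent.Lib.H26.NilQuotient

set_option autoImplicit false

/-!
Weakly embedded subgroups of one order (helper25), part C: automorphisms of order prime to `p`,
their behaviour modulo a strongly closed subgroup, and the passage of the hypotheses to the factor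
systems.
-/

namespace Cfsg.Agent.Lib.H25.WEmb

open Cfsg Cfsg.FusionSystem Cfsg.Agent.Lib.H25 Cfsg.Agent.Lib.H26.Nil

universe u v

section pprime

variable {Ω : Type*} [Group Ω]

/-- `f` has order prime to `p` on `R` -/
def PPrime (p : ℕ) (R : Subgroup Ω) (f : Ω → Ω) : Prop :=
  ∃ b : ℕ, Nat.Coprime b p ∧ ∀ x ∈ R, f^[b] x = x

theorem PPrime.mono {p : ℕ} {R R' : Subgroup Ω} {f : Ω → Ω} (h : PPrime p R f) (hR : R' ≤ R) :
    PPrime p R' f := by
  obtain ⟨b, hb, hb'⟩ := h
  exact ⟨b, hb, fun x hx => hb' x (hR hx)⟩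

/-- a point of period `p ^ k` and of period prime to `p` is fixed -/
theorem fixed_of_periods {α : Type*} {p : ℕ} {g : α → α} {y : α} {k b : ℕ} (hb : Nat.Coprime b p)
    (h1 : g^[p ^ k] y = y) (h2 : g^[b] y = y) : g y = y := by
  have h3 : Function.IsPeriodicPt g (p ^ k) y := h1
  have h4 : Function.IsPeriodicPt g b y := h2
  have h5 := h3.gcd h4
  have h6 : Nat.gcd (p ^ k) b = 1 := (Nat.Coprime.pow_left k hb.symm)
  rw [h6] at h5
  exact h5

theorem eq_of_isPAut_of_pprime {p : ℕ} {R : Subgroup Ω} {f : Ω → Ω} (h1 : IsPAut p R f)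
    (h2 : PPrime p R f) : ∀ x ∈ R, f x = x := by
  obtain ⟨k, hk⟩ := h1
  obtain ⟨b, hb, hb'⟩ := h2
  intro x hx
  exact fixed_of_periods hb (hk x hx) (hb' x hx)

end pprime

section morphism

variable {Ω : Type u} [Group Ω] {S : Subgroup Ω} {Ω' : Type v} [Group Ω'] {S' : Subgroup Ω'}
  {F : FusionSystem S} {F' : FusionSystem S'} {θ : S →* Ω'}

theorem iterate_compat {P : Subgroup Ω} {f : Ω → Ω} {f' : Ω' → Ω'} (hf : IsIso F P P f)
    (hff' : ∀ x ∈ P, f' (al θ x) = al θ (f x)) :
    ∀ n : ℕ, ∀ x ∈ P, f'^[n] (al θ x) = al θ (f^[n] x) := by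
  intro n
  induction n with
  | zero => intro x _; rfl
  | succ n ih =>
    intro x hx
    rw [Function.iterate_succ_apply, Function.iterate_succ_apply, hff' x hx, ih _ (hf.map_mem hx)]

/-- an automorphism of order prime to `p` acts trivially modulo the kernel of a morphism onto a
system whose automorphisms are all `p`-automorphisms -/
theorem pprime_trivial_mod {p : ℕ} (hmor : F.IsMorphism F' θ) (hall : AllP p F') {R : Subgroup Ω}
    {f : Ω → Ω} (hf : IsIso F R R f) (hpp : PPrime p R f) : ∀ x ∈ R, x⁻¹ * f x ∈ kerSub θ := by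
  have hRS := hf.le_left
  obtain ⟨f', hf', hff'⟩ := push_iso hmor hf
  obtain ⟨k, hk⟩ := hall _ _ hf'
  obtain ⟨b, hb, hb'⟩ := hpp
  have key := iterate_compat hf hff'
  intro x hx
  have hy : al θ x ∈ imageAlong θ R := (mem_image_iff θ R _).2 ⟨x, hx, hRS hx, rfl⟩
  have h2 : f'^[b] (al θ x) = al θ x := by rw [key b x hx, hb' x hx]
  have h3 : f' (al θ x) = al θ x := fixed_of_periods hb (hk _ hy) h2
  apply inv_mul_mem_kerSub θ (hRS hx) (hRS (hf.map_mem hx))
  rw [← hff' x hx, h3]

/-- a lift of a map which is a `p`-automorphism forces the map to be a `p`-automorphism -/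
theorem isPAut_of_lift {p : ℕ} (hrange : θ.range = S') {P' : Subgroup Ω'} (hP' : P' ≤ S')
    {f' : Ω' → Ω'} {f : Ω → Ω}
    (hf : IsIso F (preimageAlong θ P') (preimageAlong θ P') f)
    (hff' : ∀ x ∈ preimageAlong θ P', f' (al θ x) = al θ (f x))
    (h : IsPAut p (preimageAlong θ P') f) : IsPAut p P' f' := by
  obtain ⟨k, hk⟩ := h
  refine ⟨k, fun y hy => ?_⟩
  obtain ⟨x, hx, rfl⟩ := exists_al_eq_of_mem hrange hP' hy
  rw [iterate_compat hf hff' _ x hx, hk x hx]

theorem image_sup {A B : Subgroup Ω} (hA : A ≤ S) (hB : B ≤ S) :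
    imageAlong θ (A ⊔ B) = imageAlong θ A ⊔ imageAlong θ B := by
  unfold imageAlong
  rw [Subgroup.subgroupOf_sup hA hB, Subgroup.map_sup]

theorem image_pre_inf (P : Subgroup Ω) (Q' : Subgroup Ω') :
    Q' ⊓ imageAlong θ P = imageAlong θ (preimageAlong θ Q' ⊓ P) := by
  ext y
  constructor
  · rintro ⟨hyQ', hyP⟩
    obtain ⟨x, hxP, hxS, rfl⟩ := (mem_image_iff θ P y).1 hyP
    exact (mem_image_iff θ _ _).2 ⟨x, ⟨(mem_pre_iff θ Q' x).2 ⟨hxS, hyQ'⟩, hxP⟩, hxS, rfl⟩
  · intro hy
    obtain ⟨x, hx, hxS, rfl⟩ := (mem_image_iff θ _ y).1 hy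
    exact ⟨((mem_pre_iff θ Q' x).1 hx.1).2, (mem_image_iff θ P _).2 ⟨x, hx.2, hxS, rfl⟩⟩

end morphism

section goal

variable {p : ℕ} [Fact p.Prime]

/-- the inductive statement -/
def Goal (p : ℕ) (n : ℕ) : Prop :=
  ∀ {Ω : Type u} [Group Ω] {S : Subgroup Ω} [Finite S], Nat.card S = n → IsPGroup p S →
    ∀ F : FusionSystem S, F.IsSaturated p → ∀ d : ℕ, p ^ d < Nat.card S →
      H1c F (p ^ d) → Ac p F (p ^ d) → AllP p F

/-- **The factor systems.**  Under the inductive hypothesis, the factor system by a non-trivial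
strongly closed subgroup has only `p`-automorphisms. -/
theorem quot_allP {n : ℕ} (ih : ∀ m < n, Goal.{u} p m) {Ω : Type u} [Group Ω] {S : Subgroup Ω}
    [Finite S] (hcard : Nat.card S = n) (hS : IsPGroup p S) {F : FusionSystem S}
    (hF : F.IsSaturated p) {d : ℕ} (hd : p ^ d < Nat.card S) (h1 : H1c F (p ^ d))
    (hA : Ac p F (p ^ d)) {Ω' : Type u} [Group Ω'] {S' : Subgroup Ω'} {F' : FusionSystem S'}
    {θ : S →* Ω'} (hsm : F.IsSurjectiveMorphism F' θ) (hK : F.StronglyClosed (kerSub θ))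
    (hKne : kerSub θ ≠ ⊥) : AllP p F' := by
  have hp : p.Prime := Fact.out
  have hrange := hsm.2.1
  haveI hfinS' : Finite S' := finite_S' hrange
  have hS'p : IsPGroup p S' := isPGroup_S' hrange hS
  have hF'sat : F'.IsSaturated p := isSaturated_of_surjectiveMorphism hS hF hsm
  have hKS : kerSub θ ≤ S := kerSub_le θ
  haveI hfinK : Finite (kerSub θ) := finite_of_le hKS
  obtain ⟨e, he⟩ := (hS.to_le hKS).exists_card_eq
  have hcardpre : ∀ P' : Subgroup Ω', P' ≤ S' →
      Nat.card (preimageAlong θ P') = p ^ e * Nat.card P' := by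
    intro P' hP'
    rw [card_pre hrange hP', he]
  have hcardS : Nat.card S = p ^ e * Nat.card S' := by
    have := hcardpre S' le_rfl
    rwa [pre_top hrange] at this
  have hpe : 0 < p ^ e := pow_pos hp.pos e
  by_cases hde : d ≤ e
  · -- the kernel is large: lift and use `Ac`
    intro P' f' hf'
    have hP'S' : P' ≤ S' := hf'.le_left
    obtain ⟨f, hf, hff'⟩ := lift_iso hsm hK hf'
    haveI : Finite P' := finite_of_le hP'S'
    have hc : p ^ d ≤ Nat.card (preimageAlong θ P') := by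
      rw [hcardpre P' hP'S']
      calc p ^ d ≤ p ^ e := Nat.pow_le_pow_right hp.pos hde
        _ = p ^ e * 1 := (mul_one _).symm
        _ ≤ p ^ e * Nat.card P' := Nat.mul_le_mul_left _ Nat.card_pos
    exact isPAut_of_lift hrange hP'S' hf hff' (hA _ f hc hf)
  · -- the kernel is small: induction
    push Not at hde
    have hpd : p ^ d = p ^ e * p ^ (d - e) := by
      rw [← pow_add]
      congr 1
      omega
    have hlt : Nat.card S' < n := by
      have h2 : 1 < Nat.card (kerSub θ) := by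
        rw [Subgroup.one_lt_card_iff_ne_bot]
        exact hKne
      have h3 : 0 < Nat.card S' := Nat.card_pos
      rw [← hcard, hcardS, ← he]
      nlinarith
    refine ih _ hlt rfl hS'p F' hF'sat (d - e) ?_ ?_ ?_
    · rw [hcardS, hpd] at hd
      exact Nat.lt_of_mul_lt_mul_left hd
    · intro Q' hQ'S' hQ'c
      have hQc : Nat.card (preimageAlong θ Q') = p ^ d := by
        rw [hcardpre Q' hQ'S', hQ'c, hpd]
      obtain ⟨P, hP, hQP, hQP'⟩ := h1 _ (preimageAlong_le θ Q') hQc
      refine ⟨imageAlong θ P, image_stronglyClosed hsm hP, ?_, ?_⟩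
      · have h2 : Q' ⊔ imageAlong θ P = imageAlong θ (preimageAlong θ Q' ⊔ P) := by
          rw [image_sup (preimageAlong_le θ Q') hP.1, image_pre hrange hQ'S']
        rw [h2]
        exact image_stronglyClosed hsm hQP
      · rw [image_pre_inf]
        exact image_stronglyClosed hsm hQP'
    · intro R' f' hc' hf'
      have hR'S' : R' ≤ S' := hf'.le_left
      obtain ⟨f, hf, hff'⟩ := lift_iso hsm hK hf'
      have hc : p ^ d ≤ Nat.card (preimageAlong θ R') := by
        rw [hcardpre R' hR'S', hpd]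
        exact Nat.mul_le_mul_left _ hc'
      exact isPAut_of_lift hrange hR'S' hf hff' (hA _ f hc hf)

end goal

end Cfsg.Agent.Lib.H25.WEmb
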