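import Mathlib
import Cfsg.Prelude.Def_FusionSystem
import Cfsg.Agent.Lib.H25.WEmbA
import Cfsg.Agent.Lib.H25.WEmbC
import Cfsg.Agent.Lib.H25.SatEquiv
import Cfsg.Agent.Lib.H25.Saturation
import Cfsg.Agent.Lib.H25.FrattiniClosed
import Cfsg.Agent.Lib.H26.NormCtl
import Cfsg.Agent.Lib.H26.SmallFocal
import Cfsg.Agent.S5092

set_option autoImplicit false

/-!
Weakly embedded subgroups of one order (helper25), part D: general lemmas on automorphisms of order
prime to `p` in a saturated system (the central case, the hyperfocal subgroup, Tate's criterion).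
-/

namespace Cfsg.Agent.Lib.H25.WEmb

open Cfsg Cfsg.FusionSystem Cfsg.Agent.Lib.H25 Cfsg.Agent.Lib.H26.Nil
open scoped commutatorElement

variable {Ω : Type*} [Group Ω] {S : Subgroup Ω}

theorem sInf_stronglyClosed {F : FusionSystem S} {𝒮 : Set (Subgroup Ω)} (hne : 𝒮.Nonempty)
    (h : ∀ P ∈ 𝒮, F.StronglyClosed P) : F.StronglyClosed (sInf 𝒮) := by
  obtain ⟨P₀, hP₀⟩ := hne
  refine ⟨(sInf_le hP₀).trans (h P₀ hP₀).1, fun R hR φ hφ x => ?_⟩
  rw [Subgroup.mem_sInf]
  intro P hP
  exact (h P hP).2 R (hR.trans (sInf_le hP)) φ hφ x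

/-- if the automorphisms of order prime to `p` are trivial, all automorphisms are `p`-automorphisms -/
theorem allP_of_pprime_trivial [Finite S] {p : ℕ} [Fact p.Prime] {F : FusionSystem S}
    (h : ∀ (R : Subgroup Ω) (f : Ω → Ω), IsIso F R R f → PPrime p R f → ∀ x ∈ R, f x = x) :
    AllP p F := by
  apply allP_of_isPGroup_autGroup
  intro P hP
  haveI : Finite P := finite_of_le hP
  haveI : Finite (MulAut P) := Finite.of_injective (fun a : MulAut P => (a : P → P))
    (fun a b hab => MulEquiv.ext (congrFun hab))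
  apply Cfsg.Agent.Lib.H26.isPGroup_of_coprime_trivial
  intro γ hγ hcop
  have hf := isIso_of_mem_autGroup F hP hγ
  have hval : ∀ x : P, ((γ x : P) : Ω) = ext1 (P.subtype.comp γ.toMonoidHom) x :=
    fun x => (ext1_apply (P.subtype.comp γ.toMonoidHom) x).symm
  have hpp : PPrime p P (ext1 (P.subtype.comp γ.toMonoidHom)) := by
    refine ⟨orderOf γ, hcop, fun x hx => ?_⟩
    rw [← aut_pow_apply hf hval (orderOf γ) ⟨x, hx⟩, pow_orderOf_eq_one]
    rfl
  have h1 := h P _ hf hpp
  ext x
  show ((γ x : P) : Ω) = ((1 : MulAut P) x : P)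
  rw [hval x, h1 x x.2]
  rfl

/-- the hyperfocal subgroup lies in any subgroup modulo which the automorphisms of order prime to `p`
are trivial -/
theorem hyperfocal_le_of_pprime {p : ℕ} {F : FusionSystem S} {N : Subgroup Ω}
    (h : ∀ (R : Subgroup Ω) (f : Ω → Ω), IsIso F R R f → PPrime p R f → ∀ x ∈ R, x⁻¹ * f x ∈ N) :
    F.hyperfocalSubgroup p ≤ N := by
  unfold hyperfocalSubgroup
  rw [Subgroup.closure_le]
  rintro _ ⟨P, α, x, hP, hα, rfl⟩
  -- the automorphisms acting trivially modulo `N` form a subgroup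
  let T : Subgroup (F.autGroup P) :=
    { carrier := {β | ∀ x : P, (x : Ω)⁻¹ * (((β : MulAut P) x : P) : Ω) ∈ N}
      one_mem' := by
        intro x
        show (x : Ω)⁻¹ * (((1 : MulAut P) x : P) : Ω) ∈ N
        rw [MulAut.one_apply, inv_mul_cancel]
        exact N.one_mem
      mul_mem' := by
        intro β γ hβ hγ x
        have h1 := hγ x
        have h2 := hβ ((γ : MulAut P) x)
        have h3 : (x : Ω)⁻¹ * ((((β * γ : F.autGroup P) : MulAut P) x : P) : Ω) =
            ((x : Ω)⁻¹ * (((γ : MulAut P) x : P) : Ω)) *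
              (((((γ : MulAut P) x : P) : Ω))⁻¹ * (((β : MulAut P) ((γ : MulAut P) x) : P) : Ω)) := by
          rw [Subgroup.coe_mul, MulAut.mul_apply]
          group
        rw [h3]
        exact N.mul_mem h1 h2
      inv_mem' := by
        intro β hβ x
        have h1 := hβ ((β : MulAut P)⁻¹ x)
        rw [MulAut.apply_inv_self] at h1
        have h2 : (x : Ω)⁻¹ * ((((β⁻¹ : F.autGroup P) : MulAut P) x : P) : Ω) =
            (((((β : MulAut P)⁻¹ x : P) : Ω))⁻¹ * (x : Ω))⁻¹ := by
          rw [Subgroup.coe_inv]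
          group
        rw [h2]
        exact N.inv_mem h1 }
  have hle : pResidual p (F.autGroup P) ≤ T := by
    unfold pResidual
    rw [Subgroup.closure_le]
    intro β hβ x
    have hcop : Nat.Coprime (orderOf (β : MulAut P)) p := by
      rw [Subgroup.orderOf_coe]
      exact hβ
    have hf := isIso_of_mem_autGroup F hP β.2
    have hval : ∀ x : P, (((β : MulAut P) x : P) : Ω) =
        ext1 (P.subtype.comp (β : MulAut P).toMonoidHom) x :=
      fun x => (ext1_apply (P.subtype.comp (β : MulAut P).toMonoidHom) x).symm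
    have hpp : PPrime p P (ext1 (P.subtype.comp (β : MulAut P).toMonoidHom)) := by
      refine ⟨orderOf (β : MulAut P), hcop, fun x hx => ?_⟩
      rw [← aut_pow_apply hf hval (orderOf (β : MulAut P)) ⟨x, hx⟩, pow_orderOf_eq_one]
      rfl
    have := h P _ hf hpp x x.2
    rwa [← hval x] at this
  exact hle hα x

/-- **Tate's criterion**: a saturated system whose focal subgroup lies in the Frattini subgroup is
the inner system. -/
theorem inner_of_focal_le_frattini [Finite S] {p : ℕ} [Fact p.Prime] (hS : IsPGroup p S)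
    {F : FusionSystem S} (hF : F.IsSaturated p)
    (hfoc : F.focalSubgroup ≤ (frattini ↥S).map S.subtype) : F = innerFusionSystem S := by
  have hsub : (innerFusionSystem S).IsSubsystemOf F := by
    rintro P φ ⟨hP, g, hg, hφ⟩
    have : φ = conjHom P g := by
      ext x
      rw [hφ x, conjHom_apply]
    rw [this]
    exact F.conj_mem hP hg
  have hfoc' : (innerFusionSystem S).focalSubgroup ≤ (frattini ↥S).map S.subtype := by
    refine le_trans ?_ hfoc
    unfold focalSubgroup
    apply Subgroup.closure_mono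
    rintro _ ⟨P, φ, x, hφ, rfl⟩
    exact ⟨P, φ, x, hsub P hφ, rfl⟩
  have heq : (frattini ↥S).map S.subtype ⊔ F.focalSubgroup =
      (frattini ↥S).map S.subtype ⊔ (innerFusionSystem S).focalSubgroup := by
    rw [sup_eq_left.2 hfoc, sup_eq_left.2 hfoc']
  have hhyp := Cfsg.Agent.Lib.H25.Bis.tate_main hS hF (Cfsg.Agent.Lib.H26.inner_isSaturated hS)
    hsub heq
  rw [hyperfocal_inner_eq_bot hS] at hhyp
  exact eq_inner_of_hyperfocal_eq_bot hS hF hhyp

/-- the case where the hyperfocal subgroup lies in the Frattini subgroup -/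
theorem allP_of_pprime_frattini [Finite S] {p : ℕ} [Fact p.Prime] (hS : IsPGroup p S)
    {F : FusionSystem S} (hF : F.IsSaturated p) {N : Subgroup Ω}
    (hNΦ : N ≤ (frattini ↥S).map S.subtype)
    (h : ∀ (R : Subgroup Ω) (f : Ω → Ω), IsIso F R R f → PPrime p R f → ∀ x ∈ R, x⁻¹ * f x ∈ N) :
    AllP p F := by
  have h1 : F.hyperfocalSubgroup p ≤ (frattini ↥S).map S.subtype :=
    (hyperfocal_le_of_pprime h).trans hNΦ
  have h2 : ⁅(S : Subgroup Ω), (S : Subgroup Ω)⁆ ≤ (frattini ↥S).map S.subtype := by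
    rw [← Subgroup.map_subtype_commutator]
    exact Subgroup.map_mono (Cfsg.Agent.Lib.H1.isPGroup_commutator_le_frattini hS)
  have h3 : F.focalSubgroup ≤ (frattini ↥S).map S.subtype := by
    rw [Cfsg.Agent.S5092.result p hS F hF]
    exact sup_le h1 h2
  have h4 := inner_of_focal_le_frattini hS hF h3
  exact allP_of_eq_inner hS (fun P => by rw [h4])

/-- the case of a central subgroup modulo which the automorphisms of order prime to `p` are
trivial -/
theorem pprime_trivial_of_central [Finite S] {p : ℕ} [Fact p.Prime] (hS : IsPGroup p S)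
    {F : FusionSystem S} (hF : F.IsSaturated p) {c : ℕ} (hc : c ≤ Nat.card S) (hA : Ac p F c)
    {N : Subgroup Ω} (hN : F.StronglyClosed N) (hcent : ∀ n ∈ N, ∀ s ∈ S, s * n = n * s)
    (h : ∀ (R : Subgroup Ω) (f : Ω → Ω), IsIso F R R f → PPrime p R f → ∀ x ∈ R, x⁻¹ * f x ∈ N) :
    ∀ (R : Subgroup Ω) (f : Ω → Ω), IsIso F R R f → PPrime p R f → ∀ x ∈ R, f x = x := by
  intro R f hf hpp
  have hRS : R ≤ S := hf.le_left
  haveI : Finite R := finite_of_le hRS
  have hXS : N ⊓ R ≤ S := inf_le_right.trans hRS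
  haveI : Finite ↥(N ⊓ R) := finite_of_le hXS
  have hXinv := inv_of_stronglyClosed hf hN
  -- `f` restricts to an automorphism of `X = N ⊓ R`
  have hfX : IsIso F (N ⊓ R) (N ⊓ R) f :=
    hf.restrict' inf_le_right hXinv.2.2 (surjOn_of_mapsTo hf inf_le_right hXinv.2.2)
  -- `X` is central in `S`, hence fully normalized and receptive
  have hXcent : ∀ x ∈ N ⊓ R, ∀ s ∈ S, s * x * s⁻¹ = x := by
    intro x hx s hs
    rw [hcent x hx.1 s hs, mul_inv_cancel_right]
  have hNS : normalizerIn S (N ⊓ R) = S := by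
    apply le_antisymm inf_le_left
    refine le_inf le_rfl ?_
    intro s hs
    apply Cfsg.Agent.Lib.H26.mem_normalizer_of_conj_mem
    · intro y hy
      rw [hXcent y hy s hs]
      exact hy
    · intro y hy
      have := hXcent y hy s⁻¹ (S.inv_mem hs)
      rw [inv_inv] at this
      rw [this]
      exact hy
  have hfn : F.IsFullyNormalized (N ⊓ R) :=
    Cfsg.Agent.Lib.H26.ZJ.isFullyNormalized_of_normalizerIn_eq hXS hNS
  have hrec : F.IsReceptive (N ⊓ R) :=
    isReceptive_of_fullyCentralized hS hF (fullyNormalized_props hS hF hfn).1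
  -- extend to `S`
  obtain ⟨f', N', hf', hf'f⟩ := IsReceptive_extend hrec hfX S (by
    intro g hg
    refine ⟨hg, ?_, 1, S.one_mem, fun x hx => ?_⟩
    · rw [← hNS] at hg
      exact hg.2
    · rw [hXcent x hx g hg, one_mul, inv_one, mul_one])
  have hN'S : N' = S := by
    have hle : N' ≤ S := hf'.le_right
    exact Subgroup.eq_of_le_of_card_ge hle (le_of_eq hf'.card_eq)
  rw [hN'S] at hf'
  have hpS : IsPAut p S f' := hA S f' hc hf'
  have hpX : IsPAut p (N ⊓ R) f :=
    isPAut_congr' hfX (fun x hx => hf'f x hx (hXS hx)) (hpS.mono hXS)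
  have hfix : ∀ x ∈ N ⊓ R, f x = x := eq_of_isPAut_of_pprime hpX (hpp.mono inf_le_right)
  obtain ⟨m, hm⟩ := (hS.to_le hXS).exists_card_eq
  have hpR : IsPAut p R f := isPAut_of_trivial_mod hf inf_le_right hfix
    (fun x hx => ⟨h R f hf hpp x hx, R.mul_mem (R.inv_mem hx) (hf.map_mem hx)⟩) hm
  exact eq_of_isPAut_of_pprime hpR hpp

end Cfsg.Agent.Lib.H25.WEmb
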