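import Mathlib
import Cfsg.Prelude.Def_FusionSystem
import Cfsg.Agent.Lib.H25.WEmbA
import Cfsg.Agent.Lib.H25.WEmbB
import Cfsg.Agent.Lib.H25.WEmbC
import Cfsg.Agent.Lib.H25.WEmbD
import Cfsg.Agent.Lib.H1.NilpotentBasic
import Cfsg.Agent.Lib.H1.PGroupBasic

set_option autoImplicit false

/-!
Weakly embedded subgroups of one order (helper25), part E: the position of the smallest non-trivial
strongly closed subgroup, and the induction.
-/

namespace Cfsg.Agent.Lib.H25.WEmb

open Cfsg Cfsg.FusionSystem Cfsg.Agent.Lib.H25 Cfsg.Agent.Lib.H26.Nil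

universe u

section position

variable {Ω : Type*} [Group Ω] {S : Subgroup Ω}

theorem stronglyClosed_self (F : FusionSystem S) : F.StronglyClosed S :=
  ⟨le_rfl, fun _ _ _ hφ x => (F.le_of_mem hφ).2 x⟩

/-- a subgroup of the prescribed order contains the smallest non-trivial strongly closed subgroup
or meets it trivially -/
theorem le_or_disjoint [Finite S] {p : ℕ} [Fact p.Prime] {F : FusionSystem S} {d : ℕ} (hd : 0 < d)
    (h1 : H1c F (p ^ d)) {N : Subgroup Ω}
    (hNmin : ∀ P : Subgroup Ω, F.StronglyClosed P → P ≠ ⊥ → N ≤ P) {Q : Subgroup Ω} (hQS : Q ≤ S)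
    (hQc : Nat.card Q = p ^ d) : N ≤ Q ∨ Q ⊓ N = ⊥ := by
  have hp : p.Prime := Fact.out
  haveI : Finite Q := finite_of_le hQS
  obtain ⟨P, hP, hQP, hQP'⟩ := h1 Q hQS hQc
  by_cases h : Q ⊓ P = ⊥
  · by_cases hPb : P = ⊥
    · left
      rw [hPb, sup_bot_eq] at hQP
      apply hNmin Q hQP
      rw [← Subgroup.one_lt_card_iff_ne_bot, hQc]
      exact Nat.one_lt_pow hd.ne' hp.one_lt
    · right
      have hNP : N ≤ P := hNmin P hP hPb
      rw [eq_bot_iff, ← h]
      exact inf_le_inf_left Q hNP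
  · left
    exact (hNmin _ hQP' h).trans inf_le_left

/-- if some subgroup of the prescribed order avoids `N`, then `N` is central in `S` -/
theorem le_center_of_disjoint [Finite S] {p : ℕ} [Fact p.Prime] (hS : IsPGroup p S)
    {F : FusionSystem S} {d : ℕ} (hd : 0 < d) {N : Subgroup Ω} (hN : F.StronglyClosed N)
    (hD : ∀ Q : Subgroup Ω, Q ≤ S → Nat.card Q = p ^ d → N ≤ Q ∨ Q ⊓ N = ⊥)
    {Q₁ : Subgroup Ω} (hQ₁S : Q₁ ≤ S) (hQ₁c : Nat.card Q₁ = p ^ d) (hQ₁N : Q₁ ⊓ N = ⊥) :
    ∀ n ∈ N, ∀ s ∈ S, s * n = n * s := by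
  have hp : p.Prime := Fact.out
  have hNS : N ≤ S := hN.1
  by_cases hNb : N = ⊥
  · intro n hn s _
    rw [hNb, Subgroup.mem_bot] at hn
    rw [hn, mul_one, one_mul]
  -- the central part of `N`
  let B : Subgroup Ω := N ⊓ centralizerIn S S
  have hBS : B ≤ S := inf_le_left.trans hNS
  have hBcent : ∀ z ∈ B, ∀ s ∈ S, s * z = z * s := by
    intro z hz s hs
    exact (Subgroup.mem_centralizer_iff.1 hz.2.2 s hs)
  have hBne : B ≠ ⊥ := by
    haveI : (N.subgroupOf S).Normal := by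
      constructor
      intro x hx g
      rw [Subgroup.mem_subgroupOf] at hx ⊢
      exact stronglyClosed_conj_mem hN g.2 hx
    haveI : Group.IsNilpotent ↥S := hS.isNilpotent
    have hne : N.subgroupOf S ≠ ⊥ := by
      intro h
      apply hNb
      rw [eq_bot_iff]
      intro n hn
      have : (⟨n, hNS hn⟩ : ↥S) ∈ N.subgroupOf S := Subgroup.mem_subgroupOf.2 hn
      rw [h, Subgroup.mem_bot] at this
      rw [Subgroup.mem_bot]
      exact congrArg Subtype.val this
    have h2 := Cfsg.Agent.Lib.H1.normal_inf_center_ne_bot (N.subgroupOf S) hne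
    intro hB
    apply h2
    rw [eq_bot_iff]
    intro z hz
    have hzB : (z : Ω) ∈ B := by
      refine ⟨Subgroup.mem_subgroupOf.1 hz.1, z.2, ?_⟩
      show (z : Ω) ∈ Subgroup.centralizer (S : Set Ω)
      rw [Subgroup.mem_centralizer_iff]
      intro s hs
      have := Subgroup.mem_center_iff.1 hz.2 ⟨s, hs⟩
      exact congrArg Subtype.val this
    rw [hB, Subgroup.mem_bot] at hzB
    rw [Subgroup.mem_bot]
    exact Subtype.ext hzB
  haveI : Finite B := finite_of_le hBS
  have hBp : IsPGroup p B := hS.to_le hBS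
  -- a central subgroup of order `p` inside `N`
  obtain ⟨Z, -, hZB, hZc⟩ : ∃ Z : Subgroup Ω, ⊥ ≤ Z ∧ Z ≤ B ∧ Nat.card Z = p ^ 1 := by
    apply exists_between hBp bot_le
    · rw [Subgroup.card_bot]
      exact Nat.one_le_pow _ _ hp.pos
    · obtain ⟨k, hk⟩ := hBp.exists_card_eq
      rw [hk]
      apply Nat.pow_le_pow_right hp.pos
      rcases Nat.eq_zero_or_pos k with h0 | h0
      · exfalso
        apply hBne
        rw [h0, pow_zero] at hk
        exact Subgroup.card_eq_one.1 hk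
      · exact h0
  have hZN : Z ≤ N := hZB.trans inf_le_left
  have hZS : Z ≤ S := hZB.trans hBS
  haveI : Finite Z := finite_of_le hZS
  have hZne : Z ≠ ⊥ := by
    rw [← Subgroup.one_lt_card_iff_ne_bot, hZc, pow_one]
    exact hp.one_lt
  -- a subgroup of the prescribed order between `Z` and `Q₁ ⊔ Z`
  have hQZS : Q₁ ⊔ Z ≤ S := sup_le hQ₁S hZS
  haveI : Finite ↥(Q₁ ⊔ Z) := finite_of_le hQZS
  obtain ⟨Q', hZQ', hQ'le, hQ'c⟩ := exists_between (hS.to_le hQZS) (le_sup_right : Z ≤ Q₁ ⊔ Z)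
    (d := d) (by rw [hZc]; exact Nat.pow_le_pow_right hp.pos hd)
    (by rw [← hQ₁c]; exact Subgroup.card_le_of_le le_sup_left)
  have hNQ' : N ≤ Q' := by
    rcases hD Q' (hQ'le.trans hQZS) hQ'c with h | h
    · exact h
    · exfalso
      apply hZne
      rw [eq_bot_iff, ← h]
      exact le_inf hZQ' hZN
  -- `N ≤ Z`
  have hNZ : N ≤ Z := by
    intro n hn
    have hn' : n ∈ Q₁ ⊔ Z := hQ'le (hNQ' hn)
    have hnorm : ∀ h ∈ Q₁, ∀ k ∈ Z, h * k * h⁻¹ ∈ Z := by
      intro h hh k hk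
      rw [hBcent k (hZB hk) h (hQ₁S hh), mul_inv_cancel_right]
      exact hk
    obtain ⟨q, hq, z, hz, rfl⟩ := exists_mul_of_mem_sup hnorm hn'
    have hqN : q ∈ N := by
      have := N.mul_mem hn (N.inv_mem (hZN hz))
      rwa [mul_inv_cancel_right] at this
    have hq1 : q ∈ Q₁ ⊓ N := ⟨hq, hqN⟩
    rw [hQ₁N, Subgroup.mem_bot] at hq1
    rw [hq1, one_mul]
    exact hz
  intro n hn s hs
  exact hBcent n (hZB (hNZ hn)) s hs

/-- a subgroup contained in all subgroups of a prescribed order smaller than `|S|` lies in the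
Frattini subgroup -/
theorem le_frattini_of_le_all [Finite S] {p : ℕ} [Fact p.Prime] (hS : IsPGroup p S) {d : ℕ}
    (hd : p ^ d < Nat.card S) {N : Subgroup Ω} (hNS : N ≤ S)
    (hall : ∀ Q : Subgroup Ω, Q ≤ S → Nat.card Q = p ^ d → N ≤ Q) :
    N ≤ (frattini ↥S).map S.subtype := by
  have hp : p.Prime := Fact.out
  intro n hn
  refine ⟨⟨n, hNS hn⟩, ?_, rfl⟩
  have h1 : Subgroup.zpowers (⟨n, hNS hn⟩ : ↥S) ≤ frattini ↥S := by
    rw [Cfsg.Agent.Lib.H1.le_frattini_iff]
    intro M hM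
    have hidx := Cfsg.Agent.Lib.H1.isPGroup_coatom_index hS hM
    have hMS : M.map S.subtype ≤ S := by
      rintro _ ⟨y, -, rfl⟩
      exact y.2
    haveI : Finite ↥(M.map S.subtype) := finite_of_le hMS
    have hcM : Nat.card ↥(M.map S.subtype) = Nat.card M :=
      Subgroup.card_map_of_injective S.subtype_injective
    have hmul := M.card_mul_index
    rw [hidx] at hmul
    -- `p ^ d ≤ |M|`
    obtain ⟨k, hk⟩ := hS.exists_card_eq
    obtain ⟨m, hm⟩ := (hS.to_subgroup M).exists_card_eq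
    have hkm : k = m + 1 := by
      rw [hk, hm, ← pow_succ] at hmul
      exact (Nat.pow_right_injective hp.two_le hmul).symm
    have hdm : d ≤ m := by
      rw [hk] at hd
      have := (Nat.pow_lt_pow_iff_right hp.one_lt).1 hd
      omega
    obtain ⟨Q, -, hQM, hQc⟩ := exists_between (hS.to_le hMS) (bot_le : ⊥ ≤ M.map S.subtype)
      (d := d) (by rw [Subgroup.card_bot]; exact Nat.one_le_pow _ _ hp.pos)
      (by rw [hcM, hm]; exact Nat.pow_le_pow_right hp.pos hdm)
    have hnQ : n ∈ M.map S.subtype := hQM (hall Q (hQM.trans hMS) hQc hn)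
    obtain ⟨y, hy, hyn⟩ := hnQ
    rw [Subgroup.zpowers_le]
    have : y = ⟨n, hNS hn⟩ := Subtype.ext hyn
    rwa [← this]
  exact h1 (Subgroup.mem_zpowers _)

end position

section induction

variable {p : ℕ} [Fact p.Prime]

/-- **The induction.** -/
theorem goal_all : ∀ n : ℕ, Goal.{u} p n := by
  intro n
  induction n using Nat.strong_induction_on with
  | _ n ih =>
    intro Ω _ S _ hcard hS F hF d hd h1 hA
    have hp : p.Prime := Fact.out
    rcases Nat.eq_zero_or_pos d with hd0 | hdpos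
    · subst hd0
      intro P f hf
      haveI : Finite P := finite_of_le hf.le_left
      exact hA P f (by rw [pow_zero]; exact Nat.card_pos) hf
    -- the smallest non-trivial strongly closed subgroup
    have hSne : S ≠ ⊥ := by
      rw [← Subgroup.one_lt_card_iff_ne_bot]
      exact lt_of_le_of_lt (Nat.one_le_pow _ _ hp.pos) hd
    have hSmem : S ∈ {P : Subgroup Ω | F.StronglyClosed P ∧ P ≠ ⊥} :=
      ⟨stronglyClosed_self F, hSne⟩
    have hNsc : F.StronglyClosed (sInf {P : Subgroup Ω | F.StronglyClosed P ∧ P ≠ ⊥}) :=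
      sInf_stronglyClosed ⟨S, hSmem⟩ (fun P hP => hP.1)
    have hNmin : ∀ P : Subgroup Ω, F.StronglyClosed P → P ≠ ⊥ →
        sInf {P : Subgroup Ω | F.StronglyClosed P ∧ P ≠ ⊥} ≤ P := fun P h h' => sInf_le ⟨h, h'⟩
    -- automorphisms of order prime to `p` are trivial modulo it
    have hQ1 : ∀ (R : Subgroup Ω) (f : Ω → Ω), IsIso F R R f → PPrime p R f → ∀ x ∈ R,
        x⁻¹ * f x ∈ sInf {P : Subgroup Ω | F.StronglyClosed P ∧ P ≠ ⊥} := by
      intro R f hf hpp x hx
      rw [Subgroup.mem_sInf]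
      rintro P ⟨hP, hPne⟩
      obtain ⟨Ω', _, S', F', θ, hsm, hker, -⟩ := exists_factor hS hF hP
      have hK : F.StronglyClosed (kerSub θ) := hker ▸ hP
      have hall : AllP p F' := quot_allP ih hcard hS hF hd h1 hA hsm hK (hker ▸ hPne)
      have := pprime_trivial_mod hsm.1 hall hf hpp x hx
      rwa [hker] at this
    have hD : ∀ Q : Subgroup Ω, Q ≤ S → Nat.card Q = p ^ d →
        sInf {P : Subgroup Ω | F.StronglyClosed P ∧ P ≠ ⊥} ≤ Q ∨
          Q ⊓ sInf {P : Subgroup Ω | F.StronglyClosed P ∧ P ≠ ⊥} = ⊥ :=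
      fun Q hQS hQc => le_or_disjoint hdpos h1 hNmin hQS hQc
    by_cases hcase : ∃ Q₁ : Subgroup Ω, Q₁ ≤ S ∧ Nat.card Q₁ = p ^ d ∧
        Q₁ ⊓ sInf {P : Subgroup Ω | F.StronglyClosed P ∧ P ≠ ⊥} = ⊥
    · obtain ⟨Q₁, hQ₁S, hQ₁c, hQ₁N⟩ := hcase
      have hcent := le_center_of_disjoint hS hdpos hNsc hD hQ₁S hQ₁c hQ₁N
      exact allP_of_pprime_trivial (pprime_trivial_of_central hS hF hd.le hA hNsc hcent hQ1)
    · push Not at hcase
      have hall : ∀ Q : Subgroup Ω, Q ≤ S → Nat.card Q = p ^ d →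
          sInf {P : Subgroup Ω | F.StronglyClosed P ∧ P ≠ ⊥} ≤ Q :=
        fun Q hQS hQc => (hD Q hQS hQc).resolve_right (hcase Q hQS hQc)
      exact allP_of_pprime_frattini hS hF (le_frattini_of_le_all hS hd hNsc.1 hall) hQ1

/-- **The criterion**: if every subgroup of order `p ^ d < |S|` is weakly embedded and the normalizer
systems of the fully normalized subgroups of that order are inner, then all automorphisms in `F`
are `p`-automorphisms. -/
theorem allP_of_weakly_embedded {Ω : Type u} [Group Ω] {S : Subgroup Ω} [Finite S]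
    (hS : IsPGroup p S) {F : FusionSystem S} (hF : F.IsSaturated p) {d : ℕ}
    (hd : p ^ d < Nat.card S) (h1 : H1c F (p ^ d))
    (h2 : ∀ H : Subgroup Ω, F.IsFullyNormalized H → Nat.card H = p ^ d →
      ∀ N : FusionSystem (normalizerIn S H), F.IsNormalizerSystem H N →
      ∀ P : Subgroup Ω, N.Hom P = (innerFusionSystem (normalizerIn S H)).Hom P) :
    AllP p F :=
  goal_all _ rfl hS F hF d hd h1 (ac_of_h1_h2 hS hF h1 h2)

end induction

end Cfsg.Agent.Lib.H25.WEmb
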