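import Mathlib

/-!
# S2244 piece BAD21 (helper25), and the shared "work modulo `N'`" lemmas used by BAD31.
-/

set_option autoImplicit false

namespace Cfsg.Agent.Lib.H25.Wc

section core

variable {F : Type*} [Add F] {Q : Type*} [Group Q]

/-- Three commuting one-parameter families: the product of two "triples" is the triple of the sums. -/
theorem bad_prod3 (X1 X2 Xb : F → Q)
    (h1 : ∀ s t, X1 (s + t) = X1 s * X1 t) (h2 : ∀ s t, X2 (s + t) = X2 s * X2 t)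
    (hb : ∀ s t, Xb (s + t) = Xb s * Xb t)
    (h12 : ∀ s t, X2 t * X1 s = X1 s * X2 t) (hcen : ∀ w (g : Q), Xb w * g = g * Xb w)
    (s t w s' t' w' : F) :
    (X1 s * X2 t * Xb w) * (X1 s' * X2 t' * Xb w') = X1 (s + s') * X2 (t + t') * Xb (w + w') := by
  rw [h1, h2, hb]
  calc (X1 s * X2 t * Xb w) * (X1 s' * X2 t' * Xb w')
      = X1 s * X2 t * (Xb w * X1 s') * X2 t' * Xb w' := by group
    _ = X1 s * X2 t * (X1 s' * Xb w) * X2 t' * Xb w' := by rw [hcen w (X1 s')]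
    _ = X1 s * (X2 t * X1 s') * (Xb w * X2 t') * Xb w' := by group
    _ = X1 s * (X1 s' * X2 t) * (X2 t' * Xb w) * Xb w' := by rw [h12 s' t, hcen w (X2 t')]
    _ = X1 s * X1 s' * (X2 t * X2 t') * (Xb w * Xb w') := by group

end core

section quot

variable {G : Type*} [Group G] (U Y N' : Subgroup G)

theorem bad_normal (hN' : ∀ g ∈ U, ∀ x ∈ N', g * x * g⁻¹ ∈ N') : (N'.subgroupOf U).Normal :=
  ⟨fun n hn g => by
    rw [Subgroup.mem_subgroupOf] at hn ⊢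
    simpa using hN' g g.2 n hn⟩

/-- If `g, y ∈ U` have the same image modulo `N' ≤ Y` and `y ∈ Y`, then `g ∈ Y`. -/
theorem bad_mem_of_mk_eq (hN'Y : N' ≤ Y) [(N'.subgroupOf U).Normal] (g y : U) (hy : (y : G) ∈ Y)
    (h : (QuotientGroup.mk' (N'.subgroupOf U)) g = (QuotientGroup.mk' (N'.subgroupOf U)) y) :
    (g : G) ∈ Y := by
  have h1 : y⁻¹ * g ∈ N'.subgroupOf U := by
    have := h.symm
    rw [QuotientGroup.mk'_apply, QuotientGroup.mk'_apply] at this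
    exact QuotientGroup.eq.1 this
  rw [Subgroup.mem_subgroupOf] at h1
  have h2 : ((y : G))⁻¹ * (g : G) ∈ Y := hN'Y (by simpa using h1)
  have : (g : G) = (y : G) * (((y : G))⁻¹ * (g : G)) := by group
  rw [this]
  exact Y.mul_mem hy h2

/-- A commutator in `N'` makes the images commute. -/
theorem bad_commute (hN' : ∀ g ∈ U, ∀ x ∈ N', g * x * g⁻¹ ∈ N') [(N'.subgroupOf U).Normal] (a b : U)
    (h : (a : G) * b * (a : G)⁻¹ * (b : G)⁻¹ ∈ N') :
    (QuotientGroup.mk' (N'.subgroupOf U)) b * (QuotientGroup.mk' (N'.subgroupOf U)) a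
      = (QuotientGroup.mk' (N'.subgroupOf U)) a * (QuotientGroup.mk' (N'.subgroupOf U)) b := by
  rw [← map_mul, ← map_mul, QuotientGroup.mk'_apply, QuotientGroup.mk'_apply, QuotientGroup.eq,
    Subgroup.mem_subgroupOf]
  have h1 := hN' (((b * a)⁻¹ : U) : G) ((b * a)⁻¹ : U).2 _ h
  have h2 : (((b * a)⁻¹ * (a * b) : U) : G)
      = (((b * a)⁻¹ : U) : G) * ((a : G) * b * (a : G)⁻¹ * (b : G)⁻¹) * ((((b * a)⁻¹ : U) : G))⁻¹ := by
    simp only [Subgroup.coe_mul, Subgroup.coe_inv]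
    group
  rw [h2]
  exact h1

end quot

/-- an element different from `0` and `1` in a field with at least three elements. -/
theorem bad_exists_ne {F : Type*} [Field F] [Fintype F] (hq : 3 ≤ Fintype.card F) :
    ∃ ζ : F, ζ ≠ 0 ∧ ζ ≠ 1 := by
  classical
  by_contra hcon
  have hcon' : ∀ x : F, x ≠ 0 → x = 1 := by
    intro x hx
    by_contra h1
    exact hcon ⟨x, hx, h1⟩
  have hsub : (Finset.univ : Finset F) ⊆ {0, 1} := by
    intro x _
    by_cases hx : x = 0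
    · simp [hx]
    · simp [hcon' x hx]
  have := Finset.card_le_card hsub
  have h2 : ({0, 1} : Finset F).card ≤ 2 := Finset.card_le_two
  rw [Finset.card_univ] at this
  omega

/-- **BAD21**. -/
theorem bad21 {F : Type*} [Field F] [Fintype F] (hq : 3 ≤ Fintype.card F) {G : Type*} [Group G]
    (U Y N' : Subgroup G) (hN'Y : N' ≤ Y)
    (hN' : ∀ g ∈ U, ∀ x ∈ N', g * x * g⁻¹ ∈ N')
    (xm xb : F → G) (hxmU : ∀ t, xm t ∈ U) (hxbU : ∀ t, xb t ∈ U)
    (hxm : ∀ s t, xm (s + t) = xm s * xm t) (hxb : ∀ s t, xb (s + t) = xb s * xb t)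
    (hcen : ∀ g ∈ U, ∀ w, g * xb w * g⁻¹ * (xb w)⁻¹ ∈ N')
    (a b : F) (hb : b ≠ 0)
    (H : ∀ t u : F, ∃ m ∈ N', xm (a * (t * u)) * xb (b * (t ^ 2 * u)) * m ∈ Y)
    (z : F) : xb z ∈ Y := by
  classical
  -- the hypothesis without `m`
  have H' : ∀ t u : F, xm (a * (t * u)) * xb (b * (t ^ 2 * u)) ∈ Y := by
    intro t u
    obtain ⟨m, hm, hmY⟩ := H t u
    have : xm (a * (t * u)) * xb (b * (t ^ 2 * u))
        = (xm (a * (t * u)) * xb (b * (t ^ 2 * u)) * m) * m⁻¹ := by group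
    rw [this]
    exact Y.mul_mem hmY (Y.inv_mem (hN'Y hm))
  obtain ⟨ζ, hζ0, hζ1⟩ := bad_exists_ne hq
  have h1ζ : (1 : F) - ζ ≠ 0 := sub_ne_zero.2 (Ne.symm hζ1)
  have hnorm := bad_normal U N' hN'
  let π := QuotientGroup.mk' (N'.subgroupOf U)
  let Xm : F → U ⧸ N'.subgroupOf U := fun t => π ⟨xm t, hxmU t⟩
  let X2 : F → U ⧸ N'.subgroupOf U := fun _ => 1
  let Xb : F → U ⧸ N'.subgroupOf U := fun t => π ⟨xb t, hxbU t⟩
  have hXm : ∀ s t, Xm (s + t) = Xm s * Xm t := by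
    intro s t
    show π _ = π _ * π _
    rw [← map_mul]; congr 1; exact Subtype.ext (hxm s t)
  have hXb : ∀ s t, Xb (s + t) = Xb s * Xb t := by
    intro s t
    show π _ = π _ * π _
    rw [← map_mul]; congr 1; exact Subtype.ext (hxb s t)
  have hX2 : ∀ s t : F, X2 (s + t) = X2 s * X2 t := by intro s t; simp [X2]
  have h12 : ∀ s t, X2 t * Xm s = Xm s * X2 t := by intro s t; simp [X2]
  have hcenQ : ∀ w (g : U ⧸ N'.subgroupOf U), Xb w * g = g * Xb w := by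
    intro w g
    obtain ⟨g, rfl⟩ := QuotientGroup.mk'_surjective (N'.subgroupOf U) g
    exact bad_commute U N' hN' g ⟨xb w, hxbU w⟩ (hcen g g.2 w)
  -- the two elements
  set u₀ : F := z / (b * (1 - ζ)) with hu₀
  have hE1 := H' 1 u₀
  have hE2 := H' ζ (-(u₀ / ζ))
  have hxm0 : xm 0 = 1 := by
    have := hxm 0 0
    rw [add_zero] at this
    exact (mul_eq_left (a := xm 0)).1 this.symm |> fun h => h
  -- the product, in `U`
  let e1 : U := ⟨xm (a * (1 * u₀)), hxmU _⟩ * ⟨xb (b * (1 ^ 2 * u₀)), hxbU _⟩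
  let e2 : U := ⟨xm (a * (ζ * (-(u₀ / ζ)))), hxmU _⟩ * ⟨xb (b * (ζ ^ 2 * (-(u₀ / ζ)))), hxbU _⟩
  have hy : ((e1 * e2 : U) : G) ∈ Y := by
    show (xm _ * xb _) * (xm _ * xb _) ∈ Y
    exact Y.mul_mem hE1 hE2
  have hπ : π ⟨xb z, hxbU z⟩ = π (e1 * e2) := by
    have h1 : π e1 = Xm (a * (1 * u₀)) * X2 0 * Xb (b * (1 ^ 2 * u₀)) := by
      show π (_ * _) = π _ * 1 * π _
      rw [map_mul, mul_one]
    have h2 : π e2 = Xm (a * (ζ * (-(u₀ / ζ)))) * X2 0 * Xb (b * (ζ ^ 2 * (-(u₀ / ζ)))) := by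
      show π (_ * _) = π _ * 1 * π _
      rw [map_mul, mul_one]
    rw [map_mul, h1, h2, bad_prod3 Xm X2 Xb hXm hX2 hXb h12 hcenQ]
    have hs : a * (1 * u₀) + a * (ζ * (-(u₀ / ζ))) = 0 := by field_simp; ring
    have hw : b * (1 ^ 2 * u₀) + b * (ζ ^ 2 * (-(u₀ / ζ))) = z := by
      rw [hu₀]; field_simp; ring
    rw [hs, hw]
    show π _ = π ⟨xm 0, _⟩ * 1 * π _
    have : (⟨xm 0, hxmU 0⟩ : U) = 1 := Subtype.ext hxm0
    rw [this, map_one, mul_one, one_mul]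
  exact bad_mem_of_mk_eq U Y N' hN'Y ⟨xb z, hxbU z⟩ (e1 * e2) hy hπ

end Cfsg.Agent.Lib.H25.Wc
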