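import Mathlib
import Cfsg.Agent.Lib.H25.WcBAD21

/-!
# S2244 piece BAD31 (helper25).
-/

set_option autoImplicit false

namespace Cfsg.Agent.Lib.H25.Wc

/-- three distinct non-zero elements in a field with at least four elements. -/
theorem bad_exists_three {F : Type*} [Field F] [Fintype F] (hq : 4 ≤ Fintype.card F) :
    ∃ τ₁ τ₂ τ₃ : F, τ₁ ≠ 0 ∧ τ₂ ≠ 0 ∧ τ₃ ≠ 0 ∧ τ₁ ≠ τ₂ ∧ τ₁ ≠ τ₃ ∧ τ₂ ≠ τ₃ := by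
  classical
  have hc : 2 < ((Finset.univ : Finset F).erase 0).card := by
    rw [Finset.card_erase_of_mem (Finset.mem_univ _), Finset.card_univ]
    omega
  obtain ⟨a, b, c, ha, hb, hc', hab, hac, hbc⟩ := Finset.two_lt_card_iff.1 hc
  exact ⟨a, b, c, (Finset.mem_erase.1 ha).1, (Finset.mem_erase.1 hb).1, (Finset.mem_erase.1 hc').1,
    hab, hac, hbc⟩

/-- the Lagrange weights. -/
theorem bad_lagrange {F : Type*} [Field F] (τ₁ τ₂ τ₃ : F) (h1 : τ₁ ≠ 0) (h2 : τ₂ ≠ 0) (h3 : τ₃ ≠ 0)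
    (h12 : τ₁ ≠ τ₂) (h13 : τ₁ ≠ τ₃) (h23 : τ₂ ≠ τ₃) (z' : F) :
    ∃ u₁ u₂ u₃ : F, τ₁ * u₁ + τ₂ * u₂ + τ₃ * u₃ = 0 ∧ τ₁ ^ 2 * u₁ + τ₂ ^ 2 * u₂ + τ₃ ^ 2 * u₃ = 0 ∧
      τ₁ ^ 3 * u₁ + τ₂ ^ 3 * u₂ + τ₃ ^ 3 * u₃ = z' := by
  have d12 : τ₁ - τ₂ ≠ 0 := sub_ne_zero.2 h12
  have d13 : τ₁ - τ₃ ≠ 0 := sub_ne_zero.2 h13
  have d23 : τ₂ - τ₃ ≠ 0 := sub_ne_zero.2 h23
  have d21 : τ₂ - τ₁ ≠ 0 := sub_ne_zero.2 (Ne.symm h12)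
  have d31 : τ₃ - τ₁ ≠ 0 := sub_ne_zero.2 (Ne.symm h13)
  have d32 : τ₃ - τ₂ ≠ 0 := sub_ne_zero.2 (Ne.symm h23)
  refine ⟨z' / (τ₁ * ((τ₁ - τ₂) * (τ₁ - τ₃))), z' / (τ₂ * ((τ₂ - τ₁) * (τ₂ - τ₃))),
    z' / (τ₃ * ((τ₃ - τ₁) * (τ₃ - τ₂))), ?_, ?_, ?_⟩
  · field_simp
    ring
  · field_simp
    ring
  · field_simp
    ring

/-- **BAD31**. -/
theorem bad31 {F : Type*} [Field F] [Fintype F] (hq : 4 ≤ Fintype.card F) {G : Type*} [Group G]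
    (U Y N' : Subgroup G) (hN'Y : N' ≤ Y)
    (hN' : ∀ g ∈ U, ∀ x ∈ N', g * x * g⁻¹ ∈ N')
    (x1 x2 xb : F → G) (hx1U : ∀ t, x1 t ∈ U) (hx2U : ∀ t, x2 t ∈ U) (hxbU : ∀ t, xb t ∈ U)
    (hx1 : ∀ s t, x1 (s + t) = x1 s * x1 t) (hx2 : ∀ s t, x2 (s + t) = x2 s * x2 t)
    (hxb : ∀ s t, xb (s + t) = xb s * xb t)
    (hcen : ∀ g ∈ U, ∀ w, g * xb w * g⁻¹ * (xb w)⁻¹ ∈ N')
    (hcomm : ∀ v w, x1 v * x2 w * (x1 v)⁻¹ * (x2 w)⁻¹ ∈ N')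
    (a1 a2 b : F) (hb : b ≠ 0)
    (H : ∀ t u : F, ∃ m ∈ N', x1 (a1 * (t * u)) * x2 (a2 * (t ^ 2 * u)) * xb (b * (t ^ 3 * u)) * m ∈ Y)
    (z : F) : xb z ∈ Y := by
  classical
  -- the hypothesis without `m`
  have H' : ∀ t u : F, x1 (a1 * (t * u)) * x2 (a2 * (t ^ 2 * u)) * xb (b * (t ^ 3 * u)) ∈ Y := by
    intro t u
    obtain ⟨m, hm, hmY⟩ := H t u
    have : x1 (a1 * (t * u)) * x2 (a2 * (t ^ 2 * u)) * xb (b * (t ^ 3 * u))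
        = (x1 (a1 * (t * u)) * x2 (a2 * (t ^ 2 * u)) * xb (b * (t ^ 3 * u)) * m) * m⁻¹ := by group
    rw [this]
    exact Y.mul_mem hmY (Y.inv_mem (hN'Y hm))
  obtain ⟨τ₁, τ₂, τ₃, h1, h2, h3, h12, h13, h23⟩ := bad_exists_three hq
  obtain ⟨u₁, u₂, u₃, hs1, hs2, hs3⟩ := bad_lagrange τ₁ τ₂ τ₃ h1 h2 h3 h12 h13 h23 (z / b)
  have hnorm := bad_normal U N' hN'
  let π := QuotientGroup.mk' (N'.subgroupOf U)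
  let X1 : F → U ⧸ N'.subgroupOf U := fun t => π ⟨x1 t, hx1U t⟩
  let X2 : F → U ⧸ N'.subgroupOf U := fun t => π ⟨x2 t, hx2U t⟩
  let Xb : F → U ⧸ N'.subgroupOf U := fun t => π ⟨xb t, hxbU t⟩
  have hX1 : ∀ s t, X1 (s + t) = X1 s * X1 t := by
    intro s t
    show π _ = π _ * π _
    rw [← map_mul]; congr 1; exact Subtype.ext (hx1 s t)
  have hX2 : ∀ s t, X2 (s + t) = X2 s * X2 t := by
    intro s t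
    show π _ = π _ * π _
    rw [← map_mul]; congr 1; exact Subtype.ext (hx2 s t)
  have hXb : ∀ s t, Xb (s + t) = Xb s * Xb t := by
    intro s t
    show π _ = π _ * π _
    rw [← map_mul]; congr 1; exact Subtype.ext (hxb s t)
  have hc12 : ∀ s t, X2 t * X1 s = X1 s * X2 t := by
    intro s t
    exact bad_commute U N' hN' ⟨x1 s, hx1U s⟩ ⟨x2 t, hx2U t⟩ (hcomm s t)
  have hcenQ : ∀ w (g : U ⧸ N'.subgroupOf U), Xb w * g = g * Xb w := by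
    intro w g
    obtain ⟨g, rfl⟩ := QuotientGroup.mk'_surjective (N'.subgroupOf U) g
    exact bad_commute U N' hN' g ⟨xb w, hxbU w⟩ (hcen g g.2 w)
  have hx10 : x1 0 = 1 := by
    have := hx1 0 0
    rw [add_zero] at this
    exact (mul_eq_left (a := x1 0)).1 this.symm
  have hx20 : x2 0 = 1 := by
    have := hx2 0 0
    rw [add_zero] at this
    exact (mul_eq_left (a := x2 0)).1 this.symm
  -- the three elements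
  let E : F → F → U := fun t u =>
    ⟨x1 (a1 * (t * u)), hx1U _⟩ * ⟨x2 (a2 * (t ^ 2 * u)), hx2U _⟩ * ⟨xb (b * (t ^ 3 * u)), hxbU _⟩
  have hEY : ∀ t u, ((E t u : U) : G) ∈ Y := fun t u => H' t u
  have hEπ : ∀ t u, π (E t u) = X1 (a1 * (t * u)) * X2 (a2 * (t ^ 2 * u)) * Xb (b * (t ^ 3 * u)) := by
    intro t u
    show π (_ * _ * _) = π _ * π _ * π _
    rw [map_mul, map_mul]
  have hy : ((E τ₁ u₁ * E τ₂ u₂ * E τ₃ u₃ : U) : G) ∈ Y := by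
    rw [Subgroup.coe_mul, Subgroup.coe_mul]
    exact Y.mul_mem (Y.mul_mem (hEY _ _) (hEY _ _)) (hEY _ _)
  have hπ : π ⟨xb z, hxbU z⟩ = π (E τ₁ u₁ * E τ₂ u₂ * E τ₃ u₃) := by
    rw [map_mul, map_mul, hEπ, hEπ, hEπ, bad_prod3 X1 X2 Xb hX1 hX2 hXb hc12 hcenQ,
      bad_prod3 X1 X2 Xb hX1 hX2 hXb hc12 hcenQ]
    have e1 : a1 * (τ₁ * u₁) + a1 * (τ₂ * u₂) + a1 * (τ₃ * u₃) = 0 := by
      have : a1 * (τ₁ * u₁) + a1 * (τ₂ * u₂) + a1 * (τ₃ * u₃)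
          = a1 * (τ₁ * u₁ + τ₂ * u₂ + τ₃ * u₃) := by ring
      rw [this, hs1, mul_zero]
    have e2 : a2 * (τ₁ ^ 2 * u₁) + a2 * (τ₂ ^ 2 * u₂) + a2 * (τ₃ ^ 2 * u₃) = 0 := by
      have : a2 * (τ₁ ^ 2 * u₁) + a2 * (τ₂ ^ 2 * u₂) + a2 * (τ₃ ^ 2 * u₃)
          = a2 * (τ₁ ^ 2 * u₁ + τ₂ ^ 2 * u₂ + τ₃ ^ 2 * u₃) := by ring
      rw [this, hs2, mul_zero]
    have e3 : b * (τ₁ ^ 3 * u₁) + b * (τ₂ ^ 3 * u₂) + b * (τ₃ ^ 3 * u₃) = z := by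
      have : b * (τ₁ ^ 3 * u₁) + b * (τ₂ ^ 3 * u₂) + b * (τ₃ ^ 3 * u₃)
          = b * (τ₁ ^ 3 * u₁ + τ₂ ^ 3 * u₂ + τ₃ ^ 3 * u₃) := by ring
      rw [this, hs3]; field_simp
    rw [e1, e2, e3]
    show π _ = π ⟨x1 0, _⟩ * π ⟨x2 0, _⟩ * π _
    have t1 : (⟨x1 0, hx1U 0⟩ : U) = 1 := Subtype.ext hx10
    have t2 : (⟨x2 0, hx2U 0⟩ : U) = 1 := Subtype.ext hx20
    rw [t1, t2, map_one, one_mul, one_mul]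
  exact bad_mem_of_mk_eq U Y N' hN'Y ⟨xb z, hxbU z⟩ (E τ₁ u₁ * E τ₂ u₂ * E τ₃ u₃) hy hπ

end Cfsg.Agent.Lib.H25.Wc
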