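import Mathlib
import Cfsg.Agent.Lib.H25.ZasE4f

/-!
# Zassenhaus, H-level, part E for `n = 4`: assembly in hypothesis form
-/

set_option autoImplicit false
set_option linter.style.haveILetI false

namespace Cfsg.Agent.Lib.H25.Zas

open Subgroup

namespace HCtx

variable {H : Type*} [Group H] [Finite H]

/-- part E for `n = 4`, given the counting identities (block D) and the local estimates Q1, Q2, Q3,
Q5 for bad configurations -/
theorem part_E_four_of (h : HCtx H 4) (hE1 : Count3 H) (hE2 : Count2 H)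
    (hQ1 : ∀ t u : H, BadFour t u → ∀ b ∈ Kc t, orderOf b = 3 →
      Nat.card {j : H // orderOf j = 2 ∧ j * b * j⁻¹ ∈ zpowers b} ≤ 3 + 6 * Nat.card (Kc t))
    (hQ2 : ∀ t u : H, BadFour t u → ∀ b ∈ Kc t, orderOf b = 3 →
      Nat.card {X : Subgroup H // b ∈ X ∧ Nonempty (X ≃* Equiv.Perm (Fin 4))} ≤
        Nat.card {X : Subgroup H // b ∈ X ∧ Nonempty (X ≃* alternatingGroup (Fin 4))})
    (hQ3 : ∀ t u : H, BadFour t u → ∀ b ∈ Kc t, orderOf b = 3 → ∀ X₀ : Subgroup H, b ∈ X₀ →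
      Nonempty (X₀ ≃* alternatingGroup (Fin 4)) →
      4 * Nat.card (Kc t) ≤
        Nat.card {X : Subgroup H // b ∈ X ∧ Nonempty (X ≃* alternatingGroup (Fin 4))})
    (hQ5 : ∀ b : H, orderOf b = 3 → ∀ L : Subgroup H, b ∈ L →
      Nonempty (L ≃* alternatingGroup (Fin 5)) →
      ∃ X : Subgroup H, b ∈ X ∧ Nonempty (X ≃* alternatingGroup (Fin 4)))
    (t u : H) (ht : orderOf t = 2) (hu : orderOf u = 2) (htu : t * u = u * t) (hne : t ≠ u) :
    ∀ y ∈ Kc t, u * y = y * u → y = 1 := by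
  intro y hy hyu
  by_contra hy1
  have B := h.badFour_of ht hu htu hne hy hy1 hyu
  by_cases h3 : 3 ∣ Nat.card (Kc t)
  · exact B.false_of_dvd h h3 hE1 hE2 (hQ1 t u B) (hQ2 t u B) (hQ3 t u B) hQ5
  · exact B.false_of_not_dvd h h3 hE1 hE2

end HCtx

end Cfsg.Agent.Lib.H25.Zas
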