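import Mathlib
import Cfsg.Agent.Lib.H25.ZasE4f

/-!
# Zassenhaus, H-level, `n = 4`, case `3 ∣ |K_t|`: the number of involutions of `N_H(⟨b⟩)` (Q1)
-/

set_option autoImplicit false
set_option linter.style.haveILetI false

namespace Cfsg.Agent.Lib.H25.Zas

open Subgroup

namespace BadFour

variable {H : Type*} [Group H] [Finite H] {t u : H} (B : BadFour t u) (h : HCtx H 4)

include B h

/-- the involutions of `C_H(t)` outside the four-group: at most `2 |K_t|` -/
theorem ncard_inv_centralizer_le :
    {j : H | orderOf j = 2 ∧ j * t = t * j ∧ j ≠ t ∧ j ≠ u ∧ j ≠ t * u}.ncard ≤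
      2 * Nat.card (Kc t) := by
  obtain ⟨y, hy, hp⟩ := exists_prime_order_of_ne_bot (Kc t) B.hne1
  obtain ⟨hNtop, hCt, hCu, hCtu, hnorm⟩ := B.normalizer_facts h hy hp
  set N := normalizer ((zpowers y : Subgroup H) : Set H) with hN
  obtain ⟨S, A, F⟩ := h.exists_frame B.ht
  have hSN : (S : Subgroup H) ≤ N := fun s hs =>
    hCt (mem_centralizer_singleton_iff.mpr (F.htZ s hs))
  have hVS : kleinOf t u B.ht2 B.hu2 B.htu ≤ (S : Subgroup H) :=
    le_sylow_of_normBy N _ (fun v hv => by
      rcases mem_kleinOf.mp hv with rfl | rfl | rfl | rfl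
      · exact N.one_mem
      · exact hSN F.htS
      · exact hCu (mem_centralizer_singleton_iff.mpr rfl)
      · exact N.mul_mem (hSN F.htS) (hCu (mem_centralizer_singleton_iff.mpr rfl)))
      hnorm (by
        apply IsPGroup.of_card (n := 2)
        rw [(isKleinFour_kleinOf B.ht2 B.hu2 B.htu B.ht1 B.hu1 B.hne).card_four]; norm_num) S hSN
  have huS : u ∈ (S : Subgroup H) := hVS right_mem_kleinOf
  have huA : u ∉ A := fun huA => B.hne (F.eq_of_mem_of_sq huA B.hu2 B.hu1).symm
  have huinv : u⁻¹ = u := inv_eq_of_mul_eq_one_left B.hu2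
  obtain ⟨r, hrA, hr2⟩ := F.exists_sq_eq
  have hSC : (S : Subgroup H) ≤ centralizer ({t} : Set H) := fun s hs =>
    mem_centralizer_singleton_iff.mpr (F.htZ s hs)
  haveI : Fact (Nat.Prime 2) := ⟨Nat.prime_two⟩
  have hKS : Kc t ⊓ (S : Subgroup H) = ⊥ :=
    inf_eq_bot_of_odd_of_two _ _ (h.odd_card_Kc B.ht) S.isPGroup'
  -- the two cosets
  have hsub : {j : H | orderOf j = 2 ∧ j * t = t * j ∧ j ≠ t ∧ j ≠ u ∧ j ≠ t * u} ⊆
      ((fun k : H => k * (r * u)) '' (Kc t : Set H)) ∪
        ((fun k : H => k * (r⁻¹ * u)) '' (Kc t : Set H)) := by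
    rintro j ⟨oj, hjt, hj1, hj2, hj3⟩
    have hj2' : j * j = 1 := by
      have := pow_orderOf_eq_one j
      rwa [oj, pow_two] at this
    obtain ⟨k, hk, s, hs, rfl⟩ := h.centralizer_eq_mul B.ht S F.htZ j
      (mem_centralizer_singleton_iff.mpr hjt)
    have hsk : s * k * s⁻¹ ∈ Kc t := h.normBy_Kc B.ht s (hSC hs) k hk
    -- `s * s = 1`
    have hs2 : s * s = 1 := by
      have h1 : s * s = (k * (s * k * s⁻¹))⁻¹ := by
        rw [eq_inv_iff_mul_eq_one]
        calc s * s * (k * (s * k * s⁻¹)) = s * ((s * k) * (s * k)) * s⁻¹ := by group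
          _ = s * (k⁻¹ * ((k * s) * (k * s)) * k) * s⁻¹ := by group
          _ = 1 := by rw [hj2']; group
      have h2 : s * s ∈ Kc t ⊓ (S : Subgroup H) :=
        ⟨h1 ▸ (Kc t).inv_mem ((Kc t).mul_mem hk hsk), (S : Subgroup H).mul_mem hs hs⟩
      rw [hKS, mem_bot] at h2
      exact h2
    -- `s ∉ V`
    have hkcomm : ∀ v ∈ kleinOf t u B.ht2 B.hu2 B.htu, k * v = v * k := by
      intro v hv
      have h1 := ((h.mem_Kc_iff B.ht).mp hk).1
      have h2 := B.hK k hk
      rcases mem_kleinOf.mp hv with rfl | rfl | rfl | rfl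
      · simp
      · exact h1
      · exact h2
      · calc k * (t * u) = (k * t) * u := by group
          _ = t * (k * u) := by rw [h1]; group
          _ = t * u * k := by rw [h2]; group
    have hsV : s ∉ kleinOf t u B.ht2 B.hu2 B.htu := by
      intro hsV
      have hks := hkcomm s hsV
      have h1 : k * k = 1 := by
        calc k * k = k * k * (s * s) := by rw [hs2, mul_one]
          _ = k * (k * s) * s := by group
          _ = k * (s * k) * s := by rw [hks]
          _ = (k * s) * (k * s) := by group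
          _ = 1 := hj2'
      have hkodd := ((h.mem_Kc_iff B.ht).mp hk).2
      have h2 : orderOf k ∣ 2 := orderOf_dvd_of_pow_eq_one (by rw [pow_two]; exact h1)
      have h3 : orderOf k = 1 := by
        rcases (Nat.dvd_prime Nat.prime_two).mp h2 with h4 | h4
        · exact h4
        · rw [h4] at hkodd; exact absurd hkodd (by decide)
      have hk1 : k = 1 := orderOf_eq_one_iff.mp h3
      rw [hk1, one_mul] at hj1 hj2 hj3
      rcases mem_kleinOf.mp hsV with h4 | h4 | h4 | h4
      · rw [hk1, h4, one_mul, orderOf_one] at oj; omega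
      · exact hj1 h4
      · exact hj2 h4
      · exact hj3 h4
    -- `s ∉ A`
    have hsA : s ∉ A := by
      intro hsA
      apply hsV
      by_cases hs1 : s = 1
      · rw [hs1]; exact one_mem _
      · rw [F.eq_of_mem_of_sq hsA hs2 hs1]; exact left_mem_kleinOf
    -- `s u ∈ A` squares to `t`
    have hsuA : s * u ∈ A := F.mul_mem_of_out hs huS hsA huA
    have hsu2 : (s * u) * (s * u) = t := by
      rcases F.sq_eq_of_four hsuA with h1 | h1
      · exfalso
        apply hsV
        by_cases h2 : s * u = 1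
        · have : s = u := by
            calc s = (s * u) * u⁻¹ := by group
              _ = u := by rw [h2, one_mul, huinv]
          rw [this]; exact right_mem_kleinOf
        · have h3 := F.eq_of_mem_of_sq hsuA h1 h2
          have : s = t * u := by
            calc s = (s * u) * u⁻¹ := by group
              _ = t * u := by rw [h3, huinv]
          rw [this]
          exact mem_kleinOf.mpr (Or.inr (Or.inr (Or.inr rfl)))
      · exact h1
    -- `s u = r` or `s u = r⁻¹`
    have hcases : s * u = r ∨ s * u = r⁻¹ := by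
      haveI := F.hAc
      have hcommA : ∀ a ∈ A, ∀ c ∈ A, a * c = c * a := by
        intro a ha c hc
        have hcy : IsCyclic A := F.hAc
        have := (IsCyclic.commGroup (α := A)).mul_comm ⟨a, ha⟩ ⟨c, hc⟩
        exact congrArg Subtype.val this
      set a := s * u with ha
      have hq : (a * r⁻¹) * (a * r⁻¹) = 1 := by
        have h1 := hcommA a hsuA r⁻¹ (A.inv_mem hrA)
        calc (a * r⁻¹) * (a * r⁻¹) = a * (r⁻¹ * a) * r⁻¹ := by group
          _ = a * (a * r⁻¹) * r⁻¹ := by rw [h1]
          _ = (a * a) * (r * r)⁻¹ := by group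
          _ = 1 := by rw [hsu2, hr2]; group
      by_cases h1 : a * r⁻¹ = 1
      · left
        calc a = (a * r⁻¹) * r := by group
          _ = r := by rw [h1, one_mul]
      · right
        have h2 := F.eq_of_mem_of_sq (A.mul_mem hsuA (A.inv_mem hrA)) hq h1
        calc a = (a * r⁻¹) * r := by group
          _ = t * r := by rw [h2]
          _ = (r * r) * r := by rw [hr2]
          _ = r⁻¹ * ((r * r) * (r * r)) := by group
          _ = r⁻¹ := by rw [hr2, F.ht2, mul_one]
    have hs_eq : s = (s * u) * u := by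
      calc s = s * (u * u) := by rw [B.hu2, mul_one]
        _ = (s * u) * u := by group
    rcases hcases with h1 | h1
    · left
      refine ⟨k, hk, ?_⟩
      show k * (r * u) = k * s
      rw [← h1, ← hs_eq]
    · right
      refine ⟨k, hk, ?_⟩
      show k * (r⁻¹ * u) = k * s
      rw [← h1, ← hs_eq]
  calc {j : H | orderOf j = 2 ∧ j * t = t * j ∧ j ≠ t ∧ j ≠ u ∧ j ≠ t * u}.ncard
      ≤ (((fun k : H => k * (r * u)) '' (Kc t : Set H)) ∪
        ((fun k : H => k * (r⁻¹ * u)) '' (Kc t : Set H))).ncard :=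
        Set.ncard_le_ncard hsub (Set.toFinite _)
    _ ≤ ((fun k : H => k * (r * u)) '' (Kc t : Set H)).ncard +
        ((fun k : H => k * (r⁻¹ * u)) '' (Kc t : Set H)).ncard := Set.ncard_union_le _ _
    _ ≤ (Kc t : Set H).ncard + (Kc t : Set H).ncard :=
        Nat.add_le_add (Set.ncard_image_le (Set.toFinite _)) (Set.ncard_image_le (Set.toFinite _))
    _ = 2 * Nat.card (Kc t) := by
        rw [← Nat.card_coe_set_eq]
        have : Nat.card ((Kc t : Subgroup H) : Set H) = Nat.card (Kc t) := rfl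
        rw [this]; ring

/-- (Q1) the number of involutions normalizing `⟨b⟩` -/
theorem card_inv_normalizer_le {b : H} (hb : b ∈ Kc t) (ob : orderOf b = 3) :
    Nat.card {j : H // orderOf j = 2 ∧ j * b * j⁻¹ ∈ zpowers b} ≤ 3 + 6 * Nat.card (Kc t) := by
  have hp : (orderOf b).Prime := ob ▸ Nat.prime_three
  obtain ⟨hNtop, hCt, hCu, hCtu, hnorm⟩ := B.normalizer_facts h hb hp
  set N := normalizer ((zpowers b : Subgroup H) : Set H) with hN
  have Bu : BadFour u t := B.symm h
  have Btu : BadFour (t * u) t := (B.mul_right h).symm h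
  have e1 := B.ncard_inv_centralizer_le h
  have e2 := Bu.ncard_inv_centralizer_le h
  have e3 := Btu.ncard_inv_centralizer_le h
  rw [B.Kc_eq h] at e2
  rw [B.Kc_mul_eq h] at e3
  have htut : t * u * t = u := by
    rw [mul_assoc, ← B.htu, ← mul_assoc, B.ht2, one_mul]
  have hsub : {j : H | orderOf j = 2 ∧ j * b * j⁻¹ ∈ zpowers b} ⊆
      ({t, u, t * u} : Set H) ∪
      {j : H | orderOf j = 2 ∧ j * t = t * j ∧ j ≠ t ∧ j ≠ u ∧ j ≠ t * u} ∪
      {j : H | orderOf j = 2 ∧ j * u = u * j ∧ j ≠ u ∧ j ≠ t ∧ j ≠ u * t} ∪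
      {j : H | orderOf j = 2 ∧ j * (t * u) = (t * u) * j ∧ j ≠ t * u ∧ j ≠ t ∧ j ≠ t * u * t} := by
    rintro j ⟨oj, hjb⟩
    have hj2 : j * j = 1 := by
      have := pow_orderOf_eq_one j
      rwa [oj, pow_two] at this
    have hjinv : j⁻¹ = j := inv_eq_of_mul_eq_one_left hj2
    have hjN : j ∈ N := by
      apply mem_normalizer_zpowers_of_eq
      rcases eq_of_mem_zpowers_of_order_three ob hjb with h1 | h1 | h1
      · exfalso
        have : b = 1 := by
          calc b = j⁻¹ * (j * b * j⁻¹) * j := by group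
            _ = 1 := by rw [h1]; group
        rw [this, orderOf_one] at ob
        omega
      · rw [h1]
      · rw [h1, zpowers_inv]
    by_cases hjV : j = t ∨ j = u ∨ j = t * u
    · left; left; left
      simpa using hjV
    · push Not at hjV
      obtain ⟨hjt, hju, hjtu⟩ := hjV
      have h1 := hnorm j hjN t left_mem_kleinOf
      rcases mem_kleinOf.mp h1 with h2 | h2 | h2 | h2
      · exfalso
        apply B.ht1
        calc t = j⁻¹ * (j * t * j⁻¹) * j := by group
          _ = 1 := by rw [h2]; group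
      · left; left; right
        refine ⟨oj, ?_, hjt, hju, hjtu⟩
        calc j * t = (j * t * j⁻¹) * j := by group
          _ = t * j := by rw [h2]
      · -- `j` swaps `t` and `u`, so commutes with `t u`
        right
        have h3 : j * u * j⁻¹ = t := by
          rw [← h2]
          rw [hjinv]
          calc j * (j * t * j) * j = (j * j) * t * (j * j) := by group
            _ = t := by rw [hj2]; group
        refine ⟨oj, ?_, hjtu, hjt, ?_⟩
        · calc j * (t * u) = ((j * t * j⁻¹) * (j * u * j⁻¹)) * j := by group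
            _ = (u * t) * j := by rw [h2, h3]
            _ = t * u * j := by rw [B.htu]
        · rw [htut]; exact hju
      · -- `j` swaps `t` and `t u`, so commutes with `u`
        left; right
        have h3 : j * (t * u) * j⁻¹ = t := by
          rw [← h2]
          rw [hjinv]
          calc j * (j * t * j) * j = (j * j) * t * (j * j) := by group
            _ = t := by rw [hj2]; group
        refine ⟨oj, ?_, hju, hjt, ?_⟩
        · have h4 : j * u * j⁻¹ = u := by
            have : u = t * (t * u) := by rw [← mul_assoc, B.ht2, one_mul]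
            calc j * u * j⁻¹ = j * (t * (t * u)) * j⁻¹ := by rw [← this]
              _ = (j * t * j⁻¹) * (j * (t * u) * j⁻¹) := by group
              _ = (t * u) * t := by rw [h2, h3]
              _ = u := htut
          calc j * u = (j * u * j⁻¹) * j := by group
            _ = u * j := by rw [h4]
        · rw [← B.htu]; exact hjtu
  have hfin : ∀ s : Set H, s.Finite := fun s => Set.toFinite s
  have h3le : ({t, u, t * u} : Set H).ncard ≤ 3 := by
    calc ({t, u, t * u} : Set H).ncard ≤ ({u, t * u} : Set H).ncard + 1 := Set.ncard_insert_le _ _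
      _ ≤ (({t * u} : Set H).ncard + 1) + 1 := Nat.add_le_add_right (Set.ncard_insert_le _ _) 1
      _ = 3 := by rw [Set.ncard_singleton]
  have hcard : Nat.card {j : H // orderOf j = 2 ∧ j * b * j⁻¹ ∈ zpowers b} =
      {j : H | orderOf j = 2 ∧ j * b * j⁻¹ ∈ zpowers b}.ncard :=
    Nat.card_coe_set_eq {j : H | orderOf j = 2 ∧ j * b * j⁻¹ ∈ zpowers b}
  rw [hcard]
  calc {j : H | orderOf j = 2 ∧ j * b * j⁻¹ ∈ zpowers b}.ncard
      ≤ _ := Set.ncard_le_ncard hsub (hfin _)
    _ ≤ (({t, u, t * u} : Set H) ∪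
        {j : H | orderOf j = 2 ∧ j * t = t * j ∧ j ≠ t ∧ j ≠ u ∧ j ≠ t * u} ∪
        {j : H | orderOf j = 2 ∧ j * u = u * j ∧ j ≠ u ∧ j ≠ t ∧ j ≠ u * t}).ncard +
        {j : H | orderOf j = 2 ∧ j * (t * u) = (t * u) * j ∧ j ≠ t * u ∧ j ≠ t ∧
          j ≠ t * u * t}.ncard := Set.ncard_union_le _ _
    _ ≤ ((({t, u, t * u} : Set H) ∪
        {j : H | orderOf j = 2 ∧ j * t = t * j ∧ j ≠ t ∧ j ≠ u ∧ j ≠ t * u}).ncard +
        {j : H | orderOf j = 2 ∧ j * u = u * j ∧ j ≠ u ∧ j ≠ t ∧ j ≠ u * t}.ncard) +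
        {j : H | orderOf j = 2 ∧ j * (t * u) = (t * u) * j ∧ j ≠ t * u ∧ j ≠ t ∧
          j ≠ t * u * t}.ncard := Nat.add_le_add_right (Set.ncard_union_le _ _) _
    _ ≤ ((({t, u, t * u} : Set H).ncard +
        {j : H | orderOf j = 2 ∧ j * t = t * j ∧ j ≠ t ∧ j ≠ u ∧ j ≠ t * u}.ncard) +
        {j : H | orderOf j = 2 ∧ j * u = u * j ∧ j ≠ u ∧ j ≠ t ∧ j ≠ u * t}.ncard) +
        {j : H | orderOf j = 2 ∧ j * (t * u) = (t * u) * j ∧ j ≠ t * u ∧ j ≠ t ∧
          j ≠ t * u * t}.ncard :=
        Nat.add_le_add_right (Nat.add_le_add_right (Set.ncard_union_le _ _) _) _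
    _ ≤ 3 + 6 * Nat.card (Kc t) := by omega

end BadFour

end Cfsg.Agent.Lib.H25.Zas
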