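import Mathlib
import Cfsg.Agent.Lib.H25.ZasH5
import Cfsg.Agent.Lib.H16.ZasXEnd
import Cfsg.Agent.S0508

/-!
# Zassenhaus, H-level, part 6: from `K₀ = 1` to the contradiction

The final assembly, with parts E (`K₀ = 1`) and F (normalizers of subgroups of `O(C_H(t))`) as
hypotheses.
-/

set_option autoImplicit false
set_option linter.style.haveILetI false

namespace Cfsg.Agent.Lib.H25.Zas

open Subgroup

/-- the statement of part E: `C_{K_t}(u) = 1` for commuting involutions `t ≠ u` -/
def EHyp (H : Type*) [Group H] : Prop :=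
  ∀ t u : H, orderOf t = 2 → orderOf u = 2 → t * u = u * t → t ≠ u →
    ∀ y ∈ Kc t, u * y = y * u → y = 1

/-- the consequence of part E: a commuting involution `u ≠ t` inverts `K_t` -/
def BHyp (H : Type*) [Group H] : Prop :=
  ∀ t u : H, orderOf t = 2 → orderOf u = 2 → t * u = u * t → t ≠ u →
    ∀ y ∈ Kc t, u * y * u⁻¹ = y⁻¹

/-- the statement of part F -/
def FHyp (H : Type*) [Group H] : Prop :=
  ∀ t : H, orderOf t = 2 → ∀ Y : Subgroup H, Y ≤ Kc t → Y ≠ ⊥ →
    normalizer (Y : Set H) ≤ centralizer ({t} : Set H)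

namespace HCtx

variable {H : Type*} [Group H] [Finite H] {n : ℕ} (h : HCtx H n)

include h

theorem bHyp_of_eHyp (hE : EHyp H) : BHyp H := by
  intro t u ht hu htu hne y hy
  have hu2 : u * u = 1 := by
    have := pow_orderOf_eq_one u
    rwa [hu, pow_two] at this
  have huinv : u⁻¹ = u := inv_eq_of_mul_eq_one_left hu2
  have huC : u ∈ centralizer ({t} : Set H) := by
    rw [mem_centralizer_singleton_iff]; exact htu.symm
  have hnorm := h.normBy_Kc ht
  -- the automorphism of `Kc t` induced by `u`
  let φ : Kc t →* Kc t :=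
    { toFun := fun x => ⟨u * x.1 * u⁻¹, hnorm u huC x.1 x.2⟩
      map_one' := by apply Subtype.ext; simp
      map_mul' := by
        intro a b
        apply Subtype.ext
        show u * (a.1 * b.1) * u⁻¹ = (u * a.1 * u⁻¹) * (u * b.1 * u⁻¹)
        group }
  have hfpf : MonoidHom.FixedPointFree φ := by
    intro x hx
    have h1 : u * x.1 * u⁻¹ = x.1 := congrArg Subtype.val hx
    have h2 : u * x.1 = x.1 * u := by
      calc u * x.1 = (u * x.1 * u⁻¹) * u := by group
        _ = x.1 * u := by rw [h1]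
    have := hE t u ht hu htu hne x.1 x.2 h2
    exact Subtype.ext this
  have hinv : Function.Involutive φ := by
    intro x
    apply Subtype.ext
    show u * (u * x.1 * u⁻¹) * u⁻¹ = x.1
    rw [huinv]
    calc u * (u * x.1 * u) * u = (u * u) * x.1 * (u * u) := by group
      _ = x.1 := by rw [hu2]; group
  have := hfpf.coe_eq_inv_of_involutive hinv
  have h3 := congrFun this ⟨y, hy⟩
  exact congrArg Subtype.val h3

/-- the final contradiction from parts E and F -/
theorem false_of (hE : EHyp H) (hF : BHyp H → FHyp H) : False := by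
  haveI : Fact (Nat.Prime 2) := ⟨Nat.prime_two⟩
  haveI := h.simple
  have hB := h.bHyp_of_eHyp hE
  obtain ⟨S⟩ : Nonempty (Sylow 2 H) := inferInstance
  obtain ⟨e⟩ := h.dih.2 S
  obtain ⟨t, htS, ht, htZ⟩ := h.exists_central_inv S
  obtain ⟨A, hAS, hAc, hAi, htA⟩ :=
    Cfsg.Agent.Lib.H4.DihBSW.exists_cyclic_of_dihedral (S : Subgroup H) n h.two_le e t htS ht htZ
  have hout := Cfsg.Agent.Lib.H4.DihBSW.outside_of_dihedral (S : Subgroup H) n h.two_le e A hAS hAc hAi
  -- elements of `S` outside `A` invert `Kc t`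
  have hinv : ∀ x ∈ (S : Subgroup H), x ∉ A → ∀ y ∈ Kc t, x * y * x⁻¹ = y⁻¹ := by
    intro x hxS hxA y hy
    have hx2 := (hout x hxS hxA).1
    have hx1 : x ≠ 1 := fun h1 => hxA (h1 ▸ A.one_mem)
    have hxt : x ≠ t := fun h1 => hxA (h1 ▸ htA)
    have ox : orderOf x = 2 := orderOf_eq_prime (by rw [pow_two]; exact hx2) hx1
    exact hB t x ht ox (htZ x hxS).symm (Ne.symm hxt) y hy
  -- an element outside `A`
  obtain ⟨v, hvS, hvA⟩ : ∃ v ∈ (S : Subgroup H), v ∉ A := by
    by_contra hcon
    push Not at hcon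
    have : (S : Subgroup H) ≤ A := hcon
    have h1 : A.relIndex (S : Subgroup H) = 1 := relIndex_eq_one.mpr this
    omega
  -- elements of `A` centralize `Kc t`
  have hcent : ∀ x ∈ A, ∀ y ∈ Kc t, x * y = y * x := by
    intro x hxA y hy
    have hxv : x * v ∉ A := fun hc => hvA (by
      have := A.mul_mem (A.inv_mem hxA) hc
      rwa [inv_mul_cancel_left] at this)
    have h1 := hinv (x * v) ((S : Subgroup H).mul_mem (hAS hxA) hvS) hxv
    have h2 := hinv v hvS hvA
    -- x = (x v) v⁻¹
    have hv2 := (hout v hvS hvA).1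
    have hvinv : v⁻¹ = v := inv_eq_of_mul_eq_one_left hv2
    have h3 : v * y * v⁻¹ = y⁻¹ := h2 y hy
    have h4 : (x * v) * y⁻¹ * (x * v)⁻¹ = (y⁻¹)⁻¹ := h1 y⁻¹ ((Kc t).inv_mem hy)
    have h5 : v * y⁻¹ * v⁻¹ = y := by
      have := h2 y⁻¹ ((Kc t).inv_mem hy)
      rwa [inv_inv] at this
    have h6 : x * y * x⁻¹ = y := by
      have : x * y * x⁻¹ = (x * v) * (v⁻¹ * y * v) * (x * v)⁻¹ := by group
      rw [this]
      have h7 : v⁻¹ * y * v = y⁻¹ := by
        rw [hvinv]
        have := h3
        rw [hvinv] at this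
        exact this
      rw [h7, h4, inv_inv]
    calc x * y = (x * y * x⁻¹) * x := by group
      _ = y * x := by rw [h6]
  have key := Cfsg.Agent.S0508.result S n h.two_le ⟨e⟩ t ht htS htZ (Kc t) rfl ?_ ?_ ?_
  · obtain ⟨F, _, _, hodd, ⟨e'⟩⟩ := key
    exact h.hyp.not_psl2 F hodd e'
  · -- (a)
    intro hne
    have heq : (S : Subgroup H) ⊓ centralizer (Kc t : Set H) = A := by
      apply le_antisymm
      · intro x hx
        obtain ⟨hxS, hxC⟩ := mem_inf.mp hx
        by_contra hxA
        have h1 := hinv x hxS hxA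
        apply hne
        rw [eq_bot_iff]
        intro y hy
        have h2 := h1 y hy
        have h3 : x * y = y * x := (mem_centralizer_iff.mp hxC y hy).symm
        have h4 : y = y⁻¹ := by
          calc y = (y * x) * x⁻¹ := by group
            _ = x * y * x⁻¹ := by rw [← h3]
            _ = y⁻¹ := h2
        have h5 : y ^ 2 = 1 := by
          rw [pow_two]
          nth_rw 1 [h4]
          exact inv_mul_cancel y
        have hodd := ((h.mem_Kc_iff ht).mp hy).2
        have h6 : orderOf y ∣ 2 := orderOf_dvd_of_pow_eq_one h5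
        have h7 : orderOf y = 1 := by
          rcases (Nat.dvd_prime Nat.prime_two).mp h6 with h8 | h8
          · exact h8
          · rw [h8] at hodd; exact absurd hodd (by decide)
        exact mem_bot.mpr (orderOf_eq_one_iff.mp h7)
      · intro x hxA
        refine mem_inf.mpr ⟨hAS hxA, ?_⟩
        rw [mem_centralizer_iff]
        intro y hy
        exact (hcent x hxA y hy).symm
    rw [heq]
    exact ⟨hAc, hAi⟩
  · -- (b)
    intro s hsS hsC y hy
    have hsA : s ∉ A := by
      intro hsA
      apply hsC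
      rw [mem_centralizer_iff]
      intro y hy
      exact (hcent s hsA y hy).symm
    exact hinv s hsS hsA y hy
  · -- (c)
    intro Y hY hne
    exact hF hB t ht Y hY hne

end HCtx

end Cfsg.Agent.Lib.H25.Zas
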