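import Mathlib
import Cfsg.Agent.Lib.H25.ZasH6
import Cfsg.Agent.Lib.H25.ZasE4g
import Cfsg.Agent.Lib.H25.ZasE4q
import Cfsg.Agent.Lib.H16.ZasE2e
import Cfsg.Agent.Lib.H22.ZasE8
import Cfsg.Agent.Lib.H10.ZasF3
import Cfsg.Agent.Lib.H5.ZasD1d
import Cfsg.Agent.Lib.H7.ZasD2Final

/-!
# Zassenhaus, H-level: the final assembly, with the last open blocks as hypotheses
-/

set_option autoImplicit false
set_option linter.style.haveILetI false

namespace Cfsg.Agent.Lib.H25.Zas

open Subgroup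

/-- the degree of the dihedral Sylow 2-subgroups is `2`, `4` or at least `8` -/
theorem HCtx.n_cases {H : Type*} [Group H] [Finite H] {n : ℕ} (h : HCtx H n) :
    n = 2 ∨ n = 4 ∨ 8 ≤ n := by
  haveI : Fact (Nat.Prime 2) := ⟨Nat.prime_two⟩
  obtain ⟨S⟩ : Nonempty (Sylow 2 H) := inferInstance
  have hc := h.dih.card_sylow S
  obtain ⟨k, hk⟩ := S.isPGroup'.exists_card_eq
  rw [hc] at hk
  have h2 := h.two_le
  rcases k with _ | _ | _ | _ | k
  · omega
  · omega
  · left; omega
  · right; left; omega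
  · right; right
    have : 2 ^ (k + 1 + 1 + 1 + 1) = 16 * 2 ^ k := by ring
    rw [this] at hk
    have : 1 ≤ 2 ^ k := Nat.one_le_two_pow
    omega

/-- the final contradiction, with `pair_two`, `Q2`, `Q3`, `Q5` as hypotheses -/
theorem HHyp.false_of {H : Type*} [Group H] (hyp : HHyp H)
    (hpair2 : ∀ n : ℕ, HCtx H n → ∀ a j : H, orderOf a = 3 → orderOf j = 2 →
      j * a * j⁻¹ ∉ zpowers a →
      Nonempty (closure ({a, j} : Set H) ≃* alternatingGroup (Fin 4)) ∨
      Nonempty (closure ({a, j} : Set H) ≃* Equiv.Perm (Fin 4)) ∨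
      Nonempty (closure ({a, j} : Set H) ≃* alternatingGroup (Fin 5)))
    (hQ2 : HCtx H 4 → ∀ t u : H, BadFour t u → ∀ b ∈ Kc t, orderOf b = 3 →
      Nat.card {X : Subgroup H // b ∈ X ∧ Nonempty (X ≃* Equiv.Perm (Fin 4))} ≤
        Nat.card {X : Subgroup H // b ∈ X ∧ Nonempty (X ≃* alternatingGroup (Fin 4))})
    (hQ3 : HCtx H 4 → ∀ t u : H, BadFour t u → ∀ b ∈ Kc t, orderOf b = 3 → ∀ X₀ : Subgroup H,
      b ∈ X₀ → Nonempty (X₀ ≃* alternatingGroup (Fin 4)) →
      4 * Nat.card (Kc t) ≤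
        Nat.card {X : Subgroup H // b ∈ X ∧ Nonempty (X ≃* alternatingGroup (Fin 4))})
    (hQ5 : ∀ b : H, orderOf b = 3 → ∀ L : Subgroup H, b ∈ L →
      Nonempty (L ≃* alternatingGroup (Fin 5)) →
      ∃ X : Subgroup H, b ∈ X ∧ Nonempty (X ≃* alternatingGroup (Fin 4))) : False := by
  haveI := hyp.finite
  obtain ⟨n, h⟩ := hyp.exists_ctx
  have hF : BHyp H → FHyp H := fun hB t ht Y hY hne => h.part_F hB t ht Y hY hne
  have hE : EHyp H := by
    rcases h.n_cases with rfl | rfl | hn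
    · exact fun t u ht hu htu hne => h.part_E_two t u ht hu htu hne
    · have hE1 : Count3 H := fun a ha =>
        count_three_of' ha (fun b hb hab => h.pair_three ha hb hab)
      have hE2 : Count2 H := fun a ha =>
        count_two_of' ha (fun j hj hja => hpair2 4 h a j ha hj hja)
      exact fun t u ht hu htu hne => h.part_E_four_of hE1 hE2
        (fun t u B b hb ob => B.card_inv_normalizer_le h hb ob) (hQ2 h) (hQ3 h) hQ5
        t u ht hu htu hne
    · exact fun t u ht hu htu hne => h.part_E_big hn t u ht hu htu hne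
  exact h.false_of hE hF

end Cfsg.Agent.Lib.H25.Zas
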