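import Mathlib
import Cfsg.Agent.Lib.H25.ZasFinalPre
import Cfsg.Agent.Lib.H5.ZasD1f
import Cfsg.Agent.Lib.H8.ZasQ5

/-!
# Zassenhaus, H-level: the final assembly, with only Q2 and Q3 as hypotheses
-/

set_option autoImplicit false

namespace Cfsg.Agent.Lib.H25.Zas

open Subgroup

/-- the final contradiction, with `Q2`, `Q3` as hypotheses -/
theorem HHyp.false_of' {H : Type*} [Group H] (hyp : HHyp H)
    (hQ2 : HCtx H 4 → ∀ t u : H, BadFour t u → ∀ b ∈ Kc t, orderOf b = 3 →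
      Nat.card {X : Subgroup H // b ∈ X ∧ Nonempty (X ≃* Equiv.Perm (Fin 4))} ≤
        Nat.card {X : Subgroup H // b ∈ X ∧ Nonempty (X ≃* alternatingGroup (Fin 4))})
    (hQ3 : HCtx H 4 → ∀ t u : H, BadFour t u → ∀ b ∈ Kc t, orderOf b = 3 → ∀ X₀ : Subgroup H,
      b ∈ X₀ → Nonempty (X₀ ≃* alternatingGroup (Fin 4)) →
      4 * Nat.card (Kc t) ≤
        Nat.card {X : Subgroup H // b ∈ X ∧ Nonempty (X ≃* alternatingGroup (Fin 4))}) : False := by
  haveI := hyp.finite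
  exact hyp.false_of (fun n h a j ha hj hja => h.pair_two ha hj hja) hQ2 hQ3
    (fun b ob L hbL hL => exists_A4_of_A5 ob L hbL hL)

end Cfsg.Agent.Lib.H25.Zas
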