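import Mathlib
import Cfsg.Agent.Lib.H25.ZasFinalPre2
import Cfsg.Agent.Lib.H16.ZasQc

/-!
# Zassenhaus, H-level: the final contradiction

`HHyp.false`: there is no group satisfying `HHyp`.  This is the hypothesis that
`Cfsg.Agent.Lib.H5.Zas.zassenhaus_mulAut` asks for.
-/

set_option autoImplicit false

namespace Cfsg.Agent.Lib.H25.Zas

open Subgroup

/-- no group satisfies `HHyp` -/
theorem HHyp.false {H : Type*} [Group H] (h : HHyp H) : False := by
  haveI := h.finite
  exact h.false_of'
    (fun hc t u B b hb ob => B.card_S4_le_card_A4 hc hb ob)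
    (fun hc t u B b hb ob X₀ hbX hX₀ => B.card_A4_ge hc hb ob X₀ hbX hX₀)

end Cfsg.Agent.Lib.H25.Zas
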