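import Mathlib
import Cfsg.Agent.Lib.H25.ZasFPF

/-!
# Zassenhaus: an fpf group generated by two elements of order 3 or 4 has an fpf representation of
dimension at most two
-/

namespace Cfsg.Agent.Lib.H25.Zas

open Module

section

variable {G : Type*} [Group G] {V : Type} [AddCommGroup V] [Module ℂ V]

/-- the subgroup of elements preserving a subspace (together with their inverses). -/
def stabSub (ρ : G →* End ℂ V) (U : Submodule ℂ V) : Subgroup G where
  carrier := {x | (∀ u ∈ U, ρ x u ∈ U) ∧ ∀ u ∈ U, ρ x⁻¹ u ∈ U}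
  mul_mem' := by
    rintro a b ⟨ha1, ha2⟩ ⟨hb1, hb2⟩
    refine ⟨fun u hu => ?_, fun u hu => ?_⟩
    · rw [map_mul, Module.End.mul_apply]; exact ha1 _ (hb1 u hu)
    · rw [mul_inv_rev, map_mul, Module.End.mul_apply]; exact hb2 _ (ha2 u hu)
  one_mem' := by
    refine ⟨fun u hu => ?_, fun u hu => ?_⟩
    · rw [map_one]; exact hu
    · rw [inv_one, map_one]; exact hu
  inv_mem' := by
    rintro a ⟨ha1, ha2⟩
    exact ⟨ha2, by rwa [inv_inv]⟩

theorem mem_stabSub_of_finite [Finite G] (ρ : G →* End ℂ V) (U : Submodule ℂ V) {x : G}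
    (hx : ∀ u ∈ U, ρ x u ∈ U) : x ∈ stabSub ρ U := by
  refine ⟨hx, ?_⟩
  have hpow : ∀ n : ℕ, ∀ u ∈ U, ρ (x ^ n) u ∈ U := by
    intro n
    induction n with
    | zero => intro u hu; rw [pow_zero, map_one]; exact hu
    | succ n ih =>
      intro u hu
      rw [pow_succ, map_mul, Module.End.mul_apply]
      exact ih _ (hx u hu)
  have hinv : x⁻¹ = x ^ (orderOf x - 1) := by
    have hpos : 0 < orderOf x := orderOf_pos x
    rw [eq_comm, ← mul_eq_one_iff_eq_inv, ← pow_succ, Nat.sub_add_cancel hpos, pow_orderOf_eq_one]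
  rw [hinv]
  exact hpow _

/-- restriction of a representation to an invariant subspace. -/
def restrictRep (ρ : G →* End ℂ V) (U : Submodule ℂ V) (hU : ∀ x : G, ∀ u ∈ U, ρ x u ∈ U) :
    G →* End ℂ U where
  toFun x := (ρ x).restrict (hU x)
  map_one' := by
    ext u
    simp [LinearMap.restrict_apply]
  map_mul' := by
    intro a b
    ext u
    simp [LinearMap.restrict_apply, Module.End.mul_apply]

theorem restrictRep_apply (ρ : G →* End ℂ V) (U : Submodule ℂ V)
    (hU : ∀ x : G, ∀ u ∈ U, ρ x u ∈ U) (x : G) (u : U) :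
    ((restrictRep ρ U hU x) u : V) = ρ x (u : V) := rfl

end

/-- **Two generator lemma.** A finite fpf group generated by two elements, each of order `3` or
`4`, has an fpf representation of dimension at most two. -/
theorem IsFPF.dim_le_two_of_closure {G : Type*} [Group G] [Finite G] (h : IsFPF G) {g k : G}
    (hg : orderOf g = 3 ∨ orderOf g = 4) (hk : orderOf k = 3 ∨ orderOf k = 4)
    (hgen : Subgroup.closure {g, k} = ⊤) : IsFPFdim G 2 := by
  classical
  obtain ⟨V, i1, i2, i3, i4, ρ, hρ⟩ := h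
  obtain ⟨τ, hτ⟩ : ∃ τ : ℂ, ρ g * ρ g = τ • ρ g - 1 := by
    rcases hg with h3 | h4
    · exact ⟨-1, rep_of_orderOf_three ρ hρ h3⟩
    · exact ⟨0, rep_of_orderOf_four ρ hρ h4⟩
  obtain ⟨σ, hσ⟩ : ∃ σ : ℂ, ρ k * ρ k = σ • ρ k - 1 := by
    rcases hk with h3 | h4
    · exact ⟨-1, rep_of_orderOf_three ρ hρ h3⟩
    · exact ⟨0, rep_of_orderOf_four ρ hρ h4⟩
  obtain ⟨U, hUne, hUrk, hUg, hUk⟩ := exists_invariant_le_two hτ hσ
  have hstab : stabSub ρ U = ⊤ := by
    rw [eq_top_iff, ← hgen, Subgroup.closure_le]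
    intro x hx
    rcases hx with rfl | rfl
    · exact mem_stabSub_of_finite ρ U hUg
    · exact mem_stabSub_of_finite ρ U hUk
  have hU : ∀ x : G, ∀ u ∈ U, ρ x u ∈ U := fun x =>
    ((hstab ▸ Subgroup.mem_top x : x ∈ stabSub ρ U)).1
  have hnt : Nontrivial U := Submodule.nontrivial_iff_ne_bot.mpr hUne
  refine ⟨U, inferInstance, inferInstance, inferInstance, hnt, restrictRep ρ U hU, hUrk, ?_⟩
  intro x hx u hu
  have h1 : ρ x (u : V) = (u : V) := by
    have := congrArg Subtype.val hu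
    rwa [restrictRep_apply] at this
  exact Subtype.ext (hρ x hx _ h1)

end Cfsg.Agent.Lib.H25.Zas
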